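import Mathlib.RingTheory.PowerSeries.Substitution
import Mathlib.RingTheory.MvPowerSeries.Basic
import Mathlib.RingTheory.MvPolynomial.Ideal
import Mathlib.RingTheory.PowerSeries.Basic
import Mathlib.Data.Nat.Choose.Sum

/-!
# Characters of the additive group: coefficient criteria (helper20)
-/

set_option autoImplicit false

namespace Groth.Agent.Lib.Helper20.GaChar

section Iface

variable {A : Type*} [CommRing A]

lemma single_add_single_eq_iff (m n : ℕ) (e : Fin 2 →₀ ℕ) :
    Finsupp.single 0 m + Finsupp.single 1 n = e ↔ m = e 0 ∧ n = e 1 := by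
  constructor
  · intro h
    subst h
    simp [Finsupp.single_apply]
  · rintro ⟨rfl, rfl⟩
    ext i
    fin_cases i <;> simp [Finsupp.single_apply]

/-- coefficient of `(X0 + X1)^d` -/
lemma coeff_add_pow_poly (e : Fin 2 →₀ ℕ) (d : ℕ) :
    MvPolynomial.coeff e ((MvPolynomial.X 0 + MvPolynomial.X 1 : MvPolynomial (Fin 2) A) ^ d) =
      if d = e 0 + e 1 then ((Nat.choose d (e 0) : ℕ) : A) else 0 := by
  rw [add_pow, MvPolynomial.coeff_sum]
  have hterm : ∀ m, MvPolynomial.coeff e ((MvPolynomial.X 0 : MvPolynomial (Fin 2) A) ^ m *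
      MvPolynomial.X 1 ^ (d - m) * ((Nat.choose d m : ℕ) : MvPolynomial (Fin 2) A)) =
      if Finsupp.single 0 m + Finsupp.single 1 (d - m) = e then ((Nat.choose d m : ℕ) : A) else 0 := by
    intro m
    rw [MvPolynomial.X_pow_eq_monomial, MvPolynomial.X_pow_eq_monomial, MvPolynomial.monomial_mul,
      ← map_natCast (MvPolynomial.C (σ := Fin 2) (R := A)), MvPolynomial.C_apply,
      MvPolynomial.monomial_mul, MvPolynomial.coeff_monomial]
    simp
  simp only [hterm]
  by_cases hd : d = e 0 + e 1
  · rw [if_pos hd, Finset.sum_eq_single (e 0)]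
    · rw [if_pos]
      rw [single_add_single_eq_iff]
      exact ⟨rfl, by omega⟩
    · intro m _ hm
      rw [if_neg]
      rw [single_add_single_eq_iff]
      intro h
      exact hm h.1
    · intro h
      exact absurd (Finset.mem_range.mpr (by omega)) h
  · rw [if_neg hd]
    apply Finset.sum_eq_zero
    intro m hm
    rw [Finset.mem_range] at hm
    rw [if_neg]
    rw [single_add_single_eq_iff]
    intro h
    apply hd
    omega

lemma coeff_add_pow_ps (e : Fin 2 →₀ ℕ) (d : ℕ) :
    MvPowerSeries.coeff e ((MvPowerSeries.X 0 + MvPowerSeries.X 1 : MvPowerSeries (Fin 2) A) ^ d) =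
      if d = e 0 + e 1 then ((Nat.choose d (e 0) : ℕ) : A) else 0 := by
  rw [← coeff_add_pow_poly, ← MvPolynomial.coeff_coe, MvPolynomial.coe_pow, MvPolynomial.coe_add,
    MvPolynomial.coe_X, MvPolynomial.coe_X]

lemma hasSubst_add : PowerSeries.HasSubst
    (MvPowerSeries.X 0 + MvPowerSeries.X 1 : MvPowerSeries (Fin 2) A) :=
  PowerSeries.HasSubst.of_constantCoeff_zero (by simp)

lemma hasSubst_X (i : Fin 2) : PowerSeries.HasSubst (MvPowerSeries.X i : MvPowerSeries (Fin 2) A) :=
  PowerSeries.HasSubst.of_constantCoeff_zero (by simp)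

lemma coeff_subst_add (χ : PowerSeries A) (e : Fin 2 →₀ ℕ) :
    MvPowerSeries.coeff e (PowerSeries.subst
      (MvPowerSeries.X 0 + MvPowerSeries.X 1 : MvPowerSeries (Fin 2) A) χ) =
      ((Nat.choose (e 0 + e 1) (e 0) : ℕ) : A) * PowerSeries.coeff (e 0 + e 1) χ := by
  rw [PowerSeries.coeff_subst hasSubst_add, finsum_eq_single _ (e 0 + e 1)]
  · rw [coeff_add_pow_ps, if_pos rfl, smul_eq_mul, mul_comm]
  · intro d hd
    rw [coeff_add_pow_ps, if_neg hd, smul_zero]

lemma coeff_subst_X (χ : PowerSeries A) (i : Fin 2) (e : Fin 2 →₀ ℕ) :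
    MvPowerSeries.coeff e (PowerSeries.subst
      (MvPowerSeries.X i : MvPowerSeries (Fin 2) A) χ) =
      if e = Finsupp.single i (e i) then PowerSeries.coeff (e i) χ else 0 := by
  rw [PowerSeries.coeff_subst (hasSubst_X i)]
  by_cases h : e = Finsupp.single i (e i)
  · rw [if_pos h, finsum_eq_single _ (e i)]
    · rw [MvPowerSeries.coeff_X_pow, if_pos h, smul_eq_mul, mul_one]
    · intro d hd
      rw [MvPowerSeries.coeff_X_pow, if_neg, smul_zero]
      intro h'
      apply hd
      rw [h']
      simp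
  · rw [if_neg h]
    apply finsum_eq_zero_of_forall_eq_zero
    intro d
    rw [MvPowerSeries.coeff_X_pow, if_neg, smul_zero]
    intro h'
    apply h
    rw [h']
    simp

lemma coeff_subst_mul (χ ψ : PowerSeries A) (e : Fin 2 →₀ ℕ) :
    MvPowerSeries.coeff e
      (PowerSeries.subst (MvPowerSeries.X 0 : MvPowerSeries (Fin 2) A) χ *
        PowerSeries.subst (MvPowerSeries.X 1 : MvPowerSeries (Fin 2) A) ψ) =
      PowerSeries.coeff (e 0) χ * PowerSeries.coeff (e 1) ψ := by
  classical
  rw [MvPowerSeries.coeff_mul,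
    Finset.sum_eq_single (Finsupp.single 0 (e 0), Finsupp.single 1 (e 1))]
  · rw [coeff_subst_X, coeff_subst_X, if_pos, if_pos]
    · simp
    · simp
    · simp
  · rintro ⟨e1, e2⟩ hmem hne
    rw [Finset.mem_antidiagonal] at hmem
    simp only at hmem
    rw [coeff_subst_X, coeff_subst_X]
    by_cases h1 : e1 = Finsupp.single 0 (e1 0)
    · by_cases h2 : e2 = Finsupp.single 1 (e2 1)
      · exfalso
        apply hne
        have e10 : e1 1 = 0 := by rw [h1]; simp
        have e20 : e2 0 = 0 := by rw [h2]; simp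
        have he0 : e 0 = e1 0 := by rw [← hmem]; simp [e20]
        have he1 : e 1 = e2 1 := by rw [← hmem]; simp [e10]
        rw [he0, he1, ← h1, ← h2]
      · rw [if_neg h2, mul_zero]
    · rw [if_neg h1, zero_mul]
  · intro h
    exfalso
    apply h
    rw [Finset.mem_antidiagonal]
    exact (single_add_single_eq_iff _ _ _).mpr ⟨rfl, rfl⟩

/-- power series characters via coefficients -/
theorem ps_char_iff (χ : PowerSeries A) :
    PowerSeries.subst (MvPowerSeries.X 0 + MvPowerSeries.X 1 : MvPowerSeries (Fin 2) A) χ =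
      PowerSeries.subst (MvPowerSeries.X 0 : MvPowerSeries (Fin 2) A) χ *
        PowerSeries.subst (MvPowerSeries.X 1 : MvPowerSeries (Fin 2) A) χ ↔
    ∀ i j, ((Nat.choose (i + j) i : ℕ) : A) * PowerSeries.coeff (i + j) χ =
      PowerSeries.coeff i χ * PowerSeries.coeff j χ := by
  constructor
  · intro h i j
    have := congrArg (MvPowerSeries.coeff (Finsupp.single 0 i + Finsupp.single 1 j)) h
    rw [coeff_subst_add, coeff_subst_mul] at this
    simpa [Finsupp.single_apply] using this
  · intro h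
    ext e
    rw [coeff_subst_add, coeff_subst_mul]
    exact h (e 0) (e 1)

end Iface

section Poly

variable {A : Type*} [CommRing A]

lemma coe_aeval (f : Polynomial A) (a : MvPolynomial (Fin 2) A)
    (ha : PowerSeries.HasSubst (a : MvPowerSeries (Fin 2) A)) :
    ((Polynomial.aeval a f : MvPolynomial (Fin 2) A) : MvPowerSeries (Fin 2) A) =
      PowerSeries.subst (a : MvPowerSeries (Fin 2) A) (f : PowerSeries A) := by
  rw [PowerSeries.subst_coe ha, Polynomial.aeval_eq_sum_range, Polynomial.aeval_eq_sum_range]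
  rw [← MvPolynomial.coeToMvPowerSeries.ringHom_apply, map_sum]
  apply Finset.sum_congr rfl
  intro i _
  rw [MvPolynomial.smul_eq_C_mul, map_mul, map_pow]
  simp only [MvPolynomial.coeToMvPowerSeries.ringHom_apply, MvPolynomial.coe_C]
  rw [MvPowerSeries.smul_eq_C_mul]

lemma coeff_aeval_add (f : Polynomial A) (e : Fin 2 →₀ ℕ) :
    MvPolynomial.coeff e (Polynomial.aeval
      (MvPolynomial.X 0 + MvPolynomial.X 1 : MvPolynomial (Fin 2) A) f) =
      ((Nat.choose (e 0 + e 1) (e 0) : ℕ) : A) * f.coeff (e 0 + e 1) := by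
  have ha : PowerSeries.HasSubst
      ((MvPolynomial.X 0 + MvPolynomial.X 1 : MvPolynomial (Fin 2) A) : MvPowerSeries (Fin 2) A) := by
    rw [MvPolynomial.coe_add, MvPolynomial.coe_X, MvPolynomial.coe_X]
    exact hasSubst_add
  rw [← MvPolynomial.coeff_coe, coe_aeval f _ ha, MvPolynomial.coe_add, MvPolynomial.coe_X,
    MvPolynomial.coe_X, coeff_subst_add, Polynomial.coeff_coe]

lemma coeff_aeval_mul (f g : Polynomial A) (e : Fin 2 →₀ ℕ) :
    MvPolynomial.coeff e
      (Polynomial.aeval (MvPolynomial.X 0 : MvPolynomial (Fin 2) A) f *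
        Polynomial.aeval (MvPolynomial.X 1 : MvPolynomial (Fin 2) A) g) =
      f.coeff (e 0) * g.coeff (e 1) := by
  have ha : ∀ i : Fin 2, PowerSeries.HasSubst
      ((MvPolynomial.X i : MvPolynomial (Fin 2) A) : MvPowerSeries (Fin 2) A) := by
    intro i
    rw [MvPolynomial.coe_X]
    exact hasSubst_X i
  rw [← MvPolynomial.coeff_coe, MvPolynomial.coe_mul, coe_aeval f _ (ha 0), coe_aeval g _ (ha 1),
    MvPolynomial.coe_X, MvPolynomial.coe_X, coeff_subst_mul, Polynomial.coeff_coe,
    Polynomial.coeff_coe]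

/-- polynomial characters via coefficients -/
theorem poly_char_iff (f : Polynomial A) :
    Polynomial.aeval (MvPolynomial.X 0 + MvPolynomial.X 1 : MvPolynomial (Fin 2) A) f =
      Polynomial.aeval (MvPolynomial.X 0 : MvPolynomial (Fin 2) A) f *
        Polynomial.aeval (MvPolynomial.X 1 : MvPolynomial (Fin 2) A) f ↔
    ∀ i j, ((Nat.choose (i + j) i : ℕ) : A) * f.coeff (i + j) = f.coeff i * f.coeff j := by
  constructor
  · intro h i j
    have := congrArg (MvPolynomial.coeff (Finsupp.single 0 i + Finsupp.single 1 j)) h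
    rw [coeff_aeval_add, coeff_aeval_mul] at this
    simpa [Finsupp.single_apply] using this
  · intro h
    ext e
    rw [coeff_aeval_add, coeff_aeval_mul]
    exact h (e 0) (e 1)

/-- truncated characters: coefficient identities below `q` -/
theorem trunc_char (q : ℕ) (f : Polynomial A)
    (hmul : Ideal.Quotient.mk
        (Ideal.span {(MvPolynomial.X 0 ^ q : MvPolynomial (Fin 2) A), MvPolynomial.X 1 ^ q})
        (Polynomial.aeval (MvPolynomial.X 0 + MvPolynomial.X 1 : MvPolynomial (Fin 2) A) f) =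
      Ideal.Quotient.mk
        (Ideal.span {(MvPolynomial.X 0 ^ q : MvPolynomial (Fin 2) A), MvPolynomial.X 1 ^ q})
        (Polynomial.aeval (MvPolynomial.X 0 : MvPolynomial (Fin 2) A) f *
          Polynomial.aeval (MvPolynomial.X 1 : MvPolynomial (Fin 2) A) f)) :
    ∀ i j, i < q → j < q →
      ((Nat.choose (i + j) i : ℕ) : A) * f.coeff (i + j) = f.coeff i * f.coeff j := by
  intro i j hi hj
  have h1 := Ideal.Quotient.eq.mp hmul
  have hset : ({(MvPolynomial.X 0 ^ q : MvPolynomial (Fin 2) A), MvPolynomial.X 1 ^ q} :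
      Set (MvPolynomial (Fin 2) A)) =
      (fun s => MvPolynomial.monomial s (1 : A)) ''
        ({Finsupp.single 0 q, Finsupp.single 1 q} : Set (Fin 2 →₀ ℕ)) := by
    rw [Set.image_pair, MvPolynomial.X_pow_eq_monomial, MvPolynomial.X_pow_eq_monomial]
  rw [hset, MvPolynomial.mem_ideal_span_monomial_image] at h1
  set e : Fin 2 →₀ ℕ := Finsupp.single 0 i + Finsupp.single 1 j with he
  have he0 : e 0 = i := by simp [he, Finsupp.single_apply]
  have he1 : e 1 = j := by simp [he, Finsupp.single_apply]
  have hcoef : MvPolynomial.coeff e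
      (Polynomial.aeval (MvPolynomial.X 0 + MvPolynomial.X 1 : MvPolynomial (Fin 2) A) f -
        Polynomial.aeval (MvPolynomial.X 0 : MvPolynomial (Fin 2) A) f *
          Polynomial.aeval (MvPolynomial.X 1 : MvPolynomial (Fin 2) A) f) = 0 := by
    by_contra hne
    obtain ⟨s, hs, hle⟩ := h1 e (MvPolynomial.mem_support_iff.mpr hne)
    rcases hs with rfl | rfl
    · have := hle 0
      rw [he0] at this
      simp at this
      omega
    · have := hle 1
      rw [he1] at this
      simp at this
      omega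
  rw [MvPolynomial.coeff_sub, coeff_aeval_add, coeff_aeval_mul, he0, he1, sub_eq_zero] at hcoef
  exact hcoef

end Poly

end Groth.Agent.Lib.Helper20.GaChar
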