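import Mathlib.Data.Nat.Choose.Lucas
import Mathlib.Algebra.CharP.Lemmas
import Mathlib.Algebra.CharP.Basic
import Mathlib.Algebra.CharP.Invertible
import Mathlib.Data.Nat.Prime.Factorial
import Mathlib.Algebra.Polynomial.Coeff
import Mathlib.Algebra.Polynomial.Eval.Coeff
import Mathlib.Algebra.Polynomial.BigOperators
import Mathlib.Algebra.BigOperators.Intervals
import Mathlib.Data.Nat.Choose.Sum
import Mathlib.Algebra.Ring.Invertible
import Mathlib.Algebra.GroupWithZero.Units.Basic

/-!
# Characters of the additive group in characteristic `p`: combinatorial core (helper20)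
-/

set_option autoImplicit false

namespace Groth.Agent.Lib.Helper20.GaChar

open Polynomial

section Lucas

variable {p : ℕ} [hp : Fact p.Prime]

lemma choose_split (l : ℕ) : ∀ (k m j i : ℕ), j < p ^ l → i < p ^ l →
    Nat.choose (k * p ^ l + j) (m * p ^ l + i) ≡ Nat.choose k m * Nat.choose j i [MOD p] := by
  induction l with
  | zero =>
    intro k m j i hj hi
    have hj0 : j = 0 := by simpa using hj
    have hi0 : i = 0 := by simpa using hi
    subst hj0 hi0
    simp
    exact Nat.ModEq.refl _
  | succ l ih =>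
    intro k m j i hj hi
    have hp0 : 0 < p := hp.out.pos
    have e1 : (k * p ^ (l + 1) + j) % p = j % p := by
      rw [pow_succ, ← mul_assoc, mul_comm (k * p ^ l) p, Nat.mul_add_mod]
    have e2 : (k * p ^ (l + 1) + j) / p = k * p ^ l + j / p := by
      rw [pow_succ, ← mul_assoc, mul_comm (k * p ^ l) p, Nat.mul_add_div hp0]
    have e3 : (m * p ^ (l + 1) + i) % p = i % p := by
      rw [pow_succ, ← mul_assoc, mul_comm (m * p ^ l) p, Nat.mul_add_mod]
    have e4 : (m * p ^ (l + 1) + i) / p = m * p ^ l + i / p := by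
      rw [pow_succ, ← mul_assoc, mul_comm (m * p ^ l) p, Nat.mul_add_div hp0]
    have L1 := Choose.choose_modEq_choose_mod_mul_choose_div_nat (p := p)
      (n := k * p ^ (l + 1) + j) (k := m * p ^ (l + 1) + i)
    rw [e1, e2, e3, e4] at L1
    have hj' : j / p < p ^ l := by
      apply Nat.div_lt_of_lt_mul
      rw [pow_succ, mul_comm] at hj
      exact hj
    have hi' : i / p < p ^ l := by
      apply Nat.div_lt_of_lt_mul
      rw [pow_succ, mul_comm] at hi
      exact hi
    have IH := ih k m (j / p) (i / p) hj' hi'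
    have L2 := Choose.choose_modEq_choose_mod_mul_choose_div_nat (p := p) (n := j) (k := i)
    calc Nat.choose (k * p ^ (l + 1) + j) (m * p ^ (l + 1) + i)
        ≡ Nat.choose (j % p) (i % p) * Nat.choose (k * p ^ l + j / p) (m * p ^ l + i / p) [MOD p] := L1
      _ ≡ Nat.choose (j % p) (i % p) * (Nat.choose k m * Nat.choose (j / p) (i / p)) [MOD p] :=
          Nat.ModEq.mul_left _ IH
      _ = Nat.choose k m * (Nat.choose (j % p) (i % p) * Nat.choose (j / p) (i / p)) := by ring
      _ ≡ Nat.choose k m * Nat.choose j i [MOD p] := Nat.ModEq.mul_left _ L2.symm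

lemma choose_B1 (l k : ℕ) : Nat.choose ((k + 1) * p ^ l) (p ^ l) ≡ k + 1 [MOD p] := by
  have h := choose_split (p := p) l (k + 1) 1 0 0 (pow_pos hp.out.pos l) (pow_pos hp.out.pos l)
  simpa using h

lemma choose_B2 (l k j : ℕ) (hj : j < p ^ l) :
    Nat.choose (k * p ^ l + j) j ≡ 1 [MOD p] := by
  have h := choose_split (p := p) l k 0 j j hj hj
  simpa using h

end Lucas

section Core

variable (p : ℕ) [hp : Fact p.Prime] {A : Type*} [CommRing A] [CharP A p]

/-- truncated exponential factor `exp_p(a X^(p^l))` -/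
noncomputable def E (a : A) (l : ℕ) : A[X] :=
  ∑ j ∈ Finset.range p, C (Ring.inverse ((j.factorial : ℕ) : A) * a ^ j) * X ^ (j * p ^ l)

variable {p}

lemma isUnit_fact {k : ℕ} (hk : k < p) : IsUnit ((k.factorial : ℕ) : A) :=
  (CharP.isUnit_natCast_iff hp.out).mpr (by rw [Nat.Prime.dvd_factorial hp.out]; omega)

variable (c : ℕ → A) (n : ℕ) (h0 : c 0 = 1)
  (H : ∀ i j, i < p ^ n → j < p ^ n → ((Nat.choose (i + j) i : ℕ) : A) * c (i + j) = c i * c j)

include H in
lemma step_mul (l : ℕ) (hl : l < n) (k : ℕ) (hk : k < p) :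
    ((k + 1 : ℕ) : A) * c ((k + 1) * p ^ l) = c (k * p ^ l) * c (p ^ l) := by
  have hp1 : 1 < p := hp.out.one_lt
  have h1 : k * p ^ l < p ^ n := by
    calc k * p ^ l < p * p ^ l := Nat.mul_lt_mul_of_pos_right hk (pow_pos hp.out.pos l)
      _ = p ^ (l + 1) := by rw [pow_succ, mul_comm]
      _ ≤ p ^ n := Nat.pow_le_pow_right hp.out.pos hl
  have h2 : p ^ l < p ^ n := Nat.pow_lt_pow_right hp1 hl
  have h3 := H (k * p ^ l) (p ^ l) h1 h2
  have e1 : k * p ^ l + p ^ l = (k + 1) * p ^ l := by ring
  rw [e1] at h3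
  have e2 : Nat.choose ((k + 1) * p ^ l) (k * p ^ l) = Nat.choose ((k + 1) * p ^ l) (p ^ l) := by
    rw [← e1]
    exact Nat.choose_symm_add
  rw [e2, (CharP.natCast_eq_natCast A p).mpr (choose_B1 (p := p) l k)] at h3
  exact h3

include h0 H in
lemma step1 (l : ℕ) (hl : l < n) : ∀ k ≤ p,
    c (k * p ^ l) * ((k.factorial : ℕ) : A) = c (p ^ l) ^ k := by
  intro k
  induction k with
  | zero => intro _; simp [h0]
  | succ k ih =>
    intro hk
    have h1 := step_mul c n H l hl k (by omega)
    have h2 := ih (by omega)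
    rw [Nat.factorial_succ, Nat.cast_mul, pow_succ, ← h2]
    calc c ((k + 1) * p ^ l) * (((k + 1 : ℕ) : A) * ((k.factorial : ℕ) : A))
        = (((k + 1 : ℕ) : A) * c ((k + 1) * p ^ l)) * ((k.factorial : ℕ) : A) := by ring
      _ = _ := by rw [h1]; ring

include h0 H in
lemma pow_p_eq_zero (l : ℕ) (hl : l < n) : c (p ^ l) ^ p = 0 := by
  rw [← step1 c n h0 H l hl p le_rfl]
  have : ((p.factorial : ℕ) : A) = 0 := by
    rw [CharP.cast_eq_zero_iff A p]
    exact Nat.dvd_factorial hp.out.pos le_rfl
  rw [this, mul_zero]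

include h0 H in
lemma c_mul_pow (l : ℕ) (hl : l < n) (k : ℕ) (hk : k < p) :
    c (k * p ^ l) = Ring.inverse ((k.factorial : ℕ) : A) * c (p ^ l) ^ k := by
  rw [← step1 c n h0 H l hl k hk.le]
  calc c (k * p ^ l) = c (k * p ^ l) * (((k.factorial : ℕ) : A) * Ring.inverse ((k.factorial : ℕ) : A)) := by
        rw [Ring.mul_inverse_cancel _ (isUnit_fact hk), mul_one]
    _ = _ := by ring

include H in
lemma step2 (l : ℕ) (hl : l < n) (k : ℕ) (hk : k < p) (j : ℕ) (hj : j < p ^ l) :
    c (k * p ^ l + j) = c (k * p ^ l) * c j := by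
  have hp1 : 1 < p := hp.out.one_lt
  have h1 : k * p ^ l < p ^ n := by
    calc k * p ^ l < p * p ^ l := Nat.mul_lt_mul_of_pos_right hk (pow_pos hp.out.pos l)
      _ = p ^ (l + 1) := by rw [pow_succ, mul_comm]
      _ ≤ p ^ n := Nat.pow_le_pow_right hp.out.pos hl
  have h2 : j < p ^ n := lt_trans hj (Nat.pow_lt_pow_right hp1 hl)
  have h3 := H (k * p ^ l) j h1 h2
  rw [Nat.choose_symm_add, (CharP.natCast_eq_natCast A p).mpr (choose_B2 (p := p) l k j hj),
    Nat.cast_one, one_mul] at h3
  exact h3

include h0 H in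
theorem core_coeff : ∀ m ≤ n, ∀ j,
    (∏ l ∈ Finset.range m, E p (c (p ^ l)) l).coeff j = if j < p ^ m then c j else 0 := by
  intro m
  induction m with
  | zero =>
    intro _ j
    rw [Finset.range_zero, Finset.prod_empty, Polynomial.coeff_one, pow_zero]
    by_cases hj : j = 0
    · subst hj; simp [h0]
    · rw [if_neg hj, if_neg (by omega)]
  | succ m ih =>
    intro hm j
    have hmn : m < n := by omega
    have IH := ih (by omega)
    rw [Finset.prod_range_succ]
    set P := ∏ l ∈ Finset.range m, E p (c (p ^ l)) l with hP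
    have hpm : 0 < p ^ m := pow_pos hp.out.pos m
    have hcoef : (P * E p (c (p ^ m)) m).coeff j =
        ∑ k ∈ Finset.range p, Ring.inverse ((k.factorial : ℕ) : A) * c (p ^ m) ^ k *
          (if k * p ^ m ≤ j then (if j - k * p ^ m < p ^ m then c (j - k * p ^ m) else 0) else 0) := by
      unfold E
      rw [Finset.mul_sum, Polynomial.finsetSum_coeff]
      apply Finset.sum_congr rfl
      intro k _
      have : P * (C (Ring.inverse ((k.factorial : ℕ) : A) * c (p ^ m) ^ k) * X ^ (k * p ^ m)) =
          C (Ring.inverse ((k.factorial : ℕ) : A) * c (p ^ m) ^ k) * (P * X ^ (k * p ^ m)) := by ring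
      rw [this, Polynomial.coeff_C_mul, Polynomial.coeff_mul_X_pow']
      congr 1
      split_ifs with h1 h2
      · rw [IH, if_pos h2]
      · rw [IH, if_neg h2]
      · rfl
    rw [hcoef]
    by_cases hj : j < p ^ (m + 1)
    · rw [if_pos hj]
      have hk0 : j / p ^ m < p := by
        apply Nat.div_lt_of_lt_mul
        rw [pow_succ] at hj
        exact hj
      rw [Finset.sum_eq_single (j / p ^ m)]
      · have h1 : j / p ^ m * p ^ m ≤ j := Nat.div_mul_le_self j (p ^ m)
        have h2 : j - j / p ^ m * p ^ m = j % p ^ m := by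
          have := Nat.div_add_mod' j (p ^ m)
          omega
        rw [if_pos h1, h2, if_pos (Nat.mod_lt _ hpm)]
        rw [← c_mul_pow c n h0 H m hmn _ hk0, ← step2 c n H m hmn _ hk0 _ (Nat.mod_lt _ hpm),
          Nat.div_add_mod']
      · intro k hk hne
        rw [Finset.mem_range] at hk
        split_ifs with h1 h2
        · exfalso
          apply hne
          symm
          apply Nat.div_eq_of_lt_le h1
          have : (k + 1) * p ^ m = k * p ^ m + p ^ m := by ring
          omega
        · rw [mul_zero]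
        · rw [mul_zero]
      · intro h
        exact absurd (Finset.mem_range.mpr hk0) h
    · rw [if_neg hj]
      apply Finset.sum_eq_zero
      intro k hk
      rw [Finset.mem_range] at hk
      split_ifs with h1 h2
      · exfalso
        have h3 : (k + 1) * p ^ m ≤ p * p ^ m := Nat.mul_le_mul_right _ (by omega)
        have h4 : p * p ^ m = p ^ (m + 1) := by rw [pow_succ, mul_comm]
        have h5 : (k + 1) * p ^ m = k * p ^ m + p ^ m := by ring
        omega
      · rw [mul_zero]
      · rw [mul_zero]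

end Core

section Converse

variable {p : ℕ} [hp : Fact p.Prime] {A : Type*} [CommRing A] [CharP A p]
  {B : Type*} [CommRing B] [Algebra A B]

/-- coefficient of the truncated exponential -/
noncomputable def β (a : A) (k : ℕ) : A := Ring.inverse ((k.factorial : ℕ) : A) * a ^ k

lemma β_mul_choose (a : A) (k m : ℕ) (hk : k < p) (hm : m ≤ k) :
    β a k * ((Nat.choose k m : ℕ) : A) = β a m * β a (k - m) := by
  unfold β
  have hu1 := isUnit_fact (A := A) hk
  have hu2 := isUnit_fact (A := A) (lt_of_le_of_lt hm hk)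
  have hu3 := isUnit_fact (A := A) (k := k - m) (by omega)
  have hfac : ((Nat.choose k m : ℕ) : A) * ((m.factorial : ℕ) : A) * (((k - m).factorial : ℕ) : A) =
      ((k.factorial : ℕ) : A) := by
    rw [← Nat.cast_mul, ← Nat.cast_mul, Nat.choose_mul_factorial_mul_factorial hm]
  have hpow : a ^ k = a ^ m * a ^ (k - m) := by rw [← pow_add]; congr 1; omega
  have hinv : Ring.inverse ((k.factorial : ℕ) : A) * ((Nat.choose k m : ℕ) : A) =
      Ring.inverse ((m.factorial : ℕ) : A) * Ring.inverse (((k - m).factorial : ℕ) : A) := by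
    have h1 : Ring.inverse ((k.factorial : ℕ) : A) * ((k.factorial : ℕ) : A) = 1 :=
      Ring.inverse_mul_cancel _ hu1
    have h2 : ((m.factorial : ℕ) : A) * Ring.inverse ((m.factorial : ℕ) : A) = 1 :=
      Ring.mul_inverse_cancel _ hu2
    have h3 : (((k - m).factorial : ℕ) : A) * Ring.inverse (((k - m).factorial : ℕ) : A) = 1 :=
      Ring.mul_inverse_cancel _ hu3
    calc Ring.inverse ((k.factorial : ℕ) : A) * ((Nat.choose k m : ℕ) : A)
        = Ring.inverse ((k.factorial : ℕ) : A) * (((Nat.choose k m : ℕ) : A) *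
            (((m.factorial : ℕ) : A) * Ring.inverse ((m.factorial : ℕ) : A)) *
            ((((k - m).factorial : ℕ) : A) * Ring.inverse (((k - m).factorial : ℕ) : A))) := by
          rw [h2, h3, mul_one, mul_one]
      _ = (Ring.inverse ((k.factorial : ℕ) : A) * (((Nat.choose k m : ℕ) : A) *
            ((m.factorial : ℕ) : A) * (((k - m).factorial : ℕ) : A))) *
            (Ring.inverse ((m.factorial : ℕ) : A) * Ring.inverse (((k - m).factorial : ℕ) : A)) := by
          ring
      _ = _ := by rw [hfac, h1, one_mul]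
  calc Ring.inverse ((k.factorial : ℕ) : A) * a ^ k * ((Nat.choose k m : ℕ) : A)
      = (Ring.inverse ((k.factorial : ℕ) : A) * ((Nat.choose k m : ℕ) : A)) * a ^ k := by ring
    _ = _ := by rw [hinv, hpow]; ring

lemma β_mul_eq_zero (a : A) (ha : a ^ p = 0) (m m' : ℕ) (h : p ≤ m + m') :
    β a m * β a m' = 0 := by
  unfold β
  have : a ^ m * a ^ m' = 0 := by
    rw [← pow_add]
    obtain ⟨t, ht⟩ := Nat.exists_eq_add_of_le h
    rw [ht, pow_add, ha, zero_mul]
  calc Ring.inverse ((m.factorial : ℕ) : A) * a ^ m * (Ring.inverse ((m'.factorial : ℕ) : A) * a ^ m')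
      = Ring.inverse ((m.factorial : ℕ) : A) * Ring.inverse ((m'.factorial : ℕ) : A) *
          (a ^ m * a ^ m') := by ring
    _ = 0 := by rw [this, mul_zero]

/-- the truncated exponential is additive-to-multiplicative when `a^p = 0` -/
lemma expp_add (a : A) (ha : a ^ p = 0) (U V : B) :
    ∑ k ∈ Finset.range p, β a k • (U + V) ^ k =
      (∑ k ∈ Finset.range p, β a k • U ^ k) * (∑ k ∈ Finset.range p, β a k • V ^ k) := by
  have hL : ∑ k ∈ Finset.range p, β a k • (U + V) ^ k =
      ∑ k ∈ Finset.range p, ∑ m ∈ Finset.range (k + 1),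
        (β a m * β a (k - m)) • (U ^ m * V ^ (k - m)) := by
    apply Finset.sum_congr rfl
    intro k hk
    rw [Finset.mem_range] at hk
    rw [add_pow, Finset.smul_sum]
    apply Finset.sum_congr rfl
    intro m hm
    rw [Finset.mem_range] at hm
    rw [← β_mul_choose a k m hk (by omega), mul_smul]
    congr 1
    rw [Algebra.smul_def, map_natCast, mul_comm]
  rw [hL, Finset.sum_range_diag_flip p (fun m m' => (β a m * β a m') • (U ^ m * V ^ m'))]
  rw [Finset.sum_mul_sum]
  apply Finset.sum_congr rfl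
  intro m hm
  rw [Finset.mem_range] at hm
  rw [Finset.sum_subset (s₁ := Finset.range (p - m)) (s₂ := Finset.range p)
    (Finset.range_subset_range.mpr (by omega))]
  · apply Finset.sum_congr rfl
    intro m' _
    rw [smul_mul_smul_comm]
  · intro m' hm' hnot
    rw [Finset.mem_range] at hm' hnot
    rw [β_mul_eq_zero a ha m m' (by omega), zero_smul]

omit hp [CharP A p] in
lemma aeval_E (a : A) (l : ℕ) (z : B) :
    aeval z (E p a l) = ∑ k ∈ Finset.range p, β a k • (z ^ p ^ l) ^ k := by
  unfold E
  rw [map_sum]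
  apply Finset.sum_congr rfl
  intro k _
  rw [map_mul, aeval_C, map_pow, aeval_X, Algebra.smul_def, ← pow_mul, mul_comm (p ^ l) k]
  rfl

variable [CharP B p]

lemma E_char (a : A) (ha : a ^ p = 0) (l : ℕ) (x y : B) :
    aeval (x + y) (E p a l) = aeval x (E p a l) * aeval y (E p a l) := by
  rw [aeval_E, aeval_E, aeval_E, add_pow_char_pow, expp_add a ha]

theorem prod_E_char (a : ℕ → A) (m : ℕ) (ha : ∀ l < m, a l ^ p = 0) (x y : B) :
    aeval (x + y) (∏ l ∈ Finset.range m, E p (a l) l) =
      aeval x (∏ l ∈ Finset.range m, E p (a l) l) * aeval y (∏ l ∈ Finset.range m, E p (a l) l) := by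
  rw [map_prod, map_prod, map_prod, ← Finset.prod_mul_distrib]
  apply Finset.prod_congr rfl
  intro l hl
  rw [Finset.mem_range] at hl
  exact E_char (a l) (ha l hl) l x y

end Converse

end Groth.Agent.Lib.Helper20.GaChar
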