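import Mathlib.Algebra.Polynomial.Reverse
import Mathlib.Algebra.Polynomial.Degree.Lemmas

set_option autoImplicit false
universe u

open Finset Polynomial

namespace Groth.Agent.Lib.Helper20.LR
variable {K : Type u} [CommRing K]

lemma natDegree_one_sub_X_le : (1 - X : K[X]).natDegree ≤ 1 :=
  (natDegree_sub_le _ _).trans (max_le (by simp) natDegree_X_le)

lemma natDegree_one_sub_X_pow_le (n : ℕ) : ((1 - X : K[X]) ^ n).natDegree ≤ n := by
  have := natDegree_pow_le_of_le n (natDegree_one_sub_X_le (K := K))
  simpa using this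

lemma reflect_one_sub_X_pow (n : ℕ) : reflect n ((1 - X : K[X]) ^ n) = (X - 1) ^ n := by
  induction n with
  | zero => rw [pow_zero, pow_zero, reflect_one, pow_zero]
  | succ n ih =>
    rw [pow_succ, reflect_mul _ _ (natDegree_one_sub_X_pow_le n) natDegree_one_sub_X_le, ih,
      reflect_sub, reflect_one, reflect_one_X, pow_one, pow_succ]

lemma sum_C_coeff_eq_reflect (Q : K[X]) (m : ℕ) (hQ : Q.natDegree ≤ m) :
    ∑ i ∈ range (m + 1), C (Q.coeff i) * X ^ (m - i) = reflect m Q := by
  ext k
  rw [coeff_reflect, finsetSum_coeff]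
  simp only [coeff_C_mul_X_pow]
  by_cases hk : k ≤ m
  · rw [revAt_le hk, Finset.sum_eq_single (m - k)]
    · rw [if_pos (by omega)]
    · intro b hb hbk
      have := Finset.mem_range.mp hb
      rw [if_neg (by omega)]
    · intro h
      exact absurd (Finset.mem_range.mpr (by omega)) h
  · rw [revAt_eq_self_of_lt (by omega), coeff_eq_zero_of_natDegree_lt (by omega)]
    apply Finset.sum_eq_zero
    intro i hi
    rw [if_neg (by omega)]

lemma reflect_sum {ι : Type*} (s : Finset ι) (f : ι → K[X]) (N : ℕ) :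
    reflect N (∑ i ∈ s, f i) = ∑ i ∈ s, reflect N (f i) := by
  classical
  induction s using Finset.induction_on with
  | empty => simp
  | insert a s ha ih => rw [Finset.sum_insert ha, Finset.sum_insert ha, reflect_add, ih]

lemma reflect_term (a : K) (m i : ℕ) (hi : i ≤ m) :
    reflect m (C a * (X ^ i * (1 - X) ^ (m - i))) = C a * (X - 1) ^ (m - i) := by
  obtain ⟨j, rfl⟩ : ∃ j, m = i + j := ⟨m - i, by omega⟩
  rw [Nat.add_sub_cancel_left, reflect_C_mul,
    reflect_mul _ _ (natDegree_X_pow_le i) (natDegree_one_sub_X_pow_le j),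
    reflect_monomial, revAt_le le_rfl, Nat.sub_self, pow_zero, one_mul, reflect_one_sub_X_pow]

end Groth.Agent.Lib.Helper20.LR
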