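import Groth.Agent.Lib.Helper20.LambdaRing
import Mathlib.RingTheory.PowerSeries.Substitution
import Mathlib.RingTheory.PowerSeries.WellKnown
import Groth.Agent.Lib.Helper20.PolyReflect

/-!
# Helper library (helper20): the γ-series of a λ-ring as a substitution
-/

set_option autoImplicit false
universe u

open PowerSeries Finset

namespace Groth.Agent.Lib.Helper20.LR

open LambdaRing

section gamma
variable {K : Type u} [CommRing K] [LambdaOps K]

/-- `t/(1-t)` -/
noncomputable def sSer (K : Type u) [CommRing K] : PowerSeries K := X * PowerSeries.mk 1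

omit [LambdaOps K] in
lemma hasSubst_sSer : HasSubst (sSer K) :=
  HasSubst.of_constantCoeff_zero' (by simp [sSer])

omit [LambdaOps K] in
lemma coeff_sSer_pow_succ (d k : ℕ) :
    coeff k ((sSer K) ^ (d + 1)) = if k = 0 then 0 else ((k - 1).choose d : K) := by
  rw [sSer, mul_pow, mk_one_pow_eq_mk_choose_add, coeff_X_pow_mul']
  rcases k with _ | k
  · simp
  · simp only [Nat.add_eq_zero_iff, one_ne_zero, and_false, if_false, add_tsub_cancel_right]
    split_ifs with h
    · rw [coeff_mk]
      congr 2
      omega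
    · rw [Nat.choose_eq_zero_of_lt (by omega), Nat.cast_zero]

omit [LambdaOps K] in
lemma coeff_sSer_pow_zero (k : ℕ) :
    coeff k ((sSer K) ^ 0) = if k = 0 then 1 else 0 := by
  rw [pow_zero, coeff_one]

/-- the γ-series -/
noncomputable def gammaSeries (x : K) : PowerSeries K := PowerSeries.mk fun k => gamma k x

lemma coeff_gammaSeries (x : K) (k : ℕ) : coeff k (gammaSeries x) = gamma k x := coeff_mk _ _

lemma gammaSeries_eq_subst (x : K) : gammaSeries x = (lamSeries x).subst (sSer K) := by
  ext k
  rw [coeff_gammaSeries, coeff_subst' hasSubst_sSer]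
  rw [finsum_eq_sum_of_support_subset (s := range (k + 1))]
  · rcases k with _ | k
    · rw [zero_add, sum_range_one, coeff_lamSeries, LambdaOps.lam_zero, pow_zero, coeff_one]
      simp [gamma]
    · unfold gamma
      rw [if_neg (Nat.succ_ne_zero k)]
      apply Finset.sum_congr rfl
      intro j _
      rcases j with _ | j
      · simp [coeff_one]
      · rw [coeff_sSer_pow_succ, if_neg (Nat.succ_ne_zero k), coeff_lamSeries, smul_eq_mul]
        simp only [Nat.add_eq_zero_iff, one_ne_zero, and_false, if_false, add_tsub_cancel_right]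
        ring
  · intro d hd
    rw [Function.mem_support] at hd
    rw [Finset.coe_range, Set.mem_Iio]
    by_contra hcon
    apply hd
    obtain ⟨d', rfl⟩ : ∃ d', d = d' + 1 := ⟨d - 1, by omega⟩
    rw [coeff_sSer_pow_succ]
    split_ifs with h
    · rw [smul_zero]
    · rw [Nat.choose_eq_zero_of_lt (by omega), Nat.cast_zero, smul_zero]

lemma gammaSeries_add (x y : K) : gammaSeries (x + y) = gammaSeries x * gammaSeries y := by
  rw [gammaSeries_eq_subst, gammaSeries_eq_subst, gammaSeries_eq_subst, lamSeries_add,
    subst_mul hasSubst_sSer]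

lemma gamma_add (k : ℕ) (x y : K) :
    gamma k (x + y) = ∑ i ∈ range (k + 1), gamma i x * gamma (k - i) y := by
  rw [← coeff_gammaSeries, gammaSeries_add, coeff_mul,
    Finset.Nat.sum_antidiagonal_eq_sum_range_succ
      (fun i j => coeff i (gammaSeries x) * coeff j (gammaSeries y))]
  simp only [coeff_gammaSeries]

end gamma

section gamma2
variable {K : Type u} [CommRing K] [LambdaOps K]

lemma gammaSeries_zero : gammaSeries (0 : K) = 1 := by
  have h := gammaSeries_add (0 : K) 0
  rw [add_zero] at h
  have hu : IsUnit (gammaSeries (0 : K)) :=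
    isUnit_iff_constantCoeff.mpr (by
      rw [← coeff_zero_eq_constantCoeff_apply, coeff_gammaSeries]
      simp [gamma])
  have h' : gammaSeries (0 : K) * 1 = gammaSeries (0 : K) * gammaSeries (0 : K) := by
    rw [mul_one]; exact h
  exact (hu.mul_left_cancel h').symm

lemma gammaSeries_one (P : PosStructure K) : gammaSeries (1 : K) = PowerSeries.mk 1 := by
  rw [gammaSeries_eq_subst, lamSeries_line P (isLine_one P), map_one, one_mul,
    ← coe_substAlgHom hasSubst_sSer, map_add, map_one, substAlgHom_X, sSer]
  ext k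
  rcases k with _ | k
  · simp
  · rw [map_add, coeff_one, if_neg (Nat.succ_ne_zero k), zero_add, coeff_succ_X_mul, coeff_mk,
      coeff_mk]
    rfl

lemma gammaSeries_natCast (P : PosStructure K) (n : ℕ) :
    gammaSeries ((n : K)) = (PowerSeries.mk 1) ^ n := by
  induction n with
  | zero => rw [Nat.cast_zero, gammaSeries_zero, pow_zero]
  | succ n ih => rw [Nat.cast_succ, gammaSeries_add, ih, gammaSeries_one P, pow_succ]

lemma gammaSeries_sub_natCast (P : PosStructure K) (e : K) (n : ℕ) :
    gammaSeries (e - (n : K)) = gammaSeries e * (1 - X) ^ n := by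
  have h := gammaSeries_add (e - (n : K)) (n : K)
  rw [sub_add_cancel, gammaSeries_natCast P] at h
  rw [h, mul_assoc, ← mul_pow, mk_one_mul_one_sub_eq_one, one_pow, mul_one]

/-- the λ-polynomial of a positive element -/
noncomputable def lamPoly (e : K) (m : ℕ) : Polynomial K :=
  ∑ i ∈ range (m + 1), Polynomial.C (LambdaOps.lam i e) * Polynomial.X ^ i

lemma lamSeries_eq_coe (P : PosStructure K) (e : K) (he : e ∈ P.pos) :
    lamSeries e = ((lamPoly e (P.aug e).toNat : Polynomial K) : PowerSeries K) := by
  ext k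
  rw [coeff_lamSeries, Polynomial.coeff_coe, lamPoly, Polynomial.finsetSum_coeff]
  simp only [Polynomial.coeff_C_mul_X_pow]
  by_cases hk : k ≤ (P.aug e).toNat
  · rw [Finset.sum_eq_single k]
    · rw [if_pos rfl]
    · intro b _ hb
      rw [if_neg (Ne.symm hb)]
    · intro h
      exact absurd (Finset.mem_range.mpr (by omega)) h
  · rw [Finset.sum_eq_zero]
    · apply P.lam_eq_zero e he
      have := P.aug_pos e he
      omega
    · intro i hi
      rw [if_neg]
      have := Finset.mem_range.mp hi
      omega

/-- the polynomial `Σ λ^i(e) X^i (1-X)^(m-i)` -/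
noncomputable def qPoly (e : K) (m : ℕ) : Polynomial K :=
  ∑ i ∈ range (m + 1), Polynomial.C (LambdaOps.lam i e) *
    (Polynomial.X ^ i * (1 - Polynomial.X) ^ (m - i))

lemma gammaSeries_sub_eq_coe (P : PosStructure K) (e : K) (he : e ∈ P.pos) :
    gammaSeries (e - (((P.aug e).toNat : ℕ) : K)) =
      ((qPoly e (P.aug e).toNat : Polynomial K) : PowerSeries K) := by
  rw [gammaSeries_sub_natCast P, gammaSeries_eq_subst, lamSeries_eq_coe P e he,
    subst_coe hasSubst_sSer, lamPoly, qPoly, map_sum, Finset.sum_mul]
  set m := (P.aug e).toNat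
  have hcoe : ∀ p : Polynomial K, ((p : Polynomial K) : PowerSeries K) =
      Polynomial.coeToPowerSeries.ringHom p := fun p => rfl
  rw [hcoe, map_sum]
  apply Finset.sum_congr rfl
  intro i hi
  have hi' : i ≤ m := by have := Finset.mem_range.mp hi; omega
  have hL : Polynomial.aeval (sSer K) (Polynomial.C (LambdaOps.lam i e) * Polynomial.X ^ i) =
      PowerSeries.C (LambdaOps.lam i e) * (sSer K) ^ i := by
    rw [map_mul, map_pow, Polynomial.aeval_C, Polynomial.aeval_X]
    rfl
  have hR : Polynomial.coeToPowerSeries.ringHom (Polynomial.C (LambdaOps.lam i e) *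
      (Polynomial.X ^ i * (1 - Polynomial.X) ^ (m - i))) =
      PowerSeries.C (LambdaOps.lam i e) * (X ^ i * (1 - X) ^ (m - i)) := by
    rw [← hcoe, Polynomial.coe_mul, Polynomial.coe_mul, Polynomial.coe_pow, Polynomial.coe_pow,
      Polynomial.coe_sub, Polynomial.coe_one, Polynomial.coe_C, Polynomial.coe_X]
  rw [hL, hR]
  have h1 : (sSer K) ^ i * (1 - X) ^ m = X ^ i * (1 - X) ^ (m - i) := by
    rw [sSer, mul_pow]
    have : (1 - X : PowerSeries K) ^ m = (1 - X) ^ i * (1 - X) ^ (m - i) := by
      rw [← pow_add]; congr 1; omega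
    have h2 : (PowerSeries.mk 1 : PowerSeries K) ^ i * (1 - X) ^ i = 1 := by
      rw [← mul_pow, mk_one_mul_one_sub_eq_one, one_pow]
    rw [this, mul_assoc (X ^ i), ← mul_assoc (PowerSeries.mk 1 ^ i), h2, one_mul]
  rw [mul_assoc, h1]

end gamma2



section S3290
variable {K : Type u} [CommRing K] [LambdaOps K]

lemma natDegree_qPoly_le (e : K) (m : ℕ) : (qPoly e m).natDegree ≤ m := by
  unfold qPoly
  apply Polynomial.natDegree_sum_le_of_forall_le
  intro i hi
  have hi' : i ≤ m := by have := Finset.mem_range.mp hi; omega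
  refine (Polynomial.natDegree_C_mul_le _ _).trans ?_
  have := Polynomial.natDegree_mul_le_of_le (Polynomial.natDegree_X_pow_le (R := K) i)
    (natDegree_one_sub_X_pow_le (K := K) (m - i))
  omega

lemma gamma_sub_aug_identity (P : PosStructure K) (e : K) (he : e ∈ P.pos) :
    (∑ i ∈ range ((P.aug e).toNat + 1),
        Polynomial.C (gamma i (e - ((P.aug e).toNat : K))) * Polynomial.X ^ ((P.aug e).toNat - i)) =
      ∑ i ∈ range ((P.aug e).toNat + 1),
        Polynomial.C (LambdaOps.lam i e) * (Polynomial.X - 1) ^ ((P.aug e).toNat - i) := by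
  have hg : ∀ i, gamma i (e - ((P.aug e).toNat : K)) = (qPoly e (P.aug e).toNat).coeff i := by
    intro i
    rw [← coeff_gammaSeries, gammaSeries_sub_eq_coe P e he, Polynomial.coeff_coe]
  simp_rw [hg]
  rw [sum_C_coeff_eq_reflect _ _ (natDegree_qPoly_le e _), qPoly, reflect_sum]
  apply Finset.sum_congr rfl
  intro i hi
  exact reflect_term _ _ _ (by have := Finset.mem_range.mp hi; omega)

end S3290

end Groth.Agent.Lib.Helper20.LR
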