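import Groth.Prelude.Def_LambdaSp
import Groth.Agent.Lib.Helper20.LambdaGamma

/-!
# Helper library (helper20): basic facts on `gamma` and the ideal filtration `gammaFil`
-/

set_option autoImplicit false
universe u v

open PowerSeries Finset

namespace Groth.Agent.Lib.Helper20.GF

open LambdaRing Groth.Agent.Lib.Helper20.LR

section basic
variable {A : Type v} [CommRing A] [LambdaOps A]

lemma gamma_zero_left (x : A) : gamma 0 x = 1 := by simp [gamma]

lemma gamma_one_left (x : A) : gamma 1 x = x := by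
  simp [gamma, Finset.sum_range_succ, LambdaOps.lam_one]

lemma gamma_zero_right {i : ℕ} (hi : 1 ≤ i) : gamma i (0 : A) = 0 := by
  have := congrArg (coeff i) (gammaSeries_zero (K := A))
  rw [coeff_gammaSeries, coeff_one, if_neg (by omega)] at this
  exact this

/-- recursion for `γ(-x)` -/
lemma gamma_neg_rec (x : A) {i : ℕ} (hi : 1 ≤ i) :
    gamma i (-x) = -∑ j ∈ range i, gamma (i - j) x * gamma j (-x) := by
  have h := gamma_add i (-x) x
  rw [neg_add_cancel, gamma_zero_right hi, Finset.sum_range_succ, Nat.sub_self, gamma_zero_left,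
    mul_one] at h
  have : gamma i (-x) = -∑ j ∈ range i, gamma j (-x) * gamma (i - j) x := by
    rw [eq_neg_iff_add_eq_zero, add_comm]; exact h.symm
  rw [this]
  congr 1
  apply Finset.sum_congr rfl
  intro j _; ring

end basic

section fil
variable {K : Type u} {A : Type v} [CommRing K] [CommRing A] [LambdaOps A]

/-- the generating set of `gammaFil ε n` -/
def gens (ε : A →+* K) (n : ℕ) : Set A :=
  {y | ∃ l : List (ℕ × A), (∀ p ∈ l, ε p.2 = 0) ∧ n ≤ (l.map Prod.fst).sum ∧
    y = (l.map fun p => gamma p.1 p.2).prod}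

lemma gammaFil_eq (ε : A →+* K) (n : ℕ) : gammaFil ε n = Ideal.span (gens ε n) := rfl

lemma gens_anti (ε : A →+* K) {m n : ℕ} (h : m ≤ n) : gens ε n ⊆ gens ε m := by
  rintro y ⟨l, h1, h2, rfl⟩
  exact ⟨l, h1, h.trans h2, rfl⟩

lemma gammaFil_anti (ε : A →+* K) {m n : ℕ} (h : m ≤ n) : gammaFil ε n ≤ gammaFil ε m :=
  Ideal.span_mono (gens_anti ε h)

lemma gens_mul (ε : A →+* K) {m n : ℕ} {x y : A} (hx : x ∈ gens ε m) (hy : y ∈ gens ε n) :
    x * y ∈ gens ε (m + n) := by
  obtain ⟨l, h1, h2, rfl⟩ := hx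
  obtain ⟨l', h1', h2', rfl⟩ := hy
  refine ⟨l ++ l', ?_, ?_, ?_⟩
  · intro p hp
    rcases List.mem_append.mp hp with h | h
    · exact h1 p h
    · exact h1' p h
  · rw [List.map_append, List.sum_append]; omega
  · rw [List.map_append, List.prod_append]

lemma gammaFil_mul (ε : A →+* K) {m n : ℕ} {x y : A} (hx : x ∈ gammaFil ε m)
    (hy : y ∈ gammaFil ε n) : x * y ∈ gammaFil ε (m + n) := by
  have : gammaFil ε m * gammaFil ε n ≤ gammaFil ε (m + n) := by
    rw [gammaFil_eq, gammaFil_eq, gammaFil_eq, Ideal.span_mul_span']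
    apply Ideal.span_mono
    rintro _ ⟨x, hx, y, hy, rfl⟩
    exact gens_mul ε hx hy
  exact this (Ideal.mul_mem_mul hx hy)

lemma gamma_mem_gammaFil (ε : A →+* K) {x : A} (hx : ε x = 0) (i : ℕ) :
    gamma i x ∈ gammaFil ε i := by
  apply Ideal.subset_span
  refine ⟨[(i, x)], ?_, ?_, ?_⟩
  · intro p hp
    rw [List.mem_singleton] at hp
    rw [hp]; exact hx
  · simp
  · simp

lemma gammaFil_zero (ε : A →+* K) : gammaFil ε 0 = ⊤ := by
  rw [Ideal.eq_top_iff_one]
  apply Ideal.subset_span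
  exact ⟨[], by simp, by simp, by simp⟩

lemma mem_gammaFil_one_of_aug_zero (ε : A →+* K) {x : A} (hx : ε x = 0) : x ∈ gammaFil ε 1 := by
  have := gamma_mem_gammaFil ε hx 1
  rwa [gamma_one_left] at this

end fil

end Groth.Agent.Lib.Helper20.GF
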