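import Groth.Agent.Lib.Helper20.SymUnivQ

/-!
# Helper library (helper20): injectivity of the substitution maps, the universal ring in
countably many variables and the joint injectivity of its specialisations.
-/

set_option autoImplicit false
universe u v

open Finset MvPolynomial

namespace Groth.Agent.Lib.Helper20.Sym

open LambdaRing

section inj

lemma algebraicIndependent_esymm (R : Type*) [CommRing R] {n m : ℕ} (h : n ≤ m) :
    AlgebraicIndependent R (fun i : Fin n => esymm (Fin m) R ((i : ℕ) + 1)) := by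
  rw [algebraicIndependent_iff_injective_aeval]
  intro p q hpq
  apply esymmAlgHom_fin_injective R h
  apply Subtype.ext
  rw [esymmAlgHom_apply, esymmAlgHom_apply]
  exact hpq

/-- the substitution of the elementary symmetric functions of two families is injective -/
theorem Bmap_injective {n N : ℕ} (h : n ≤ N) : Function.Injective (Bmap N n) := by
  -- the inner family
  have hx : AlgebraicIndependent ℤ (fun i : Fin n => esymm (Fin N) ℤ ((i : ℕ) + 1)) :=
    algebraicIndependent_esymm ℤ h
  have hy : AlgebraicIndependent (MvPolynomial (Fin N) ℤ)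
      (fun i : Fin n => esymm (Fin N) (MvPolynomial (Fin N) ℤ) ((i : ℕ) + 1)) :=
    algebraicIndependent_esymm _ h
  have hxy := AlgebraicIndependent.sumElim_comp (R := ℤ) (S := MvPolynomial (Fin N) ℤ)
    (A := MvPolynomial (Fin N) (MvPolynomial (Fin N) ℤ)) hx hy
  have hxy' := hxy.map' (f := (sumAlgEquiv ℤ (Fin N) (Fin N)).symm.toAlgHom)
    (sumAlgEquiv ℤ (Fin N) (Fin N)).symm.injective
  rw [algebraicIndependent_iff_injective_aeval] at hxy'
  have key : (⇑(sumAlgEquiv ℤ (Fin N) (Fin N)).symm.toAlgHom ∘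
      Sum.elim (fun i : Fin n => esymm (Fin N) (MvPolynomial (Fin N) ℤ) ((i : ℕ) + 1))
        (⇑(algebraMap (MvPolynomial (Fin N) ℤ) (MvPolynomial (Fin N) (MvPolynomial (Fin N) ℤ))) ∘
          fun i : Fin n => esymm (Fin N) ℤ ((i : ℕ) + 1))) =
      Sum.elim (fun k : Fin n => eT N ((k : ℕ) + 1)) (fun k : Fin n => eU N ((k : ℕ) + 1)) := by
    funext i
    rcases i with i | i
    · simp only [Function.comp_apply, Sum.elim_inl]
      unfold eT esymm
      simp only [map_sum, map_prod, rename_X]
      apply Finset.sum_congr rfl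
      intro t _
      apply Finset.prod_congr rfl
      intro a _
      exact sumAlgEquiv_symm_X ℤ (Fin N) (Fin N) a
    · simp only [Function.comp_apply, Sum.elim_inr]
      unfold eU esymm
      simp only [map_sum, map_prod, algebraMap_eq, rename_X]
      apply Finset.sum_congr rfl
      intro t _
      apply Finset.prod_congr rfl
      intro a _
      exact sumAlgEquiv_symm_C_X ℤ (Fin N) (Fin N) a
  rw [key] at hxy'
  exact hxy'

end inj

section universal

/-- the universal ring `ℤ[X_0, X_1, …, Y_0, Y_1, …]`; `X_i` stands for `λ^{i+1} x`. -/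
abbrev UU := MvPolynomial (ℕ ⊕ ℕ) ℤ

/-- specialisation to the split ring in `N + N` variables -/
noncomputable def beta (N : ℕ) : UU →ₐ[ℤ] Om N :=
  aeval (Sum.elim (fun i : ℕ => eT N (i + 1)) (fun i : ℕ => eU N (i + 1)))

/-- inclusion of the polynomial rings in finitely many variables -/
noncomputable def iotaP (n : ℕ) : MvPolynomial (Fin n ⊕ Fin n) ℤ →ₐ[ℤ] UU :=
  rename (Sum.map Fin.val Fin.val)

noncomputable def iotaQ (m : ℕ) : MvPolynomial (Fin m) ℤ →ₐ[ℤ] UU :=
  rename (fun k : Fin m => Sum.inl (k : ℕ))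

lemma beta_iotaP (N n : ℕ) (P : MvPolynomial (Fin n ⊕ Fin n) ℤ) :
    beta N (iotaP n P) = Bmap N n P := by
  unfold beta iotaP Bmap
  rw [aeval_rename]
  congr 2
  funext i
  rcases i with i | i <;> rfl

lemma beta_iotaQ (N m : ℕ) (Q : MvPolynomial (Fin m) ℤ) :
    beta N (iotaQ m Q) = rename Sum.inl (Emap N m Q) := by
  unfold beta iotaQ Emap
  rw [aeval_rename, ← AlgHom.comp_apply, comp_aeval]
  congr 2

/-- joint injectivity of the specialisations -/
theorem eq_zero_of_beta_eq_zero (G : UU) (h : ∀ N, beta N G = 0) : G = 0 := by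
  classical
  obtain ⟨s, q, rfl⟩ := exists_finset_rename G
  -- a bound for the indices
  obtain ⟨n, hn⟩ : ∃ n : ℕ, ∀ v ∈ s, Sum.elim id id v < n := by
    refine ⟨s.sup (fun v => Sum.elim id id v) + 1, fun v hv => ?_⟩
    exact Nat.lt_succ_of_le (Finset.le_sup (f := fun v => Sum.elim id id v) hv)
  let f : {x // x ∈ s} → Fin n ⊕ Fin n := fun v =>
    match v with
    | ⟨Sum.inl a, hv⟩ => Sum.inl ⟨a, hn _ hv⟩
    | ⟨Sum.inr a, hv⟩ => Sum.inr ⟨a, hn _ hv⟩
  have hf : (Sum.map Fin.val Fin.val) ∘ f = ((↑) : {x // x ∈ s} → ℕ ⊕ ℕ) := by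
    funext v
    rcases v with ⟨(a | a), hv⟩ <;> rfl
  have e1 : rename ((↑) : {x // x ∈ s} → ℕ ⊕ ℕ) q = iotaP n (rename f q) := by
    unfold iotaP
    rw [rename_rename, hf]
  rw [e1]
  have h2 := h n
  rw [e1, beta_iotaP] at h2
  have : rename f q = 0 := Bmap_injective (le_refl n) (by rw [h2, map_zero])
  rw [this, map_zero]

theorem eq_of_beta_eq (G G' : UU) (h : ∀ N, beta N G = beta N G') : G = G' := by
  rw [← sub_eq_zero]
  apply eq_zero_of_beta_eq_zero
  intro N
  rw [map_sub, h N, sub_self]

/-- power series version -/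
theorem series_eq_of_beta_eq (F F' : PowerSeries UU)
    (h : ∀ N, PowerSeries.map (beta N).toRingHom F = PowerSeries.map (beta N).toRingHom F') :
    F = F' := by
  refine PowerSeries.ext fun k => ?_
  apply eq_of_beta_eq
  intro N
  have := congrArg (PowerSeries.coeff k) (h N)
  simpa using this

end universal

section phi
variable {K : Type u} [CommRing K] [LambdaOps K]

/-- evaluation of the universal ring at a pair of elements of a pre-λ-ring -/
noncomputable def phi (x y : K) : UU →ₐ[ℤ] K :=
  aeval (Sum.elim (fun i : ℕ => LambdaOps.lam (i + 1) x) (fun i : ℕ => LambdaOps.lam (i + 1) y))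

lemma phi_iotaP (x y : K) (n : ℕ) (P : MvPolynomial (Fin n ⊕ Fin n) ℤ) :
    phi x y (iotaP n P) =
      aeval (Sum.elim (fun k : Fin n => LambdaOps.lam ((k : ℕ) + 1) x)
        (fun k : Fin n => LambdaOps.lam ((k : ℕ) + 1) y)) P := by
  unfold phi iotaP
  rw [aeval_rename]
  congr 2
  funext i
  rcases i with i | i <;> rfl

lemma phi_iotaQ (x y : K) (m : ℕ) (Q : MvPolynomial (Fin m) ℤ) :
    phi x y (iotaQ m Q) = aeval (fun k : Fin m => LambdaOps.lam ((k : ℕ) + 1) x) Q := by
  unfold phi iotaQ
  rw [aeval_rename]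
  congr 2

end phi

end Groth.Agent.Lib.Helper20.Sym
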