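import Groth.Prelude.Def_LambdaRing
import Mathlib.RingTheory.PowerSeries.Derivative
import Mathlib.RingTheory.PowerSeries.Inverse

/-!
# Helper library (helper20): basic λ-ring lemmas for the `LambdaRing` rows
-/

set_option autoImplicit false
universe u

open PowerSeries Finset

namespace Groth.Agent.Lib.Helper20.LR

open LambdaRing

section basic
variable {K : Type u} [CommRing K] [LambdaOps K]

lemma coeff_lamSeries (x : K) (i : ℕ) : coeff i (lamSeries x) = LambdaOps.lam i x :=
  coeff_mk _ _

lemma lamSeries_add (x y : K) : lamSeries (x + y) = lamSeries x * lamSeries y := by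
  ext k
  rw [coeff_lamSeries, coeff_mul, LambdaOps.lam_add,
    Finset.Nat.sum_antidiagonal_eq_sum_range_succ
      (fun i j => coeff i (lamSeries x) * coeff j (lamSeries y))]
  simp only [coeff_lamSeries]

lemma constantCoeff_lamSeries (x : K) : constantCoeff (lamSeries x) = 1 := by
  rw [← coeff_zero_eq_constantCoeff_apply, coeff_lamSeries, LambdaOps.lam_zero]

lemma lamSeries_zero : lamSeries (0 : K) = 1 := by
  have h := lamSeries_add (0 : K) 0
  rw [add_zero] at h
  have hu : IsUnit (lamSeries (0 : K)) :=
    isUnit_iff_constantCoeff.mpr (by rw [constantCoeff_lamSeries]; exact isUnit_one)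
  have h' : lamSeries (0 : K) * 1 = lamSeries (0 : K) * lamSeries (0 : K) := by
    rw [mul_one]; exact h
  exact (hu.mul_left_cancel h').symm

/-- `λ_{-t}(x)` -/
noncomputable def negSeries (x : K) : PowerSeries K := rescale (-1 : K) (lamSeries x)

lemma negSeries_add (x y : K) : negSeries (x + y) = negSeries x * negSeries y := by
  rw [negSeries, lamSeries_add, map_mul]; rfl

lemma constantCoeff_negSeries (x : K) : constantCoeff (negSeries x) = 1 := by
  rw [negSeries, ← coeff_zero_eq_constantCoeff_apply, coeff_rescale, pow_zero, one_mul,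
    coeff_zero_eq_constantCoeff_apply, constantCoeff_lamSeries]

lemma invOfUnit_eq_of_mul_eq_one {φ ψ : PowerSeries K} (h1 : constantCoeff φ = 1)
    (h : φ * ψ = 1) : φ.invOfUnit 1 = ψ := by
  have h2 : φ * φ.invOfUnit 1 = 1 := mul_invOfUnit φ 1 (by rw [h1]; rfl)
  calc φ.invOfUnit 1 = φ.invOfUnit 1 * (φ * ψ) := by rw [h, mul_one]
    _ = (φ * φ.invOfUnit 1) * ψ := by ring
    _ = ψ := by rw [h2, one_mul]

lemma negSeries_mul_inv (x : K) : negSeries x * (negSeries x).invOfUnit 1 = 1 :=
  mul_invOfUnit _ 1 (by rw [constantCoeff_negSeries]; rfl)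

lemma inv_negSeries_add (x y : K) : (negSeries (x + y)).invOfUnit 1 =
    (negSeries x).invOfUnit 1 * (negSeries y).invOfUnit 1 := by
  apply invOfUnit_eq_of_mul_eq_one (constantCoeff_negSeries _)
  rw [negSeries_add]
  calc negSeries x * negSeries y * ((negSeries x).invOfUnit 1 * (negSeries y).invOfUnit 1)
      = (negSeries x * (negSeries x).invOfUnit 1) * (negSeries y * (negSeries y).invOfUnit 1) := by
        ring
    _ = 1 := by rw [negSeries_mul_inv, negSeries_mul_inv, one_mul]

lemma adamsSeries_eq (P : PosStructure K) (x : K) : adamsSeries P x =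
    PowerSeries.C (P.aug x : K) -
      PowerSeries.X * (PowerSeries.derivative K (negSeries x)) * (negSeries x).invOfUnit 1 := rfl

lemma adamsSeries_add (P : PosStructure K) (x y : K) :
    adamsSeries P (x + y) = adamsSeries P x + adamsSeries P y := by
  rw [adamsSeries_eq, adamsSeries_eq, adamsSeries_eq, inv_negSeries_add, negSeries_add,
    Derivation.leibniz, map_add, Int.cast_add, map_add]
  simp only [smul_eq_mul]
  have hx := negSeries_mul_inv x
  have hy := negSeries_mul_inv y
  set a := negSeries x
  set b := negSeries y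
  set a' := (negSeries x).invOfUnit 1
  set b' := (negSeries y).invOfUnit 1
  set da := PowerSeries.derivative K a
  set db := PowerSeries.derivative K b
  have : X * (a * db + b * da) * (a' * b') = X * db * b' * (a * a') + X * da * a' * (b * b') := by
    ring
  rw [this, hx, hy]
  ring

lemma adams_add (P : PosStructure K) (j : ℕ) (x y : K) :
    adams P j (x + y) = adams P j x + adams P j y := by
  unfold adams
  rw [adamsSeries_add, map_add]

lemma adams_zero (P : PosStructure K) (j : ℕ) : adams P j (0 : K) = 0 := by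
  have h := adams_add P j (0 : K) 0
  rw [add_zero] at h
  exact left_eq_add.mp h

lemma adams_neg (P : PosStructure K) (j : ℕ) (x : K) : adams P j (-x) = -adams P j x := by
  have h := adams_add P j x (-x)
  rw [add_neg_cancel, adams_zero] at h
  exact (neg_eq_of_add_eq_zero_right h.symm).symm

lemma adams_sub (P : PosStructure K) (j : ℕ) (x y : K) :
    adams P j (x - y) = adams P j x - adams P j y := by
  rw [sub_eq_add_neg, adams_add, adams_neg, sub_eq_add_neg]

/-- the λ-series of a line element -/
lemma lamSeries_line (P : PosStructure K) {u : K} (hu : P.IsLine u) :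
    lamSeries u = 1 + PowerSeries.C u * X := by
  ext n
  rw [coeff_lamSeries, map_add, coeff_one, coeff_C_mul, coeff_X]
  rcases n with _ | _ | n
  · simp [LambdaOps.lam_zero]
  · simp [LambdaOps.lam_one]
  · rw [P.lam_eq_zero u hu.1 (n + 2) (by rw [hu.2]; push_cast; omega)]
    simp

lemma negSeries_line (P : PosStructure K) {u : K} (hu : P.IsLine u) :
    negSeries u = 1 - PowerSeries.C u * X := by
  rw [negSeries, lamSeries_line P hu]
  ext n
  rw [coeff_rescale, map_add, map_sub, coeff_one, coeff_C_mul, coeff_X]
  rcases n with _ | _ | n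
  · simp
  · simp
  · simp

omit [LambdaOps K] in
lemma geom_mul (u : K) : (1 - PowerSeries.C u * X) * PowerSeries.mk (fun n => u ^ n) = 1 := by
  ext n
  rw [sub_mul, one_mul, mul_assoc, map_sub, coeff_mk, coeff_C_mul, coeff_one]
  rcases n with _ | n
  · simp
  · rw [coeff_succ_X_mul, coeff_mk]
    simp [pow_succ']

lemma adamsSeries_line (P : PosStructure K) {u : K} (hu : P.IsLine u) :
    adamsSeries P u = PowerSeries.mk (fun n => u ^ n) := by
  rw [adamsSeries_eq, negSeries_line P hu,
    invOfUnit_eq_of_mul_eq_one (by simp) (geom_mul u), hu.2]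
  have hd : PowerSeries.derivative K (1 - PowerSeries.C u * X) = - PowerSeries.C u := by
    rw [map_sub, Derivation.leibniz]
    simp
  rw [hd]
  ext n
  rcases n with _ | n
  · simp
  · rw [map_sub, coeff_mk]
    have : X * -(PowerSeries.C u) * PowerSeries.mk (fun n => u ^ n) =
        - (X * (PowerSeries.C u * PowerSeries.mk (fun n => u ^ n))) := by ring
    rw [this, map_neg, coeff_succ_X_mul, coeff_C_mul, coeff_mk]
    simp [pow_succ']

lemma adams_line (P : PosStructure K) {u : K} (hu : P.IsLine u) (j : ℕ) :
    adams P j u = u ^ j := by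
  unfold adams
  rw [adamsSeries_line P hu, coeff_mk]

lemma isLine_one (P : PosStructure K) : P.IsLine (1 : K) := by
  refine ⟨?_, map_one _⟩
  have := P.natCast_mem 1 one_pos
  rwa [Nat.cast_one] at this

lemma isLine_mul (P : PosStructure K) {u v : K} (hu : P.IsLine u) (hv : P.IsLine v) :
    P.IsLine (u * v) :=
  ⟨P.mul_mem u v hu.1 hv.1, by rw [map_mul, hu.2, hv.2, mul_one]⟩

lemma isLine_pow (P : PosStructure K) {u : K} (hu : P.IsLine u) (n : ℕ) : P.IsLine (u ^ n) := by
  induction n with
  | zero => rw [pow_zero]; exact isLine_one P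
  | succ n ih => rw [pow_succ]; exact isLine_mul P ih hu

end basic


section ext
variable {K K' : Type u} [CommRing K] [LambdaOps K] [CommRing K'] [LambdaOps K']

lemma map_lamSeries (f : K →+* K') (hf : IsLambdaHom f) (x : K) :
    PowerSeries.map f (lamSeries x) = lamSeries (f x) := by
  ext n
  rw [coeff_map, coeff_lamSeries, coeff_lamSeries, hf]

lemma map_negSeries (f : K →+* K') (hf : IsLambdaHom f) (x : K) :
    PowerSeries.map f (negSeries x) = negSeries (f x) := by
  ext n
  rw [coeff_map, negSeries, negSeries, coeff_rescale, coeff_rescale, map_mul, map_pow, map_neg,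
    map_one, ← map_lamSeries f hf, coeff_map]

omit [LambdaOps K] [LambdaOps K'] in
lemma map_derivative (f : K →+* K') (φ : PowerSeries K) :
    PowerSeries.map f (PowerSeries.derivative K φ) = PowerSeries.derivative K' (PowerSeries.map f φ) := by
  ext n
  rw [coeff_map, coeff_derivative, coeff_derivative, coeff_map, map_mul, map_add, map_natCast,
    map_one]

lemma map_inv_negSeries (f : K →+* K') (hf : IsLambdaHom f) (x : K) :
    PowerSeries.map f ((negSeries x).invOfUnit 1) = (negSeries (f x)).invOfUnit 1 := by
  symm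
  apply invOfUnit_eq_of_mul_eq_one (constantCoeff_negSeries _)
  rw [← map_negSeries f hf, ← map_mul, negSeries_mul_inv, map_one]

lemma map_adamsSeries {P : PosStructure K} {P' : PosStructure K'} (f : K →+* K')
    (hf : IsExtension P P' f) (x : K) :
    PowerSeries.map f (adamsSeries P x) = adamsSeries P' (f x) := by
  rw [adamsSeries_eq, adamsSeries_eq, map_sub, map_mul, map_mul, map_derivative,
    map_negSeries f hf.isLambdaHom, map_inv_negSeries f hf.isLambdaHom, map_C, map_X,
    hf.aug_comp, map_intCast]

lemma map_adams {P : PosStructure K} {P' : PosStructure K'} (f : K →+* K')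
    (hf : IsExtension P P' f) (j : ℕ) (x : K) :
    f (adams P j x) = adams P' j (f x) := by
  unfold adams
  rw [← map_adamsSeries f hf, coeff_map]

lemma isLine_map {P : PosStructure K} {P' : PosStructure K'} (f : K →+* K')
    (hf : IsExtension P P' f) {u : K} (hu : P.IsLine u) : P'.IsLine (f u) :=
  ⟨hf.pos_subset u hu.1, by rw [hf.aug_comp, hu.2]⟩

end ext

section sums
variable {K : Type u} [CommRing K] [LambdaOps K] (P : PosStructure K)

lemma adams_multiset_sum (j : ℕ) (s : Multiset K) (hs : ∀ u ∈ s, P.IsLine u) :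
    adams P j s.sum = (s.map (fun u => u ^ j)).sum := by
  induction s using Multiset.induction_on with
  | empty => simp [adams_zero]
  | cons a s ih =>
    rw [Multiset.sum_cons, adams_add, Multiset.map_cons, Multiset.sum_cons,
      ih (fun u hu => hs u (Multiset.mem_cons_of_mem hu)), adams_line P (hs a (Multiset.mem_cons_self a s))]

lemma adams_line_mul_sum (j : ℕ) {u : K} (hu : P.IsLine u) (t : Multiset K)
    (ht : ∀ v ∈ t, P.IsLine v) :
    adams P j (u * t.sum) = adams P j u * adams P j t.sum := by
  induction t using Multiset.induction_on with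
  | empty => simp [adams_zero]
  | cons a t ih =>
    have ha := ht a (Multiset.mem_cons_self a t)
    rw [Multiset.sum_cons, mul_add, adams_add, adams_add, mul_add,
      ih (fun v hv => ht v (Multiset.mem_cons_of_mem hv)), adams_line P (isLine_mul P hu ha),
      adams_line P hu, adams_line P ha, mul_pow]

lemma adams_sum_mul_sum (j : ℕ) (s t : Multiset K) (hs : ∀ u ∈ s, P.IsLine u)
    (ht : ∀ v ∈ t, P.IsLine v) :
    adams P j (s.sum * t.sum) = adams P j s.sum * adams P j t.sum := by
  induction s using Multiset.induction_on with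
  | empty => simp [adams_zero]
  | cons a s ih =>
    rw [Multiset.sum_cons, add_mul, adams_add, adams_add, add_mul,
      ih (fun u hu => hs u (Multiset.mem_cons_of_mem hu)),
      adams_line_mul_sum P j (hs a (Multiset.mem_cons_self a s)) t ht]

end sums


section splitting
variable (C : Set PosLambdaRing.{u})
  (hC : ∀ L ∈ C, ∀ e ∈ L.posStr.pos, ∃ L' ∈ C, ∃ f : L.carrier →+* L'.carrier,
      IsExtension L.posStr L'.posStr f ∧
      ∃ s : Multiset L'.carrier, (∀ u ∈ s, L'.posStr.IsLine u) ∧ s.sum = f e)
include hC

lemma adams_mul_pos (L : PosLambdaRing.{u}) (hL : L ∈ C) (j : ℕ) (e f : L.carrier)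
    (he : e ∈ L.posStr.pos) (hf : f ∈ L.posStr.pos) :
    adams L.posStr j (e * f) = adams L.posStr j e * adams L.posStr j f := by
  obtain ⟨L', hL', g₁, hg₁, s, hs, hse⟩ := hC L hL e he
  obtain ⟨L'', -, g₂, hg₂, t, ht, htf⟩ := hC L' hL' (g₁ f) (hg₁.pos_subset f hf)
  apply hg₁.injective
  apply hg₂.injective
  have hs' : ∀ u ∈ s.map g₂, L''.posStr.IsLine u := by
    intro u hu
    obtain ⟨v, hv, rfl⟩ := Multiset.mem_map.mp hu
    exact isLine_map g₂ hg₂ (hs v hv)
  have he' : g₂ (g₁ e) = (s.map g₂).sum := by rw [← hse, map_multiset_sum]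
  rw [map_mul, map_mul, map_adams g₁ hg₁, map_adams g₂ hg₂, map_adams g₁ hg₁, map_adams g₂ hg₂,
    map_adams g₁ hg₁, map_adams g₂ hg₂, map_mul, map_mul, he', ← htf]
  exact adams_sum_mul_sum L''.posStr j _ _ hs' ht

lemma adams_mul (L : PosLambdaRing.{u}) (hL : L ∈ C) (j : ℕ) (x y : L.carrier) :
    adams L.posStr j (x * y) = adams L.posStr j x * adams L.posStr j y := by
  obtain ⟨e, e', he, he', rfl⟩ := L.posStr.exists_sub x
  obtain ⟨f, f', hf, hf', rfl⟩ := L.posStr.exists_sub y
  have h : (e - e') * (f - f') = e * f - e * f' - e' * f + e' * f' := by ring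
  rw [h, adams_add, adams_sub, adams_sub, adams_sub, adams_sub,
    adams_mul_pos C hC L hL j e f he hf, adams_mul_pos C hC L hL j e f' he hf',
    adams_mul_pos C hC L hL j e' f he' hf, adams_mul_pos C hC L hL j e' f' he' hf']
  ring

lemma adams_adams_pos (L : PosLambdaRing.{u}) (hL : L ∈ C) (i j : ℕ) (e : L.carrier)
    (he : e ∈ L.posStr.pos) :
    adams L.posStr i (adams L.posStr j e) = adams L.posStr (i * j) e := by
  obtain ⟨L', -, g, hg, s, hs, hse⟩ := hC L hL e he
  apply hg.injective
  rw [map_adams g hg, map_adams g hg, map_adams g hg, ← hse, adams_multiset_sum _ j s hs,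
    adams_multiset_sum _ (i * j) s hs, adams_multiset_sum _ i]
  · rw [Multiset.map_map]
    congr 1
    apply Multiset.map_congr rfl
    intro u _
    simp only [Function.comp_apply]
    rw [← pow_mul, mul_comm]
  · intro u hu
    obtain ⟨v, hv, rfl⟩ := Multiset.mem_map.mp hu
    exact isLine_pow _ (hs v hv) j

lemma adams_adams (L : PosLambdaRing.{u}) (hL : L ∈ C) (i j : ℕ) (x : L.carrier) :
    adams L.posStr i (adams L.posStr j x) = adams L.posStr (i * j) x := by
  obtain ⟨e, e', he, he', rfl⟩ := L.posStr.exists_sub x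
  rw [adams_sub, adams_sub, adams_sub, adams_adams_pos C hC L hL i j e he,
    adams_adams_pos C hC L hL i j e' he']

end splitting


section auglam
variable {K : Type u} [CommRing K] [LambdaOps K] (P : PosStructure K)

lemma lamSeries_multiset_sum (s : Multiset K) : lamSeries s.sum = (s.map lamSeries).prod := by
  induction s using Multiset.induction_on with
  | empty => simp [lamSeries_zero]
  | cons a s ih => rw [Multiset.sum_cons, lamSeries_add, Multiset.map_cons, Multiset.prod_cons, ih]

lemma aug_multiset_sum_lines (s : Multiset K) (hs : ∀ u ∈ s, P.IsLine u) :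
    P.aug s.sum = (Multiset.card s : ℤ) := by
  rw [map_multiset_sum, Multiset.map_congr rfl (fun u hu => (hs u hu).2), Multiset.map_const',
    Multiset.sum_replicate, nsmul_eq_mul, mul_one]

lemma map_aug_lamSeries_lines (s : Multiset K) (hs : ∀ u ∈ s, P.IsLine u) :
    PowerSeries.map P.aug (lamSeries s.sum) = (1 + X) ^ (Multiset.card s) := by
  rw [lamSeries_multiset_sum, map_multiset_prod, Multiset.map_map]
  have h : ∀ u ∈ s, (PowerSeries.map P.aug ∘ lamSeries) u = 1 + X := by
    intro u hu
    rw [Function.comp_apply, lamSeries_line P (hs u hu), map_add, map_one, map_mul, map_C, map_X,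
      (hs u hu).2, map_one, one_mul]
  rw [Multiset.map_congr rfl h, Multiset.map_const', Multiset.prod_replicate]

lemma coeff_one_add_X_pow_int (n i : ℕ) :
    coeff i ((1 + X : PowerSeries ℤ) ^ n) = (n.choose i : ℤ) := by
  have : ((1 + X : PowerSeries ℤ) ^ n) = (((1 + Polynomial.X) ^ n : Polynomial ℤ) : PowerSeries ℤ) := by
    rw [Polynomial.coe_pow, Polynomial.coe_add, Polynomial.coe_one, Polynomial.coe_X]
  rw [this, Polynomial.coeff_coe, Polynomial.coeff_one_add_X_pow]

lemma aug_lam_lines (s : Multiset K) (hs : ∀ u ∈ s, P.IsLine u) (i : ℕ) :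
    P.aug (LambdaOps.lam i s.sum) = ((Multiset.card s).choose i : ℤ) := by
  have h := congrArg (coeff i) (map_aug_lamSeries_lines P s hs)
  rw [coeff_map, coeff_lamSeries, coeff_one_add_X_pow_int] at h
  exact h

end auglam

end Groth.Agent.Lib.Helper20.LR
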