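import Groth.Prelude.Def_LambdaSp
import Groth.Agent.Lib.Helper20.LambdaRing

/-!
# Helper library (helper20): the differential equation `f' = f * D` for power series over a
ℚ-algebra, and its use for pre-λ-structures in characteristic zero.
-/

set_option autoImplicit false
universe u v

open PowerSeries Finset

namespace Groth.Agent.Lib.Helper20.ODE

open LambdaRing Groth.Agent.Lib.Helper20.LR

section general
variable {K : Type u} [CommRing K]

/-- `logDerivSeries` is characterised by `λ_t' = λ_t * D`. -/
lemma derivative_lamSeries [LambdaOps K] (x : K) :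
    PowerSeries.derivative K (lamSeries x) = lamSeries x * logDerivSeries x := by
  unfold logDerivSeries
  have h : lamSeries x * (lamSeries x).invOfUnit 1 = 1 :=
    mul_invOfUnit _ 1 (by rw [constantCoeff_lamSeries]; rfl)
  calc PowerSeries.derivative K (lamSeries x)
      = PowerSeries.derivative K (lamSeries x) * (lamSeries x * (lamSeries x).invOfUnit 1) := by
        rw [h, mul_one]
    _ = _ := by ring

lemma logDerivSeries_eq_of_mul [LambdaOps K] (x : K) (D : PowerSeries K)
    (h : PowerSeries.derivative K (lamSeries x) = lamSeries x * D) : logDerivSeries x = D := by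
  unfold logDerivSeries
  have h1 : (lamSeries x).invOfUnit 1 * lamSeries x = 1 :=
    invOfUnit_mul _ 1 (by rw [constantCoeff_lamSeries]; rfl)
  rw [h]
  calc lamSeries x * D * (lamSeries x).invOfUnit 1
      = ((lamSeries x).invOfUnit 1 * lamSeries x) * D := by ring
    _ = D := by rw [h1, one_mul]

lemma coeff_logDerivSeries [LambdaOps K] (x : K) (k : ℕ) :
    coeff k (logDerivSeries x) = (-1) ^ k * adamsOp (k + 1) x := by
  change _ = (-1) ^ k * ((-1) ^ k * coeff k (logDerivSeries x))
  rw [← mul_assoc, ← mul_pow]
  simp

lemma adamsOp_succ [LambdaOps K] (x : K) (k : ℕ) :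
    adamsOp (k + 1) x = (-1) ^ k * coeff k (logDerivSeries x) := rfl

end general

section char0
variable {K : Type u} [CommRing K] [Algebra ℚ K]

lemma natCast_succ_isUnit (n : ℕ) : IsUnit ((n + 1 : ℕ) : K) := by
  have : ((n + 1 : ℕ) : K) = algebraMap ℚ K ((n + 1 : ℕ) : ℚ) := by simp
  rw [this]
  apply IsUnit.map
  exact isUnit_iff_ne_zero.mpr (by exact_mod_cast Nat.succ_ne_zero n)

/-- Uniqueness of solutions of `f' = f * D` with prescribed constant coefficient. -/
theorem ode_unique (D f g : PowerSeries K)
    (hf : PowerSeries.derivative K f = f * D) (hg : PowerSeries.derivative K g = g * D)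
    (h0 : constantCoeff f = constantCoeff g) : f = g := by
  ext n
  induction n using Nat.strong_induction_on with
  | _ n ih =>
    cases n with
    | zero => simpa using h0
    | succ n =>
      have e1 : coeff (n + 1) f * ((n + 1 : ℕ) : K) = coeff n (f * D) := by
        rw [← hf, coeff_derivative]; push_cast; ring
      have e2 : coeff (n + 1) g * ((n + 1 : ℕ) : K) = coeff n (g * D) := by
        rw [← hg, coeff_derivative]; push_cast; ring
      have e3 : coeff n (f * D) = coeff n (g * D) := by
        rw [coeff_mul, coeff_mul]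
        apply Finset.sum_congr rfl
        intro p hp
        have : p.1 < n + 1 := by
          have := Finset.mem_antidiagonal.mp hp
          omega
        rw [ih p.1 this]
      have := (natCast_succ_isUnit (K := K) n).mul_left_injective
      apply this
      change coeff (n + 1) f * ((n + 1 : ℕ) : K) = coeff (n + 1) g * ((n + 1 : ℕ) : K)
      rw [e1, e2, e3]

/-- the coefficients of the solution of `f' = f * D`, `f(0) = 1`. -/
noncomputable def solCoeff (d : ℕ → K) : ℕ → K
  | 0 => 1
  | n + 1 => algebraMap ℚ K (1 / ((n + 1 : ℕ) : ℚ)) *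
      ∑ i : Fin (n + 1), solCoeff d i.1 * d (n - i.1)
decreasing_by exact i.2

/-- the solution of `f' = f * D`, `f(0) = 1`. -/
noncomputable def sol (D : PowerSeries K) : PowerSeries K :=
  PowerSeries.mk (solCoeff fun j => coeff j D)

lemma constantCoeff_sol (D : PowerSeries K) : constantCoeff (sol D) = 1 := by
  rw [← coeff_zero_eq_constantCoeff_apply, sol, coeff_mk, solCoeff]

lemma derivative_sol (D : PowerSeries K) : PowerSeries.derivative K (sol D) = sol D * D := by
  ext n
  rw [coeff_derivative, coeff_mul, sol, coeff_mk, solCoeff,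
    Finset.Nat.sum_antidiagonal_eq_sum_range_succ_mk, Finset.sum_range]
  simp only [coeff_mk]
  have h : algebraMap ℚ K (1 / ((n + 1 : ℕ) : ℚ)) * ((n : K) + 1) = 1 := by
    have : ((n : K) + 1) = algebraMap ℚ K ((n + 1 : ℕ) : ℚ) := by simp
    rw [this, ← map_mul, one_div, inv_mul_cancel₀, map_one]
    exact_mod_cast Nat.succ_ne_zero n
  calc algebraMap ℚ K (1 / ((n + 1 : ℕ) : ℚ)) *
        (∑ i : Fin (n + 1), solCoeff (fun j => coeff j D) i.1 * coeff (n - i.1) D) * ((n : K) + 1)
      = (algebraMap ℚ K (1 / ((n + 1 : ℕ) : ℚ)) * ((n : K) + 1)) *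
        (∑ i : Fin (n + 1), solCoeff (fun j => coeff j D) i.1 * coeff (n - i.1) D) := by ring
    _ = _ := by rw [h, one_mul]

lemma sol_add (D₁ D₂ : PowerSeries K) : sol (D₁ + D₂) = sol D₁ * sol D₂ := by
  apply ode_unique (D₁ + D₂)
  · exact derivative_sol _
  · rw [Derivation.leibniz, derivative_sol, derivative_sol]
    simp only [smul_eq_mul]
    ring
  · rw [map_mul, constantCoeff_sol, constantCoeff_sol, constantCoeff_sol, one_mul]

lemma eq_sol_of_ode (D f : PowerSeries K) (hf : PowerSeries.derivative K f = f * D)
    (h0 : constantCoeff f = 1) : f = sol D :=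
  ode_unique D f (sol D) hf (derivative_sol D) (by rw [h0, constantCoeff_sol])

lemma lamSeries_eq_sol [LambdaOps K] (x : K) : lamSeries x = sol (logDerivSeries x) :=
  eq_sol_of_ode _ _ (derivative_lamSeries x) (constantCoeff_lamSeries x)

end char0

end Groth.Agent.Lib.Helper20.ODE
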