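import Groth.Agent.Lib.Helper20.SymInj
import Groth.Agent.Lib.Helper20.LamODE

/-!
# Helper library (helper20): logarithmic derivatives of power series with constant term one,
the split series `∏ (1 + a t)`, and the universal series.
-/

set_option autoImplicit false
universe u v

open Finset

namespace Groth.Agent.Lib.Helper20.Sym

open LambdaRing PowerSeries

section ld
variable {R : Type u} [CommRing R] {S : Type v} [CommRing S]

/-- logarithmic derivative of a series with constant term one -/
noncomputable def ld (f : PowerSeries R) : PowerSeries R :=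
  PowerSeries.derivative R f * f.invOfUnit 1

lemma mul_inv_of_cc {f : PowerSeries R} (hf : constantCoeff f = 1) : f * f.invOfUnit 1 = 1 :=
  mul_invOfUnit _ 1 (by rw [hf]; rfl)

lemma deriv_eq_mul_ld {f : PowerSeries R} (hf : constantCoeff f = 1) :
    PowerSeries.derivative R f = f * ld f := by
  unfold ld
  calc PowerSeries.derivative R f
      = PowerSeries.derivative R f * (f * f.invOfUnit 1) := by rw [mul_inv_of_cc hf, mul_one]
    _ = _ := by ring

lemma ld_eq_of_mul {f D : PowerSeries R} (hf : constantCoeff f = 1)
    (h : PowerSeries.derivative R f = f * D) : ld f = D := by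
  unfold ld
  rw [h]
  calc f * D * f.invOfUnit 1 = (f * f.invOfUnit 1) * D := by ring
    _ = D := by rw [mul_inv_of_cc hf, one_mul]

lemma map_derivative' (φ : R →+* S) (f : PowerSeries R) :
    PowerSeries.map φ (PowerSeries.derivative R f) =
      PowerSeries.derivative S (PowerSeries.map φ f) := by
  ext n
  rw [coeff_map, coeff_derivative, coeff_derivative, coeff_map, map_mul, map_add, map_natCast,
    map_one]

lemma constantCoeff_map' (φ : R →+* S) {f : PowerSeries R} (hf : constantCoeff f = 1) :
    constantCoeff (PowerSeries.map φ f) = 1 := by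
  rw [← coeff_zero_eq_constantCoeff_apply, coeff_map, coeff_zero_eq_constantCoeff_apply, hf,
    map_one]

lemma map_ld (φ : R →+* S) {f : PowerSeries R} (hf : constantCoeff f = 1) :
    PowerSeries.map φ (ld f) = ld (PowerSeries.map φ f) := by
  symm
  apply ld_eq_of_mul (constantCoeff_map' φ hf)
  rw [← map_derivative', deriv_eq_mul_ld hf, map_mul]

lemma ld_mul {f g : PowerSeries R} (hf : constantCoeff f = 1) (hg : constantCoeff g = 1) :
    ld (f * g) = ld f + ld g := by
  apply ld_eq_of_mul (by rw [map_mul, hf, hg, one_mul])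
  rw [Derivation.leibniz, deriv_eq_mul_ld hf, deriv_eq_mul_ld hg]
  simp only [smul_eq_mul]
  ring

lemma ld_one : ld (1 : PowerSeries R) = 0 := by
  apply ld_eq_of_mul (by simp)
  simp

lemma logDerivSeries_eq_ld [LambdaOps R] (x : R) : logDerivSeries x = ld (lamSeries x) := rfl

/-- the Newton operation: `(-1)^k` times the `k`-th coefficient of the logarithmic derivative -/
noncomputable def newt (k : ℕ) (f : PowerSeries R) : R := (-1) ^ k * coeff k (ld f)

lemma adamsOp_succ_eq_newt [LambdaOps R] (x : R) (k : ℕ) :
    adamsOp (k + 1) x = newt k (lamSeries x) := rfl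

lemma map_newt (φ : R →+* S) {f : PowerSeries R} (hf : constantCoeff f = 1) (k : ℕ) :
    φ (newt k f) = newt k (PowerSeries.map φ f) := by
  unfold newt
  rw [← map_ld φ hf, coeff_map, map_mul, map_pow, map_neg, map_one]

end ld

section split
variable {R : Type u} [CommRing R]

/-- the split series `∏ (1 + a t)` -/
noncomputable def gpS (s : Multiset R) : PowerSeries R :=
  (s.map fun a => (1 + PowerSeries.C a * PowerSeries.X : PowerSeries R)).prod

/-- the power sums of a multiset -/
def psumM (s : Multiset R) (k : ℕ) : R := (s.map fun a => a ^ k).sum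

lemma gpS_zero : gpS (0 : Multiset R) = 1 := by simp [gpS]

lemma gpS_cons (a : R) (s : Multiset R) :
    gpS (a ::ₘ s) = (1 + PowerSeries.C a * PowerSeries.X) * gpS s := by
  unfold gpS
  rw [Multiset.map_cons, Multiset.prod_cons]

lemma gpS_eq_coe (s : Multiset R) : gpS s = ((gp s : Polynomial R) : PowerSeries R) := by
  induction s using Multiset.induction_on with
  | empty => simp [gpS_zero, gp_zero]
  | cons a s ih =>
    rw [gpS_cons, gp_cons, ih]
    simp

lemma coeff_gpS (s : Multiset R) (k : ℕ) : coeff k (gpS s) = s.esymm k := by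
  rw [gpS_eq_coe, Polynomial.coeff_coe, coeff_gp]

lemma constantCoeff_gpS (s : Multiset R) : constantCoeff (gpS s) = 1 := by
  rw [← coeff_zero_eq_constantCoeff_apply, coeff_gpS, esymm_zero_right]

lemma constantCoeff_lin (a : R) :
    constantCoeff (1 + PowerSeries.C a * PowerSeries.X : PowerSeries R) = 1 := by
  simp

lemma ld_lin (a : R) : ld (1 + PowerSeries.C a * PowerSeries.X : PowerSeries R) =
    PowerSeries.mk fun j => (-1) ^ j * a ^ (j + 1) := by
  apply ld_eq_of_mul (constantCoeff_lin a)
  ext n
  rw [coeff_derivative, add_mul, one_mul, mul_assoc, map_add, map_add, coeff_C_mul, coeff_C_mul,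
    coeff_mk]
  cases n with
  | zero =>
    simp
  | succ n =>
    rw [coeff_succ_X_mul, coeff_mk]
    have h1 : coeff (n + 1 + 1) (1 : PowerSeries R) = 0 := by
      rw [coeff_one, if_neg (by omega)]
    have h2 : coeff (n + 1 + 1) (PowerSeries.X : PowerSeries R) = 0 := by
      rw [coeff_X, if_neg (by omega)]
    rw [h1, h2]
    ring

lemma psumM_zero' (k : ℕ) : psumM (0 : Multiset R) k = 0 := by simp [psumM]

lemma psumM_cons (a : R) (s : Multiset R) (k : ℕ) : psumM (a ::ₘ s) k = a ^ k + psumM s k := by
  simp [psumM]

lemma ld_gpS (s : Multiset R) :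
    ld (gpS s) = PowerSeries.mk fun j => (-1) ^ j * psumM s (j + 1) := by
  induction s using Multiset.induction_on with
  | empty =>
    rw [gpS_zero, ld_one]
    ext j
    simp [psumM_zero']
  | cons a s ih =>
    rw [gpS_cons, ld_mul (constantCoeff_lin a) (constantCoeff_gpS s), ih, ld_lin]
    ext j
    simp only [map_add, coeff_mk, psumM_cons]
    ring

lemma newt_gpS (s : Multiset R) (k : ℕ) : newt k (gpS s) = psumM s (k + 1) := by
  unfold newt
  rw [ld_gpS, coeff_mk, ← mul_assoc, ← mul_pow]
  simp

lemma map_gpS {S : Type v} [CommRing S] (φ : R →+* S) (s : Multiset R) :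
    PowerSeries.map φ (gpS s) = gpS (s.map φ) := by
  ext k
  rw [coeff_map, coeff_gpS, coeff_gpS, map_esymm]

end split

end Groth.Agent.Lib.Helper20.Sym
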