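import Groth.Agent.Lib.Helper20.SymUniv

/-!
# Helper library (helper20): one family of variables, the polynomials `compGen`
-/

set_option autoImplicit false
universe u v

open Finset MvPolynomial

namespace Groth.Agent.Lib.Helper20.Sym

open LambdaRing

/-- `ℤ[T_1..T_N]` -/
abbrev Om1 (N : ℕ) := MvPolynomial (Fin N) ℤ

/-- the substitution `X_k ↦ e_{k+1}(T)` -/
noncomputable def Emap (N n : ℕ) : MvPolynomial (Fin n) ℤ →ₐ[ℤ] Om1 N :=
  aeval (fun k : Fin n => esymm (Fin N) ℤ ((k : ℕ) + 1))

lemma isCompPoly_iff (i j : ℕ) (Q : MvPolynomial (Fin (i * j)) ℤ) :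
    IsCompPoly i j Q ↔ Emap (i * j) (i * j) Q = compGen (i * j) i j ∧
      IsWeightedHomogeneous (fun k : Fin (i * j) => (k : ℕ) + 1) Q (i * j) := Iff.rfl

lemma esymm_eq' (N k : ℕ) :
    esymm (Fin N) ℤ k = (Finset.univ.val.map fun a : Fin N => (X a : Om1 N)).esymm k := by
  rw [esymm_eq_multiset_esymm]

section killing1
variable {n N : ℕ} (h : n ≤ N)

/-- kill the variables of index `≥ n` -/
noncomputable def kill1 : Om1 N →ₐ[ℤ] Om1 n := killCompl (Fin.castLE_injective h)

lemma kill1_X_castLE (a : Fin n) : kill1 h (X (Fin.castLE h a)) = X a :=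
  killCompl_X_apply (Fin.castLE_injective h) a

lemma kill1_X_of_notMem (a : Fin N) (ha : a ∉ Set.range (Fin.castLE h)) :
    kill1 h (X a) = 0 :=
  killCompl_X_of_notMem _ a ha

lemma kill1_esymm (k : ℕ) : kill1 h (esymm (Fin N) ℤ k) = esymm (Fin n) ℤ k := by
  classical
  rw [esymm_eq', esymm_eq']
  have := map_esymm (kill1 h).toRingHom
    (Finset.univ.val.map fun a : Fin N => (X a : Om1 N)) k
  simp only [AlgHom.toRingHom_eq_coe, RingHom.coe_coe] at this
  rw [this, Multiset.map_map,
    esymm_univ_of_zero_off_range (Fin.castLE h) (Fin.castLE_injective h) _ _ k]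
  · congr 1
    apply Multiset.map_congr rfl
    intro a _
    exact kill1_X_castLE h a
  · intro a ha
    exact kill1_X_of_notMem h a ha

lemma kill1_Emap (m : ℕ) (Q : MvPolynomial (Fin m) ℤ) :
    kill1 h (Emap N m Q) = Emap n m Q := by
  unfold Emap
  rw [← AlgHom.comp_apply, comp_aeval]
  congr 2
  funext i
  exact kill1_esymm h _

lemma kill1_compGen (i j : ℕ) : kill1 h (compGen N i j) = compGen n i j := by
  classical
  unfold compGen
  have := map_esymm (kill1 h).toRingHom
    (((Finset.univ : Finset (Fin N)).powersetCard i).val.map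
      fun s => (∏ a ∈ s, X a : Om1 N)) j
  simp only [AlgHom.toRingHom_eq_coe, RingHom.coe_coe] at this
  rw [this, Multiset.map_map]
  have hmap : ((Finset.univ : Finset (Fin n)).powersetCard i).map
      (Finset.mapEmbedding (Fin.castLEEmb h)).toEmbedding =
      ((Finset.univ : Finset (Fin n)).map (Fin.castLEEmb h)).powersetCard i :=
    (Finset.powersetCard_map _ _ _).symm
  rw [esymm_finset_of_zero_off ((Finset.univ : Finset (Fin N)).powersetCard i)
    ((Finset.univ : Finset (Fin n)).powersetCard i)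
    (Finset.mapEmbedding (Fin.castLEEmb h)).toEmbedding _ _ _ j]
  · congr 1
    apply Multiset.map_congr rfl
    intro s _
    simp only [Function.comp_apply, RelEmbedding.coe_toEmbedding, Finset.mapEmbedding_apply,
      map_prod, Finset.prod_map, Fin.castLEEmb_apply]
    apply Finset.prod_congr rfl
    intro a _
    exact kill1_X_castLE h a
  · rw [hmap]
    exact Finset.powersetCard_mono (Finset.subset_univ _)
  · intro s hs hs'
    rw [hmap, Finset.mem_powersetCard] at hs'
    have hc : s.card = i := (Finset.mem_powersetCard.mp hs).2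
    have : ¬ s ⊆ (Finset.univ : Finset (Fin n)).map (Fin.castLEEmb h) :=
      fun hsub => hs' ⟨hsub, hc⟩
    rw [Finset.not_subset] at this
    obtain ⟨a, has, ha⟩ := this
    simp only [Function.comp_apply, map_prod]
    apply Finset.prod_eq_zero has
    apply kill1_X_of_notMem
    rintro ⟨b, rfl⟩
    apply ha
    rw [Finset.mem_map]
    exact ⟨b, Finset.mem_univ _, rfl⟩

end killing1

section symmetry1
variable {N : ℕ}

lemma rename_Emap (e : Equiv.Perm (Fin N)) (m : ℕ) (Q : MvPolynomial (Fin m) ℤ) :
    rename e (Emap N m Q) = Emap N m Q := by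
  unfold Emap
  rw [← AlgHom.comp_apply, comp_aeval]
  congr 2
  funext i
  exact rename_esymm _ _ _ e

lemma rename_compGen (e : Equiv.Perm (Fin N)) (i j : ℕ) :
    rename e (compGen N i j) = compGen N i j := by
  classical
  unfold compGen
  have := map_esymm (rename e : Om1 N →ₐ[ℤ] Om1 N).toRingHom
    (((Finset.univ : Finset (Fin N)).powersetCard i).val.map
      fun s => (∏ a ∈ s, X a : Om1 N)) j
  simp only [AlgHom.toRingHom_eq_coe, RingHom.coe_coe] at this
  rw [this, Multiset.map_map]
  congr 1
  have h2 : ((⇑(rename e : Om1 N →ₐ[ℤ] Om1 N)) ∘ fun s : Finset (Fin N) => (∏ a ∈ s, X a : Om1 N)) =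
      (fun s : Finset (Fin N) => (∏ a ∈ s, X a : Om1 N)) ∘
        (Finset.mapEmbedding e.toEmbedding).toEmbedding := by
    funext s
    simp only [Function.comp_apply, map_prod, rename_X, RelEmbedding.coe_toEmbedding,
      Finset.mapEmbedding_apply, Finset.prod_map, Equiv.coe_toEmbedding]
  rw [h2, ← Multiset.map_map]
  congr 1
  rw [← Finset.map_val, ← Finset.powersetCard_map]
  congr 2
  exact Finset.map_univ_equiv e

end symmetry1

section weights1
variable {N : ℕ}

lemma isWeightedHomogeneous_esymm (k : ℕ) :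
    IsWeightedHomogeneous (fun _ : Fin N => 1) (esymm (Fin N) ℤ k) k := by
  unfold esymm
  apply IsWeightedHomogeneous.sum
  intro t ht
  have hc : t.card = k := (Finset.mem_powersetCard.mp ht).2
  have : k = ∑ _i ∈ t, 1 := by rw [Finset.sum_const, hc]; simp
  rw [this]
  apply IsWeightedHomogeneous.prod
  intro i _
  exact isWeightedHomogeneous_X ℤ (fun _ : Fin N => 1) i

lemma isWeightedHomogeneous_compGen (i j : ℕ) :
    IsWeightedHomogeneous (fun _ : Fin N => 1) (compGen N i j) (i * j) := by
  unfold compGen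
  rw [Finset.esymm_map_val]
  apply IsWeightedHomogeneous.sum
  intro u hu
  have hc : u.card = j := (Finset.mem_powersetCard.mp hu).2
  have hsub : u ⊆ (Finset.univ : Finset (Fin N)).powersetCard i :=
    (Finset.mem_powersetCard.mp hu).1
  have : i * j = ∑ _s ∈ u, i := by rw [Finset.sum_const, hc]; simp [mul_comm]
  rw [this]
  apply IsWeightedHomogeneous.prod
  intro s hs
  have hcs : s.card = i := (Finset.mem_powersetCard.mp (hsub hs)).2
  have : i = ∑ _a ∈ s, 1 := by rw [Finset.sum_const, hcs]; simp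
  rw [this]
  apply IsWeightedHomogeneous.prod
  intro a _
  exact isWeightedHomogeneous_X ℤ (fun _ : Fin N => 1) a

lemma isWeightedHomogeneous_Emap {n : ℕ} {Q : MvPolynomial (Fin n) ℤ} {m : ℕ}
    (hQ : IsWeightedHomogeneous (fun k : Fin n => (k : ℕ) + 1) Q m) :
    IsWeightedHomogeneous (fun _ : Fin N => 1) (Emap N n Q) m := by
  unfold Emap
  apply isWeightedHomogeneous_aeval_int _ _ hQ
  intro i
  exact isWeightedHomogeneous_esymm _

end weights1

section extension1

lemma eq_zero_of_kill1_eq_zero {n N : ℕ} (h : n ≤ N) (F : Om1 N)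
    (hsym : ∀ e : Equiv.Perm (Fin N), rename e F = F)
    (hw : IsWeightedHomogeneous (fun _ : Fin N => 1) F n) (hk : kill1 h F = 0) : F = 0 := by
  classical
  apply eq_zero_of_killCompl_eq_zero (Fin.castLE_injective h) F _ hk
  intro m hm
  have hwm := hw (MvPolynomial.mem_support_iff.mp hm)
  rw [Finsupp.weight_eq_sum] at hwm
  have h1 : ∑ a, m a = n := by simpa using hwm
  let s₁ : Finset (Fin N) := Finset.univ.filter fun a => m a ≠ 0
  let t : Finset (Fin N) := Finset.univ.filter fun a => (a : ℕ) < n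
  have ht : t.card = n := by
    have : t = Finset.univ.map (Fin.castLEEmb h) := by
      ext a
      simp only [t, Finset.mem_filter, Finset.mem_univ, true_and, Finset.mem_map,
        Fin.castLEEmb_apply]
      constructor
      · intro ha
        exact ⟨⟨a, ha⟩, by ext; simp⟩
      · rintro ⟨b, rfl⟩
        simp
    rw [this, Finset.card_map, Finset.card_univ, Fintype.card_fin]
  have hc₁ : s₁.card ≤ t.card := by
    rw [ht, ← h1, Finset.card_eq_sum_ones]
    calc ∑ _a ∈ s₁, 1 ≤ ∑ a ∈ s₁, m a := by
          apply Finset.sum_le_sum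
          intro a ha
          have : m a ≠ 0 := (Finset.mem_filter.mp ha).2
          omega
      _ ≤ ∑ a, m a := Finset.sum_le_univ_sum_of_nonneg (fun _ => Nat.zero_le _)
  obtain ⟨e₁, he₁⟩ := exists_perm_map_subset s₁ t hc₁
  refine ⟨e₁, hsym e₁, ?_⟩
  intro a ha
  have hma : m a ≠ 0 := Finsupp.mem_support_iff.mp ha
  have := he₁ a (Finset.mem_filter.mpr ⟨Finset.mem_univ _, hma⟩)
  have hlt : ((e₁ a : Fin N) : ℕ) < n := (Finset.mem_filter.mp this).2
  exact ⟨⟨e₁ a, hlt⟩, by ext; simp⟩

theorem Emap_eq_compGen (i j N : ℕ) (Q : MvPolynomial (Fin (i * j)) ℤ)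
    (hQ : IsCompPoly i j Q) : Emap N (i * j) Q = compGen N i j := by
  rw [isCompPoly_iff] at hQ
  rcases le_total (i * j) N with h | h
  · rw [← sub_eq_zero]
    apply eq_zero_of_kill1_eq_zero h
    · intro e
      rw [map_sub, rename_Emap, rename_compGen]
    · exact (isWeightedHomogeneous_Emap hQ.2).sub (isWeightedHomogeneous_compGen i j)
    · rw [map_sub, kill1_Emap, kill1_compGen, hQ.1, sub_self]
  · rw [← kill1_Emap h, hQ.1, kill1_compGen]

end extension1

end Groth.Agent.Lib.Helper20.Sym
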