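import Groth.Agent.Lib.Helper20.GammaFiltPos
import Groth.Agent.Lib.Helper20.GammaFil
import Groth.Agent.Lib.Helper20.SymUnivQ
import Groth.Agent.Lib.Helper20.SymInj
import Groth.Agent.Lib.Helper20.SymSeries
import Groth.Agent.S8651
import Groth.Agent.S3285
import Mathlib.RingTheory.MvPolynomial.Ideal
import Mathlib.RingTheory.MvPolynomial.Symmetric.FundamentalTheorem

/-!
# Helper library (helper20): Adams operations act by `j^n` on `F^n / F^(n+1)`
-/

set_option autoImplicit false
universe u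

open Finset

namespace Groth.Agent.Lib.Helper20.AF

open LambdaRing Groth.Agent.Lib.Helper20.LR Groth.Agent.Lib.Helper20.Sym

section poly
open MvPolynomial
variable (n : ℕ)

/-- `A_i = (1 + X_i)^j - 1` -/
noncomputable def Apoly (j : ℕ) (i : Fin n) : Om1 n := (1 + X i) ^ j - 1

/-- `e_a((1+X_i)^j - 1) - j^a e_a(X_i)` -/
noncomputable def F0 (j a : ℕ) : Om1 n :=
  aeval (Apoly n j) (esymm (Fin n) ℤ a) - C ((j : ℤ) ^ a) * esymm (Fin n) ℤ a

lemma F0_symm (j a : ℕ) : (F0 n j a).IsSymmetric := by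
  apply IsSymmetric.sub
  · intro σ
    rw [comp_aeval_apply]
    have : (fun i => rename σ (Apoly n j i)) = (Apoly n j) ∘ σ := by
      funext i
      simp [Apoly]
    rw [this, ← aeval_rename, esymm_isSymmetric]
  · exact (IsSymmetric.C _).mul (esymm_isSymmetric _ _ _)

lemma Apoly_eq (j : ℕ) (i : Fin n) :
    Apoly n j i = (∑ k ∈ range j, (1 + X i : Om1 n) ^ k) * X i := by
  unfold Apoly
  have := geom_sum_mul (1 + X i : Om1 n) j
  rw [← this]
  ring

lemma mem_idealOfVars_of_constantCoeff (p : Om1 n) (hp : constantCoeff p = 0) :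
    p ∈ idealOfVars (Fin n) ℤ := by
  have := (mem_pow_idealOfVars_iff' 1 p).mpr (by
    intro x hx
    have hx0 : x = 0 := by
      rw [← Finsupp.degree_eq_zero_iff]
      omega
    rw [hx0]
    exact hp)
  rwa [pow_one] at this

lemma F0_mem (j a : ℕ) : F0 n j a ∈ idealOfVars (Fin n) ℤ ^ (a + 1) := by
  have h : F0 n j a = ∑ t ∈ powersetCard a (univ : Finset (Fin n)),
      (∏ i ∈ t, (∑ k ∈ range j, (1 + X i : Om1 n) ^ k) - C ((j : ℤ) ^ a)) * ∏ i ∈ t, X i := by
    unfold F0 esymm
    rw [map_sum, Finset.mul_sum, ← Finset.sum_sub_distrib]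
    apply Finset.sum_congr rfl
    intro t _
    rw [map_prod]
    simp only [aeval_X]
    rw [Finset.prod_congr rfl (fun i _ => Apoly_eq n j i), Finset.prod_mul_distrib]
    ring
  rw [h]
  apply Ideal.sum_mem
  intro t ht
  have hc : t.card = a := (Finset.mem_powersetCard.mp ht).2
  rw [pow_succ']
  apply Ideal.mul_mem_mul
  · apply mem_idealOfVars_of_constantCoeff
    rw [map_sub, map_prod, constantCoeff_C]
    have : ∀ i ∈ t, constantCoeff (∑ k ∈ range j, (1 + X i : Om1 n) ^ k) = (j : ℤ) := by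
      intro i _
      simp
    rw [Finset.prod_congr rfl this, Finset.prod_const, hc, sub_self]
  · have : ∏ i ∈ t, (X i : Om1 n) ∈ ∏ _i ∈ t, idealOfVars (Fin n) ℤ := by
      apply Ideal.prod_mem_prod
      intro i _
      exact Ideal.subset_span ⟨i, rfl⟩
    rwa [Finset.prod_const, hc] at this

lemma Emap_injective : Function.Injective (Emap n n) := by
  have := algebraicIndependent_esymm ℤ (le_refl n)
  rw [algebraicIndependent_iff_injective_aeval] at this
  exact this

/-- a symmetric polynomial all of whose monomials have degree `≥ a` is a polynomial in the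
elementary symmetric polynomials all of whose monomials have weight `≥ a` -/
lemma exists_G (a : ℕ) (F : Om1 n) (hs : F.IsSymmetric)
    (hF : F ∈ idealOfVars (Fin n) ℤ ^ a) :
    ∃ G : MvPolynomial (Fin n) ℤ, Emap n n G = F ∧
      ∀ d ∈ G.support, a ≤ Finsupp.weight (fun k : Fin n => (k : ℕ) + 1) d := by
  classical
  obtain ⟨G, hG⟩ := (esymmAlgHom_fin_bijective ℤ n).2 ⟨F, hs⟩
  have hG' : Emap n n G = F := by
    have := congrArg Subtype.val hG
    rw [esymmAlgHom_apply] at this
    exact this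
  refine ⟨G, hG', fun d hd => ?_⟩
  by_contra hlt
  push_neg at hlt
  have h1 : weightedHomogeneousComponent (fun _ : Fin n => (1 : ℕ))
      (Finsupp.weight (fun k : Fin n => (k : ℕ) + 1) d) F = 0 := by
    ext x
    rw [coeff_weightedHomogeneousComponent, coeff_zero]
    split_ifs with hx
    · apply (mem_pow_idealOfVars_iff' _ _).mp hF x
      rw [Finsupp.degree_eq_weight_one]
      exact lt_of_eq_of_lt hx hlt
    · rfl
  have h2 := whc_aeval_int (fun k : Fin n => (k : ℕ) + 1) (fun _ : Fin n => (1 : ℕ))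
    (fun k : Fin n => esymm (Fin n) ℤ ((k : ℕ) + 1)) (fun i => isWeightedHomogeneous_esymm _) G
    (Finsupp.weight (fun k : Fin n => (k : ℕ) + 1) d)
  have hE : aeval (fun k : Fin n => esymm (Fin n) ℤ ((k : ℕ) + 1)) G = F := hG'
  rw [hE, h1] at h2
  have h3 : weightedHomogeneousComponent (fun k : Fin n => (k : ℕ) + 1)
      (Finsupp.weight (fun k : Fin n => (k : ℕ) + 1) d) G = 0 := by
    apply Emap_injective n
    rw [map_zero]
    exact h2.symm
  have := congrArg (coeff d) h3
  rw [coeff_weightedHomogeneousComponent, if_pos rfl, coeff_zero] at this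
  exact (mem_support_iff.mp hd) this

end poly

section filt
variable {K : Type u} [CommRing K] [LambdaOps K] (P : PosStructure K)

lemma one_mem : (1 : K) ∈ gammaFiltration P 0 := by
  rw [GFP.filt_zero]; trivial

lemma pow_mem {x : K} {w : ℕ} (h : x ∈ gammaFiltration P w) (k : ℕ) :
    x ^ k ∈ gammaFiltration P (k * w) := by
  induction k with
  | zero => rw [pow_zero, Nat.zero_mul]; exact one_mem P
  | succ k ih => rw [pow_succ, Nat.succ_mul]; exact GFP.mul_mem P ih h

lemma prod_mem {ι : Type*} (s : Finset ι) (f : ι → K) (w : ι → ℕ)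
    (h : ∀ i ∈ s, f i ∈ gammaFiltration P (w i)) :
    ∏ i ∈ s, f i ∈ gammaFiltration P (∑ i ∈ s, w i) := by
  classical
  induction s using Finset.induction_on with
  | empty => rw [Finset.prod_empty, Finset.sum_empty]; exact one_mem P
  | insert a s ha ih =>
    rw [Finset.prod_insert ha, Finset.sum_insert ha]
    exact GFP.mul_mem P (h a (mem_insert_self a s)) (ih fun i hi => h i (mem_insert_of_mem hi))

lemma aeval_gamma_mem (z : K) (hz : P.aug z = 0) (n a : ℕ) (G : MvPolynomial (Fin n) ℤ)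
    (hG : ∀ d ∈ G.support, a ≤ Finsupp.weight (fun k : Fin n => (k : ℕ) + 1) d) :
    MvPolynomial.aeval (fun k : Fin n => gamma ((k : ℕ) + 1) z) G ∈ gammaFiltration P a := by
  rw [G.as_sum, map_sum]
  apply AddSubgroup.sum_mem
  intro d hd
  rw [MvPolynomial.aeval_monomial]
  apply GFP.smul_mem
  apply GFP.filt_anti P (hG d hd)
  rw [Finsupp.prod, Finsupp.weight_apply, Finsupp.sum]
  apply prod_mem
  intro i _
  rw [smul_eq_mul]
  exact pow_mem P (GFP.gamma_mem P hz _) _

end filt

section core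
open MvPolynomial
variable {K L : Type u} [CommRing K] [LambdaOps K] [CommRing L] [LambdaOps L]

lemma core_aux (P : PosStructure K) (P' : PosStructure L) (g : K →+* L)
    (hg : IsExtension P P' g) (ψ' : L →+* L) (j : ℕ) (hψ' : ∀ x, ψ' x = adams P' j x)
    (n : ℕ) (y : Fin n → L) (hy : ∀ i, P'.IsLine (y i)) (e : K) (hse : g e = ∑ i, y i) (a : ℕ) :
    adams P j (gamma a (e - (n : K))) - (j : K) ^ a * gamma a (e - (n : K)) ∈
      gammaFiltration P (a + 1) := by
  classical
  have haug : P.aug (e - (n : K)) = 0 := by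
    rw [map_sub, map_natCast, ← hg.aug_comp, hse, map_sum,
      Finset.sum_congr rfl (fun i _ => (hy i).2)]
    simp
  have h1 : ∀ k : ℕ, 2 ≤ k → LambdaOps.lam k (1 : L) = 0 := by
    intro k hk
    have hone : (1 : L) ∈ P'.pos := by
      have := P'.natCast_mem 1 Nat.one_pos
      simpa using this
    apply P'.lam_eq_zero 1 hone k
    rw [map_one]
    exact_mod_cast hk
  have hyl : ∀ (i : Fin n) (k : ℕ), 2 ≤ k → LambdaOps.lam k (y i) = 0 := by
    intro i k hk
    apply P'.lam_eq_zero (y i) (hy i).1 k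
    rw [(hy i).2]
    exact_mod_cast hk
  have hgk : ∀ k : ℕ, g (gamma k (e - (n : K))) =
      aeval (fun i => y i - 1) (esymm (Fin n) ℤ k) := by
    intro k
    rw [GFP.map_gamma g hg.isLambdaHom, map_sub, map_natCast, hse,
      Groth.Agent.S8651.result L h1 n y hyl k]
    unfold esymm
    rw [map_sum]
    apply Finset.sum_congr rfl
    intro t _
    rw [map_prod]
    simp only [aeval_X]
  obtain ⟨G, hG1, hG2⟩ := exists_G n (a + 1) (F0 n j a) (F0_symm n j a) (F0_mem n j a)
  have key : adams P j (gamma a (e - (n : K))) - (j : K) ^ a * gamma a (e - (n : K)) =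
      aeval (fun k : Fin n => gamma ((k : ℕ) + 1) (e - (n : K))) G := by
    apply hg.injective
    have hR : g (aeval (fun k : Fin n => gamma ((k : ℕ) + 1) (e - (n : K))) G) =
        aeval (fun i => y i - 1) (F0 n j a) := by
      have e1 : g (aeval (fun k : Fin n => gamma ((k : ℕ) + 1) (e - (n : K))) G) =
          g.toIntAlgHom (aeval (fun k : Fin n => gamma ((k : ℕ) + 1) (e - (n : K))) G) := rfl
      rw [e1, comp_aeval_apply, ← hG1]
      unfold Emap
      rw [comp_aeval_apply]
      have e2 : (fun k : Fin n => g.toIntAlgHom (gamma ((k : ℕ) + 1) (e - (n : K)))) =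
          fun k : Fin n => aeval (fun i => y i - 1) (esymm (Fin n) ℤ ((k : ℕ) + 1)) :=
        funext fun k => hgk _
      rw [e2]
    have hL : ψ' (aeval (fun i => y i - 1) (esymm (Fin n) ℤ a)) =
        aeval (fun i => y i - 1) (aeval (Apoly n j) (esymm (Fin n) ℤ a)) := by
      have e1 : ψ' (aeval (fun i => y i - 1) (esymm (Fin n) ℤ a)) =
          ψ'.toIntAlgHom (aeval (fun i => y i - 1) (esymm (Fin n) ℤ a)) := rfl
      rw [e1, comp_aeval_apply, comp_aeval_apply]
      have e2 : (fun i : Fin n => ψ'.toIntAlgHom (y i - 1)) =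
          fun i : Fin n => aeval (fun i => y i - 1) (Apoly n j i) := by
        funext i
        change ψ' (y i - 1) = _
        rw [map_sub, map_one, hψ', adams_line P' (hy i)]
        unfold Apoly
        simp
      rw [e2]
    rw [hR, map_sub, map_mul, map_pow, map_natCast, map_adams g hg, hgk a, ← hψ', hL]
    unfold F0
    rw [map_sub, map_mul, aeval_C]
    simp
  rw [key]
  exact aeval_gamma_mem P _ haug n (a + 1) G hG2

end core

section eig
variable {K : Type u} [CommRing K] [LambdaOps K] (P : PosStructure K) (j : ℕ) (ψ : K →+* K)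

/-- `x ∈ F^w` and `ψ x ≡ j^w x` modulo `F^(w+1)` -/
def Eig (w : ℕ) (x : K) : Prop :=
  x ∈ gammaFiltration P w ∧ ψ x - (j : K) ^ w * x ∈ gammaFiltration P (w + 1)

variable {P j ψ}

lemma Eig.zero (w : ℕ) : Eig P j ψ w 0 := by
  refine ⟨AddSubgroup.zero_mem _, ?_⟩
  rw [map_zero, mul_zero, sub_zero]
  exact AddSubgroup.zero_mem _

lemma Eig.add {w : ℕ} {x y : K} (hx : Eig P j ψ w x) (hy : Eig P j ψ w y) :
    Eig P j ψ w (x + y) := by
  refine ⟨AddSubgroup.add_mem _ hx.1 hy.1, ?_⟩
  have : ψ (x + y) - (j : K) ^ w * (x + y) =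
      (ψ x - (j : K) ^ w * x) + (ψ y - (j : K) ^ w * y) := by
    rw [map_add]; ring
  rw [this]
  exact AddSubgroup.add_mem _ hx.2 hy.2

lemma Eig.neg {w : ℕ} {x : K} (hx : Eig P j ψ w x) : Eig P j ψ w (-x) := by
  refine ⟨AddSubgroup.neg_mem _ hx.1, ?_⟩
  have : ψ (-x) - (j : K) ^ w * (-x) = -(ψ x - (j : K) ^ w * x) := by
    rw [map_neg]; ring
  rw [this]
  exact AddSubgroup.neg_mem _ hx.2

lemma Eig.sum {ι : Type*} {w : ℕ} (s : Finset ι) (f : ι → K)
    (h : ∀ i ∈ s, Eig P j ψ w (f i)) : Eig P j ψ w (∑ i ∈ s, f i) := by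
  classical
  induction s using Finset.induction_on with
  | empty => rw [Finset.sum_empty]; exact Eig.zero w
  | insert a s ha ih =>
    rw [Finset.sum_insert ha]
    exact (h a (mem_insert_self a s)).add (ih fun i hi => h i (mem_insert_of_mem hi))

lemma Eig.one : Eig P j ψ 0 1 := by
  refine ⟨one_mem P, ?_⟩
  rw [map_one, pow_zero, mul_one, sub_self]
  exact AddSubgroup.zero_mem _

lemma Eig.intCast (c : ℤ) : Eig P j ψ 0 (c : K) := by
  refine ⟨by rw [GFP.filt_zero]; trivial, ?_⟩
  rw [map_intCast, pow_zero, one_mul, sub_self]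
  exact AddSubgroup.zero_mem _

lemma Eig.map_mem {w : ℕ} {x : K} (hx : Eig P j ψ w x) : ψ x ∈ gammaFiltration P w := by
  have : ψ x = (ψ x - (j : K) ^ w * x) + (j : K) ^ w * x := by ring
  rw [this]
  exact AddSubgroup.add_mem _ (GFP.filt_anti P (Nat.le_succ w) hx.2) (GFP.smul_mem P _ hx.1)

lemma Eig.mul {w w' : ℕ} {x y : K} (hx : Eig P j ψ w x) (hy : Eig P j ψ w' y) :
    Eig P j ψ (w + w') (x * y) := by
  refine ⟨GFP.mul_mem P hx.1 hy.1, ?_⟩
  have : ψ (x * y) - (j : K) ^ (w + w') * (x * y) =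
      (ψ x - (j : K) ^ w * x) * ψ y + ((j : K) ^ w * x) * (ψ y - (j : K) ^ w' * y) := by
    rw [map_mul, pow_add]; ring
  rw [this]
  apply AddSubgroup.add_mem
  · have := GFP.mul_mem P hx.2 hy.map_mem
    have e : w + 1 + w' = w + w' + 1 := by omega
    rwa [e] at this
  · have := GFP.mul_mem P (GFP.smul_mem P ((j : K) ^ w) hx.1) hy.2
    rwa [← add_assoc] at this

lemma Eig.weaken {w w' : ℕ} {x : K} (hx : Eig P j ψ w' x) (h : w ≤ w') : Eig P j ψ w x := by
  rcases h.eq_or_lt with rfl | hlt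
  · exact hx
  refine ⟨GFP.filt_anti P h hx.1, ?_⟩
  have : ψ x - (j : K) ^ w * x =
      (ψ x - (j : K) ^ w' * x) + ((j : K) ^ w' - (j : K) ^ w) * x := by ring
  rw [this]
  apply AddSubgroup.add_mem
  · exact GFP.filt_anti P (by omega) hx.2
  · exact GFP.filt_anti P (by omega) (GFP.smul_mem P _ hx.1)

lemma eig_gamma_neg {z : K} (hz : ∀ c, Eig P j ψ c (gamma c z)) (b : ℕ) :
    Eig P j ψ b (gamma b (-z)) := by
  induction b using Nat.strong_induction_on with
  | _ b ih =>
    rcases Nat.eq_zero_or_pos b with rfl | hb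
    · rw [GF.gamma_zero_left]; exact Eig.one
    · rw [GF.gamma_neg_rec z hb]
      apply Eig.neg
      apply Eig.sum
      intro i hi
      have hi' := Finset.mem_range.mp hi
      have := (hz (b - i)).mul (ih i hi')
      have e : b - i + i = b := by omega
      rwa [e] at this

lemma eig_list (hgam : ∀ y, P.aug y = 0 → ∀ r, Eig P j ψ r (gamma r y)) (l : List (ℕ × K))
    (h1 : ∀ p ∈ l, P.aug p.2 = 0) :
    Eig P j ψ (l.map Prod.fst).sum (l.map fun p => gamma p.1 p.2).prod := by
  induction l with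
  | nil => simpa using (Eig.one (P := P) (j := j) (ψ := ψ))
  | cons p l ih =>
    rw [List.map_cons, List.sum_cons, List.map_cons, List.prod_cons]
    exact (hgam p.2 (h1 p List.mem_cons_self) p.1).mul
      (ih fun q hq => h1 q (List.mem_cons_of_mem _ hq))

end eig

section main
variable {K : Type u} [CommRing K] [LambdaOps K] (P : PosStructure K)

lemma core (hK : HasSplitting K P) (j : ℕ) (e : K) (he : e ∈ P.pos) (a : ℕ) :
    adams P j (gamma a (e - ((P.aug e).toNat : K))) -
        (j : K) ^ a * gamma a (e - ((P.aug e).toNat : K)) ∈ gammaFiltration P (a + 1) := by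
  obtain ⟨C, hKC, hC⟩ := hK
  obtain ⟨L', hL', g, hg, s, hs, hse⟩ := hC ⟨K, P⟩ hKC e he
  obtain ⟨ψ', hψ'⟩ := Groth.Agent.S3285.result L'.carrier L'.posStr ⟨C, hL', hC⟩ j
  have hsl : (Finset.univ.val.map s.toList.get) = s := by
    rw [Fin.univ_val_map, List.ofFn_get, Multiset.coe_toList]
  have hy : ∀ i, L'.posStr.IsLine (s.toList.get i) := fun i =>
    hs _ (Multiset.mem_toList.mp (List.get_mem _ _))
  have hsum : g e = ∑ i, s.toList.get i := by
    rw [← hse]
    conv_lhs => rw [← hsl]
    rfl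
  have hcard : ((P.aug e).toNat : K) = (s.toList.length : K) := by
    have h1 := aug_multiset_sum_lines L'.posStr s hs
    rw [hse, hg.aug_comp] at h1
    rw [h1]
    simp
  rw [hcard]
  exact core_aux P L'.posStr g hg ψ' j hψ' s.toList.length s.toList.get hy e hsum a

lemma eig_gamma (hK : HasSplitting K P) (j : ℕ) (ψ : K →+* K) (hψ : ∀ x, ψ x = adams P j x)
    (y : K) (hy : P.aug y = 0) (r : ℕ) : Eig P j ψ r (gamma r y) := by
  have key : ∀ e ∈ P.pos, ∀ c, Eig P j ψ c (gamma c (e - ((P.aug e).toNat : K))) := by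
    intro e he c
    refine ⟨GFP.gamma_mem P ?_ c, ?_⟩
    · have hpos := P.aug_pos e he
      rw [map_sub, map_natCast, Int.toNat_of_nonneg hpos.le, sub_self]
    · rw [hψ]
      exact core P hK j e he c
  obtain ⟨e, f, he, hf, rfl⟩ := P.exists_sub y
  have hm : P.aug e = P.aug f := by
    rw [map_sub] at hy
    exact sub_eq_zero.mp hy
  have : e - f = (e - ((P.aug e).toNat : K)) + -(f - ((P.aug f).toNat : K)) := by
    rw [hm]; ring
  rw [this, gamma_add]
  apply Eig.sum
  intro i hi
  have hi' : i ≤ r := by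
    have := Finset.mem_range.mp hi
    omega
  have := (key e he i).mul (eig_gamma_neg (key f hf) (r - i))
  have e1 : i + (r - i) = r := by omega
  rwa [e1] at this

theorem adams_sub_mem (hK : HasSplitting K P) (j n : ℕ) (x : K)
    (hx : x ∈ gammaFiltration P n) :
    adams P j x - (j : K) ^ n * x ∈ gammaFiltration P (n + 1) := by
  obtain ⟨ψ, hψ⟩ := Groth.Agent.S3285.result K P hK j
  rw [← hψ]
  suffices h : Eig P j ψ n x from h.2
  have hgam := eig_gamma P hK j ψ hψ
  by_cases hn : n = 0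
  · subst hn
    have hy : P.aug (x - ((P.aug x : ℤ) : K)) = 0 := by
      rw [map_sub, map_intCast]
      simp
    have h1 : Eig P j ψ 1 (x - ((P.aug x : ℤ) : K)) := by
      have := hgam _ hy 1
      rwa [GF.gamma_one_left] at this
    have h2 := (h1.weaken (Nat.zero_le 1)).add (Eig.intCast (P := P) (j := j) (ψ := ψ) (P.aug x))
    rwa [sub_add_cancel] at h2
  · rw [Groth.Agent.S3291.filt_succ P n hn] at hx
    refine AddSubgroup.closure_induction ?_ ?_ ?_ ?_ hx
    · rintro y ⟨l, h1, h2, rfl⟩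
      exact (eig_list hgam l h1).weaken h2
    · exact Eig.zero n
    · intro a b _ _ iha ihb
      exact iha.add ihb
    · intro a _ iha
      exact iha.neg

end main

end Groth.Agent.Lib.Helper20.AF
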