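import Groth.Agent.Lib.Helper20.LambdaRing
import Groth.Agent.Lib.Helper20.PolyReflect
import Groth.Prelude.Def_W4bkmilneecrracsp2Inv

/-!
# Helper library (helper20): λ-operations of sums of line elements and an involution
-/

set_option autoImplicit false
universe u

open Finset Polynomial

namespace Groth.Agent.Lib.Helper20.LR

open LambdaRing

section poly
variable {K : Type u} [CommRing K]

/-- `Π (1 + v X)` -/
noncomputable def aPoly (s : Multiset K) : K[X] := (s.map fun v => (1 + C v * X : K[X])).prod

lemma aPoly_cons (a : K) (s : Multiset K) : aPoly (a ::ₘ s) = (1 + C a * X) * aPoly s := by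
  unfold aPoly
  rw [Multiset.map_cons, Multiset.prod_cons]

lemma natDegree_lin_le (a : K) : (1 + C a * X : K[X]).natDegree ≤ 1 :=
  (natDegree_add_le _ _).trans (max_le (by simp) ((natDegree_C_mul_le _ _).trans natDegree_X_le))

lemma aPoly_spec (s : Multiset K) : (aPoly s).natDegree ≤ Multiset.card s ∧
    reflect (Multiset.card s) (aPoly s) = (s.map fun v => (X + C v : K[X])).prod := by
  induction s using Multiset.induction_on with
  | empty => simp [aPoly, reflect_one]
  | cons a s ih =>
    obtain ⟨h1, h2⟩ := ih
    constructor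
    · rw [aPoly_cons, Multiset.card_cons]
      have := natDegree_mul_le_of_le (natDegree_lin_le a) h1
      omega
    · rw [aPoly_cons, Multiset.card_cons, add_comm (Multiset.card s) 1,
        reflect_mul _ _ (natDegree_lin_le a) h1, h2, Multiset.map_cons, Multiset.prod_cons,
        reflect_add, reflect_one, reflect_C_mul, reflect_one_X, pow_one, mul_one]

lemma coeff_card_aPoly (s : Multiset K) : (aPoly s).coeff (Multiset.card s) = s.prod := by
  have h := congrArg (fun p => p.coeff 0) (aPoly_spec s).2
  simp only [coeff_reflect, revAt_zero] at h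
  rw [h, coeff_zero_multiset_prod, Multiset.map_map]
  congr 1
  have : ((fun p : K[X] => p.coeff 0) ∘ fun v => (X + C v : K[X])) = fun v => v := by
    funext v
    simp
  rw [this, Multiset.map_id']

lemma C_prod_mul_aPoly_inv (s : Multiset K) (w : K → K) (hw : ∀ v ∈ s, w v * v = 1) :
    C s.prod * aPoly (s.map w) = (s.map fun v => (X + C v : K[X])).prod := by
  induction s using Multiset.induction_on with
  | empty => simp [aPoly]
  | cons a s ih =>
    rw [Multiset.map_cons, aPoly_cons, Multiset.prod_cons, Multiset.map_cons, Multiset.prod_cons,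
      ← ih (fun v hv => hw v (Multiset.mem_cons_of_mem hv)), C_mul]
    have ha : C a * (1 + C (w a) * X) = (X + C a : K[X]) := by
      rw [mul_add, mul_one, ← mul_assoc, ← C_mul, mul_comm a, hw a (Multiset.mem_cons_self a s),
        C_1, one_mul, add_comm]
    rw [← ha]
    ring

lemma coeff_aPoly_eq (s : Multiset K) (w : K → K) (hw : ∀ v ∈ s, w v * v = 1) (i : ℕ)
    (hi : i ≤ Multiset.card s) :
    (aPoly s).coeff i = (aPoly (s.map w)).coeff (Multiset.card s - i) * (aPoly s).coeff (Multiset.card s) := by
  rw [coeff_card_aPoly, mul_comm, ← coeff_C_mul, C_prod_mul_aPoly_inv s w hw, ← (aPoly_spec s).2,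
    coeff_reflect, revAt_le (Nat.sub_le _ _), Nat.sub_sub_self hi]

end poly

section lam
variable {K : Type u} [CommRing K] [LambdaOps K] (P : PosStructure K)

lemma lamSeries_lines_eq_coe (s : Multiset K) (hs : ∀ u ∈ s, P.IsLine u) :
    lamSeries s.sum = ((aPoly s : K[X]) : PowerSeries K) := by
  rw [lamSeries_multiset_sum]
  have hcoe : ∀ p : K[X], ((p : K[X]) : PowerSeries K) = Polynomial.coeToPowerSeries.ringHom p :=
    fun p => rfl
  rw [hcoe, aPoly, map_multiset_prod, Multiset.map_map]
  congr 1
  apply Multiset.map_congr rfl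
  intro u hu
  rw [lamSeries_line P (hs u hu), Function.comp_apply, ← hcoe, Polynomial.coe_add,
    Polynomial.coe_one, Polynomial.coe_mul, Polynomial.coe_C, Polynomial.coe_X]

lemma lam_lines (s : Multiset K) (hs : ∀ u ∈ s, P.IsLine u) (i : ℕ) :
    LambdaOps.lam i s.sum = (aPoly s).coeff i := by
  rw [← coeff_lamSeries, lamSeries_lines_eq_coe P s hs, Polynomial.coeff_coe]

lemma lam_inv_lines (inv : K → K) (hinv : IsInvolution P inv) (s : Multiset K)
    (hs : ∀ u ∈ s, P.IsLine u) (i : ℕ) (hi : i ≤ Multiset.card s) :
    LambdaOps.lam i s.sum =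
      LambdaOps.lam (Multiset.card s - i) (inv s.sum) * LambdaOps.lam (Multiset.card s) s.sum := by
  have h0 : inv 0 = 0 := by
    have := hinv.map_add 0 0
    rw [add_zero] at this
    exact left_eq_add.mp this
  have hsum : ∀ t : Multiset K, inv t.sum = (t.map inv).sum := by
    intro t
    induction t using Multiset.induction_on with
    | empty => simpa using h0
    | cons a t ih => rw [Multiset.sum_cons, hinv.map_add, ih, Multiset.map_cons, Multiset.sum_cons]
  have hs' : ∀ u ∈ s.map inv, P.IsLine u := by
    intro u hu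
    obtain ⟨v, hv, rfl⟩ := Multiset.mem_map.mp hu
    exact hinv.inv_line v (hs v hv)
  rw [hsum, lam_lines P s hs, lam_lines P s hs, lam_lines P _ hs']
  exact coeff_aPoly_eq s inv (fun v hv => hinv.inv_mul_self v (hs v hv)) i hi

end lam

end Groth.Agent.Lib.Helper20.LR
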