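import Mathlib.RingTheory.MvPolynomial.Symmetric.FundamentalTheorem
import Mathlib.RingTheory.MvPolynomial.WeightedHomogeneous
import Mathlib.RingTheory.Polynomial.Vieta
import Mathlib.RingTheory.AlgebraicIndependent.Transcendental
import Mathlib.Algebra.MvPolynomial.Rename
import Mathlib.Logic.Equiv.Fintype

/-!
# Helper library (helper20): generic lemmas on elementary symmetric functions of multisets,
killing variables, and a support argument for symmetric polynomials.
-/

set_option autoImplicit false
universe u v w

open Finset

namespace Groth.Agent.Lib.Helper20.Sym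

section gp
open Polynomial
variable {R : Type u} [CommRing R] {S : Type v} [CommRing S]

/-- the generating polynomial `∏ (1 + a X)` of the elementary symmetric functions of a multiset -/
noncomputable def gp (s : Multiset R) : R[X] := (s.map fun v => (1 + C v * X : R[X])).prod

lemma gp_zero : gp (0 : Multiset R) = 1 := by simp [gp]

lemma gp_cons (a : R) (s : Multiset R) : gp (a ::ₘ s) = (1 + C a * X) * gp s := by
  unfold gp
  rw [Multiset.map_cons, Multiset.prod_cons]

lemma gp_add (s t : Multiset R) : gp (s + t) = gp s * gp t := by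
  unfold gp
  rw [Multiset.map_add, Multiset.prod_add]

lemma esymm_cons_succ (a : R) (s : Multiset R) (k : ℕ) :
    (a ::ₘ s).esymm (k + 1) = s.esymm (k + 1) + a * s.esymm k := by
  simp only [Multiset.esymm, Multiset.powersetCard_cons, Multiset.map_add, Multiset.sum_add,
    Multiset.map_map]
  congr 1
  rw [← Multiset.sum_map_mul_left]
  congr 1
  apply Multiset.map_congr rfl
  intro t _
  simp

lemma esymm_zero_right (s : Multiset R) : s.esymm 0 = 1 := by
  simp [Multiset.esymm]

lemma esymm_empty_succ (k : ℕ) : (0 : Multiset R).esymm (k + 1) = 0 := by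
  simp [Multiset.esymm]

lemma coeff_gp (s : Multiset R) (k : ℕ) : (gp s).coeff k = s.esymm k := by
  induction s using Multiset.induction_on generalizing k with
  | empty =>
    rw [gp_zero]
    cases k with
    | zero => simp [esymm_zero_right]
    | succ k => rw [esymm_empty_succ, coeff_one, if_neg (by omega)]
  | cons a s ih =>
    rw [gp_cons, add_mul, one_mul, mul_assoc, coeff_add, coeff_C_mul]
    cases k with
    | zero =>
      rw [esymm_zero_right, ih, esymm_zero_right]
      simp
    | succ k =>
      rw [coeff_X_mul, ih, ih, esymm_cons_succ]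

lemma gp_map (φ : R →+* S) (s : Multiset R) : (gp s).map φ = gp (s.map φ) := by
  unfold gp
  rw [Polynomial.map_multiset_prod, Multiset.map_map, Multiset.map_map]
  congr 1
  apply Multiset.map_congr rfl
  intro v _
  simp

lemma map_esymm (φ : R →+* S) (s : Multiset R) (k : ℕ) : φ (s.esymm k) = (s.map φ).esymm k := by
  rw [← coeff_gp, ← coeff_gp, ← gp_map, coeff_map]

lemma gp_univ {ι : Type*} [Fintype ι] (v : ι → R) :
    gp (Finset.univ.val.map v) = ∏ i, (1 + C (v i) * X : R[X]) := by
  unfold gp
  rw [Multiset.map_map, Finset.prod_eq_multiset_prod]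
  rfl

lemma gp_finset {ι : Type*} (t : Finset ι) (v : ι → R) :
    gp (t.val.map v) = ∏ i ∈ t, (1 + C (v i) * X : R[X]) := by
  unfold gp
  rw [Multiset.map_map, Finset.prod_eq_multiset_prod]
  rfl

/-- zeros can be ignored -/
lemma esymm_univ_of_zero_off_range {ι ι' : Type*} [Fintype ι] [Fintype ι'] [DecidableEq ι]
    (g : ι' → ι) (hg : Function.Injective g) (v : ι → R)
    (hv : ∀ i, i ∉ Set.range g → v i = 0) (k : ℕ) :
    (Finset.univ.val.map v).esymm k = (Finset.univ.val.map (v ∘ g)).esymm k := by
  rw [← coeff_gp, ← coeff_gp, gp_univ, gp_univ]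
  congr 1
  have h1 : ∏ j : ι', (1 + C ((v ∘ g) j) * X : R[X]) =
      ∏ i ∈ Finset.univ.map ⟨g, hg⟩, (1 + C (v i) * X : R[X]) := by
    rw [Finset.prod_map]
    rfl
  rw [h1]
  symm
  apply Finset.prod_subset (Finset.subset_univ _)
  intro i _ hi
  have : i ∉ Set.range g := by
    intro ⟨j, hj⟩
    apply hi
    rw [Finset.mem_map]
    exact ⟨j, Finset.mem_univ _, hj⟩
  rw [hv i this]
  simp

/-- zeros can be ignored (finset version) -/
lemma esymm_finset_of_zero_off {ι ι' : Type*} [DecidableEq ι] (t : Finset ι) (t' : Finset ι')
    (g : ι' ↪ ι) (hsub : t'.map g ⊆ t) (v : ι → R)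
    (hv : ∀ i ∈ t, i ∉ t'.map g → v i = 0) (k : ℕ) :
    (t.val.map v).esymm k = (t'.val.map (v ∘ g)).esymm k := by
  rw [← coeff_gp, ← coeff_gp, gp_finset, gp_finset]
  congr 1
  have h1 : ∏ j ∈ t', (1 + C ((v ∘ g) j) * X : R[X]) =
      ∏ i ∈ t'.map g, (1 + C (v i) * X : R[X]) := by
    rw [Finset.prod_map]
    rfl
  rw [h1]
  symm
  apply Finset.prod_subset hsub
  intro i hi hi'
  rw [hv i hi hi']
  simp

end gp

section kill
open MvPolynomial
variable {σ τ : Type*} {R : Type u} [CommRing R]

lemma coeff_killCompl {f : τ → σ} (hf : Function.Injective f) (F : MvPolynomial σ R)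
    (m : τ →₀ ℕ) : coeff m (killCompl hf F) = coeff (m.mapDomain f) F := by
  classical
  induction F using MvPolynomial.induction_on' with
  | monomial u c =>
    by_cases hs : (↑u.support : Set σ) ⊆ Set.range f
    · rw [killCompl_monomial_eq_monomial_comapDomain_of_subset hf c hs, coeff_monomial,
        coeff_monomial]
      have : (Finsupp.comapDomain f u hf.injOn = m) ↔ (u = m.mapDomain f) := by
        constructor
        · intro h
          rw [← h, Finsupp.mapDomain_comapDomain f hf u hs]
        · intro h
          rw [h, Finsupp.comapDomain_mapDomain f hf]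
      by_cases h : u = m.mapDomain f
      · rw [if_pos h, if_pos (this.mpr h)]
      · rw [if_neg h, if_neg (fun h' => h (this.mp h'))]
    · rw [killCompl_monomial_eq_zero_of_not_subset hf c hs, coeff_zero, coeff_monomial, if_neg]
      intro h
      apply hs
      rw [h]
      intro x hx
      have := Finsupp.mapDomain_support hx
      rw [Finset.mem_image] at this
      obtain ⟨y, _, rfl⟩ := this
      exact ⟨y, rfl⟩
  | add p q hp hq => rw [map_add, coeff_add, coeff_add, hp, hq]

/-- a polynomial all of whose monomials can be moved (by a symmetry of the polynomial) into the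
range of `f` vanishes as soon as it is killed by `killCompl f`. -/
lemma eq_zero_of_killCompl_eq_zero {f : τ → σ} (hf : Function.Injective f) (F : MvPolynomial σ R)
    (h : ∀ m ∈ F.support, ∃ e : Equiv.Perm σ, rename e F = F ∧
      ∀ v ∈ m.support, e v ∈ Set.range f)
    (hk : killCompl hf F = 0) : F = 0 := by
  classical
  by_contra hF
  obtain ⟨m, hm⟩ := (MvPolynomial.support_nonempty.mpr hF)
  obtain ⟨e, he, hev⟩ := h m hm
  have h1 : coeff (m.mapDomain e) F = coeff m F := by
    conv_lhs => rw [← he]
    exact coeff_rename_mapDomain e e.injective F m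
  have hs : (↑(m.mapDomain e).support : Set σ) ⊆ Set.range f := by
    intro x hx
    have := Finsupp.mapDomain_support hx
    rw [Finset.mem_image] at this
    obtain ⟨y, hy, rfl⟩ := this
    exact hev y hy
  have h2 := coeff_killCompl hf F (Finsupp.comapDomain f (m.mapDomain e) hf.injOn)
  rw [hk, coeff_zero, Finsupp.mapDomain_comapDomain f hf _ hs, h1] at h2
  exact (MvPolynomial.mem_support_iff.mp hm) h2.symm

lemma exists_perm_map_subset {α : Type*} [Fintype α] [DecidableEq α] (s t : Finset α)
    (h : s.card ≤ t.card) : ∃ e : Equiv.Perm α, ∀ a ∈ s, e a ∈ t := by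
  obtain ⟨t', ht', hc⟩ := Finset.exists_subset_card_eq h
  have e0 : {x // x ∈ s} ≃ {x // x ∈ t'} := Finset.equivOfCardEq hc.symm
  refine ⟨e0.extendSubtype, fun a ha => ?_⟩
  exact ht' (Equiv.extendSubtype_mem e0 a ha)

end kill

section weighted
open MvPolynomial
variable {σ τ : Type*} {R : Type u} [CommRing R] {M : Type*} [AddCommMonoid M]

/-- substitution of weighted homogeneous polynomials of the right weights preserves weighted
homogeneity -/
lemma isWeightedHomogeneous_aeval {w : σ → M} {w' : τ → M} (g : σ → MvPolynomial τ R)
    (hg : ∀ i, IsWeightedHomogeneous w' (g i) (w i)) {P : MvPolynomial σ R} {m : M}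
    (hP : IsWeightedHomogeneous w P m) : IsWeightedHomogeneous w' (aeval g P) m := by
  induction hP using IsWeightedHomogeneous.induction_on with
  | zero => rw [map_zero]; exact isWeightedHomogeneous_zero R w' m
  | add p q hp hq ihp ihq => rw [map_add]; exact ihp.add ihq
  | monomial d r hr =>
    rw [aeval_monomial, ← hr, Finsupp.weight_apply]
    apply IsWeightedHomogeneous.C_mul
    rw [Finsupp.prod, Finsupp.sum]
    apply IsWeightedHomogeneous.prod
    intro i _
    exact (hg i).pow (d i)

/-- integer-coefficient version with arbitrary target ring -/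
lemma isWeightedHomogeneous_aeval_int {w : σ → M} {w' : τ → M} (g : σ → MvPolynomial τ R)
    (hg : ∀ i, IsWeightedHomogeneous w' (g i) (w i)) {P : MvPolynomial σ ℤ} {m : M}
    (hP : IsWeightedHomogeneous w P m) : IsWeightedHomogeneous w' (aeval g P) m := by
  induction hP using IsWeightedHomogeneous.induction_on with
  | zero => rw [map_zero]; exact isWeightedHomogeneous_zero R w' m
  | add p q hp hq ihp ihq => rw [map_add]; exact ihp.add ihq
  | monomial d r hr =>
    rw [aeval_monomial, ← hr, Finsupp.weight_apply]
    have : (algebraMap ℤ (MvPolynomial τ R)) r = C (r : R) := by simp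
    rw [this]
    apply IsWeightedHomogeneous.C_mul
    rw [Finsupp.prod, Finsupp.sum]
    apply IsWeightedHomogeneous.prod
    intro i _
    exact (hg i).pow (d i)

end weighted

section whc
open MvPolynomial
variable {σ τ : Type*} {M : Type*} [AddCommMonoid M]

/-- taking weighted homogeneous components commutes with a substitution of weighted homogeneous
polynomials of the right weights -/
lemma whc_aeval_int [DecidableEq M] (w : σ → M) (w' : τ → M) (g : σ → MvPolynomial τ ℤ)
    (hg : ∀ i, IsWeightedHomogeneous w' (g i) (w i)) (P : MvPolynomial σ ℤ) (m : M) :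
    weightedHomogeneousComponent w' m (aeval g P) =
      aeval g (weightedHomogeneousComponent w m P) := by
  induction P using MvPolynomial.induction_on' with
  | monomial d r =>
    have h1 : IsWeightedHomogeneous w (monomial d r) (Finsupp.weight w d) :=
      isWeightedHomogeneous_monomial w d r rfl
    have h2 : IsWeightedHomogeneous w' (aeval g (monomial d r)) (Finsupp.weight w d) :=
      isWeightedHomogeneous_aeval_int g hg h1
    by_cases hm : m = Finsupp.weight w d
    · rw [hm, h1.weightedHomogeneousComponent_same, h2.weightedHomogeneousComponent_same]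
    · rw [h1.weightedHomogeneousComponent_ne m hm, h2.weightedHomogeneousComponent_ne m hm,
        map_zero]
  | add p q hp hq => rw [map_add, map_add, map_add, hp, hq, map_add]

end whc

end Groth.Agent.Lib.Helper20.Sym
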