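import Groth.Agent.Lib.Helper20.LambdaGamma
import Groth.Agent.S3291

/-!
# Helper library (helper20): γ-filtration of a λ-ring with positive structure
-/

set_option autoImplicit false
universe u

open Finset

namespace Groth.Agent.Lib.Helper20.GFP

open LambdaRing Groth.Agent.Lib.Helper20.LR

section basic
variable {K : Type u} [CommRing K] [LambdaOps K] (P : PosStructure K)

lemma mul_mem {m n : ℕ} {x y : K} (hx : x ∈ gammaFiltration P m) (hy : y ∈ gammaFiltration P n) :
    x * y ∈ gammaFiltration P (m + n) :=
  (Groth.Agent.S3291.result K P).2 m n x y hx hy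

lemma smul_mem {n : ℕ} (a : K) {x : K} (hx : x ∈ gammaFiltration P n) :
    a * x ∈ gammaFiltration P n :=
  (Groth.Agent.S3291.result K P).1 n a x hx

lemma filt_zero : gammaFiltration P 0 = ⊤ := by
  unfold gammaFiltration
  rw [if_pos rfl]

lemma gen_mem {n : ℕ} (l : List (ℕ × K)) (h1 : ∀ p ∈ l, P.aug p.2 = 0)
    (h2 : n ≤ (l.map Prod.fst).sum) :
    (l.map fun p => gamma p.1 p.2).prod ∈ gammaFiltration P n := by
  by_cases hn : n = 0
  · subst hn
    rw [filt_zero]; trivial
  · rw [Groth.Agent.S3291.filt_succ P n hn]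
    exact AddSubgroup.subset_closure ⟨l, h1, h2, rfl⟩

lemma filt_anti {m n : ℕ} (h : m ≤ n) : gammaFiltration P n ≤ gammaFiltration P m := by
  by_cases hm : m = 0
  · subst hm
    rw [filt_zero]; exact le_top
  · have hn : n ≠ 0 := by omega
    rw [Groth.Agent.S3291.filt_succ P n hn, Groth.Agent.S3291.filt_succ P m hm]
    apply AddSubgroup.closure_mono
    rintro y ⟨l, h1, h2, rfl⟩
    exact ⟨l, h1, h.trans h2, rfl⟩

lemma gamma_mem {y : K} (hy : P.aug y = 0) (i : ℕ) : gamma i y ∈ gammaFiltration P i := by
  have := gen_mem P (n := i) [(i, y)] (by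
    intro p hp
    rw [List.mem_singleton] at hp
    rw [hp]; exact hy) (by simp)
  simpa using this

/-- the top γ-class of a positive element -/
lemma gamma_top (e : K) (he : e ∈ P.pos) :
    gamma (P.aug e).toNat (e - ((P.aug e).toNat : K)) =
      ∑ i ∈ range ((P.aug e).toNat + 1), (-1) ^ ((P.aug e).toNat - i) * LambdaOps.lam i e := by
  have h := congrArg (Polynomial.eval 0) (gamma_sub_aug_identity P e he)
  rw [Polynomial.eval_finset_sum, Polynomial.eval_finset_sum] at h
  rw [Finset.sum_eq_single (P.aug e).toNat] at h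
  · simp only [Polynomial.eval_mul, Polynomial.eval_C, Polynomial.eval_pow, Polynomial.eval_X,
      Nat.sub_self, pow_zero, mul_one, Polynomial.eval_sub, Polynomial.eval_one, zero_sub] at h
    rw [h]
    apply Finset.sum_congr rfl
    intro i _
    ring
  · intro i hi hne
    have : i < (P.aug e).toNat := by
      have := Finset.mem_range.mp hi
      omega
    simp only [Polynomial.eval_mul, Polynomial.eval_C, Polynomial.eval_pow, Polynomial.eval_X]
    rw [zero_pow (by omega), mul_zero]
  · intro h'
    exact absurd (Finset.mem_range.mpr (Nat.lt_succ_self _)) h'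

/-- the top λ-class of a positive element as the sum of its γ-classes -/
lemma lam_top_eq_sum_gamma (e : K) (he : e ∈ P.pos) :
    LambdaOps.lam (P.aug e).toNat e =
      ∑ i ∈ range ((P.aug e).toNat + 1), gamma i (e - ((P.aug e).toNat : K)) := by
  have h := congrArg (Polynomial.eval 1) (gamma_sub_aug_identity P e he)
  rw [Polynomial.eval_finset_sum, Polynomial.eval_finset_sum] at h
  rw [Finset.sum_eq_single (P.aug e).toNat (s := range ((P.aug e).toNat + 1))
    (f := fun i => Polynomial.eval 1 (Polynomial.C (LambdaOps.lam i e) *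
      (Polynomial.X - 1) ^ ((P.aug e).toNat - i)))] at h
  · simp only [Polynomial.eval_mul, Polynomial.eval_C, Polynomial.eval_pow, Polynomial.eval_X,
      Nat.sub_self, pow_zero, mul_one, one_pow] at h
    exact h.symm
  · intro i hi hne
    have : i < (P.aug e).toNat := by
      have := Finset.mem_range.mp hi
      omega
    simp only [Polynomial.eval_mul, Polynomial.eval_C, Polynomial.eval_pow, Polynomial.eval_X,
      Polynomial.eval_sub, Polynomial.eval_one, sub_self]
    rw [zero_pow (by omega), mul_zero]
  · intro h'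
    exact absurd (Finset.mem_range.mpr (Nat.lt_succ_self _)) h'

/-- `λ_{-1}(e)` -/
noncomputable def lamAlt (e : K) (m : ℕ) : K := ∑ i ∈ range (m + 1), (-1 : K) ^ i * LambdaOps.lam i e

lemma gamma_top' (e : K) (he : e ∈ P.pos) :
    gamma (P.aug e).toNat (e - ((P.aug e).toNat : K)) =
      (-1) ^ (P.aug e).toNat * lamAlt e (P.aug e).toNat := by
  rw [gamma_top P e he, lamAlt, Finset.mul_sum]
  apply Finset.sum_congr rfl
  intro i hi
  have hi' : i ≤ (P.aug e).toNat := by
    have := Finset.mem_range.mp hi
    omega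
  rw [← mul_assoc, ← pow_add]
  congr 1
  have : (P.aug e).toNat + i = ((P.aug e).toNat - i) + 2 * i := by omega
  rw [this, pow_add, pow_mul]
  simp

lemma lamAlt_mem (e : K) (he : e ∈ P.pos) :
    lamAlt e (P.aug e).toNat ∈ gammaFiltration P (P.aug e).toNat := by
  have h1 : lamAlt e (P.aug e).toNat =
      (-1) ^ (P.aug e).toNat * gamma (P.aug e).toNat (e - ((P.aug e).toNat : K)) := by
    rw [gamma_top' P e he, ← mul_assoc, ← mul_pow]
    simp
  rw [h1]
  apply smul_mem
  apply gamma_mem
  have hpos := P.aug_pos e he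
  rw [map_sub, map_natCast, Int.toNat_of_nonneg hpos.le, sub_self]

end basic

section maps
variable {K K' : Type u} [CommRing K] [LambdaOps K] [CommRing K'] [LambdaOps K']

lemma map_gamma (f : K →+* K') (hf : IsLambdaHom f) (k : ℕ) (x : K) :
    f (gamma k x) = gamma k (f x) := by
  unfold gamma
  by_cases hk : k = 0
  · rw [if_pos hk, if_pos hk, map_one]
  · rw [if_neg hk, if_neg hk, map_sum]
    apply Finset.sum_congr rfl
    intro j _
    rw [map_mul, map_natCast]
    by_cases hj : j = 0
    · rw [if_pos hj, if_pos hj, map_zero]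
    · rw [if_neg hj, if_neg hj, hf]

end maps

end Groth.Agent.Lib.Helper20.GFP
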