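import Mathlib.RingTheory.MvPolynomial.EulerIdentity
import Mathlib.RingTheory.MvPolynomial.Homogeneous
import Mathlib.Algebra.MvPolynomial.PDeriv
import Mathlib.RingTheory.Kaehler.Basic
import Mathlib.LinearAlgebra.Matrix.Determinant.Basic
import Mathlib.LinearAlgebra.Matrix.Notation
import Mathlib.Tactic.LinearCombination
import Mathlib.Tactic.FieldSimp
import Mathlib.Tactic.Module
import Mathlib.LinearAlgebra.Matrix.Determinant.Basic

/-!
# Change of projective coordinates for the canonical differential of a plane curve (helper20)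
-/

set_option autoImplicit false

namespace Groth.Agent.Lib.Helper20.CoordChange

open MvPolynomial

section General

variable {σ : Type*} [Fintype σ] [DecidableEq σ]
variable {R A M : Type*} [CommRing R] [CommRing A] [Algebra R A] [AddCommGroup M] [Module A M]
  [Module R M] [IsScalarTower R A M]

/-- chain rule for a derivation applied to a polynomial expression -/
lemma deriv_aeval (D : Derivation R A M) (g : σ → A) (φ : MvPolynomial σ R) :
    D (aeval g φ) = ∑ i, aeval g (pderiv i φ) • D (g i) := by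
  induction φ using MvPolynomial.induction_on with
  | C a =>
    simp only [aeval_C, Derivation.map_algebraMap, pderiv_C, map_zero, zero_smul,
      Finset.sum_const_zero]
  | add p q hp hq =>
    simp only [map_add, hp, hq, add_smul, Finset.sum_add_distrib]
  | mul_X p j hp =>
    rw [map_mul, aeval_X, Derivation.leibniz, hp]
    have : ∀ i, aeval g (pderiv i (p * X j)) =
        aeval g (pderiv i p) * g j + aeval g p * (if i = j then 1 else 0) := by
      intro i
      rw [Derivation.leibniz, pderiv_X, smul_eq_mul, smul_eq_mul, map_add, map_mul, map_mul,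
        aeval_X]
      have : (aeval g) ((Pi.single i 1 : σ → MvPolynomial σ R) j) = if i = j then 1 else 0 := by
        rw [Pi.single_apply]
        split_ifs with h1 h2 h2
        · simp
        · exact absurd h1.symm h2
        · exact absurd h2.symm h1
        · simp
      rw [this]
      ring
    simp only [this, add_smul, Finset.sum_add_distrib]
    rw [add_comm]
    congr 1
    · rw [Finset.smul_sum]
      apply Finset.sum_congr rfl
      intro i _
      rw [smul_smul, mul_comm]
    · rw [Finset.sum_eq_single j]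
      · simp
      · intro i _ hi
        simp [hi]
      · intro h; exact absurd (Finset.mem_univ _) h

end General

section Homog

variable {σ : Type*} {R K : Type*} [CommRing R] [CommRing K] [Algebra R K]

lemma aeval_smul_of_homogeneous (φ : MvPolynomial σ R) (n : ℕ) (hφ : φ.IsHomogeneous n)
    (c : K) (g : σ → K) :
    aeval (fun i => c * g i) φ = c ^ n * aeval g φ := by
  rw [aeval_def, aeval_def, eval₂_eq, eval₂_eq, Finset.mul_sum]
  apply Finset.sum_congr rfl
  intro d hd
  have h1 : ∏ i ∈ d.support, (c * g i) ^ d i = c ^ n * ∏ i ∈ d.support, g i ^ d i := by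
    simp only [mul_pow]
    rw [Finset.prod_mul_distrib, Finset.prod_pow_eq_pow_sum, ← hφ.degree_eq_sum_deg_support hd]
  rw [h1]
  ring

end Homog

section Main

variable (k K : Type*) [Field k] [Field K] [Algebra k K]

theorem coord_change
    (f : MvPolynomial (Fin 3) k) (e : ℕ) (hf : f.IsHomogeneous e)
    (x y : K) (hfxy : MvPolynomial.aeval ![(1 : K), x, y] f = 0)
    (A : Matrix (Fin 3) (Fin 3) k) (hA : A.det ≠ 0)
    (u : Fin 3 → K) (hu : ∀ i, ∑ j, algebraMap k K (A i j) * u j = ![(1 : K), x, y] i)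
    (hu0 : u 0 ≠ 0)
    (hfy : MvPolynomial.aeval ![(1 : K), x, y] (MvPolynomial.pderiv 2 f) ≠ 0)
    (hfy' : MvPolynomial.aeval ![(1 : K), u 1 / u 0, u 2 / u 0]
      (MvPolynomial.pderiv 2
        (MvPolynomial.aeval (fun i : Fin 3 => ∑ j, MvPolynomial.C (A i j) * MvPolynomial.X j) f)) ≠ 0) :
    (MvPolynomial.aeval ![(1 : K), x, y] (MvPolynomial.pderiv 2 f))⁻¹ • KaehlerDifferential.D k K x =
      (algebraMap k K A.det * (u 0)⁻¹ ^ ((e : ℤ) - 3) *
        (MvPolynomial.aeval ![(1 : K), u 1 / u 0, u 2 / u 0]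
          (MvPolynomial.pderiv 2
            (MvPolynomial.aeval (fun i : Fin 3 => ∑ j, MvPolynomial.C (A i j) * MvPolynomial.X j) f)))⁻¹) •
        KaehlerDifferential.D k K (u 1 / u 0) := by
  set z : K := (u 0)⁻¹ with hz
  have hz0 : z ≠ 0 := inv_ne_zero hu0
  set x' : K := u 1 / u 0 with hx'
  set y' : K := u 2 / u 0 with hy'
  set w : Fin 3 → K := ![(1 : K), x', y'] with hw
  set v : Fin 3 → K := ![(1 : K), x, y] with hv
  set a : Fin 3 → Fin 3 → K := fun i j => algebraMap k K (A i j) with ha
  set h : Fin 3 → MvPolynomial (Fin 3) k := fun i => ∑ j, C (A i j) * X j with hh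
  have hwu : ∀ j, w j = z * u j := by
    intro j
    fin_cases j
    · show (1 : K) = (u 0)⁻¹ * u 0
      rw [inv_mul_cancel₀ hu0]
    · show u 1 / u 0 = (u 0)⁻¹ * u 1
      rw [div_eq_inv_mul]
    · show u 2 / u 0 = (u 0)⁻¹ * u 2
      rw [div_eq_inv_mul]
  have hL : ∀ i, ∑ j, a i j * w j = z * v i := by
    intro i
    rw [← hu i, Finset.mul_sum]
    apply Finset.sum_congr rfl
    intro j _
    rw [hwu]
    ring
  have hwh : ∀ i, aeval w (h i) = z * v i := by
    intro i
    rw [← hL i]
    simp only [hh, map_sum, map_mul, aeval_C, aeval_X, ha]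
  have hcomp : ∀ φ : MvPolynomial (Fin 3) k,
      aeval w (aeval h φ) = aeval (fun i => z * v i) φ := by
    intro φ
    rw [comp_aeval_apply]
    have : (fun i => aeval w (h i)) = fun i => z * v i := funext hwh
    rw [this]
  set g : Fin 3 → K := fun i => aeval v (pderiv i f) with hg
  have hchain : ∀ j, pderiv j (aeval h f) = ∑ i, aeval h (pderiv i f) * C (A i j) := by
    intro j
    rw [deriv_aeval (pderiv j) h f]
    apply Finset.sum_congr rfl
    intro i _
    rw [smul_eq_mul]
    congr 1
    simp only [hh, map_sum, Derivation.leibniz, pderiv_C, pderiv_X, smul_zero, add_zero,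
      smul_eq_mul, Pi.single_apply, mul_ite, mul_one, mul_zero]
    rw [Finset.sum_eq_single j]
    · simp
    · intro l _ hl
      rw [if_neg hl]
    · intro hcon; exact absurd (Finset.mem_univ _) hcon
  have hF : ∀ j, aeval w (pderiv j (aeval h f)) = z ^ (e - 1) * ∑ i, g i * a i j := by
    intro j
    rw [hchain, map_sum, Finset.mul_sum]
    apply Finset.sum_congr rfl
    intro i _
    rw [map_mul, hcomp, aeval_C, aeval_smul_of_homogeneous _ (e - 1) hf.pderiv]
    ring
  have hEuler : g 0 + x * g 1 + y * g 2 = 0 := by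
    have h1 := congrArg (aeval v) hf.sum_X_mul_pderiv
    rw [map_sum, Fin.sum_univ_three] at h1
    simp only [map_mul, aeval_X, map_nsmul, hfxy, smul_zero] at h1
    have e0 : v 0 = 1 := rfl
    have e1 : v 1 = x := rfl
    have e2 : v 2 = y := rfl
    rw [e0, e1, e2, one_mul] at h1
    exact h1
  have hzero : aeval w (aeval h f) = 0 := by
    rw [hcomp, aeval_smul_of_homogeneous f e hf, hfxy, mul_zero]
  have hD := deriv_aeval (KaehlerDifferential.D k K) w (aeval h f)
  rw [hzero, map_zero, Fin.sum_univ_three] at hD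
  have ew0 : w 0 = 1 := rfl
  have ew1 : w 1 = x' := rfl
  have ew2 : w 2 = y' := rfl
  rw [ew0, ew1, ew2, Derivation.map_one_eq_zero, smul_zero, zero_add] at hD
  have hz_eq : z = a 0 0 + a 0 1 * x' + a 0 2 * y' := by
    have h1 := hL 0
    rw [Fin.sum_univ_three, ew0, ew1, ew2] at h1
    have : v 0 = 1 := rfl
    rw [this] at h1
    linear_combination -h1
  have hzx : z * x = a 1 0 + a 1 1 * x' + a 1 2 * y' := by
    have h1 := hL 1
    rw [Fin.sum_univ_three, ew0, ew1, ew2] at h1
    have : v 1 = x := rfl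
    rw [this] at h1
    linear_combination -h1
  have hzy : z * y = a 2 0 + a 2 1 * x' + a 2 2 * y' := by
    have h1 := hL 2
    rw [Fin.sum_univ_three, ew0, ew1, ew2] at h1
    have : v 2 = y := rfl
    rw [this] at h1
    linear_combination -h1
  set D := KaehlerDifferential.D k K with hDdef
  have hDa : ∀ i j (t : K), D (a i j * t) = a i j • D t := by
    intro i j t
    rw [Derivation.leibniz, Derivation.map_algebraMap, smul_zero, add_zero]
  have hDz : D z = a 0 1 • D x' + a 0 2 • D y' := by
    have h1 := congrArg D hz_eq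
    rw [map_add, map_add, hDa, hDa, Derivation.map_algebraMap, zero_add] at h1
    exact h1
  have hDzx : z • D x + x • D z = a 1 1 • D x' + a 1 2 • D y' := by
    have h1 := congrArg D hzx
    rw [map_add, map_add, hDa, hDa, Derivation.map_algebraMap, zero_add, Derivation.leibniz] at h1
    exact h1
  set F1 := aeval w (pderiv 1 (aeval h f)) with hF1
  set F2 := aeval w (pderiv 2 (aeval h f)) with hF2
  set G := g 2 with hG
  have hdet : algebraMap k K A.det =
      a 0 0 * a 1 1 * a 2 2 - a 0 0 * a 1 2 * a 2 1 - a 0 1 * a 1 0 * a 2 2 +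
        a 0 1 * a 1 2 * a 2 0 + a 0 2 * a 1 0 * a 2 1 - a 0 2 * a 1 1 * a 2 0 := by
    rw [Matrix.det_fin_three]
    simp only [map_add, map_sub, map_mul, ha]
  have hF1' : F1 = z ^ (e - 1) * (g 0 * a 0 1 + g 1 * a 1 1 + g 2 * a 2 1) := by
    rw [hF1, hF 1, Fin.sum_univ_three]
  have hF2' : F2 = z ^ (e - 1) * (g 0 * a 0 2 + g 1 * a 1 2 + g 2 * a 2 2) := by
    rw [hF2, hF 2, Fin.sum_univ_three]
  have hB : z * ((a 1 1 - x * a 0 1) * F2 - (a 1 2 - x * a 0 2) * F1) =
      z ^ (e - 1) * G * algebraMap k K A.det := by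
    rw [hF1', hF2', hdet]
    linear_combination (z ^ (e - 1)) * (z * (a 1 1 * a 0 2 - a 1 2 * a 0 1) * hEuler +
      G * ((a 1 1 * a 2 2 - a 1 2 * a 2 1) * hz_eq - (a 0 1 * a 2 2 - a 0 2 * a 2 1) * hzx +
        (a 0 1 * a 1 2 - a 0 2 * a 1 1) * hzy))
  have hzdx : z • D x = (a 1 1 - x * a 0 1) • D x' + (a 1 2 - x * a 0 2) • D y' := by
    linear_combination (norm := module) hDzx - x • hDz
  have key : (z * F2) • D x = ((a 1 1 - x * a 0 1) * F2 - (a 1 2 - x * a 0 2) * F1) • D x' := by
    linear_combination (norm := module) F2 • hzdx + (a 1 2 - x * a 0 2) • hD.symm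
  have he1 : 1 ≤ e := by
    by_contra hcon
    have he0 : e = 0 := by omega
    subst he0
    rw [← totalDegree_zero_iff_isHomogeneous, totalDegree_eq_zero_iff_eq_C] at hf
    apply hfy
    rw [hf, pderiv_C, map_zero]
  have hzF2 : z * F2 ≠ 0 := mul_ne_zero hz0 hfy'
  have hDx : D x = (z * F2)⁻¹ • (((a 1 1 - x * a 0 1) * F2 - (a 1 2 - x * a 0 2) * F1) • D x') := by
    rw [← key, inv_smul_smul₀ hzF2]
  have hBeq : (a 1 1 - x * a 0 1) * F2 - (a 1 2 - x * a 0 2) * F1 =
      z⁻¹ * (z ^ (e - 1) * G * algebraMap k K A.det) :=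
    (eq_inv_mul_iff_mul_eq₀ hz0).mpr hB
  have hzp : z ^ ((e : ℤ) - 3) = z ^ (e - 1) * z⁻¹ * z⁻¹ := by
    have : (e : ℤ) - 3 = ((e - 1 : ℕ) : ℤ) + (-1) + (-1) := by
      rw [Nat.cast_sub he1]; ring
    rw [this, zpow_add₀ hz0, zpow_add₀ hz0, zpow_natCast, zpow_neg_one]
  rw [hDx, hBeq, hzp, smul_smul, smul_smul]
  congr 1
  have hG0 : G ≠ 0 := hfy
  have hF20 : F2 ≠ 0 := hfy'
  field_simp
  rfl

end Main

end Groth.Agent.Lib.Helper20.CoordChange
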