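import Mathlib
import Groth.Agent.Lib.Helper7.DimTrdeg
import Groth.Agent.Lib.helper11.DimChain

/-!
# Krull dimension and transcendence degree for algebras of finite type over a field
-/

set_option autoImplicit false
universe u
open scoped TensorProduct
open Groth.Agent.Lib.Helper7

namespace Groth.Agent.Lib.Helper20.SegTrdeg

/-- For a domain of finite type over a field, the Krull dimension is the transcendence degree. -/
theorem exists_dim_eq_trdeg (k : Type u) (D : Type u) [Field k] [CommRing D] [IsDomain D]
    [Algebra k D] [Algebra.FiniteType k D] :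
    ∃ n : ℕ, ringKrullDim D = n ∧ Algebra.trdeg k D = n := by
  classical
  obtain ⟨s, g, hginj, hgfin⟩ := exists_finite_inj_algHom_of_fg k D
  refine ⟨s, ?_, ?_⟩
  · rw [NNInt.ringKrullDim_eq_of_injective_isIntegral g.toRingHom hginj hgfin.to_isIntegral]
    exact NNInt.ringKrullDim_mvPolynomial_fin k s
  · set x : Fin s → D := fun i => g (MvPolynomial.X i) with hx_def
    have hg : (MvPolynomial.aeval x : MvPolynomial (Fin s) k →ₐ[k] D) = g := by
      apply MvPolynomial.algHom_ext
      intro i
      simp [hx_def]
    have hx : AlgebraicIndependent k x := by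
      unfold AlgebraicIndependent
      rw [hg]
      exact hginj
    have hadj : Algebra.adjoin k (Set.range x) = g.range := by
      have h := AlgHom.map_adjoin g (Set.range (MvPolynomial.X : Fin s → MvPolynomial (Fin s) k))
      rw [MvPolynomial.adjoin_range_X, Algebra.map_top, ← Set.range_comp] at h
      rw [h]
      rfl
    have halg : Algebra.IsAlgebraic (Algebra.adjoin k (Set.range x)) D := by
      rw [hadj]
      have : Algebra.IsIntegral g.range D := by
        refine ⟨fun d => ?_⟩
        obtain ⟨p, hpm, hp⟩ := hgfin.to_isIntegral d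
        refine ⟨p.map g.rangeRestrict.toRingHom, hpm.map _, ?_⟩
        rw [Polynomial.eval₂_map]
        have hc : (algebraMap (↥g.range) D).comp g.rangeRestrict.toRingHom = g.toRingHom :=
          RingHom.ext fun _ => rfl
        rw [hc]
        exact hp
      infer_instance
    have hb : IsTranscendenceBasis k x := (hx.isTranscendenceBasis_iff_isAlgebraic).2 halg
    have := hb.lift_cardinalMk_eq_trdeg
    simpa using this.symm

/-- A ring of finite type over a field of dimension `n` has a minimal prime whose quotient has
dimension and transcendence degree `n`. -/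
theorem exists_minimalPrime_trdeg (k : Type u) (F : Type u) [Field k] [CommRing F] [Algebra k F]
    [Algebra.FiniteType k F] (I : Ideal F) (n : ℕ) (hn : ringKrullDim (F ⧸ I) = n) :
    ∃ Q : Ideal F, Q ∈ I.minimalPrimes ∧ ∃ _ : Q.IsPrime, ringKrullDim (F ⧸ Q) = n ∧
      Algebra.trdeg k (F ⧸ Q) = n := by
  obtain ⟨Q, hQ, hd⟩ := helper11.DimChain.exists_minimalPrimes_dim_eq I n hn
  haveI : Q.IsPrime := hQ.1.1
  refine ⟨Q, hQ, hQ.1.1, hd, ?_⟩
  obtain ⟨m, h1, h2⟩ := exists_dim_eq_trdeg k (F ⧸ Q)
  rw [h1] at hd
  have : m = n := by exact_mod_cast hd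
  rw [h2, this]

/-- The Krull dimension of a domain of finite type over a field is finite. -/
theorem exists_dim_eq (k : Type u) (F : Type u) [Field k] [CommRing F] [Nontrivial F]
    [Algebra k F] [Algebra.FiniteType k F] : ∃ n : ℕ, ringKrullDim F = n := by
  obtain ⟨s, g, hginj, hgfin⟩ := exists_finite_inj_algHom_of_fg k F
  refine ⟨s, ?_⟩
  rw [NNInt.ringKrullDim_eq_of_injective_isIntegral g.toRingHom hginj hgfin.to_isIntegral]
  exact NNInt.ringKrullDim_mvPolynomial_fin k s

/-- The dimension of a tensor product of two algebras of finite type over a field. -/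
theorem ringKrullDim_tensorProduct (k A B : Type u) [Field k] [CommRing A] [CommRing B]
    [Algebra k A] [Algebra k B] [Algebra.FiniteType k A] [Algebra.FiniteType k B] [Nontrivial A]
    [Nontrivial B] {a b : ℕ} (ha : ringKrullDim A = a) (hb : ringKrullDim B = b) :
    ringKrullDim (A ⊗[k] B) = ((a + b : ℕ) : WithBot ℕ∞) := by
  classical
  obtain ⟨s, g, hginj, hgfin⟩ := exists_finite_inj_algHom_of_fg k A
  obtain ⟨t, h, hhinj, hhfin⟩ := exists_finite_inj_algHom_of_fg k B
  have hs : s = a := by
    have := NNInt.ringKrullDim_eq_of_injective_isIntegral g.toRingHom hginj hgfin.to_isIntegral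
    rw [NNInt.ringKrullDim_mvPolynomial_fin k s, ha] at this
    exact_mod_cast this.symm
  have ht : t = b := by
    have := NNInt.ringKrullDim_eq_of_injective_isIntegral h.toRingHom hhinj hhfin.to_isIntegral
    rw [NNInt.ringKrullDim_mvPolynomial_fin k t, hb] at this
    exact_mod_cast this.symm
  subst hs ht
  let G : MvPolynomial (Fin s) k ⊗[k] MvPolynomial (Fin t) k →ₐ[k] A ⊗[k] B :=
    Algebra.TensorProduct.map g h
  have hGinj : Function.Injective G := by
    have := TensorProduct.map_injective_of_flat_flat g.toLinearMap h.toLinearMap hginj hhinj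
    exact this
  have hGint : G.toRingHom.IsIntegral := by
    intro z
    induction z using TensorProduct.induction_on with
    | zero => exact G.toRingHom.isIntegralElem_zero
    | add x y hx hy => exact RingHom.IsIntegralElem.add _ hx hy
    | tmul x y =>
      have hx : G.toRingHom.IsIntegralElem (x ⊗ₜ[k] (1 : B)) := by
        obtain ⟨p, hpm, hp⟩ := hgfin.to_isIntegral x
        refine ⟨p.map (Algebra.TensorProduct.includeLeft : MvPolynomial (Fin s) k →ₐ[k]
          MvPolynomial (Fin s) k ⊗[k] MvPolynomial (Fin t) k).toRingHom, hpm.map _, ?_⟩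
        rw [Polynomial.eval₂_map]
        have hc : G.toRingHom.comp (Algebra.TensorProduct.includeLeft :
            MvPolynomial (Fin s) k →ₐ[k]
              MvPolynomial (Fin s) k ⊗[k] MvPolynomial (Fin t) k).toRingHom =
            (Algebra.TensorProduct.includeLeft : A →ₐ[k] A ⊗[k] B).toRingHom.comp g.toRingHom := by
          ext q <;> simp [G]
        rw [hc]
        have := Polynomial.hom_eval₂ p g.toRingHom
          (Algebra.TensorProduct.includeLeft : A →ₐ[k] A ⊗[k] B).toRingHom x
        rw [hp, map_zero] at this
        exact this.symm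
      have hy : G.toRingHom.IsIntegralElem ((1 : A) ⊗ₜ[k] y) := by
        obtain ⟨p, hpm, hp⟩ := hhfin.to_isIntegral y
        refine ⟨p.map (Algebra.TensorProduct.includeRight : MvPolynomial (Fin t) k →ₐ[k]
          MvPolynomial (Fin s) k ⊗[k] MvPolynomial (Fin t) k).toRingHom, hpm.map _, ?_⟩
        rw [Polynomial.eval₂_map]
        have hc : G.toRingHom.comp (Algebra.TensorProduct.includeRight :
            MvPolynomial (Fin t) k →ₐ[k]
              MvPolynomial (Fin s) k ⊗[k] MvPolynomial (Fin t) k).toRingHom =
            (Algebra.TensorProduct.includeRight : B →ₐ[k] A ⊗[k] B).toRingHom.comp h.toRingHom := by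
          ext q
          · simp only [G, RingHom.coe_comp, Function.comp_apply, AlgHom.toRingHom_eq_coe,
              RingHom.coe_coe, MvPolynomial.algHom_C, Algebra.TensorProduct.includeRight_apply,
              Algebra.TensorProduct.map_tmul, map_one]
          · simp [G]
        rw [hc]
        have := Polynomial.hom_eval₂ p h.toRingHom
          (Algebra.TensorProduct.includeRight : B →ₐ[k] A ⊗[k] B).toRingHom y
        rw [hp, map_zero] at this
        exact this.symm
      have := RingHom.IsIntegralElem.mul (f := G.toRingHom) hx hy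
      rwa [Algebra.TensorProduct.tmul_mul_tmul, mul_one, one_mul] at this
  rw [NNInt.ringKrullDim_eq_of_injective_isIntegral G.toRingHom hGinj hGint,
    ringKrullDim_eq_of_ringEquiv
      (MvPolynomial.tensorEquivSum k (Fin s) (Fin t) k).toRingEquiv,
    MvPolynomial.ringKrullDim_of_isNoetherianRing, ringKrullDim_eq_zero_of_field, zero_add]
  simp

end Groth.Agent.Lib.Helper20.SegTrdeg
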