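import Mathlib
import Groth.Prelude.Def_GrLC
import Groth.Agent.Lib.Helper26.GrProj

/-!
# Constructions of graded modules (general grading group)

* `isInternal_of_proj`: a family of subgroups with a compatible family of additive "projections"
  is an internal direct sum.
* `shiftGr`, `subGr`, `piGr`: shifted grading, grading induced on a component-stable submodule,
  grading on a finite power.
-/

set_option autoImplicit false
set_option linter.unusedSectionVars false
set_option linter.unusedVariables false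

namespace Groth.Agent.Lib.Helper20.GrKit

open DirectSum Groth.Agent.Lib.Helper26.GrProj

universe u

section OfProj

variable {ι : Type} [AddCommGroup ι] [DecidableEq ι] {N : Type*} [AddCommGroup N] (𝒩 : ι → AddSubgroup N)

theorem isInternal_of_proj (π : ι → N →+ N) (h1 : ∀ g x, π g x ∈ 𝒩 g)
    (h2 : ∀ g x, x ∈ 𝒩 g → π g x = x) (h3 : ∀ g h x, x ∈ 𝒩 h → h ≠ g → π g x = 0)
    (h4 : ∀ x, ∃ s : Finset ι, x = ∑ g ∈ s, π g x) : DirectSum.IsInternal 𝒩 := by
  classical
  constructor
  · rw [injective_iff_map_eq_zero]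
    intro f hf
    ext h
    have hh := congrArg (π h) hf
    rw [map_zero, DirectSum.coeAddMonoidHom_eq_dfinsuppSum, DFinsupp.sum, map_sum] at hh
    have hterm : ∀ g, π h ((f g : N)) = if g = h then (f g : N) else 0 := by
      intro g
      split_ifs with e
      · rw [e]; exact h2 h _ (f h).2
      · exact h3 h g _ (f g).2 e
    simp only [hterm] at hh
    rw [Finset.sum_ite_eq'] at hh
    by_cases hs : h ∈ f.support
    · rw [if_pos hs] at hh
      simpa using hh
    · rw [DFinsupp.notMem_support_iff] at hs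
      rw [hs]; rfl
  · intro x
    obtain ⟨s, hs⟩ := h4 x
    refine ⟨∑ g ∈ s, DirectSum.of (fun g => 𝒩 g) g ⟨π g x, h1 g x⟩, ?_⟩
    rw [map_sum]
    conv_rhs => rw [hs]
    refine Finset.sum_congr rfl fun g _ => ?_
    rw [DirectSum.coeAddMonoidHom_of]

/-- With any decomposition instance, the components are computed by the projections. -/
theorem proj_eq_of_proj [DirectSum.Decomposition 𝒩] (π : ι → N →+ N) (h1 : ∀ g x, π g x ∈ 𝒩 g)
    (h3 : ∀ g h x, x ∈ 𝒩 h → h ≠ g → π g x = 0)
    (h4 : ∀ x, ∃ s : Finset ι, x = ∑ g ∈ s, π g x) (g : ι) (x : N) : proj 𝒩 g x = π g x := by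
  classical
  obtain ⟨s, hs⟩ := h4 x
  have hterm : ∀ k, proj 𝒩 g (π k x) = if k = g then π k x else 0 := by
    intro k
    split_ifs with e
    · rw [e]; exact proj_of_mem_same 𝒩 (h1 g x)
    · exact proj_of_mem_ne 𝒩 (h1 k x) e
  have hterm' : ∀ k, π g (π k x) = if k = g then π g (π k x) else 0 := by
    intro k
    split_ifs with e
    · rfl
    · exact h3 g k _ (h1 k x) e
  have e1 : proj 𝒩 g x = if g ∈ s then π g x else 0 := by
    conv_lhs => rw [hs, proj_sum]
    simp only [hterm]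
    rw [Finset.sum_ite_eq']
  by_cases hg : g ∈ s
  · rw [e1, if_pos hg]
  · rw [e1, if_neg hg]
    conv_rhs => rw [hs, map_sum]
    symm
    refine Finset.sum_eq_zero fun k hk => ?_
    rw [hterm' k, if_neg]
    rintro rfl
    exact hg hk

end OfProj

section AddProj

variable {ι : Type} [AddCommGroup ι] [DecidableEq ι] {N : Type*} [AddCommGroup N] (𝒩 : ι → AddSubgroup N)
  [DirectSum.Decomposition 𝒩]

/-- `proj` as an additive map. -/
def projAdd (g : ι) : N →+ N where
  toFun := proj 𝒩 g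
  map_zero' := proj_zero 𝒩 g
  map_add' := proj_add 𝒩 g

@[simp] theorem projAdd_apply (g : ι) (x : N) : projAdd 𝒩 g x = proj 𝒩 g x := rfl

end AddProj

section Shift

variable {ι : Type} [AddCommGroup ι] [DecidableEq ι] {N : Type*} [AddCommGroup N]
  (𝒩 : ι → AddSubgroup N)

/-- The shifted grading: `N(-d)`, i.e. degree `g` piece is `𝒩 (g - d)`. -/
def shiftGr (d : ι) : ι → AddSubgroup N := fun g => 𝒩 (g - d)

theorem mem_shiftGr {d g : ι} {x : N} : x ∈ shiftGr 𝒩 d g ↔ x ∈ 𝒩 (g - d) := Iff.rfl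

variable [DirectSum.Decomposition 𝒩]

theorem shift_h4 (d : ι) (x : N) : ∃ s : Finset ι, x = ∑ g ∈ s, projAdd 𝒩 (g - d) x := by
  classical
  refine ⟨(DirectSum.decompose 𝒩 x).support.image (· + d), ?_⟩
  rw [Finset.sum_image (fun a _ b _ h => add_right_cancel h)]
  simp only [add_sub_cancel_right, projAdd_apply]
  exact (sum_proj 𝒩 x).symm

theorem shift_isInternal (d : ι) : DirectSum.IsInternal (shiftGr 𝒩 d) :=
  isInternal_of_proj (shiftGr 𝒩 d) (fun g => projAdd 𝒩 (g - d))
    (fun g x => proj_mem 𝒩 (g - d) x)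
    (fun g x hx => proj_of_mem_same 𝒩 hx)
    (fun g h x hx hne => proj_of_mem_ne 𝒩 hx (fun e => hne (sub_left_injective e)))
    (shift_h4 𝒩 d)

noncomputable instance shiftDecomposition (d : ι) : DirectSum.Decomposition (shiftGr 𝒩 d) :=
  (shift_isInternal 𝒩 d).chooseDecomposition

theorem proj_shiftGr (d g : ι) (x : N) : proj (shiftGr 𝒩 d) g x = proj 𝒩 (g - d) x :=
  proj_eq_of_proj (shiftGr 𝒩 d) (fun g => projAdd 𝒩 (g - d))
    (fun g x => proj_mem 𝒩 (g - d) x)
    (fun g h x hx hne => proj_of_mem_ne 𝒩 hx (fun e => hne (sub_left_injective e)))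
    (shift_h4 𝒩 d) g x

end Shift

section ShiftSMul

variable {ι : Type} [AddCommGroup ι] [DecidableEq ι] {R : Type u} [CommRing R]
  (𝒜 : ι → AddSubgroup R) [GradedRing 𝒜]
  {N : Type u} [AddCommGroup N] [Module R N] (𝒩 : ι → AddSubgroup N) [SetLike.GradedSMul 𝒜 𝒩]

instance shiftGradedSMul (d : ι) : SetLike.GradedSMul 𝒜 (shiftGr 𝒩 d) where
  smul_mem := by
    intro i j r x hr hx
    have := SetLike.GradedSMul.smul_mem (A := 𝒜) (B := 𝒩) hr hx
    rw [vadd_eq_add] at this ⊢
    change r • x ∈ 𝒩 (i + j - d)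
    rwa [add_sub_assoc]

end ShiftSMul

section Sub

variable {ι : Type} [AddCommGroup ι] [DecidableEq ι] {R : Type u} [CommRing R]
  (𝒜 : ι → AddSubgroup R) [GradedRing 𝒜]
  {N : Type u} [AddCommGroup N] [Module R N] (𝒩 : ι → AddSubgroup N)

/-- The grading induced on a submodule. -/
def subGr (P : Submodule R N) : ι → AddSubgroup P :=
  fun g => (𝒩 g).comap P.subtype.toAddMonoidHom

theorem mem_subGr {P : Submodule R N} {g : ι} {x : P} : x ∈ subGr 𝒩 P g ↔ (x : N) ∈ 𝒩 g := Iff.rfl

variable [DirectSum.Decomposition 𝒩] (P : Submodule R N) (hP : ∀ g x, x ∈ P → proj 𝒩 g x ∈ P)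
include hP

/-- the projections on a component-stable submodule -/
def subProj (g : ι) : P →+ P where
  toFun x := ⟨proj 𝒩 g x, hP g x x.2⟩
  map_zero' := Subtype.ext (proj_zero 𝒩 g)
  map_add' x y := Subtype.ext (proj_add 𝒩 g x y)

theorem sub_h4 (x : P) : ∃ s : Finset ι, x = ∑ g ∈ s, subProj 𝒩 P hP g x := by
  classical
  refine ⟨(DirectSum.decompose 𝒩 (x : N)).support, ?_⟩
  apply Subtype.ext
  rw [Submodule.coe_sum]
  exact (sum_proj 𝒩 (x : N)).symm

theorem sub_isInternal : DirectSum.IsInternal (subGr 𝒩 P) :=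
  isInternal_of_proj (subGr 𝒩 P) (subProj 𝒩 P hP)
    (fun g x => proj_mem 𝒩 g (x : N))
    (fun g x hx => Subtype.ext (proj_of_mem_same 𝒩 hx))
    (fun g h x hx hne => Subtype.ext (proj_of_mem_ne 𝒩 hx hne))
    (sub_h4 𝒩 P hP)

/-- The decomposition of a component-stable submodule (not an instance: depends on `hP`). -/
noncomputable def subDecomposition : DirectSum.Decomposition (subGr 𝒩 P) :=
  (sub_isInternal 𝒩 P hP).chooseDecomposition

theorem proj_subGr [DirectSum.Decomposition (subGr 𝒩 P)] (g : ι) (x : P) :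
    ((proj (subGr 𝒩 P) g x : P) : N) = proj 𝒩 g (x : N) := by
  have := proj_eq_of_proj (subGr 𝒩 P) (subProj 𝒩 P hP)
    (fun g x => proj_mem 𝒩 g (x : N))
    (fun g h x hx hne => Subtype.ext (proj_of_mem_ne 𝒩 hx hne))
    (sub_h4 𝒩 P hP) g x
  rw [this]; rfl

omit hP in
instance subGradedSMul [SetLike.GradedSMul 𝒜 𝒩] : SetLike.GradedSMul 𝒜 (subGr 𝒩 P) where
  smul_mem := by
    intro i j r x hr hx
    exact SetLike.GradedSMul.smul_mem (A := 𝒜) (B := 𝒩) hr hx

end Sub

section Pi

variable {ι : Type} [AddCommGroup ι] [DecidableEq ι] {R : Type u} [CommRing R]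
  (𝒜 : ι → AddSubgroup R) [GradedRing 𝒜]
  {κ : Type} [Fintype κ] {N : Type u} [AddCommGroup N] [Module R N] (𝒩 : κ → ι → AddSubgroup N)

/-- The grading on a finite power, each factor with its own grading. -/
def piGr : ι → AddSubgroup (κ → N) := fun g =>
  { carrier := {v | ∀ j, v j ∈ 𝒩 j g}
    zero_mem' := fun j => zero_mem _
    add_mem' := fun ha hb j => add_mem (ha j) (hb j)
    neg_mem' := fun ha j => neg_mem (ha j) }

theorem mem_piGr {g : ι} {v : κ → N} : v ∈ piGr 𝒩 g ↔ ∀ j, v j ∈ 𝒩 j g := Iff.rfl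

variable [∀ j, DirectSum.Decomposition (𝒩 j)]

/-- componentwise projections -/
def piProj (g : ι) : (κ → N) →+ (κ → N) where
  toFun v := fun j => proj (𝒩 j) g (v j)
  map_zero' := funext fun j => proj_zero (𝒩 j) g
  map_add' v w := funext fun j => proj_add (𝒩 j) g (v j) (w j)

theorem pi_h4 (v : κ → N) : ∃ s : Finset ι, v = ∑ g ∈ s, piProj 𝒩 g v := by
  classical
  refine ⟨Finset.univ.biUnion fun j => (DirectSum.decompose (𝒩 j) (v j)).support, ?_⟩
  funext j
  rw [Finset.sum_apply]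
  change v j = ∑ g ∈ _, proj (𝒩 j) g (v j)
  rw [← Finset.sum_subset (s₁ := (DirectSum.decompose (𝒩 j) (v j)).support)]
  · exact (sum_proj (𝒩 j) (v j)).symm
  · intro g hg
    exact Finset.mem_biUnion.2 ⟨j, Finset.mem_univ j, hg⟩
  · intro g _ hg
    exact proj_eq_zero_of_notMem (𝒩 j) hg

theorem pi_isInternal : DirectSum.IsInternal (piGr 𝒩) :=
  isInternal_of_proj (piGr 𝒩) (piProj 𝒩)
    (fun g v j => proj_mem (𝒩 j) g (v j))
    (fun g v hv => funext fun j => proj_of_mem_same (𝒩 j) (hv j))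
    (fun g h v hv hne => funext fun j => proj_of_mem_ne (𝒩 j) (hv j) hne)
    (pi_h4 𝒩)

noncomputable instance piDecomposition : DirectSum.Decomposition (piGr 𝒩) :=
  (pi_isInternal 𝒩).chooseDecomposition

theorem proj_piGr (g : ι) (v : κ → N) (j : κ) : proj (piGr 𝒩) g v j = proj (𝒩 j) g (v j) := by
  have := proj_eq_of_proj (piGr 𝒩) (piProj 𝒩)
    (fun g v j => proj_mem (𝒩 j) g (v j))
    (fun g h v hv hne => funext fun j => proj_of_mem_ne (𝒩 j) (hv j) hne)
    (pi_h4 𝒩) g v
  rw [this]; rfl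

instance piGradedSMul [∀ j, SetLike.GradedSMul 𝒜 (𝒩 j)] : SetLike.GradedSMul 𝒜 (piGr 𝒩) where
  smul_mem := by
    intro i k r v hr hv j
    exact SetLike.GradedSMul.smul_mem (A := 𝒜) (B := 𝒩 j) hr (hv j)

end Pi

end Groth.Agent.Lib.Helper20.GrKit
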