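import Mathlib
import Groth.Prelude.Def_GrLC
import Groth.Agent.Lib.Helper26.GrProj
import Groth.Agent.Lib.Helper20.GrKit1

/-!
# Homogeneous generators, graded free presentations, homogeneous components of linear maps
-/

set_option autoImplicit false
set_option linter.unusedSectionVars false
set_option linter.unusedVariables false

namespace Groth.Agent.Lib.Helper20.GrKit

open DirectSum Groth.Agent.Lib.Helper26.GrProj

universe u

variable {ι : Type} [AddCommGroup ι] [DecidableEq ι] {R : Type u} [CommRing R]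
  (𝒜 : ι → AddSubgroup R) [GradedRing 𝒜]

section Gens

variable {M : Type u} [AddCommGroup M] [Module R M] (ℳ : ι → AddSubgroup M)
  [DirectSum.Decomposition ℳ] [SetLike.GradedSMul 𝒜 ℳ]

/-- A finitely generated graded module has a finite family of homogeneous generators. -/
theorem exists_homogeneous_gens (hfg : (⊤ : Submodule R M).FG) :
    ∃ (n : ℕ) (d : Fin n → ι) (m : Fin n → M), (∀ j, m j ∈ ℳ (d j)) ∧
      Submodule.span R (Set.range m) = ⊤ := by
  classical
  obtain ⟨s, hs⟩ := hfg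
  -- all components of all generators
  let T : Finset (ι × M) := s.biUnion fun x =>
    (DirectSum.decompose ℳ x).support.image fun g => (g, proj ℳ g x)
  let e := T.equivFin
  refine ⟨T.card, fun j => (e.symm j).1.1, fun j => (e.symm j).1.2, ?_, ?_⟩
  · intro j
    have hj := (e.symm j).2
    obtain ⟨x, hx, hj'⟩ := Finset.mem_biUnion.1 hj
    obtain ⟨g, hg, hj''⟩ := Finset.mem_image.1 hj'
    change (e.symm j).1.2 ∈ ℳ (e.symm j).1.1
    rw [← hj'']
    exact proj_mem ℳ g x
  · rw [eq_top_iff, ← hs, Submodule.span_le]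
    intro x hx
    rw [← sum_proj ℳ x]
    refine Submodule.sum_mem _ fun g hg => ?_
    apply Submodule.subset_span
    have hmem : (g, proj ℳ g x) ∈ T :=
      Finset.mem_biUnion.2 ⟨x, hx, Finset.mem_image.2 ⟨g, hg, rfl⟩⟩
    refine ⟨e ⟨_, hmem⟩, ?_⟩
    simp

end Gens

section Free

variable {M : Type u} [AddCommGroup M] [Module R M] (ℳ : ι → AddSubgroup M)
  [DirectSum.Decomposition ℳ] [SetLike.GradedSMul 𝒜 ℳ]

/-- the graded free module with generators in degrees `d j` -/
abbrev frGr {n : ℕ} (d : Fin n → ι) : ι → AddSubgroup (Fin n → R) :=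
  piGr (fun j => shiftGr 𝒜 (d j))

theorem linearCombination_isGrHom {n : ℕ} (d : Fin n → ι) (m : Fin n → M)
    (hm : ∀ j, m j ∈ ℳ (d j)) :
    GrLC.IsGrHom (frGr 𝒜 d) ℳ (Fintype.linearCombination R m) := by
  intro g v hv
  rw [Fintype.linearCombination_apply]
  refine sum_mem fun j _ => ?_
  have h1 : v j ∈ 𝒜 (g - d j) := hv j
  have := SetLike.GradedSMul.smul_mem (A := 𝒜) (B := ℳ) h1 (hm j)
  rwa [vadd_eq_add, sub_add_cancel] at this

theorem linearCombination_surjective {n : ℕ} (m : Fin n → M)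
    (hspan : Submodule.span R (Set.range m) = ⊤) :
    Function.Surjective (Fintype.linearCombination R m) := by
  rw [← LinearMap.range_eq_top, Fintype.range_linearCombination, hspan]

/-- kernels of graded maps are component-stable -/
theorem ker_proj_stable {N : Type u} [AddCommGroup N] [Module R N] (𝒩 : ι → AddSubgroup N)
    [DirectSum.Decomposition 𝒩] (f : M →ₗ[R] N) (hf : GrLC.IsGrHom ℳ 𝒩 f) (g : ι) (x : M)
    (hx : x ∈ LinearMap.ker f) : proj ℳ g x ∈ LinearMap.ker f := by
  rw [LinearMap.mem_ker] at hx ⊢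
  rw [← proj_hom ℳ 𝒩 f hf, hx, proj_zero]

end Free

section HomComponents

variable {K : Type u} [AddCommGroup K] [Module R K] (𝒦 : ι → AddSubgroup K)
  [DirectSum.Decomposition 𝒦] [SetLike.GradedSMul 𝒜 𝒦]
  {I : Type u} [AddCommGroup I] [Module R I] (ℐ : ι → AddSubgroup I)
  [DirectSum.Decomposition ℐ] [SetLike.GradedSMul 𝒜 ℐ]

/-- the degree `d` component of a linear map, as an additive map -/
noncomputable def homCompAdd (u : K →ₗ[R] I) (d : ι) : K →+ I :=
  (DirectSum.toAddMonoid fun g =>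
    (projAdd ℐ (g + d)).comp (u.toAddMonoidHom.comp (𝒦 g).subtype)).comp
      (DirectSum.decomposeAddEquiv 𝒦).toAddMonoidHom

theorem homCompAdd_of_mem (u : K →ₗ[R] I) (d : ι) {g : ι} {x : K} (hx : x ∈ 𝒦 g) :
    homCompAdd 𝒦 ℐ u d x = proj ℐ (g + d) (u x) := by
  change (DirectSum.toAddMonoid _) (DirectSum.decompose 𝒦 x) = _
  rw [DirectSum.decompose_of_mem 𝒦 hx, DirectSum.toAddMonoid_of]
  rfl

include 𝒜 in
theorem homCompAdd_smul (u : K →ₗ[R] I) (d : ι) (r : R) (x : K) :
    homCompAdd 𝒦 ℐ u d (r • x) = r • homCompAdd 𝒦 ℐ u d x := by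
  classical
  induction x using DirectSum.Decomposition.inductionOn 𝒦 with
  | zero => simp
  | add x y hx hy => rw [smul_add, map_add, map_add, hx, hy, smul_add]
  | homogeneous x =>
    rename_i g
    induction r using DirectSum.Decomposition.inductionOn 𝒜 with
    | zero => simp
    | add r s hr hs => rw [add_smul, map_add, hr, hs, add_smul]
    | homogeneous r =>
      rename_i k
      have hrx : (r : R) • (x : K) ∈ 𝒦 (k + g) := by
        have := SetLike.GradedSMul.smul_mem (A := 𝒜) (B := 𝒦) r.2 x.2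
        rwa [vadd_eq_add] at this
      rw [homCompAdd_of_mem 𝒦 ℐ u d hrx, homCompAdd_of_mem 𝒦 ℐ u d x.2, map_smul,
        proj_smul_of_mem 𝒜 ℐ r.2]
      congr 2
      abel

/-- the degree `d` component of a linear map -/
noncomputable def homComp (u : K →ₗ[R] I) (d : ι) : K →ₗ[R] I where
  toFun := homCompAdd 𝒦 ℐ u d
  map_add' := map_add _
  map_smul' := homCompAdd_smul 𝒜 𝒦 ℐ u d

theorem homComp_of_mem (u : K →ₗ[R] I) (d : ι) {g : ι} {x : K} (hx : x ∈ 𝒦 g) :
    homComp 𝒜 𝒦 ℐ u d x = proj ℐ (g + d) (u x) :=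
  homCompAdd_of_mem 𝒦 ℐ u d hx

theorem homComp_isGrHomDeg (u : K →ₗ[R] I) (d : ι) :
    GrLC.IsGrHomDeg 𝒦 ℐ (homComp 𝒜 𝒦 ℐ u d) d := by
  intro g x hx
  rw [homComp_of_mem 𝒜 𝒦 ℐ u d hx]
  exact proj_mem ℐ _ _

/-- A linear map from a finitely generated graded module is a finite sum of homogeneous maps. -/
theorem exists_finset_homComp (hfg : (⊤ : Submodule R K).FG) (u : K →ₗ[R] I) :
    ∃ T : Finset ι, u = ∑ d ∈ T, homComp 𝒜 𝒦 ℐ u d := by
  classical
  obtain ⟨n, e, k, hk, hspan⟩ := exists_homogeneous_gens 𝒦 hfg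
  let T : Finset ι := Finset.univ.biUnion fun j : Fin n =>
    (DirectSum.decompose ℐ (u (k j))).support.image fun g => g - e j
  refine ⟨T, ?_⟩
  apply LinearMap.ext_on_range hspan
  intro j
  rw [LinearMap.sum_apply]
  have h1 : ∀ d, homComp 𝒜 𝒦 ℐ u d (k j) = proj ℐ (e j + d) (u (k j)) :=
    fun d => homComp_of_mem 𝒜 𝒦 ℐ u d (hk j)
  simp only [h1]
  -- sum over T of proj (e j + d) = sum over support
  have h2 : ∑ d ∈ T, proj ℐ (e j + d) (u (k j)) =
      ∑ d ∈ (DirectSum.decompose ℐ (u (k j))).support.image (fun g => g - e j),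
        proj ℐ (e j + d) (u (k j)) := by
    symm
    apply Finset.sum_subset
    · intro d hd
      exact Finset.mem_biUnion.2 ⟨j, Finset.mem_univ j, hd⟩
    · intro d _ hd
      apply proj_eq_zero_of_notMem
      intro hmem
      apply hd
      exact Finset.mem_image.2 ⟨e j + d, hmem, by abel⟩
  rw [h2, Finset.sum_image (fun a _ b _ h => sub_left_injective h)]
  simp only [add_sub_cancel]
  exact (sum_proj ℐ (u (k j))).symm

end HomComponents

end Groth.Agent.Lib.Helper20.GrKit
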