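import Mathlib
import Groth.Prelude.Def_GrLC
import Groth.Agent.Lib.Helper26.GrProj
import Groth.Agent.Lib.Helper20.GrKit1
import Groth.Agent.Lib.Helper20.GrKit2

/-!
# `Ext` vanishing for *injective modules

For a Noetherian graded ring, a finitely generated graded module `M` and a *injective module `I`,
`Ext^i(M, I) = 0` for `i ≥ 1`; the same for `F ⧸ K` with `F` graded projective and `K` a finitely
generated component-stable submodule.
-/

set_option autoImplicit false
set_option linter.unusedSectionVars false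
set_option linter.unusedVariables false

namespace Groth.Agent.Lib.Helper20.GrKit

open DirectSum Groth.Agent.Lib.Helper26.GrProj CategoryTheory Abelian

universe u

variable {ι : Type} [AddCommGroup ι] [DecidableEq ι] {R : Type u} [CommRing R]
  (𝒜 : ι → AddSubgroup R) [GradedRing 𝒜]

section Extension

variable {F : Type u} [AddCommGroup F] [Module R F] (ℱ : ι → AddSubgroup F)
  [DirectSum.Decomposition ℱ] [SetLike.GradedSMul 𝒜 ℱ]
  (K : Submodule R F) (hK : ∀ g x, x ∈ K → proj ℱ g x ∈ K)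
  {I : Type u} [AddCommGroup I] [Module R I] (ℐ : ι → AddSubgroup I)
  [DirectSum.Decomposition ℐ] [SetLike.GradedSMul 𝒜 ℐ] (hI : GrLC.IsStarInj 𝒜 ℐ)

include hK hI in
theorem exists_extension_of_deg (u : K →ₗ[R] I) (d : ι)
    (hu : ∀ g (x : K), (x : F) ∈ ℱ g → u x ∈ ℐ (g + d)) :
    ∃ h : F →ₗ[R] I, h ∘ₗ K.subtype = u := by
  have hK' : ∀ g x, x ∈ K → proj (shiftGr ℱ d) g x ∈ K := fun g x hx => by
    rw [proj_shiftGr]; exact hK _ x hx
  letI : DirectSum.Decomposition (subGr (shiftGr ℱ d) K) := subDecomposition (shiftGr ℱ d) K hK'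
  let A : GrLC.GMod.{u} 𝒜 := { carrier := K, gr := subGr (shiftGr ℱ d) K }
  let B : GrLC.GMod.{u} 𝒜 := { carrier := F, gr := shiftGr ℱ d }
  obtain ⟨h, _, hcomp⟩ := hI A B K.subtype (fun g x hx => hx) Subtype.val_injective u
    (fun g x hx => by
      have := hu (g - d) x hx
      rwa [sub_add_cancel] at this)
  exact ⟨h, hcomp⟩

include hK hI in
theorem exists_extension (hfg : K.FG) (u : K →ₗ[R] I) :
    ∃ h : F →ₗ[R] I, h ∘ₗ K.subtype = u := by
  classical
  letI : DirectSum.Decomposition (subGr ℱ K) := subDecomposition ℱ K hK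
  have hfg' : (⊤ : Submodule R K).FG := Module.finite_def.1 (Module.Finite.iff_fg.2 hfg)
  obtain ⟨T, hT⟩ := exists_finset_homComp 𝒜 (subGr ℱ K) ℐ hfg' u
  have hex : ∀ d, ∃ h : F →ₗ[R] I, h ∘ₗ K.subtype = homComp 𝒜 (subGr ℱ K) ℐ u d := fun d =>
    exists_extension_of_deg 𝒜 ℱ K hK ℐ hI _ d
      (fun g x hx => homComp_isGrHomDeg 𝒜 (subGr ℱ K) ℐ u d g x hx)
  choose h hh using hex
  refine ⟨∑ d ∈ T, h d, ?_⟩
  conv_rhs => rw [hT]
  ext x
  rw [LinearMap.comp_apply, LinearMap.sum_apply, LinearMap.sum_apply]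
  refine Finset.sum_congr rfl fun d _ => ?_
  rw [← hh d]; rfl

end Extension

section ExtVanishing

variable {I : Type u} [AddCommGroup I] [Module R I] (ℐ : ι → AddSubgroup I)
  [DirectSum.Decomposition ℐ] [SetLike.GradedSMul 𝒜 ℐ] (hI : GrLC.IsStarInj 𝒜 ℐ)

include hI in
/-- one step of dimension shifting along a presentation by a graded projective module -/
theorem ext_subsingleton_step {F : Type u} [AddCommGroup F] [Module R F] [Module.Projective R F]
    (ℱ : ι → AddSubgroup F) [DirectSum.Decomposition ℱ] [SetLike.GradedSMul 𝒜 ℱ]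
    {M : Type u} [AddCommGroup M] [Module R M] (φ : F →ₗ[R] M) (hφ : Function.Surjective φ)
    (hK : ∀ g x, x ∈ LinearMap.ker φ → proj ℱ g x ∈ LinearMap.ker φ)
    (hfg : (LinearMap.ker φ).FG) (i : ℕ)
    (hprev : i ≠ 0 →
      Subsingleton (Ext.{u} (ModuleCat.of R (LinearMap.ker φ)) (ModuleCat.of R I) i)) :
    Subsingleton (Ext.{u} (ModuleCat.of R M) (ModuleCat.of R I) (i + 1)) := by
  have hS := LinearMap.shortExact_shortComplexKer hφ
  haveI : Module.Projective R (ModuleCat.of R F) := ‹Module.Projective R F›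
  haveI : Projective φ.shortComplexKer.X₂ :=
    ModuleCat.projective_of_categoryTheory_projective (ModuleCat.of R F)
  refine ⟨fun a b => ?_⟩
  suffices h0 : ∀ x : Ext.{u} (ModuleCat.of R M) (ModuleCat.of R I) (i + 1), x = 0 by
    rw [h0 a, h0 b]
  intro x₃
  have hx₃ : (Ext.mk₀ φ.shortComplexKer.g).comp x₃ (zero_add (i + 1)) = 0 :=
    Ext.eq_zero_of_projective _
  obtain ⟨x₁, hx₁⟩ := Ext.contravariant_sequence_exact₃ hS (ModuleCat.of R I) x₃ hx₃
    (show 1 + i = i + 1 by omega)
  by_cases hi : i = 0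
  · subst hi
    obtain ⟨f, rfl⟩ := (Ext.mk₀_bijective _ _).2 x₁
    obtain ⟨h, hh⟩ := exists_extension 𝒜 ℱ (LinearMap.ker φ) hK ℐ hI hfg f.hom
    have hf : f = φ.shortComplexKer.f ≫ ModuleCat.ofHom h := by
      ext y
      have := LinearMap.congr_fun hh y
      simpa using this.symm
    rw [← hx₁, hf, ← Ext.mk₀_comp_mk₀]
    exact ShortComplex.ShortExact.extClass_comp_assoc hS _
  · haveI := hprev hi
    rw [← hx₁, Subsingleton.elim x₁ 0, Ext.comp_zero]

include hI in
/-- `Ext^i(M, I) = 0` for `i ≥ 1`, `M` finitely generated graded, `I` *injective. -/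
theorem ext_subsingleton_succ [IsNoetherianRing R] (i : ℕ) :
    ∀ (M : Type u) [AddCommGroup M] [Module R M] (ℳ : ι → AddSubgroup M)
      [DirectSum.Decomposition ℳ] [SetLike.GradedSMul 𝒜 ℳ] [Module.Finite R M],
      Subsingleton (Ext.{u} (ModuleCat.of R M) (ModuleCat.of R I) (i + 1)) := by
  induction i with
  | zero =>
    intro M _ _ ℳ _ _ _
    obtain ⟨n, d, m, hm, hspan⟩ := exists_homogeneous_gens ℳ (Module.finite_def.1 ‹Module.Finite R M›)
    have hgr := linearCombination_isGrHom 𝒜 ℳ d m hm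
    exact ext_subsingleton_step 𝒜 ℐ hI (frGr 𝒜 d) (Fintype.linearCombination R m)
      (linearCombination_surjective m hspan)
      (ker_proj_stable (frGr 𝒜 d) ℳ _ hgr) (IsNoetherian.noetherian _) 0 (fun h => absurd rfl h)
  | succ i ih =>
    intro M _ _ ℳ _ _ _
    obtain ⟨n, d, m, hm, hspan⟩ := exists_homogeneous_gens ℳ (Module.finite_def.1 ‹Module.Finite R M›)
    have hgr := linearCombination_isGrHom 𝒜 ℳ d m hm
    have hK := ker_proj_stable (frGr 𝒜 d) ℳ _ hgr
    refine ext_subsingleton_step 𝒜 ℐ hI (frGr 𝒜 d) (Fintype.linearCombination R m)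
      (linearCombination_surjective m hspan) hK (IsNoetherian.noetherian _) (i + 1) (fun _ => ?_)
    letI : DirectSum.Decomposition (subGr (frGr 𝒜 d) (LinearMap.ker (Fintype.linearCombination R m))) :=
      subDecomposition (frGr 𝒜 d) _ hK
    haveI : Module.Finite R (LinearMap.ker (Fintype.linearCombination R m)) :=
      Module.Finite.iff_fg.2 (IsNoetherian.noetherian _)
    exact ih (LinearMap.ker (Fintype.linearCombination R m))
      (subGr (frGr 𝒜 d) (LinearMap.ker (Fintype.linearCombination R m)))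

include hI in
/-- `Ext^i(M, I) = 0` for `i ≥ 1` when `M` is presented by a graded projective module modulo a
finitely generated component-stable submodule. -/
theorem ext_subsingleton_of_presentation [IsNoetherianRing R]
    {F : Type u} [AddCommGroup F] [Module R F] [Module.Projective R F]
    (ℱ : ι → AddSubgroup F) [DirectSum.Decomposition ℱ] [SetLike.GradedSMul 𝒜 ℱ]
    {M : Type u} [AddCommGroup M] [Module R M] (φ : F →ₗ[R] M) (hφ : Function.Surjective φ)
    (hK : ∀ g x, x ∈ LinearMap.ker φ → proj ℱ g x ∈ LinearMap.ker φ)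
    (hfg : (LinearMap.ker φ).FG) (i : ℕ) :
    Subsingleton (Ext.{u} (ModuleCat.of R M) (ModuleCat.of R I) (i + 1)) := by
  refine ext_subsingleton_step 𝒜 ℐ hI ℱ φ hφ hK hfg i (fun hi => ?_)
  obtain ⟨j, rfl⟩ := Nat.exists_eq_succ_of_ne_zero hi
  letI : DirectSum.Decomposition (subGr ℱ (LinearMap.ker φ)) := subDecomposition ℱ _ hK
  haveI : Module.Finite R (LinearMap.ker φ) := Module.Finite.iff_fg.2 hfg
  exact ext_subsingleton_succ 𝒜 ℐ hI j (LinearMap.ker φ) (subGr ℱ (LinearMap.ker φ))

end ExtVanishing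

end Groth.Agent.Lib.Helper20.GrKit
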