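import Mathlib
import Groth.Prelude.Def_GrLC
import Groth.Prelude.Def_Wider
import Groth.Agent.Lib.Helper26.GrProj
import Groth.Agent.Lib.Helper20.GrKit3
import Groth.Agent.Lib.helper11.LCKit2

/-!
# *injective modules are acyclic for `Γ_a` (a homogeneous ideal)
-/

set_option autoImplicit false
set_option linter.unusedSectionVars false
set_option linter.unusedVariables false

namespace Groth.Agent.Lib.Helper20.GrKit

open DirectSum Groth.Agent.Lib.Helper26.GrProj CategoryTheory Abelian

universe u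

variable {ι : Type} [AddCommGroup ι] [DecidableEq ι] {R : Type u} [CommRing R]
  (𝒜 : ι → AddSubgroup R) [GradedRing 𝒜]
  {I : Type u} [AddCommGroup I] [Module R I] (ℐ : ι → AddSubgroup I)
  [DirectSum.Decomposition ℐ] [SetLike.GradedSMul 𝒜 ℐ] (hI : GrLC.IsStarInj 𝒜 ℐ)

include hI in
theorem ext_quotient_pow_subsingleton [IsNoetherianRing R] (a : HomogeneousIdeal 𝒜) (k i : ℕ) :
    Subsingleton (Ext.{u} (ModuleCat.of R (R ⧸ a.toIdeal ^ k)) (ModuleCat.of R I) (i + 1)) := by
  refine ext_subsingleton_of_presentation 𝒜 ℐ hI 𝒜 (Submodule.mkQ (a.toIdeal ^ k))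
    (Submodule.mkQ_surjective _) ?_ ?_ i
  · intro g x hx
    rw [Submodule.ker_mkQ] at hx ⊢
    exact pow_isHomogeneous 𝒜 a k g hx
  · rw [Submodule.ker_mkQ]
    exact IsNoetherian.noetherian _

include hI in
theorem localCohomology_subsingleton [IsNoetherianRing R] (a : HomogeneousIdeal 𝒜) (i : ℕ)
    (hi : 1 ≤ i) : Subsingleton (LocCoh.H a.toIdeal i I) := by
  obtain ⟨j, rfl⟩ := Nat.exists_eq_succ_of_ne_zero (by omega : i ≠ 0)
  apply Groth.Agent.Lib.helper11.LCKit.subsingleton_of_forall_ext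
  intro k
  exact ext_quotient_pow_subsingleton 𝒜 ℐ hI a k j

end Groth.Agent.Lib.Helper20.GrKit
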