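import Mathlib
import Groth.Prelude.Def_GrLC
import Groth.Prelude.Def_Wider
import Groth.Agent.Lib.Helper20.GrKit5

/-!
# The cohomology of `Γ_I` of a `Γ_I`-acyclic resolution computes local cohomology (ungraded form)
-/

set_option autoImplicit false
set_option linter.unusedSectionVars false
set_option linter.unusedVariables false

namespace Groth.Agent.Lib.Helper20.AcRes

open DirectSum CategoryTheory Abelian Groth.Agent.Lib.helper11.LCKit Groth.Agent.Lib.Helper20.GrKit

universe u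

/-- a resolution of a module (no hypothesis on the terms) -/
structure Res (B : Type u) [CommRing B] (N : Type u) [AddCommGroup N] [Module B N] :
    Type (u + 1) where
  X : ℕ → Type u
  [acg : ∀ n, AddCommGroup (X n)]
  [mod : ∀ n, Module B (X n)]
  d : ∀ n : ℕ, X n →ₗ[B] X (n + 1)
  ε : N →ₗ[B] X 0
  ε_injective : Function.Injective ε
  exact_zero : LinearMap.ker (d 0) = LinearMap.range ε
  exact_succ : ∀ n : ℕ, LinearMap.ker (d (n + 1)) = LinearMap.range (d n)

namespace Res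

variable {B : Type u} [CommRing B] {N : Type u} [AddCommGroup N] [Module B N]

instance (E : Res B N) (n : ℕ) : AddCommGroup (E.X n) := E.acg n
instance (E : Res B N) (n : ℕ) : Module B (E.X n) := E.mod n

variable (E : Res B N) (I : Ideal B)

def cocyc (i : ℕ) : Submodule B (E.X i) :=
  GrLC.gam I (E.X i) ⊓ LinearMap.ker (E.d i)

def cobdy : (i : ℕ) → Submodule B (E.X i)
  | 0 => ⊥
  | n + 1 => (GrLC.gam I (E.X n)).map (E.d n)

abbrev H (i : ℕ) : Type u :=
  ↥(E.cocyc I i) ⧸ (E.cobdy I i).comap (E.cocyc I i).subtype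

end Res

variable {B : Type u} [CommRing B] {N : Type u} [AddCommGroup N] [Module B N]
  (E : Res B N) (I : Ideal B)

/-- `M ≃ ker d⁰`. -/
noncomputable def w0 : N ≃ₗ[B] LinearMap.ker (E.d 0) :=
  (LinearEquiv.ofInjective E.ε E.ε_injective) ≪≫ₗ LinearEquiv.ofEq _ _ E.exact_zero.symm

theorem shift (hac : ∀ n j, 1 ≤ j → Subsingleton (LocCoh.H I j (E.X n)))
    (n j : ℕ) (hj : 1 ≤ j) :
    Nonempty (LocCoh.H I j (LinearMap.ker (E.d (n + 1))) ≃ₗ[B]
      LocCoh.H I (j + 1) (LinearMap.ker (E.d n))) := by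
  have hS := LinearMap.shortExact_shortComplexKer (LinearMap.surjective_rangeRestrict (E.d n))
  have hinj : Function.Injective (δ I j hS).hom := by
    rw [injective_iff_map_eq_zero]
    intro x hx
    obtain ⟨x₂, rfl⟩ := exact₃ I j hS x hx
    haveI : Subsingleton ((localCohomology I j).obj
        (E.d n).rangeRestrict.shortComplexKer.X₂) := hac n j hj
    rw [Subsingleton.elim x₂ 0, map_zero]
  have hsurj : Function.Surjective (δ I j hS).hom := by
    intro x₁
    haveI : Subsingleton ((localCohomology I (j + 1)).obj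
        (E.d n).rangeRestrict.shortComplexKer.X₂) := hac n (j + 1) (by omega)
    exact exact₁ I j hS x₁ (Subsingleton.elim _ _)
  let e₁ : LocCoh.H I j (LinearMap.range (E.d n)) ≃ₗ[B]
      LocCoh.H I (j + 1) (LinearMap.ker (E.d n).rangeRestrict) :=
    LinearEquiv.ofBijective (δ I j hS).hom ⟨hinj, hsurj⟩
  exact ⟨(congrH _ j (LinearEquiv.ofEq _ _ (E.exact_succ n))) ≪≫ₗ e₁ ≪≫ₗ
    congrH _ (j + 1) (LinearEquiv.ofEq _ _ (LinearMap.ker_rangeRestrict _))⟩

theorem chain (hac : ∀ n j, 1 ≤ j → Subsingleton (LocCoh.H I j (E.X n)))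
    (n : ℕ) : ∀ j k : ℕ, 1 ≤ j → k = j + n →
    Nonempty (LocCoh.H I j (LinearMap.ker (E.d n)) ≃ₗ[B]
      LocCoh.H I k (LinearMap.ker (E.d 0))) := by
  induction n with
  | zero =>
    intro j k _ hk
    rw [add_zero] at hk
    subst hk
    exact ⟨LinearEquiv.refl _ _⟩
  | succ n ih =>
    intro j k hj hk
    obtain ⟨e1⟩ := shift E I hac n j hj
    obtain ⟨e2⟩ := ih (j + 1) k (by omega) (by omega)
    exact ⟨e1 ≪≫ₗ e2⟩

theorem zero : Nonempty (E.H I 0 ≃ₗ[B] LocCoh.H I 0 N) := by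
  let evM := ev I (ModuleCat.of B N)
  have hmem : ∀ t, (E.ε ∘ₗ evM) t ∈ E.cocyc I 0 := by
    intro t
    refine ⟨?_, ?_⟩
    · obtain ⟨k, hk⟩ := (mem_range_ev_iff I (ModuleCat.of B N) (evM t)).1 ⟨t, rfl⟩
      refine ⟨k, fun r hr => ?_⟩
      rw [LinearMap.comp_apply, ← map_smul]
      erw [hk r hr]
      exact map_zero _
    · rw [E.exact_zero]
      exact ⟨_, rfl⟩
  let ψ : LocCoh.H I 0 N →ₗ[B] E.cocyc I 0 :=
    LinearMap.codRestrict (E.cocyc I 0) (E.ε ∘ₗ evM) hmem
  have hψinj : Function.Injective ψ := by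
    intro s t hst
    have h1 : E.ε (evM s) = E.ε (evM t) := congrArg Subtype.val hst
    exact ev_injective I _ (E.ε_injective h1)
  have hψsurj : Function.Surjective ψ := by
    rintro ⟨z, hz1, hz2⟩
    rw [E.exact_zero] at hz2
    obtain ⟨m, rfl⟩ := hz2
    obtain ⟨k, hk⟩ := hz1
    have hm : (m : ModuleCat.of B N) ∈ LinearMap.range evM := by
      rw [mem_range_ev_iff]
      refine ⟨k, fun r hr => ?_⟩
      apply E.ε_injective
      rw [map_smul, map_zero]
      exact hk r hr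
    obtain ⟨t, ht⟩ := hm
    refine ⟨t, Subtype.ext ?_⟩
    change E.ε (evM t) = E.ε m
    rw [ht]
  have hbot : (E.cobdy I 0).comap (E.cocyc I 0).subtype = ⊥ := by
    change Submodule.comap (E.cocyc I 0).subtype ⊥ = ⊥
    rw [Submodule.comap_bot, Submodule.ker_subtype]
  exact ⟨(Submodule.quotEquivOfEqBot _ hbot) ≪≫ₗ
    (LinearEquiv.ofBijective ψ ⟨hψinj, hψsurj⟩).symm⟩

theorem top (n : ℕ) (hac1 : Subsingleton (LocCoh.H I 1 (E.X n))) :
    Nonempty (E.H I (n + 1) ≃ₗ[B] LocCoh.H I 1 (LinearMap.ker (E.d n))) := by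
  have hS := LinearMap.shortExact_shortComplexKer (LinearMap.surjective_rangeRestrict (E.d n))
  let S := (E.d n).rangeRestrict.shortComplexKer
  let evT := ev I S.X₃
  let evX := ev I S.X₂
  -- the comparison map
  have hmem : ∀ t, ((LinearMap.range (E.d n)).subtype ∘ₗ evT) t ∈ E.cocyc I (n + 1) := by
    intro t
    refine ⟨?_, ?_⟩
    · obtain ⟨k, hk⟩ := (mem_range_ev_iff I S.X₃ (evT t)).1 ⟨t, rfl⟩
      refine ⟨k, fun r hr => ?_⟩
      rw [LinearMap.comp_apply, ← map_smul]
      erw [hk r hr]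
      exact map_zero _
    · rw [E.exact_succ n]
      exact (evT t).2
  let ψ : (localCohomology I 0).obj S.X₃ →ₗ[B] E.cocyc I (n + 1) :=
    LinearMap.codRestrict (E.cocyc I (n + 1)) ((LinearMap.range (E.d n)).subtype ∘ₗ evT) hmem
  have hψinj : Function.Injective ψ := by
    intro s t hst
    have h1 : ((evT s : LinearMap.range (E.d n)) : (E.X (n + 1))) = (evT t) :=
      congrArg (fun w : E.cocyc I (n + 1) => (w : (E.X (n + 1)))) hst
    exact ev_injective I _ (Subtype.ext h1)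
  have hψsurj : Function.Surjective ψ := by
    rintro ⟨z, hz1, hz2⟩
    rw [E.exact_succ n] at hz2
    obtain ⟨k, hk⟩ := hz1
    have hm : (⟨z, hz2⟩ : S.X₃) ∈ LinearMap.range evT := by
      rw [mem_range_ev_iff]
      refine ⟨k, fun r hr => ?_⟩
      apply Subtype.ext
      exact hk r hr
    obtain ⟨t, ht⟩ := hm
    refine ⟨t, Subtype.ext ?_⟩
    change ((evT t : LinearMap.range (E.d n)) : (E.X (n + 1))) = z
    rw [ht]
  let ψe := LinearEquiv.ofBijective ψ ⟨hψinj, hψsurj⟩
  let Θ : E.cocyc I (n + 1) →ₗ[B] (localCohomology I 1).obj S.X₁ :=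
    (δ I 0 hS).hom ∘ₗ ψe.symm.toLinearMap
  have hΘsurj : Function.Surjective Θ := by
    intro x₁
    haveI : Subsingleton ((localCohomology I (0 + 1)).obj S.X₂) := hac1
    obtain ⟨x₃, hx₃⟩ := exact₁ I 0 hS x₁ (Subsingleton.elim _ _)
    refine ⟨ψe x₃, ?_⟩
    change (δ I 0 hS).hom (ψe.symm (ψe x₃)) = x₁
    rw [LinearEquiv.symm_apply_apply, hx₃]
  -- key computation
  have hkey : ∀ s : (localCohomology I 0).obj S.X₂,
      ((ψ (((localCohomology I 0).map S.g).hom s) : E.cocyc I (n + 1)) :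
        (E.X (n + 1))) = E.d n (evX s) := by
    intro s
    change ((evT (((localCohomology I 0).map S.g).hom s) : LinearMap.range (E.d n)) :
      (E.X (n + 1))) = _
    rw [ev_natural]
    rfl
  have hker : LinearMap.ker Θ = (E.cobdy I (n + 1)).comap (E.cocyc I (n + 1)).subtype := by
    ext z
    rw [LinearMap.mem_ker, Submodule.mem_comap]
    change (δ I 0 hS).hom (ψe.symm z) = 0 ↔
      (z : (E.X (n + 1))) ∈ (GrLC.gam I (E.X n)).map (E.d n)
    constructor
    · intro hz
      obtain ⟨s, hs⟩ := exact₃ I 0 hS _ hz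
      have h1 : ψ (((localCohomology I 0).map S.g).hom s) = z := by
        rw [hs]
        exact ψe.apply_symm_apply z
      refine ⟨evX s, ?_, ?_⟩
      · obtain ⟨k, hk⟩ := (mem_range_ev_iff I S.X₂ (evX s)).1 ⟨s, rfl⟩
        exact ⟨k, hk⟩
      · rw [← hkey s, h1]
    · rintro ⟨x, ⟨k, hk⟩, hx⟩
      have hm : (x : S.X₂) ∈ LinearMap.range evX := by
        rw [mem_range_ev_iff]
        exact ⟨k, hk⟩
      obtain ⟨s, hs⟩ := hm
      have h1 : ψ (((localCohomology I 0).map S.g).hom s) = z := by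
        apply Subtype.ext
        rw [hkey s, hs]
        exact hx
      have h2 : ψe.symm z = ((localCohomology I 0).map S.g).hom s := by
        rw [← h1]
        exact ψe.symm_apply_apply _
      rw [h2]
      exact δ_map_g I 0 hS s
  exact ⟨(Submodule.quotEquivOfEq _ _ hker.symm) ≪≫ₗ
    (LinearMap.quotKerEquivOfSurjective Θ hΘsurj) ≪≫ₗ
    congrH _ 1 (LinearEquiv.ofEq _ _ (LinearMap.ker_rangeRestrict _))⟩

/-- The cohomology of `Γ_a` of a `Γ_a`-acyclic resolution computes local cohomology. -/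
theorem bridge (hac : ∀ n j, 1 ≤ j → Subsingleton (LocCoh.H I j (E.X n)))
    (i : ℕ) : Nonempty (E.H I i ≃ₗ[B] LocCoh.H I i N) := by
  cases i with
  | zero => exact zero E I
  | succ n =>
    obtain ⟨e1⟩ := top E I n (hac n 1 le_rfl)
    obtain ⟨e2⟩ := chain E I hac n 1 (n + 1) le_rfl (by omega)
    exact ⟨e1 ≪≫ₗ e2 ≪≫ₗ congrH _ (n + 1) (w0 E).symm⟩


end Groth.Agent.Lib.Helper20.AcRes
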