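import Mathlib

/-! Coefficient of `x₁ ⋯ x_r` as an alternating sum of evaluations. -/

set_option autoImplicit false

namespace Groth.Agent.Lib.Helper20.AltEval

universe u

open MvPolynomial

variable (R : Type u) [CommRing R] (r : ℕ)

theorem S_eq (d : Fin r →₀ ℕ) :
    ∑ J : Finset (Fin r), (-1 : R) ^ J.card * ∏ i, (if i ∈ J then (-1 : R) else 0) ^ d i
      = ∏ i, ((-1 : R) ^ (d i + 1) + 0 ^ d i) := by
  classical
  rw [Finset.prod_add, Finset.powerset_univ]
  apply Finset.sum_congr rfl
  intro J _
  rw [← Finset.prod_mul_prod_compl J (fun i => (if i ∈ J then (-1 : R) else 0) ^ d i),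
    ← Finset.prod_const, ← mul_assoc, ← Finset.prod_mul_distrib, Finset.compl_eq_univ_sdiff]
  congr 1
  · apply Finset.prod_congr rfl
    intro i hi
    rw [if_pos hi, pow_succ, mul_comm]
  · apply Finset.prod_congr rfl
    intro i hi
    rw [Finset.mem_sdiff] at hi
    rw [if_neg hi.2]

theorem S_val (d : Fin r →₀ ℕ) (hd : (d.sum fun _ e => e) ≤ r) :
    ∏ i, ((-1 : R) ^ (d i + 1) + 0 ^ d i) =
      if d = ∑ i : Fin r, Finsupp.single i 1 then 1 else 0 := by
  classical
  have hone : ∀ j : Fin r, (∑ i : Fin r, Finsupp.single i 1 : Fin r →₀ ℕ) j = 1 := by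
    intro j
    rw [Finsupp.finset_sum_apply, Finset.sum_eq_single j]
    · simp
    · intro i _ hij; exact Finsupp.single_eq_of_ne (Ne.symm hij)
    · intro h; exact absurd (Finset.mem_univ j) h
  by_cases hz : ∃ i, d i = 0
  · obtain ⟨i, hi⟩ := hz
    have hne : d ≠ ∑ i : Fin r, Finsupp.single i 1 := by
      intro h
      have := hone i
      rw [← h, hi] at this
      exact absurd this (by norm_num)
    rw [if_neg hne]
    apply Finset.prod_eq_zero (Finset.mem_univ i)
    rw [hi]; norm_num
  · push_neg at hz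
    have hsum : (d.sum fun _ e => e) = ∑ i, d i := Finsupp.sum_fintype _ _ (fun _ => rfl)
    have hall : ∀ i, d i = 1 := by
      by_contra hcon
      push_neg at hcon
      obtain ⟨i0, hi0⟩ := hcon
      have h2 : ∑ i : Fin r, 1 < ∑ i, d i := by
        apply Finset.sum_lt_sum
        · intro i _; have := hz i; omega
        · exact ⟨i0, Finset.mem_univ _, by have := hz i0; omega⟩
      simp at h2
      omega
    have heq : d = ∑ i : Fin r, Finsupp.single i 1 := by
      ext j; rw [hall j, hone j]
    rw [if_pos heq]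
    apply Finset.prod_eq_one
    intro i _
    rw [hall i]; norm_num

theorem main (P : MvPolynomial (Fin r) R) (hP : P.totalDegree ≤ r) :
    MvPolynomial.coeff (∑ i : Fin r, Finsupp.single i 1) P =
      ∑ J : Finset (Fin r), (-1 : R) ^ J.card *
        MvPolynomial.eval (fun j => if j ∈ J then (-1 : R) else 0) P := by
  classical
  have h1 : ∀ J : Finset (Fin r), (-1 : R) ^ J.card *
      MvPolynomial.eval (fun j => if j ∈ J then (-1 : R) else 0) P =
      ∑ d ∈ P.support, coeff d P *
        ((-1 : R) ^ J.card * ∏ i, (if i ∈ J then (-1 : R) else 0) ^ d i) := by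
    intro J
    rw [eval_eq', Finset.mul_sum]
    apply Finset.sum_congr rfl
    intro d _
    ring
  simp_rw [h1]
  rw [Finset.sum_comm]
  simp_rw [← Finset.mul_sum, S_eq]
  have h2 : ∀ d ∈ P.support, coeff d P * ∏ i, ((-1 : R) ^ (d i + 1) + 0 ^ d i) =
      coeff d P * (if d = ∑ i : Fin r, Finsupp.single i 1 then 1 else 0) := by
    intro d hd
    rw [S_val R r d (le_trans (le_totalDegree hd) hP)]
  rw [Finset.sum_congr rfl h2]
  simp only [mul_ite, mul_one, mul_zero]
  rw [Finset.sum_ite_eq']
  split_ifs with h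
  · rfl
  · exact (notMem_support_iff.mp h)

end Groth.Agent.Lib.Helper20.AltEval
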