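import Mathlib

/-!
# Alternants in two sets of variables form a basis of the alternating polynomials
-/

set_option autoImplicit false
universe u
noncomputable section
namespace Groth.Agent.Lib.Helper20.Alternants

open MvPolynomial Equiv

variable {k : Type u} [CommRing k] {n : ℕ}

/-- the action of a permutation on the variables -/
def ρ (σ : Perm (Fin n)) : MvPolynomial (Fin n × Fin 2) k →ₐ[k] MvPolynomial (Fin n × Fin 2) k :=
  rename (fun v : Fin n × Fin 2 => (σ v.1, v.2))

theorem ρ_apply (σ : Perm (Fin n)) (f : MvPolynomial (Fin n × Fin 2) k) :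
    ρ σ f = rename (fun v : Fin n × Fin 2 => (σ v.1, v.2)) f := rfl

theorem ρ_mul (σ τ : Perm (Fin n)) (f : MvPolynomial (Fin n × Fin 2) k) :
    ρ σ (ρ τ f) = ρ (σ * τ) f := by
  simp only [ρ_apply, rename_rename]
  rfl

/-- the matrix of the alternant -/
def M (p : Fin n → ℕ × ℕ) : Matrix (Fin n) (Fin n) (MvPolynomial (Fin n × Fin 2) k) :=
  Matrix.of fun i j : Fin n =>
    (X (i, 0) : MvPolynomial (Fin n × Fin 2) k) ^ (p j).1 * X (i, 1) ^ (p j).2

/-- the exponent vector of the diagonal monomial -/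
def e (p : Fin n → ℕ × ℕ) : (Fin n × Fin 2) →₀ ℕ :=
  Finsupp.equivFunOnFinite.symm (fun v : Fin n × Fin 2 => if v.2 = 0 then (p v.1).1 else (p v.1).2)

theorem e_apply_zero (p : Fin n → ℕ × ℕ) (j : Fin n) : e p (j, 0) = (p j).1 := by
  simp [e]

theorem e_apply_one (p : Fin n → ℕ × ℕ) (j : Fin n) : e p (j, 1) = (p j).2 := by
  simp [e]

theorem monomial_e (p : Fin n → ℕ × ℕ) :
    (monomial (e p) (1 : k)) = ∏ j : Fin n, (X (j, 0) : MvPolynomial (Fin n × Fin 2) k) ^ (p j).1 *
      X (j, 1) ^ (p j).2 := by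
  rw [monomial_eq, C_1, one_mul, Finsupp.prod_fintype _ _ (fun _ => pow_zero _),
    Fintype.prod_prod_type]
  refine Finset.prod_congr rfl fun j _ => ?_
  rw [Fin.prod_univ_two, e_apply_zero, e_apply_one]

theorem monomial_of_fun (m : (Fin n × Fin 2) →₀ ℕ) :
    m = e (fun j => (m (j, 0), m (j, 1))) := by
  ext ⟨j, c⟩
  fin_cases c
  · change m (j, 0) = (e fun j => (m (j, 0), m (j, 1))) (j, 0)
    rw [e_apply_zero]
  · change m (j, 1) = (e fun j => (m (j, 0), m (j, 1))) (j, 1)
    rw [e_apply_one]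

theorem det_M (p : Fin n → ℕ × ℕ) :
    (M (k := k) p).det = ∑ σ : Perm (Fin n), (Perm.sign σ : ℤ) • ρ σ (monomial (e p) (1 : k)) := by
  rw [Matrix.det_apply]
  refine Finset.sum_congr rfl fun σ _ => ?_
  rw [Units.smul_def]
  congr 1
  rw [monomial_e, map_prod]
  refine Finset.prod_congr rfl fun i _ => ?_
  simp [M, ρ_apply]

theorem ρ_det_M (τ : Perm (Fin n)) (p : Fin n → ℕ × ℕ) :
    ρ τ (M (k := k) p).det = (Perm.sign τ : ℤ) • (M (k := k) p).det := by
  rw [AlgHom.map_det]
  have h1 : (ρ τ).mapMatrix (M (k := k) p) = (M (k := k) p).submatrix τ id := by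
    ext i j
    simp [M, ρ_apply]
  rw [h1, Matrix.det_permute]
  simp [zsmul_eq_mul]

/-- antisymmetrization -/
def Alt : MvPolynomial (Fin n × Fin 2) k →ₗ[k] MvPolynomial (Fin n × Fin 2) k :=
  ∑ σ : Perm (Fin n), (Perm.sign σ : ℤ) • (ρ σ).toLinearMap

theorem Alt_apply (f : MvPolynomial (Fin n × Fin 2) k) :
    Alt f = ∑ σ : Perm (Fin n), (Perm.sign σ : ℤ) • ρ σ f := by
  simp [Alt, LinearMap.sum_apply]

theorem Alt_monomial (m : (Fin n × Fin 2) →₀ ℕ) :
    Alt (monomial m (1 : k)) = (M (k := k) (fun j => (m (j, 0), m (j, 1)))).det := by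
  rw [det_M, Alt_apply, ← monomial_of_fun]

theorem Alt_of_alternating (f : MvPolynomial (Fin n × Fin 2) k)
    (hf : ∀ σ : Perm (Fin n), ρ σ f = (Perm.sign σ : ℤ) • f) :
    Alt f = (n.factorial : k) • f := by
  rw [Alt_apply]
  have h1 : ∀ σ : Perm (Fin n), (Perm.sign σ : ℤ) • ρ σ f = f := by
    intro σ
    rw [hf σ, smul_smul]
    have : ((Perm.sign σ : ℤ) * (Perm.sign σ : ℤ)) = 1 := by
      rw [← Units.val_mul, Int.units_mul_self, Units.val_one]
    rw [this, one_smul]
  rw [Finset.sum_congr rfl fun σ _ => h1 σ, Finset.sum_const, Finset.card_univ,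
    Fintype.card_perm, Fintype.card_fin, ← Nat.cast_smul_eq_nsmul k]

theorem mem_span_of_alternating {k : Type u} [Field k] [CharZero k]
    (f : MvPolynomial (Fin n × Fin 2) k)
    (hf : ∀ σ : Perm (Fin n), ρ σ f = (Perm.sign σ : ℤ) • f) :
    f ∈ Submodule.span k (Set.range fun p : Fin n → ℕ × ℕ => (M (k := k) p).det) := by
  have hne : (n.factorial : k) ≠ 0 := Nat.cast_ne_zero.mpr (Nat.factorial_ne_zero n)
  have h1 : f = (n.factorial : k)⁻¹ • Alt f := by
    rw [Alt_of_alternating f hf, smul_smul, inv_mul_cancel₀ hne, one_smul]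
  rw [h1]
  refine Submodule.smul_mem _ _ ?_
  rw [f.as_sum, map_sum]
  refine Submodule.sum_mem _ fun m _ => ?_
  have h2 : monomial m (coeff m f) = coeff m f • monomial m (1 : k) := by
    rw [smul_monomial, smul_eq_mul, mul_one]
  rw [h2, map_smul, Alt_monomial]
  exact Submodule.smul_mem _ _ (Submodule.subset_span ⟨_, rfl⟩)

theorem alternating_of_mem_span
    (f : MvPolynomial (Fin n × Fin 2) k)
    (hf : f ∈ Submodule.span k (Set.range fun p : Fin n → ℕ × ℕ => (M (k := k) p).det))
    (σ : Perm (Fin n)) : ρ σ f = (Perm.sign σ : ℤ) • f := by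
  refine Submodule.span_induction (p := fun x _ => ρ σ x = (Perm.sign σ : ℤ) • x) ?_ ?_ ?_ ?_ hf
  · rintro _ ⟨p, rfl⟩
    exact ρ_det_M σ p
  · simp
  · intro x y _ _ hx hy
    rw [map_add, hx, hy, smul_add]
  · intro a x _ hx
    rw [map_smul, hx, smul_comm]

/-- coefficient extraction -/
theorem coeff_det_M (p p₀ : Fin n → ℕ × ℕ) :
    coeff (e p₀) (M (k := k) p).det =
      ∑ σ : Perm (Fin n), (Perm.sign σ : ℤ) •
        (if (e p).mapDomain (fun v : Fin n × Fin 2 => (σ v.1, v.2)) = e p₀ then (1 : k) else 0) := by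
  rw [det_M, coeff_sum]
  refine Finset.sum_congr rfl fun σ _ => ?_
  rw [ρ_apply, rename_monomial]
  rw [← Int.cast_smul_eq_zsmul k, coeff_smul, coeff_monomial, Int.cast_smul_eq_zsmul]

theorem mapDomain_e_eq_iff (σ : Perm (Fin n)) (p p₀ : Fin n → ℕ × ℕ) :
    (e p).mapDomain (fun v : Fin n × Fin 2 => (σ v.1, v.2)) = e p₀ ↔ ∀ j, p₀ (σ j) = p j := by
  have hinj : Function.Injective (fun v : Fin n × Fin 2 => (σ v.1, v.2)) := by
    rintro ⟨a, b⟩ ⟨c, d⟩ h
    simp only [Prod.mk.injEq, EmbeddingLike.apply_eq_iff_eq] at h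
    exact Prod.ext h.1 h.2
  constructor
  · intro h j
    have h0 := DFunLike.congr_fun h (σ j, 0)
    have h1 := DFunLike.congr_fun h (σ j, 1)
    rw [show ((σ j, (0 : Fin 2)) : Fin n × Fin 2) = (fun v : Fin n × Fin 2 => (σ v.1, v.2)) (j, 0)
      from rfl, Finsupp.mapDomain_apply hinj] at h0
    rw [show ((σ j, (1 : Fin 2)) : Fin n × Fin 2) = (fun v : Fin n × Fin 2 => (σ v.1, v.2)) (j, 1)
      from rfl, Finsupp.mapDomain_apply hinj] at h1
    simp only [e_apply_zero, e_apply_one] at h0 h1
    exact Prod.ext h0.symm h1.symm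
  · intro h
    ext ⟨i, c⟩
    obtain ⟨j, rfl⟩ := σ.surjective i
    rw [show ((σ j, c) : Fin n × Fin 2) = (fun v : Fin n × Fin 2 => (σ v.1, v.2)) (j, c)
      from rfl, Finsupp.mapDomain_apply hinj]
    fin_cases c
    · simp only [Fin.zero_eta, e_apply_zero, h j]
    · simp only [Fin.mk_one, e_apply_one, h j]

theorem perm_eq_one_of_strictMono (σ : Perm (Fin n)) (hσ : StrictMono σ) : σ = 1 := by
  have h1 : hσ.orderIsoOfSurjective σ σ.surjective = OrderIso.refl (Fin n) :=
    Subsingleton.elim _ _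
  ext j
  have := congrArg (fun f : Fin n ≃o Fin n => f j) h1
  simpa using congrArg Fin.val this

theorem linearIndependent_det_M {k : Type u} [Field k] :
    LinearIndependent k (fun p : {p : Fin n → ℕ ×ₗ ℕ // StrictMono p} =>
      (M (k := k) (fun j => ofLex (p.1 j))).det) := by
  rw [linearIndependent_iff']
  intro s g hg p₀ hp₀
  have h1 := congrArg (coeff (e (fun j => ofLex (p₀.1 j)))) hg
  rw [coeff_sum, coeff_zero] at h1
  have h2 : ∀ p ∈ s, coeff (e (fun j => ofLex (p₀.1 j)))
      (g p • (M (k := k) (fun j => ofLex (p.1 j))).det) = if p = p₀ then g p else 0 := by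
    intro p _
    rw [coeff_smul, coeff_det_M]
    by_cases hpp : p = p₀
    · subst hpp
      rw [if_pos rfl, Finset.sum_eq_single (1 : Perm (Fin n))]
      · rw [if_pos]
        · simp
        · rw [mapDomain_e_eq_iff]; intro j; rfl
      · intro σ _ hσ
        rw [if_neg, smul_zero]
        rw [mapDomain_e_eq_iff]
        intro h
        apply hσ
        apply perm_eq_one_of_strictMono
        intro i j hij
        have h3 := p.2 hij
        have hi := h i
        have hj := h j
        by_contra hcon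
        rw [not_lt] at hcon
        have h4 := p.2.monotone hcon
        have h5 : p.1 (σ j) = p.1 j := by
          apply ofLex.injective; exact hj
        have h6 : p.1 (σ i) = p.1 i := by
          apply ofLex.injective; exact hi
        rw [h5, h6] at h4
        exact absurd h3 (not_lt.mpr h4)
      · intro h; exact absurd (Finset.mem_univ _) h
    · rw [if_neg hpp]
      rw [Finset.sum_eq_zero, smul_zero]
      intro σ _
      rw [if_neg, smul_zero]
      rw [mapDomain_e_eq_iff]
      intro h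
      -- p₀ ∘ σ = p, both strictly monotone, so σ = 1 and p = p₀
      have hσ : StrictMono σ := by
        intro i j hij
        have h3 := p.2 hij
        by_contra hcon
        rw [not_lt] at hcon
        have h4 := p₀.2.monotone hcon
        have h5 : p₀.1 (σ j) = p.1 j := by
          apply ofLex.injective; exact h j
        have h6 : p₀.1 (σ i) = p.1 i := by
          apply ofLex.injective; exact h i
        rw [h5, h6] at h4
        exact absurd h3 (not_lt.mpr h4)
      have hσ1 := perm_eq_one_of_strictMono σ hσ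
      apply hpp
      apply Subtype.ext
      funext j
      apply ofLex.injective
      have := h j
      rw [hσ1] at this
      exact this.symm
  rw [Finset.sum_congr rfl h2, Finset.sum_ite_eq' s p₀] at h1
  rwa [if_pos hp₀] at h1

end Groth.Agent.Lib.Helper20.Alternants
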