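import Mathlib

/-!
# Ideals generated by anti-invariant elements: invariants of odd powers lie in the next power
-/

namespace Groth.Agent.Lib.Helper20.AntiInv

open scoped TensorProduct

section Generic

variable {R : Type*} [CommRing R] (τ : R →+* R) (I : Ideal R) (G : Set R)

theorem tau_mem (hA : ∀ t, t - τ t ∈ I) (g : R) (hg : g ∈ I) : τ g ∈ I := by
  have := I.sub_mem hg (hA g)
  simpa using this

theorem tau_mem_pow (hA : ∀ t, t - τ t ∈ I) (s : ℕ) (y : R) (hy : y ∈ I ^ s) : τ y ∈ I ^ s := by
  have h1 : Ideal.map τ I ≤ I := Ideal.map_le_iff_le_comap.mpr (fun g hg => tau_mem τ I hA g hg)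
  have h2 : τ y ∈ Ideal.map τ (I ^ s) := Ideal.mem_map_of_mem τ hy
  rw [Ideal.map_pow] at h2
  exact Ideal.pow_right_mono h1 s h2

theorem add_tau_mem_sq (hI : I = Ideal.span G) (hG : ∀ g ∈ G, τ g = -g)
    (hA : ∀ t, t - τ t ∈ I) (g : R) (hg : g ∈ I) : g + τ g ∈ I ^ 2 := by
  have key : ∀ g ∈ Ideal.span G, g + τ g ∈ I ^ 2 := by
    intro g hg'
    induction hg' using Submodule.span_induction with
    | mem g hgG => rw [hG g hgG, add_neg_cancel]; exact zero_mem _
    | zero => simp
    | add x y _ _ hx hy =>
      have := add_mem hx hy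
      rw [map_add]
      convert this using 1
      ring
    | smul t g hg' ih =>
      have hgI : g ∈ I := hI ▸ hg'
      have h1 : t * g + τ (t * g) = t * (g + τ g) - (t - τ t) * τ g := by rw [map_mul]; ring
      rw [smul_eq_mul, h1]
      refine sub_mem (Ideal.mul_mem_left _ _ ih) ?_
      rw [pow_two]
      exact Ideal.mul_mem_mul (hA t) (tau_mem τ I hA g hgI)
  exact key g (hI ▸ hg)

theorem sub_tau_mem (hI : I = Ideal.span G) (hG : ∀ g ∈ G, τ g = -g)
    (hA : ∀ t, t - τ t ∈ I) (s : ℕ) : ∀ y ∈ I ^ s, y - (-1) ^ s * τ y ∈ I ^ (s + 1) := by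
  induction s with
  | zero =>
    intro y _
    simpa using hA y
  | succ s ih =>
    intro y hy
    rw [pow_succ] at hy
    refine Submodule.mul_induction_on hy ?_ ?_
    · intro u hu g hg
      have h1 : u * g - (-1) ^ (s + 1) * τ (u * g) =
          (u - (-1) ^ s * τ u) * g + (-1) ^ s * τ u * (g + τ g) := by
        rw [map_mul]; ring
      rw [h1]
      refine add_mem ?_ ?_
      · rw [pow_succ (n := s + 1)]
        exact Ideal.mul_mem_mul (ih u hu) hg
      · have h2 : I ^ (s + 1 + 1) = I ^ s * I ^ 2 := by rw [← pow_add]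
        rw [h2]
        exact Ideal.mul_mem_mul (Ideal.mul_mem_left _ _ (tau_mem_pow τ I hA s u hu))
          (add_tau_mem_sq τ I G hI hG hA g hg)
    · intro x y hx hy
      have := add_mem hx hy
      rw [map_add]
      convert this using 1
      ring

theorem mem_pow_succ_of_odd (hI : I = Ideal.span G) (hG : ∀ g ∈ G, τ g = -g)
    (hA : ∀ t, t - τ t ∈ I) (two : R) (h2 : two * 2 = 1) (s : ℕ) (hs : Odd s) (x : R)
    (hx : x ∈ I ^ s) (hτ : τ x = x) : x ∈ I ^ (s + 1) := by
  have := sub_tau_mem τ I G hI hG hA s x hx
  rw [hs.neg_one_pow, hτ] at this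
  have h3 : x = two * (x - -1 * x) := by
    have : two * (x - -1 * x) = (two * 2) * x := by ring
    rw [this, h2, one_mul]
  rw [h3]
  exact Ideal.mul_mem_left _ _ this

end Generic

section Tensor

universe u v

variable (k : Type u) [CommRing k] (A : Type v) [CommRing A] [Algebra k A] (n : ℕ)

/-- permutation of the factors as an algebra map -/
noncomputable def perm (σ : Equiv.Perm (Fin n)) : (⨂[k] _ : Fin n, A) →ₐ[k] (⨂[k] _ : Fin n, A) :=
  PiTensorProduct.liftAlgHom ((PiTensorProduct.tprod k).domDomCongr σ.symm)
    (by simp [MultilinearMap.domDomCongr_apply, PiTensorProduct.one_def]; rfl)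
    (by intro x y; simp [MultilinearMap.domDomCongr_apply]; rfl)

@[simp]
theorem perm_tprod (σ : Equiv.Perm (Fin n)) (f : Fin n → A) :
    perm k A n σ (PiTensorProduct.tprod k f) = PiTensorProduct.tprod k (fun i => f (σ.symm i)) := by
  simp [perm, MultilinearMap.domDomCongr_apply]

theorem perm_apply (σ : Equiv.Perm (Fin n)) (t : ⨂[k] _ : Fin n, A) :
    perm k A n σ t = PiTensorProduct.reindex k (fun _ : Fin n => A) σ t := by
  induction t using PiTensorProduct.induction_on with
  | smul_tprod r f => simp [PiTensorProduct.reindex_tprod]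
  | add x y hx hy => simp [hx, hy]

theorem prod_single (x : Fin n → A) :
    ∏ i, PiTensorProduct.singleAlgHom (R := k) (A := fun _ : Fin n => A) i (x i) =
      PiTensorProduct.tprod k x := by
  simp only [PiTensorProduct.singleAlgHom_apply]
  have h := map_prod (PiTensorProduct.tprodMonoidHom (R := k) (A := fun _ : Fin n => A))
    (fun i => Pi.mulSingle i (x i)) Finset.univ
  rw [Finset.univ_prod_mulSingle] at h
  exact h.symm

theorem perm_single (σ : Equiv.Perm (Fin n)) (l : Fin n) (a : A) :
    perm k A n σ (PiTensorProduct.singleAlgHom (R := k) (A := fun _ : Fin n => A) l a) =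
      PiTensorProduct.singleAlgHom (R := k) (A := fun _ : Fin n => A) (σ l) a := by
  rw [PiTensorProduct.singleAlgHom_apply, PiTensorProduct.singleAlgHom_apply, perm_tprod]
  congr 1
  funext m
  change (Pi.mulSingle l a : Fin n → A) (σ.symm m) = (Pi.mulSingle (σ l) a : Fin n → A) m
  rw [Pi.mulSingle_apply, Pi.mulSingle_apply]
  by_cases h : m = σ l
  · rw [if_pos h, if_pos (by rw [h, Equiv.symm_apply_apply])]
  · rw [if_neg h, if_neg (fun h' => h (by rw [← h', Equiv.apply_symm_apply]))]

/-- the diagonal ideal `I_{ij}` -/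
noncomputable def Iij (i j : Fin n) : Ideal (⨂[k] _ : Fin n, A) :=
  Ideal.span (Set.range fun a : A =>
    PiTensorProduct.singleAlgHom (R := k) (A := fun _ : Fin n => A) i a -
    PiTensorProduct.singleAlgHom (R := k) (A := fun _ : Fin n => A) j a)

theorem sub_perm_mem (i j : Fin n) (t : ⨂[k] _ : Fin n, A) :
    t - perm k A n (Equiv.swap i j) t ∈ Iij k A n i j := by
  let W : Subalgebra k (⨂[k] _ : Fin n, A) :=
    { carrier := {t | t - perm k A n (Equiv.swap i j) t ∈ Iij k A n i j}
      mul_mem' := by
        intro t s ht hs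
        have h1 : t * s - perm k A n (Equiv.swap i j) (t * s) =
            t * (s - perm k A n (Equiv.swap i j) s) +
              (t - perm k A n (Equiv.swap i j) t) * perm k A n (Equiv.swap i j) s := by
          rw [map_mul]; ring
        change t * s - perm k A n (Equiv.swap i j) (t * s) ∈ Iij k A n i j
        rw [h1]
        have ht' : t - perm k A n (Equiv.swap i j) t ∈ Iij k A n i j := ht
        have hs' : s - perm k A n (Equiv.swap i j) s ∈ Iij k A n i j := hs
        exact add_mem (Ideal.mul_mem_left _ _ hs') (Ideal.mul_mem_right _ _ ht')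
      add_mem' := by
        intro t s ht hs
        change t + s - perm k A n (Equiv.swap i j) (t + s) ∈ Iij k A n i j
        have ht' : t - perm k A n (Equiv.swap i j) t ∈ Iij k A n i j := ht
        have hs' : s - perm k A n (Equiv.swap i j) s ∈ Iij k A n i j := hs
        have := add_mem ht' hs'
        rw [map_add]
        convert this using 1
        abel
      algebraMap_mem' := by
        intro r
        change algebraMap k _ r - perm k A n (Equiv.swap i j) (algebraMap k _ r) ∈ Iij k A n i j
        rw [AlgHom.commutes, sub_self]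
        exact zero_mem _ }
  have hsingle : ∀ (l : Fin n) (a : A),
      PiTensorProduct.singleAlgHom (R := k) (A := fun _ : Fin n => A) l a ∈ W := by
    intro l a
    change PiTensorProduct.singleAlgHom (R := k) (A := fun _ : Fin n => A) l a -
      perm k A n (Equiv.swap i j)
        (PiTensorProduct.singleAlgHom (R := k) (A := fun _ : Fin n => A) l a) ∈ Iij k A n i j
    rw [perm_single]
    by_cases hli : l = i
    · rw [hli, Equiv.swap_apply_left]
      exact Ideal.subset_span ⟨a, rfl⟩
    · by_cases hlj : l = j
      · rw [hlj, Equiv.swap_apply_right]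
        have : PiTensorProduct.singleAlgHom (R := k) (A := fun _ : Fin n => A) j a -
            PiTensorProduct.singleAlgHom (R := k) (A := fun _ : Fin n => A) i a =
            -(PiTensorProduct.singleAlgHom (R := k) (A := fun _ : Fin n => A) i a -
              PiTensorProduct.singleAlgHom (R := k) (A := fun _ : Fin n => A) j a) := by abel
        rw [this]
        exact neg_mem (Ideal.subset_span ⟨a, rfl⟩)
      · rw [Equiv.swap_apply_of_ne_of_ne hli hlj, sub_self]
        exact zero_mem _
  have hall : ∀ t : ⨂[k] _ : Fin n, A, t ∈ W := by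
    intro t
    induction t using PiTensorProduct.induction_on with
    | smul_tprod r f =>
      rw [← prod_single]
      exact Subalgebra.smul_mem _ (Subalgebra.prod_mem _ (fun l _ => hsingle l (f l))) r
    | add x y hx hy => exact Subalgebra.add_mem _ hx hy
  exact hall t

theorem perm_gen (i j : Fin n) (a : A) :
    perm k A n (Equiv.swap i j)
      (PiTensorProduct.singleAlgHom (R := k) (A := fun _ : Fin n => A) i a -
        PiTensorProduct.singleAlgHom (R := k) (A := fun _ : Fin n => A) j a) =
      -(PiTensorProduct.singleAlgHom (R := k) (A := fun _ : Fin n => A) i a -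
        PiTensorProduct.singleAlgHom (R := k) (A := fun _ : Fin n => A) j a) := by
  rw [map_sub, perm_single, perm_single, Equiv.swap_apply_left, Equiv.swap_apply_right]
  abel

/-- invariants of an odd power of `I_{ij}` lie in the next power -/
theorem mem_Iij_pow_succ (two : k) (h2 : two * 2 = 1) (i j : Fin n) (s : ℕ) (hs : Odd s)
    (x : ⨂[k] _ : Fin n, A) (hx : x ∈ Iij k A n i j ^ s)
    (hτ : PiTensorProduct.reindex k (fun _ : Fin n => A) (Equiv.swap i j) x = x) :
    x ∈ Iij k A n i j ^ (s + 1) := by
  refine mem_pow_succ_of_odd (perm k A n (Equiv.swap i j)).toRingHom (Iij k A n i j) _ rfl ?_ ?_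
    (algebraMap k _ two) ?_ s hs x hx ?_
  · rintro _ ⟨a, rfl⟩
    exact perm_gen k A n i j a
  · intro t
    exact sub_perm_mem k A n i j t
  · rw [← map_ofNat (algebraMap k (⨂[k] _ : Fin n, A)) 2, ← map_mul, h2, map_one]
  · change perm k A n (Equiv.swap i j) x = x
    rw [perm_apply, hτ]

end Tensor

end Groth.Agent.Lib.Helper20.AntiInv
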