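import Mathlib

/-! Finitely many attractor ideals for a graded algebra of finite type. -/

set_option autoImplicit false

namespace Groth.Agent.Lib.Helper20.AttrFin

universe u v w

variable (R : Type u) [CommRing R] (A : Type v) [CommRing A]
    [Algebra R A] (M : Type w) [AddCommMonoid M] [DecidableEq M]
    (𝒜 : M → Submodule R A) [GradedAlgebra 𝒜]

/-- the subalgebra of elements all of whose components of degree outside `N` lie in `I` -/
def compSub (N : AddSubmonoid M) (I : Ideal A) : Subalgebra R A where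
  carrier := {a | ∀ m, m ∉ N → ((DirectSum.decompose 𝒜 a m : 𝒜 m) : A) ∈ I}
  mul_mem' := by
    classical
    intro a b ha hb m hm
    rw [DirectSum.decompose_mul, DirectSum.coe_mul_apply]
    apply Ideal.sum_mem
    intro ij hij
    rw [Finset.mem_filter] at hij
    by_cases hi : ij.1 ∈ N
    · have hj : ij.2 ∉ N := by
        intro hj
        apply hm
        rw [← hij.2]
        exact N.add_mem hi hj
      exact Ideal.mul_mem_left _ _ (hb _ hj)
    · exact Ideal.mul_mem_right _ _ (ha _ hi)
  add_mem' := by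
    intro a b ha hb m hm
    rw [DirectSum.decompose_add, DirectSum.add_apply, Submodule.coe_add]
    exact Ideal.add_mem _ (ha m hm) (hb m hm)
  algebraMap_mem' := by
    intro r m hm
    have h0 : algebraMap R A r ∈ 𝒜 0 := SetLike.algebraMap_mem_graded 𝒜 r
    have hne : (0 : M) ≠ m := fun h => hm (h ▸ N.zero_mem)
    rw [DirectSum.decompose_of_mem_ne 𝒜 h0 hne]
    exact Ideal.zero_mem _

theorem finite_range [Algebra.FiniteType R A] :
    (Set.range fun N : AddSubmonoid M =>
      Ideal.span {a : A | ∃ m : M, m ∉ N ∧ a ∈ 𝒜 m}).Finite := by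
  classical
  obtain ⟨s, hs⟩ := (Algebra.FiniteType.out : (⊤ : Subalgebra R A).FG)
  let G : Finset A := s.biUnion (fun a => (DirectSum.decompose 𝒜 a).support.image
    (fun m => ((DirectSum.decompose 𝒜 a m : 𝒜 m) : A)))
  have hGhom : ∀ g ∈ G, ∃ m, g ∈ 𝒜 m := by
    intro g hg
    simp only [G, Finset.mem_biUnion, Finset.mem_image] at hg
    obtain ⟨a, _, m, _, rfl⟩ := hg
    exact ⟨m, SetLike.coe_mem _⟩
  have hGgen : Algebra.adjoin R (G : Set A) = ⊤ := by
    rw [eq_top_iff, ← hs]
    apply Algebra.adjoin_le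
    intro a ha
    rw [SetLike.mem_coe, ← DirectSum.sum_support_decompose 𝒜 a]
    apply Subalgebra.sum_mem
    intro m hm
    apply Algebra.subset_adjoin
    simp only [G, Finset.coe_biUnion, Finset.coe_image, Set.mem_iUnion, Set.mem_image,
      Finset.mem_coe]
    exact ⟨a, ha, m, hm, rfl⟩
  have key : ∀ N : AddSubmonoid M, Ideal.span {a : A | ∃ m : M, m ∉ N ∧ a ∈ 𝒜 m} =
      Ideal.span {g | g ∈ G ∧ ∃ m : M, m ∉ N ∧ g ∈ 𝒜 m} := by
    intro N
    apply le_antisymm
    · rw [Ideal.span_le]
      rintro a ⟨m, hm, ha⟩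
      have htop : a ∈ compSub R A M 𝒜 N (Ideal.span {g | g ∈ G ∧ ∃ m : M, m ∉ N ∧ g ∈ 𝒜 m}) := by
        have hle : Algebra.adjoin R (G : Set A) ≤
            compSub R A M 𝒜 N (Ideal.span {g | g ∈ G ∧ ∃ m : M, m ∉ N ∧ g ∈ 𝒜 m}) := by
          apply Algebra.adjoin_le
          intro g hg m' hm'
          obtain ⟨mg, hmg⟩ := hGhom g hg
          by_cases hmm : mg = m'
          · subst hmm
            rw [DirectSum.decompose_of_mem_same 𝒜 hmg]
            exact Ideal.subset_span ⟨hg, mg, hm', hmg⟩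
          · rw [DirectSum.decompose_of_mem_ne 𝒜 hmg hmm]
            exact Ideal.zero_mem _
        apply hle
        rw [hGgen]; trivial
      have := htop m hm
      rwa [DirectSum.decompose_of_mem_same 𝒜 ha] at this
    · apply Ideal.span_mono
      rintro g ⟨_, m, hm, hg⟩
      exact ⟨m, hm, hg⟩
  apply Set.Finite.subset
    (Set.Finite.image (fun T : Set A => Ideal.span T) (Set.Finite.finite_subsets G.finite_toSet))
  rintro _ ⟨N, rfl⟩
  refine ⟨{g | g ∈ G ∧ ∃ m : M, m ∉ N ∧ g ∈ 𝒜 m}, ?_, (key N).symm⟩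
  intro g hg
  exact hg.1

end Groth.Agent.Lib.Helper20.AttrFin
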