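import Mathlib

/-!
# Socles and `Ext^0(k, X)` over a local ring
-/

set_option autoImplicit false

namespace Groth.Agent.Lib.Helper20.BassCount

open IsLocalRing CategoryTheory

universe u

section Soc

variable (A : Type u) [CommRing A] [IsLocalRing A] (X : Type u) [AddCommGroup X] [Module A X]

/-- the socle: elements killed by the maximal ideal -/
def soc : Submodule A X where
  carrier := {x | ∀ a ∈ maximalIdeal A, a • x = 0}
  zero_mem' := fun a _ => smul_zero a
  add_mem' := fun {x y} hx hy a ha => by rw [smul_add, hx a ha, hy a ha, add_zero]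
  smul_mem' := fun c x hx a ha => by rw [smul_comm, hx a ha, smul_zero]

variable {A X}

theorem mem_soc {x : X} : x ∈ soc A X ↔ ∀ a ∈ maximalIdeal A, a • x = 0 := Iff.rfl

/-- the map `k → X`, `1 ↦ x` for `x` in the socle -/
noncomputable def ofSoc (x : X) (hx : x ∈ soc A X) : ResidueField A →ₗ[A] X :=
  Submodule.liftQ (maximalIdeal A) (LinearMap.toSpanSingleton A X x) (by
    intro a ha
    rw [LinearMap.mem_ker, LinearMap.toSpanSingleton_apply]
    exact hx a ha)

theorem ofSoc_residue (x : X) (hx : x ∈ soc A X) (a : A) :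
    ofSoc x hx (residue A a) = a • x := rfl

variable (A X)

/-- `Hom_A(k, X) ≃ Soc(X)` -/
noncomputable def homEquivSoc : (ResidueField A →ₗ[A] X) ≃ₗ[A] soc A X where
  toFun φ := ⟨φ 1, fun a ha => by
    rw [← map_smul]
    have : a • (1 : ResidueField A) = 0 := by
      rw [Algebra.smul_def, mul_one]
      exact (residue_eq_zero_iff a).2 ha
    rw [this, map_zero]⟩
  map_add' φ ψ := rfl
  map_smul' c φ := rfl
  invFun x := ofSoc x.1 x.2
  left_inv φ := by
    apply LinearMap.ext
    intro y
    obtain ⟨a, rfl⟩ := residue_surjective y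
    rw [ofSoc_residue, ← map_smul, Algebra.smul_def, mul_one]
    rfl
  right_inv x := by
    apply Subtype.ext
    change ofSoc x.1 x.2 (residue A 1) = x.1
    rw [ofSoc_residue, one_smul]

/-- `Ext^0(k, X) ≃ Soc(X)` -/
noncomputable def extZeroEquivSoc :
    Abelian.Ext.{u} (ModuleCat.of A (ResidueField A)) (ModuleCat.of A X) 0 ≃ₗ[A] soc A X :=
  (Abelian.Ext.linearEquiv₀ (R := A)).trans
    ((ModuleCat.homLinearEquiv (S := A)).trans (homEquivSoc A X))

end Soc

end Groth.Agent.Lib.Helper20.BassCount
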