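import Mathlib
import Groth.Prelude.Def_GrLC
import Groth.Agent.Lib.Helper26.GrProj
import Groth.Agent.Lib.Helper20.GrKit1

/-!
# The grading on the quotient by a component-stable submodule
-/

set_option autoImplicit false
set_option linter.unusedSectionVars false
set_option linter.unusedVariables false

namespace Groth.Agent.Lib.Helper20.GrKit

open DirectSum Groth.Agent.Lib.Helper26.GrProj

universe u

variable {ι : Type} [AddCommGroup ι] [DecidableEq ι] {R : Type u} [CommRing R]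
  (𝒜 : ι → AddSubgroup R) [GradedRing 𝒜]
  {N : Type u} [AddCommGroup N] [Module R N] (𝒩 : ι → AddSubgroup N)

/-- The grading induced on a quotient. -/
def quoGr (C : Submodule R N) : ι → AddSubgroup (N ⧸ C) :=
  fun g => (𝒩 g).map C.mkQ.toAddMonoidHom

theorem mkQ_mem_quoGr {C : Submodule R N} {g : ι} {x : N} (hx : x ∈ 𝒩 g) :
    C.mkQ x ∈ quoGr 𝒩 C g := ⟨x, hx, rfl⟩

theorem mem_quoGr {C : Submodule R N} {g : ι} {y : N ⧸ C} :
    y ∈ quoGr 𝒩 C g ↔ ∃ x ∈ 𝒩 g, C.mkQ x = y := Iff.rfl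

variable [DirectSum.Decomposition 𝒩] (C : Submodule R N) (hC : ∀ g x, x ∈ C → proj 𝒩 g x ∈ C)

include hC

/-- the projections on the quotient -/
noncomputable def quoProj (g : ι) : (N ⧸ C) →+ (N ⧸ C) :=
  QuotientAddGroup.map C.toAddSubgroup C.toAddSubgroup (projAdd 𝒩 g) (fun x hx => hC g x hx)

theorem quoProj_mkQ (g : ι) (x : N) : quoProj 𝒩 C hC g (C.mkQ x) = C.mkQ (proj 𝒩 g x) := rfl

theorem quo_h4 (y : N ⧸ C) : ∃ s : Finset ι, y = ∑ g ∈ s, quoProj 𝒩 C hC g y := by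
  classical
  obtain ⟨x, rfl⟩ := C.mkQ_surjective y
  refine ⟨(DirectSum.decompose 𝒩 x).support, ?_⟩
  simp only [quoProj_mkQ]
  rw [← map_sum, sum_proj]

theorem quo_isInternal : DirectSum.IsInternal (quoGr 𝒩 C) :=
  isInternal_of_proj (quoGr 𝒩 C) (quoProj 𝒩 C hC)
    (fun g y => by
      obtain ⟨x, rfl⟩ := C.mkQ_surjective y
      rw [quoProj_mkQ]
      exact mkQ_mem_quoGr 𝒩 (proj_mem 𝒩 g x))
    (fun g y hy => by
      obtain ⟨x, hx, rfl⟩ := hy
      change quoProj 𝒩 C hC g (C.mkQ x) = C.mkQ x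
      rw [quoProj_mkQ, proj_of_mem_same 𝒩 hx])
    (fun g h y hy hne => by
      obtain ⟨x, hx, rfl⟩ := hy
      change quoProj 𝒩 C hC g (C.mkQ x) = 0
      rw [quoProj_mkQ, proj_of_mem_ne 𝒩 hx hne, map_zero])
    (quo_h4 𝒩 C hC)

/-- The decomposition of the quotient (not an instance: depends on `hC`). -/
noncomputable def quoDecomposition : DirectSum.Decomposition (quoGr 𝒩 C) :=
  (quo_isInternal 𝒩 C hC).chooseDecomposition

theorem proj_quoGr [DirectSum.Decomposition (quoGr 𝒩 C)] (g : ι) (x : N) :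
    proj (quoGr 𝒩 C) g (C.mkQ x) = C.mkQ (proj 𝒩 g x) := by
  have := proj_eq_of_proj (quoGr 𝒩 C) (quoProj 𝒩 C hC)
    (fun g y => by
      obtain ⟨x, rfl⟩ := C.mkQ_surjective y
      rw [quoProj_mkQ]
      exact mkQ_mem_quoGr 𝒩 (proj_mem 𝒩 g x))
    (fun g h y hy hne => by
      obtain ⟨x, hx, rfl⟩ := hy
      change quoProj 𝒩 C hC g (C.mkQ x) = 0
      rw [quoProj_mkQ, proj_of_mem_ne 𝒩 hx hne, map_zero])
    (quo_h4 𝒩 C hC) g (C.mkQ x)
  rw [this, quoProj_mkQ]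

omit hC in
instance quoGradedSMul [SetLike.GradedSMul 𝒜 𝒩] : SetLike.GradedSMul 𝒜 (quoGr 𝒩 C) where
  smul_mem := by
    intro i j r y hr hy
    obtain ⟨x, hx, rfl⟩ := hy
    exact ⟨r • x, SetLike.GradedSMul.smul_mem (A := 𝒜) (B := 𝒩) hr hx, C.mkQ.map_smul r x⟩

omit hC in
theorem mkQ_isGrHom : GrLC.IsGrHom 𝒩 (quoGr 𝒩 C) C.mkQ := fun g x hx => mkQ_mem_quoGr 𝒩 hx

omit hC in
/-- ranges of graded maps are component-stable -/
theorem range_proj_stable {M : Type u} [AddCommGroup M] [Module R M] (ℳ : ι → AddSubgroup M)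
    [DirectSum.Decomposition ℳ] {N : Type u} [AddCommGroup N] [Module R N] (𝒩 : ι → AddSubgroup N)
    [DirectSum.Decomposition 𝒩] (f : M →ₗ[R] N) (hf : GrLC.IsGrHom ℳ 𝒩 f) (g : ι) (x : N)
    (hx : x ∈ LinearMap.range f) : proj 𝒩 g x ∈ LinearMap.range f := by
  obtain ⟨m, rfl⟩ := hx
  exact ⟨proj ℳ g m, (proj_hom ℳ 𝒩 f hf g m).symm⟩

end Groth.Agent.Lib.Helper20.GrKit
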