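import Mathlib
import Groth.Prelude.Def_GrLC
import Groth.Prelude.Def_Wider
import Groth.Agent.Lib.Helper26.GrProj
import Groth.Agent.Lib.Helper20.GrKit3
import Groth.Agent.Lib.Helper20.GrKit7

/-!
# `*E(R/m)` is injective when `m` is a graded maximal ideal
-/

set_option autoImplicit false
set_option linter.unusedSectionVars false
set_option linter.unusedVariables false

namespace Groth.Agent.Lib.Helper20.GrKit

open DirectSum Groth.Agent.Lib.Helper26.GrProj

universe u

section ExtStep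

variable {R : Type u} [CommRing R] (m : Ideal R) [m.IsMaximal]
  {E : Type u} [AddCommGroup E] [Module R E]
  (hE : ∀ φ : m →ₗ[R] E, ∃ h : R →ₗ[R] E, h ∘ₗ (Submodule.subtype m) = φ)
  {M : Type u} [AddCommGroup M] [Module R M]

include hE in
/-- one step of extension: adjoin an element `x` with `m x ⊆ N'` -/
theorem exists_extension_step (N' : Submodule R M) (g' : N' →ₗ[R] E) (x : M) (hx : x ∉ N')
    (hmx : ∀ a ∈ m, a • x ∈ N') :
    ∃ (N'' : Submodule R M) (g'' : N'' →ₗ[R] E) (hle : N' ≤ N''), x ∈ N'' ∧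
      ∀ n : N', g'' ⟨n, hle n.2⟩ = g' n := by
  classical
  -- `(N' : x) = m`
  have hcolon : ∀ r : R, r • x ∈ N' → r ∈ m := by
    intro r hr
    by_contra hrm
    apply hx
    have htop : m ⊔ Ideal.span {r} = ⊤ := by
      apply (Ideal.IsMaximal.out (I := m)).2
      refine lt_of_le_of_ne le_sup_left ?_
      intro h
      apply hrm
      rw [h]
      exact Ideal.mem_sup_right (Ideal.subset_span rfl)
    have h1 : (1 : R) ∈ m ⊔ Ideal.span {r} := by rw [htop]; exact Submodule.mem_top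
    obtain ⟨a, ha, b, hb, hab⟩ := Submodule.mem_sup.1 h1
    obtain ⟨s, rfl⟩ := Ideal.mem_span_singleton'.1 hb
    have : x = a • x + s • (r • x) := by
      rw [← mul_smul, ← add_smul, hab, one_smul]
    rw [this]
    exact N'.add_mem (hmx a ha) (N'.smul_mem s hr)
  -- the map `m → E`
  let φ : m →ₗ[R] E := g' ∘ₗ
    (LinearMap.codRestrict N' ((LinearMap.toSpanSingleton R M x) ∘ₗ (Submodule.subtype m))
      (fun a => hmx a a.2))
  obtain ⟨h, hh⟩ := hE φ
  set e := h 1 with he
  have hae : ∀ a (ha : a ∈ m), a • e = g' ⟨a • x, hmx a ha⟩ := by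
    intro a ha
    have h1 : h a = φ ⟨a, ha⟩ := LinearMap.congr_fun hh ⟨a, ha⟩
    have h2 : h a = a • e := by
      rw [he, ← map_smul, smul_eq_mul, mul_one]
    rw [← h2, h1]
    rfl
  let π : (N' × R) →ₗ[R] M := (N'.subtype).coprod (LinearMap.toSpanSingleton R M x)
  let ψ : (N' × R) →ₗ[R] E := g'.coprod (LinearMap.toSpanSingleton R E e)
  have hπ : ∀ z : N' × R, π z = (z.1 : M) + z.2 • x := fun z => rfl
  have hψ : ∀ z : N' × R, ψ z = g' z.1 + z.2 • e := fun z => rfl
  have hker : LinearMap.ker π ≤ LinearMap.ker ψ := by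
    intro z hz
    rw [LinearMap.mem_ker, hπ] at hz
    rw [LinearMap.mem_ker, hψ]
    have hrx : z.2 • x ∈ N' := by
      have : z.2 • x = -(z.1 : M) := by
        rw [eq_neg_iff_add_eq_zero, add_comm]; exact hz
      rw [this]; exact N'.neg_mem z.1.2
    have hrm := hcolon z.2 hrx
    rw [hae z.2 hrm, ← map_add]
    have : z.1 + ⟨z.2 • x, hrx⟩ = 0 := Subtype.ext hz
    rw [this, map_zero]
  let g'' : LinearMap.range π →ₗ[R] E :=
    (Submodule.liftQ (LinearMap.ker π) ψ hker) ∘ₗ (π.quotKerEquivRange).symm.toLinearMap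
  have hle : N' ≤ LinearMap.range π := fun n hn => ⟨(⟨n, hn⟩, 0), by rw [hπ]; simp⟩
  refine ⟨LinearMap.range π, g'', hle, ⟨(0, 1), by rw [hπ]; simp⟩, ?_⟩
  intro n
  have h1 : (⟨(n : M), hle n.2⟩ : LinearMap.range π) = ⟨π (n, 0), ⟨(n, 0), rfl⟩⟩ := by
    apply Subtype.ext
    change (n : M) = π (n, 0)
    rw [hπ]; simp
  rw [h1]
  change (Submodule.liftQ (LinearMap.ker π) ψ hker)
    ((π.quotKerEquivRange).symm ⟨π (n, 0), ⟨(n, 0), rfl⟩⟩) = g' n
  rw [LinearMap.quotKerEquivRange_symm_apply_image, Submodule.mkQ_apply, Submodule.liftQ_apply, hψ]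
  simp

include hE in
/-- every map from a submodule of a finite module killed by a power of `m` extends -/
theorem exists_extension_of_pow_smul_eq_bot [IsNoetherian R M] (k : ℕ)
    (hk : (m ^ k) • (⊤ : Submodule R M) = ⊥) (N : Submodule R M) (g : N →ₗ[R] E) :
    ∃ g' : M →ₗ[R] E, g'.comp N.subtype = g := by
  classical
  let S : Set (Submodule R M) :=
    {N' | ∃ (hle : N ≤ N') (g' : N' →ₗ[R] E), ∀ n : N, g' ⟨n, hle n.2⟩ = g n}
  have hSne : S.Nonempty := ⟨N, le_rfl, g, fun n => rfl⟩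
  obtain ⟨N', ⟨hle, g', hg'⟩, hmax⟩ :=
    (set_has_maximal_iff_noetherian (R := R) (M := M)).2 inferInstance S hSne
  have hk0 : ∀ a ∈ m ^ k, ∀ y : M, a • y = 0 := by
    intro a ha y
    have : a • y ∈ (m ^ k) • (⊤ : Submodule R M) := Submodule.smul_mem_smul ha Submodule.mem_top
    rwa [hk, Submodule.mem_bot] at this
  -- find the element to adjoin
  have hfind : ∀ j : ℕ, ∀ y : M, y ∉ N' → (∀ a ∈ m ^ j, a • y ∈ N') →
      ∃ x : M, x ∉ N' ∧ ∀ a ∈ m, a • x ∈ N' := by
    intro j
    induction j with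
    | zero =>
      intro y hy h
      exfalso; apply hy
      have := h 1 (by rw [pow_zero, Ideal.one_eq_top]; exact Submodule.mem_top)
      rwa [one_smul] at this
    | succ j ih =>
      intro y hy h
      by_cases hall : ∀ a ∈ m, a • y ∈ N'
      · exact ⟨y, hy, hall⟩
      · push Not at hall
        obtain ⟨a, ha, hay⟩ := hall
        apply ih (a • y) hay
        intro b hb
        rw [← mul_smul]
        apply h
        rw [pow_succ]
        exact Ideal.mul_mem_mul hb ha
  have htop : N' = ⊤ := by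
    by_contra hne
    obtain ⟨y, hy⟩ : ∃ y : M, y ∉ N' := by
      by_contra hcon
      push Not at hcon
      exact hne (eq_top_iff.2 fun y _ => hcon y)
    obtain ⟨x, hx, hmx⟩ := hfind k y hy (fun a ha => by rw [hk0 a ha y]; exact N'.zero_mem)
    obtain ⟨N'', g'', hle', hxN'', hg''⟩ := exists_extension_step m hE N' g' x hx hmx
    have hmem : N'' ∈ S := by
      refine ⟨le_trans hle hle', g'', fun n => ?_⟩
      rw [← hg' n]
      exact hg'' ⟨n, hle n.2⟩
    apply hmax N'' hmem
    refine lt_of_le_of_ne hle' ?_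
    intro heq
    apply hx
    rw [heq]; exact hxN''
  subst htop
  refine ⟨g' ∘ₗ (LinearMap.codRestrict ⊤ LinearMap.id (fun _ => Submodule.mem_top)), ?_⟩
  ext n
  exact hg' n

end ExtStep

end Groth.Agent.Lib.Helper20.GrKit

namespace Groth.Agent.Lib.Helper20.GrKit

open DirectSum Groth.Agent.Lib.Helper26.GrProj

universe u

section QuotGr

variable {ι : Type} [AddCommGroup ι] [DecidableEq ι] {R : Type u} [CommRing R]
  (𝒜 : ι → AddSubgroup R) [GradedRing 𝒜] (m : HomogeneousIdeal 𝒜)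

theorem quotGr_eq_quoGr : GrLC.quotGr 𝒜 m = quoGr 𝒜 m.toIdeal := by
  funext g
  ext y
  constructor
  · rintro ⟨x, hx, rfl⟩
    exact ⟨x, hx, rfl⟩
  · rintro ⟨x, hx, rfl⟩
    exact ⟨x, hx, rfl⟩

end QuotGr

end Groth.Agent.Lib.Helper20.GrKit
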