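import Mathlib
import Groth.Agent.Lib.Helper20.GrKit17
import Groth.Agent.S13211

/-!
# From graded essentiality inside a graded summand to elementwise essentiality
-/

set_option autoImplicit false
set_option linter.unusedSectionVars false
set_option linter.unusedVariables false

namespace Groth.Agent.Lib.Helper20.BassCount

open Groth.Agent.Lib.Helper20.GrKit DirectSum Groth.Agent.Lib.Helper26.GrProj

universe u

section Ess

variable {ι : Type} [AddCommGroup ι] [DecidableEq ι] [Module.Free ℤ ι] [Module.Finite ℤ ι]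
  {R : Type u} [CommRing R] [IsNoetherianRing R] (𝒜 : ι → AddSubgroup R) [GradedRing 𝒜]
  {E' : Type u} [AddCommGroup E'] [Module R E'] (𝓔 : ι → AddSubgroup E')
  [DirectSum.Decomposition 𝓔] [SetLike.GradedSMul 𝒜 𝓔]

theorem exists_smul_mem_range_of_starEss_in (Pα : HomogeneousIdeal 𝒜) (J : Submodule R E')
    (hJ : J.IsHomogeneous 𝓔) (f : (R ⧸ Pα.toIdeal) →ₗ[R] E') (d : ι)
    (hinj : Function.Injective f) (hdeg : GrLC.IsGrHomDeg (GrLC.quotGr 𝒜 Pα) 𝓔 f d)
    (hle : LinearMap.range f ≤ J)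
    (hess : ∀ Q : Submodule R E', Q.IsHomogeneous 𝓔 → Q ≤ J → Q ≠ ⊥ →
      Q ⊓ LinearMap.range f ≠ ⊥) :
    ∀ y ∈ J, y ≠ 0 → ∃ r : R, r • y ≠ 0 ∧ r • y ∈ LinearMap.range f := by
  classical
  have hJ' : ∀ g x, x ∈ J → proj 𝓔 g x ∈ J := fun g x hx => hJ g hx
  have hPh : ∀ g x, x ∈ Pα.toIdeal → proj 𝒜 g x ∈ Pα.toIdeal := fun g x hx => Pα.isHomogeneous g hx
  let decJ : DirectSum.Decomposition (subGr 𝓔 J) := subDecomposition 𝓔 J hJ'
  let decQ : DirectSum.Decomposition (quoGr 𝒜 Pα.toIdeal) := quoDecomposition 𝒜 Pα.toIdeal hPh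
  let f' : (R ⧸ Pα.toIdeal) →ₗ[R] J := f.codRestrict J (fun x => hle ⟨x, rfl⟩)
  have hf'gr : GrLC.IsGrHom (shiftGr (quoGr 𝒜 Pα.toIdeal) d) (subGr 𝓔 J) f' := by
    intro h x hx
    have hx' : x ∈ GrLC.quotGr 𝒜 Pα (h - d) := by
      rw [quotGr_eq_quoGr]
      exact hx
    have := hdeg (h - d) x hx'
    rw [sub_add_cancel] at this
    exact this
  have hstar : GrLC.IsStarEss (shiftGr (quoGr 𝒜 Pα.toIdeal) d) (subGr 𝓔 J) f' := by
    refine GrLC.IsStarEss.mk ?_ hf'gr ?_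
    · intro x y hxy
      apply hinj
      exact congrArg Subtype.val hxy
    · intro P hP hP0
      have hQh : (P.map J.subtype).IsHomogeneous 𝓔 := by
        intro g x hx
        obtain ⟨y, hy, rfl⟩ := hx
        refine ⟨proj (subGr 𝓔 J) g y, hP g hy, ?_⟩
        exact proj_subGr 𝓔 J hJ' g y
      have hQle : P.map J.subtype ≤ J := by
        rintro x ⟨y, _, rfl⟩
        exact y.2
      have hQ0 : P.map J.subtype ≠ ⊥ := by
        intro h0
        apply hP0
        rw [eq_bot_iff] at h0 ⊢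
        intro y hy
        have h1 : (J.subtype y) ∈ (⊥ : Submodule R E') := h0 ⟨y, hy, rfl⟩
        rw [Submodule.mem_bot] at h1 ⊢
        exact Subtype.ext h1
      have := hess _ hQh hQle hQ0
      obtain ⟨z, ⟨hz1, hz2⟩, hz0⟩ := (Submodule.ne_bot_iff _).1 this
      obtain ⟨y, hy, rfl⟩ := hz1
      obtain ⟨x, hx⟩ := hz2
      apply (Submodule.ne_bot_iff _).2
      refine ⟨y, ⟨hy, ⟨x, Subtype.ext hx⟩⟩, ?_⟩
      intro hy0
      apply hz0
      rw [hy0]
      rfl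
  have hmain := Groth.Agent.S13211.result R 𝒜 (R ⧸ Pα.toIdeal) (shiftGr (quoGr 𝒜 Pα.toIdeal) d)
    J (subGr 𝓔 J) f' hstar
  intro y hy hy0
  have hspan : Submodule.span R {(⟨y, hy⟩ : J)} ≠ ⊥ := by
    intro hbot
    apply hy0
    have := Submodule.mem_span_singleton_self (R := R) (⟨y, hy⟩ : J)
    rw [hbot, Submodule.mem_bot] at this
    exact congrArg Subtype.val this
  obtain ⟨z, ⟨hz1, hz2⟩, hz0⟩ := (Submodule.ne_bot_iff _).1 (hmain.essential _ hspan)
  obtain ⟨r, rfl⟩ := Submodule.mem_span_singleton.1 hz1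
  obtain ⟨x, hx⟩ := hz2
  refine ⟨r, ?_, ⟨x, ?_⟩⟩
  · intro h0
    apply hz0
    exact Subtype.ext h0
  · exact congrArg Subtype.val hx

end Ess

end Groth.Agent.Lib.Helper20.BassCount
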