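import Mathlib
import Groth.Agent.Lib.Helper20.BassCount1
import Groth.Agent.Lib.helper11.ExtLocEquiv

/-!
# `Ext^j(k, N)` from a minimal resolution by `Ext(k,-)`-acyclic modules
-/

set_option autoImplicit false
set_option linter.unusedSectionVars false
set_option linter.unusedVariables false

namespace Groth.Agent.Lib.Helper20.BassCount

open IsLocalRing CategoryTheory Abelian

universe u

section Shift

variable {R : Type u} [CommRing R] {S : ShortComplex (ModuleCat.{u} R)} (hS : S.ShortExact)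
  (X : ModuleCat.{u} R)

/-- the connecting map `Ext^n(X, S.X₃) → Ext^{n+1}(X, S.X₁)` is bijective when
`Ext^n(X, S.X₂) → Ext^n(X, S.X₃)` vanishes and `Ext^{n+1}(X, S.X₂) = 0`. -/
theorem cov_shift_bijective (n : ℕ)
    (h1 : ∀ x : Ext X S.X₂ n, x.comp (Ext.mk₀ S.g) (add_zero n) = 0)
    (h2 : Subsingleton (Ext X S.X₂ (n + 1))) :
    Function.Bijective (Ext.postcompOfLinear hS.extClass R X (rfl : n + 1 = n + 1)) := by
  constructor
  · rw [injective_iff_map_eq_zero]
    intro x₃ hx₃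
    obtain ⟨x₂, rfl⟩ := Ext.covariant_sequence_exact₃ X hS x₃ rfl hx₃
    exact h1 x₂
  · intro x₁
    have h0 : x₁.comp (Ext.mk₀ S.f) (add_zero (n + 1)) = 0 := Subsingleton.elim _ _
    obtain ⟨x₃, hx₃⟩ := Ext.covariant_sequence_exact₁ X hS x₁ h0 rfl
    exact ⟨x₃, hx₃⟩

end Shift

section ShiftLin

open Groth.Agent.Lib.helper11.ExtShift

variable {Λ : Type u} [CommRing Λ] {K F M : Type u} [AddCommGroup K] [Module Λ K]
  [AddCommGroup F] [Module Λ F] [AddCommGroup M] [Module Λ M]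
  (i : K →ₗ[Λ] F) (π : F →ₗ[Λ] M) (hi : Function.Injective i) (hπ : Function.Surjective π)
  (hex : Function.Exact i π) (X : ModuleCat.{u} Λ)

include hi hπ hex in
theorem cov_shift_equiv (n : ℕ)
    (h1 : ∀ x : Ext X (ModuleCat.of Λ F) n, x.comp (Ext.mk₀ (ModuleCat.ofHom π)) (add_zero n) = 0)
    (h2 : Subsingleton (Ext X (ModuleCat.of Λ F) (n + 1))) :
    Nonempty (Ext X (ModuleCat.of Λ M) n ≃ₗ[Λ] Ext X (ModuleCat.of Λ K) (n + 1)) :=
  ⟨LinearEquiv.ofBijective _
    (cov_shift_bijective (sc_shortExact i π hi hπ hex) X n h1 h2)⟩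

end ShiftLin

section Abstract

variable (A : Type u) [CommRing A] [IsLocalRing A]
  (Y : ℕ → Type u) [∀ n, AddCommGroup (Y n)] [∀ n, Module A (Y n)]
  (δ : ∀ n, Y n →ₗ[A] Y (n + 1))
  (hex : ∀ n, LinearMap.ker (δ (n + 1)) = LinearMap.range (δ n))
  (hvan : ∀ n i, Subsingleton (Ext.{u} (ModuleCat.of A (ResidueField A))
    (ModuleCat.of A (Y n)) (i + 1)))
  (hmin : ∀ n, soc A (Y n) ≤ LinearMap.ker (δ n))

/-- the corestricted differential -/
def dcor (n : ℕ) : Y n →ₗ[A] LinearMap.ker (δ (n + 1)) :=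
  (δ n).codRestrict _ (fun y => by rw [hex]; exact ⟨y, rfl⟩)

theorem dcor_surjective (n : ℕ) : Function.Surjective (dcor A Y δ hex n) := by
  rintro ⟨z, hz⟩
  rw [hex] at hz
  obtain ⟨y, rfl⟩ := hz
  exact ⟨y, rfl⟩

theorem dcor_exact (n : ℕ) :
    Function.Exact (LinearMap.ker (δ n)).subtype (dcor A Y δ hex n) := by
  intro y
  constructor
  · intro h
    have h' : δ n y = 0 := congrArg Subtype.val h
    exact ⟨⟨y, h'⟩, rfl⟩
  · rintro ⟨z, rfl⟩
    exact Subtype.ext z.2

include hmin in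
/-- the socle of the cocycles is the socle of the whole term -/
theorem nonempty_soc_ker_equiv (n : ℕ) :
    Nonempty (soc A (LinearMap.ker (δ n)) ≃ₗ[A] soc A (Y n)) := by
  let φ : soc A (LinearMap.ker (δ n)) →ₗ[A] soc A (Y n) :=
    (LinearMap.ker (δ n)).subtype.restrict (fun x hx a ha => by
      have := hx a ha
      exact congrArg Subtype.val this)
  refine ⟨LinearEquiv.ofBijective φ ⟨?_, ?_⟩⟩
  · intro x y hxy
    apply Subtype.ext
    apply Subtype.ext
    have h3 : ((φ x : soc A (Y n)) : Y n) = ((φ y : soc A (Y n)) : Y n) := congrArg Subtype.val hxy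
    exact h3
  · rintro ⟨y, hy⟩
    refine ⟨⟨⟨y, hmin n hy⟩, ?_⟩, rfl⟩
    intro a ha
    apply Subtype.ext
    exact hy a ha

include hmin in
theorem comp_dcor_eq_zero (n : ℕ)
    (x : Ext.{u} (ModuleCat.of A (ResidueField A)) (ModuleCat.of A (Y n)) 0) :
    x.comp (Ext.mk₀ (ModuleCat.ofHom (dcor A Y δ hex n))) (add_zero 0) = 0 := by
  obtain ⟨φ, rfl⟩ := (Ext.mk₀_bijective _ _).2 x
  rw [Ext.mk₀_comp_mk₀]
  have : φ ≫ ModuleCat.ofHom (dcor A Y δ hex n) = 0 := by
    ext y
    change δ n (φ.hom y) = 0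
    have hy : φ.hom y ∈ soc A (Y n) := by
      intro a ha
      rw [← map_smul]
      obtain ⟨b, rfl⟩ := residue_surjective y
      have : a • (residue A b) = 0 := by
        rw [Algebra.smul_def]
        change residue A a * residue A b = 0
        rw [(residue_eq_zero_iff a).2 ha, zero_mul]
      rw [this, map_zero]
    exact hmin n hy
  rw [this, Ext.mk₀_zero]

include hvan hmin hex in
theorem nonempty_ext_ker_equiv_soc (j : ℕ) : ∀ n m : ℕ, n + j = m →
    Nonempty (Ext.{u} (ModuleCat.of A (ResidueField A)) (ModuleCat.of A (LinearMap.ker (δ n))) j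
      ≃ₗ[A] soc A (Y m)) := by
  induction j with
  | zero =>
    intro n m hnm
    rw [add_zero] at hnm
    subst hnm
    obtain ⟨φ⟩ := nonempty_soc_ker_equiv A Y δ hmin n
    exact ⟨(extZeroEquivSoc A (LinearMap.ker (δ n))).trans φ⟩
  | succ j ih =>
    intro n m hnm
    obtain ⟨φ⟩ := ih (n + 1) m (by omega)
    have h1 : ∀ x : Ext.{u} (ModuleCat.of A (ResidueField A)) (ModuleCat.of A (Y n)) j,
        x.comp (Ext.mk₀ (ModuleCat.ofHom (dcor A Y δ hex n))) (add_zero j) = 0 := by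
      rcases j with _ | j
      · exact comp_dcor_eq_zero A Y δ hex hmin n
      · intro x
        have := hvan n j
        rw [Subsingleton.elim x 0, Ext.zero_comp]
    obtain ⟨ψ⟩ := cov_shift_equiv (LinearMap.ker (δ n)).subtype (dcor A Y δ hex n)
      (Submodule.subtype_injective _) (dcor_surjective A Y δ hex n) (dcor_exact A Y δ hex n)
      (ModuleCat.of A (ResidueField A)) j h1 (hvan n j)
    exact ⟨ψ.symm.trans φ⟩

end Abstract

end Groth.Agent.Lib.Helper20.BassCount
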