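import Mathlib
import Groth.Agent.Lib.Helper20.GrKit4
import Groth.Agent.Lib.helper11.ExtLocEquiv

/-!
# `Ext^{i+1}_{R_p}(k(p), X_p) = 0` for `X` *injective and `p` a homogeneous prime
-/

set_option autoImplicit false
set_option linter.unusedSectionVars false
set_option linter.unusedVariables false

namespace Groth.Agent.Lib.Helper20.BassCount

open IsLocalRing CategoryTheory Abelian TensorProduct Groth.Agent.Lib.Helper20.GrKit

universe u

section ResidueTensor

variable {R : Type u} [CommRing R] (p : Ideal R) [p.IsPrime]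

/-- `R_p ⊗ R/p ≃ k(p)` -/
noncomputable def tensorQuotEquivResidue :
    (Localization.AtPrime p ⊗[R] (R ⧸ p)) ≃ₗ[Localization.AtPrime p]
      ResidueField (Localization.AtPrime p) :=
  ((Algebra.TensorProduct.quotIdealMapEquivTensorQuot (Localization.AtPrime p) p).toLinearEquiv).symm.trans
    (Submodule.quotEquivOfEq _ _ (Localization.AtPrime.map_eq_maximalIdeal (I := p)))

end ResidueTensor

section Vanish

variable {ι : Type} [AddCommGroup ι] [DecidableEq ι] {R : Type u} [CommRing R] [IsNoetherianRing R]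
  (𝒜 : ι → AddSubgroup R) [GradedRing 𝒜]
  {I : Type u} [AddCommGroup I] [Module R I] (ℐ : ι → AddSubgroup I)
  [DirectSum.Decomposition ℐ] [SetLike.GradedSMul 𝒜 ℐ] (hI : GrLC.IsStarInj 𝒜 ℐ)

include hI in
theorem ext_quotient_subsingleton (p : HomogeneousIdeal 𝒜) (i : ℕ) :
    Subsingleton (Ext.{u} (ModuleCat.of R (R ⧸ p.toIdeal)) (ModuleCat.of R I) (i + 1)) := by
  refine ext_subsingleton_of_presentation 𝒜 ℐ hI 𝒜 (Submodule.mkQ p.toIdeal)
    (Submodule.mkQ_surjective _) ?_ ?_ i
  · intro g x hx
    rw [Submodule.ker_mkQ] at hx ⊢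
    exact p.isHomogeneous g hx
  · rw [Submodule.ker_mkQ]
    exact IsNoetherian.noetherian _

include hI in
theorem ext_residue_localized_subsingleton (p : HomogeneousIdeal 𝒜) [p.toIdeal.IsPrime] (i : ℕ) :
    Subsingleton (Ext.{u} (ModuleCat.of (Localization.AtPrime p.toIdeal)
        (ResidueField (Localization.AtPrime p.toIdeal)))
      (ModuleCat.of (Localization.AtPrime p.toIdeal)
        (LocalizedModule p.toIdeal.primeCompl I)) (i + 1)) := by
  have h0 := ext_quotient_subsingleton 𝒜 ℐ hI p i
  obtain ⟨e⟩ := Groth.Agent.Lib.helper11.ExtBC.ext_baseChange R (Localization.AtPrime p.toIdeal) I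
    (i + 1) (R ⧸ p.toIdeal)
  have h1 : Subsingleton (Localization.AtPrime p.toIdeal ⊗[R]
      Ext.{u} (ModuleCat.of R (R ⧸ p.toIdeal)) (ModuleCat.of R I) (i + 1)) := inferInstance
  have h2 := e.symm.toEquiv.subsingleton
  let e1 := Groth.Agent.Lib.helper11.GorHull.extCongr
    (ModuleCat.of (Localization.AtPrime p.toIdeal) (Localization.AtPrime p.toIdeal ⊗[R] I)) (i + 1)
    (tensorQuotEquivResidue p.toIdeal).toModuleIso
  let e2 := Groth.Agent.Lib.helper11.ExtLocEquiv.extCongrRight
    (ModuleCat.of (Localization.AtPrime p.toIdeal) (ResidueField (Localization.AtPrime p.toIdeal)))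
    (i + 1) (LocalizedModule.equivTensorProduct p.toIdeal.primeCompl I).symm.toModuleIso
  exact (e1.trans e2).symm.toEquiv.subsingleton

end Vanish

end Groth.Agent.Lib.Helper20.BassCount
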