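import Mathlib
import Groth.Agent.Lib.Helper21.Torus11
import Groth.Agent.Lib.Helper5.GorFibreE

/-!
# Gorenstein at a prime vs. at its homogeneous core (torus trick)
-/

set_option autoImplicit false
set_option linter.unusedSectionVars false
set_option linter.unusedVariables false
set_option linter.style.haveILetI false

namespace Groth.Agent.Lib.Helper20.GorGr

open TensorProduct Groth.Agent.Lib.Helper21.Torus Groth.Agent.Lib.Helper5.GorFibre

universe u

section

variable {ι : Type} [AddCommGroup ι] [DecidableEq ι] [Module.Free ℤ ι] [Module.Finite ℤ ι]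
variable {R : Type u} [CommRing R] [IsNoetherianRing R] (𝒜 : ι → AddSubgroup R) [GradedRing 𝒜]
variable (p : Ideal R) [p.IsPrime] [hcore : (Ideal.homogeneousCore 𝒜 p).toIdeal.IsPrime]

local notation "S" => AddMonoidAlgebra R ι
local notation "P" => p.map (algebraMap R S)

omit [DecidableEq ι] in
/-- the fibre of `R → R[ι]` over `p` is regular -/
theorem isRegularRing_fiber_std : IsRegularRing (p.Fiber S) := by
  haveI : IsRegularRing (AddMonoidAlgebra p.ResidueField ι) := isRegularRing_of_free ι _
  let e2 : p.ResidueField ⊗[R] S ≃ₐ[p.ResidueField] AddMonoidAlgebra p.ResidueField ι :=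
    AddMonoidAlgebra.scalarTensorEquiv R p.ResidueField
  exact IsRegularRing.of_ringEquiv e2.toRingEquiv.symm

theorem gorenstein_iff_core :
    LocCoh.IsGorensteinLocalRing (Localization.AtPrime p) ↔
      LocCoh.IsGorensteinLocalRing
        (Localization.AtPrime (Ideal.homogeneousCore 𝒜 p).toIdeal) := by
  haveI := isRegularRing_fiber_std (ι := ι) p
  haveI := isRegularRing_fiber 𝒜 p
  have h1 := gorenstein_localization_iff R S p P (isGorensteinRing_of_isRegularRing _)
  have h2 := gorenstein_localization_iff (Tw 𝒜) S (coreTw 𝒜 p) P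
    (isGorensteinRing_of_isRegularRing _)
  exact h1.trans h2.symm

end

end Groth.Agent.Lib.Helper20.GorGr
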