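import Mathlib

namespace Groth.Agent.Lib.Helper20.GrCoatom

universe u

section core

variable {ι : Type*} [AddCommMonoid ι] [LinearOrder ι] [IsOrderedCancelAddMonoid ι]
variable {R : Type u} [CommRing R] {σ : Type*} [SetLike σ R] [AddSubmonoidClass σ R]
variable (𝒜 : ι → σ) [GradedRing 𝒜]

theorem core (M : HomogeneousIdeal 𝒜) (hM : IsCoatom M) : M.toIdeal.IsPrime := by
  have hne : M.toIdeal ≠ ⊤ := by
    intro h
    apply hM.1
    apply HomogeneousIdeal.toIdeal_injective
    rw [h, HomogeneousIdeal.toIdeal_top]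
  refine Ideal.IsHomogeneous.isPrime_of_homogeneous_mem_or_mem M.isHomogeneous hne ?_
  intro x y hx _ hxy
  by_contra hcon
  push_neg at hcon
  obtain ⟨hxM, hyM⟩ := hcon
  let P : HomogeneousIdeal 𝒜 := ⟨Ideal.span {x}, Ideal.homogeneous_span 𝒜 {x} (by
    intro z hz
    rw [Set.mem_singleton_iff.1 hz]
    exact hx)⟩
  have hlt : M < M ⊔ P := by
    refine lt_of_le_of_ne le_sup_left ?_
    intro h
    apply hxM
    have hxP : x ∈ (M ⊔ P).toIdeal := by
      rw [HomogeneousIdeal.toIdeal_sup]
      exact Ideal.mem_sup_right (Ideal.subset_span rfl)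
    rw [← h] at hxP
    exact hxP
  have htop : M ⊔ P = ⊤ := hM.2 _ hlt
  have h1 : (1 : R) ∈ (M ⊔ P).toIdeal := by
    rw [htop, HomogeneousIdeal.toIdeal_top]
    exact Submodule.mem_top
  rw [HomogeneousIdeal.toIdeal_sup] at h1
  obtain ⟨m, hm, z, hz, hmz⟩ := Submodule.mem_sup.1 h1
  obtain ⟨r, rfl⟩ := Ideal.mem_span_singleton'.1 hz
  apply hyM
  have : y = m * y + r * (x * y) := by
    calc y = 1 * y := (one_mul y).symm
      _ = (m + r * x) * y := by rw [hmz]
      _ = m * y + r * (x * y) := by ring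
  rw [this]
  exact Ideal.add_mem _ (Ideal.mul_mem_right _ _ hm) (Ideal.mul_mem_left _ _ hxy)

end core

theorem result' {ι : Type} [AddCommGroup ι] [inst : DecidableEq ι] [Module.Free ℤ ι]
    [Module.Finite ℤ ι] (R : Type u) [CommRing R] (𝒜 : ι → AddSubgroup R) [GradedRing 𝒜]
    (M : HomogeneousIdeal 𝒜) (hM : IsCoatom M) : M.toIdeal.IsPrime := by
  classical
  let e := (Module.finBasis ℤ ι).equivFun
  let f : ι → Lex (Fin (Module.finrank ℤ ι) → ℤ) := fun x => toLex (e x)
  have hf : Function.Injective f := fun a b h => e.injective (toLex.injective h)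
  letI PO : PartialOrder ι := PartialOrder.lift f hf
  letI LO : LinearOrder ι :=
    { PO with
      le_total := fun a b => le_total (f a) (f b)
      toDecidableLE := fun a b => Classical.dec _
      toDecidableEq := inst }
  haveI : IsOrderedCancelAddMonoid ι :=
    Function.Injective.isOrderedCancelAddMonoid f (fun x y => by simp [f]) Iff.rfl
  exact core 𝒜 M hM

end Groth.Agent.Lib.Helper20.GrCoatom
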