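import Mathlib
import Groth.Prelude.Def_GrLC
import Groth.Agent.Lib.Helper26.GrProj
import Groth.Agent.Lib.Helper20.GrKit1

/-!
# The coinduced graded module `I[ι]` and enough *injectives

For an (ungraded) `R`-module `I`, `Coind 𝒜 I` is `ι →₀ I` with `r ∈ 𝒜 h` acting by
`r • single g n = single (g + h) (r • n)`.  It is graded by `range (single g)`, the functor
`I ↦ Coind 𝒜 I` is right adjoint to forgetting the grading, and `Coind 𝒜 I` is *injective when
`I` is injective.
-/

set_option autoImplicit false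
set_option linter.unusedSectionVars false
set_option linter.unusedVariables false

namespace Groth.Agent.Lib.Helper20.GrKit

open DirectSum Groth.Agent.Lib.Helper26.GrProj

universe u

variable {ι : Type} [AddCommGroup ι] [DecidableEq ι] {R : Type u} [CommRing R]
  (𝒜 : ι → AddSubgroup R) [GradedRing 𝒜] (I : Type u) [AddCommGroup I] [Module R I]

/-- the action of a homogeneous element of degree `h` on `ι →₀ I` -/
noncomputable def actFun (h : ι) (r : R) : (ι →₀ I) →+ (ι →₀ I) :=
  (Finsupp.mapDomain.addMonoidHom (· + h)).comp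
    (Finsupp.mapRange.addMonoidHom (DistribMulAction.toAddMonoidHom I (r : R)))

theorem actFun_single (h : ι) (r : R) (g : ι) (n : I) :
    actFun I h r (Finsupp.single g n) = Finsupp.single (g + h) (r • n) := by
  simp [actFun]

/-- the action of a homogeneous element of degree `h` -/
noncomputable def actHom (h : ι) : 𝒜 h →+ AddMonoid.End (ι →₀ I) where
  toFun r := actFun I h (r : R)
  map_zero' := by
    refine Finsupp.addHom_ext (fun g n => ?_)
    change actFun I h ((0 : 𝒜 h) : R) (Finsupp.single g n) = 0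
    rw [AddSubgroup.coe_zero, actFun_single, zero_smul, Finsupp.single_zero]
  map_add' r s := by
    refine Finsupp.addHom_ext (fun g n => ?_)
    change actFun I h ((r + s : 𝒜 h) : R) (Finsupp.single g n) =
      actFun I h (r : R) (Finsupp.single g n) + actFun I h (s : R) (Finsupp.single g n)
    rw [AddSubgroup.coe_add, actFun_single, actFun_single, actFun_single, add_smul,
      Finsupp.single_add]

/-- the twisted action as a ring hom -/
noncomputable def twist : R →+* AddMonoid.End (ι →₀ I) :=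
  (DirectSum.toSemiring (actHom 𝒜 I)
    (by
      refine Finsupp.addHom_ext (fun g n => ?_)
      change actFun I 0 (1 : R) (Finsupp.single g n) = Finsupp.single g n
      rw [actFun_single, add_zero, one_smul])
    (by
      intro i j ai aj
      refine Finsupp.addHom_ext (fun g n => ?_)
      change actFun I (i + j) ((ai : R) * (aj : R)) (Finsupp.single g n) =
        actFun I i (ai : R) (actFun I j (aj : R) (Finsupp.single g n))
      rw [actFun_single, actFun_single, actFun_single, mul_smul, add_comm i j, add_assoc])).comp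
  (DirectSum.decomposeRingEquiv 𝒜).toRingHom

theorem twist_of_mem {h : ι} {r : R} (hr : r ∈ 𝒜 h) (x : ι →₀ I) :
    twist 𝒜 I r x = actFun I h r x := by
  have h1 : (DirectSum.decomposeRingEquiv 𝒜).toRingHom r =
      DirectSum.of (fun i => 𝒜 i) h ⟨r, hr⟩ := DirectSum.decompose_of_mem 𝒜 hr
  rw [twist, RingHom.comp_apply, h1, DirectSum.toSemiring_of]
  rfl

end Groth.Agent.Lib.Helper20.GrKit

namespace Groth.Agent.Lib.Helper20.GrKit

open DirectSum Groth.Agent.Lib.Helper26.GrProj

universe u

/-- The coinduced module. -/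
@[nolint unusedArguments]
def Coind {ι : Type} {R : Type u} [CommRing R] (𝒜 : ι → AddSubgroup R) (I : Type u)
    [AddCommGroup I] : Type u :=
  ι →₀ I

variable {ι : Type} [AddCommGroup ι] [DecidableEq ι] {R : Type u} [CommRing R]
  (𝒜 : ι → AddSubgroup R) [GradedRing 𝒜] (I : Type u) [AddCommGroup I] [Module R I]

noncomputable instance : AddCommGroup (Coind 𝒜 I) := inferInstanceAs (AddCommGroup (ι →₀ I))

noncomputable instance : Module R (Coind 𝒜 I) := Module.compHom (ι →₀ I) (twist 𝒜 I)

/-- `single` into the coinduced module -/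
noncomputable def csingle (g : ι) : I →+ Coind 𝒜 I := Finsupp.singleAddHom g

theorem smul_csingle {h : ι} {r : R} (hr : r ∈ 𝒜 h) (g : ι) (n : I) :
    r • csingle 𝒜 I g n = csingle 𝒜 I (g + h) (r • n) := by
  change twist 𝒜 I r (Finsupp.single g n) = _
  rw [twist_of_mem 𝒜 I hr, actFun_single]
  rfl

theorem csingle_injective (g : ι) : Function.Injective (csingle 𝒜 I g) :=
  Finsupp.single_injective g

/-- the grading of the coinduced module -/
noncomputable def coindGr : ι → AddSubgroup (Coind 𝒜 I) := fun g => (csingle 𝒜 I g).range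

theorem csingle_mem (g : ι) (n : I) : csingle 𝒜 I g n ∈ coindGr 𝒜 I g := ⟨n, rfl⟩

/-- the coefficient maps -/
noncomputable def coeff (g : ι) : Coind 𝒜 I →+ I := Finsupp.applyAddHom g

theorem coeff_csingle_same (g : ι) (n : I) : coeff 𝒜 I g (csingle 𝒜 I g n) = n :=
  Finsupp.single_eq_same

theorem coeff_csingle_ne {g h : ι} (hne : h ≠ g) (n : I) : coeff 𝒜 I g (csingle 𝒜 I h n) = 0 :=
  Finsupp.single_eq_of_ne hne.symm

/-- projections of the coinduced module -/
noncomputable def coindProj (g : ι) : Coind 𝒜 I →+ Coind 𝒜 I := (csingle 𝒜 I g).comp (coeff 𝒜 I g)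

theorem coind_h4 (x : Coind 𝒜 I) : ∃ s : Finset ι, x = ∑ g ∈ s, coindProj 𝒜 I g x := by
  classical
  refine ⟨Finsupp.support (show ι →₀ I from x), ?_⟩
  exact (Finsupp.sum_single (show ι →₀ I from x)).symm

theorem coind_isInternal : DirectSum.IsInternal (coindGr 𝒜 I) :=
  isInternal_of_proj (coindGr 𝒜 I) (coindProj 𝒜 I)
    (fun g x => csingle_mem 𝒜 I g _)
    (fun g x hx => by
      obtain ⟨n, rfl⟩ := hx
      change csingle 𝒜 I g (coeff 𝒜 I g (csingle 𝒜 I g n)) = _
      rw [coeff_csingle_same])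
    (fun g h x hx hne => by
      obtain ⟨n, rfl⟩ := hx
      change csingle 𝒜 I g (coeff 𝒜 I g (csingle 𝒜 I h n)) = _
      rw [coeff_csingle_ne 𝒜 I hne, map_zero])
    (coind_h4 𝒜 I)

noncomputable instance coindDecomposition : DirectSum.Decomposition (coindGr 𝒜 I) :=
  (coind_isInternal 𝒜 I).chooseDecomposition

instance coindGradedSMul : SetLike.GradedSMul 𝒜 (coindGr 𝒜 I) where
  smul_mem := by
    intro i j r x hr hx
    obtain ⟨n, rfl⟩ := hx
    rw [smul_csingle 𝒜 I hr, vadd_eq_add, add_comm]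
    exact csingle_mem 𝒜 I _ _

/-- sum of the coefficients, as an additive map -/
noncomputable def epsAdd : Coind 𝒜 I →+ I := Finsupp.liftAddHom (fun _ => AddMonoidHom.id I)

theorem epsAdd_csingle (g : ι) (n : I) : epsAdd 𝒜 I (csingle 𝒜 I g n) = n := by
  change Finsupp.liftAddHom (fun _ => AddMonoidHom.id I) (Finsupp.single g n) = n
  rw [Finsupp.liftAddHom_apply_single]
  rfl

theorem coind_induction {P : Coind 𝒜 I → Prop} (h0 : P 0)
    (hs : ∀ g n, P (csingle 𝒜 I g n)) (ha : ∀ x y, P x → P y → P (x + y)) : ∀ x, P x := by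
  intro x
  exact Finsupp.induction_linear (show ι →₀ I from x) h0 ha hs

theorem epsAdd_smul (r : R) (x : Coind 𝒜 I) : epsAdd 𝒜 I (r • x) = r • epsAdd 𝒜 I x := by
  classical
  induction x using coind_induction with
  | h0 => simp
  | ha x y hx hy => rw [smul_add, map_add, map_add, hx, hy, smul_add]
  | hs g n =>
    induction r using DirectSum.Decomposition.inductionOn 𝒜 with
    | zero => simp
    | add r s hr hs => rw [add_smul, map_add, hr, hs, add_smul]
    | homogeneous r =>
      rw [smul_csingle 𝒜 I r.2, epsAdd_csingle, epsAdd_csingle]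

/-- sum of the coefficients: the counit of the adjunction -/
noncomputable def eps : Coind 𝒜 I →ₗ[R] I where
  toFun := epsAdd 𝒜 I
  map_add' := map_add _
  map_smul' := epsAdd_smul 𝒜 I

theorem eps_csingle (g : ι) (n : I) : eps 𝒜 I (csingle 𝒜 I g n) = n := epsAdd_csingle 𝒜 I g n

section Lift

variable {B : Type u} [AddCommGroup B] [Module R B] (ℬ : ι → AddSubgroup B)
  [DirectSum.Decomposition ℬ] [SetLike.GradedSMul 𝒜 ℬ]

/-- the graded map into the coinduced module attached to a linear map, additive version -/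
noncomputable def coindLiftAdd (β : B →ₗ[R] I) : B →+ Coind 𝒜 I :=
  (DirectSum.toAddMonoid fun g =>
    (csingle 𝒜 I g).comp (β.toAddMonoidHom.comp (ℬ g).subtype)).comp
      (DirectSum.decomposeAddEquiv ℬ).toAddMonoidHom

theorem coindLiftAdd_of_mem (β : B →ₗ[R] I) {g : ι} {b : B} (hb : b ∈ ℬ g) :
    coindLiftAdd 𝒜 I ℬ β b = csingle 𝒜 I g (β b) := by
  change (DirectSum.toAddMonoid _) (DirectSum.decompose ℬ b) = _
  rw [DirectSum.decompose_of_mem ℬ hb, DirectSum.toAddMonoid_of]
  rfl

include 𝒜 in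
theorem coindLiftAdd_smul (β : B →ₗ[R] I) (r : R) (b : B) :
    coindLiftAdd 𝒜 I ℬ β (r • b) = r • coindLiftAdd 𝒜 I ℬ β b := by
  classical
  induction b using DirectSum.Decomposition.inductionOn ℬ with
  | zero => simp
  | add x y hx hy => rw [smul_add, map_add, map_add, hx, hy, smul_add]
  | homogeneous x =>
    rename_i g
    induction r using DirectSum.Decomposition.inductionOn 𝒜 with
    | zero => simp
    | add r s hr hs => rw [add_smul, map_add, hr, hs, add_smul]
    | homogeneous r =>
      rename_i k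
      have hrx : (r : R) • (x : B) ∈ ℬ (k + g) := by
        have := SetLike.GradedSMul.smul_mem (A := 𝒜) (B := ℬ) r.2 x.2
        rwa [vadd_eq_add] at this
      rw [coindLiftAdd_of_mem 𝒜 I ℬ β hrx, coindLiftAdd_of_mem 𝒜 I ℬ β x.2, map_smul,
        smul_csingle 𝒜 I r.2, add_comm]

/-- the graded map into the coinduced module attached to a linear map -/
noncomputable def coindLift (β : B →ₗ[R] I) : B →ₗ[R] Coind 𝒜 I where
  toFun := coindLiftAdd 𝒜 I ℬ β
  map_add' := map_add _
  map_smul' := coindLiftAdd_smul 𝒜 I ℬ β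

theorem coindLift_of_mem (β : B →ₗ[R] I) {g : ι} {b : B} (hb : b ∈ ℬ g) :
    coindLift 𝒜 I ℬ β b = csingle 𝒜 I g (β b) := coindLiftAdd_of_mem 𝒜 I ℬ β hb

theorem coindLift_isGrHom (β : B →ₗ[R] I) :
    GrLC.IsGrHom ℬ (coindGr 𝒜 I) (coindLift 𝒜 I ℬ β) := by
  intro g b hb
  rw [coindLift_of_mem 𝒜 I ℬ β hb]
  exact csingle_mem 𝒜 I _ _

theorem eps_coindLift (β : B →ₗ[R] I) (b : B) : eps 𝒜 I (coindLift 𝒜 I ℬ β b) = β b := by
  classical
  induction b using DirectSum.Decomposition.inductionOn ℬ with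
  | zero => simp
  | add x y hx hy => rw [map_add, map_add, hx, hy, map_add]
  | homogeneous x => rw [coindLift_of_mem 𝒜 I ℬ β x.2, eps_csingle]

theorem coindLift_eps (γ : B →ₗ[R] Coind 𝒜 I) (hγ : GrLC.IsGrHom ℬ (coindGr 𝒜 I) γ) :
    coindLift 𝒜 I ℬ ((eps 𝒜 I) ∘ₗ γ) = γ := by
  classical
  ext b
  induction b using DirectSum.Decomposition.inductionOn ℬ with
  | zero => simp
  | add x y hx hy => rw [map_add, map_add, hx, hy]
  | homogeneous x =>
    rename_i g
    rw [coindLift_of_mem 𝒜 I ℬ _ x.2]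
    obtain ⟨n, hn⟩ := hγ g x x.2
    rw [LinearMap.comp_apply, ← hn, eps_csingle]

theorem coindLift_injective (β : B →ₗ[R] I) (hβ : Function.Injective β) :
    Function.Injective (coindLift 𝒜 I ℬ β) := by
  classical
  rw [injective_iff_map_eq_zero]
  intro b hb
  have h1 : ∀ g, proj ℬ g b = 0 := by
    intro g
    have h2 := proj_hom ℬ (coindGr 𝒜 I) (coindLift 𝒜 I ℬ β) (coindLift_isGrHom 𝒜 I ℬ β) g b
    rw [hb, proj_zero, coindLift_of_mem 𝒜 I ℬ β (proj_mem ℬ g b)] at h2
    have h3 : β (proj ℬ g b) = 0 := csingle_injective 𝒜 I g (h2.symm.trans (map_zero _).symm)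
    exact hβ (h3.trans (map_zero _).symm)
  rw [← sum_proj ℬ b]
  exact Finset.sum_eq_zero fun g _ => h1 g

end Lift

/-- The coinduced module of an injective module is *injective. -/
theorem coind_isStarInj [Module.Injective R I] : GrLC.IsStarInj 𝒜 (coindGr 𝒜 I) := by
  intro A B f hf hinj γ hγ
  obtain ⟨β, hβ⟩ := Module.Injective.out (R := R) (Q := I) f hinj ((eps 𝒜 I) ∘ₗ γ)
  refine ⟨coindLift 𝒜 I B.gr β, coindLift_isGrHom 𝒜 I B.gr β, ?_⟩
  have hgr : GrLC.IsGrHom A.gr (coindGr 𝒜 I) (coindLift 𝒜 I B.gr β ∘ₗ f) :=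
    fun g a ha => coindLift_isGrHom 𝒜 I B.gr β g _ (hf g a ha)
  rw [← coindLift_eps 𝒜 I A.gr _ hgr, ← coindLift_eps 𝒜 I A.gr γ hγ]
  congr 1
  ext a
  rw [LinearMap.comp_apply, LinearMap.comp_apply, eps_coindLift, hβ]

/-- Enough *injectives. -/
theorem exists_starInj_embedding {M : Type u} [AddCommGroup M] [Module R M]
    (ℳ : ι → AddSubgroup M) [DirectSum.Decomposition ℳ] [SetLike.GradedSMul 𝒜 ℳ] :
    ∃ (Q : GrLC.GMod.{u} 𝒜) (j : M →ₗ[R] Q.carrier), GrLC.IsGrHom ℳ Q.gr j ∧
      Function.Injective j ∧ GrLC.IsStarInj 𝒜 Q.gr := by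
  let X := CategoryTheory.Injective.under (ModuleCat.of R M)
  haveI : CategoryTheory.Injective (ModuleCat.of R X) :=
    inferInstanceAs (CategoryTheory.Injective X)
  haveI : Module.Injective R X := (Module.injective_iff_injective_object R X).2 inferInstance
  let e : M →ₗ[R] X := (CategoryTheory.Injective.ι (ModuleCat.of R M)).hom
  have he : Function.Injective e :=
    (ModuleCat.mono_iff_injective _).1 inferInstance
  exact ⟨{ carrier := Coind 𝒜 X, gr := coindGr 𝒜 X }, coindLift 𝒜 X ℳ e,
    coindLift_isGrHom 𝒜 X ℳ e, coindLift_injective 𝒜 X ℳ e he, coind_isStarInj 𝒜 X⟩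

end Groth.Agent.Lib.Helper20.GrKit
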