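import Mathlib
import Groth.Prelude.Def_GrLC
import Groth.Agent.Lib.Helper26.GrProj
import Groth.Agent.Lib.Helper20.GrKit2
import Groth.Agent.Lib.Helper20.GrKit6
import Groth.Agent.Lib.Helper20.GrKit7

/-!
# *injective ⇔ no proper *essential extension
-/

set_option autoImplicit false
set_option linter.unusedSectionVars false
set_option linter.unusedVariables false

namespace Groth.Agent.Lib.Helper20.GrKit

open DirectSum Groth.Agent.Lib.Helper26.GrProj

universe u

variable {ι : Type} [AddCommGroup ι] [DecidableEq ι] {R : Type u} [CommRing R]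
  (𝒜 : ι → AddSubgroup R) [GradedRing 𝒜]

section Basics

variable {M : Type u} [AddCommGroup M] [Module R M] (ℳ : ι → AddSubgroup M)
  [DirectSum.Decomposition ℳ]
  {N : Type u} [AddCommGroup N] [Module R N] (𝒩 : ι → AddSubgroup N)
  [DirectSum.Decomposition 𝒩]

/-- the inverse of a bijective graded map is graded -/
theorem isGrHom_symm (φ : M ≃ₗ[R] N) (hφ : GrLC.IsGrHom ℳ 𝒩 φ.toLinearMap) :
    GrLC.IsGrHom 𝒩 ℳ φ.symm.toLinearMap := by
  classical
  intro g y hy
  set x := φ.symm y with hx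
  have hφx : φ x = y := φ.apply_symm_apply y
  have h1 : ∀ h, h ≠ g → proj ℳ h x = 0 := by
    intro h hne
    have h2 := proj_hom ℳ 𝒩 φ.toLinearMap hφ h x
    change proj 𝒩 h (φ x) = φ (proj ℳ h x) at h2
    rw [hφx, proj_of_mem_ne 𝒩 hy hne.symm] at h2
    exact φ.injective (h2.symm.trans (map_zero _).symm)
  have h3 : x = proj ℳ g x := by
    conv_lhs => rw [← sum_proj ℳ x]
    by_cases hg : g ∈ (DirectSum.decompose ℳ x).support
    · rw [Finset.sum_eq_single_of_mem g hg (fun h _ hne => h1 h hne)]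
    · rw [proj_eq_zero_of_notMem ℳ hg]
      exact Finset.sum_eq_zero fun h hh => h1 h (fun e => hg (e ▸ hh))
  change x ∈ ℳ g
  rw [h3]
  exact proj_mem ℳ g x

/-- a nonzero component-stable submodule contains a nonzero homogeneous element -/
theorem exists_homogeneous_ne_zero (P : Submodule R N) (hP : ∀ g x, x ∈ P → proj 𝒩 g x ∈ P)
    (hne : P ≠ ⊥) : ∃ g x, x ∈ P ∧ x ∈ 𝒩 g ∧ x ≠ 0 := by
  classical
  obtain ⟨x, hx, hx0⟩ := (Submodule.ne_bot_iff P).1 hne
  by_contra hcon
  push_neg at hcon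
  apply hx0
  rw [← sum_proj 𝒩 x]
  exact Finset.sum_eq_zero fun g _ => hcon g _ (hP g x hx) (proj_mem 𝒩 g x)

end Basics

section Forward

variable {M : Type u} [AddCommGroup M] [Module R M] (ℳ : ι → AddSubgroup M)
  [DirectSum.Decomposition ℳ] [SetLike.GradedSMul 𝒜 ℳ]

/-- a *essential extension of a *injective module is trivial -/
theorem surjective_of_isStarEss (hM : GrLC.IsStarInj 𝒜 ℳ) (N : GrLC.GMod.{u} 𝒜)
    (f : M →ₗ[R] N.carrier) (hf : GrLC.IsStarEss ℳ N.gr f) : Function.Surjective f := by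
  obtain ⟨h, hh, hcomp⟩ := hM (GrLC.GMod.of 𝒜 M ℳ) N f hf.grHom hf.injective LinearMap.id
    (fun g m hm => hm)
  have hhf : ∀ m, h (f m) = m := fun m => LinearMap.congr_fun hcomp m
  have hker : LinearMap.ker h = ⊥ := by
    by_contra hne
    apply hf.essential (LinearMap.ker h) (fun g x hx => ker_proj_stable N.gr ℳ h hh g x hx) hne
    rw [eq_bot_iff]
    rintro x ⟨hx1, m, rfl⟩
    rw [SetLike.mem_coe, LinearMap.mem_ker, hhf] at hx1
    rw [hx1, map_zero]
    exact Submodule.zero_mem _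
  intro n
  refine ⟨h n, ?_⟩
  have : h (f (h n) - n) = 0 := by rw [map_sub, hhf, sub_self]
  have h2 : f (h n) - n ∈ LinearMap.ker h := this
  rw [hker, Submodule.mem_bot, sub_eq_zero] at h2
  exact h2

end Forward

section Backward

variable {M : Type u} [AddCommGroup M] [Module R M] (ℳ : ι → AddSubgroup M)
  [DirectSum.Decomposition ℳ] [SetLike.GradedSMul 𝒜 ℳ]

/-- a module without proper *essential extension is *injective -/
theorem isStarInj_of_forall_surjective
    (hM : ∀ (N : GrLC.GMod.{u} 𝒜) (f : M →ₗ[R] N.carrier), GrLC.IsStarEss ℳ N.gr f →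
      Function.Surjective f) : GrLC.IsStarInj 𝒜 ℳ := by
  classical
  obtain ⟨Q, j, hjgr, hjinj, hQ⟩ := exists_starInj_embedding 𝒜 ℳ
  -- a maximal graded submodule meeting the image trivially
  let S : Set (Submodule R Q.carrier) :=
    {C | (∀ g x, x ∈ C → proj Q.gr g x ∈ C) ∧ C ⊓ LinearMap.range j = ⊥}
  obtain ⟨C, hCmax⟩ : ∃ C, Maximal (fun x => x ∈ S) C := by
    apply zorn_le₀
    intro c hcS hchain
    by_cases hcne : c.Nonempty
    · refine ⟨sSup c, ⟨?_, ?_⟩, fun z hz => le_sSup hz⟩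
      · intro g x hx
        rw [Submodule.mem_sSup_of_directed hcne hchain.directedOn] at hx ⊢
        obtain ⟨y, hy, hxy⟩ := hx
        exact ⟨y, hy, (hcS hy).1 g x hxy⟩
      · rw [eq_bot_iff]
        rintro x ⟨hx1, hx2⟩
        rw [SetLike.mem_coe, Submodule.mem_sSup_of_directed hcne hchain.directedOn] at hx1
        obtain ⟨y, hy, hxy⟩ := hx1
        rw [← (hcS hy).2]
        exact ⟨hxy, hx2⟩
    · refine ⟨⊥, ⟨fun g x hx => ?_, bot_inf_eq _⟩, fun z hz => (hcne ⟨z, hz⟩).elim⟩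
      rw [Submodule.mem_bot] at hx ⊢
      rw [hx, proj_zero]
  obtain ⟨⟨hCst, hCint⟩, hCmax'⟩ := hCmax
  -- the quotient graded module
  let N : GrLC.GMod.{u} 𝒜 :=
    { carrier := Q.carrier ⧸ C
      gr := quoGr Q.gr C
      dec := quoDecomposition Q.gr C hCst
      gsmul := quoGradedSMul 𝒜 Q.gr C }
  letI : DirectSum.Decomposition (quoGr Q.gr C) := quoDecomposition Q.gr C hCst
  let φ : M →ₗ[R] N.carrier := C.mkQ ∘ₗ j
  have hφgr : GrLC.IsGrHom ℳ N.gr φ := fun g m hm => mkQ_mem_quoGr Q.gr (hjgr g m hm)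
  have hφinj : Function.Injective φ := by
    rw [injective_iff_map_eq_zero]
    intro m hm
    have h1 : j m ∈ C := by
      have : C.mkQ (j m) = 0 := hm
      rwa [Submodule.mkQ_apply, Submodule.Quotient.mk_eq_zero] at this
    have h2 : j m ∈ C ⊓ LinearMap.range j := ⟨h1, m, rfl⟩
    rw [hCint, Submodule.mem_bot] at h2
    exact hjinj (h2.trans (map_zero _).symm)
  have hφess : GrLC.IsStarEss ℳ N.gr φ := by
    refine ⟨hφinj, hφgr, ?_⟩
    intro P hP hPne
    let P' : Submodule R Q.carrier := P.comap C.mkQ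
    have hP'st : ∀ g x, x ∈ P' → proj Q.gr g x ∈ P' := by
      intro g x hx
      change C.mkQ (proj Q.gr g x) ∈ P
      rw [← proj_quoGr Q.gr C hCst g x]
      exact hP g hx
    have hCP' : C ≤ P' := by
      intro x hx
      change C.mkQ x ∈ P
      rw [Submodule.mkQ_apply, (Submodule.Quotient.mk_eq_zero C).2 hx]
      exact P.zero_mem
    have hP'C : ¬ P' ≤ C := by
      intro hle
      apply hPne
      rw [eq_bot_iff]
      intro y hy
      obtain ⟨x, rfl⟩ := C.mkQ_surjective y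
      rw [Submodule.mem_bot, Submodule.mkQ_apply, Submodule.Quotient.mk_eq_zero]
      exact hle hy
    have hP'S : P' ∉ S := fun hmem => hP'C (hCmax' hmem hCP')
    have hint : P' ⊓ LinearMap.range j ≠ ⊥ := fun h => hP'S ⟨hP'st, h⟩
    obtain ⟨x, ⟨hx1, m, rfl⟩, hx0⟩ := (Submodule.ne_bot_iff _).1 hint
    intro hbot
    have hmem : φ m ∈ P ⊓ LinearMap.range φ := ⟨hx1, m, rfl⟩
    rw [hbot, Submodule.mem_bot] at hmem
    apply hx0
    rw [hφinj (hmem.trans (map_zero _).symm), map_zero]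
  have hφsurj := hM N φ hφess
  let φe : M ≃ₗ[R] N.carrier := LinearEquiv.ofBijective φ ⟨hφinj, hφsurj⟩
  have hφe : GrLC.IsGrHom N.gr ℳ φe.symm.toLinearMap := isGrHom_symm ℳ N.gr φe hφgr
  -- now extend
  intro A B f hf hinj γ hγ
  obtain ⟨h', hh', hcomp⟩ := hQ A B f hf hinj (j ∘ₗ γ) (fun g a ha => hjgr g _ (hγ g a ha))
  refine ⟨φe.symm.toLinearMap ∘ₗ C.mkQ ∘ₗ h', ?_, ?_⟩
  · intro g b hb
    exact hφe g _ (mkQ_mem_quoGr Q.gr (hh' g b hb))
  · ext a
    have h1 : h' (f a) = j (γ a) := LinearMap.congr_fun hcomp a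
    change φe.symm (C.mkQ (h' (f a))) = γ a
    rw [h1]
    exact φe.symm_apply_apply (γ a)

end Backward

end Groth.Agent.Lib.Helper20.GrKit
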