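import Mathlib
import Groth.Prelude.Def_GrLC
import Groth.Agent.Lib.Helper26.GrProj
import Groth.Agent.Lib.Helper20.GrKit9

/-!
# *injective hulls inside a *injective module
-/

set_option autoImplicit false
set_option linter.unusedSectionVars false
set_option linter.unusedVariables false

namespace Groth.Agent.Lib.Helper20.GrKit

open DirectSum Groth.Agent.Lib.Helper26.GrProj

universe u

variable {ι : Type} [AddCommGroup ι] [DecidableEq ι] {R : Type u} [CommRing R]
  (𝒜 : ι → AddSubgroup R) [GradedRing 𝒜]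

section SpanHomogeneous

variable {N : Type u} [AddCommGroup N] [Module R N] (𝒩 : ι → AddSubgroup N)
  [DirectSum.Decomposition 𝒩] [SetLike.GradedSMul 𝒜 𝒩]

theorem proj_smul_of_mem_right {d : ι} {x : N} (hx : x ∈ 𝒩 d) (g : ι) (r : R) :
    proj 𝒩 g (r • x) = proj 𝒜 (g - d) r • x := by
  classical
  induction r using DirectSum.Decomposition.inductionOn 𝒜 with
  | zero => simp [proj_zero]
  | add r s hr hs => rw [add_smul, proj_add, hr, hs, proj_add, add_smul]
  | homogeneous r =>
    rename_i k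
    have hrx : (r : R) • x ∈ 𝒩 (k + d) := by
      have := SetLike.GradedSMul.smul_mem (A := 𝒜) (B := 𝒩) r.2 hx
      rwa [vadd_eq_add] at this
    by_cases hk : k + d = g
    · have hk' : k = g - d := by rw [← hk]; abel
      rw [← hk, proj_of_mem_same 𝒩 hrx, add_sub_cancel_right, proj_of_mem_same 𝒜 r.2]
    · have hk' : k ≠ g - d := fun e => hk (by rw [e]; abel)
      rw [proj_of_mem_ne 𝒩 hrx hk, proj_of_mem_ne 𝒜 r.2 hk', zero_smul]

include 𝒜 in
theorem span_singleton_proj_stable {d : ι} {x : N} (hx : x ∈ 𝒩 d) (g : ι) (z : N)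
    (hz : z ∈ Submodule.span R {x}) : proj 𝒩 g z ∈ Submodule.span R {x} := by
  obtain ⟨r, rfl⟩ := Submodule.mem_span_singleton.1 hz
  rw [proj_smul_of_mem_right 𝒜 𝒩 hx]
  exact Submodule.smul_mem _ _ (Submodule.mem_span_singleton_self x)

end SpanHomogeneous

section Hull

variable {M : Type u} [AddCommGroup M] [Module R M] (ℳ : ι → AddSubgroup M)
  [DirectSum.Decomposition ℳ] [SetLike.GradedSMul 𝒜 ℳ]
  (Q : GrLC.GMod.{u} 𝒜) (η : M →ₗ[R] Q.carrier)

/-- elementwise *essentiality of `range η ⊆ E` inside `Q` -/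
def EssIn (E : Submodule R Q.carrier) : Prop :=
  ∀ d x, x ∈ E → x ∈ Q.gr d → x ≠ 0 → ∃ r : R, r • x ∈ LinearMap.range η ∧ r • x ≠ 0

variable (hη : GrLC.IsGrHom ℳ Q.gr η) (hinj : Function.Injective η) (hQ : GrLC.IsStarInj 𝒜 Q.gr)

include hη hQ in
theorem exists_hull : ∃ (E : Submodule R Q.carrier) (hE : ∀ g x, x ∈ E → proj Q.gr g x ∈ E),
    LinearMap.range η ≤ E ∧ EssIn 𝒜 Q η E ∧
      @GrLC.IsStarInj ι _ _ R _ _ _ _ 𝒜 _ E _ _ _ _ _ (subGr Q.gr E)
        (subDecomposition Q.gr E hE) (subGradedSMul 𝒜 Q.gr E) := by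
  classical
  let S : Set (Submodule R Q.carrier) :=
    {E | (∀ g x, x ∈ E → proj Q.gr g x ∈ E) ∧ LinearMap.range η ≤ E ∧ EssIn 𝒜 Q η E}
  have hrange : LinearMap.range η ∈ S := by
    refine ⟨range_proj_stable ℳ Q.gr η hη, le_rfl, ?_⟩
    intro d x hx _ hx0
    exact ⟨1, by rwa [one_smul], by rwa [one_smul]⟩
  obtain ⟨E, hEmax⟩ : ∃ E, Maximal (fun x => x ∈ S) E := by
    apply zorn_le₀
    intro c hcS hchain
    by_cases hcne : c.Nonempty
    · refine ⟨sSup c, ⟨?_, ?_, ?_⟩, fun z hz => le_sSup hz⟩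
      · intro g x hx
        rw [Submodule.mem_sSup_of_directed hcne hchain.directedOn] at hx ⊢
        obtain ⟨y, hy, hxy⟩ := hx
        exact ⟨y, hy, (hcS hy).1 g x hxy⟩
      · obtain ⟨y, hy⟩ := hcne
        exact le_trans (hcS hy).2.1 (le_sSup hy)
      · intro d x hx hxd hx0
        rw [Submodule.mem_sSup_of_directed hcne hchain.directedOn] at hx
        obtain ⟨y, hy, hxy⟩ := hx
        exact (hcS hy).2.2 d x hxy hxd hx0
    · exact ⟨LinearMap.range η, hrange, fun z hz => (hcne ⟨z, hz⟩).elim⟩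
  obtain ⟨⟨hEst, hEle, hEess⟩, hEmax'⟩ := hEmax
  refine ⟨E, hEst, hEle, hEess, ?_⟩
  letI decE : DirectSum.Decomposition (subGr Q.gr E) := subDecomposition Q.gr E hEst
  apply isStarInj_of_forall_surjective 𝒜 (subGr Q.gr E)
  intro N f hf
  -- extend the inclusion `E → Q` along `f`
  obtain ⟨h, hh, hcomp⟩ := hQ { carrier := E, gr := subGr Q.gr E } N f hf.grHom hf.injective
    E.subtype (fun g x hx => hx)
  have hhf : ∀ x : E, h (f x) = (x : Q.carrier) := fun x => LinearMap.congr_fun hcomp x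
  have hker : LinearMap.ker h = ⊥ := by
    by_contra hne
    apply hf.essential (LinearMap.ker h) (fun g x hx => ker_proj_stable N.gr Q.gr h hh g x hx) hne
    rw [eq_bot_iff]
    rintro y ⟨hy1, x, rfl⟩
    rw [SetLike.mem_coe, LinearMap.mem_ker, hhf] at hy1
    have : x = 0 := Subtype.ext hy1
    rw [this, map_zero]
    exact Submodule.zero_mem _
  have hhinj : Function.Injective h := LinearMap.ker_eq_bot.1 hker
  -- the image of `h` is a bigger member of `S`
  have hEE' : E ≤ LinearMap.range h := fun x hx => ⟨f ⟨x, hx⟩, hhf ⟨x, hx⟩⟩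
  have hE'S : LinearMap.range h ∈ S := by
    refine ⟨range_proj_stable N.gr Q.gr h hh, le_trans hEle hEE', ?_⟩
    intro d y hy hyd hy0
    obtain ⟨n, rfl⟩ := hy
    set n' := proj N.gr d n with hn'
    have hn'y : h n' = h n := by
      rw [hn', ← proj_hom N.gr Q.gr h hh, proj_of_mem_same Q.gr hyd]
    have hn'd : n' ∈ N.gr d := proj_mem N.gr d n
    have hn'0 : n' ≠ 0 := by
      intro h0
      apply hy0
      rw [← hn'y, h0, map_zero]
    have hspan_ne : Submodule.span R {n'} ≠ ⊥ := by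
      intro hbot
      apply hn'0
      have := Submodule.mem_span_singleton_self (R := R) n'
      rwa [hbot, Submodule.mem_bot] at this
    have hint := hf.essential (Submodule.span R {n'})
      (fun g z hz => span_singleton_proj_stable 𝒜 N.gr hn'd g z hz) hspan_ne
    obtain ⟨z, ⟨hz1, x, hxz⟩, hz0⟩ := (Submodule.ne_bot_iff _).1 hint
    obtain ⟨r, hr⟩ := Submodule.mem_span_singleton.1 hz1
    -- a nonzero component of z
    obtain ⟨k, hk⟩ : ∃ k, proj N.gr k z ≠ 0 := by
      by_contra hcon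
      push Not at hcon
      apply hz0
      rw [← sum_proj N.gr z]
      exact Finset.sum_eq_zero fun g _ => hcon g
    set s := proj 𝒜 (k - d) r with hs
    have hw1 : proj N.gr k z = s • n' := by
      rw [← hr, proj_smul_of_mem_right 𝒜 N.gr hn'd]
    set x' := proj (subGr Q.gr E) k x with hx'
    have hw2 : proj N.gr k z = f x' := by
      rw [← hxz, proj_hom (subGr Q.gr E) N.gr f hf.grHom]
    have hx'0 : (x' : Q.carrier) ≠ 0 := by
      intro h0
      apply hk
      have : x' = 0 := Subtype.ext h0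
      rw [hw2, this, map_zero]
    have hx'k : (x' : Q.carrier) ∈ Q.gr k := proj_mem (subGr Q.gr E) k x
    obtain ⟨t, ht1, ht2⟩ := hEess k (x' : Q.carrier) x'.2 hx'k hx'0
    refine ⟨t * s, ?_, ?_⟩
    · have : (t * s) • h n = t • (x' : Q.carrier) := by
        rw [mul_smul, ← hn'y, ← map_smul, ← hw1, hw2, hhf]
      rw [this]
      exact ht1
    · have : (t * s) • h n = t • (x' : Q.carrier) := by
        rw [mul_smul, ← hn'y, ← map_smul, ← hw1, hw2, hhf]
      rw [this]
      exact ht2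
  have hE'E : LinearMap.range h ≤ E := hEmax' hE'S hEE'
  intro n
  have hn : h n ∈ E := hE'E ⟨n, rfl⟩
  refine ⟨⟨h n, hn⟩, ?_⟩
  apply hhinj
  rw [hhf]

end Hull

end Groth.Agent.Lib.Helper20.GrKit
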