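import Mathlib
import Groth.Prelude.Def_GrLC
import Groth.Agent.Lib.Helper26.GrProj
import Groth.Agent.Lib.Helper20.GrKit10
import Groth.Agent.Lib.Helper20.GrCoatom

/-!
# Shifts of *injectives, *injective submodules are summands, `r •` on `*E(R/p)`,
structure of *indecomposable *injectives
-/

set_option autoImplicit false
set_option linter.unusedSectionVars false
set_option linter.unusedVariables false

namespace Groth.Agent.Lib.Helper20.GrKit

open DirectSum Groth.Agent.Lib.Helper26.GrProj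

universe u

variable {ι : Type} [AddCommGroup ι] [DecidableEq ι] {R : Type u} [CommRing R]
  (𝒜 : ι → AddSubgroup R) [GradedRing 𝒜]

section ShiftInj

variable {E : Type u} [AddCommGroup E] [Module R E] (𝓔 : ι → AddSubgroup E)
  [DirectSum.Decomposition 𝓔] [SetLike.GradedSMul 𝒜 𝓔]

theorem isStarInj_shift (hE : GrLC.IsStarInj 𝒜 𝓔) (d : ι) : GrLC.IsStarInj 𝒜 (shiftGr 𝓔 d) := by
  intro A B f hf hinj γ hγ
  obtain ⟨h, hh, hcomp⟩ := hE { carrier := A.carrier, gr := shiftGr A.gr (-d) }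
    { carrier := B.carrier, gr := shiftGr B.gr (-d) } f (fun g x hx => hf _ x hx) hinj γ
    (fun g x hx => by
      have hx' : x ∈ A.gr (g + d) := by
        have : x ∈ A.gr (g - -d) := hx
        rwa [sub_neg_eq_add] at this
      have := hγ (g + d) x hx'
      change γ x ∈ 𝓔 (g + d - d) at this
      rwa [add_sub_cancel_right] at this)
  refine ⟨h, fun g x hx => ?_, hcomp⟩
  have : x ∈ shiftGr B.gr (-d) (g - d) := by
    change x ∈ B.gr (g - d - -d)
    rwa [sub_neg_eq_add, sub_add_cancel]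
  exact hh (g - d) x this

end ShiftInj

section Retract

variable {A : Type u} [AddCommGroup A] [Module R A] (𝒜A : ι → AddSubgroup A)
  [DirectSum.Decomposition 𝒜A] [SetLike.GradedSMul 𝒜 𝒜A]
  {B : Type u} [AddCommGroup B] [Module R B] (ℬ : ι → AddSubgroup B)
  [DirectSum.Decomposition ℬ] [SetLike.GradedSMul 𝒜 ℬ]

/-- a homogeneous injection out of a *injective module splits, with homogeneous complement -/
theorem exists_retraction (hA : GrLC.IsStarInj 𝒜 𝒜A) (φ : A →ₗ[R] B)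
    (hφ : GrLC.IsGrHom 𝒜A ℬ φ) (hinj : Function.Injective φ) :
    ∃ ρ : B →ₗ[R] A, GrLC.IsGrHom ℬ 𝒜A ρ ∧ (∀ a, ρ (φ a) = a) ∧
      IsCompl (LinearMap.range φ) (LinearMap.ker ρ) := by
  obtain ⟨ρ, hρ, hcomp⟩ := hA { carrier := A, gr := 𝒜A } { carrier := B, gr := ℬ } φ hφ hinj
    LinearMap.id (fun g x hx => hx)
  have hρφ : ∀ a, ρ (φ a) = a := fun a => LinearMap.congr_fun hcomp a
  refine ⟨ρ, hρ, hρφ, ?_, ?_⟩
  · rw [Submodule.disjoint_def]
    rintro x ⟨a, rfl⟩ hx
    rw [LinearMap.mem_ker, hρφ] at hx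
    rw [hx, map_zero]
  · rw [Submodule.codisjoint_iff_exists_add_eq]
    intro z
    refine ⟨φ (ρ z), z - φ (ρ z), ⟨_, rfl⟩, ?_, by abel⟩
    rw [LinearMap.mem_ker, map_sub, hρφ, sub_self]

end Retract

section SMulBij

variable {E : Type u} [AddCommGroup E] [Module R E] (𝓔 : ι → AddSubgroup E)
  [DirectSum.Decomposition 𝓔] [SetLike.GradedSMul 𝒜 𝓔]

theorem smul_bijective_of_hull (p : HomogeneousIdeal 𝒜) [p.toIdeal.IsPrime]
    (e : (R ⧸ p.toIdeal) →ₗ[R] E) (he : GrLC.IsStarInjHull 𝒜 (GrLC.quotGr 𝒜 p) 𝓔 e)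
    (hindec : GrLC.IsStarIndec R 𝓔) (g : ι) (r : R) (hr : r ∈ 𝒜 g) (hrp : r ∉ p.toIdeal) :
    Function.Bijective (fun x : E => r • x) := by
  classical
  set φ : E →ₗ[R] E := LinearMap.lsmul R E r with hφdef
  have hφa : ∀ x, φ x = r • x := fun x => rfl
  have hφ : GrLC.IsGrHom (shiftGr 𝓔 g) 𝓔 φ := by
    intro j x hx
    have := SetLike.GradedSMul.smul_mem (A := 𝒜) (B := 𝓔) hr (show x ∈ 𝓔 (j - g) from hx)
    rw [vadd_eq_add, add_sub_cancel] at this
    exact this
  have hK : ∀ k x, x ∈ LinearMap.ker φ → proj 𝓔 k x ∈ LinearMap.ker φ := by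
    intro k x hx
    have := ker_proj_stable (shiftGr 𝓔 g) 𝓔 φ hφ (k + g) x hx
    rwa [proj_shiftGr, add_sub_cancel_right] at this
  have hinj : Function.Injective φ := by
    rw [← LinearMap.ker_eq_bot]
    by_contra hne
    apply he.essential (LinearMap.ker φ) (fun i x hx => hK i x hx) hne
    rw [eq_bot_iff]
    rintro y ⟨hy1, x, rfl⟩
    obtain ⟨a, rfl⟩ := Ideal.Quotient.mk_surjective x
    rw [SetLike.mem_coe, LinearMap.mem_ker, hφa, ← map_smul] at hy1
    have h0 : r • (Ideal.Quotient.mk p.toIdeal a) = 0 := he.injective (hy1.trans (map_zero e).symm)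
    have h1 : Ideal.Quotient.mk p.toIdeal (r * a) = 0 := by
      rw [← h0]; rfl
    rw [Ideal.Quotient.eq_zero_iff_mem] at h1
    have ha : a ∈ p.toIdeal := (Ideal.IsPrime.mem_or_mem inferInstance h1).resolve_left hrp
    rw [Submodule.mem_bot, Ideal.Quotient.eq_zero_iff_mem.2 ha, map_zero]
  refine ⟨hinj, ?_⟩
  obtain ⟨ρ, hρ, hρφ, hcompl⟩ := exists_retraction 𝒜 (shiftGr 𝓔 g) 𝓔
    (isStarInj_shift 𝒜 𝓔 he.starInj g) φ hφ hinj
  have hP : (LinearMap.range φ).IsHomogeneous 𝓔 :=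
    fun i x hx => range_proj_stable (shiftGr 𝓔 g) 𝓔 φ hφ i x hx
  have hQ : (LinearMap.ker ρ).IsHomogeneous 𝓔 :=
    fun i x hx => ker_proj_stable 𝓔 (shiftGr 𝓔 g) ρ hρ i x hx
  rcases hindec.2 _ _ hP hQ hcompl with h | h
  · exfalso
    haveI := hindec.1
    obtain ⟨x, hx⟩ := exists_ne (0 : E)
    apply hx
    apply hinj
    have : φ x ∈ LinearMap.range φ := ⟨x, rfl⟩
    rw [h, Submodule.mem_bot] at this
    rw [this, map_zero]
  · have htop : LinearMap.range φ = ⊤ := by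
      rw [h] at hcompl
      exact eq_top_of_isCompl_bot hcompl
    exact LinearMap.range_eq_top.1 htop

end SMulBij

end Groth.Agent.Lib.Helper20.GrKit
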