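import Mathlib
import Groth.Prelude.Def_GrLC
import Groth.Agent.Lib.Helper26.GrProj
import Groth.Agent.Lib.Helper20.GrKit12

/-!
# Summands `*E(R/q)(-g₀)` of a *injective module; *indecomposable *injectives
-/

set_option autoImplicit false
set_option linter.unusedSectionVars false
set_option linter.unusedVariables false

namespace Groth.Agent.Lib.Helper20.GrKit

open DirectSum Groth.Agent.Lib.Helper26.GrProj

universe u

variable {ι : Type} [AddCommGroup ι] [DecidableEq ι] {R : Type u} [CommRing R]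
  (𝒜 : ι → AddSubgroup R) [GradedRing 𝒜]

section HullSub

variable {I : Type u} [AddCommGroup I] [Module R I] (ℐ : ι → AddSubgroup I)
  [DirectSum.Decomposition ℐ] [SetLike.GradedSMul 𝒜 ℐ]

/-- a *injective hull of a homogeneous submodule inside a *injective module (unbundled) -/
theorem exists_hull_sub (hI : GrLC.IsStarInj 𝒜 ℐ) (M' : Submodule R I)
    (hM' : ∀ g x, x ∈ M' → proj ℐ g x ∈ M') :
    ∃ (E : Submodule R I) (hE : ∀ g x, x ∈ E → proj ℐ g x ∈ E), M' ≤ E ∧
      (∀ d x, x ∈ E → x ∈ ℐ d → x ≠ 0 → ∃ r : R, r • x ∈ M' ∧ r • x ≠ 0) ∧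
      @GrLC.IsStarInj ι _ _ R _ _ _ _ 𝒜 _ E _ _ _ _ _ (subGr ℐ E)
        (subDecomposition ℐ E hE) (subGradedSMul 𝒜 ℐ E) := by
  classical
  letI decM' : DirectSum.Decomposition (subGr ℐ M') := subDecomposition ℐ M' hM'
  obtain ⟨E, hE, hle, hess, hEinj⟩ := exists_hull 𝒜 (subGr ℐ M') { carrier := I, gr := ℐ }
    M'.subtype (fun g x hx => hx) hI
  refine ⟨E, hE, ?_, ?_, hEinj⟩
  · intro x hx
    exact hle ⟨⟨x, hx⟩, rfl⟩
  · intro d x hxE hxd hx0
    obtain ⟨r, ⟨y, hy⟩, hr0⟩ := hess d x hxE hxd hx0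
    refine ⟨r, ?_, hr0⟩
    rw [← hy]
    exact y.2

end HullSub

section Summand

variable {I : Type u} [AddCommGroup I] [Module R I] (ℐ : ι → AddSubgroup I)
  [DirectSum.Decomposition ℐ] [SetLike.GradedSMul 𝒜 ℐ]

theorem exists_summand (hI : GrLC.IsStarInj 𝒜 ℐ) (q : HomogeneousIdeal 𝒜) (g₀ : ι) (m : I)
    (hm : m ∈ ℐ g₀) (hann : (R ∙ m).annihilator = q.toIdeal) :
    ∃ (X : GrLC.GMod.{u} 𝒜) (f : (R ⧸ q.toIdeal) →ₗ[R] X.carrier) (ψ : X.carrier →ₗ[R] I)
      (Q : Submodule R I),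
      GrLC.IsStarInjHull 𝒜 (fun j : ι => GrLC.quotGr 𝒜 q (j - g₀)) X.gr f ∧ Function.Injective ψ ∧
        GrLC.IsGrHom X.gr ℐ ψ ∧ ψ (f 1) = m ∧ Q.IsHomogeneous ℐ ∧
          IsCompl (LinearMap.range ψ) Q := by
  classical
  have hM' : ∀ g x, x ∈ (R ∙ m) → proj ℐ g x ∈ (R ∙ m) :=
    fun g x hx => span_singleton_proj_stable 𝒜 ℐ hm g x hx
  obtain ⟨E, hE, hle, hess, hEinj⟩ := exists_hull_sub 𝒜 ℐ hI (R ∙ m) hM'
  letI decE : DirectSum.Decomposition (subGr ℐ E) := subDecomposition ℐ E hE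
  -- the map `R/q → I`, `1 ↦ m`
  have hqker : q.toIdeal ≤ LinearMap.ker (LinearMap.toSpanSingleton R I m) := by
    intro a ha
    rw [← hann, Submodule.mem_annihilator_span_singleton] at ha
    rw [LinearMap.mem_ker, LinearMap.toSpanSingleton_apply]
    exact ha
  have hkerq : LinearMap.ker (LinearMap.toSpanSingleton R I m) ≤ q.toIdeal := by
    intro a ha
    rw [LinearMap.mem_ker, LinearMap.toSpanSingleton_apply] at ha
    rw [← hann, Submodule.mem_annihilator_span_singleton]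
    exact ha
  let μ : (R ⧸ q.toIdeal) →ₗ[R] I :=
    Submodule.liftQ q.toIdeal (LinearMap.toSpanSingleton R I m) hqker
  have hμ : ∀ a : R, μ (Ideal.Quotient.mk q.toIdeal a) = a • m := fun a => rfl
  have hμinj : Function.Injective μ := by
    rw [← LinearMap.ker_eq_bot]
    exact Submodule.ker_liftQ_eq_bot _ _ _ hkerq
  have hμmem : ∀ x, μ x ∈ E := by
    intro x
    obtain ⟨a, rfl⟩ := Ideal.Quotient.mk_surjective x
    rw [hμ]
    exact hle (Submodule.smul_mem _ _ (Submodule.mem_span_singleton_self m))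
  let f : (R ⧸ q.toIdeal) →ₗ[R] E := μ.codRestrict E hμmem
  have hf : ∀ x, ((f x : E) : I) = μ x := fun x => rfl
  -- retraction
  obtain ⟨ρ, hρ, hρφ, hcompl⟩ := exists_retraction 𝒜 (subGr ℐ E) ℐ hEinj E.subtype
    (fun g x hx => hx) Subtype.val_injective
  refine ⟨{ carrier := E, gr := subGr ℐ E, dec := decE, gsmul := subGradedSMul 𝒜 ℐ E }, f,
    E.subtype, LinearMap.ker ρ, ?_, Subtype.val_injective, fun g x hx => hx, ?_,
    fun i x hx => ker_proj_stable ℐ (subGr ℐ E) ρ hρ i x hx, hcompl⟩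
  · refine GrLC.IsStarInjHull.mk (GrLC.IsStarEss.mk ?_ ?_ ?_) hEinj
    · intro x y hxy
      apply hμinj
      have := congrArg Subtype.val hxy
      exact this
    · intro j x hx
      obtain ⟨a, ha, rfl⟩ := hx
      change μ (Ideal.Quotient.mk q.toIdeal a) ∈ ℐ j
      rw [hμ]
      have := SetLike.GradedSMul.smul_mem (A := 𝒜) (B := ℐ) (show a ∈ 𝒜 (j - g₀) from ha) hm
      rw [vadd_eq_add, sub_add_cancel] at this
      exact this
    · intro P hP hne
      obtain ⟨d, x, hxP, hxd, hx0⟩ := exists_homogeneous_ne_zero (subGr ℐ E) P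
        (fun g x hx => hP g hx) hne
      have hx0' : (x : I) ≠ 0 := fun h0 => hx0 (Subtype.ext h0)
      obtain ⟨r, hrm, hr0⟩ := hess d (x : I) x.2 hxd hx0'
      obtain ⟨b, hb⟩ := Submodule.mem_span_singleton.1 hrm
      have hrx : r • x ≠ 0 := fun h0 => hr0 (by
        have := congrArg Subtype.val h0
        exact this)
      intro hbot
      apply hrx
      have hmem : r • x ∈ P ⊓ LinearMap.range f :=
        ⟨P.smul_mem r hxP, Ideal.Quotient.mk q.toIdeal b, Subtype.ext (by rw [hf, hμ, hb]; rfl)⟩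
      rw [hbot] at hmem
      exact (Submodule.mem_bot R).1 hmem
  · change μ 1 = m
    have : (1 : R ⧸ q.toIdeal) = Ideal.Quotient.mk q.toIdeal 1 := rfl
    rw [this, hμ, one_smul]

end Summand

end Groth.Agent.Lib.Helper20.GrKit
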