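import Mathlib
import Groth.Prelude.Def_GrLC
import Groth.Agent.Lib.Helper26.GrProj
import Groth.Agent.Lib.Helper20.GrKit13

/-!
# *indecomposable *injectives are `*E(R/q)(-g₀)`
-/

set_option autoImplicit false
set_option linter.unusedSectionVars false
set_option linter.unusedVariables false

namespace Groth.Agent.Lib.Helper20.GrKit

open DirectSum Groth.Agent.Lib.Helper26.GrProj

universe u

section PrimeCrit

theorem isPrime_of_homogeneous_mem_or_mem' {ι : Type} [AddCommGroup ι] [inst : DecidableEq ι]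
    [Module.Free ℤ ι] [Module.Finite ℤ ι] {R : Type u} [CommRing R] (𝒜 : ι → AddSubgroup R)
    [GradedRing 𝒜] (J : Ideal R) (hJ : J.IsHomogeneous 𝒜) (hne : J ≠ ⊤)
    (h : ∀ {x y : R}, SetLike.IsHomogeneousElem 𝒜 x → SetLike.IsHomogeneousElem 𝒜 y →
      x * y ∈ J → x ∈ J ∨ y ∈ J) : J.IsPrime := by
  classical
  let e := (Module.finBasis ℤ ι).equivFun
  let f : ι → Lex (Fin (Module.finrank ℤ ι) → ℤ) := fun x => toLex (e x)
  have hf : Function.Injective f := fun a b h => e.injective (toLex.injective h)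
  letI PO : PartialOrder ι := PartialOrder.lift f hf
  letI LO : LinearOrder ι :=
    { PO with
      le_total := fun a b => le_total (f a) (f b)
      toDecidableLE := fun a b => Classical.dec _
      toDecidableEq := inst }
  haveI : IsOrderedCancelAddMonoid ι :=
    Function.Injective.isOrderedCancelAddMonoid f (fun x y => by simp [f]) Iff.rfl
  exact Ideal.IsHomogeneous.isPrime_of_homogeneous_mem_or_mem hJ hne h

end PrimeCrit

variable {ι : Type} [AddCommGroup ι] [DecidableEq ι] {R : Type u} [CommRing R]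
  (𝒜 : ι → AddSubgroup R) [GradedRing 𝒜]

section Ann

variable {I : Type u} [AddCommGroup I] [Module R I] (ℐ : ι → AddSubgroup I)
  [DirectSum.Decomposition ℐ] [SetLike.GradedSMul 𝒜 ℐ]

/-- the annihilator of a homogeneous element is a homogeneous ideal -/
theorem annihilator_span_singleton_isHomogeneous {g₀ : ι} {m : I} (hm : m ∈ ℐ g₀) :
    ((R ∙ m).annihilator).IsHomogeneous 𝒜 := by
  intro k a ha
  rw [Submodule.mem_annihilator_span_singleton] at ha ⊢
  have h1 := proj_smul_of_mem_right 𝒜 ℐ hm (k + g₀) a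
  rw [add_sub_cancel_right, ha, proj_zero] at h1
  exact h1.symm

variable [IsNoetherianRing R] [Module.Free ℤ ι] [Module.Finite ℤ ι]

include 𝒜 in
/-- a nonzero graded module over a Noetherian graded ring has a homogeneous element whose annihilator
is a (homogeneous) prime -/
theorem exists_homogeneous_ann_prime [Nontrivial I] :
    ∃ (g₀ : ι) (m : I), m ∈ ℐ g₀ ∧ m ≠ 0 ∧ ((R ∙ m).annihilator).IsPrime := by
  classical
  let S : Set (Ideal R) := {J | ∃ d m, m ∈ ℐ d ∧ m ≠ 0 ∧ J = (R ∙ m).annihilator}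
  have hSne : S.Nonempty := by
    have htop : (⊤ : Submodule R I) ≠ ⊥ := top_ne_bot
    obtain ⟨d, x, -, hxd, hx0⟩ := exists_homogeneous_ne_zero ℐ (⊤ : Submodule R I)
      (fun _ _ _ => Submodule.mem_top) htop
    exact ⟨_, d, x, hxd, hx0, rfl⟩
  obtain ⟨J, ⟨g₀, m, hm, hm0, rfl⟩, hmax⟩ :=
    (set_has_maximal_iff_noetherian (R := R) (M := R)).2 inferInstance S hSne
  refine ⟨g₀, m, hm, hm0, ?_⟩
  apply isPrime_of_homogeneous_mem_or_mem' 𝒜 _ (annihilator_span_singleton_isHomogeneous 𝒜 ℐ hm)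
  · intro htop
    apply hm0
    have : (1 : R) ∈ (R ∙ m).annihilator := by rw [htop]; exact Submodule.mem_top
    rw [Submodule.mem_annihilator_span_singleton, one_smul] at this
    exact this
  · rintro x y ⟨i, hx⟩ ⟨j, hy⟩ hxy
    by_contra hcon
    push Not at hcon
    obtain ⟨hxJ, hyJ⟩ := hcon
    rw [Submodule.mem_annihilator_span_singleton] at hxJ hyJ hxy
    have hym : y • m ∈ ℐ (j + g₀) := by
      have := SetLike.GradedSMul.smul_mem (A := 𝒜) (B := ℐ) hy hm
      rwa [vadd_eq_add] at this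
    have hle : (R ∙ m).annihilator ≤ (R ∙ (y • m)).annihilator := by
      intro a ha
      rw [Submodule.mem_annihilator_span_singleton] at ha ⊢
      rw [smul_comm, ha, smul_zero]
    have hmem : (R ∙ (y • m)).annihilator ∈ S := ⟨j + g₀, y • m, hym, hyJ, rfl⟩
    have hnlt := hmax _ hmem
    have heq : (R ∙ m).annihilator = (R ∙ (y • m)).annihilator := by
      by_contra hne
      exact hnlt (lt_of_le_of_ne hle hne)
    apply hxJ
    have : x ∈ (R ∙ (y • m)).annihilator := by
      rw [Submodule.mem_annihilator_span_singleton, ← mul_smul]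
      exact hxy
    rw [← heq, Submodule.mem_annihilator_span_singleton] at this
    exact this

end Ann

section Indec

variable {I : Type u} [AddCommGroup I] [Module R I] (ℐ : ι → AddSubgroup I)
  [DirectSum.Decomposition ℐ] [SetLike.GradedSMul 𝒜 ℐ]
  [IsNoetherianRing R] [Module.Free ℤ ι] [Module.Finite ℤ ι]

theorem exists_hull_of_isStarIndec (hI : GrLC.IsStarInj 𝒜 ℐ) (hind : GrLC.IsStarIndec R ℐ) :
    ∃ (q : HomogeneousIdeal 𝒜) (g₀ : ι) (f : (R ⧸ q.toIdeal) →ₗ[R] I), q.toIdeal.IsPrime ∧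
      GrLC.IsStarInjHull 𝒜 (fun j : ι => GrLC.quotGr 𝒜 q (j - g₀)) ℐ f := by
  classical
  haveI := hind.1
  obtain ⟨g₀, m, hm, hm0, hprime⟩ := exists_homogeneous_ann_prime 𝒜 ℐ
  let q : HomogeneousIdeal 𝒜 :=
    ⟨(R ∙ m).annihilator, annihilator_span_singleton_isHomogeneous 𝒜 ℐ hm⟩
  obtain ⟨X, f, ψ, Q, hull, hψinj, hψgr, hψf, hQ, hcompl⟩ :=
    exists_summand 𝒜 ℐ hI q g₀ m hm rfl
  have hPhom : (LinearMap.range ψ).IsHomogeneous ℐ :=
    fun i x hx => range_proj_stable X.gr ℐ ψ hψgr i x hx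
  have hsurj : Function.Surjective ψ := by
    rcases hind.2 _ _ hPhom hQ hcompl with h | h
    · exfalso
      apply hm0
      have : m ∈ LinearMap.range ψ := ⟨f 1, hψf⟩
      rw [h, Submodule.mem_bot] at this
      exact this
    · rw [h] at hcompl
      exact LinearMap.range_eq_top.1 (eq_top_of_isCompl_bot hcompl)
  refine ⟨q, g₀, ψ ∘ₗ f, hprime, GrLC.IsStarInjHull.mk (GrLC.IsStarEss.mk ?_ ?_ ?_) hI⟩
  · exact hψinj.comp hull.injective
  · intro j x hx
    exact hψgr j _ (hull.grHom j x hx)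
  · intro P hP hne
    have hP' : (P.comap ψ).IsHomogeneous X.gr := by
      intro i x hx
      rw [Submodule.mem_comap] at hx ⊢
      have := proj_hom X.gr ℐ ψ hψgr i x
      change ψ (proj X.gr i x) ∈ P
      rw [← this]
      exact hP i hx
    have hne' : P.comap ψ ≠ ⊥ := by
      obtain ⟨y, hy, hy0⟩ := (Submodule.ne_bot_iff P).1 hne
      obtain ⟨x, rfl⟩ := hsurj y
      intro hbot
      apply hy0
      have : x ∈ P.comap ψ := hy
      rw [hbot, Submodule.mem_bot] at this
      rw [this, map_zero]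
    have hmeet := hull.essential (P.comap ψ) hP' hne'
    obtain ⟨z, ⟨hz1, a, rfl⟩, hz0⟩ := (Submodule.ne_bot_iff _).1 hmeet
    intro hbot
    apply hz0
    apply hψinj
    have hmem : ψ (f a) ∈ P ⊓ LinearMap.range (ψ ∘ₗ f) := ⟨hz1, a, rfl⟩
    rw [hbot, Submodule.mem_bot] at hmem
    rw [hmem, map_zero]

end Indec

end Groth.Agent.Lib.Helper20.GrKit
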