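import Mathlib
import Groth.Agent.Lib.Helper20.GrKit14
import Groth.Agent.Lib.Helper20.GrCoatom

/-!
# *local graded rings: homogeneous elements vanishing at the *maximal ideal vanish
-/

set_option autoImplicit false
set_option linter.unusedSectionVars false
set_option linter.unusedVariables false

namespace Groth.Agent.Lib.Helper20.CanonShift

open Groth.Agent.Lib.Helper20.GrKit DirectSum Groth.Agent.Lib.Helper26.GrProj

universe u

section

variable {ι : Type} [AddCommGroup ι] [DecidableEq ι] {R : Type u} [CommRing R] [IsNoetherianRing R]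
  (𝒜 : ι → AddSubgroup R) [GradedRing 𝒜]

/-- every proper homogeneous ideal lies in a *maximal ideal -/
theorem exists_coatom_ge (I : HomogeneousIdeal 𝒜) (hI : I.toIdeal ≠ ⊤) :
    ∃ n : HomogeneousIdeal 𝒜, IsCoatom n ∧ I ≤ n := by
  let S : Set (Ideal R) := {J | J.IsHomogeneous 𝒜 ∧ I.toIdeal ≤ J ∧ J ≠ ⊤}
  have hne : S.Nonempty := ⟨I.toIdeal, I.isHomogeneous, le_rfl, hI⟩
  obtain ⟨M, hM, hmax⟩ := (set_has_maximal_iff_noetherian.2 inferInstance) S hne
  refine ⟨⟨M, hM.1⟩, ⟨?_, ?_⟩, hM.2.1⟩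
  · intro h
    apply hM.2.2
    have := congrArg HomogeneousIdeal.toIdeal h
    simpa using this
  · intro b hb
    by_contra hbt
    apply hmax b.toIdeal ⟨b.isHomogeneous, le_trans hM.2.1 (le_of_lt hb), ?_⟩ hb
    intro h
    apply hbt
    apply HomogeneousIdeal.toIdeal_injective
    rw [h, HomogeneousIdeal.toIdeal_top]

variable (m : HomogeneousIdeal 𝒜) (hm : GrLC.IsStarLocal 𝒜 m)

include hm in
theorem le_of_isStarLocal (I : HomogeneousIdeal 𝒜) (hI : I.toIdeal ≠ ⊤) : I ≤ m := by
  obtain ⟨n, hn, hIn⟩ := exists_coatom_ge 𝒜 I hI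
  rw [hm.2 n hn] at hIn
  exact hIn

variable {N : Type u} [AddCommGroup N] [Module R N] (𝒩 : ι → AddSubgroup N)
  [DirectSum.Decomposition 𝒩] [SetLike.GradedSMul 𝒜 𝒩]

include hm in
/-- a homogeneous element killed by an element outside the *maximal ideal vanishes -/
theorem eq_zero_of_smul_eq_zero {h : ι} {x : N} (hx : x ∈ 𝒩 h) (t : R) (ht : t ∉ m.toIdeal)
    (htx : t • x = 0) : x = 0 := by
  by_contra hx0
  have hhom := annihilator_span_singleton_isHomogeneous 𝒜 𝒩 hx
  have hne : (R ∙ x).annihilator ≠ ⊤ := by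
    intro htop
    apply hx0
    have h1 : (1 : R) ∈ (R ∙ x).annihilator := by rw [htop]; trivial
    rw [Submodule.mem_annihilator_span_singleton, one_smul] at h1
    exact h1
  have hle := le_of_isStarLocal 𝒜 m hm ⟨(R ∙ x).annihilator, hhom⟩ hne
  apply ht
  apply hle
  change t ∈ (R ∙ x).annihilator
  rw [Submodule.mem_annihilator_span_singleton]
  exact htx

end

end Groth.Agent.Lib.Helper20.CanonShift
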