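import Mathlib
import Groth.Agent.Lib.Helper20.GorGr1
import Groth.Agent.S0345

/-!
# Localizations of a Gorenstein local ring are Gorenstein
-/

set_option autoImplicit false
set_option linter.unusedSectionVars false
set_option linter.unusedVariables false
set_option linter.style.haveILetI false

namespace Groth.Agent.Lib.Helper20.GorGr

universe u

theorem gorenstein_transport {R : Type u} [CommRing R] (q q' : Ideal R) [q.IsPrime] [q'.IsPrime]
    (h : q = q') (hG : LocCoh.IsGorensteinLocalRing (Localization.AtPrime q)) :
    LocCoh.IsGorensteinLocalRing (Localization.AtPrime q') := by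
  subst h
  exact hG

theorem gorenstein_of_le {R : Type u} [CommRing R] [IsNoetherianRing R] (m q : Ideal R)
    [m.IsPrime] [hq : q.IsPrime] (hqm : q ≤ m)
    (hG : LocCoh.IsGorensteinLocalRing (Localization.AtPrime m)) :
    LocCoh.IsGorensteinLocalRing (Localization.AtPrime q) := by
  have hGR := ((Groth.Agent.S0345.result (Localization.AtPrime m)).1
    hG.exists_hasInjectiveDimensionLT).1
  have hdisj : Disjoint (m.primeCompl : Set R) (q : Set R) := by
    rw [Set.disjoint_left]
    intro x hx hxq
    exact hx (hqm hxq)
  haveI hQ : (q.map (algebraMap R (Localization.AtPrime m))).IsPrime :=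
    IsLocalization.isPrime_of_isPrime_disjoint m.primeCompl _ q hq hdisj
  have hcomap : (q.map (algebraMap R (Localization.AtPrime m))).comap
      (algebraMap R (Localization.AtPrime m)) = q :=
    IsLocalization.comap_map_of_isPrime_disjoint m.primeCompl _ hq hdisj
  have h1 := hGR.isGorensteinLocalRing_localization (q.map (algebraMap R (Localization.AtPrime m)))
  let e := IsLocalization.localizationLocalizationAtPrimeIsoLocalization m.primeCompl
    (q.map (algebraMap R (Localization.AtPrime m)))
  have h2 : LocCoh.IsGorensteinLocalRing (Localization.AtPrime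
      ((q.map (algebraMap R (Localization.AtPrime m))).comap
        (algebraMap R (Localization.AtPrime m)))) :=
    Groth.Agent.Lib.Helper5.GorIso.isGorensteinLocalRing_of_ringEquiv e.symm.toRingEquiv
  exact gorenstein_transport _ q hcomap h2

end Groth.Agent.Lib.Helper20.GorGr
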