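import Mathlib
import Groth.Agent.Lib.Helper20.GorGr2
import Groth.Agent.Lib.Helper20.CanonShift1

/-!
# A *local graded ring which is Gorenstein at its *maximal ideal is Gorenstein
-/

set_option autoImplicit false
set_option linter.unusedSectionVars false
set_option linter.unusedVariables false
set_option linter.style.haveILetI false

namespace Groth.Agent.Lib.Helper20.GorGr

open Groth.Agent.Lib.Helper20.CanonShift

universe u

section

variable {ι : Type} [AddCommGroup ι] [DecidableEq ι] [Module.Free ℤ ι] [Module.Finite ℤ ι]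
variable {R : Type u} [CommRing R] [IsNoetherianRing R] (𝒜 : ι → AddSubgroup R) [GradedRing 𝒜]
  (m : HomogeneousIdeal 𝒜) (hm : GrLC.IsStarLocal 𝒜 m)

include hm in
theorem isGorensteinRing_of_starLocal [m.toIdeal.IsPrime]
    (hcore : ∀ p : Ideal R, p.IsPrime → (Ideal.homogeneousCore 𝒜 p).toIdeal.IsPrime)
    (hG : LocCoh.IsGorensteinLocalRing (Localization.AtPrime m.toIdeal)) :
    LocCoh.IsGorensteinRing R := by
  refine { isGorensteinLocalRing_localization := fun p hp => ?_ }
  haveI := hcore p hp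
  rw [gorenstein_iff_core 𝒜 p]
  have hne : (Ideal.homogeneousCore 𝒜 p).toIdeal ≠ ⊤ :=
    ne_top_of_le_ne_top hp.ne_top (Ideal.toIdeal_homogeneousCore_le 𝒜 p)
  have hle := le_of_isStarLocal 𝒜 m hm (Ideal.homogeneousCore 𝒜 p) hne
  exact gorenstein_of_le m.toIdeal _ hle hG

end

theorem isGorensteinRing_of_starLocal_int {R : Type u} [CommRing R] [IsNoetherianRing R]
    (𝒜 : ℤ → AddSubgroup R) [GradedRing 𝒜] (m : HomogeneousIdeal 𝒜) (hm : GrLC.IsStarLocal 𝒜 m)
    [m.toIdeal.IsPrime]
    (hG : LocCoh.IsGorensteinLocalRing (Localization.AtPrime m.toIdeal)) :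
    LocCoh.IsGorensteinRing R :=
  isGorensteinRing_of_starLocal 𝒜 m hm (fun p hp => Ideal.IsPrime.homogeneousCore hp) hG

end Groth.Agent.Lib.Helper20.GorGr
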