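import Mathlib
import Groth.Agent.Lib.Helper20.GorGr3
import Groth.Agent.Lib.Helper21.FlatLocal16

/-!
# Heights of primes vs. their homogeneous cores in a `ℤ`-graded ring
-/

set_option autoImplicit false
set_option linter.unusedSectionVars false
set_option linter.unusedVariables false
set_option linter.style.haveILetI false

namespace Groth.Agent.Lib.Helper20.GorGr

open TensorProduct Groth.Agent.Lib.Helper21.Torus Groth.Agent.Lib.Helper21.FlatLocal Module

universe u

theorem ringKrullDim_laurent_le (K : Type u) [Field K] :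
    ringKrullDim (AddMonoidAlgebra K ℤ) ≤ 1 := by
  rw [ringKrullDim_le_iff_height_le]
  intro q hq
  haveI := hq
  have h := IsLocalization.height_under (Submonoid.powers (Polynomial.X : Polynomial K))
    (A := LaurentPolynomial K) q
  have hne : q.under (Polynomial K) ≠ ⊤ := (Ideal.IsPrime.under (Polynomial K) q).ne_top
  have h2 : ((q.under (Polynomial K)).height : WithBot ℕ∞) ≤ ringKrullDim (Polynomial K) :=
    Ideal.height_le_ringKrullDim_of_ne_top hne
  rw [Polynomial.ringKrullDim_of_isNoetherianRing, ringKrullDim_eq_zero_of_field, zero_add] at h2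
  have h3 : (q.height : WithBot ℕ∞) = ((q.under (Polynomial K)).height : WithBot ℕ∞) := by
    rw [h]
  rw [h3]
  exact h2

section

variable {R : Type u} [CommRing R] [IsNoetherianRing R] (𝒜 : ℤ → AddSubgroup R) [GradedRing 𝒜]
variable (p : Ideal R) [p.IsPrime] [hcore : (Ideal.homogeneousCore 𝒜 p).toIdeal.IsPrime]

local notation "S" => AddMonoidAlgebra R ℤ
local notation "P" => p.map (algebraMap R S)

theorem supportDim_fibTw_le_one :
    supportDim (Localization.AtPrime P) (FibTw 𝒜 p) ≤ 1 := by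
  obtain ⟨Q, hQ, hQP⟩ := exists_fiber_prime (coreTw 𝒜 p) (P) (under_tw_map 𝒜 p)
  haveI := hQ
  have h2 := supportDim_fiber_loc (coreTw 𝒜 p) Q (P) hQP
  rw [← h2, supportDim_eq_of_equiv (localizedSelfEquiv Q), supportDim_self_eq_ringKrullDim,
    IsLocalization.AtPrime.ringKrullDim_eq_height Q (Localization.AtPrime Q)]
  have h3 : (Q.height : WithBot ℕ∞) ≤ ringKrullDim ((coreTw 𝒜 p).Fiber S) :=
    Ideal.height_le_ringKrullDim_of_ne_top hQ.ne_top
  refine h3.trans ?_
  let e1 : (coreTw 𝒜 p).ResidueField ⊗[Tw 𝒜] S ≃ₐ[Tw 𝒜]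
      (coreTw 𝒜 p).ResidueField ⊗[Tw 𝒜] (AddMonoidAlgebra (Tw 𝒜) ℤ) :=
    Algebra.TensorProduct.congr AlgEquiv.refl (twistAlg 𝒜).symm
  let e2 : (coreTw 𝒜 p).ResidueField ⊗[Tw 𝒜] (AddMonoidAlgebra (Tw 𝒜) ℤ) ≃ₐ[(coreTw 𝒜 p).ResidueField]
      AddMonoidAlgebra (coreTw 𝒜 p).ResidueField ℤ :=
    AddMonoidAlgebra.scalarTensorEquiv (Tw 𝒜) (coreTw 𝒜 p).ResidueField
  rw [ringKrullDim_eq_of_ringEquiv (e1.toRingEquiv.trans e2.toRingEquiv)]
  exact ringKrullDim_laurent_le _

theorem height_le_core_add_one :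
    p.height ≤ (Ideal.homogeneousCore 𝒜 p).toIdeal.height + 1 := by
  have h1 : (P).height = p.height := by
    have := height_eq_of_minimal (A := R) (P) (mem_minimalPrimes_map p)
    rw [this, under_map p]
  have h2 := height_loc_flat (A := Tw 𝒜) (P)
  have h3 : (P).under (Tw 𝒜) = coreTw 𝒜 p := under_tw_map 𝒜 p
  rw [h3, h1] at h2
  have h4 := supportDim_fibTw_le_one 𝒜 p
  have h5 : (p.height : WithBot ℕ∞) ≤ ((coreTw 𝒜 p).height : WithBot ℕ∞) + 1 := by
    rw [h2]
    exact add_le_add_right h4 _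
  have h6 : (coreTw 𝒜 p).height = (Ideal.homogeneousCore 𝒜 p).toIdeal.height := rfl
  rw [h6] at h5
  exact_mod_cast h5

end

end Groth.Agent.Lib.Helper20.GorGr
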