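import Mathlib
import Groth.Agent.Lib.Helper20.BassTorus1
import Groth.Agent.Lib.Helper20.GorGr4

/-!
# `ℤ`-graded case: `ht(p/p*) = 1` for a non-homogeneous prime
-/

set_option autoImplicit false
set_option linter.unusedSectionVars false
set_option linter.unusedVariables false
set_option linter.style.haveILetI false

namespace Groth.Agent.Lib.Helper20.BassTorus

open TensorProduct Module Groth.Agent.Lib.Helper21.Torus Groth.Agent.Lib.Helper21.FlatLocal
  Groth.Agent.Lib.Helper20.BassFlat

universe u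

variable {R : Type u} [CommRing R] [IsNoetherianRing R] (𝒜 : ℤ → AddSubgroup R) [GradedRing 𝒜]
variable (p : Ideal R) [p.IsPrime] [hcore : (Ideal.homogeneousCore 𝒜 p).toIdeal.IsPrime]

local notation "S" => AddMonoidAlgebra R ℤ
local notation "P" => p.map (algebraMap R S)

theorem height_map_mk_core_eq_one (hp : ¬ Ideal.IsHomogeneous 𝒜 p) :
    (p.map (Ideal.Quotient.mk (Ideal.homogeneousCore 𝒜 p).toIdeal)).height = 1 := by
  have hIp : (Ideal.homogeneousCore 𝒜 p).toIdeal ≤ p := Ideal.toIdeal_homogeneousCore_le 𝒜 p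
  haveI := nontrivial_quot_loc _ p hIp
  haveI := isPrime_map_mk _ p hIp
  have h1 : supportDim (Localization.AtPrime P) (FibTw 𝒜 p) =
      (((p.map (Ideal.Quotient.mk (Ideal.homogeneousCore 𝒜 p).toIdeal)).height : ℕ∞) :
        WithBot ℕ∞) := by
    rw [supportDim_fibTw, supportDim_quot_loc _ p hIp]
  have h2 := Groth.Agent.Lib.Helper20.GorGr.supportDim_fibTw_le_one 𝒜 p
  rw [h1] at h2
  have h3 : (p.map (Ideal.Quotient.mk (Ideal.homogeneousCore 𝒜 p).toIdeal)).height ≤ 1 := by
    exact_mod_cast h2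
  haveI : IsDomain (R ⧸ (Ideal.homogeneousCore 𝒜 p).toIdeal) :=
    (Ideal.Quotient.isDomain_iff_prime _).mpr hcore
  have h4 : (p.map (Ideal.Quotient.mk (Ideal.homogeneousCore 𝒜 p).toIdeal)).height ≠ 0 := by
    rw [Ne, Ideal.height_eq_zero_iff_eq_bot]
    intro hbot
    apply hp
    have hle : p ≤ (Ideal.homogeneousCore 𝒜 p).toIdeal := by
      intro x hx
      have : Ideal.Quotient.mk (Ideal.homogeneousCore 𝒜 p).toIdeal x ∈
          p.map (Ideal.Quotient.mk (Ideal.homogeneousCore 𝒜 p).toIdeal) :=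
        Ideal.mem_map_of_mem _ hx
      rw [hbot] at this
      exact Ideal.Quotient.eq_zero_iff_mem.mp this
    have heq : p = (Ideal.homogeneousCore 𝒜 p).toIdeal := le_antisymm hle hIp
    rw [heq]
    exact (Ideal.homogeneousCore 𝒜 p).isHomogeneous
  exact le_antisymm h3 (Order.one_le_iff_pos.mpr (pos_iff_ne_zero.mpr h4))

end Groth.Agent.Lib.Helper20.BassTorus
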