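import Mathlib

namespace Groth.Agent.Lib.Helper20.BddCount

open Finset PowerSeries

/-- the generating series of the allowed exponents -/
noncomputable def P (p : ℕ) : ℤ⟦X⟧ :=
  ∑ e : Fin p, if 1 ≤ (e : ℕ) then (X : ℤ⟦X⟧) ^ (e : ℕ) else 0

theorem count_eq_coeff (p n s : ℕ) :
    (Fintype.card {e : Fin n → Fin p // (∀ i, 1 ≤ (e i : ℕ)) ∧ ∑ i, (e i : ℕ) = s} : ℤ) =
      PowerSeries.coeff s (P p ^ n) := by
  classical
  have h1 : P p ^ n = ∏ _i : Fin n, P p := by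
    rw [Finset.prod_const, Finset.card_univ, Fintype.card_fin]
  rw [h1]
  unfold P
  rw [Finset.prod_univ_sum, Fintype.piFinset_univ, map_sum]
  have hterm : ∀ e : Fin n → Fin p,
      PowerSeries.coeff s (∏ i, if 1 ≤ (e i : ℕ) then (X : ℤ⟦X⟧) ^ (e i : ℕ) else 0) =
        if (∀ i, 1 ≤ (e i : ℕ)) ∧ ∑ i, (e i : ℕ) = s then 1 else 0 := by
    intro e
    rw [Fintype.prod_ite_zero]
    by_cases h : ∀ i, 1 ≤ (e i : ℕ)
    · rw [if_pos h, Finset.prod_pow_eq_pow_sum, PowerSeries.coeff_X_pow]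
      by_cases h2 : ∑ i, (e i : ℕ) = s
      · rw [if_pos h2.symm, if_pos ⟨h, h2⟩]
      · rw [if_neg (fun h' => h2 h'.symm), if_neg (fun h' => h2 h'.2)]
    · rw [if_neg h, map_zero, if_neg (fun h' => h h'.1)]
  rw [Finset.sum_congr rfl fun e _ => hterm e, Finset.sum_boole, Fintype.card_subtype]

theorem P_mul (p : ℕ) (hp : 1 ≤ p) :
    P p * (1 - X) = X * (1 - (X : ℤ⟦X⟧) ^ (p - 1)) := by
  have h1 : P p = ∑ e ∈ Finset.Ico 1 p, (X : ℤ⟦X⟧) ^ e := by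
    unfold P
    rw [Fin.sum_univ_eq_sum_range (fun e => if 1 ≤ e then (X : ℤ⟦X⟧) ^ e else 0) p,
      ← Finset.sum_filter]
    refine Finset.sum_congr ?_ fun _ _ => rfl
    ext e
    simp only [Finset.mem_filter, Finset.mem_range, Finset.mem_Ico]
    omega
  rw [h1, geom_sum_Ico_mul_neg _ hp]
  have : (X : ℤ⟦X⟧) ^ p = X * X ^ (p - 1) := by
    rw [← pow_succ', Nat.sub_add_cancel hp]
  rw [this]
  ring

theorem P_pow (p n : ℕ) (hp : 1 ≤ p) :
    P p ^ n = X ^ n * ((1 - (X : ℤ⟦X⟧) ^ (p - 1)) ^ n * (PowerSeries.mk 1) ^ n) := by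
  have h1 : (P p * (1 - X)) ^ n * (PowerSeries.mk 1 : ℤ⟦X⟧) ^ n = P p ^ n := by
    rw [mul_pow, mul_assoc, ← mul_pow, mul_comm (1 - X) _, PowerSeries.mk_one_mul_one_sub_eq_one,
      one_pow, mul_one]
  rw [← h1, P_mul p hp, mul_pow]
  ring

theorem one_sub_pow_expand (m n : ℕ) :
    (1 - (X : ℤ⟦X⟧) ^ m) ^ n =
      ∑ i ∈ Finset.range (n + 1), ((-1 : ℤ⟦X⟧) ^ i * (n.choose i : ℤ⟦X⟧)) * X ^ (m * i) := by
  have : (1 - (X : ℤ⟦X⟧) ^ m) = -(X ^ m) + 1 := by ring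
  rw [this, add_pow]
  refine Finset.sum_congr rfl fun i _ => ?_
  rw [one_pow, mul_one, neg_pow, ← pow_mul]
  ring

theorem coeff_main (p n s : ℕ) (hn : 1 ≤ n) (hp : 1 ≤ p) :
    PowerSeries.coeff s (P p ^ n) =
      ∑ i ∈ Finset.range (n + 1),
        (-1 : ℤ) ^ i * (n.choose i : ℤ) *
          (if i * (p - 1) + n ≤ s then (((s - i * (p - 1) - 1).choose (n - 1) : ℕ) : ℤ) else 0) := by
  obtain ⟨d, rfl⟩ : ∃ d, n = d + 1 := ⟨n - 1, by omega⟩
  rw [P_pow p (d + 1) hp, PowerSeries.mk_one_pow_eq_mk_choose_add, one_sub_pow_expand,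
    Finset.sum_mul, Finset.mul_sum, map_sum]
  refine Finset.sum_congr rfl fun i _ => ?_
  have h1 : (X : ℤ⟦X⟧) ^ (d + 1) * (((-1 : ℤ⟦X⟧) ^ i * ((d + 1).choose i : ℤ⟦X⟧)) *
      X ^ ((p - 1) * i) * PowerSeries.mk fun t => ((d + t).choose d : ℤ)) =
      PowerSeries.C ((-1 : ℤ) ^ i * ((d + 1).choose i : ℤ)) *
        (X ^ ((p - 1) * i + (d + 1)) * PowerSeries.mk fun t => ((d + t).choose d : ℤ)) := by
    rw [map_mul, map_pow, map_neg, map_one, map_natCast, pow_add]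
    ring
  rw [h1, PowerSeries.coeff_C_mul, PowerSeries.coeff_X_pow_mul']
  congr 1
  have h2 : (p - 1) * i + (d + 1) = i * (p - 1) + (d + 1) := by ring
  rw [h2]
  by_cases hle : i * (p - 1) + (d + 1) ≤ s
  · rw [if_pos hle, if_pos hle, PowerSeries.coeff_mk]
    have h3 : d + (s - (i * (p - 1) + (d + 1))) = s - i * (p - 1) - 1 := by omega
    rw [h3, Nat.add_sub_cancel]
  · rw [if_neg hle, if_neg hle]

theorem result' (p n s : ℕ) (hn : 1 ≤ n) :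
    (Fintype.card {e : Fin n → Fin p // (∀ i, 1 ≤ (e i : ℕ)) ∧ ∑ i, (e i : ℕ) = s} : ℤ) =
      ∑ i ∈ Finset.range (n + 1),
        (-1 : ℤ) ^ i * (n.choose i : ℤ) *
          (if i * (p - 1) + n ≤ s then (((s - i * (p - 1) - 1).choose (n - 1) : ℕ) : ℤ) else 0) := by
  rcases Nat.eq_zero_or_pos p with hp | hp
  · subst hp
    have hempty : IsEmpty {e : Fin n → Fin 0 // (∀ i, 1 ≤ (e i : ℕ)) ∧ ∑ i, (e i : ℕ) = s} := by
      refine ⟨fun e => ?_⟩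
      exact (e.1 ⟨0, hn⟩).elim0
    rw [Fintype.card_eq_zero, Nat.cast_zero]
    simp only [Nat.zero_sub, Nat.mul_zero, Nat.zero_add, Nat.sub_zero]
    rw [← Finset.sum_mul, Int.alternating_sum_range_choose_of_ne (by omega), zero_mul]
  · rw [count_eq_coeff, coeff_main p n s hn hp]

end Groth.Agent.Lib.Helper20.BddCount
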