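import Mathlib

namespace Groth.Agent.Lib.Helper20.BinomDiff

open Finset

variable {S : Type*} [CommRing S] (y z : S)

/-- reindexing of the triangular double sum -/
theorem dsum (c : ℕ → S) (N : ℕ) :
    ∑ k ∈ range (N + 1), ∑ i ∈ range k, c k * (y ^ i * z ^ (k - 1 - i)) =
      ∑ i ∈ range (N + 1), ∑ j ∈ range (N + 1),
        if i + j + 1 ≤ N then c (i + j + 1) * y ^ i * z ^ j else 0 := by
  rw [Finset.sum_comm' (t' := range (N + 1)) (s' := fun i => Ico (i + 1) (N + 1))]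
  · refine Finset.sum_congr rfl fun i hi => ?_
    rw [Finset.mem_range] at hi
    rw [Finset.sum_Ico_eq_sum_range, ← Finset.sum_filter]
    have hfil : (range (N + 1)).filter (fun j => i + j + 1 ≤ N) = range (N + 1 - (i + 1)) := by
      ext j
      simp only [Finset.mem_filter, Finset.mem_range]
      omega
    rw [hfil]
    refine Finset.sum_congr rfl fun j _ => ?_
    have h1 : i + 1 + j - 1 - i = j := by omega
    have h2 : i + 1 + j = i + j + 1 := by omega
    rw [h1, h2, mul_assoc]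
  · intro k i
    simp only [Finset.mem_range, Finset.mem_Ico]
    omega

/-- general difference formula -/
theorem gen (c : ℕ → S) (N : ℕ) :
    ∑ k ∈ range (N + 1), c k * (y ^ k - z ^ k) =
      (y - z) * ∑ i ∈ range (N + 1), ∑ j ∈ range (N + 1),
        if i + j + 1 ≤ N then c (i + j + 1) * y ^ i * z ^ j else 0 := by
  rw [← dsum, Finset.mul_sum]
  refine Finset.sum_congr rfl fun k _ => ?_
  rw [← Finset.mul_sum, ← (Commute.all y z).mul_geom_sum₂ k]
  ring

theorem part1 (N : ℕ) :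
    (1 + y) ^ N - (1 + z) ^ N =
      (y - z) * ∑ i ∈ range (N + 1), ∑ j ∈ range (N + 1),
        if i + j + 1 ≤ N then ((N.choose (i + j + 1) : ℕ) : S) * y ^ i * z ^ j else 0 := by
  rw [← gen y z (fun k => ((N.choose k : ℕ) : S)) N, add_comm 1 y, add_comm 1 z, add_pow, add_pow,
    ← Finset.sum_sub_distrib]
  refine Finset.sum_congr rfl fun k _ => ?_
  simp only [one_pow, mul_one]
  ring

theorem part2 (a : ℕ) (ha : 1 ≤ a) :
    (1 + y) ^ a * z - (1 + z) ^ a * y =
      (y - z) * (-1 + ∑ i ∈ range (a + 1), ∑ j ∈ range (a + 1),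
        if 1 ≤ i ∧ 1 ≤ j ∧ i + j ≤ a then ((a.choose (i + j) : ℕ) : S) * y ^ i * z ^ j else 0) := by
  obtain ⟨N, rfl⟩ : ∃ N, a = N + 1 := ⟨a - 1, by omega⟩
  -- the shifted double sum
  have hshift : ∑ i ∈ range (N + 1 + 1), ∑ j ∈ range (N + 1 + 1),
        (if 1 ≤ i ∧ 1 ≤ j ∧ i + j ≤ N + 1 then (((N + 1).choose (i + j) : ℕ) : S) * y ^ i * z ^ j
          else 0) =
      y * z * ∑ i ∈ range (N + 1), ∑ j ∈ range (N + 1),
        if i + j + 1 ≤ N then (((N + 1).choose (i + j + 1 + 1) : ℕ) : S) * y ^ i * z ^ j else 0 := by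
    rw [Finset.sum_range_succ']
    have h0 : ∑ j ∈ range (N + 1 + 1),
        (if 1 ≤ 0 ∧ 1 ≤ j ∧ 0 + j ≤ N + 1 then (((N + 1).choose (0 + j) : ℕ) : S) * y ^ 0 * z ^ j
          else 0) = 0 := by
      refine Finset.sum_eq_zero fun j _ => ?_
      rw [if_neg (by omega)]
    rw [h0, add_zero, Finset.mul_sum]
    refine Finset.sum_congr rfl fun i _ => ?_
    rw [Finset.sum_range_succ']
    have h00 : (if 1 ≤ i + 1 ∧ 1 ≤ 0 ∧ i + 1 + 0 ≤ N + 1 then
        (((N + 1).choose (i + 1 + 0) : ℕ) : S) * y ^ (i + 1) * z ^ 0 else 0) = 0 := by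
      rw [if_neg (by omega)]
    rw [h00, add_zero, Finset.mul_sum]
    refine Finset.sum_congr rfl fun j _ => ?_
    by_cases h : i + j + 1 ≤ N
    · rw [if_pos h, if_pos (by omega)]
      have : i + 1 + (j + 1) = i + j + 1 + 1 := by omega
      rw [this]
      ring
    · rw [if_neg h, if_neg (by omega), mul_zero]
  rw [hshift]
  have h1 : (1 + y) ^ (N + 1) * z - (1 + z) ^ (N + 1) * y =
      ∑ k ∈ range (N + 1 + 1), (((N + 1).choose k : ℕ) : S) * (y ^ k * z - z ^ k * y) := by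
    rw [add_comm 1 y, add_comm 1 z, add_pow, add_pow, Finset.sum_mul, Finset.sum_mul,
      ← Finset.sum_sub_distrib]
    refine Finset.sum_congr rfl fun k _ => ?_
    simp only [one_pow, mul_one]
    ring
  rw [h1, Finset.sum_range_succ']
  have h2 : ∑ k ∈ range (N + 1), (((N + 1).choose (k + 1) : ℕ) : S) *
        (y ^ (k + 1) * z - z ^ (k + 1) * y) =
      y * z * ∑ k ∈ range (N + 1), (((N + 1).choose (k + 1) : ℕ) : S) * (y ^ k - z ^ k) := by
    rw [Finset.mul_sum]
    refine Finset.sum_congr rfl fun k _ => ?_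
    ring
  rw [h2, gen y z (fun k => (((N + 1).choose (k + 1) : ℕ) : S)) N]
  simp only [Nat.choose_zero_right, Nat.cast_one, pow_zero, one_mul]
  ring

theorem result' (a : ℕ) (ha : 1 ≤ a) :
    let y : MvPolynomial (Fin 2) ℤ := MvPolynomial.X 0
    let z : MvPolynomial (Fin 2) ℤ := MvPolynomial.X 1
    ((1 + y) ^ (a - 1) - (1 + z) ^ (a - 1) =
      (y - z) * ∑ i ∈ Finset.range a, ∑ j ∈ Finset.range a,
        if i + j + 1 ≤ a - 1 then ((a - 1).choose (i + j + 1) : MvPolynomial (Fin 2) ℤ) * y ^ i * z ^ j else 0) ∧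
    ((1 + y) ^ a * z - (1 + z) ^ a * y =
      (y - z) * (-1 + ∑ i ∈ Finset.range (a + 1), ∑ j ∈ Finset.range (a + 1),
        if 1 ≤ i ∧ 1 ≤ j ∧ i + j ≤ a then (a.choose (i + j) : MvPolynomial (Fin 2) ℤ) * y ^ i * z ^ j else 0)) := by
  intro y z
  refine ⟨?_, part2 y z a ha⟩
  have := part1 y z (a - 1)
  rw [Nat.sub_add_cancel ha] at this
  exact this

end Groth.Agent.Lib.Helper20.BinomDiff
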