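import Mathlib

/-!
# Localization of `Hom(C, E)` for finitely presented `C`
-/

set_option autoImplicit false

namespace Groth.Agent.Lib.Helper20.CanonLoc

open TensorProduct

universe u

section

variable {R : Type u} [CommRing R] (S : Submonoid R)
  (C : Type u) [AddCommGroup C] [Module R C] [Module.FinitePresentation R C]
  (E : Type u) [AddCommGroup E] [Module R E]

/-- `S⁻¹R ⊗ Hom_R(C, E) ≃ Hom_{S⁻¹R}(S⁻¹C, S⁻¹E)` -/
noncomputable def tensorHomEquiv :
    (Localization S ⊗[R] (C →ₗ[R] E)) ≃ₗ[Localization S]
      (LocalizedModule S C →ₗ[Localization S] LocalizedModule S E) :=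
  ((isLocalizedModule_iff_isBaseChange S (Localization S)
    (IsLocalizedModule.map S (LocalizedModule.mkLinearMap S C)
      (LocalizedModule.mkLinearMap S E))).mp inferInstance).equiv.trans
    (LinearMap.extendScalarsOfIsLocalizationEquiv S (Localization S))

end

end Groth.Agent.Lib.Helper20.CanonLoc
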