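import Mathlib
import Groth.Agent.S0299
import Groth.Agent.Lib.Helper26.Matlis
import Groth.Agent.Lib.Helper20.BassCount1
import Groth.Agent.Lib.helper11.ExtShift

/-!
# An essential extension `X` of the residue field with `Ext^1(k, X) = 0` is injective
-/

set_option autoImplicit false
set_option linter.unusedSectionVars false
set_option linter.unusedVariables false

namespace Groth.Agent.Lib.Helper20.CanonLoc

open IsLocalRing CategoryTheory Abelian Groth.Agent.Lib.Helper20.BassCount
  Groth.Agent.Lib.helper11.ExtShift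

universe u

section

variable {A : Type u} [CommRing A]

theorem isEssentialInj_comp {M X E : Type u} [AddCommGroup M] [Module A M] [AddCommGroup X]
    [Module A X] [AddCommGroup E] [Module A E] (f : M →ₗ[A] X) (j : X →ₗ[A] E)
    (hf : InjHull.IsEssentialInj f) (hj : InjHull.IsEssentialInj j) :
    InjHull.IsEssentialInj (j ∘ₗ f) := by
  refine ⟨hj.injective.comp hf.injective, ?_⟩
  intro N hN
  obtain ⟨z, ⟨hzN, x, rfl⟩, hz0⟩ := (Submodule.ne_bot_iff _).1 (hj.essential N hN)
  have hx0 : x ≠ 0 := fun h => hz0 (by rw [h, map_zero])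
  have hN' : N.comap j ≠ ⊥ := (Submodule.ne_bot_iff _).2 ⟨x, hzN, hx0⟩
  obtain ⟨x', ⟨hx'N, c, rfl⟩, hx'0⟩ := (Submodule.ne_bot_iff _).1 (hf.essential _ hN')
  apply (Submodule.ne_bot_iff _).2
  refine ⟨j (f c), ⟨hx'N, c, rfl⟩, ?_⟩
  intro h
  exact hx'0 (hj.injective (h.trans (map_zero j).symm))

variable [IsLocalRing A] [IsNoetherianRing A]

/-- a nonzero power-torsion module has a nonzero socle element -/
theorem exists_soc_ne_zero {Q : Type u} [AddCommGroup Q] [Module A Q] (q : Q) (hq : q ≠ 0)
    (n : ℕ) (hn : ∀ a ∈ maximalIdeal A ^ n, a • q = 0) :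
    ∃ y : Q, y ≠ 0 ∧ y ∈ soc A Q := by
  classical
  have hex : ∃ k : ℕ, ∀ a ∈ maximalIdeal A ^ k, a • q = 0 := ⟨n, hn⟩
  have hk := Nat.find_spec hex
  have hk0 : Nat.find hex ≠ 0 := by
    intro h0
    rw [h0, pow_zero] at hk
    exact hq (by simpa using hk 1 (by rw [Ideal.one_eq_top]; trivial))
  obtain ⟨k', hk'⟩ := Nat.exists_eq_succ_of_ne_zero hk0
  have hmin : ¬ ∀ a ∈ maximalIdeal A ^ k', a • q = 0 :=
    Nat.find_min hex (by omega)
  push Not at hmin
  obtain ⟨b, hb, hbq⟩ := hmin
  refine ⟨b • q, hbq, ?_⟩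
  intro a ha
  rw [smul_smul]
  apply hk
  rw [hk', pow_succ']
  exact Ideal.mul_mem_mul ha hb

theorem injective_of_essential_of_ext_one (X : Type u) [AddCommGroup X] [Module A X]
    (f : ResidueField A →ₗ[A] X) (hf : InjHull.IsEssentialInj f)
    (hext : Subsingleton (Ext.{u} (ModuleCat.of A (ResidueField A)) (ModuleCat.of A X) 1)) :
    Module.Injective A X := by
  classical
  obtain ⟨E₁, _, _, j, hj⟩ := Groth.Agent.S0299.result A X
  have hcomp := isEssentialInj_comp f j hf hj.toIsEssentialInj
  have htors := Groth.Agent.Lib.Helper26.Matlis.isPowerTorsion hcomp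
  have hsurj : Function.Surjective j := by
    by_contra hns
    rw [← LinearMap.range_eq_top] at hns
    obtain ⟨y, hy⟩ : ∃ y : E₁, y ∉ LinearMap.range j := by
      by_contra hcon
      push Not at hcon
      exact hns (eq_top_iff.2 (fun y _ => hcon y))
    let π := (LinearMap.range j).mkQ
    have hq : π y ≠ 0 := fun h => hy ((Submodule.Quotient.mk_eq_zero _).1 h)
    obtain ⟨n, hn⟩ := htors y
    obtain ⟨ybar, hybar0, hybar⟩ := exists_soc_ne_zero (π y) hq n (fun a ha => by
      rw [← map_smul, hn a ha, map_zero])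
    have hexact : Function.Exact j π := by
      intro z
      rw [Submodule.mkQ_apply, Submodule.Quotient.mk_eq_zero]
      rfl
    have hS := sc_shortExact j π hj.injective (Submodule.mkQ_surjective _) hexact
    let φ := ofSoc ybar hybar
    let x₃ : Ext.{u} (ModuleCat.of A (ResidueField A)) (ModuleCat.of A (E₁ ⧸ LinearMap.range j)) 0 :=
      Ext.mk₀ (ModuleCat.ofHom φ)
    have h0 : x₃.comp hS.extClass (zero_add 1) = 0 := Subsingleton.elim _ _
    obtain ⟨x₂, hx₂⟩ := Ext.covariant_sequence_exact₃ _ hS x₃ (zero_add 1) h0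
    obtain ⟨φt, rfl⟩ := (Ext.mk₀_bijective _ _).2 x₂
    rw [Ext.mk₀_comp_mk₀] at hx₂
    have hx₂' := (Ext.mk₀_bijective _ _).1 hx₂
    have hπw : π (φt.hom (1 : ResidueField A)) = ybar := by
      have := congrArg (fun g => g.hom (1 : ResidueField A)) hx₂'
      simp only [ModuleCat.hom_comp, LinearMap.comp_apply] at this
      rw [show ((ModuleCat.ofHom φ).hom (1 : ResidueField A)) = φ 1 from rfl] at this
      rw [show φ 1 = ybar from by
        change ofSoc ybar hybar (residue A 1) = ybar
        rw [ofSoc_residue, one_smul]] at this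
      exact this
    set w := φt.hom (1 : ResidueField A) with hw
    have hwsoc : ∀ a ∈ maximalIdeal A, a • w = 0 := by
      intro a ha
      rw [hw, ← map_smul]
      have : a • (1 : ResidueField A) = 0 := by
        rw [Algebra.smul_def, mul_one]
        exact (residue_eq_zero_iff a).2 ha
      rw [this, map_zero]
    have hwj : w ∈ LinearMap.range j := by
      by_cases hw0 : w = 0
      · rw [hw0]; exact Submodule.zero_mem _
      have hspan : Submodule.span A {w} ≠ ⊥ := by
        intro hbot
        apply hw0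
        have := Submodule.mem_span_singleton_self (R := A) w
        rwa [hbot, Submodule.mem_bot] at this
      obtain ⟨z, ⟨hz1, hz2⟩, hz0⟩ := (Submodule.ne_bot_iff _).1 (hj.essential _ hspan)
      obtain ⟨a, rfl⟩ := Submodule.mem_span_singleton.1 hz1
      have ha : IsUnit a := by
        by_contra hna
        exact hz0 (hwsoc a ((mem_maximalIdeal a).2 hna))
      obtain ⟨u, rfl⟩ := ha
      have := Submodule.smul_mem _ ((u⁻¹ : Aˣ) : A) hz2
      rwa [smul_smul, Units.inv_mul, one_smul] at this
    apply hybar0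
    rw [← hπw]
    exact (Submodule.Quotient.mk_eq_zero _).2 hwj
  let e : X ≃ₗ[A] E₁ := LinearEquiv.ofBijective j ⟨hj.injective, hsurj⟩
  exact Module.Baer.injective (Module.Baer.of_equiv e.symm (Module.Baer.of_injective hj.isInjective))

end

end Groth.Agent.Lib.Helper20.CanonLoc
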