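import Mathlib
import Groth.Agent.Lib.Helper20.CanonLoc2
import Groth.Agent.Lib.Helper20.BassRes3
import Groth.Agent.Lib.Helper20.BassCount7
import Groth.Agent.S11664

/-!
# The localization of `*E(R/m)` at `m` is an injective hull of the residue field of `R_m`
-/

set_option autoImplicit false
set_option linter.unusedSectionVars false
set_option linter.unusedVariables false

namespace Groth.Agent.Lib.Helper20.CanonLoc

open IsLocalRing CategoryTheory Abelian Groth.Agent.Lib.Helper20.BassCount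
  Groth.Agent.Lib.Helper20.GrKit DirectSum Groth.Agent.Lib.Helper26.GrProj

universe u

section

variable {ι : Type} [AddCommGroup ι] [DecidableEq ι] [Module.Free ℤ ι] [Module.Finite ℤ ι]
  {R : Type u} [CommRing R] [IsNoetherianRing R] (𝒜 : ι → AddSubgroup R) [GradedRing 𝒜]
  (m : HomogeneousIdeal 𝒜) [m.toIdeal.IsPrime]
  {E' : Type u} [AddCommGroup E'] [Module R E'] (𝓔 : ι → AddSubgroup E')
  [DirectSum.Decomposition 𝓔] [SetLike.GradedSMul 𝒜 𝓔]
  (e : (R ⧸ m.toIdeal) →ₗ[R] E') (he : GrLC.IsStarInjHull 𝒜 (GrLC.quotGr 𝒜 m) 𝓔 e)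

include he in
theorem isEssentialInj_of_isStarInjHull : InjHull.IsEssentialInj e := by
  have hPh : ∀ g x, x ∈ m.toIdeal → proj 𝒜 g x ∈ m.toIdeal := fun g x hx => m.isHomogeneous g hx
  let decQ : DirectSum.Decomposition (quoGr 𝒜 m.toIdeal) := quoDecomposition 𝒜 m.toIdeal hPh
  have hstar : GrLC.IsStarEss (quoGr 𝒜 m.toIdeal) 𝓔 e := by
    have := he.toIsStarEss
    rw [quotGr_eq_quoGr] at this
    exact this
  exact Groth.Agent.S13211.result R 𝒜 (R ⧸ m.toIdeal) (quoGr 𝒜 m.toIdeal) E' 𝓔 e hstar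

include he in
theorem exists_hull_localized :
    ∃ f₁ : ResidueField (Localization.AtPrime m.toIdeal) →ₗ[Localization.AtPrime m.toIdeal]
      LocalizedModule m.toIdeal.primeCompl E', InjHull.IsInjectiveHull f₁ := by
  have hess := isEssentialInj_of_isStarInjHull 𝒜 m 𝓔 e he
  let ι₀ : ResidueField (Localization.AtPrime m.toIdeal) ≃ₗ[Localization.AtPrime m.toIdeal]
      LocalizedModule m.toIdeal.primeCompl (R ⧸ m.toIdeal) :=
    (tensorQuotEquivResidue m.toIdeal).symm.trans
      (LocalizedModule.equivTensorProduct m.toIdeal.primeCompl (R ⧸ m.toIdeal)).symm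
  let f₁ : ResidueField (Localization.AtPrime m.toIdeal) →ₗ[Localization.AtPrime m.toIdeal]
      LocalizedModule m.toIdeal.primeCompl E' :=
    (LocalizedModule.map m.toIdeal.primeCompl e) ∘ₗ ι₀.toLinearMap
  have hf₁inj : Function.Injective f₁ :=
    (LocalizedModule.map_injective m.toIdeal.primeCompl e hess.injective).comp ι₀.injective
  have hf₁ess : InjHull.IsEssentialInj f₁ := by
    refine ⟨hf₁inj, ?_⟩
    intro N hN
    have h1 := Groth.Agent.S11664.result R m.toIdeal.primeCompl E' (LinearMap.range e)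
      hess.essential N hN
    obtain ⟨z, ⟨hzN, hzloc⟩, hz0⟩ := (Submodule.ne_bot_iff _).1 h1
    apply (Submodule.ne_bot_iff _).2
    refine ⟨z, ⟨hzN, ?_⟩, hz0⟩
    obtain ⟨y, ⟨x₀, rfl⟩, s, hms⟩ := hzloc
    refine ⟨ι₀.symm (LocalizedModule.mk x₀ s), ?_⟩
    change LocalizedModule.map m.toIdeal.primeCompl e (ι₀ (ι₀.symm (LocalizedModule.mk x₀ s))) = z
    rw [LinearEquiv.apply_symm_apply, ← hms, ← IsLocalizedModule.mk_eq_mk']
    exact LocalizedModule.map_mk m.toIdeal.primeCompl e x₀ s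
  have hext := ext_residue_localized_subsingleton 𝒜 𝓔 he.starInj m 0
  exact ⟨f₁, ⟨hf₁ess, injective_of_essential_of_ext_one _ f₁ hf₁ess hext⟩⟩

end

end Groth.Agent.Lib.Helper20.CanonLoc
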