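import Mathlib
import Groth.Agent.Lib.Helper20.CanonLoc1
import Groth.Agent.Lib.Helper20.CanonLoc3
import Groth.Agent.Lib.Helper20.GrKit5
import Groth.Agent.Lib.Helper2.LCBaseExt
import Groth.Agent.S0302

/-!
# The localization of a *canonical module at the *maximal ideal is canonical
-/

set_option autoImplicit false
set_option linter.unusedSectionVars false
set_option linter.unusedVariables false

namespace Groth.Agent.Lib.Helper20.CanonLoc

open IsLocalRing CategoryTheory Abelian TensorProduct Groth.Agent.Lib.Helper20.GrKit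

universe u

section

variable {R : Type u} [CommRing R] [IsNoetherianRing R]

theorem nonempty_tensor_H_equiv (p : Ideal R) [p.IsPrime] (n : ℕ) :
    Nonempty ((Localization.AtPrime p ⊗[R] LocCoh.H p n R) ≃ₗ[Localization.AtPrime p]
      LocCoh.H (maximalIdeal (Localization.AtPrime p)) n (Localization.AtPrime p)) := by
  haveI : IsNoetherianRing (Localization.AtPrime p) :=
    IsLocalization.isNoetherianRing p.primeCompl (Localization.AtPrime p) inferInstance
  haveI : Module.Flat R (Localization.AtPrime p) :=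
    IsLocalization.flat (Localization.AtPrime p) p.primeCompl
  obtain ⟨e1⟩ := Groth.Agent.Lib.Helper2.LCBaseExt.H_ext_equiv (R' := Localization.AtPrime p) p R n
  have hmap : Ideal.map (algebraMap R (Localization.AtPrime p)) p =
      maximalIdeal (Localization.AtPrime p) := Localization.AtPrime.map_eq_maximalIdeal
  rw [hmap] at e1
  let e : (Localization.AtPrime p) ⊗[R] R ≃ₗ[Localization.AtPrime p] Localization.AtPrime p :=
    TensorProduct.AlgebraTensorModule.rid R (Localization.AtPrime p) (Localization.AtPrime p)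
  let e' := ((localCohomology (maximalIdeal (Localization.AtPrime p)) n).mapIso
    e.toModuleIso).toLinearEquiv
  exact ⟨e1.trans e'⟩

end

section

variable {ι : Type} [AddCommGroup ι] [DecidableEq ι] [Module.Free ℤ ι] [Module.Finite ℤ ι]
  {R : Type u} [CommRing R] [IsNoetherianRing R] (𝒜 : ι → AddSubgroup R) [GradedRing 𝒜]
  (m : HomogeneousIdeal 𝒜) [m.toIdeal.IsPrime]
  {E' : Type u} [AddCommGroup E'] [Module R E'] (𝓔 : ι → AddSubgroup E')
  [DirectSum.Decomposition 𝓔] [SetLike.GradedSMul 𝒜 𝓔]
  (e : (R ⧸ m.toIdeal) →ₗ[R] E') (he : GrLC.IsStarInjHull 𝒜 (GrLC.quotGr 𝒜 m) 𝓔 e)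

include he in
theorem main (n : ℕ) (I : GrLC.StarInjRes 𝒜 𝒜)
    (C : Type u) [AddCommGroup C] [Module R C] [Module.Finite R C]
    (φ : (C →ₗ[R] E') ≃ₗ[R] I.H m n)
    (E₀ : Type u) [AddCommGroup E₀] [Module (Localization.AtPrime m.toIdeal) E₀]
    (f : ResidueField (Localization.AtPrime m.toIdeal) →ₗ[Localization.AtPrime m.toIdeal] E₀)
    (hf : InjHull.IsInjectiveHull f) :
    Nonempty ((LocalizedModule m.toIdeal.primeCompl C →ₗ[Localization.AtPrime m.toIdeal] E₀)
      ≃ₗ[Localization.AtPrime m.toIdeal]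
      LocCoh.H (maximalIdeal (Localization.AtPrime m.toIdeal)) n
        (Localization.AtPrime m.toIdeal)) := by
  haveI : Module.FinitePresentation R C := Module.finitePresentation_of_finite R C
  obtain ⟨β⟩ := bridge_starInjRes I m n
  let κ : (C →ₗ[R] E') ≃ₗ[R] LocCoh.H m.toIdeal n R := φ.trans β
  let et : (Localization.AtPrime m.toIdeal ⊗[R] (C →ₗ[R] E')) ≃ₗ[Localization.AtPrime m.toIdeal]
      (Localization.AtPrime m.toIdeal ⊗[R] LocCoh.H m.toIdeal n R) :=
    TensorProduct.AlgebraTensorModule.congr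
      (LinearEquiv.refl (Localization.AtPrime m.toIdeal) (Localization.AtPrime m.toIdeal)) κ
  obtain ⟨e2⟩ := nonempty_tensor_H_equiv m.toIdeal n
  obtain ⟨f₁, hf₁⟩ := exists_hull_localized 𝒜 m 𝓔 e he
  obtain ⟨ε, -⟩ := Groth.Agent.S0302.result (Localization.AtPrime m.toIdeal)
    (ResidueField (Localization.AtPrime m.toIdeal)) (LocalizedModule m.toIdeal.primeCompl E') E₀
    f₁ hf₁ f hf
  let e3 : (LocalizedModule m.toIdeal.primeCompl C →ₗ[Localization.AtPrime m.toIdeal] E₀)
      ≃ₗ[Localization.AtPrime m.toIdeal]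
      (LocalizedModule m.toIdeal.primeCompl C →ₗ[Localization.AtPrime m.toIdeal]
        LocalizedModule m.toIdeal.primeCompl E') :=
    (LinearEquiv.congrRight ε).symm
  exact ⟨e3.trans ((tensorHomEquiv m.toIdeal.primeCompl C E').symm.trans (et.trans e2))⟩

end

end Groth.Agent.Lib.Helper20.CanonLoc
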