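import Mathlib
import Groth.Agent.S7703
import Groth.Agent.S0299
import Groth.Agent.Lib.helper11.CanonUnique

/-!
# Homomorphisms between two canonical modules of a Cohen–Macaulay local ring
-/

set_option autoImplicit false
set_option linter.unusedSectionVars false
set_option linter.unusedVariables false

namespace Groth.Agent.Lib.Helper20.CanonShift

open IsLocalRing

universe u

theorem exists_equiv_generating (A : Type u) [CommRing A] [LocCoh.IsCohenMacaulayLocalRing A]
    (n : ℕ) (hn : ringKrullDim A = n) (E : Type u) [AddCommGroup E] [Module A E]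
    (f : ResidueField A →ₗ[A] E) (hf : InjHull.IsInjectiveHull f)
    (K K' : Type u) [AddCommGroup K] [Module A K] [Module.Finite A K]
    [AddCommGroup K'] [Module A K'] [Module.Finite A K']
    (eK : (K →ₗ[A] E) ≃ₗ[A] LocCoh.H (maximalIdeal A) n A)
    (eK' : (K' →ₗ[A] E) ≃ₗ[A] LocCoh.H (maximalIdeal A) n A) :
    ∃ ψ₀ : K ≃ₗ[A] K', (∀ χ : K →ₗ[A] K', ∃ a : A, χ = a • ψ₀.toLinearMap) ∧
      (∀ a : A, a • ψ₀.toLinearMap = 0 → a = 0) := by
  obtain ⟨ψ₀⟩ := Groth.Agent.Lib.helper11.CanonUnique.nonempty_equiv_of_dual_equiv hf K K'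
    (eK.trans eK'.symm)
  have hbij := Groth.Agent.S7703.result A n hn E f hf K eK
  refine ⟨ψ₀, ?_, ?_⟩
  · intro χ
    obtain ⟨a, ha⟩ := hbij.2 (ψ₀.symm.toLinearMap ∘ₗ χ)
    refine ⟨a, ?_⟩
    apply LinearMap.ext
    intro x
    have h1 := LinearMap.congr_fun ha x
    simp only [LinearMap.smul_apply, LinearMap.id_apply, LinearMap.comp_apply,
      LinearEquiv.coe_coe] at h1
    rw [LinearMap.smul_apply, LinearEquiv.coe_coe, ← map_smul, h1, LinearEquiv.apply_symm_apply]
  · intro a ha
    apply hbij.1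
    change a • (LinearMap.id : K →ₗ[A] K) = (0 : A) • LinearMap.id
    rw [zero_smul]
    apply LinearMap.ext
    intro x
    have h1 := LinearMap.congr_fun ha x
    simp only [LinearMap.smul_apply, LinearEquiv.coe_coe, LinearMap.zero_apply] at h1
    rw [LinearMap.smul_apply, LinearMap.id_apply, LinearMap.zero_apply]
    apply ψ₀.injective
    rw [map_smul, h1, map_zero]

end Groth.Agent.Lib.Helper20.CanonShift
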