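import Mathlib
import Groth.Agent.Lib.Helper20.CanonShift1
import Groth.Agent.Lib.Helper20.GrKit7

/-!
# A homomorphism that generates `Hom(C_m, C'_m)` has a homogeneous component which is an isomorphism
-/

set_option autoImplicit false
set_option linter.unusedSectionVars false
set_option linter.unusedVariables false

namespace Groth.Agent.Lib.Helper20.CanonShift

open Groth.Agent.Lib.Helper20.GrKit DirectSum Groth.Agent.Lib.Helper26.GrProj IsLocalRing

universe u

section

variable {ι : Type} [AddCommGroup ι] [DecidableEq ι] {R : Type u} [CommRing R] [IsNoetherianRing R]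
  (𝒜 : ι → AddSubgroup R) [GradedRing 𝒜]
  (m : HomogeneousIdeal 𝒜) (hm : GrLC.IsStarLocal 𝒜 m) [m.toIdeal.IsPrime]
  {C : Type u} [AddCommGroup C] [Module R C] (𝒞 : ι → AddSubgroup C)
  [DirectSum.Decomposition 𝒞] [SetLike.GradedSMul 𝒜 𝒞]
  {C' : Type u} [AddCommGroup C'] [Module R C'] (𝒞' : ι → AddSubgroup C')
  [DirectSum.Decomposition 𝒞'] [SetLike.GradedSMul 𝒜 𝒞']

theorem isGrHom_shift_of_isGrHomDeg (θ : C →ₗ[R] C') (d : ι) (hθ : GrLC.IsGrHomDeg 𝒞 𝒞' θ d) :
    GrLC.IsGrHom 𝒞 (shiftGr 𝒞' (-d)) θ := by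
  intro h x hx
  have := hθ h x hx
  change θ x ∈ 𝒞' (h - -d)
  rwa [sub_neg_eq_add]

include hm in
/-- a homogeneous map which is injective at the *maximal ideal is injective -/
theorem injective_of_localized (θ : C →ₗ[R] C') (d : ι) (hθ : GrLC.IsGrHomDeg 𝒞 𝒞' θ d)
    (hinj : Function.Injective (LocalizedModule.map m.toIdeal.primeCompl θ)) :
    Function.Injective θ := by
  have hθ' := isGrHom_shift_of_isGrHomDeg 𝒞 𝒞' θ d hθ
  rw [← LinearMap.ker_eq_bot, LinearMap.ker_eq_bot']
  intro x hx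
  have hcomp : ∀ h, proj 𝒞 h x = 0 := by
    intro h
    have hk : proj 𝒞 h x ∈ LinearMap.ker θ :=
      ker_proj_stable (ℳ := 𝒞) (𝒩 := shiftGr 𝒞' (-d)) (f := θ) hθ' h x hx
    have h0 : (LocalizedModule.mk (proj 𝒞 h x) 1 : LocalizedModule m.toIdeal.primeCompl C) = 0 := by
      apply hinj
      rw [LocalizedModule.map_mk, map_zero, hk]
      exact LocalizedModule.zero_mk 1
    rw [← LocalizedModule.zero_mk (1 : m.toIdeal.primeCompl), LocalizedModule.mk_eq] at h0
    obtain ⟨u, hu⟩ := h0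
    rw [smul_zero, smul_zero, one_smul] at hu
    exact eq_zero_of_smul_eq_zero 𝒜 m hm 𝒞 (proj_mem 𝒞 h x) u u.2 hu
  rw [← sum_proj 𝒞 x]
  exact Finset.sum_eq_zero (fun h _ => hcomp h)

include hm in
/-- a homogeneous map which is surjective at the *maximal ideal is surjective -/
theorem surjective_of_localized (θ : C →ₗ[R] C') (d : ι) (hθ : GrLC.IsGrHomDeg 𝒞 𝒞' θ d)
    (hsurj : Function.Surjective (LocalizedModule.map m.toIdeal.primeCompl θ)) :
    Function.Surjective θ := by
  have hθ' := isGrHom_shift_of_isGrHomDeg 𝒞 𝒞' θ d hθ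
  have hQ : ∀ k y, y ∈ LinearMap.range θ → proj 𝒞' k y ∈ LinearMap.range θ := by
    intro k y hy
    have := range_proj_stable 𝒞 (shiftGr 𝒞' (-d)) θ hθ' (k - d) y hy
    rw [proj_shiftGr] at this
    have hk : k - d - -d = k := by abel
    rwa [hk] at this
  let decQ : DirectSum.Decomposition (quoGr 𝒞' (LinearMap.range θ)) :=
    quoDecomposition 𝒞' (LinearMap.range θ) hQ
  have hhom : ∀ k y, y ∈ 𝒞' k → y ∈ LinearMap.range θ := by
    intro k y hy
    obtain ⟨z, hz⟩ := hsurj (LocalizedModule.mk y 1)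
    induction z using LocalizedModule.induction_on with
    | h x t =>
      rw [LocalizedModule.map_mk, LocalizedModule.mk_eq] at hz
      obtain ⟨u, hu⟩ := hz
      rw [one_smul] at hu
      have hmem : ((u : R) * (t : R)) • y ∈ LinearMap.range θ := by
        rw [mul_smul]
        refine ⟨(u : R) • x, ?_⟩
        rw [map_smul]
        exact hu
      have hq : (LinearMap.range θ).mkQ y ∈ quoGr 𝒞' (LinearMap.range θ) k := mkQ_mem_quoGr 𝒞' hy
      have h0 := eq_zero_of_smul_eq_zero 𝒜 m hm (quoGr 𝒞' (LinearMap.range θ)) hq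
        ((u : R) * (t : R))
        (fun h => ((inferInstance : m.toIdeal.IsPrime).mem_or_mem h).elim u.2 t.2)
        (by rw [← map_smul]; exact (Submodule.Quotient.mk_eq_zero _).2 hmem)
      exact (Submodule.Quotient.mk_eq_zero _).1 h0
  intro y
  have : y ∈ LinearMap.range θ := by
    rw [← sum_proj 𝒞' y]
    exact Submodule.sum_mem _ (fun k _ => hhom k _ (proj_mem 𝒞' k y))
  exact this

end

end Groth.Agent.Lib.Helper20.CanonShift
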