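import Mathlib
import Groth.Agent.Lib.Helper20.CanonShift2
import Groth.Agent.Lib.Helper20.CanonShift3

/-!
# Two pointwise canonical graded modules over a *local CM ring differ by a shift
-/

set_option autoImplicit false
set_option linter.unusedSectionVars false
set_option linter.unusedVariables false

namespace Groth.Agent.Lib.Helper20.CanonShift

open Groth.Agent.Lib.Helper20.GrKit DirectSum Groth.Agent.Lib.Helper26.GrProj IsLocalRing

universe u

section

variable {ι : Type} [AddCommGroup ι] [DecidableEq ι] {R : Type u} [CommRing R] [IsNoetherianRing R]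
  (𝒜 : ι → AddSubgroup R) [GradedRing 𝒜]
  (m : HomogeneousIdeal 𝒜) (hm : GrLC.IsStarLocal 𝒜 m) [m.toIdeal.IsPrime]
  {C : Type u} [AddCommGroup C] [Module R C] (𝒞 : ι → AddSubgroup C)
  [DirectSum.Decomposition 𝒞] [SetLike.GradedSMul 𝒜 𝒞] [Module.Finite R C]
  {C' : Type u} [AddCommGroup C'] [Module R C'] (𝒞' : ι → AddSubgroup C')
  [DirectSum.Decomposition 𝒞'] [SetLike.GradedSMul 𝒜 𝒞']

local notation "A" => Localization.AtPrime m.toIdeal
local notation "S" => m.toIdeal.primeCompl

theorem mk_eq_smul_mk_one {N : Type u} [AddCommGroup N] [Module R N] (x : N) (t : S) :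
    (LocalizedModule.mk x t : LocalizedModule S N) =
      (Localization.mk 1 t : A) • (LocalizedModule.mk x 1 : LocalizedModule S N) := by
  rw [LocalizedModule.mk_smul_mk, one_smul, mul_one]

include hm in
theorem exists_graded_equiv
    (ψ₀ : LocalizedModule S C ≃ₗ[A] LocalizedModule S C')
    (H1 : ∀ χ : LocalizedModule S C →ₗ[A] LocalizedModule S C', ∃ a : A, χ = a • ψ₀.toLinearMap)
    (H2 : ∀ a : A, a • ψ₀.toLinearMap = 0 → a = 0) :
    ∃ (g : ι) (φ : C ≃ₗ[R] C'), GrLC.IsGrHomDeg 𝒞 𝒞' φ.toLinearMap g := by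
  classical
  haveI : Module.FinitePresentation R C := Module.finitePresentation_of_finite R C
  -- lift `ψ₀`
  let g₀ : C →ₗ[R] LocalizedModule S C' :=
    (ψ₀.toLinearMap.restrictScalars R) ∘ₗ LocalizedModule.mkLinearMap S C
  obtain ⟨φ, s, hφ⟩ := Module.FinitePresentation.exists_lift_of_isLocalizedModule S
    (LocalizedModule.mkLinearMap S C') g₀
  have hφx : ∀ x : C, (LocalizedModule.mk (φ x) 1 : LocalizedModule S C') =
      (algebraMap R A s) • ψ₀ (LocalizedModule.mk x 1) := by
    intro x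
    have h1 := LinearMap.congr_fun hφ x
    simp only [LinearMap.comp_apply, LocalizedModule.mkLinearMap_apply, LinearMap.smul_apply,
      g₀, LinearMap.restrictScalars_apply, LinearEquiv.coe_coe] at h1
    rw [h1, algebraMap_smul]
    rfl
  have hmapφ : LocalizedModule.map S φ = (algebraMap R A s) • ψ₀.toLinearMap := by
    apply LinearMap.ext
    intro y
    induction y using LocalizedModule.induction_on with
    | h x t =>
      rw [mk_eq_smul_mk_one 𝒜 m x t, map_smul, map_smul, LocalizedModule.map_mk, hφx,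
        LinearMap.smul_apply, LinearEquiv.coe_coe]
  -- homogeneous components
  obtain ⟨T, hT⟩ := exists_finset_homComp 𝒜 𝒞 𝒞' (Module.finite_def.1 inferInstance) φ
  have hχ : ∀ d : ι, ∃ a : A, LocalizedModule.map S (homComp 𝒜 𝒞 𝒞' φ d) = a • ψ₀.toLinearMap :=
    fun d => H1 _
  choose a ha using hχ
  have hsum : ∑ d ∈ T, a d = algebraMap R A s := by
    have hEq : ∀ y, (∑ d ∈ T, a d) • ψ₀ y = (algebraMap R A s) • ψ₀ y := by
      intro y
      have h1 : LocalizedModule.map S φ y = (algebraMap R A s) • ψ₀ y := by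
        rw [hmapφ]
        rfl
      rw [← h1]
      conv_rhs => rw [hT]
      rw [map_sum, LinearMap.sum_apply, Finset.sum_smul]
      apply Finset.sum_congr rfl
      intro d _
      rw [ha d]
      rfl
    have h0 : (∑ d ∈ T, a d - algebraMap R A s) • ψ₀.toLinearMap = 0 := by
      apply LinearMap.ext
      intro y
      rw [LinearMap.smul_apply, LinearEquiv.coe_coe, sub_smul, hEq y, sub_self]
      rfl
    exact sub_eq_zero.1 (H2 _ h0)
  have hunit : IsUnit (algebraMap R A s) := IsLocalization.map_units A s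
  obtain ⟨d, hdT, hd⟩ : ∃ d ∈ T, IsUnit (a d) := by
    by_contra hcon
    push Not at hcon
    have hmem : ∑ d ∈ T, a d ∈ maximalIdeal A :=
      Ideal.sum_mem _ (fun d hd => (mem_maximalIdeal _).2 (hcon d hd))
    rw [hsum] at hmem
    exact (mem_maximalIdeal _).1 hmem hunit
  have hθdeg := homComp_isGrHomDeg 𝒜 𝒞 𝒞' φ d
  have hbij : Function.Bijective (LocalizedModule.map S (homComp 𝒜 𝒞 𝒞' φ d)) := by
    rw [ha d]
    obtain ⟨u, hu⟩ := hd
    constructor
    · intro x y hxy
      simp only [LinearMap.smul_apply, LinearEquiv.coe_coe] at hxy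
      apply ψ₀.injective
      have := congrArg (fun z => ((u⁻¹ : Aˣ) : A) • z) hxy
      simpa [← hu, smul_smul] using this
    · intro y
      refine ⟨ψ₀.symm (((u⁻¹ : Aˣ) : A) • y), ?_⟩
      simp [← hu, smul_smul]
  have hinj := injective_of_localized 𝒜 m hm 𝒞 𝒞' _ d hθdeg hbij.1
  have hsurj := surjective_of_localized 𝒜 m hm 𝒞 𝒞' _ d hθdeg hbij.2
  exact ⟨d, LinearEquiv.ofBijective _ ⟨hinj, hsurj⟩, hθdeg⟩

end

end Groth.Agent.Lib.Helper20.CanonShift
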