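import Mathlib
import Groth.Prelude.Def_Wider

/-!
# A map between two injective hulls of the residue field which does not kill the socle is bijective
-/

set_option autoImplicit false
set_option linter.unusedSectionVars false
set_option linter.unusedVariables false
set_option linter.style.haveILetI false

namespace Groth.Agent.Lib.Helper20.GorTop

open IsLocalRing

universe u

variable {A : Type u} [CommRing A] [IsLocalRing A]
  {X : Type u} [AddCommGroup X] [Module A X] {Y : Type u} [AddCommGroup Y] [Module A Y]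

/-- every element of the residue field is a multiple of `1` -/
theorem residue_eq_smul_one (c : ResidueField A) : ∃ a : A, c = a • (1 : ResidueField A) := by
  obtain ⟨a, rfl⟩ := IsLocalRing.residue_surjective c
  refine ⟨a, ?_⟩
  rw [Algebra.smul_def, mul_one]
  rfl

theorem smul_one_eq_zero_iff (a : A) : a • (1 : ResidueField A) = 0 ↔ a ∈ maximalIdeal A := by
  rw [Algebra.smul_def, mul_one]
  exact IsLocalRing.residue_eq_zero_iff a

/-- a submodule meeting the range of `g₀ : k → X` nontrivially contains `g₀ 1` -/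
theorem mem_of_inf_range_ne_bot (g₀ : ResidueField A →ₗ[A] X) (P : Submodule A X)
    (h : P ⊓ LinearMap.range g₀ ≠ ⊥) : g₀ 1 ∈ P := by
  obtain ⟨y, hy, hy0⟩ := Submodule.exists_mem_ne_zero_of_ne_bot h
  obtain ⟨hyP, c, rfl⟩ := hy
  obtain ⟨a, rfl⟩ := residue_eq_smul_one c
  have ha : a ∉ maximalIdeal A := by
    intro ha
    apply hy0
    rw [(smul_one_eq_zero_iff a).2 ha, map_zero]
  have hu : IsUnit a := by
    by_contra hnu
    exact ha ((IsLocalRing.mem_maximalIdeal a).2 hnu)
  obtain ⟨u, rfl⟩ := hu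
  rw [map_smul] at hyP
  have := P.smul_mem (↑u⁻¹ : A) hyP
  rwa [smul_smul, Units.inv_mul, one_smul] at this

theorem smul_map_one_eq_zero (g₀ : ResidueField A →ₗ[A] X) (a : A) (ha : a ∈ maximalIdeal A) :
    a • g₀ 1 = 0 := by
  rw [← map_smul, (smul_one_eq_zero_iff a).2 ha, map_zero]

/-- a map of injective hulls of `k` not killing the socle is bijective -/
theorem bijective_of_hulls (g₀ : ResidueField A →ₗ[A] X) (hg : InjHull.IsInjectiveHull g₀)
    (f₁ : ResidueField A →ₗ[A] Y) (hf : InjHull.IsInjectiveHull f₁)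
    (Ψ : X →ₗ[A] Y) (hΨ : Ψ (g₀ 1) ≠ 0) : Function.Bijective Ψ := by
  have hinj : Function.Injective Ψ := by
    rw [← LinearMap.ker_eq_bot]
    by_contra hne
    exact hΨ (mem_of_inf_range_ne_bot g₀ _ (hg.essential _ hne))
  haveI := hg.isInjective
  obtain ⟨ρ, hρ⟩ := Module.Injective.extension_property A X X Y Ψ hinj LinearMap.id
  have hρΨ : ∀ x, ρ (Ψ x) = x := fun x => by
    have := congrArg (fun l => l x) hρ
    simpa using this
  -- `Ψ (g₀ 1)` lies in the range of `f₁`
  have hy0 : (A ∙ Ψ (g₀ 1)) ≠ ⊥ := by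
    intro h
    apply hΨ
    have : Ψ (g₀ 1) ∈ (A ∙ Ψ (g₀ 1)) := Submodule.mem_span_singleton_self _
    rwa [h, Submodule.mem_bot] at this
  have hf1 : f₁ 1 ∈ (A ∙ Ψ (g₀ 1)) := mem_of_inf_range_ne_bot f₁ _ (hf.essential _ hy0)
  obtain ⟨b, hb⟩ := Submodule.mem_span_singleton.1 hf1
  have hρinj : Function.Injective ρ := by
    rw [← LinearMap.ker_eq_bot]
    by_contra hne
    have h1 : f₁ 1 ∈ LinearMap.ker ρ := mem_of_inf_range_ne_bot f₁ _ (hf.essential _ hne)
    rw [LinearMap.mem_ker, ← hb, map_smul, hρΨ] at h1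
    have h2 : f₁ 1 = 0 := by
      rw [← hb, ← map_smul, h1, map_zero]
    have h3 : (1 : ResidueField A) = 0 := hf.injective (by rw [h2, map_zero])
    exact one_ne_zero h3
  refine ⟨hinj, ?_⟩
  intro y
  refine ⟨ρ y, ?_⟩
  apply hρinj
  rw [hρΨ]

/-- variant: it suffices that `Ψ` does not kill some socle element -/
theorem bijective_of_hulls' (g₀ : ResidueField A →ₗ[A] X) (hg : InjHull.IsInjectiveHull g₀)
    (f₁ : ResidueField A →ₗ[A] Y) (hf : InjHull.IsInjectiveHull f₁)
    (Ψ : X →ₗ[A] Y) (w : X) (hw : ∀ a ∈ maximalIdeal A, a • w = 0) (hΨw : Ψ w ≠ 0) :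
    Function.Bijective Ψ := by
  apply bijective_of_hulls g₀ hg f₁ hf Ψ
  have hw0 : (A ∙ w) ≠ ⊥ := by
    intro h
    apply hΨw
    have : w ∈ (A ∙ w) := Submodule.mem_span_singleton_self _
    rw [h, Submodule.mem_bot] at this
    rw [this, map_zero]
  have h1 : g₀ 1 ∈ (A ∙ w) := mem_of_inf_range_ne_bot g₀ _ (hg.essential _ hw0)
  obtain ⟨b, hb⟩ := Submodule.mem_span_singleton.1 h1
  have hg1 : g₀ 1 ≠ 0 := fun h => one_ne_zero (hg.injective (by rw [h, map_zero]))
  have hbu : IsUnit b := by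
    by_contra hnu
    apply hg1
    rw [← hb, hw b ((IsLocalRing.mem_maximalIdeal b).2 hnu)]
  obtain ⟨u, rfl⟩ := hbu
  rw [← hb, map_smul]
  intro h0
  apply hΨw
  have := congrArg (fun y => (↑u⁻¹ : A) • y) h0
  simpa [smul_smul] using this

end Groth.Agent.Lib.Helper20.GorTop
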