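import Mathlib
import Groth.Agent.Lib.Helper20.GorTop1
import Groth.Agent.Lib.Helper20.CanonShift4
import Groth.Agent.Lib.Helper20.CanonLoc3

/-!
# Socle elements of a graded module whose localization at the *maximal ideal has a socle
-/

set_option autoImplicit false
set_option linter.unusedSectionVars false
set_option linter.unusedVariables false
set_option linter.style.haveILetI false

namespace Groth.Agent.Lib.Helper20.GorTop

open IsLocalRing Groth.Agent.Lib.Helper20.GrKit DirectSum Groth.Agent.Lib.Helper26.GrProj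
  Groth.Agent.Lib.Helper20.CanonShift

universe u

section

variable {ι : Type} [AddCommGroup ι] [DecidableEq ι]
  {R : Type u} [CommRing R] [IsNoetherianRing R] (𝒜 : ι → AddSubgroup R) [GradedRing 𝒜]
  (m : HomogeneousIdeal 𝒜) (hm : GrLC.IsStarLocal 𝒜 m) [m.toIdeal.IsPrime]
  {N : Type u} [AddCommGroup N] [Module R N] (𝒩 : ι → AddSubgroup N)
  [DirectSum.Decomposition 𝒩] [SetLike.GradedSMul 𝒜 𝒩]

local notation "A" => Localization.AtPrime m.toIdeal
local notation "S" => m.toIdeal.primeCompl

theorem algebraMap_mem_maximalIdeal (a : R) (ha : a ∈ m.toIdeal) :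
    algebraMap R A a ∈ maximalIdeal A := by
  rw [← Localization.AtPrime.map_eq_maximalIdeal]
  exact Ideal.mem_map_of_mem _ ha

/-- a homogeneous component of an element killed by `m` is killed by `m` -/
theorem smul_proj_eq_zero (z : N) (hz : ∀ a ∈ m.toIdeal, a • z = 0) (h : ι) (a : R)
    (ha : a ∈ m.toIdeal) : a • proj 𝒩 h z = 0 := by
  classical
  have hasum : a = ∑ k ∈ (DirectSum.decompose 𝒜 a).support, (DirectSum.decompose 𝒜 a k : R) :=
    (DirectSum.sum_support_decompose 𝒜 a).symm
  rw [hasum, Finset.sum_smul]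
  refine Finset.sum_eq_zero fun k _ => ?_
  have hk : (DirectSum.decompose 𝒜 a k : R) ∈ m.toIdeal := m.isHomogeneous k ha
  have := proj_smul_of_mem 𝒜 𝒩 (DirectSum.decompose 𝒜 a k).2 (h + k) z
  rw [add_sub_cancel_right] at this
  rw [← this, hz _ hk, proj_zero]

theorem exists_socle_element
    (g₀ : ResidueField A →ₗ[A] LocalizedModule S N) (hg : Function.Injective g₀) :
    ∃ (h : ι) (x : N), x ∈ 𝒩 h ∧ x ≠ 0 ∧ ∀ a ∈ m.toIdeal, a • x = 0 := by
  classical
  have hy0 : g₀ 1 ≠ 0 := fun h => one_ne_zero (hg (by rw [h, map_zero]))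
  have hykill : ∀ a ∈ m.toIdeal, (a : R) • g₀ 1 = 0 := by
    intro a ha
    rw [← algebraMap_smul A a (g₀ 1)]
    exact smul_map_one_eq_zero g₀ _ (algebraMap_mem_maximalIdeal 𝒜 m a ha)
  obtain ⟨z, s, hzs⟩ : ∃ (z : N) (s : S), g₀ 1 = LocalizedModule.mk z s := by
    induction (g₀ 1) using LocalizedModule.induction_on with
    | h z s => exact ⟨z, s, rfl⟩
  have hw : (LocalizedModule.mk z 1 : LocalizedModule S N) = (s : R) • g₀ 1 := by
    rw [hzs, LocalizedModule.smul'_mk, ← LocalizedModule.mk_cancel s z]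
    rfl
  have hw0 : (LocalizedModule.mk z 1 : LocalizedModule S N) ≠ 0 := by
    intro h
    apply hy0
    rw [hzs, mk_eq_smul_mk_one, h, smul_zero]
  have hwkill : ∀ a ∈ m.toIdeal, ∃ u : S, u • (a • z) = 0 := by
    intro a ha
    have h1 : (LocalizedModule.mk (a • z) 1 : LocalizedModule S N) = 0 := by
      rw [← LocalizedModule.smul'_mk, hw, smul_comm, hykill a ha, smul_zero]
    apply (IsLocalizedModule.eq_zero_iff S (LocalizedModule.mkLinearMap S N)).1
    rw [LocalizedModule.mkLinearMap_apply]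
    exact h1
  obtain ⟨T, hT⟩ := (IsNoetherian.noetherian m.toIdeal : m.toIdeal.FG)
  choose! u hu using hwkill
  let U : R := ∏ t ∈ T, ((u t : S) : R)
  have hUS : U ∈ S := by
    have : U = ((∏ t ∈ T, u t : S) : R) := by
      rw [Submonoid.coe_finset_prod]
    rw [this]
    exact (∏ t ∈ T, u t : S).2
  have hTkill : ∀ t ∈ T, t • (U • z) = 0 := by
    intro t ht
    have htm : t ∈ m.toIdeal := by
      rw [← hT]
      exact Ideal.subset_span ht
    have h1 : U = (∏ t' ∈ T.erase t, ((u t' : S) : R)) * ((u t : S) : R) := by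
      rw [Finset.prod_erase_mul T _ ht]
    have h2 : ((u t : S) : R) • t • z = 0 := hu t htm
    rw [h1, mul_smul, smul_comm t (∏ t' ∈ T.erase t, ((u t' : S) : R)),
      smul_comm t ((u t : S) : R), h2, smul_zero]
  have hkill : ∀ a ∈ m.toIdeal, a • (U • z) = 0 := by
    intro a ha
    rw [← hT] at ha
    refine Submodule.span_induction (p := fun a _ => a • (U • z) = 0) ?_ ?_ ?_ ?_ ha
    · intro t ht
      exact hTkill t ht
    · exact zero_smul _ _
    · intro a b _ _ ha hb
      rw [add_smul, ha, hb, add_zero]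
    · intro c a _ ha
      rw [smul_eq_mul, mul_smul, ha, smul_zero]
  have hz'0 : U • z ≠ 0 := by
    intro h
    apply hw0
    have h1 := LocalizedModule.mk_cancel (⟨U, hUS⟩ : S) z
    rw [← h1]
    change LocalizedModule.mk (U • z) _ = 0
    rw [h, LocalizedModule.zero_mk]
  have hex : ∃ h, proj 𝒩 h (U • z) ≠ 0 := by
    by_contra hcon
    push_neg at hcon
    apply hz'0
    rw [← sum_proj 𝒩 (U • z)]
    exact Finset.sum_eq_zero fun h _ => hcon h
  obtain ⟨h, hh⟩ := hex
  exact ⟨h, proj 𝒩 h (U • z), proj_mem 𝒩 h _, hh,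
    fun a ha => smul_proj_eq_zero 𝒜 m 𝒩 (U • z) hkill h a ha⟩

end

end Groth.Agent.Lib.Helper20.GorTop
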