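import Mathlib
import Groth.Agent.Lib.Helper20.GorTop2

/-!
# A graded module whose localization at the *maximal ideal is an injective hull of the residue field
is a shift of the *injective hull of `R/m`
-/

set_option autoImplicit false
set_option linter.unusedSectionVars false
set_option linter.unusedVariables false
set_option linter.style.haveILetI false

namespace Groth.Agent.Lib.Helper20.GorTop

open IsLocalRing Groth.Agent.Lib.Helper20.GrKit DirectSum Groth.Agent.Lib.Helper26.GrProj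
  Groth.Agent.Lib.Helper20.CanonShift Groth.Agent.Lib.Helper20.CanonLoc

universe u

section

variable {ι : Type} [AddCommGroup ι] [DecidableEq ι] [Module.Free ℤ ι] [Module.Finite ℤ ι]
  {R : Type u} [CommRing R] [IsNoetherianRing R] (𝒜 : ι → AddSubgroup R) [GradedRing 𝒜]
  (m : HomogeneousIdeal 𝒜) (hm : GrLC.IsStarLocal 𝒜 m) [m.toIdeal.IsPrime]
  {N : Type u} [AddCommGroup N] [Module R N] (𝒩 : ι → AddSubgroup N)
  [DirectSum.Decomposition 𝒩] [SetLike.GradedSMul 𝒜 𝒩]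
  {E' : Type u} [AddCommGroup E'] [Module R E'] (𝓔 : ι → AddSubgroup E')
  [DirectSum.Decomposition 𝓔] [SetLike.GradedSMul 𝒜 𝓔]
  (e : (R ⧸ m.toIdeal) →ₗ[R] E') (he : GrLC.IsStarInjHull 𝒜 (GrLC.quotGr 𝒜 m) 𝓔 e)

local notation "Am" => Localization.AtPrime m.toIdeal
local notation "S" => m.toIdeal.primeCompl

/-- elements of the maximal ideal of `R_m` kill the image of an element killed by `m` -/
theorem smul_mk_eq_zero_of_mem_maximalIdeal (x : N) (hx : ∀ a ∈ m.toIdeal, a • x = 0)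
    (b : Am) (hb : b ∈ maximalIdeal Am) :
    b • (LocalizedModule.mk x 1 : LocalizedModule S N) = 0 := by
  obtain ⟨r, s, rfl⟩ := IsLocalization.exists_mk'_eq S b
  have hr : r ∈ m.toIdeal := (IsLocalization.AtPrime.mk'_mem_maximal_iff Am m.toIdeal r s).1 hb
  rw [← Localization.mk_eq_mk', LocalizedModule.mk_smul_mk, hx r hr, LocalizedModule.zero_mk]

include hm he in
theorem exists_graded_equiv_of_hull
    (g₀ : ResidueField Am →ₗ[Am] LocalizedModule S N) (hg : InjHull.IsInjectiveHull g₀) :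
    ∃ (g : ι) (φ : N ≃ₗ[R] E'), GrLC.IsGrHomDeg 𝒩 𝓔 φ.toLinearMap g := by
  classical
  obtain ⟨h, x, hxh, hx0, hxm⟩ := exists_socle_element 𝒜 m 𝒩 g₀ hg.injective
  -- the socle map
  let φ₀ : (R ⧸ m.toIdeal) →ₗ[R] N :=
    Submodule.liftQ m.toIdeal (LinearMap.toSpanSingleton R N x) (by
      intro a ha
      rw [LinearMap.mem_ker, LinearMap.toSpanSingleton_apply]
      exact hxm a ha)
  have hφ₀ : ∀ r : R, φ₀ (Ideal.Quotient.mk m.toIdeal r) = r • x := fun r => rfl
  have hφ₀inj : Function.Injective φ₀ := by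
    rw [← LinearMap.ker_eq_bot, eq_bot_iff]
    intro y hy
    obtain ⟨r, rfl⟩ := Ideal.Quotient.mk_surjective y
    rw [LinearMap.mem_ker, hφ₀] at hy
    rw [Submodule.mem_bot, Ideal.Quotient.eq_zero_iff_mem]
    by_contra hr
    exact hx0 (eq_zero_of_smul_eq_zero 𝒜 m hm 𝒩 hxh r hr hy)
  -- graded structures
  have hPh : ∀ g r, r ∈ m.toIdeal → proj 𝒜 g r ∈ m.toIdeal := fun g r hr => m.isHomogeneous g hr
  letI decQ : DirectSum.Decomposition (quoGr 𝒜 m.toIdeal) := quoDecomposition 𝒜 m.toIdeal hPh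
  let AA : GrLC.GMod.{u} 𝒜 := { carrier := R ⧸ m.toIdeal, gr := quoGr 𝒜 m.toIdeal }
  let BB : GrLC.GMod.{u} 𝒜 := { carrier := N, gr := shiftGr 𝒩 (-h) }
  have hφ₀gr : GrLC.IsGrHom AA.gr BB.gr φ₀ := by
    intro k y hy
    obtain ⟨r, hr, rfl⟩ := hy
    change r • x ∈ 𝒩 (k - -h)
    rw [sub_neg_eq_add]
    exact SetLike.GradedSMul.smul_mem (A := 𝒜) (B := 𝒩) hr hxh
  have hegr : GrLC.IsGrHom AA.gr 𝓔 e := by
    have := he.grHom
    rw [quotGr_eq_quoGr] at this
    exact this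
  obtain ⟨ψ, hψgr, hψ⟩ := he.starInj AA BB φ₀ hφ₀gr hφ₀inj e hegr
  have hψdeg : GrLC.IsGrHomDeg 𝒩 𝓔 ψ (-h) := by
    intro k y hy
    apply hψgr (k + -h) y
    change y ∈ 𝒩 (k + -h - -h)
    rw [sub_neg_eq_add, neg_add_cancel_right]
    exact hy
  have hψx : ψ x = e 1 := by
    have := congrArg (fun l => l (1 : R ⧸ m.toIdeal)) hψ
    change ψ (φ₀ (Ideal.Quotient.mk m.toIdeal 1)) = e 1 at this
    rw [hφ₀, one_smul] at this
    exact this
  -- localize
  obtain ⟨f₁, hf₁⟩ := exists_hull_localized 𝒜 m 𝓔 e he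
  have hΨw : LocalizedModule.map S ψ (LocalizedModule.mk x 1) ≠ 0 := by
    rw [LocalizedModule.map_mk, hψx]
    intro h0
    have h1 := (IsLocalizedModule.eq_zero_iff S (LocalizedModule.mkLinearMap S E')).1
      (by rw [LocalizedModule.mkLinearMap_apply]; exact h0)
    obtain ⟨s, hs⟩ := h1
    have h2 : e ((s : R) • (1 : R ⧸ m.toIdeal)) = 0 := by
      rw [map_smul]
      exact hs
    have h3 : (s : R) • (1 : R ⧸ m.toIdeal) = 0 := he.injective (by rw [h2, map_zero])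
    have h4 : Ideal.Quotient.mk m.toIdeal (s : R) = 0 := by
      rw [← h3, Algebra.smul_def, mul_one]
      rfl
    exact s.2 (Ideal.Quotient.eq_zero_iff_mem.1 h4)
  have hbij := bijective_of_hulls' g₀ hg f₁ hf₁ (LocalizedModule.map S ψ)
    (LocalizedModule.mk x 1) (smul_mk_eq_zero_of_mem_maximalIdeal 𝒜 m x hxm) hΨw
  have hinj := injective_of_localized 𝒜 m hm 𝒩 𝓔 ψ (-h) hψdeg hbij.1
  have hsurj := surjective_of_localized 𝒜 m hm 𝒩 𝓔 ψ (-h) hψdeg hbij.2
  exact ⟨-h, LinearEquiv.ofBijective ψ ⟨hinj, hsurj⟩, hψdeg⟩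

end

end Groth.Agent.Lib.Helper20.GorTop
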