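import Mathlib
import Groth.Agent.Lib.Helper20.GorTop3
import Groth.Agent.Lib.Helper20.CanonLoc4
import Groth.Agent.S13225
import Groth.Agent.S11665

/-!
# The top graded local cohomology of a Gorenstein *local ring is a shift of `*E(R/m)`
-/

set_option autoImplicit false
set_option linter.unusedSectionVars false
set_option linter.unusedVariables false
set_option linter.style.haveILetI false

namespace Groth.Agent.Lib.Helper20.GorTop

open IsLocalRing Groth.Agent.Lib.Helper20.GrKit DirectSum Groth.Agent.Lib.Helper26.GrProj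
  Groth.Agent.Lib.Helper20.CanonShift Groth.Agent.Lib.Helper20.CanonLoc TensorProduct

universe u

theorem isInjectiveHull_of_equiv {A : Type u} [CommRing A] {M X Y : Type u} [AddCommGroup M]
    [Module A M] [AddCommGroup X] [Module A X] [AddCommGroup Y] [Module A Y] (f : M →ₗ[A] X)
    (hf : InjHull.IsInjectiveHull f) (ε : X ≃ₗ[A] Y) :
    InjHull.IsInjectiveHull (ε.toLinearMap ∘ₗ f) := by
  have hε : InjHull.IsEssentialInj ε.toLinearMap := by
    refine ⟨ε.injective, fun P hP => ?_⟩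
    rw [LinearEquiv.range, inf_top_eq]
    exact hP
  have h1 := isEssentialInj_comp f ε.toLinearMap hf.toIsEssentialInj hε
  refine { toIsEssentialInj := h1, isInjective := ?_ }
  haveI := hf.isInjective
  exact Module.Baer.injective (Module.Baer.of_equiv ε (Module.Baer.of_injective inferInstance))

section

variable {ι : Type} [AddCommGroup ι] [DecidableEq ι] [Module.Free ℤ ι] [Module.Finite ℤ ι]
  {R : Type u} [CommRing R] [IsNoetherianRing R] (𝒜 : ι → AddSubgroup R) [GradedRing 𝒜]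
  {M : Type u} [AddCommGroup M] [Module R M] (ℳ : ι → AddSubgroup M)
  [DirectSum.Decomposition ℳ] [SetLike.GradedSMul 𝒜 ℳ] (I : GrLC.StarInjRes 𝒜 ℳ)
  (a : HomogeneousIdeal 𝒜) (i : ℕ)

/-- the grading on graded local cohomology -/
noncomputable def HgrDecomposition : DirectSum.Decomposition (I.Hgr a i) :=
  (Groth.Agent.S13225.result R 𝒜 a M ℳ I i).chooseDecomposition

instance HgrGradedSMul : SetLike.GradedSMul 𝒜 (I.Hgr a i) where
  smul_mem := by
    rintro j k r x hr ⟨z, hz, rfl⟩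
    refine ⟨r • z, ?_, map_smul _ _ _⟩
    exact SetLike.GradedSMul.smul_mem (A := 𝒜) (B := (I.X i).gr) hr hz

end

section

variable {ι : Type} [AddCommGroup ι] [DecidableEq ι] [Module.Free ℤ ι] [Module.Finite ℤ ι]
  {R : Type u} [CommRing R] [LocCoh.IsGorensteinRing R] (𝒜 : ι → AddSubgroup R) [GradedRing 𝒜]
  (m : HomogeneousIdeal 𝒜) (hm : GrLC.IsStarLocal 𝒜 m) (n : ℕ) (hn : m.toIdeal.height = n)
  (I : GrLC.StarInjRes 𝒜 𝒜)
  {E' : Type u} [AddCommGroup E'] [Module R E'] (𝓔 : ι → AddSubgroup E')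
  [DirectSum.Decomposition 𝓔] [SetLike.GradedSMul 𝒜 𝓔]
  (e : (R ⧸ m.toIdeal) →ₗ[R] E') (he : GrLC.IsStarInjHull 𝒜 (GrLC.quotGr 𝒜 m) 𝓔 e)

include hn in
theorem exists_hull_H [m.toIdeal.IsPrime] :
    ∃ g₀ : ResidueField (Localization.AtPrime m.toIdeal) →ₗ[Localization.AtPrime m.toIdeal]
      LocalizedModule m.toIdeal.primeCompl (I.H m n), InjHull.IsInjectiveHull g₀ := by
  haveI : LocCoh.IsGorensteinLocalRing (Localization.AtPrime m.toIdeal) :=
    LocCoh.IsGorensteinRing.isGorensteinLocalRing_localization m.toIdeal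
  have hdim : ringKrullDim (Localization.AtPrime m.toIdeal) = n := by
    rw [IsLocalization.AtPrime.ringKrullDim_eq_height m.toIdeal (Localization.AtPrime m.toIdeal),
      hn]
    rfl
  obtain ⟨g, hg⟩ := Groth.Agent.S11665.result (Localization.AtPrime m.toIdeal) n hdim
  obtain ⟨β⟩ := bridge_starInjRes I m n
  obtain ⟨e2⟩ := nonempty_tensor_H_equiv m.toIdeal n
  let e0 : LocalizedModule m.toIdeal.primeCompl (I.H m n) ≃ₗ[Localization.AtPrime m.toIdeal]
      LocalizedModule m.toIdeal.primeCompl (LocCoh.H m.toIdeal n R) :=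
    IsLocalizedModule.mapEquiv m.toIdeal.primeCompl
      (LocalizedModule.mkLinearMap m.toIdeal.primeCompl (I.H m n))
      (LocalizedModule.mkLinearMap m.toIdeal.primeCompl (LocCoh.H m.toIdeal n R))
      (Localization.AtPrime m.toIdeal) β
  let e1 := LocalizedModule.equivTensorProduct m.toIdeal.primeCompl (LocCoh.H m.toIdeal n R)
  exact ⟨_, isInjectiveHull_of_equiv g hg ((e0.trans (e1.trans e2)).symm)⟩

include hm hn he in
theorem main : ∃ (g : ι) (φ : I.H m n ≃ₗ[R] E'),
    GrLC.IsGrHomDeg (I.Hgr m n) 𝓔 φ.toLinearMap g := by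
  haveI : m.toIdeal.IsPrime := Groth.Agent.Lib.Helper20.GrCoatom.result' R 𝒜 m hm.1
  letI := HgrDecomposition 𝒜 𝒜 I m n
  obtain ⟨g₀, hg₀⟩ := exists_hull_H 𝒜 m n hn I
  exact exists_graded_equiv_of_hull 𝒜 m hm (I.Hgr m n) 𝓔 e he g₀ hg₀

end

end Groth.Agent.Lib.Helper20.GorTop
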