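import Mathlib
import Groth.Prelude.Def_GrLC
import Groth.Agent.Lib.Helper26.GrProj
import Groth.Agent.Lib.Helper20.GrKit1

/-!
# Converting gradings by an arbitrary `SetLike` class to gradings by additive subgroups
-/

set_option autoImplicit false
set_option linter.unusedSectionVars false
set_option linter.unusedVariables false

namespace Groth.Agent.Lib.Helper20.GrConv

open DirectSum Groth.Agent.Lib.Helper26.GrProj Groth.Agent.Lib.Helper20.GrKit

universe u

section Ring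

variable {ι : Type} [AddCommGroup ι] [DecidableEq ι] {R : Type u} [CommRing R]
  {σ : Type u} [SetLike σ R] [AddSubgroupClass σ R] (𝒜 : ι → σ) [GradedRing 𝒜]

/-- the grading by additive subgroups -/
def asGr : ι → AddSubgroup R := fun g => AddSubgroup.ofClass (𝒜 g)

theorem mem_asGr {g : ι} {x : R} : x ∈ asGr 𝒜 g ↔ x ∈ 𝒜 g := Iff.rfl

/-- the components, as additive maps -/
def compAdd (g : ι) : R →+ R where
  toFun x := (DirectSum.decompose 𝒜 x g : R)
  map_zero' := by simp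
  map_add' x y := by simp [DirectSum.decompose_add]

theorem asGr_h4 (x : R) : ∃ s : Finset ι, x = ∑ g ∈ s, compAdd 𝒜 g x := by
  classical
  exact ⟨(DirectSum.decompose 𝒜 x).support, (DirectSum.sum_support_decompose 𝒜 x).symm⟩

theorem asGr_isInternal : DirectSum.IsInternal (asGr 𝒜) :=
  isInternal_of_proj (asGr 𝒜) (compAdd 𝒜)
    (fun g x => (DirectSum.decompose 𝒜 x g).2)
    (fun g x hx => DirectSum.decompose_of_mem_same 𝒜 hx)
    (fun g h x hx hne => DirectSum.decompose_of_mem_ne 𝒜 hx hne)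
    (asGr_h4 𝒜)

noncomputable instance asGrDecomposition : DirectSum.Decomposition (asGr 𝒜) :=
  (asGr_isInternal 𝒜).chooseDecomposition

instance asGrGradedMonoid : SetLike.GradedMonoid (asGr 𝒜) where
  one_mem := SetLike.one_mem_graded 𝒜
  mul_mem := fun _ _ _ _ ha hb => SetLike.mul_mem_graded (A := 𝒜) ha hb

noncomputable instance asGrGradedRing : GradedRing (asGr 𝒜) where

theorem proj_asGr (g : ι) (x : R) : proj (asGr 𝒜) g x = (DirectSum.decompose 𝒜 x g : R) :=
  proj_eq_of_proj (asGr 𝒜) (compAdd 𝒜)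
    (fun g x => (DirectSum.decompose 𝒜 x g).2)
    (fun g h x hx hne => DirectSum.decompose_of_mem_ne 𝒜 hx hne)
    (asGr_h4 𝒜) g x

/-- conversion of homogeneous ideals -/
def idealToAS (a : HomogeneousIdeal 𝒜) : HomogeneousIdeal (asGr 𝒜) :=
  ⟨a.toIdeal, by
    intro i r hr
    have h1 : ((DirectSum.decompose (asGr 𝒜) r i : asGr 𝒜 i) : R) = proj (asGr 𝒜) i r := rfl
    rw [h1, proj_asGr]
    exact a.isHomogeneous i hr⟩

@[simp] theorem idealToAS_toIdeal (a : HomogeneousIdeal 𝒜) :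
    (idealToAS 𝒜 a).toIdeal = a.toIdeal := rfl

end Ring

section Module

variable {ι : Type} [AddCommGroup ι] [DecidableEq ι] {R : Type u} [CommRing R]
  {σ : Type u} [SetLike σ R] [AddSubgroupClass σ R] (𝒜 : ι → σ) [GradedRing 𝒜]
  {M : Type u} [AddCommGroup M] [Module R M] {τ : Type u} [SetLike τ M] [AddSubgroupClass τ M]
  (ℳ : ι → τ) [DirectSum.Decomposition ℳ] [SetLike.GradedSMul 𝒜 ℳ]

/-- the grading of the module by additive subgroups -/
def asGrM : ι → AddSubgroup M := fun g => AddSubgroup.ofClass (ℳ g)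

theorem mem_asGrM {g : ι} {x : M} : x ∈ asGrM ℳ g ↔ x ∈ ℳ g := Iff.rfl

/-- the components, as additive maps -/
def compAddM (g : ι) : M →+ M where
  toFun x := (DirectSum.decompose ℳ x g : M)
  map_zero' := by simp
  map_add' x y := by simp [DirectSum.decompose_add]

theorem asGrM_h4 (x : M) : ∃ s : Finset ι, x = ∑ g ∈ s, compAddM ℳ g x := by
  classical
  exact ⟨(DirectSum.decompose ℳ x).support, (DirectSum.sum_support_decompose ℳ x).symm⟩

theorem asGrM_isInternal : DirectSum.IsInternal (asGrM ℳ) :=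
  isInternal_of_proj (asGrM ℳ) (compAddM ℳ)
    (fun g x => (DirectSum.decompose ℳ x g).2)
    (fun g x hx => DirectSum.decompose_of_mem_same ℳ hx)
    (fun g h x hx hne => DirectSum.decompose_of_mem_ne ℳ hx hne)
    (asGrM_h4 ℳ)

noncomputable instance asGrMDecomposition : DirectSum.Decomposition (asGrM ℳ) :=
  (asGrM_isInternal ℳ).chooseDecomposition

instance asGrMGradedSMul : SetLike.GradedSMul (asGr 𝒜) (asGrM ℳ) where
  smul_mem := fun {i j} {r m} hr hm => SetLike.GradedSMul.smul_mem (A := 𝒜) (B := ℳ) hr hm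

theorem proj_asGrM (g : ι) (x : M) : proj (asGrM ℳ) g x = (DirectSum.decompose ℳ x g : M) :=
  proj_eq_of_proj (asGrM ℳ) (compAddM ℳ)
    (fun g x => (DirectSum.decompose ℳ x g).2)
    (fun g h x hx hne => DirectSum.decompose_of_mem_ne ℳ hx hne)
    (asGrM_h4 ℳ) g x

end Module

section GMod

variable {ι : Type} [AddCommGroup ι] [DecidableEq ι] {R : Type u} [CommRing R]
  {σ : Type u} [SetLike σ R] [AddSubgroupClass σ R] (𝒜 : ι → σ) [GradedRing 𝒜]

/-- conversion of bundled graded modules -/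
noncomputable def toAS (X : GrLC.GMod.{u} 𝒜) : GrLC.GMod.{u} (asGr 𝒜) :=
  { carrier := X.carrier
    gr := X.gr
    gsmul := ⟨fun {i j} {r m} hr hm => X.gsmul.smul_mem hr hm⟩ }

/-- conversion of bundled graded modules, backwards -/
noncomputable def ofAS (Y : GrLC.GMod.{u} (asGr 𝒜)) : GrLC.GMod.{u} 𝒜 :=
  { carrier := Y.carrier
    gr := Y.gr
    gsmul := ⟨fun {i j} {r m} hr hm => Y.gsmul.smul_mem (A := asGr 𝒜) hr hm⟩ }

variable {X : Type u} [AddCommGroup X] [Module R X] (𝒳 : ι → AddSubgroup X)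
  [DirectSum.Decomposition 𝒳] [SetLike.GradedSMul 𝒜 𝒳] [SetLike.GradedSMul (asGr 𝒜) 𝒳]

theorem isStarInj_toAS (h : GrLC.IsStarInj 𝒜 𝒳) : GrLC.IsStarInj (asGr 𝒜) 𝒳 := by
  intro A B f hf hinj g hg
  exact h (ofAS 𝒜 A) (ofAS 𝒜 B) f hf hinj g hg

theorem isStarInj_ofAS (h : GrLC.IsStarInj (asGr 𝒜) 𝒳) : GrLC.IsStarInj 𝒜 𝒳 := by
  intro A B f hf hinj g hg
  exact h (toAS 𝒜 A) (toAS 𝒜 B) f hf hinj g hg

end GMod

section Res

variable {ι : Type} [AddCommGroup ι] [DecidableEq ι] {R : Type u} [CommRing R]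
  {σ : Type u} [SetLike σ R] [AddSubgroupClass σ R] {𝒜 : ι → σ} [GradedRing 𝒜]
  {M : Type u} [AddCommGroup M] [Module R M] {τ : Type u} [SetLike τ M] [AddSubgroupClass τ M]
  {ℳ : ι → τ} [DirectSum.Decomposition ℳ] [SetLike.GradedSMul 𝒜 ℳ]

/-- conversion of *injective resolutions -/
noncomputable def resToAS (E : GrLC.StarInjRes 𝒜 ℳ) : GrLC.StarInjRes (asGr 𝒜) (asGrM ℳ) where
  X n := toAS 𝒜 (E.X n)
  d := E.d
  ε := E.ε
  d_grHom := E.d_grHom
  ε_grHom := E.ε_grHom
  ε_injective := E.ε_injective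
  exact_zero := E.exact_zero
  exact_succ := E.exact_succ
  starInj n := by
    have := E.starInj n
    intro A B f hf hinj g hg
    exact this (ofAS 𝒜 A) (ofAS 𝒜 B) f hf hinj g hg

variable (E : GrLC.StarInjRes 𝒜 ℳ) (a : HomogeneousIdeal 𝒜)

/-- the cohomology is unchanged -/
noncomputable def convH (i : ℕ) : (resToAS E).H (idealToAS 𝒜 a) i ≃ₗ[R] E.H a i :=
  LinearEquiv.refl R _

theorem convH_mem (i : ℕ) (g : ι) (y : (resToAS E).H (idealToAS 𝒜 a) i) :
    y ∈ (resToAS E).Hgr (idealToAS 𝒜 a) i g ↔ convH E a i y ∈ E.Hgr a i g := Iff.rfl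

end Res

end Groth.Agent.Lib.Helper20.GrConv
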