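import Mathlib
import Groth.Prelude.Def_GrLC
import Groth.Agent.Lib.Helper20.GrConv

/-!
# Converting *local / *injective hull / *canonical data to gradings by additive subgroups
-/

set_option autoImplicit false
set_option linter.unusedSectionVars false
set_option linter.unusedVariables false
set_option linter.style.haveILetI false

namespace Groth.Agent.Lib.Helper20.GrCanW

open DirectSum Groth.Agent.Lib.Helper26.GrProj Groth.Agent.Lib.Helper20.GrKit
  Groth.Agent.Lib.Helper20.GrConv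

universe u

variable {ι : Type} [AddCommGroup ι] [DecidableEq ι] {R : Type u} [CommRing R]
  {σ : Type u} [SetLike σ R] [AddSubgroupClass σ R] (𝒜 : ι → σ) [GradedRing 𝒜]

/-- conversion of homogeneous ideals, backwards -/
noncomputable def idealOfAS (b : HomogeneousIdeal (asGr 𝒜)) : HomogeneousIdeal 𝒜 :=
  ⟨b.toIdeal, by
    intro i r hr
    have := b.isHomogeneous i hr
    have h1 : ((DirectSum.decompose (asGr 𝒜) r i : asGr 𝒜 i) : R) = proj (asGr 𝒜) i r := rfl
    rw [h1, proj_asGr] at this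
    exact this⟩

@[simp] theorem idealOfAS_toIdeal (b : HomogeneousIdeal (asGr 𝒜)) :
    (idealOfAS 𝒜 b).toIdeal = b.toIdeal := rfl

theorem idealToAS_ofAS (b : HomogeneousIdeal (asGr 𝒜)) : idealToAS 𝒜 (idealOfAS 𝒜 b) = b :=
  HomogeneousIdeal.toIdeal_injective rfl

theorem idealOfAS_toAS (a : HomogeneousIdeal 𝒜) : idealOfAS 𝒜 (idealToAS 𝒜 a) = a :=
  HomogeneousIdeal.toIdeal_injective rfl

theorem isCoatom_toAS (a : HomogeneousIdeal 𝒜) (ha : IsCoatom a) : IsCoatom (idealToAS 𝒜 a) := by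
  refine ⟨?_, ?_⟩
  · intro h
    apply ha.1
    apply HomogeneousIdeal.toIdeal_injective
    have := congrArg HomogeneousIdeal.toIdeal h
    rw [HomogeneousIdeal.toIdeal_top] at this ⊢
    exact this
  · intro b hb
    have h1 : a < idealOfAS 𝒜 b := by
      refine lt_of_le_of_ne ?_ ?_
      · intro x hx
        exact hb.le hx
      · intro h
        apply hb.ne
        rw [h, idealToAS_ofAS]
    have h2 := ha.2 _ h1
    apply HomogeneousIdeal.toIdeal_injective
    have := congrArg HomogeneousIdeal.toIdeal h2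
    rw [HomogeneousIdeal.toIdeal_top] at this ⊢
    exact this

theorem isCoatom_ofAS (b : HomogeneousIdeal (asGr 𝒜)) (hb : IsCoatom b) :
    IsCoatom (idealOfAS 𝒜 b) := by
  refine ⟨?_, ?_⟩
  · intro h
    apply hb.1
    apply HomogeneousIdeal.toIdeal_injective
    have := congrArg HomogeneousIdeal.toIdeal h
    rw [HomogeneousIdeal.toIdeal_top] at this ⊢
    exact this
  · intro a ha
    have h1 : b < idealToAS 𝒜 a := by
      refine lt_of_le_of_ne ?_ ?_
      · intro x hx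
        exact ha.le hx
      · intro h
        apply ha.ne
        rw [h, idealOfAS_toAS]
    have h2 := hb.2 _ h1
    apply HomogeneousIdeal.toIdeal_injective
    have := congrArg HomogeneousIdeal.toIdeal h2
    rw [HomogeneousIdeal.toIdeal_top] at this ⊢
    exact this

theorem isStarLocal_toAS (m : HomogeneousIdeal 𝒜) (hm : GrLC.IsStarLocal 𝒜 m) :
    GrLC.IsStarLocal (asGr 𝒜) (idealToAS 𝒜 m) := by
  refine ⟨isCoatom_toAS 𝒜 m hm.1, fun b hb => ?_⟩
  have := hm.2 _ (isCoatom_ofAS 𝒜 b hb)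
  rw [← this, idealToAS_ofAS]

variable (m : HomogeneousIdeal 𝒜)
  {E' : Type u} [AddCommGroup E'] [Module R E'] (𝓔 : ι → AddSubgroup E')
  [DirectSum.Decomposition 𝓔] [SetLike.GradedSMul 𝒜 𝓔] [SetLike.GradedSMul (asGr 𝒜) 𝓔]

theorem isStarInjHull_toAS (e : (R ⧸ m.toIdeal) →ₗ[R] E')
    (he : GrLC.IsStarInjHull 𝒜 (GrLC.quotGr 𝒜 m) 𝓔 e) :
    GrLC.IsStarInjHull (asGr 𝒜) (GrLC.quotGr (asGr 𝒜) (idealToAS 𝒜 m)) 𝓔 e :=
  ⟨⟨he.injective, fun g x hx => he.grHom g x hx, he.essential⟩, isStarInj_toAS 𝒜 𝓔 he.starInj⟩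

variable {C : Type u} [AddCommGroup C] [Module R C] (𝒞 : ι → AddSubgroup C)
  [DirectSum.Decomposition 𝒞] [SetLike.GradedSMul 𝒜 𝒞] [SetLike.GradedSMul (asGr 𝒜) 𝒞]

theorem isStarCanonical_toAS (n : ℕ) (I : GrLC.StarInjRes 𝒜 𝒜)
    (hC : GrLC.IsStarCanonical 𝒜 𝒞 𝓔 m n I) :
    GrLC.IsStarCanonical (asGr 𝒜) 𝒞 𝓔 (idealToAS 𝒜 m) n (resToAS I) := by
  obtain ⟨hfin, φ, hφ⟩ := hC
  exact ⟨hfin, φ, fun d ψ hψ => hφ d ψ hψ⟩

end Groth.Agent.Lib.Helper20.GrCanW
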