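import Mathlib
import Groth.Prelude.Def_GrLC
import Groth.Agent.Lib.Helper26.GrProj
import Groth.Agent.Lib.Helper20.GrKit10

/-!
# Pieces of Artinian / Noetherian graded modules are Artinian / Noetherian over `R_0`
-/

set_option autoImplicit false
set_option linter.unusedSectionVars false
set_option linter.unusedVariables false

namespace Groth.Agent.Lib.Helper20.GrArt

open DirectSum Groth.Agent.Lib.Helper26.GrProj Groth.Agent.Lib.Helper20.GrKit

universe u

variable {ι : Type} [AddCommGroup ι] [DecidableEq ι] {R : Type u} [CommRing R]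
  (𝒜 : ι → AddSubgroup R) [GradedRing 𝒜]
  {H : Type u} [AddCommGroup H] [Module R H] (ℋ : ι → AddSubgroup H)
  [DirectSum.Decomposition ℋ] [SetLike.GradedSMul 𝒜 ℋ] (n : ι)

/-- the `R`-submodule generated by an `R_0`-submodule of a piece -/
def gen (N : Submodule (GrLC.deg0 𝒜) (GrLC.comp 𝒜 ℋ n)) : Submodule R H :=
  Submodule.span R ((fun y : GrLC.comp 𝒜 ℋ n => (y : H)) '' (N : Set (GrLC.comp 𝒜 ℋ n)))

theorem gen_mono : Monotone (gen 𝒜 ℋ n) := by
  intro N N' h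
  apply Submodule.span_mono
  exact Set.image_mono h

theorem mem_of_mem_gen (N : Submodule (GrLC.deg0 𝒜) (GrLC.comp 𝒜 ℋ n)) (y : GrLC.comp 𝒜 ℋ n)
    (hy : (y : H) ∈ gen 𝒜 ℋ n N) : y ∈ N := by
  classical
  obtain ⟨s, f, g, hs⟩ := Submodule.mem_span_set'.1 hy
  have hg : ∀ i, ∃ z : GrLC.comp 𝒜 ℋ n, z ∈ N ∧ (z : H) = (g i : H) := by
    intro i
    obtain ⟨z, hz, e⟩ := (g i).2
    exact ⟨z, hz, e⟩
  choose z hz hzg using hg
  have hyn : (y : H) ∈ ℋ n := y.2
  have h1 : (y : H) = ∑ i, proj 𝒜 0 (f i) • (g i : H) := by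
    conv_lhs => rw [← proj_of_mem_same ℋ hyn, ← hs, proj_sum]
    refine Finset.sum_congr rfl fun i _ => ?_
    have hgi : (g i : H) ∈ ℋ n := by
      rw [← hzg i]
      exact (z i).2
    rw [proj_smul_of_mem_right 𝒜 ℋ hgi n (f i), sub_self]
  have h2 : y = ∑ i, (⟨proj 𝒜 0 (f i), proj_mem 𝒜 0 (f i)⟩ : GrLC.deg0 𝒜) • z i := by
    apply Subtype.ext
    rw [h1, Submodule.coe_sum]
    refine Finset.sum_congr rfl fun i _ => ?_
    rw [Submodule.coe_smul, hzg i]
    rfl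
  rw [h2]
  exact N.sum_mem fun i _ => N.smul_mem _ (hz i)

theorem gen_strictMono : StrictMono (gen 𝒜 ℋ n) := by
  intro N N' h
  refine lt_of_le_of_ne (gen_mono 𝒜 ℋ n h.le) ?_
  intro heq
  apply h.not_ge
  intro y hy
  apply mem_of_mem_gen 𝒜 ℋ n N y
  rw [heq]
  exact Submodule.subset_span ⟨y, hy, rfl⟩

theorem isArtinian_comp [IsArtinian R H] : IsArtinian (GrLC.deg0 𝒜) (GrLC.comp 𝒜 ℋ n) :=
  (gen_strictMono 𝒜 ℋ n).wellFoundedLT

theorem isNoetherian_comp [IsNoetherian R H] : IsNoetherian (GrLC.deg0 𝒜) (GrLC.comp 𝒜 ℋ n) := by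
  rw [isNoetherian_iff']
  haveI : WellFoundedGT (Submodule R H) := isNoetherian_iff'.1 inferInstance
  exact (gen_strictMono 𝒜 ℋ n).wellFoundedGT

end Groth.Agent.Lib.Helper20.GrArt
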