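import Mathlib

/-!
# A nondegenerate pairing with a finite dimensional side is perfect
-/

set_option autoImplicit false
set_option linter.unusedSectionVars false
set_option linter.unusedVariables false

namespace Groth.Agent.Lib.Helper20.GrVK

universe u v

theorem exists_rep_of_nondeg {k : Type u} {V W T : Type v} [Field k] [AddCommGroup V] [Module k V]
    [AddCommGroup W] [Module k W] [AddCommGroup T] [Module k T] [FiniteDimensional k V]
    (hT : Module.finrank k T = 1)
    (B : V →ₗ[k] W →ₗ[k] T) (hl : ∀ v, (∀ w, B v w = 0) → v = 0)
    (hr : ∀ w, (∀ v, B v w = 0) → w = 0) (l : W →ₗ[k] T) : ∃ v, B v = l := by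
  haveI : Module.Finite k T := Module.finite_of_finrank_pos (by rw [hT]; exact one_pos)
  have hBf : Function.Injective B.flip := by
    rw [injective_iff_map_eq_zero]
    intro w hw
    apply hr
    intro v
    have := LinearMap.congr_fun hw v
    simpa using this
  haveI : Module.Finite k W := Module.Finite.of_injective B.flip hBf
  have hB : Function.Injective B := by
    rw [injective_iff_map_eq_zero]
    intro v hv
    apply hl
    intro w
    rw [hv]
    rfl
  have h1 : Module.finrank k W ≤ Module.finrank k V := by
    have := LinearMap.finrank_le_finrank_of_injective hBf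
    rwa [Module.finrank_linearMap, hT, mul_one] at this
  have h2 : Module.finrank k V ≤ Module.finrank k W := by
    have := LinearMap.finrank_le_finrank_of_injective hB
    rwa [Module.finrank_linearMap, hT, mul_one] at this
  have h3 : Module.finrank k V = Module.finrank k (W →ₗ[k] T) := by
    rw [Module.finrank_linearMap, hT, mul_one]
    exact le_antisymm h2 h1
  have hs : Function.Surjective B :=
    (LinearMap.injective_iff_surjective_of_finrank_eq_finrank h3).1 hB
  exact hs l

end Groth.Agent.Lib.Helper20.GrVK
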