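import Mathlib
import Groth.Agent.Lib.Helper20.GorGr4

/-!
# A positively graded ring over a field: the irrelevant ideal is maximal of height `dim R`
-/

set_option autoImplicit false
set_option linter.unusedSectionVars false
set_option linter.unusedVariables false
set_option linter.style.haveILetI false

namespace Groth.Agent.Lib.Helper20.GorGr

open Groth.Agent.Lib.Helper20.CanonShift Groth.Agent.Lib.Helper26.GrProj

universe u

section

variable {R : Type u} [CommRing R] (𝒜 : ℤ → AddSubgroup R) [GradedRing 𝒜]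
  (hpos : ∀ n : ℤ, n < 0 → 𝒜 n = ⊥) (h0 : IsField (GrLC.deg0 𝒜))
  (m : HomogeneousIdeal 𝒜) (hm : GrLC.IsStarLocal 𝒜 m)
  (hmsp : m.toIdeal = Ideal.span (⋃ n ∈ Set.Ioi (0 : ℤ), (𝒜 n : Set R)))

include hpos hmsp in
theorem sub_proj_zero_mem (x : R) : x - proj 𝒜 0 x ∈ m.toIdeal := by
  classical
  have hx : x = ∑ j ∈ (DirectSum.decompose 𝒜 x).support, proj 𝒜 j x := (sum_proj 𝒜 x).symm
  have key : ∀ j : ℤ, j ≠ 0 → proj 𝒜 j x ∈ m.toIdeal := by
    intro j hj
    rcases lt_or_gt_of_ne hj with hlt | hgt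
    · have := proj_mem 𝒜 j x
      rw [hpos j hlt, AddSubgroup.mem_bot] at this
      rw [this]
      exact zero_mem _
    · rw [hmsp]
      apply Ideal.subset_span
      simp only [Set.mem_iUnion]
      exact ⟨j, hgt, proj_mem 𝒜 j x⟩
  by_cases h0x : (0 : ℤ) ∈ (DirectSum.decompose 𝒜 x).support
  · have h2 : x - proj 𝒜 0 x = ∑ j ∈ (DirectSum.decompose 𝒜 x).support.erase 0, proj 𝒜 j x := by
      rw [Finset.sum_erase_eq_sub h0x, ← hx]
    rw [h2]
    apply Ideal.sum_mem
    intro j hj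
    exact key j (Finset.ne_of_mem_erase hj)
  · rw [proj_eq_zero_of_notMem 𝒜 h0x, sub_zero, hx]
    apply Ideal.sum_mem
    intro j hj
    apply key j
    rintro rfl
    exact h0x hj

include hpos h0 hm hmsp in
theorem isMaximal_irrelevant : m.toIdeal.IsMaximal := by
  have hne : m.toIdeal ≠ ⊤ := by
    intro h
    apply hm.1.1
    apply HomogeneousIdeal.toIdeal_injective
    rw [h, HomogeneousIdeal.toIdeal_top]
  rw [Ideal.isMaximal_iff]
  refine ⟨fun h1 => hne ((Ideal.eq_top_iff_one _).2 h1), ?_⟩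
  intro J x hmJ hxm hxJ
  have hx0 : proj 𝒜 0 x ∉ m.toIdeal := by
    intro h
    apply hxm
    have := add_mem (sub_proj_zero_mem 𝒜 hpos m hmsp x) h
    rwa [sub_add_cancel] at this
  have hx0J : proj 𝒜 0 x ∈ J := by
    have := sub_mem hxJ (hmJ (sub_proj_zero_mem 𝒜 hpos m hmsp x))
    rwa [sub_sub_cancel] at this
  have hne0 : (⟨proj 𝒜 0 x, proj_mem 𝒜 0 x⟩ : GrLC.deg0 𝒜) ≠ 0 := by
    intro h
    apply hx0
    have : proj 𝒜 0 x = 0 := congrArg Subtype.val h
    rw [this]
    exact zero_mem _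
  obtain ⟨y, hy⟩ := h0.mul_inv_cancel hne0
  have hy' : proj 𝒜 0 x * (y : R) = 1 := congrArg Subtype.val hy
  rw [← hy']
  exact Ideal.mul_mem_right _ _ hx0J

include hpos h0 hm hmsp in
theorem height_irrelevant [IsNoetherianRing R] :
    (m.toIdeal.height : WithBot ℕ∞) = ringKrullDim R := by
  haveI hmax := isMaximal_irrelevant 𝒜 hpos h0 m hm hmsp
  apply le_antisymm
  · exact Ideal.height_le_ringKrullDim_of_ne_top hmax.ne_top
  · rw [ringKrullDim_le_iff_isMaximal_height_le]
    intro 𝔫 h𝔫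
    haveI := h𝔫
    by_cases hnm : 𝔫 = m.toIdeal
    · rw [hnm]
    · haveI hc : (Ideal.homogeneousCore 𝒜 𝔫).toIdeal.IsPrime :=
        Ideal.IsPrime.homogeneousCore h𝔫.isPrime
      have hne : (Ideal.homogeneousCore 𝒜 𝔫).toIdeal ≠ ⊤ := hc.ne_top
      have hle : (Ideal.homogeneousCore 𝒜 𝔫).toIdeal ≤ m.toIdeal :=
        le_of_isStarLocal 𝒜 m hm (Ideal.homogeneousCore 𝒜 𝔫) hne
      have hlt : (Ideal.homogeneousCore 𝒜 𝔫).toIdeal < m.toIdeal := by
        refine lt_of_le_of_ne hle ?_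
        intro heq
        apply hnm
        have h1 : m.toIdeal ≤ 𝔫 := by
          rw [← heq]
          exact Ideal.toIdeal_homogeneousCore_le 𝒜 𝔫
        exact (hmax.eq_of_le h𝔫.ne_top h1).symm
      have h1 := Ideal.height_add_one_le_of_lt_of_isPrime hlt
      have h2 := height_le_core_add_one 𝒜 𝔫
      exact_mod_cast h2.trans h1

include hpos h0 hm hmsp in
theorem ringKrullDim_localization_irrelevant [IsNoetherianRing R] [m.toIdeal.IsPrime] :
    ringKrullDim (Localization.AtPrime m.toIdeal) = ringKrullDim R := by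
  rw [IsLocalization.AtPrime.ringKrullDim_eq_height m.toIdeal (Localization.AtPrime m.toIdeal)]
  exact height_irrelevant 𝒜 hpos h0 m hm hmsp

end

end Groth.Agent.Lib.Helper20.GorGr
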