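import Mathlib
import Groth.Agent.Lib.Helper20.GorGr5
import Groth.Agent.Lib.Helper20.GrKit5
import Groth.Agent.Lib.Helper21.DepthKit8
import Groth.Agent.Lib.helper11.LCKit2
import Groth.Agent.S6880
import Groth.Prelude.Def_CAlg

/-!
# Positively graded *local rings: the *maximal ideal is maximal of height `dim R`; vanishing of
local cohomology below the dimension for Cohen–Macaulay rings
-/

set_option autoImplicit false
set_option linter.unusedSectionVars false
set_option linter.unusedVariables false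
set_option linter.style.haveILetI false

namespace Groth.Agent.Lib.Helper20.GrStarLoc

open Groth.Agent.Lib.Helper20.CanonShift Groth.Agent.Lib.Helper26.GrProj
  Groth.Agent.Lib.Helper20.GorGr Groth.Agent.Lib.Helper20.GrKit

universe u

section

variable {R : Type u} [CommRing R] [IsNoetherianRing R] (𝒜 : ℤ → AddSubgroup R) [GradedRing 𝒜]
  (hpos : ∀ n : ℤ, n < 0 → 𝒜 n = ⊥)
  (m : HomogeneousIdeal 𝒜) (hm : GrLC.IsStarLocal 𝒜 m)

include hpos in
theorem proj_zero_of_mem_span (x : R)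
    (hx : x ∈ Ideal.span (⋃ n ∈ Set.Ioi (0 : ℤ), (𝒜 n : Set R))) : proj 𝒜 0 x = 0 := by
  refine Submodule.span_induction ?_ ?_ ?_ ?_ hx
  · intro s hs
    simp only [Set.mem_iUnion] at hs
    obtain ⟨j, hj, hsj⟩ := hs
    exact proj_of_mem_ne 𝒜 hsj (ne_of_gt hj)
  · exact proj_zero 𝒜 0
  · intro y z _ _ hy hz
    rw [proj_add, hy, hz, add_zero]
  · intro r y _ hy
    classical
    -- decompose `r`
    have hr : r = ∑ k ∈ (DirectSum.decompose 𝒜 r).support, proj 𝒜 k r := (sum_proj 𝒜 r).symm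
    rw [hr, Finset.sum_smul, proj_sum]
    refine Finset.sum_eq_zero fun k _ => ?_
    rw [proj_smul_of_mem 𝒜 𝒜 (proj_mem 𝒜 k r) 0 y]
    by_cases hk : k = 0
    · subst hk
      rw [sub_zero, hy, smul_zero]
    · rcases lt_or_gt_of_ne hk with hlt | hgt
      · have := proj_mem 𝒜 k r
        rw [hpos k hlt, AddSubgroup.mem_bot] at this
        rw [this, zero_smul]
      · have := proj_mem 𝒜 (0 - k) y
        rw [hpos (0 - k) (by omega), AddSubgroup.mem_bot] at this
        rw [this, smul_zero]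

include hpos hm in
theorem pos_mem (j : ℤ) (hj : 0 < j) (x : R) (hx : x ∈ 𝒜 j) : x ∈ m.toIdeal := by
  let P : HomogeneousIdeal 𝒜 := ⟨Ideal.span (⋃ n ∈ Set.Ioi (0 : ℤ), (𝒜 n : Set R)), by
    apply Ideal.homogeneous_span
    intro s hs
    simp only [Set.mem_iUnion] at hs
    obtain ⟨j, _, hsj⟩ := hs
    exact ⟨j, hsj⟩⟩
  have hne : P.toIdeal ≠ ⊤ := by
    intro h
    have h1 : (1 : R) ∈ Ideal.span (⋃ n ∈ Set.Ioi (0 : ℤ), (𝒜 n : Set R)) := by
      change (1 : R) ∈ P.toIdeal
      rw [h]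
      exact Submodule.mem_top
    have h2 := proj_zero_of_mem_span 𝒜 hpos 1 h1
    rw [proj_of_mem_same 𝒜 (SetLike.GradedOne.one_mem : (1 : R) ∈ 𝒜 0)] at h2
    apply hm.1.1
    apply HomogeneousIdeal.toIdeal_injective
    rw [HomogeneousIdeal.toIdeal_top]
    exact (Ideal.eq_top_iff_one _).2 (by rw [h2]; exact zero_mem _)
  have hle := le_of_isStarLocal 𝒜 m hm P hne
  apply hle
  change x ∈ Ideal.span (⋃ n ∈ Set.Ioi (0 : ℤ), (𝒜 n : Set R))
  apply Ideal.subset_span
  simp only [Set.mem_iUnion]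
  exact ⟨j, hj, hx⟩

include hpos hm in
theorem sub_proj_zero_mem (x : R) : x - proj 𝒜 0 x ∈ m.toIdeal := by
  classical
  have hx : x = ∑ j ∈ (DirectSum.decompose 𝒜 x).support, proj 𝒜 j x := (sum_proj 𝒜 x).symm
  have key : ∀ j : ℤ, j ≠ 0 → proj 𝒜 j x ∈ m.toIdeal := by
    intro j hj
    rcases lt_or_gt_of_ne hj with hlt | hgt
    · have := proj_mem 𝒜 j x
      rw [hpos j hlt, AddSubgroup.mem_bot] at this
      rw [this]
      exact zero_mem _
    · exact pos_mem 𝒜 hpos m hm j hgt _ (proj_mem 𝒜 j x)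
  by_cases h0x : (0 : ℤ) ∈ (DirectSum.decompose 𝒜 x).support
  · have h2 : x - proj 𝒜 0 x = ∑ j ∈ (DirectSum.decompose 𝒜 x).support.erase 0, proj 𝒜 j x := by
      rw [Finset.sum_erase_eq_sub h0x, ← hx]
    rw [h2]
    apply Ideal.sum_mem
    intro j hj
    exact key j (Finset.ne_of_mem_erase hj)
  · rw [proj_eq_zero_of_notMem 𝒜 h0x, sub_zero, hx]
    apply Ideal.sum_mem
    intro j hj
    apply key j
    rintro rfl
    exact h0x hj

include hpos hm in
theorem isMaximal : m.toIdeal.IsMaximal := by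
  have hne : m.toIdeal ≠ ⊤ := by
    intro h
    apply hm.1.1
    apply HomogeneousIdeal.toIdeal_injective
    rw [h, HomogeneousIdeal.toIdeal_top]
  rw [Ideal.isMaximal_iff]
  refine ⟨fun h1 => hne ((Ideal.eq_top_iff_one _).2 h1), ?_⟩
  intro J x hmJ hxm hxJ
  have hx0 : proj 𝒜 0 x ∉ m.toIdeal := by
    intro h
    apply hxm
    have := add_mem (sub_proj_zero_mem 𝒜 hpos m hm x) h
    rwa [sub_add_cancel] at this
  have hx0J : proj 𝒜 0 x ∈ J := by
    have := sub_mem hxJ (hmJ (sub_proj_zero_mem 𝒜 hpos m hm x))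
    rwa [sub_sub_cancel] at this
  -- the homogeneous ideal `m + (x₀)`
  let Q : HomogeneousIdeal 𝒜 := m ⊔ ⟨Ideal.span {proj 𝒜 0 x}, by
    apply Ideal.homogeneous_span
    intro s hs
    rw [Set.mem_singleton_iff] at hs
    rw [hs]
    exact ⟨0, proj_mem 𝒜 0 x⟩⟩
  have hQ : Q = ⊤ := by
    by_contra hQne
    have hmQ : m ≤ Q := le_sup_left
    have hlt : m < Q := by
      refine lt_of_le_of_ne hmQ ?_
      intro heq
      apply hx0
      have : proj 𝒜 0 x ∈ Q.toIdeal := by
        change proj 𝒜 0 x ∈ (m.toIdeal ⊔ Ideal.span {proj 𝒜 0 x})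
        exact Ideal.mem_sup_right (Ideal.subset_span rfl)
      rw [← heq] at this
      exact this
    exact hQne (hm.1.2 Q hlt)
  have h1 : (1 : R) ∈ Q.toIdeal := by
    rw [hQ, HomogeneousIdeal.toIdeal_top]
    exact Submodule.mem_top
  have h2 : Q.toIdeal ≤ J := by
    change m.toIdeal ⊔ Ideal.span {proj 𝒜 0 x} ≤ J
    exact sup_le hmJ ((Ideal.span_singleton_le_iff_mem J).2 hx0J)
  exact h2 h1

include hpos hm in
theorem height_eq_dim : (m.toIdeal.height : WithBot ℕ∞) = ringKrullDim R := by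
  haveI hmax := isMaximal 𝒜 hpos m hm
  apply le_antisymm
  · exact Ideal.height_le_ringKrullDim_of_ne_top hmax.ne_top
  · rw [ringKrullDim_le_iff_isMaximal_height_le]
    intro 𝔫 h𝔫
    haveI := h𝔫
    by_cases hnm : 𝔫 = m.toIdeal
    · rw [hnm]
    · haveI hc : (Ideal.homogeneousCore 𝒜 𝔫).toIdeal.IsPrime :=
        Ideal.IsPrime.homogeneousCore h𝔫.isPrime
      have hne : (Ideal.homogeneousCore 𝒜 𝔫).toIdeal ≠ ⊤ := hc.ne_top
      have hle : (Ideal.homogeneousCore 𝒜 𝔫).toIdeal ≤ m.toIdeal :=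
        le_of_isStarLocal 𝒜 m hm (Ideal.homogeneousCore 𝒜 𝔫) hne
      have hlt : (Ideal.homogeneousCore 𝒜 𝔫).toIdeal < m.toIdeal := by
        refine lt_of_le_of_ne hle ?_
        intro heq
        apply hnm
        have h1 : m.toIdeal ≤ 𝔫 := by
          rw [← heq]
          exact Ideal.toIdeal_homogeneousCore_le 𝒜 𝔫
        exact (hmax.eq_of_le h𝔫.ne_top h1).symm
      have h1 := Ideal.height_add_one_le_of_lt_of_isPrime hlt
      have h2 := height_le_core_add_one 𝒜 𝔫
      exact_mod_cast h2.trans h1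

end

section CM

variable {R : Type u} [CommRing R] [LocCoh.IsCohenMacaulayRing R]

theorem depth_localization_self (q : Ideal R) [hq : q.IsPrime] :
    LocCoh.depth (Localization.AtPrime q) (LocalizedModule q.primeCompl R) = q.height := by
  rw [Groth.Agent.Lib.Helper21.DepthKit.depth_congr (Groth.Agent.S6880.locSelfEquiv q)]
  haveI := LocCoh.IsCohenMacaulayRing.isCohenMacaulayLocalRing_localization (R := R) q
  have hdepth : ((LocCoh.depth (Localization.AtPrime q) (Localization.AtPrime q) : ℕ∞) :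
      WithBot ℕ∞) = ringKrullDim (Localization.AtPrime q) := by
    rw [← LocCoh.IsCohenMacaulayLocalRing.supportDim_eq_depth,
      Module.supportDim_self_eq_ringKrullDim]
  have hht : ringKrullDim (Localization.AtPrime q) = ((q.height : ℕ∞) : WithBot ℕ∞) :=
    IsLocalization.AtPrime.ringKrullDim_eq_height q _
  exact WithBot.coe_injective (hdepth.trans hht)

/-- in a Cohen–Macaulay ring, `ht I ≤ depth_I(R)`. -/
theorem height_le_idealDepth (I : Ideal R) : I.height ≤ LocCoh.idealDepth I R := by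
  rw [Groth.Agent.Lib.Helper21.DepthKit.idealDepth_eq_iInf_depth_localization]
  refine le_iInf₂ (fun q hq => ?_)
  haveI := q.isPrime
  rw [depth_localization_self q.asIdeal]
  exact Ideal.height_mono hq

theorem subsingleton_H_of_lt_height (I : Ideal R) (hI : I ≠ ⊤) (i : ℕ) (hi : (i : ℕ∞) < I.height) :
    Subsingleton (LocCoh.H I i R) := by
  apply Groth.Agent.Lib.helper11.LCKit.subsingleton_of_lt_idealDepth I i R
  · rw [smul_eq_mul, Ideal.mul_top]
    exact hI
  · exact lt_of_lt_of_le hi (height_le_idealDepth I)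

end CM

section

variable {R : Type u} [CommRing R] [LocCoh.IsCohenMacaulayRing R] (𝒜 : ℤ → AddSubgroup R)
  [GradedRing 𝒜] (hpos : ∀ n : ℤ, n < 0 → 𝒜 n = ⊥)
  (m : HomogeneousIdeal 𝒜) (hm : GrLC.IsStarLocal 𝒜 m)

end

end Groth.Agent.Lib.Helper20.GrStarLoc
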