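import Mathlib
import Groth.Prelude.Def_GrLC
import Groth.Agent.Lib.Helper26.GrProj
import Groth.Agent.Lib.Helper20.GrKit6
import Groth.Agent.Lib.Helper20.GrKit7

/-!
# Existence of *injective resolutions
-/

set_option autoImplicit false
set_option linter.unusedSectionVars false
set_option linter.unusedVariables false

namespace Groth.Agent.Lib.Helper20.GrKit

open DirectSum Groth.Agent.Lib.Helper26.GrProj

universe u

variable {ι : Type} [AddCommGroup ι] [DecidableEq ι] {R : Type u} [CommRing R]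
  (𝒜 : ι → AddSubgroup R) [GradedRing 𝒜]

/-- a chosen *injective graded module containing `C` -/
noncomputable def embQ (C : GrLC.GMod.{u} 𝒜) : GrLC.GMod.{u} 𝒜 :=
  (exists_starInj_embedding 𝒜 C.gr).choose

/-- the chosen embedding -/
noncomputable def embJ (C : GrLC.GMod.{u} 𝒜) : C.carrier →ₗ[R] (embQ 𝒜 C).carrier :=
  (exists_starInj_embedding 𝒜 C.gr).choose_spec.choose

theorem embJ_isGrHom (C : GrLC.GMod.{u} 𝒜) : GrLC.IsGrHom C.gr (embQ 𝒜 C).gr (embJ 𝒜 C) :=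
  (exists_starInj_embedding 𝒜 C.gr).choose_spec.choose_spec.1

theorem embJ_injective (C : GrLC.GMod.{u} 𝒜) : Function.Injective (embJ 𝒜 C) :=
  (exists_starInj_embedding 𝒜 C.gr).choose_spec.choose_spec.2.1

theorem embQ_isStarInj (C : GrLC.GMod.{u} 𝒜) : GrLC.IsStarInj 𝒜 (embQ 𝒜 C).gr :=
  (exists_starInj_embedding 𝒜 C.gr).choose_spec.choose_spec.2.2

theorem embJ_range_stable (C : GrLC.GMod.{u} 𝒜) (g : ι) (x : (embQ 𝒜 C).carrier)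
    (hx : x ∈ LinearMap.range (embJ 𝒜 C)) :
    proj (embQ 𝒜 C).gr g x ∈ LinearMap.range (embJ 𝒜 C) :=
  range_proj_stable C.gr (embQ 𝒜 C).gr (embJ 𝒜 C) (embJ_isGrHom 𝒜 C) g x hx

/-- the cokernel of the chosen embedding, as a graded module -/
noncomputable def cokerG (C : GrLC.GMod.{u} 𝒜) : GrLC.GMod.{u} 𝒜 :=
  { carrier := (embQ 𝒜 C).carrier ⧸ LinearMap.range (embJ 𝒜 C)
    gr := quoGr (embQ 𝒜 C).gr (LinearMap.range (embJ 𝒜 C))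
    dec := quoDecomposition (embQ 𝒜 C).gr _ (embJ_range_stable 𝒜 C)
    gsmul := quoGradedSMul 𝒜 (embQ 𝒜 C).gr _ }

/-- the quotient map onto the cokernel -/
noncomputable def mkQC (C : GrLC.GMod.{u} 𝒜) : (embQ 𝒜 C).carrier →ₗ[R] (cokerG 𝒜 C).carrier :=
  (LinearMap.range (embJ 𝒜 C)).mkQ

theorem mkQC_isGrHom (C : GrLC.GMod.{u} 𝒜) :
    GrLC.IsGrHom (embQ 𝒜 C).gr (cokerG 𝒜 C).gr (mkQC 𝒜 C) :=
  fun g x hx => mkQ_mem_quoGr (embQ 𝒜 C).gr hx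

theorem ker_mkQC (C : GrLC.GMod.{u} 𝒜) : LinearMap.ker (mkQC 𝒜 C) = LinearMap.range (embJ 𝒜 C) :=
  Submodule.ker_mkQ _

theorem mkQC_surjective (C : GrLC.GMod.{u} 𝒜) : Function.Surjective (mkQC 𝒜 C) :=
  Submodule.mkQ_surjective _

/-- the differential -/
noncomputable def dC (C : GrLC.GMod.{u} 𝒜) :
    (embQ 𝒜 C).carrier →ₗ[R] (embQ 𝒜 (cokerG 𝒜 C)).carrier :=
  embJ 𝒜 (cokerG 𝒜 C) ∘ₗ mkQC 𝒜 C

theorem dC_isGrHom (C : GrLC.GMod.{u} 𝒜) :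
    GrLC.IsGrHom (embQ 𝒜 C).gr (embQ 𝒜 (cokerG 𝒜 C)).gr (dC 𝒜 C) := by
  intro g x hx
  exact embJ_isGrHom 𝒜 (cokerG 𝒜 C) g _ (mkQC_isGrHom 𝒜 C g x hx)

theorem ker_dC (C : GrLC.GMod.{u} 𝒜) : LinearMap.ker (dC 𝒜 C) = LinearMap.range (embJ 𝒜 C) := by
  rw [dC, LinearMap.ker_comp_of_ker_eq_bot _ (LinearMap.ker_eq_bot.2 (embJ_injective 𝒜 _)),
    ker_mkQC]

theorem range_dC (C : GrLC.GMod.{u} 𝒜) :
    LinearMap.range (dC 𝒜 C) = LinearMap.range (embJ 𝒜 (cokerG 𝒜 C)) := by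
  rw [dC, LinearMap.range_comp_of_range_eq_top _ (LinearMap.range_eq_top.2 (mkQC_surjective 𝒜 C))]

/-- the successive cokernels -/
noncomputable def stage (C : GrLC.GMod.{u} 𝒜) : ℕ → GrLC.GMod.{u} 𝒜
  | 0 => C
  | n + 1 => cokerG 𝒜 (stage C n)

variable {M : Type u} [AddCommGroup M] [Module R M] (ℳ : ι → AddSubgroup M)
  [DirectSum.Decomposition ℳ] [SetLike.GradedSMul 𝒜 ℳ]

/-- a *injective resolution -/
noncomputable def starInjRes : GrLC.StarInjRes 𝒜 ℳ where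
  X n := embQ 𝒜 (stage 𝒜 (GrLC.GMod.of 𝒜 M ℳ) n)
  d n := dC 𝒜 (stage 𝒜 (GrLC.GMod.of 𝒜 M ℳ) n)
  ε := embJ 𝒜 (GrLC.GMod.of 𝒜 M ℳ)
  d_grHom n := dC_isGrHom 𝒜 _
  ε_grHom := embJ_isGrHom 𝒜 (GrLC.GMod.of 𝒜 M ℳ)
  ε_injective := embJ_injective 𝒜 _
  exact_zero := ker_dC 𝒜 _
  exact_succ n := (ker_dC 𝒜 (stage 𝒜 (GrLC.GMod.of 𝒜 M ℳ) (n + 1))).trans
    (range_dC 𝒜 (stage 𝒜 (GrLC.GMod.of 𝒜 M ℳ) n)).symm
  starInj n := embQ_isStarInj 𝒜 _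

theorem nonempty_starInjRes : Nonempty (GrLC.StarInjRes 𝒜 ℳ) := ⟨starInjRes 𝒜 ℳ⟩

end Groth.Agent.Lib.Helper20.GrKit
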