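import Mathlib
import Groth.Prelude.Def_GrLC
import Groth.Agent.Lib.Helper26.GrProj
import Groth.Agent.Lib.Helper20.GrKit1
import Groth.Agent.Lib.Helper20.GrKit7

/-!
# Graded homological algebra by hand, I: the extension lemma and products

* `exists_extension`: a homogeneous map `h : A → I` into a *injective module extends along any
  homogeneous map `g : A → B` with `ker g ≤ ker h`.
* `prodGr`: the grading on a binary product; products of *injectives are *injective.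
-/

set_option autoImplicit false
set_option linter.unusedSectionVars false
set_option linter.unusedVariables false

namespace Groth.Agent.Lib.Helper20.GrLES

open DirectSum Groth.Agent.Lib.Helper26.GrProj Groth.Agent.Lib.Helper20.GrKit

universe u

variable {ι : Type} [AddCommGroup ι] [DecidableEq ι] {R : Type u} [CommRing R]
  (𝒜 : ι → AddSubgroup R) [GradedRing 𝒜]

/-- extension along an arbitrary graded map, given the kernel condition -/
theorem exists_extension {A B : GrLC.GMod.{u} 𝒜} {I : Type u} [AddCommGroup I] [Module R I]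
    (ℐ : ι → AddSubgroup I) [DirectSum.Decomposition ℐ] [SetLike.GradedSMul 𝒜 ℐ]
    (hI : GrLC.IsStarInj 𝒜 ℐ)
    (g : A.carrier →ₗ[R] B.carrier) (hg : GrLC.IsGrHom A.gr B.gr g)
    (h : A.carrier →ₗ[R] I) (hh : GrLC.IsGrHom A.gr ℐ h)
    (hker : LinearMap.ker g ≤ LinearMap.ker h) :
    ∃ k : B.carrier →ₗ[R] I, GrLC.IsGrHom B.gr ℐ k ∧ k ∘ₗ g = h := by
  classical
  let P : Submodule R B.carrier := LinearMap.range g
  have hP : ∀ j x, x ∈ P → proj B.gr j x ∈ P := range_proj_stable A.gr B.gr g hg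
  letI : DirectSum.Decomposition (subGr B.gr P) := subDecomposition B.gr P hP
  let PG : GrLC.GMod.{u} 𝒜 := { carrier := P, gr := subGr B.gr P }
  let hbar : P →ₗ[R] I := (Submodule.liftQ (LinearMap.ker g) h hker) ∘ₗ
    (LinearMap.quotKerEquivRange g).symm.toLinearMap
  have hbar_apply : ∀ a, hbar ⟨g a, ⟨a, rfl⟩⟩ = h a := by
    intro a
    have h1 : (LinearMap.quotKerEquivRange g).symm ⟨g a, ⟨a, rfl⟩⟩ =
        Submodule.Quotient.mk a := by
      rw [LinearEquiv.symm_apply_eq]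
      rfl
    change Submodule.liftQ (LinearMap.ker g) h hker
      ((LinearMap.quotKerEquivRange g).symm ⟨g a, ⟨a, rfl⟩⟩) = h a
    rw [h1]
    rfl
  have hbar_gr : GrLC.IsGrHom PG.gr ℐ hbar := by
    intro j y hy
    obtain ⟨a, ha⟩ := y.2
    have hy' : (y : B.carrier) ∈ B.gr j := hy
    have e1 : g (proj A.gr j a) = (y : B.carrier) := by
      rw [← proj_hom A.gr B.gr g hg j a, ha]
      exact proj_of_mem_same B.gr hy'
    have e2 : y = ⟨g (proj A.gr j a), ⟨_, rfl⟩⟩ := Subtype.ext e1.symm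
    rw [e2, hbar_apply]
    exact hh j _ (proj_mem A.gr j a)
  obtain ⟨k, hk1, hk2⟩ := hI PG B P.subtype (fun j y hy => hy) (Submodule.subtype_injective P)
    hbar hbar_gr
  refine ⟨k, hk1, ?_⟩
  ext a
  have := LinearMap.congr_fun hk2 ⟨g a, ⟨a, rfl⟩⟩
  rw [LinearMap.comp_apply] at this ⊢
  rw [← hbar_apply a, ← this]
  rfl

section Prod

variable {X Y : Type u} [AddCommGroup X] [Module R X] [AddCommGroup Y] [Module R Y]
  (𝒳 : ι → AddSubgroup X) (𝒴 : ι → AddSubgroup Y)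

/-- the grading on a product -/
def prodGr : ι → AddSubgroup (X × Y) := fun g => (𝒳 g).prod (𝒴 g)

theorem mem_prodGr {g : ι} {z : X × Y} : z ∈ prodGr 𝒳 𝒴 g ↔ z.1 ∈ 𝒳 g ∧ z.2 ∈ 𝒴 g := Iff.rfl

variable [DirectSum.Decomposition 𝒳] [DirectSum.Decomposition 𝒴]

/-- componentwise projections -/
def prodProj (g : ι) : (X × Y) →+ (X × Y) where
  toFun z := (proj 𝒳 g z.1, proj 𝒴 g z.2)
  map_zero' := Prod.ext (proj_zero 𝒳 g) (proj_zero 𝒴 g)
  map_add' z w := Prod.ext (proj_add 𝒳 g z.1 w.1) (proj_add 𝒴 g z.2 w.2)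

theorem prod_h4 (z : X × Y) : ∃ s : Finset ι, z = ∑ g ∈ s, prodProj 𝒳 𝒴 g z := by
  classical
  refine ⟨(DirectSum.decompose 𝒳 z.1).support ∪ (DirectSum.decompose 𝒴 z.2).support, ?_⟩
  apply Prod.ext
  · rw [Prod.fst_sum]
    change z.1 = ∑ g ∈ _, proj 𝒳 g z.1
    rw [← Finset.sum_subset (s₁ := (DirectSum.decompose 𝒳 z.1).support) Finset.subset_union_left]
    · exact (sum_proj 𝒳 z.1).symm
    · intro g _ hg
      exact proj_eq_zero_of_notMem 𝒳 hg
  · rw [Prod.snd_sum]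
    change z.2 = ∑ g ∈ _, proj 𝒴 g z.2
    rw [← Finset.sum_subset (s₁ := (DirectSum.decompose 𝒴 z.2).support) Finset.subset_union_right]
    · exact (sum_proj 𝒴 z.2).symm
    · intro g _ hg
      exact proj_eq_zero_of_notMem 𝒴 hg

theorem prod_isInternal : DirectSum.IsInternal (prodGr 𝒳 𝒴) :=
  isInternal_of_proj (prodGr 𝒳 𝒴) (prodProj 𝒳 𝒴)
    (fun g z => ⟨proj_mem 𝒳 g z.1, proj_mem 𝒴 g z.2⟩)
    (fun g z hz => Prod.ext (proj_of_mem_same 𝒳 hz.1) (proj_of_mem_same 𝒴 hz.2))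
    (fun g h z hz hne => Prod.ext (proj_of_mem_ne 𝒳 hz.1 hne) (proj_of_mem_ne 𝒴 hz.2 hne))
    (prod_h4 𝒳 𝒴)

noncomputable instance prodDecomposition : DirectSum.Decomposition (prodGr 𝒳 𝒴) :=
  (prod_isInternal 𝒳 𝒴).chooseDecomposition

theorem proj_prodGr (g : ι) (z : X × Y) :
    proj (prodGr 𝒳 𝒴) g z = (proj 𝒳 g z.1, proj 𝒴 g z.2) := by
  have := proj_eq_of_proj (prodGr 𝒳 𝒴) (prodProj 𝒳 𝒴)
    (fun g z => ⟨proj_mem 𝒳 g z.1, proj_mem 𝒴 g z.2⟩)
    (fun g h z hz hne => Prod.ext (proj_of_mem_ne 𝒳 hz.1 hne) (proj_of_mem_ne 𝒴 hz.2 hne))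
    (prod_h4 𝒳 𝒴) g z
  rw [this]; rfl

instance prodGradedSMul [SetLike.GradedSMul 𝒜 𝒳] [SetLike.GradedSMul 𝒜 𝒴] :
    SetLike.GradedSMul 𝒜 (prodGr 𝒳 𝒴) where
  smul_mem := by
    intro i k r z hr hz
    exact ⟨SetLike.GradedSMul.smul_mem (A := 𝒜) (B := 𝒳) hr hz.1,
      SetLike.GradedSMul.smul_mem (A := 𝒜) (B := 𝒴) hr hz.2⟩

variable [SetLike.GradedSMul 𝒜 𝒳] [SetLike.GradedSMul 𝒜 𝒴]

theorem prod_isStarInj (hX : GrLC.IsStarInj 𝒜 𝒳) (hY : GrLC.IsStarInj 𝒜 𝒴) :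
    GrLC.IsStarInj 𝒜 (prodGr 𝒳 𝒴) := by
  intro A B f hf hfi g hg
  obtain ⟨k1, hk1, e1⟩ := hX A B f hf hfi ((LinearMap.fst R X Y) ∘ₗ g)
    (fun j a ha => (hg j a ha).1)
  obtain ⟨k2, hk2, e2⟩ := hY A B f hf hfi ((LinearMap.snd R X Y) ∘ₗ g)
    (fun j a ha => (hg j a ha).2)
  refine ⟨k1.prod k2, fun j b hb => ⟨hk1 j b hb, hk2 j b hb⟩, ?_⟩
  ext a
  · exact LinearMap.congr_fun e1 a
  · exact LinearMap.congr_fun e2 a

end Prod

/-- the product of two graded modules -/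
noncomputable def gprod (A B : GrLC.GMod.{u} 𝒜) : GrLC.GMod.{u} 𝒜 :=
  { carrier := A.carrier × B.carrier
    gr := prodGr A.gr B.gr }

end Groth.Agent.Lib.Helper20.GrLES
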