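import Mathlib
import Groth.Prelude.Def_GrLC
import Groth.Agent.Lib.Helper26.GrProj
import Groth.Agent.Lib.Helper20.GrLES1

/-!
# Graded homological algebra by hand, II: chain maps of *injective resolutions, induced maps
on graded local cohomology, homotopies
-/

set_option autoImplicit false
set_option linter.unusedSectionVars false
set_option linter.unusedVariables false

namespace Groth.Agent.Lib.Helper20.GrLES

open DirectSum Groth.Agent.Lib.Helper26.GrProj Groth.Agent.Lib.Helper20.GrKit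

universe u

variable {ι : Type} [AddCommGroup ι] [DecidableEq ι] {R : Type u} [CommRing R]
  {𝒜 : ι → AddSubgroup R} [GradedRing 𝒜]

section Basic

variable {M : Type u} [AddCommGroup M] [Module R M] {ℳ : ι → AddSubgroup M}
  [DirectSum.Decomposition ℳ] [SetLike.GradedSMul 𝒜 ℳ] (E : GrLC.StarInjRes 𝒜 ℳ)

theorem d_comp (n : ℕ) (x : (E.X n).carrier) : E.d (n + 1) (E.d n x) = 0 := by
  have : E.d n x ∈ LinearMap.ker (E.d (n + 1)) := by
    rw [E.exact_succ n]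
    exact ⟨x, rfl⟩
  exact this

theorem d_eps (m : M) : E.d 0 (E.ε m) = 0 := by
  have : E.ε m ∈ LinearMap.ker (E.d 0) := by
    rw [E.exact_zero]
    exact ⟨m, rfl⟩
  exact this

theorem mem_cobdy_zero (a : HomogeneousIdeal 𝒜) (x : (E.X 0).carrier) :
    x ∈ E.cobdy a 0 ↔ x = 0 := Submodule.mem_bot R

theorem mem_cobdy_succ (a : HomogeneousIdeal 𝒜) (n : ℕ) (x : (E.X (n + 1)).carrier) :
    x ∈ E.cobdy a (n + 1) ↔ ∃ y ∈ GrLC.gam a.toIdeal (E.X n).carrier, E.d n y = x := Iff.rfl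

theorem mem_cocyc (a : HomogeneousIdeal 𝒜) (i : ℕ) (x : (E.X i).carrier) :
    x ∈ E.cocyc a i ↔ x ∈ GrLC.gam a.toIdeal (E.X i).carrier ∧ E.d i x = 0 := Iff.rfl

theorem toH_eq_zero_iff (a : HomogeneousIdeal 𝒜) (i : ℕ) (z : E.cocyc a i) :
    E.toH a i z = 0 ↔ (z : (E.X i).carrier) ∈ E.cobdy a i := by
  rw [Submodule.mkQ_apply, Submodule.Quotient.mk_eq_zero]
  rfl

theorem toH_eq_iff (a : HomogeneousIdeal 𝒜) (i : ℕ) (z w : E.cocyc a i) :
    E.toH a i z = E.toH a i w ↔ (z : (E.X i).carrier) - w ∈ E.cobdy a i := by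
  rw [← sub_eq_zero, ← map_sub, toH_eq_zero_iff]
  rfl

theorem toH_surjective (a : HomogeneousIdeal 𝒜) (i : ℕ) : Function.Surjective (E.toH a i) :=
  Submodule.mkQ_surjective _

theorem mem_Hcomp (a : HomogeneousIdeal 𝒜) (i : ℕ) (g : ι) (x : E.H a i) :
    x ∈ E.Hcomp a i g ↔ ∃ z : E.cocyc a i, (z : (E.X i).carrier) ∈ (E.X i).gr g ∧
      E.toH a i z = x := Iff.rfl

theorem mem_Hgr (a : HomogeneousIdeal 𝒜) (i : ℕ) (g : ι) (x : E.H a i) :
    x ∈ E.Hgr a i g ↔ ∃ z : E.cocyc a i, (z : (E.X i).carrier) ∈ (E.X i).gr g ∧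
      E.toH a i z = x := Iff.rfl

end Basic

theorem map_mem_gam {X Y : Type u} [AddCommGroup X] [Module R X] [AddCommGroup Y] [Module R Y]
    (f : X →ₗ[R] Y) (a : Ideal R) {x : X} (hx : x ∈ GrLC.gam a X) : f x ∈ GrLC.gam a Y := by
  obtain ⟨n, hn⟩ := hx
  exact ⟨n, fun r hr => by rw [← map_smul, hn r hr, map_zero]⟩

variable {M : Type u} [AddCommGroup M] [Module R M] {ℳ : ι → AddSubgroup M}
  [DirectSum.Decomposition ℳ] [SetLike.GradedSMul 𝒜 ℳ]
  {N : Type u} [AddCommGroup N] [Module R N] {𝒩 : ι → AddSubgroup N}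
  [DirectSum.Decomposition 𝒩] [SetLike.GradedSMul 𝒜 𝒩]
  {L : Type u} [AddCommGroup L] [Module R L] {ℒ : ι → AddSubgroup L}
  [DirectSum.Decomposition ℒ] [SetLike.GradedSMul 𝒜 ℒ]

/-- a homogeneous chain map between *injective resolutions -/
structure CMap (E : GrLC.StarInjRes 𝒜 ℳ) (F : GrLC.StarInjRes 𝒜 𝒩) where
  f : ∀ n : ℕ, (E.X n).carrier →ₗ[R] (F.X n).carrier
  f_grHom : ∀ n, GrLC.IsGrHom (E.X n).gr (F.X n).gr (f n)
  comm : ∀ n x, F.d n (f n x) = f (n + 1) (E.d n x)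

namespace CMap

variable {E : GrLC.StarInjRes 𝒜 ℳ} {F : GrLC.StarInjRes 𝒜 𝒩} {G : GrLC.StarInjRes 𝒜 ℒ}

/-- identity -/
def id (E : GrLC.StarInjRes 𝒜 ℳ) : CMap E E where
  f n := LinearMap.id
  f_grHom n := fun g x hx => hx
  comm n x := rfl

/-- composition -/
def comp (ψ : CMap F G) (φ : CMap E F) : CMap E G where
  f n := ψ.f n ∘ₗ φ.f n
  f_grHom n := fun g x hx => ψ.f_grHom n g _ (φ.f_grHom n g x hx)
  comm n x := by
    rw [LinearMap.comp_apply, ψ.comm, φ.comm]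
    rfl

variable (φ : CMap E F) (a : HomogeneousIdeal 𝒜)

theorem map_mem_cocyc (i : ℕ) {x : (E.X i).carrier} (hx : x ∈ E.cocyc a i) :
    φ.f i x ∈ F.cocyc a i := by
  refine ⟨map_mem_gam _ _ hx.1, ?_⟩
  have h2 : E.d i x = 0 := hx.2
  change F.d i (φ.f i x) = 0
  rw [φ.comm, h2, map_zero]

theorem map_mem_cobdy (i : ℕ) {x : (E.X i).carrier} (hx : x ∈ E.cobdy a i) :
    φ.f i x ∈ F.cobdy a i := by
  cases i with
  | zero =>
    rw [mem_cobdy_zero] at hx ⊢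
    rw [hx, map_zero]
  | succ n =>
    rw [mem_cobdy_succ] at hx ⊢
    obtain ⟨y, hy, rfl⟩ := hx
    exact ⟨φ.f n y, map_mem_gam _ _ hy, φ.comm n y⟩

/-- the map on cocycles -/
def cocycMap (i : ℕ) : E.cocyc a i →ₗ[R] F.cocyc a i :=
  (φ.f i).restrict (fun x hx => φ.map_mem_cocyc a i hx)

@[simp] theorem cocycMap_coe (i : ℕ) (z : E.cocyc a i) :
    ((φ.cocycMap a i z : F.cocyc a i) : (F.X i).carrier) = φ.f i z := rfl

/-- the induced map on graded local cohomology -/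
def Hmap (i : ℕ) : E.H a i →ₗ[R] F.H a i :=
  Submodule.mapQ _ _ (φ.cocycMap a i) (fun z hz => by
    rw [Submodule.mem_comap] at hz ⊢
    exact φ.map_mem_cobdy a i hz)

theorem Hmap_toH (i : ℕ) (z : E.cocyc a i) :
    φ.Hmap a i (E.toH a i z) = F.toH a i (φ.cocycMap a i z) := rfl

theorem Hmap_isGrHom (i : ℕ) : GrLC.IsGrHom (E.Hgr a i) (F.Hgr a i) (φ.Hmap a i) := by
  rintro g x ⟨z, hz, rfl⟩
  exact ⟨φ.cocycMap a i z, φ.f_grHom i g _ hz, rfl⟩

theorem Hmap_id (i : ℕ) : (CMap.id E).Hmap a i = LinearMap.id := by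
  apply LinearMap.ext
  intro x
  obtain ⟨z, rfl⟩ := toH_surjective E a i x
  rfl

theorem Hmap_comp (ψ : CMap F G) (i : ℕ) :
    (ψ.comp φ).Hmap a i = ψ.Hmap a i ∘ₗ φ.Hmap a i := by
  apply LinearMap.ext
  intro x
  obtain ⟨z, rfl⟩ := toH_surjective E a i x
  rfl

/-- homotopic chain maps induce the same map -/
theorem Hmap_eq_of_homotopy (φ ψ : CMap E F)
    (s : ∀ n : ℕ, (E.X (n + 1)).carrier →ₗ[R] (F.X n).carrier)
    (h0 : ∀ x, φ.f 0 x - ψ.f 0 x = s 0 (E.d 0 x))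
    (hs : ∀ n x, φ.f (n + 1) x - ψ.f (n + 1) x = F.d n (s n x) + s (n + 1) (E.d (n + 1) x))
    (i : ℕ) : φ.Hmap a i = ψ.Hmap a i := by
  apply LinearMap.ext
  intro x
  obtain ⟨z, rfl⟩ := toH_surjective E a i x
  rw [Hmap_toH, Hmap_toH, toH_eq_iff]
  have hz2 : E.d i (z : (E.X i).carrier) = 0 := z.2.2
  cases i with
  | zero =>
    rw [mem_cobdy_zero]
    change φ.f 0 z - ψ.f 0 z = 0
    rw [h0, hz2, map_zero]
  | succ n =>
    rw [mem_cobdy_succ]
    refine ⟨s n z, map_mem_gam _ _ z.2.1, ?_⟩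
    change _ = φ.f (n + 1) z - ψ.f (n + 1) z
    rw [hs, hz2, map_zero, add_zero]

end CMap

end Groth.Agent.Lib.Helper20.GrLES
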