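import Mathlib
import Groth.Prelude.Def_GrLC
import Groth.Agent.Lib.Helper26.GrProj
import Groth.Agent.Lib.Helper20.GrLES2

/-!
# Graded homological algebra by hand, III: the comparison theorem
-/

set_option autoImplicit false
set_option linter.unusedSectionVars false
set_option linter.unusedVariables false

namespace Groth.Agent.Lib.Helper20.GrLES

open DirectSum Groth.Agent.Lib.Helper26.GrProj Groth.Agent.Lib.Helper20.GrKit

universe u v

/-- dependent choice -/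
theorem exists_seq {S : ℕ → Type v} (b : S 0) (Rel : ∀ n, S n → S (n + 1) → Prop)
    (h : ∀ n p, ∃ q, Rel n p q) : ∃ s : ∀ n, S n, s 0 = b ∧ ∀ n, Rel n (s n) (s (n + 1)) := by
  classical
  choose step hstep using h
  refine ⟨fun n => Nat.rec b (fun n p => step n p) n, rfl, fun n => ?_⟩
  exact hstep n _

variable {ι : Type} [AddCommGroup ι] [DecidableEq ι] {R : Type u} [CommRing R]
  {𝒜 : ι → AddSubgroup R} [GradedRing 𝒜]
  {M : Type u} [AddCommGroup M] [Module R M] {ℳ : ι → AddSubgroup M}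
  [DirectSum.Decomposition ℳ] [SetLike.GradedSMul 𝒜 ℳ]
  {N : Type u} [AddCommGroup N] [Module R N] {𝒩 : ι → AddSubgroup N}
  [DirectSum.Decomposition 𝒩] [SetLike.GradedSMul 𝒜 𝒩]

/-- existence of a lift of a homogeneous map to the resolutions -/
theorem exists_lift (E : GrLC.StarInjRes 𝒜 ℳ) (F : GrLC.StarInjRes 𝒜 𝒩) (f : M →ₗ[R] N)
    (hf : GrLC.IsGrHom ℳ 𝒩 f) : ∃ φ : CMap E F, ∀ m, φ.f 0 (E.ε m) = F.ε (f m) := by
  classical
  -- the stage
  let S : ℕ → Type u := fun n =>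
    {φ : (E.X n).carrier →ₗ[R] (F.X n).carrier // GrLC.IsGrHom (E.X n).gr (F.X n).gr φ ∧
      ∀ x, E.d n x = 0 → F.d n (φ x) = 0}
  -- base
  obtain ⟨φ0, hφ0, e0⟩ := exists_extension 𝒜 (A := GrLC.GMod.of 𝒜 M ℳ) (B := E.X 0) (F.X 0).gr
    (F.starInj 0) E.ε E.ε_grHom (F.ε ∘ₗ f) (fun g m hm => F.ε_grHom g _ (hf g m hm))
    (by
      intro x hx
      have hx' : E.ε (x : M) = 0 := hx
      have hx0 : (x : M) = 0 := E.ε_injective (hx'.trans (map_zero E.ε).symm)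
      have h3 : (F.ε ∘ₗ f) (x : M) = 0 := (congrArg (F.ε ∘ₗ f) hx0).trans (map_zero _)
      exact h3)
  have e0' : ∀ m, φ0 (E.ε m) = F.ε (f m) := fun m => LinearMap.congr_fun e0 m
  have hb : ∀ x, E.d 0 x = 0 → F.d 0 (φ0 x) = 0 := by
    intro x hx
    have : x ∈ LinearMap.range E.ε := by
      rw [← E.exact_zero]
      exact hx
    obtain ⟨m, rfl⟩ := this
    rw [e0', d_eps]
  let b : S 0 := ⟨φ0, hφ0, hb⟩
  obtain ⟨s, hs0, hs⟩ := exists_seq (S := S) b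
    (fun n p q => ∀ x, q.1 (E.d n x) = F.d n (p.1 x))
    (by
      intro n p
      obtain ⟨k, hk, ek⟩ := exists_extension 𝒜 (A := E.X n) (B := E.X (n + 1)) (F.X (n + 1)).gr
        (F.starInj (n + 1)) (E.d n) (E.d_grHom n) (F.d n ∘ₗ p.1)
        (fun g x hx => F.d_grHom n g _ (p.2.1 g x hx))
        (fun x hx => p.2.2 x hx)
      have ek' : ∀ x, k (E.d n x) = F.d n (p.1 x) := fun x => LinearMap.congr_fun ek x
      refine ⟨⟨k, hk, ?_⟩, ek'⟩
      intro x hx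
      have : x ∈ LinearMap.range (E.d n) := by
        rw [← E.exact_succ n]
        exact hx
      obtain ⟨y, rfl⟩ := this
      rw [ek', d_comp])
  refine ⟨⟨fun n => (s n).1, fun n => (s n).2.1, fun n x => (hs n x).symm⟩, ?_⟩
  intro m
  change (s 0).1 (E.ε m) = _
  rw [hs0]
  exact e0' m

/-- two lifts agreeing on the augmentation are homotopic, hence induce the same map -/
theorem Hmap_eq_of_eps (E : GrLC.StarInjRes 𝒜 ℳ) (F : GrLC.StarInjRes 𝒜 𝒩) (φ ψ : CMap E F)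
    (h : ∀ m, φ.f 0 (E.ε m) = ψ.f 0 (E.ε m)) (a : HomogeneousIdeal 𝒜) (i : ℕ) :
    φ.Hmap a i = ψ.Hmap a i := by
  classical
  let S : ℕ → Type u := fun n =>
    {s : (E.X (n + 1)).carrier →ₗ[R] (F.X n).carrier //
      GrLC.IsGrHom (E.X (n + 1)).gr (F.X n).gr s ∧
      ∀ y, F.d n (s (E.d n y)) = φ.f (n + 1) (E.d n y) - ψ.f (n + 1) (E.d n y)}
  -- base
  obtain ⟨s0, hs0, e0⟩ := exists_extension 𝒜 (A := E.X 0) (B := E.X 1) (F.X 0).gr
    (F.starInj 0) (E.d 0) (E.d_grHom 0) (φ.f 0 - ψ.f 0)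
    (fun g x hx => sub_mem (φ.f_grHom 0 g x hx) (ψ.f_grHom 0 g x hx))
    (by
      intro x hx
      have : x ∈ LinearMap.range E.ε := by
        rw [← E.exact_zero]
        exact hx
      obtain ⟨m, rfl⟩ := this
      rw [LinearMap.mem_ker, LinearMap.sub_apply, h m, sub_self])
  have e0' : ∀ x, s0 (E.d 0 x) = φ.f 0 x - ψ.f 0 x := fun x => LinearMap.congr_fun e0 x
  let b : S 0 := ⟨s0, hs0, fun y => by
    rw [e0', map_sub, φ.comm, ψ.comm]⟩
  obtain ⟨s, hsb, hs⟩ := exists_seq (S := S) b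
    (fun n p q => ∀ x, q.1 (E.d (n + 1) x) = φ.f (n + 1) x - ψ.f (n + 1) x - F.d n (p.1 x))
    (by
      intro n p
      obtain ⟨k, hk, ek⟩ := exists_extension 𝒜 (A := E.X (n + 1)) (B := E.X (n + 1 + 1))
        (F.X (n + 1)).gr (F.starInj (n + 1)) (E.d (n + 1)) (E.d_grHom (n + 1))
        (φ.f (n + 1) - ψ.f (n + 1) - F.d n ∘ₗ p.1)
        (fun g x hx => sub_mem (sub_mem (φ.f_grHom (n + 1) g x hx) (ψ.f_grHom (n + 1) g x hx))
          (F.d_grHom n g _ (p.2.1 g x hx)))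
        (by
          intro x hx
          have : x ∈ LinearMap.range (E.d n) := by
            rw [← E.exact_succ n]
            exact hx
          obtain ⟨y, rfl⟩ := this
          rw [LinearMap.mem_ker, LinearMap.sub_apply, LinearMap.sub_apply, LinearMap.comp_apply,
            p.2.2 y, sub_self])
      have ek' : ∀ x, k (E.d (n + 1) x) = φ.f (n + 1) x - ψ.f (n + 1) x - F.d n (p.1 x) :=
        fun x => LinearMap.congr_fun ek x
      refine ⟨⟨k, hk, ?_⟩, ek'⟩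
      intro y
      rw [ek', map_sub, map_sub, d_comp, sub_zero, φ.comm, ψ.comm])
  refine CMap.Hmap_eq_of_homotopy a φ ψ (fun n => (s n).1) ?_ ?_ i
  · intro x
    rw [hsb]
    exact (e0' x).symm
  · intro n x
    rw [hs n x]
    abel

/-- two lifts of the same map induce the same map -/
theorem Hmap_unique (E : GrLC.StarInjRes 𝒜 ℳ) (F : GrLC.StarInjRes 𝒜 𝒩) (f : M →ₗ[R] N)
    (φ ψ : CMap E F) (hφ : ∀ m, φ.f 0 (E.ε m) = F.ε (f m))
    (hψ : ∀ m, ψ.f 0 (E.ε m) = F.ε (f m)) (a : HomogeneousIdeal 𝒜) (i : ℕ) :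
    φ.Hmap a i = ψ.Hmap a i :=
  Hmap_eq_of_eps E F φ ψ (fun m => by rw [hφ, hψ]) a i

/-- a lift of an isomorphism induces an isomorphism -/
theorem Hmap_bijective (E : GrLC.StarInjRes 𝒜 ℳ) (F : GrLC.StarInjRes 𝒜 𝒩) (f : M ≃ₗ[R] N)
    (hf : GrLC.IsGrHom ℳ 𝒩 f.toLinearMap) (hf' : GrLC.IsGrHom 𝒩 ℳ f.symm.toLinearMap)
    (φ : CMap E F) (hφ : ∀ m, φ.f 0 (E.ε m) = F.ε (f m)) (a : HomogeneousIdeal 𝒜) (i : ℕ) :
    Function.Bijective (φ.Hmap a i) := by
  obtain ⟨ψ, hψ⟩ := exists_lift F E f.symm.toLinearMap hf'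
  have h1 : (ψ.comp φ).Hmap a i = (CMap.id E).Hmap a i := by
    apply Hmap_eq_of_eps
    intro m
    change ψ.f 0 (φ.f 0 (E.ε m)) = E.ε m
    rw [hφ, hψ]
    change E.ε (f.symm (f m)) = _
    rw [LinearEquiv.symm_apply_apply]
  have h2 : (φ.comp ψ).Hmap a i = (CMap.id F).Hmap a i := by
    apply Hmap_eq_of_eps
    intro m
    change φ.f 0 (ψ.f 0 (F.ε m)) = F.ε m
    rw [hψ, hφ]
    change F.ε (f (f.symm m)) = _
    rw [LinearEquiv.apply_symm_apply]
  rw [CMap.Hmap_comp, CMap.Hmap_id] at h1 h2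
  constructor
  · intro x y hxy
    have := congrArg (ψ.Hmap a i) hxy
    rw [← LinearMap.comp_apply, ← LinearMap.comp_apply, h1] at this
    exact this
  · intro y
    refine ⟨ψ.Hmap a i y, ?_⟩
    rw [← LinearMap.comp_apply, h2]
    rfl

/-- independence of the resolution -/
theorem exists_comparison (E E' : GrLC.StarInjRes 𝒜 ℳ) (a : HomogeneousIdeal 𝒜) (i : ℕ) :
    ∃ e : E.H a i ≃ₗ[R] E'.H a i, GrLC.IsGrHom (E.Hgr a i) (E'.Hgr a i) e.toLinearMap ∧
      GrLC.IsGrHom (E'.Hgr a i) (E.Hgr a i) e.symm.toLinearMap := by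
  obtain ⟨φ, hφ⟩ := exists_lift E E' LinearMap.id (fun g x hx => hx)
  obtain ⟨ψ, hψ⟩ := exists_lift E' E LinearMap.id (fun g x hx => hx)
  have h1 : (ψ.comp φ).Hmap a i = (CMap.id E).Hmap a i := by
    apply Hmap_eq_of_eps
    intro m
    change ψ.f 0 (φ.f 0 (E.ε m)) = E.ε m
    rw [hφ, LinearMap.id_apply, hψ, LinearMap.id_apply]
  have h2 : (φ.comp ψ).Hmap a i = (CMap.id E').Hmap a i := by
    apply Hmap_eq_of_eps
    intro m
    change φ.f 0 (ψ.f 0 (E'.ε m)) = E'.ε m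
    rw [hψ, LinearMap.id_apply, hφ, LinearMap.id_apply]
  rw [CMap.Hmap_comp, CMap.Hmap_id] at h1 h2
  refine ⟨LinearEquiv.ofLinearMap (φ.Hmap a i) (ψ.Hmap a i) h2 h1, φ.Hmap_isGrHom a i,
    ψ.Hmap_isGrHom a i⟩

end Groth.Agent.Lib.Helper20.GrLES
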