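import Mathlib
import Groth.Prelude.Def_GrLC
import Groth.Agent.Lib.Helper26.GrProj
import Groth.Agent.Lib.Helper20.GrLES3

/-!
# Graded homological algebra by hand, IV: the horseshoe resolution (from twisting data)
-/

set_option autoImplicit false
set_option linter.unusedSectionVars false
set_option linter.unusedVariables false

namespace Groth.Agent.Lib.Helper20.GrLES

open DirectSum Groth.Agent.Lib.Helper26.GrProj Groth.Agent.Lib.Helper20.GrKit

universe u

variable {ι : Type} [AddCommGroup ι] [DecidableEq ι] {R : Type u} [CommRing R]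
  {𝒜 : ι → AddSubgroup R} [GradedRing 𝒜]
  {M' : Type u} [AddCommGroup M'] [Module R M'] {ℳ' : ι → AddSubgroup M'}
  [DirectSum.Decomposition ℳ'] [SetLike.GradedSMul 𝒜 ℳ']
  {M : Type u} [AddCommGroup M] [Module R M] {ℳ : ι → AddSubgroup M}
  [DirectSum.Decomposition ℳ] [SetLike.GradedSMul 𝒜 ℳ]
  {M'' : Type u} [AddCommGroup M''] [Module R M''] {ℳ'' : ι → AddSubgroup M''}
  [DirectSum.Decomposition ℳ''] [SetLike.GradedSMul 𝒜 ℳ'']

/-- the twisting data of a horseshoe resolution -/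
structure HData (E' : GrLC.StarInjRes 𝒜 ℳ') (E'' : GrLC.StarInjRes 𝒜 ℳ'')
    (ℳ : ι → AddSubgroup M) (f : M' →ₗ[R] M) (π : M →ₗ[R] M'') where
  σ : M →ₗ[R] (E'.X 0).carrier
  σ_gr : GrLC.IsGrHom ℳ (E'.X 0).gr σ
  σ_f : ∀ m', σ (f m') = E'.ε m'
  θ : ∀ n : ℕ, (E''.X n).carrier →ₗ[R] (E'.X (n + 1)).carrier
  θ_gr : ∀ n, GrLC.IsGrHom (E''.X n).gr (E'.X (n + 1)).gr (θ n)
  θ_zero : ∀ m, θ 0 (E''.ε (π m)) = - E'.d 0 (σ m)
  θ_succ : ∀ n b, E'.d (n + 1) (θ n b) + θ (n + 1) (E''.d n b) = 0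

namespace HData

variable {E' : GrLC.StarInjRes 𝒜 ℳ'} {E'' : GrLC.StarInjRes 𝒜 ℳ''}
  {f : M' →ₗ[R] M} {π : M →ₗ[R] M''} (D : HData E' E'' ℳ f π)

/-- the twisted differential -/
def dT (n : ℕ) : ((E'.X n).carrier × (E''.X n).carrier) →ₗ[R]
    ((E'.X (n + 1)).carrier × (E''.X (n + 1)).carrier) :=
  ((E'.d n).coprod (D.θ n)).prod ((E''.d n) ∘ₗ LinearMap.snd R _ _)

@[simp] theorem dT_apply (n : ℕ) (z : (E'.X n).carrier × (E''.X n).carrier) :
    D.dT n z = (E'.d n z.1 + D.θ n z.2, E''.d n z.2) := rfl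

/-- the augmentation -/
def εT : M →ₗ[R] ((E'.X 0).carrier × (E''.X 0).carrier) :=
  D.σ.prod (E''.ε ∘ₗ π)

@[simp] theorem εT_apply (m : M) : D.εT m = (D.σ m, E''.ε (π m)) := rfl

variable (hf : Function.Injective f) (hπ : Function.Surjective π)
  (hex : LinearMap.ker π = LinearMap.range f) (hπg : GrLC.IsGrHom ℳ ℳ'' π)

include hf hex in
theorem εT_injective : Function.Injective D.εT := by
  rw [injective_iff_map_eq_zero]
  intro m hm
  rw [εT_apply, Prod.mk_eq_zero] at hm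
  have h1 : π m = 0 := E''.ε_injective (by rw [hm.2, map_zero])
  have h2 : m ∈ LinearMap.range f := by
    rw [← hex]
    exact h1
  obtain ⟨m', rfl⟩ := h2
  have h3 : m' = 0 := E'.ε_injective (by rw [← D.σ_f, hm.1, map_zero])
  rw [h3, map_zero]

include hπ hex in
theorem ker_dT_zero : LinearMap.ker (D.dT 0) = LinearMap.range D.εT := by
  apply le_antisymm
  · rintro ⟨x, y⟩ hz
    rw [LinearMap.mem_ker, dT_apply, Prod.mk_eq_zero] at hz
    obtain ⟨hz1, hz2⟩ := hz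
    have hy : y ∈ LinearMap.range E''.ε := by
      rw [← E''.exact_zero]
      exact hz2
    obtain ⟨m'', rfl⟩ := hy
    obtain ⟨m, rfl⟩ := hπ m''
    have hx : x - D.σ m ∈ LinearMap.range E'.ε := by
      rw [← E'.exact_zero, LinearMap.mem_ker, map_sub, sub_eq_zero]
      change E'.d 0 x + D.θ 0 (E''.ε (π m)) = 0 at hz1
      rw [D.θ_zero, ← sub_eq_add_neg, sub_eq_zero] at hz1
      exact hz1
    obtain ⟨m', hm'⟩ := hx
    refine ⟨m + f m', ?_⟩
    rw [εT_apply]
    have hπf : π (f m') = 0 := by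
      have : f m' ∈ LinearMap.ker π := by
        rw [hex]
        exact ⟨m', rfl⟩
      exact this
    apply Prod.ext
    · change D.σ (m + f m') = x
      rw [map_add, D.σ_f, hm']
      abel
    · change E''.ε (π (m + f m')) = E''.ε (π m)
      rw [map_add, hπf, add_zero]
  · rintro _ ⟨m, rfl⟩
    rw [LinearMap.mem_ker, εT_apply, dT_apply, Prod.mk_eq_zero]
    refine ⟨?_, d_eps E'' _⟩
    change E'.d 0 (D.σ m) + D.θ 0 (E''.ε (π m)) = 0
    rw [D.θ_zero, add_neg_cancel]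

theorem ker_dT_succ (n : ℕ) : LinearMap.ker (D.dT (n + 1)) = LinearMap.range (D.dT n) := by
  apply le_antisymm
  · rintro ⟨x, y⟩ hz
    rw [LinearMap.mem_ker, dT_apply, Prod.mk_eq_zero] at hz
    obtain ⟨hz1, hz2⟩ := hz
    change E'.d (n + 1) x + D.θ (n + 1) y = 0 at hz1
    change E''.d (n + 1) y = 0 at hz2
    have hy : y ∈ LinearMap.range (E''.d n) := by
      rw [← E''.exact_succ n]
      exact hz2
    obtain ⟨y0, rfl⟩ := hy
    have hx : x - D.θ n y0 ∈ LinearMap.range (E'.d n) := by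
      rw [← E'.exact_succ n, LinearMap.mem_ker, map_sub]
      have := D.θ_succ n y0
      have h4 : E'.d (n + 1) x - E'.d (n + 1) (D.θ n y0) =
        (E'.d (n + 1) x + D.θ (n + 1) (E''.d n y0)) -
          (E'.d (n + 1) (D.θ n y0) + D.θ (n + 1) (E''.d n y0)) := by abel
      rw [h4, this, hz1, sub_self]
    obtain ⟨x0, hx0⟩ := hx
    refine ⟨(x0, y0), ?_⟩
    rw [dT_apply]
    apply Prod.ext
    · change E'.d n x0 + D.θ n y0 = x
      rw [hx0]
      abel
    · rfl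
  · rintro _ ⟨⟨x, y⟩, rfl⟩
    rw [LinearMap.mem_ker, dT_apply, dT_apply, Prod.mk_eq_zero]
    refine ⟨?_, d_comp E'' n y⟩
    change E'.d (n + 1) (E'.d n x + D.θ n y) + D.θ (n + 1) (E''.d n y) = 0
    rw [map_add, d_comp, zero_add]
    exact D.θ_succ n y

include hf hπ hex hπg in
/-- the horseshoe resolution -/
noncomputable def res : GrLC.StarInjRes 𝒜 ℳ where
  X n := gprod 𝒜 (E'.X n) (E''.X n)
  d n := D.dT n
  ε := D.εT
  d_grHom n := by
    intro g z hz
    exact ⟨add_mem (E'.d_grHom n g _ hz.1) (D.θ_gr n g _ hz.2), E''.d_grHom n g _ hz.2⟩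
  ε_grHom := by
    intro g m hm
    exact ⟨D.σ_gr g m hm, E''.ε_grHom g _ (hπg g m hm)⟩
  ε_injective := D.εT_injective hf hex
  exact_zero := D.ker_dT_zero hπ hex
  exact_succ n := D.ker_dT_succ n
  starInj n := prod_isStarInj 𝒜 (E'.X n).gr (E''.X n).gr (E'.starInj n) (E''.starInj n)

end HData

end Groth.Agent.Lib.Helper20.GrLES
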