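import Mathlib
import Groth.Prelude.Def_GrLC
import Groth.Agent.Lib.Helper26.GrProj
import Groth.Agent.Lib.Helper20.GrLES4

/-!
# Graded homological algebra by hand, V: existence of horseshoe twisting data
-/

set_option autoImplicit false
set_option linter.unusedSectionVars false
set_option linter.unusedVariables false

namespace Groth.Agent.Lib.Helper20.GrLES

open DirectSum Groth.Agent.Lib.Helper26.GrProj Groth.Agent.Lib.Helper20.GrKit

universe u

variable {ι : Type} [AddCommGroup ι] [DecidableEq ι] {R : Type u} [CommRing R]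
  {𝒜 : ι → AddSubgroup R} [GradedRing 𝒜]
  {M' : Type u} [AddCommGroup M'] [Module R M'] {ℳ' : ι → AddSubgroup M'}
  [DirectSum.Decomposition ℳ'] [SetLike.GradedSMul 𝒜 ℳ']
  {M : Type u} [AddCommGroup M] [Module R M] {ℳ : ι → AddSubgroup M}
  [DirectSum.Decomposition ℳ] [SetLike.GradedSMul 𝒜 ℳ]
  {M'' : Type u} [AddCommGroup M''] [Module R M''] {ℳ'' : ι → AddSubgroup M''}
  [DirectSum.Decomposition ℳ''] [SetLike.GradedSMul 𝒜 ℳ'']

theorem nonempty_hdata (E' : GrLC.StarInjRes 𝒜 ℳ') (E'' : GrLC.StarInjRes 𝒜 ℳ'')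
    (f : M' →ₗ[R] M) (π : M →ₗ[R] M'') (hfg : GrLC.IsGrHom ℳ' ℳ f)
    (hπg : GrLC.IsGrHom ℳ ℳ'' π) (hf : Function.Injective f) (hπ : Function.Surjective π)
    (hex : LinearMap.ker π = LinearMap.range f) : Nonempty (HData E' E'' ℳ f π) := by
  classical
  -- σ
  obtain ⟨σ, hσ, eσ⟩ := exists_extension 𝒜 (A := GrLC.GMod.of 𝒜 M' ℳ') (B := GrLC.GMod.of 𝒜 M ℳ)
    (E'.X 0).gr (E'.starInj 0) f hfg E'.ε E'.ε_grHom
    (by
      intro x hx
      have hx' : f (x : M') = 0 := hx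
      have hx0 : (x : M') = 0 := hf (hx'.trans (map_zero f).symm)
      have h3 : E'.ε (x : M') = 0 := (congrArg E'.ε hx0).trans (map_zero _)
      exact h3)
  have eσ' : ∀ m', σ (f m') = E'.ε m' := fun m' => LinearMap.congr_fun eσ m'
  -- θ 0
  obtain ⟨θ0, hθ0, eθ0⟩ := exists_extension 𝒜 (A := GrLC.GMod.of 𝒜 M ℳ) (B := E''.X 0)
    (E'.X 1).gr (E'.starInj 1) (E''.ε ∘ₗ π) (fun g m hm => E''.ε_grHom g _ (hπg g m hm))
    (-(E'.d 0 ∘ₗ σ)) (fun g m hm => neg_mem (E'.d_grHom 0 g _ (hσ g m hm)))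
    (by
      intro x hx
      have hx' : E''.ε (π (x : M)) = 0 := hx
      have h1 : π (x : M) = 0 := E''.ε_injective (hx'.trans (map_zero _).symm)
      have h2 : (x : M) ∈ LinearMap.range f := by
        rw [← hex]
        exact h1
      obtain ⟨m', hm'⟩ := h2
      have h3 : (-(E'.d 0 ∘ₗ σ)) (x : M) = 0 := by
        rw [← hm', LinearMap.neg_apply, LinearMap.comp_apply, eσ', d_eps, neg_zero]
      exact h3)
  have eθ0' : ∀ m, θ0 (E''.ε (π m)) = - E'.d 0 (σ m) := fun m => LinearMap.congr_fun eθ0 m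
  let S : ℕ → Type u := fun n =>
    {θ : (E''.X n).carrier →ₗ[R] (E'.X (n + 1)).carrier //
      GrLC.IsGrHom (E''.X n).gr (E'.X (n + 1)).gr θ ∧
      ∀ b, E''.d n b = 0 → E'.d (n + 1) (θ b) = 0}
  let b0 : S 0 := ⟨θ0, hθ0, by
    intro b hb
    have : b ∈ LinearMap.range E''.ε := by
      rw [← E''.exact_zero]
      exact hb
    obtain ⟨m'', rfl⟩ := this
    obtain ⟨m, rfl⟩ := hπ m''
    rw [eθ0', map_neg, d_comp, neg_zero]⟩
  obtain ⟨s, hs0, hs⟩ := exists_seq (S := S) b0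
    (fun n p q => ∀ b, E'.d (n + 1) (p.1 b) + q.1 (E''.d n b) = 0)
    (by
      intro n p
      obtain ⟨k, hk, ek⟩ := exists_extension 𝒜 (A := E''.X n) (B := E''.X (n + 1))
        (E'.X (n + 1 + 1)).gr (E'.starInj (n + 1 + 1)) (E''.d n) (E''.d_grHom n)
        (-(E'.d (n + 1) ∘ₗ p.1))
        (fun g x hx => neg_mem (E'.d_grHom (n + 1) g _ (p.2.1 g x hx)))
        (by
          intro x hx
          rw [LinearMap.mem_ker, LinearMap.neg_apply, LinearMap.comp_apply, p.2.2 x hx, neg_zero])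
      have ek' : ∀ x, k (E''.d n x) = - E'.d (n + 1) (p.1 x) := fun x => LinearMap.congr_fun ek x
      refine ⟨⟨k, hk, ?_⟩, fun b => by rw [ek', add_neg_cancel]⟩
      intro b hb
      have : b ∈ LinearMap.range (E''.d n) := by
        rw [← E''.exact_succ n]
        exact hb
      obtain ⟨y, rfl⟩ := this
      rw [ek', map_neg, d_comp, neg_zero])
  refine ⟨⟨σ, hσ, eσ', fun n => (s n).1, fun n => (s n).2.1, ?_, fun n b => hs n b⟩⟩
  intro m
  change (s 0).1 _ = _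
  rw [hs0]
  exact eθ0' m

end Groth.Agent.Lib.Helper20.GrLES
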