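import Mathlib
import Groth.Prelude.Def_GrLC
import Groth.Agent.Lib.Helper26.GrProj
import Groth.Agent.Lib.Helper20.GrLES5

/-!
# Graded homological algebra by hand, VI: the long exact sequence of the horseshoe resolution
-/

set_option autoImplicit false
set_option linter.unusedSectionVars false
set_option linter.unusedVariables false

namespace Groth.Agent.Lib.Helper20.GrLES

open DirectSum Groth.Agent.Lib.Helper26.GrProj Groth.Agent.Lib.Helper20.GrKit

universe u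

variable {ι : Type} [AddCommGroup ι] [DecidableEq ι] {R : Type u} [CommRing R]
  {𝒜 : ι → AddSubgroup R} [GradedRing 𝒜]

theorem mem_gam_prod {X Y : Type u} [AddCommGroup X] [Module R X] [AddCommGroup Y] [Module R Y]
    (a : Ideal R) (z : X × Y) :
    z ∈ GrLC.gam a (X × Y) ↔ z.1 ∈ GrLC.gam a X ∧ z.2 ∈ GrLC.gam a Y := by
  constructor
  · intro hz
    exact ⟨map_mem_gam (LinearMap.fst R X Y) a hz, map_mem_gam (LinearMap.snd R X Y) a hz⟩
  · rintro ⟨h1, h2⟩
    have : z = LinearMap.inl R X Y z.1 + LinearMap.inr R X Y z.2 := by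
      apply Prod.ext <;> simp
    rw [this]
    exact (GrLC.gam a (X × Y)).add_mem (map_mem_gam _ a h1) (map_mem_gam _ a h2)

variable {M' : Type u} [AddCommGroup M'] [Module R M'] {ℳ' : ι → AddSubgroup M'}
  [DirectSum.Decomposition ℳ'] [SetLike.GradedSMul 𝒜 ℳ']
  {M : Type u} [AddCommGroup M] [Module R M] {ℳ : ι → AddSubgroup M}
  [DirectSum.Decomposition ℳ] [SetLike.GradedSMul 𝒜 ℳ]
  {M'' : Type u} [AddCommGroup M''] [Module R M''] {ℳ'' : ι → AddSubgroup M''}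
  [DirectSum.Decomposition ℳ''] [SetLike.GradedSMul 𝒜 ℳ'']

namespace HData

variable {E' : GrLC.StarInjRes 𝒜 ℳ'} {E'' : GrLC.StarInjRes 𝒜 ℳ''}
  {f : M' →ₗ[R] M} {π : M →ₗ[R] M''} (D : HData E' E'' ℳ f π)
  (hf : Function.Injective f) (hπ : Function.Surjective π)
  (hex : LinearMap.ker π = LinearMap.range f) (hπg : GrLC.IsGrHom ℳ ℳ'' π)

/-- the inclusion of `E'` into the horseshoe -/
def inl : CMap E' (D.res hf hπ hex hπg) where
  f n := LinearMap.inl R _ _
  f_grHom n := fun g x hx => ⟨hx, zero_mem _⟩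
  comm n x := by
    change D.dT n (x, 0) = (E'.d n x, 0)
    rw [dT_apply]
    apply Prod.ext
    · change E'.d n x + D.θ n 0 = E'.d n x
      rw [map_zero, add_zero]
    · change E''.d n 0 = 0
      rw [map_zero]

/-- the projection of the horseshoe onto `E''` -/
def pr : CMap (D.res hf hπ hex hπg) E'' where
  f n := LinearMap.snd R _ _
  f_grHom n := fun g x hx => hx.2
  comm n x := rfl

theorem inl_eps (m' : M') :
    (D.inl hf hπ hex hπg).f 0 (E'.ε m') = (D.res hf hπ hex hπg).ε (f m') := by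
  change (E'.ε m', (0 : (E''.X 0).carrier)) = (D.σ (f m'), E''.ε (π (f m')))
  have hπf : π (f m') = 0 := by
    have : f m' ∈ LinearMap.ker π := by
      rw [hex]
      exact ⟨m', rfl⟩
    exact this
  rw [D.σ_f, hπf, map_zero]

theorem pr_eps (m : M) :
    (D.pr hf hπ hex hπg).f 0 ((D.res hf hπ hex hπg).ε m) = E''.ε (π m) := rfl

variable (a : HomogeneousIdeal 𝒜)

theorem θ_mem_cocyc (i : ℕ) {b : (E''.X i).carrier} (hb : b ∈ E''.cocyc a i) :
    D.θ i b ∈ E'.cocyc a (i + 1) := by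
  refine ⟨map_mem_gam _ _ hb.1, ?_⟩
  have h2 : E''.d i b = 0 := hb.2
  have := D.θ_succ i b
  rw [h2, map_zero, add_zero] at this
  exact this

theorem θ_mem_cobdy (i : ℕ) {b : (E''.X i).carrier} (hb : b ∈ E''.cobdy a i) :
    D.θ i b ∈ E'.cobdy a (i + 1) := by
  cases i with
  | zero =>
    rw [mem_cobdy_zero] at hb
    rw [hb, map_zero]
    exact Submodule.zero_mem _
  | succ n =>
    rw [mem_cobdy_succ] at hb ⊢
    obtain ⟨y, hy, rfl⟩ := hb
    refine ⟨-(D.θ n y), Submodule.neg_mem _ (map_mem_gam _ _ hy), ?_⟩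
    rw [map_neg, neg_eq_iff_add_eq_zero]
    exact D.θ_succ n y

/-- the connecting map on cocycles -/
def cocycδ (i : ℕ) : E''.cocyc a i →ₗ[R] E'.cocyc a (i + 1) :=
  (D.θ i).restrict (fun x hx => D.θ_mem_cocyc a i hx)

/-- the connecting homomorphism -/
def δ (i : ℕ) : E''.H a i →ₗ[R] E'.H a (i + 1) :=
  Submodule.mapQ _ _ (D.cocycδ a i) (fun z hz => by
    rw [Submodule.mem_comap] at hz ⊢
    exact D.θ_mem_cobdy a i hz)

theorem δ_toH (i : ℕ) (z : E''.cocyc a i) :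
    D.δ a i (E''.toH a i z) = E'.toH a (i + 1) (D.cocycδ a i z) := rfl

theorem δ_isGrHom (i : ℕ) : GrLC.IsGrHom (E''.Hgr a i) (E'.Hgr a (i + 1)) (D.δ a i) := by
  rintro g x ⟨z, hz, rfl⟩
  exact ⟨D.cocycδ a i z, D.θ_gr i g _ hz, rfl⟩

theorem mem_cocyc_res (i : ℕ) (x1 : (E'.X i).carrier) (x2 : (E''.X i).carrier) :
    ((x1, x2) : ((D.res hf hπ hex hπg).X i).carrier) ∈ (D.res hf hπ hex hπg).cocyc a i ↔
      x1 ∈ GrLC.gam a.toIdeal (E'.X i).carrier ∧ x2 ∈ GrLC.gam a.toIdeal (E''.X i).carrier ∧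
        E'.d i x1 + D.θ i x2 = 0 ∧ E''.d i x2 = 0 := by
  constructor
  · intro h
    have h1 : ((x1, x2) : (E'.X i).carrier × (E''.X i).carrier) ∈
      GrLC.gam a.toIdeal ((E'.X i).carrier × (E''.X i).carrier) := h.1
    have h2 : D.dT i (x1, x2) = 0 := h.2
    rw [mem_gam_prod] at h1
    rw [dT_apply, Prod.mk_eq_zero] at h2
    exact ⟨h1.1, h1.2, h2.1, h2.2⟩
  · rintro ⟨g1, g2, c1, c2⟩
    have h1 : ((x1, x2) : (E'.X i).carrier × (E''.X i).carrier) ∈
        GrLC.gam a.toIdeal ((E'.X i).carrier × (E''.X i).carrier) := by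
      rw [mem_gam_prod]
      exact ⟨g1, g2⟩
    have h2 : D.dT i (x1, x2) = 0 := by
      rw [dT_apply, Prod.mk_eq_zero]
      exact ⟨c1, c2⟩
    exact ⟨h1, h2⟩

theorem mem_cobdy_res_succ (n : ℕ) (z : ((D.res hf hπ hex hπg).X (n + 1)).carrier) :
    z ∈ (D.res hf hπ hex hπg).cobdy a (n + 1) ↔
      ∃ y1 ∈ GrLC.gam a.toIdeal (E'.X n).carrier, ∃ y2 ∈ GrLC.gam a.toIdeal (E''.X n).carrier,
        ((E'.d n y1 + D.θ n y2, E''.d n y2) : (E'.X (n + 1)).carrier × (E''.X (n + 1)).carrier)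
          = z := by
  constructor
  · rintro ⟨y, hy, rfl⟩
    have hy' := (mem_gam_prod a.toIdeal (y : (E'.X n).carrier × (E''.X n).carrier)).1 hy
    exact ⟨y.1, hy'.1, y.2, hy'.2, rfl⟩
  · rintro ⟨y1, h1, y2, h2, rfl⟩
    have h3 : ((y1, y2) : (E'.X n).carrier × (E''.X n).carrier) ∈
        GrLC.gam a.toIdeal ((E'.X n).carrier × (E''.X n).carrier) := by
      rw [mem_gam_prod]
      exact ⟨h1, h2⟩
    exact ⟨(y1, y2), h3, rfl⟩

/-- exactness at the middle term -/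
theorem exact_mid (i : ℕ) :
    LinearMap.ker ((D.pr hf hπ hex hπg).Hmap a i) =
      LinearMap.range ((D.inl hf hπ hex hπg).Hmap a i) := by
  apply le_antisymm
  · intro x hx
    obtain ⟨z, rfl⟩ := toH_surjective _ a i x
    rw [LinearMap.mem_ker, CMap.Hmap_toH, toH_eq_zero_iff] at hx
    obtain ⟨⟨x1, x2⟩, hz⟩ := z
    change x2 ∈ E''.cobdy a i at hx
    have hz' := (D.mem_cocyc_res hf hπ hex hπg a i x1 x2).1 hz
    obtain ⟨g1, g2, c1, c2⟩ := hz'
    cases i with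
    | zero =>
      rw [mem_cobdy_zero] at hx
      subst hx
      rw [map_zero, add_zero] at c1
      refine ⟨E'.toH a 0 ⟨x1, g1, c1⟩, ?_⟩
      rw [CMap.Hmap_toH]
      rfl
    | succ n =>
      rw [mem_cobdy_succ] at hx
      obtain ⟨y, hy, rfl⟩ := hx
      have hc : x1 - D.θ n y ∈ E'.cocyc a (n + 1) := by
        refine ⟨Submodule.sub_mem _ g1 (map_mem_gam _ _ hy), ?_⟩
        change E'.d (n + 1) (x1 - D.θ n y) = 0
        have h3 := D.θ_succ n y
        rw [map_sub, ← c1]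
        have h4 : E'.d (n + 1) x1 - E'.d (n + 1) (D.θ n y) =
          (E'.d (n + 1) x1 + D.θ (n + 1) (E''.d n y)) -
            (E'.d (n + 1) (D.θ n y) + D.θ (n + 1) (E''.d n y)) := by abel
        rw [h4, h3, sub_zero]
      refine ⟨E'.toH a (n + 1) ⟨x1 - D.θ n y, hc⟩, ?_⟩
      rw [CMap.Hmap_toH, toH_eq_iff, mem_cobdy_res_succ]
      refine ⟨0, Submodule.zero_mem _, -y, Submodule.neg_mem _ hy, ?_⟩
      change _ = ((x1 - D.θ n y, 0) : (E'.X (n + 1)).carrier × (E''.X (n + 1)).carrier) -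
        (x1, E''.d n y)
      apply Prod.ext
      · change E'.d n 0 + D.θ n (-y) = (x1 - D.θ n y) - x1
        rw [map_zero, map_neg]
        abel
      · change E''.d n (-y) = 0 - E''.d n y
        rw [map_neg, zero_sub]
  · rintro _ ⟨x, rfl⟩
    obtain ⟨z, rfl⟩ := toH_surjective _ a i x
    rw [LinearMap.mem_ker, CMap.Hmap_toH, CMap.Hmap_toH, toH_eq_zero_iff]
    change (0 : (E''.X i).carrier) ∈ _
    exact Submodule.zero_mem _

/-- exactness at `H^i(M'')` -/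
theorem exact_right (i : ℕ) :
    LinearMap.ker (D.δ a i) = LinearMap.range ((D.pr hf hπ hex hπg).Hmap a i) := by
  apply le_antisymm
  · intro x hx
    obtain ⟨z, rfl⟩ := toH_surjective _ a i x
    rw [LinearMap.mem_ker, δ_toH, toH_eq_zero_iff, mem_cobdy_succ] at hx
    obtain ⟨a0, ha0, e0⟩ := hx
    change E'.d i a0 = D.θ i z at e0
    have hc : ((-a0, (z : (E''.X i).carrier)) : ((D.res hf hπ hex hπg).X i).carrier) ∈
        (D.res hf hπ hex hπg).cocyc a i := by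
      rw [mem_cocyc_res]
      refine ⟨Submodule.neg_mem _ ha0, z.2.1, ?_, z.2.2⟩
      rw [map_neg, e0, neg_add_cancel]
    refine ⟨(D.res hf hπ hex hπg).toH a i ⟨_, hc⟩, ?_⟩
    rw [CMap.Hmap_toH]
    rfl
  · rintro _ ⟨x, rfl⟩
    obtain ⟨z, rfl⟩ := toH_surjective _ a i x
    obtain ⟨⟨x1, x2⟩, hz⟩ := z
    obtain ⟨g1, g2, c1, c2⟩ := (D.mem_cocyc_res hf hπ hex hπg a i x1 x2).1 hz
    rw [LinearMap.mem_ker, CMap.Hmap_toH, δ_toH, toH_eq_zero_iff, mem_cobdy_succ]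
    refine ⟨-x1, Submodule.neg_mem _ g1, ?_⟩
    change _ = D.θ i x2
    rw [map_neg, neg_eq_iff_add_eq_zero]
    exact c1

/-- exactness at `H^{i+1}(M')` -/
theorem exact_left (i : ℕ) :
    LinearMap.ker ((D.inl hf hπ hex hπg).Hmap a (i + 1)) = LinearMap.range (D.δ a i) := by
  apply le_antisymm
  · intro x hx
    obtain ⟨z, rfl⟩ := toH_surjective _ a (i + 1) x
    rw [LinearMap.mem_ker, CMap.Hmap_toH, toH_eq_zero_iff, mem_cobdy_res_succ] at hx
    obtain ⟨y1, h1, y2, h2, e⟩ := hx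
    change _ = (((z : (E'.X (i + 1)).carrier), (0 : (E''.X (i + 1)).carrier))) at e
    rw [Prod.mk.injEq] at e
    obtain ⟨e1, e2⟩ := e
    refine ⟨E''.toH a i ⟨y2, h2, e2⟩, ?_⟩
    rw [δ_toH, toH_eq_iff, mem_cobdy_succ]
    refine ⟨-y1, Submodule.neg_mem _ h1, ?_⟩
    change _ = D.θ i y2 - z
    rw [← e1, map_neg]
    abel
  · rintro _ ⟨x, rfl⟩
    obtain ⟨z, rfl⟩ := toH_surjective _ a i x
    rw [LinearMap.mem_ker, δ_toH, CMap.Hmap_toH, toH_eq_zero_iff, mem_cobdy_res_succ]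
    refine ⟨0, Submodule.zero_mem _, z, z.2.1, ?_⟩
    have hz2 : E''.d i z = 0 := z.2.2
    rw [map_zero, zero_add, hz2]
    rfl

theorem inl_Hmap_zero_injective : Function.Injective ((D.inl hf hπ hex hπg).Hmap a 0) := by
  rw [injective_iff_map_eq_zero]
  intro x hx
  obtain ⟨z, rfl⟩ := toH_surjective _ a 0 x
  rw [CMap.Hmap_toH, toH_eq_zero_iff, mem_cobdy_zero] at hx
  have h1 : (z : (E'.X 0).carrier) = 0 := congrArg Prod.fst hx
  rw [toH_eq_zero_iff, mem_cobdy_zero]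
  exact h1

end HData

end Groth.Agent.Lib.Helper20.GrLES
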