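import Mathlib
import Groth.Prelude.Def_GrLC
import Groth.Agent.Lib.Helper26.GrProj
import Groth.Agent.Lib.Helper26.GrProjMain
import Groth.Agent.Lib.Helper20.GrLES6

/-!
# Graded homological algebra by hand, VII: the long exact sequence of graded local cohomology
for arbitrary *injective resolutions
-/

set_option autoImplicit false
set_option linter.unusedSectionVars false
set_option linter.unusedVariables false

namespace Groth.Agent.Lib.Helper20.GrLES

open DirectSum Groth.Agent.Lib.Helper26.GrProj Groth.Agent.Lib.Helper20.GrKit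

universe u

variable {ι : Type} [AddCommGroup ι] [DecidableEq ι] {R : Type u} [CommRing R]
  {𝒜 : ι → AddSubgroup R} [GradedRing 𝒜]

/-- homogeneous elements in the range of a homogeneous map have homogeneous preimages -/
theorem exists_homogeneous_preimage {A B : Type u} [AddCommGroup A] [Module R A] [AddCommGroup B]
    [Module R B] (𝒜A : ι → AddSubgroup A) (𝒜B : ι → AddSubgroup B)
    (hA : DirectSum.IsInternal 𝒜A) (hB : DirectSum.IsInternal 𝒜B)
    (α : A →ₗ[R] B) (hα : GrLC.IsGrHom 𝒜A 𝒜B α) (g : ι) (y : B) (hy : y ∈ 𝒜B g)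
    (hyr : y ∈ LinearMap.range α) : ∃ z ∈ 𝒜A g, α z = y := by
  classical
  letI := hA.chooseDecomposition
  letI := hB.chooseDecomposition
  obtain ⟨z0, rfl⟩ := hyr
  refine ⟨proj 𝒜A g z0, proj_mem 𝒜A g z0, ?_⟩
  rw [← proj_hom 𝒜A 𝒜B α hα g z0]
  exact proj_of_mem_same 𝒜B hy

section

variable {M : Type u} [AddCommGroup M] [Module R M] {ℳ : ι → AddSubgroup M}
  [DirectSum.Decomposition ℳ] [SetLike.GradedSMul 𝒜 ℳ]

theorem Hgr_isInternal (E : GrLC.StarInjRes 𝒜 ℳ) (a : HomogeneousIdeal 𝒜) (i : ℕ) :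
    DirectSum.IsInternal (E.Hgr a i) :=
  Groth.Agent.Lib.Helper26.GrProjMain.main R 𝒜 a M ℳ E i

end

variable {M' : Type u} [AddCommGroup M'] [Module R M'] {ℳ' : ι → AddSubgroup M'}
  [DirectSum.Decomposition ℳ'] [SetLike.GradedSMul 𝒜 ℳ']
  {M : Type u} [AddCommGroup M] [Module R M] {ℳ : ι → AddSubgroup M}
  [DirectSum.Decomposition ℳ] [SetLike.GradedSMul 𝒜 ℳ]
  {M'' : Type u} [AddCommGroup M''] [Module R M''] {ℳ'' : ι → AddSubgroup M''}
  [DirectSum.Decomposition ℳ''] [SetLike.GradedSMul 𝒜 ℳ'']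

/-- The long exact sequence of graded local cohomology, for arbitrary *injective resolutions of
the three terms of a short exact sequence of graded modules and arbitrary lifts of the maps. -/
theorem les (E' : GrLC.StarInjRes 𝒜 ℳ') (E : GrLC.StarInjRes 𝒜 ℳ) (E'' : GrLC.StarInjRes 𝒜 ℳ'')
    (f : M' →ₗ[R] M) (π : M →ₗ[R] M'') (hfg : GrLC.IsGrHom ℳ' ℳ f)
    (hπg : GrLC.IsGrHom ℳ ℳ'' π) (hf : Function.Injective f) (hπ : Function.Surjective π)
    (hex : LinearMap.ker π = LinearMap.range f) (a : HomogeneousIdeal 𝒜) :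
    ∃ δ : ∀ i : ℕ, E''.H a i →ₗ[R] E'.H a (i + 1),
      (∀ i, GrLC.IsGrHom (E''.Hgr a i) (E'.Hgr a (i + 1)) (δ i)) ∧
      ∀ (φ : CMap E' E) (ψ : CMap E E''), (∀ m', φ.f 0 (E'.ε m') = E.ε (f m')) →
        (∀ m, ψ.f 0 (E.ε m) = E''.ε (π m)) →
        (∀ i, LinearMap.ker (ψ.Hmap a i) = LinearMap.range (φ.Hmap a i)) ∧
        (∀ i, LinearMap.ker (δ i) = LinearMap.range (ψ.Hmap a i)) ∧
        (∀ i, LinearMap.ker (φ.Hmap a (i + 1)) = LinearMap.range (δ i)) ∧
        Function.Injective (φ.Hmap a 0) := by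
  obtain ⟨D⟩ := nonempty_hdata E' E'' f π hfg hπg hf hπ hex
  refine ⟨fun i => D.δ a i, fun i => D.δ_isGrHom a i, ?_⟩
  intro φ ψ hφ hψ
  set T := D.res hf hπ hex hπg with hT
  obtain ⟨c, hc⟩ := exists_lift E T LinearMap.id (fun g x hx => hx)
  have hcb : ∀ i, Function.Bijective (c.Hmap a i) := fun i =>
    Hmap_bijective E T (LinearEquiv.refl R M) (fun g x hx => hx) (fun g x hx => hx) c hc a i
  have h1 : ∀ i, (c.comp φ).Hmap a i = (D.inl hf hπ hex hπg).Hmap a i := by
    intro i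
    apply Hmap_unique E' T f
    · intro m'
      change c.f 0 (φ.f 0 (E'.ε m')) = _
      rw [hφ, hc]
      rfl
    · exact D.inl_eps hf hπ hex hπg
  have h2 : ∀ i, ((D.pr hf hπ hex hπg).comp c).Hmap a i = ψ.Hmap a i := by
    intro i
    apply Hmap_unique E E'' π
    · intro m
      change (D.pr hf hπ hex hπg).f 0 (c.f 0 (E.ε m)) = _
      rw [hc]
      exact D.pr_eps hf hπ hex hπg m
    · exact hψ
  simp only [CMap.Hmap_comp] at h1 h2
  refine ⟨fun i => ?_, fun i => ?_, fun i => ?_, ?_⟩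
  · -- middle
    ext y
    rw [LinearMap.mem_ker, ← h2 i, LinearMap.comp_apply, ← LinearMap.mem_ker,
      D.exact_mid hf hπ hex hπg a i, ← h1 i]
    constructor
    · rintro ⟨z, hz⟩
      rw [LinearMap.comp_apply] at hz
      exact ⟨z, (hcb i).1 hz⟩
    · rintro ⟨z, rfl⟩
      exact ⟨z, rfl⟩
  · -- right
    rw [D.exact_right hf hπ hex hπg a i, ← h2 i]
    ext w
    constructor
    · rintro ⟨t, rfl⟩
      obtain ⟨y, rfl⟩ := (hcb i).2 t
      exact ⟨y, rfl⟩
    · rintro ⟨y, rfl⟩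
      exact ⟨c.Hmap a i y, rfl⟩
  · -- left
    rw [← D.exact_left hf hπ hex hπg a i, ← h1 (i + 1)]
    ext z
    rw [LinearMap.mem_ker, LinearMap.mem_ker, LinearMap.comp_apply]
    constructor
    · intro hz
      rw [hz, map_zero]
    · intro hz
      exact (hcb (i + 1)).1 (hz.trans (map_zero _).symm)
  · -- injectivity
    have h3 := D.inl_Hmap_zero_injective hf hπ hex hπg a
    rw [← h1 0] at h3
    intro y y' hyy
    apply h3
    rw [LinearMap.comp_apply, LinearMap.comp_apply, hyy]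

end Groth.Agent.Lib.Helper20.GrLES
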