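import Mathlib
import Groth.Prelude.Def_GrLC
import Groth.Agent.Lib.Helper26.GrProj
import Groth.Agent.Lib.Helper20.GrLES7
import Groth.Agent.Lib.Helper20.GrKit12

/-!
# Graded homological algebra by hand, VIII: shifted resolutions and multiplication by a
homogeneous element
-/

set_option autoImplicit false
set_option linter.unusedSectionVars false
set_option linter.unusedVariables false

namespace Groth.Agent.Lib.Helper20.GrLES

open DirectSum Groth.Agent.Lib.Helper26.GrProj Groth.Agent.Lib.Helper20.GrKit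

universe u

variable {ι : Type} [AddCommGroup ι] [DecidableEq ι] {R : Type u} [CommRing R]
  {𝒜 : ι → AddSubgroup R} [GradedRing 𝒜]
  {M : Type u} [AddCommGroup M] [Module R M] {ℳ : ι → AddSubgroup M}
  [DirectSum.Decomposition ℳ] [SetLike.GradedSMul 𝒜 ℳ]

/-- the shifted resolution, a resolution of `M(-k)` -/
noncomputable def shiftRes (E : GrLC.StarInjRes 𝒜 ℳ) (k : ι) :
    GrLC.StarInjRes 𝒜 (shiftGr ℳ k) where
  X n := { carrier := (E.X n).carrier, gr := shiftGr (E.X n).gr k }
  d := E.d
  ε := E.ε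
  d_grHom n := fun g x hx => E.d_grHom n (g - k) x hx
  ε_grHom := fun g x hx => E.ε_grHom (g - k) x hx
  ε_injective := E.ε_injective
  exact_zero := E.exact_zero
  exact_succ := E.exact_succ
  starInj n := isStarInj_shift 𝒜 (E.X n).gr (E.starInj n) k

variable (E : GrLC.StarInjRes 𝒜 ℳ) (k : ι) (a : HomogeneousIdeal 𝒜)

/-- the identification of the cohomology of the shifted resolution -/
noncomputable def shiftH (i : ℕ) : (shiftRes E k).H a i ≃ₗ[R] E.H a i := LinearEquiv.refl R _

theorem shiftH_mem (i : ℕ) (g : ι) (y : (shiftRes E k).H a i) :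
    y ∈ (shiftRes E k).Hgr a i g ↔ shiftH E k a i y ∈ E.Hgr a i (g - k) := Iff.rfl

/-- multiplication by a homogeneous element, as a chain map -/
noncomputable def mulMap (x : R) (hx : x ∈ 𝒜 k) : CMap (shiftRes E k) E where
  f n := (x • LinearMap.id : (E.X n).carrier →ₗ[R] (E.X n).carrier)
  f_grHom n := by
    intro g z hz
    have hz' : (z : (E.X n).carrier) ∈ (E.X n).gr (g - k) := hz
    have := (E.X n).gsmul.smul_mem hx hz'
    rw [vadd_eq_add, add_sub_cancel] at this
    exact this
  comm n z := ((E.d n).map_smul x (z : (E.X n).carrier)).symm ▸ rfl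

theorem mulMap_eps (x : R) (hx : x ∈ 𝒜 k) (m : M) :
    (mulMap E k x hx).f 0 ((shiftRes E k).ε m) = E.ε ((x • LinearMap.id : M →ₗ[R] M) m) := by
  change x • E.ε m = E.ε (x • m)
  rw [map_smul]

theorem mulMap_Hmap (x : R) (hx : x ∈ 𝒜 k) (i : ℕ) (y : (shiftRes E k).H a i) :
    (mulMap E k x hx).Hmap a i y = x • shiftH E k a i y := by
  obtain ⟨z, rfl⟩ := toH_surjective _ a i y
  rfl

end Groth.Agent.Lib.Helper20.GrLES
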