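import Mathlib
import Groth.Prelude.Def_GrLC
import Groth.Agent.Lib.Helper26.GrProj
import Groth.Agent.Lib.Helper20.GrLES8

/-!
# Graded homological algebra by hand, IX: the long exact sequence of a regular homogeneous element
-/

set_option autoImplicit false
set_option linter.unusedSectionVars false
set_option linter.unusedVariables false

namespace Groth.Agent.Lib.Helper20.GrLES

open DirectSum Groth.Agent.Lib.Helper26.GrProj Groth.Agent.Lib.Helper20.GrKit

universe u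

variable {ι : Type} [AddCommGroup ι] [DecidableEq ι] {R : Type u} [CommRing R]
  {𝒜 : ι → AddSubgroup R} [GradedRing 𝒜]
  {M : Type u} [AddCommGroup M] [Module R M] {ℳ : ι → AddSubgroup M}
  [DirectSum.Decomposition ℳ] [SetLike.GradedSMul 𝒜 ℳ]
  {N : Type u} [AddCommGroup N] [Module R N] {𝒩 : ι → AddSubgroup N}
  [DirectSum.Decomposition 𝒩] [SetLike.GradedSMul 𝒜 𝒩]

/-- The long exact sequence `… → H^i(M)(-k) --x--> H^i(M) → H^i(M/xM) → H^{i+1}(M)(-k) → …` of a
homogeneous `M`-regular element `x` of degree `k`, for arbitrary *injective resolutions. -/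
theorem les_regular (E : GrLC.StarInjRes 𝒜 ℳ) (F : GrLC.StarInjRes 𝒜 𝒩) (x : R) (k : ι)
    (hx : x ∈ 𝒜 k) (hreg : IsSMulRegular M x) (π : M →ₗ[R] N) (hπ : Function.Surjective π)
    (hπg : GrLC.IsGrHom ℳ 𝒩 π)
    (hker : LinearMap.ker π = LinearMap.range (x • (LinearMap.id : M →ₗ[R] M)))
    (a : HomogeneousIdeal 𝒜) :
    ∃ (β : ∀ i : ℕ, E.H a i →ₗ[R] F.H a i) (δ : ∀ i : ℕ, F.H a i →ₗ[R] E.H a (i + 1)),
      (∀ i, GrLC.IsGrHom (E.Hgr a i) (F.Hgr a i) (β i)) ∧
      (∀ i g w, w ∈ F.Hgr a i g → δ i w ∈ E.Hgr a (i + 1) (g - k)) ∧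
      (∀ i g y, y ∈ E.Hgr a i g → β i y = 0 → ∃ z ∈ E.Hgr a i (g - k), x • z = y) ∧
      (∀ i (z : E.H a i), β i (x • z) = 0) ∧
      (∀ i g w, w ∈ F.Hgr a i g → δ i w = 0 → ∃ y ∈ E.Hgr a i g, β i y = w) ∧
      (∀ i y, δ i (β i y) = 0) ∧
      (∀ i g z, z ∈ E.Hgr a (i + 1) g → x • z = 0 → ∃ w ∈ F.Hgr a i (g + k), δ i w = z) ∧
      (∀ i w, x • δ i w = 0) ∧
      (∀ z : E.H a 0, x • z = 0 → z = 0) ∧
      (∀ i, LinearMap.ker (δ i) = LinearMap.range (β i)) := by
  classical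
  have hfg : GrLC.IsGrHom (shiftGr ℳ k) ℳ (x • (LinearMap.id : M →ₗ[R] M)) := by
    intro g m hm
    have hm' : m ∈ ℳ (g - k) := hm
    have := SetLike.GradedSMul.smul_mem (A := 𝒜) (B := ℳ) hx hm'
    rw [vadd_eq_add, add_sub_cancel] at this
    exact this
  have hf : Function.Injective (x • (LinearMap.id : M →ₗ[R] M)) := hreg
  obtain ⟨δ, hδ, hles⟩ := les (shiftRes E k) E F (x • (LinearMap.id : M →ₗ[R] M)) π hfg hπg hf hπ
    hker a
  obtain ⟨ψ, hψ⟩ := exists_lift E F π hπg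
  obtain ⟨h1, h2, h3, h4⟩ := hles (mulMap E k x hx) ψ (mulMap_eps E k x hx) hψ
  refine ⟨fun i => ψ.Hmap a i, fun i => δ i, fun i => ψ.Hmap_isGrHom a i, ?_, ?_, ?_, ?_, ?_, ?_,
    ?_, ?_, h2⟩
  · intro i g w hw
    exact hδ i g w hw
  · intro i g y hy hy0
    have hyr : y ∈ LinearMap.range ((mulMap E k x hx).Hmap a i) := by
      rw [← h1 i]
      exact hy0
    obtain ⟨z, hz, e⟩ := exists_homogeneous_preimage ((shiftRes E k).Hgr a i) (E.Hgr a i)
      (Hgr_isInternal (shiftRes E k) a i) (Hgr_isInternal E a i) _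
      ((mulMap E k x hx).Hmap_isGrHom a i) g y hy hyr
    rw [mulMap_Hmap] at e
    exact ⟨shiftH E k a i z, hz, e⟩
  · intro i z
    have : (mulMap E k x hx).Hmap a i ((shiftH E k a i).symm z) ∈
        LinearMap.ker (ψ.Hmap a i) := by
      rw [h1 i]
      exact ⟨_, rfl⟩
    rw [mulMap_Hmap, LinearEquiv.apply_symm_apply] at this
    exact this
  · intro i g w hw hw0
    have hwr : w ∈ LinearMap.range (ψ.Hmap a i) := by
      rw [← h2 i]
      exact hw0
    exact exists_homogeneous_preimage (E.Hgr a i) (F.Hgr a i)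
      (Hgr_isInternal E a i) (Hgr_isInternal F a i) _ (ψ.Hmap_isGrHom a i) g w hw hwr
  · intro i y
    have : ψ.Hmap a i y ∈ LinearMap.ker (δ i) := by
      rw [h2 i]
      exact ⟨y, rfl⟩
    exact this
  · intro i g z hz hz0
    have hz' : (shiftH E k a (i + 1)).symm z ∈ (shiftRes E k).Hgr a (i + 1) (g + k) := by
      rw [shiftH_mem, LinearEquiv.apply_symm_apply, add_sub_cancel_right]
      exact hz
    have hzr : (shiftH E k a (i + 1)).symm z ∈ LinearMap.range (δ i) := by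
      rw [← h3 i, LinearMap.mem_ker, mulMap_Hmap, LinearEquiv.apply_symm_apply]
      exact hz0
    obtain ⟨w, hw, e⟩ := exists_homogeneous_preimage (F.Hgr a i) ((shiftRes E k).Hgr a (i + 1))
      (Hgr_isInternal F a i) (Hgr_isInternal (shiftRes E k) a (i + 1)) _ (hδ i) (g + k) _ hz' hzr
    exact ⟨w, hw, e⟩
  · intro i w
    have : δ i w ∈ LinearMap.ker ((mulMap E k x hx).Hmap a (i + 1)) := by
      rw [h3 i]
      exact ⟨w, rfl⟩
    rw [LinearMap.mem_ker, mulMap_Hmap] at this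
    exact this
  · intro z hz
    have : (mulMap E k x hx).Hmap a 0 ((shiftH E k a 0).symm z) = 0 := by
      rw [mulMap_Hmap, LinearEquiv.apply_symm_apply]
      exact hz
    have h5 := h4 (this.trans (map_zero _).symm)
    have h6 := congrArg (shiftH E k a 0) h5
    rw [LinearEquiv.apply_symm_apply, map_zero] at h6
    exact h6

end Groth.Agent.Lib.Helper20.GrLES
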