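import Mathlib
import Groth.Prelude.Def_GrLC
import Groth.Agent.Lib.Helper20.GrLES9

/-!
# End degrees and S13239
-/

set_option autoImplicit false
set_option linter.unusedSectionVars false
set_option linter.unusedVariables false

namespace Groth.Agent.Lib.Helper20.GrLES

open DirectSum Groth.Agent.Lib.Helper26.GrProj Groth.Agent.Lib.Helper20.GrKit

universe u

theorem le_endDeg {M : Type u} [AddCommGroup M] (ℳ : ℤ → AddSubgroup M) (n : ℤ) (h : ℳ n ≠ ⊥) :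
    ((n : WithTop ℤ) : WithBot (WithTop ℤ)) ≤ GrLC.endDeg ℳ :=
  le_iSup₂ (f := fun (n : ℤ) (_ : ℳ n ≠ ⊥) => ((n : WithTop ℤ) : WithBot (WithTop ℤ))) n h

theorem piece_eq_bot_of_endDeg_lt {M : Type u} [AddCommGroup M] (ℳ : ℤ → AddSubgroup M) (n : ℤ)
    (h : GrLC.endDeg ℳ < ((n : WithTop ℤ) : WithBot (WithTop ℤ))) : ℳ n = ⊥ := by
  by_contra hne
  exact absurd (le_endDeg ℳ n hne) (not_le.2 h)

theorem endDeg_le_iff {M : Type u} [AddCommGroup M] (ℳ : ℤ → AddSubgroup M)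
    (c : WithBot (WithTop ℤ)) :
    GrLC.endDeg ℳ ≤ c ↔ ∀ n, ℳ n ≠ ⊥ → ((n : WithTop ℤ) : WithBot (WithTop ℤ)) ≤ c :=
  iSup₂_le_iff

variable {R : Type u} [CommRing R] {𝒜 : ℤ → AddSubgroup R} [GradedRing 𝒜]
  {M : Type u} [AddCommGroup M] [Module R M] {ℳ : ℤ → AddSubgroup M}
  [DirectSum.Decomposition ℳ] [SetLike.GradedSMul 𝒜 ℳ]
  {N : Type u} [AddCommGroup N] [Module R N] {𝒩 : ℤ → AddSubgroup N}
  [DirectSum.Decomposition 𝒩] [SetLike.GradedSMul 𝒜 𝒩]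

theorem s13239 (a : HomogeneousIdeal 𝒜) (x : R) (hx : x ∈ 𝒜 1) (hreg : IsSMulRegular M x)
    (π : M →ₗ[R] N) (hπ : Function.Surjective π) (hπg : GrLC.IsGrHom ℳ 𝒩 π)
    (hker : LinearMap.ker π = LinearMap.range (x • (LinearMap.id : M →ₗ[R] M)))
    (E : GrLC.StarInjRes 𝒜 ℳ) (F : GrLC.StarInjRes 𝒜 𝒩) (m : ℤ)
    (hm : (⨆ (i : ℕ) (_ : 2 ≤ i), GrLC.endDeg (F.Hgr a i) + ((i : ℤ) : WithTop ℤ)) ≤
      (((m + 1 : ℤ) : WithTop ℤ) : WithBot (WithTop ℤ))) (y : E.H a 2) (hy : y ∈ E.Hcomp a 2 m) :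
    ∃ z ∈ E.Hcomp a 2 (m - 1), x • z = y := by
  obtain ⟨β, δ, hβ, -, h1, -, -, -, -, -, -⟩ := les_regular E F x 1 hx hreg π hπ hπg hker a
  have h2 : GrLC.endDeg (F.Hgr a 2) + (((2 : ℕ) : ℤ) : WithTop ℤ) ≤
      (((m + 1 : ℤ) : WithTop ℤ) : WithBot (WithTop ℤ)) :=
    le_trans (le_iSup₂ (f := fun (i : ℕ) (_ : 2 ≤ i) =>
      GrLC.endDeg (F.Hgr a i) + ((i : ℤ) : WithTop ℤ)) 2 le_rfl) hm
  have h3 : F.Hgr a 2 m = ⊥ := by
    by_contra hne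
    have h4 := le_endDeg (F.Hgr a 2) m hne
    have h5 : ((m : WithTop ℤ) : WithBot (WithTop ℤ)) + (((2 : ℕ) : ℤ) : WithTop ℤ) ≤
        (((m + 1 : ℤ) : WithTop ℤ) : WithBot (WithTop ℤ)) :=
      le_trans (add_le_add_left h4 _) h2
    have h6 : ((m : WithTop ℤ) : WithBot (WithTop ℤ)) + (((2 : ℕ) : ℤ) : WithTop ℤ) =
        (((m + 2 : ℤ) : WithTop ℤ) : WithBot (WithTop ℤ)) := by
      norm_cast
    rw [h6, WithBot.coe_le_coe, WithTop.coe_le_coe] at h5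
    omega
  have h7 : β 2 y = 0 := by
    have : β 2 y ∈ F.Hgr a 2 m := hβ 2 m y hy
    rw [h3] at this
    exact (AddSubgroup.mem_bot).1 this
  obtain ⟨z, hz, e⟩ := h1 2 m y hy h7
  exact ⟨z, hz, e⟩

end Groth.Agent.Lib.Helper20.GrLES
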