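import Mathlib
import Groth.Prelude.Def_GrLC
import Groth.Agent.Lib.Helper20.GrLES10

/-!
# The end degree of graded local cohomology modulo a regular element (one step)
-/

set_option autoImplicit false
set_option linter.unusedSectionVars false
set_option linter.unusedVariables false

namespace Groth.Agent.Lib.Helper20.GrLES

open DirectSum Groth.Agent.Lib.Helper26.GrProj Groth.Agent.Lib.Helper20.GrKit

universe u

theorem add_int_le_iff (y c : WithBot (WithTop ℤ)) (k : ℤ) :
    y + ((k : WithTop ℤ) : WithBot (WithTop ℤ)) ≤ c ↔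
      y ≤ c + (((-k : ℤ) : WithTop ℤ) : WithBot (WithTop ℤ)) := by
  induction y using WithBot.recBotCoe with
  | bot => simp
  | coe y =>
    induction c using WithBot.recBotCoe with
    | bot => simp
    | coe c =>
      rw [← WithBot.coe_add, ← WithBot.coe_add, WithBot.coe_le_coe, WithBot.coe_le_coe]
      induction y using WithTop.recTopCoe with
      | top =>
        induction c using WithTop.recTopCoe with
        | top =>
          rw [WithTop.top_add, WithTop.top_add]
        | coe c =>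
          rw [WithTop.top_add, ← WithTop.coe_add]
          simp
      | coe y =>
        induction c using WithTop.recTopCoe with
        | top =>
          rw [WithTop.top_add]
          exact ⟨fun _ => le_top, fun _ => le_top⟩
        | coe c =>
          rw [← WithTop.coe_add, ← WithTop.coe_add, WithTop.coe_le_coe, WithTop.coe_le_coe]
          omega

theorem exists_ne_zero_of_ne_bot {A : Type u} [AddCommGroup A] (H : AddSubgroup A) (h : H ≠ ⊥) :
    ∃ w ∈ H, w ≠ 0 := by
  by_contra hcon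
  push_neg at hcon
  exact h ((AddSubgroup.eq_bot_iff_forall _).2 hcon)

theorem endDeg_add_le {M : Type u} [AddCommGroup M] (ℳ : ℤ → AddSubgroup M) (k : ℤ)
    (c : WithBot (WithTop ℤ))
    (h : ∀ n, ℳ n ≠ ⊥ → (((n + k : ℤ) : WithTop ℤ) : WithBot (WithTop ℤ)) ≤ c) :
    GrLC.endDeg ℳ + ((k : WithTop ℤ) : WithBot (WithTop ℤ)) ≤ c := by
  rw [add_int_le_iff, endDeg_le_iff]
  intro n hn
  rw [← add_int_le_iff]
  have := h n hn
  push_cast at this ⊢
  exact this

variable {R : Type u} [CommRing R] {𝒜 : ℤ → AddSubgroup R} [GradedRing 𝒜]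
  {M : Type u} [AddCommGroup M] [Module R M] {ℳ : ℤ → AddSubgroup M}
  [DirectSum.Decomposition ℳ] [SetLike.GradedSMul 𝒜 ℳ]
  {N : Type u} [AddCommGroup N] [Module R N] {𝒩 : ℤ → AddSubgroup N}
  [DirectSum.Decomposition 𝒩] [SetLike.GradedSMul 𝒜 𝒩]

section General

variable {ι : Type} [AddCommGroup ι] [DecidableEq ι] {𝒜' : ι → AddSubgroup R} [GradedRing 𝒜']
  {M' : Type u} [AddCommGroup M'] [Module R M'] {ℳ' : ι → AddSubgroup M'}
  [DirectSum.Decomposition ℳ'] [SetLike.GradedSMul 𝒜' ℳ']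

theorem smul_mem_Hgr (E : GrLC.StarInjRes 𝒜' ℳ') (a : HomogeneousIdeal 𝒜') (i : ℕ) {k g : ι}
    {x : R} (hx : x ∈ 𝒜' k) {z : E.H a i} (hz : z ∈ E.Hgr a i g) : x • z ∈ E.Hgr a i (k + g) := by
  obtain ⟨c, hc, rfl⟩ := hz
  exact ⟨x • c, (E.X i).gsmul.smul_mem hx hc, map_smul _ _ _⟩

theorem pow_smul_mem_Hgr (E : GrLC.StarInjRes 𝒜' ℳ') (a : HomogeneousIdeal 𝒜') (i : ℕ) {k g : ι}
    {x : R} (hx : x ∈ 𝒜' k) {z : E.H a i} (hz : z ∈ E.Hgr a i g) (s : ℕ) :
    x ^ s • z ∈ E.Hgr a i (s • k + g) := by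
  induction s with
  | zero => simpa using hz
  | succ s ih =>
    have := smul_mem_Hgr E a i hx ih
    rw [← mul_smul, ← pow_succ'] at this
    have e : k + (s • k + g) = (s + 1) • k + g := by
      rw [succ_nsmul]
      abel
    rw [e] at this
    exact this

theorem exists_pow_smul_eq_zero (E : GrLC.StarInjRes 𝒜' ℳ') (a : HomogeneousIdeal 𝒜') (i : ℕ)
    {x : R} (hx : x ∈ a.toIdeal) (z : E.H a i) : ∃ n : ℕ, x ^ n • z = 0 := by
  obtain ⟨c, rfl⟩ := toH_surjective E a i z
  obtain ⟨n, hn⟩ := c.2.1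
  refine ⟨n, ?_⟩
  rw [← map_smul]
  have : x ^ n • c = 0 := by
    apply Subtype.ext
    exact hn _ (Ideal.pow_mem_pow hx n)
  rw [this, map_zero]

end General

/-- one step: the end of `H^i(M/xM)` is the end of `H^{i+1}(M)` plus `deg x`, if `H^i(M) = 0`. -/
theorem endDeg_step (E : GrLC.StarInjRes 𝒜 ℳ) (F : GrLC.StarInjRes 𝒜 𝒩) (x : R) (k : ℤ)
    (hk : 0 ≤ k) (hx : x ∈ 𝒜 k) (a : HomogeneousIdeal 𝒜) (hxa : x ∈ a.toIdeal)
    (hreg : IsSMulRegular M x) (π : M →ₗ[R] N) (hπ : Function.Surjective π)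
    (hπg : GrLC.IsGrHom ℳ 𝒩 π)
    (hker : LinearMap.ker π = LinearMap.range (x • (LinearMap.id : M →ₗ[R] M)))
    (i : ℕ) (hvan : Subsingleton (E.H a i)) :
    GrLC.endDeg (F.Hgr a i) =
      GrLC.endDeg (E.Hgr a (i + 1)) + ((k : WithTop ℤ) : WithBot (WithTop ℤ)) := by
  classical
  obtain ⟨β, δ, hβ, hδ, -, -, h2, -, h3, h4, -⟩ := les_regular E F x k hx hreg π hπ hπg hker a
  have hδinj : ∀ g w, w ∈ F.Hgr a i g → δ i w = 0 → w = 0 := by
    intro g w hw hw0
    obtain ⟨y, -, rfl⟩ := h2 i g w hw hw0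
    rw [Subsingleton.elim y 0, map_zero]
  apply le_antisymm
  · rw [endDeg_le_iff]
    intro g hg
    obtain ⟨w, hw, hw0⟩ := exists_ne_zero_of_ne_bot _ hg
    have h5 : E.Hgr a (i + 1) (g - k) ≠ ⊥ := by
      intro hbot
      have := hδ i g w hw
      rw [hbot, AddSubgroup.mem_bot] at this
      exact hw0 (hδinj g w hw this)
    have h6 := le_endDeg _ _ h5
    have h7 := add_le_add_left h6 ((k : WithTop ℤ) : WithBot (WithTop ℤ))
    refine le_trans (le_of_eq ?_) h7
    norm_cast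
    rw [sub_add_cancel]
  · apply endDeg_add_le
    intro h hh
    obtain ⟨z, hz, hz0⟩ := exists_ne_zero_of_ne_bot _ hh
    have hex := exists_pow_smul_eq_zero E a (i + 1) hxa z
    have hn0 : Nat.find hex ≠ 0 := by
      intro h0
      have := Nat.find_spec hex
      rw [h0, pow_zero, one_smul] at this
      exact hz0 this
    obtain ⟨s, hs⟩ := Nat.exists_eq_succ_of_ne_zero hn0
    have hs1 : x ^ s • z ≠ 0 := Nat.find_min hex (by omega)
    have hs2 : x • (x ^ s • z) = 0 := by
      rw [← mul_smul, ← pow_succ']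
      have := Nat.find_spec hex
      rw [hs] at this
      exact this
    have hs3 : x ^ s • z ∈ E.Hgr a (i + 1) (s • k + h) := pow_smul_mem_Hgr E a (i + 1) hx hz s
    obtain ⟨w, hw, e⟩ := h3 i _ _ hs3 hs2
    have hw0 : w ≠ 0 := by
      rintro rfl
      rw [map_zero] at e
      exact hs1 e.symm
    have h5 : F.Hgr a i (s • k + h + k) ≠ ⊥ := by
      intro hbot
      rw [hbot, AddSubgroup.mem_bot] at hw
      exact hw0 hw
    refine le_trans ?_ (le_endDeg _ _ h5)
    rw [WithBot.coe_le_coe, WithTop.coe_le_coe]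
    have : 0 ≤ s • k := smul_nonneg (Nat.zero_le s) hk
    omega

end Groth.Agent.Lib.Helper20.GrLES
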