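import Mathlib
import Groth.Prelude.Def_GrLC
import Groth.Agent.Lib.Helper20.GrLES11
import Groth.Agent.Lib.Helper20.GrStarLoc

/-!
# S17769: `a(R/xR) = a(R) + deg x`
-/

set_option autoImplicit false
set_option linter.unusedSectionVars false
set_option linter.unusedVariables false

namespace Groth.Agent.Lib.Helper20.GrLES

open DirectSum Groth.Agent.Lib.Helper26.GrProj Groth.Agent.Lib.Helper20.GrKit

universe u

theorem range_smul_id_eq_span {R : Type u} [CommRing R] (x : R) :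
    LinearMap.range (x • (LinearMap.id : R →ₗ[R] R)) = Ideal.span {x} := by
  ext y
  rw [Ideal.mem_span_singleton']
  constructor
  · rintro ⟨a, rfl⟩
    exact ⟨a, mul_comm _ _⟩
  · rintro ⟨a, rfl⟩
    exact ⟨a, mul_comm _ _⟩

variable {R : Type u} [CommRing R] [LocCoh.IsCohenMacaulayRing R] (𝒜 : ℤ → AddSubgroup R)
  [GradedRing 𝒜] (hpos : ∀ n : ℤ, n < 0 → 𝒜 n = ⊥)
  (m : HomogeneousIdeal 𝒜) (hm : GrLC.IsStarLocal 𝒜 m)

include hm in
theorem toIdeal_ne_top : m.toIdeal ≠ ⊤ := by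
  intro h
  apply hm.1.1
  apply HomogeneousIdeal.toIdeal_injective
  rw [h, HomogeneousIdeal.toIdeal_top]

include hpos hm in
/-- vanishing of graded local cohomology of a Cohen–Macaulay *local ring below the dimension -/
theorem subsingleton_H_of_lt_dim (I : GrLC.StarInjRes 𝒜 𝒜) (n : ℕ) (hn : ringKrullDim R = n)
    (i : ℕ) (hi : i < n) : Subsingleton (I.H m i) := by
  obtain ⟨e⟩ := bridge_starInjRes I m i
  have hht : m.toIdeal.height = (n : ℕ∞) := by
    have h1 := GrStarLoc.height_eq_dim 𝒜 hpos m hm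
    rw [hn] at h1
    exact WithBot.coe_injective h1
  haveI := GrStarLoc.subsingleton_H_of_lt_height m.toIdeal (toIdeal_ne_top 𝒜 m hm) i
    (by rw [hht]; exact_mod_cast hi)
  exact e.toEquiv.subsingleton

include hpos hm in
theorem s17769 (d : ℕ) (hd : ringKrullDim R = (d + 1 : ℕ)) (I : GrLC.StarInjRes 𝒜 𝒜) (x : R)
    (k : ℤ) (hxk : x ∈ 𝒜 k) (hxm : x ∈ m.toIdeal) (hx : IsSMulRegular R x) (N : Type u)
    [AddCommGroup N] [Module R N] (𝒩 : ℤ → AddSubgroup N) [DirectSum.Decomposition 𝒩]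
    [SetLike.GradedSMul 𝒜 𝒩] (π : R →ₗ[R] N) (hπ : GrLC.IsGrHom 𝒜 𝒩 π)
    (hπs : Function.Surjective π) (hπk : LinearMap.ker π = Ideal.span {x})
    (F : GrLC.StarInjRes 𝒜 𝒩) :
    GrLC.endDeg (F.Hgr m d) =
      GrLC.endDeg (I.Hgr m (d + 1)) + ((k : WithTop ℤ) : WithBot (WithTop ℤ)) := by
  have hk : 0 ≤ k := by
    by_contra hneg
    have hx0 : x = 0 := by
      have := hxk
      rw [hpos k (not_le.1 hneg), AddSubgroup.mem_bot] at this
      exact this
    have h1 : (1 : R) = 0 := by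
      apply hx
      change x • (1 : R) = x • 0
      rw [hx0, zero_smul, zero_smul]
    exact toIdeal_ne_top 𝒜 m hm ((Ideal.eq_top_iff_one _).2 (by rw [h1]; exact zero_mem _))
  exact endDeg_step I F x k hk hxk m hxm hx π hπs hπ
    (by rw [range_smul_id_eq_span]; exact hπk) d
    (subsingleton_H_of_lt_dim 𝒜 hpos m hm I (d + 1) hd d (Nat.lt_succ_self d))

end Groth.Agent.Lib.Helper20.GrLES
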