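import Mathlib
import Groth.Prelude.Def_GrLC
import Groth.Agent.Lib.Helper20.GrLES12
import Groth.Agent.Lib.Helper20.GrKit8
import Groth.Agent.Lib.Helper20.GrKit9

/-!
# Comparison for graded-isomorphic modules, and the quotient by a homogeneous element
-/

set_option autoImplicit false
set_option linter.unusedSectionVars false
set_option linter.unusedVariables false

namespace Groth.Agent.Lib.Helper20.GrLES

open DirectSum Groth.Agent.Lib.Helper26.GrProj Groth.Agent.Lib.Helper20.GrKit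
open scoped Pointwise

universe u

section

variable {ι : Type} [AddCommGroup ι] [DecidableEq ι] {R : Type u} [CommRing R]
  {𝒜 : ι → AddSubgroup R} [GradedRing 𝒜]
  {M : Type u} [AddCommGroup M] [Module R M] {ℳ : ι → AddSubgroup M}
  [DirectSum.Decomposition ℳ] [SetLike.GradedSMul 𝒜 ℳ]
  {N : Type u} [AddCommGroup N] [Module R N] {𝒩 : ι → AddSubgroup N}
  [DirectSum.Decomposition 𝒩] [SetLike.GradedSMul 𝒜 𝒩]

/-- graded local cohomology of graded-isomorphic modules -/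
theorem exists_comparison_equiv (E : GrLC.StarInjRes 𝒜 ℳ) (F : GrLC.StarInjRes 𝒜 𝒩)
    (e : M ≃ₗ[R] N) (he : GrLC.IsGrHom ℳ 𝒩 e.toLinearMap) (a : HomogeneousIdeal 𝒜) (i : ℕ) :
    ∃ ε : E.H a i ≃ₗ[R] F.H a i, GrLC.IsGrHom (E.Hgr a i) (F.Hgr a i) ε.toLinearMap ∧
      GrLC.IsGrHom (F.Hgr a i) (E.Hgr a i) ε.symm.toLinearMap := by
  have he' : GrLC.IsGrHom 𝒩 ℳ e.symm.toLinearMap := isGrHom_symm ℳ 𝒩 e he
  obtain ⟨φ, hφ⟩ := exists_lift E F e.toLinearMap he
  obtain ⟨ψ, hψ⟩ := exists_lift F E e.symm.toLinearMap he'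
  have h1 : (ψ.comp φ).Hmap a i = (CMap.id E).Hmap a i := by
    apply Hmap_eq_of_eps
    intro m
    change ψ.f 0 (φ.f 0 (E.ε m)) = E.ε m
    rw [hφ, hψ]
    change E.ε (e.symm (e m)) = _
    rw [LinearEquiv.symm_apply_apply]
  have h2 : (φ.comp ψ).Hmap a i = (CMap.id F).Hmap a i := by
    apply Hmap_eq_of_eps
    intro m
    change φ.f 0 (ψ.f 0 (F.ε m)) = F.ε m
    rw [hψ, hφ]
    change F.ε (e (e.symm m)) = _
    rw [LinearEquiv.apply_symm_apply]
  rw [CMap.Hmap_comp, CMap.Hmap_id] at h1 h2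
  exact ⟨LinearEquiv.ofLinearMap (φ.Hmap a i) (ψ.Hmap a i) h2 h1, φ.Hmap_isGrHom a i,
    ψ.Hmap_isGrHom a i⟩

end

theorem endDeg_eq_of_graded_equiv {A B : Type u} [AddCommGroup A] [AddCommGroup B]
    (𝒜A : ℤ → AddSubgroup A) (𝒜B : ℤ → AddSubgroup B) (ε : A ≃+ B)
    (h1 : ∀ g x, x ∈ 𝒜A g → ε x ∈ 𝒜B g) (h2 : ∀ g y, y ∈ 𝒜B g → ε.symm y ∈ 𝒜A g) :
    GrLC.endDeg 𝒜A = GrLC.endDeg 𝒜B := by
  have key : ∀ g, 𝒜A g ≠ ⊥ ↔ 𝒜B g ≠ ⊥ := by
    intro g
    constructor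
    · intro h
      obtain ⟨x, hx, hx0⟩ := exists_ne_zero_of_ne_bot _ h
      intro hb
      have := h1 g x hx
      rw [hb, AddSubgroup.mem_bot] at this
      exact hx0 (ε.injective (this.trans (map_zero ε).symm))
    · intro h
      obtain ⟨y, hy, hy0⟩ := exists_ne_zero_of_ne_bot _ h
      intro hb
      have := h2 g y hy
      rw [hb, AddSubgroup.mem_bot] at this
      exact hy0 (ε.symm.injective (this.trans (map_zero ε.symm).symm))
  apply le_antisymm
  · rw [endDeg_le_iff]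
    intro g hg
    exact le_endDeg _ _ ((key g).1 hg)
  · rw [endDeg_le_iff]
    intro g hg
    exact le_endDeg _ _ ((key g).2 hg)

section Quot

variable {ι : Type} [AddCommGroup ι] [DecidableEq ι] {R : Type u} [CommRing R]
  (𝒜 : ι → AddSubgroup R) [GradedRing 𝒜]
  {M : Type u} [AddCommGroup M] [Module R M] (ℳ : ι → AddSubgroup M)
  [DirectSum.Decomposition ℳ] [SetLike.GradedSMul 𝒜 ℳ]

theorem smul_top_proj_stable (x : R) (k : ι) (hx : x ∈ 𝒜 k) (g : ι) (y : M)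
    (hy : y ∈ x • (⊤ : Submodule R M)) : proj ℳ g y ∈ x • (⊤ : Submodule R M) := by
  obtain ⟨m, -, rfl⟩ := (Submodule.mem_smul_pointwise_iff_exists _ _ _).1 hy
  rw [proj_smul_of_mem 𝒜 ℳ hx g m]
  exact Submodule.smul_mem_pointwise_smul _ _ _ Submodule.mem_top

theorem smul_top_eq_range (x : R) :
    x • (⊤ : Submodule R M) = LinearMap.range (x • (LinearMap.id : M →ₗ[R] M)) := by
  ext y
  rw [Submodule.mem_smul_pointwise_iff_exists]
  constructor
  · rintro ⟨m, -, rfl⟩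
    exact ⟨m, rfl⟩
  · rintro ⟨m, rfl⟩
    exact ⟨m, Submodule.mem_top, rfl⟩

end Quot

end Groth.Agent.Lib.Helper20.GrLES
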