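import Mathlib
import Groth.Prelude.Def_GrLC
import Groth.Agent.Lib.Helper20.GrLES13

/-!
# End degrees of graded local cohomology modulo a homogeneous regular sequence
-/

set_option autoImplicit false
set_option linter.unusedSectionVars false
set_option linter.unusedVariables false
set_option linter.style.haveILetI false

namespace Groth.Agent.Lib.Helper20.GrLES

open DirectSum Groth.Agent.Lib.Helper26.GrProj Groth.Agent.Lib.Helper20.GrKit
open scoped Pointwise

universe u

variable {R : Type u} [CommRing R] (𝒜 : ℤ → AddSubgroup R) [GradedRing 𝒜]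
  (hpos : ∀ n : ℤ, n < 0 → 𝒜 n = ⊥) (a : HomogeneousIdeal 𝒜)

include hpos in
theorem chain : ∀ (t : ℕ) (M : Type u) [AddCommGroup M] [Module R M] (ℳ : ℤ → AddSubgroup M)
    [DirectSum.Decomposition ℳ] [SetLike.GradedSMul 𝒜 ℳ] (E : GrLC.StarInjRes 𝒜 ℳ) (c : ℕ)
    (hc : t ≤ c) (hvan : ∀ i, i < c → Subsingleton (E.H a i)) (f : Fin t → R) (deg : Fin t → ℤ)
    (hf : ∀ i, f i ∈ 𝒜 (deg i)) (hfa : ∀ i, f i ∈ a.toIdeal)
    (hreg : RingTheory.Sequence.IsWeaklyRegular M (List.ofFn f))
    (N : Type u) [AddCommGroup N] [Module R N] [Nontrivial N] (𝒩 : ℤ → AddSubgroup N)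
    [DirectSum.Decomposition 𝒩] [SetLike.GradedSMul 𝒜 𝒩] (π : M →ₗ[R] N)
    (hπ : Function.Surjective π) (hπg : GrLC.IsGrHom ℳ 𝒩 π)
    (hker : LinearMap.ker π = Ideal.span (Set.range f) • (⊤ : Submodule R M))
    (F : GrLC.StarInjRes 𝒜 𝒩),
    (∀ i, i < c - t → Subsingleton (F.H a i)) ∧
      GrLC.endDeg (F.Hgr a (c - t)) = GrLC.endDeg (E.Hgr a c) +
        (((∑ i, deg i : ℤ) : WithTop ℤ) : WithBot (WithTop ℤ)) := by
  intro t
  induction t with
  | zero =>
    intro M _ _ ℳ _ _ E c hc hvan f deg hf hfa hreg N _ _ _ 𝒩 _ _ π hπ hπg hker F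
    have hk0 : LinearMap.ker π = ⊥ := by
      rw [hker, Set.range_eq_empty f, Ideal.span_empty, Submodule.bot_smul]
    let e : M ≃ₗ[R] N := LinearEquiv.ofBijective π ⟨LinearMap.ker_eq_bot.1 hk0, hπ⟩
    have he : GrLC.IsGrHom ℳ 𝒩 e.toLinearMap := hπg
    refine ⟨?_, ?_⟩
    · intro i hi
      obtain ⟨ε, -, -⟩ := exists_comparison_equiv E F e he a i
      haveI := hvan i (by omega)
      exact ε.symm.toEquiv.subsingleton
    · obtain ⟨ε, h1, h2⟩ := exists_comparison_equiv E F e he a c
      have := endDeg_eq_of_graded_equiv (E.Hgr a c) (F.Hgr a c) ε.toAddEquiv h1 h2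
      change GrLC.endDeg (F.Hgr a c) = _
      rw [← this]
      simp
  | succ t ih =>
    intro M _ _ ℳ _ _ E c hc hvan f deg hf hfa hreg N _ _ _ 𝒩 _ _ π hπ hπg hker F
    classical
    rw [List.ofFn_succ] at hreg
    obtain ⟨hx, hreg'⟩ := (RingTheory.Sequence.isWeaklyRegular_cons_iff M (f 0) _).1 hreg
    haveI : Nontrivial M := hπ.nontrivial
    have hx0 : f 0 ≠ 0 := by
      intro h0
      rw [h0] at hx
      exact not_subsingleton M (IsSMulRegular.zero_iff_subsingleton.1 hx)
    have hk : 0 ≤ deg 0 := by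
      by_contra hneg
      have := hf 0
      rw [hpos _ (not_le.1 hneg), AddSubgroup.mem_bot] at this
      exact hx0 this
    let C : Submodule R M := f 0 • (⊤ : Submodule R M)
    have hC : ∀ g y, y ∈ C → proj ℳ g y ∈ C := smul_top_proj_stable 𝒜 ℳ (f 0) (deg 0) (hf 0)
    letI : DirectSum.Decomposition (quoGr ℳ C) := quoDecomposition ℳ C hC
    obtain ⟨E₁⟩ := nonempty_starInjRes 𝒜 (quoGr ℳ C)
    have hkerQ : LinearMap.ker C.mkQ = LinearMap.range (f 0 • (LinearMap.id : M →ₗ[R] M)) := by
      rw [Submodule.ker_mkQ]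
      exact smul_top_eq_range (f 0)
    have hstep := endDeg_step E E₁ (f 0) (deg 0) hk (hf 0) a (hfa 0) hx C.mkQ
      (Submodule.mkQ_surjective C) (mkQ_isGrHom ℳ C) hkerQ (c - 1) (hvan (c - 1) (by omega))
    obtain ⟨β, δ, -, -, -, -, -, -, -, -, -, hex⟩ := les_regular E E₁ (f 0) (deg 0) (hf 0) hx C.mkQ
      (Submodule.mkQ_surjective C) (mkQ_isGrHom ℳ C) hkerQ a
    have hvan1 : ∀ i, i < c - 1 → Subsingleton (E₁.H a i) := by
      intro i hi
      haveI := hvan i (by omega)
      haveI := hvan (i + 1) (by omega)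
      have hw : ∀ w : E₁.H a i, w = 0 := by
        intro w
        have : w ∈ LinearMap.ker (δ i) := Subsingleton.elim _ _
        rw [hex i] at this
        obtain ⟨y, rfl⟩ := this
        rw [Subsingleton.elim y 0, map_zero]
      exact ⟨fun w w' => by rw [hw w, hw w']⟩
    have hCle : C ≤ LinearMap.ker π := by
      rw [hker]
      intro y hy
      obtain ⟨m', -, rfl⟩ := (Submodule.mem_smul_pointwise_iff_exists _ _ _).1 hy
      exact Submodule.smul_mem_smul (Ideal.subset_span ⟨0, rfl⟩) Submodule.mem_top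
    let ρ : (M ⧸ C) →ₗ[R] N := C.liftQ π hCle
    have hρs : Function.Surjective ρ := by
      intro n
      obtain ⟨m', rfl⟩ := hπ n
      exact ⟨C.mkQ m', rfl⟩
    have hρg : GrLC.IsGrHom (quoGr ℳ C) 𝒩 ρ := by
      rintro g y ⟨m', hm', rfl⟩
      exact hπg g m' hm'
    have hρk : LinearMap.ker ρ =
        Ideal.span (Set.range fun i : Fin t => f i.succ) • (⊤ : Submodule R (M ⧸ C)) := by
      rw [Submodule.ker_liftQ, hker, Submodule.map_smul'', Submodule.map_top, Submodule.range_mkQ]
      apply le_antisymm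
      · rw [Submodule.smul_le]
        intro r hr y _
        have key : ∀ y : M ⧸ C, r • y ∈
            Ideal.span (Set.range fun i : Fin t => f i.succ) • (⊤ : Submodule R (M ⧸ C)) := by
          refine Submodule.span_induction (p := fun r _ => ∀ y : M ⧸ C, r • y ∈
            Ideal.span (Set.range fun i : Fin t => f i.succ) • (⊤ : Submodule R (M ⧸ C)))
            ?_ ?_ ?_ ?_ hr
          · rintro _ ⟨i, rfl⟩ y
            refine Fin.cases ?_ (fun j => ?_) i
            · obtain ⟨m', rfl⟩ := C.mkQ_surjective y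
              have : f 0 • C.mkQ m' = 0 := by
                rw [← map_smul, Submodule.mkQ_apply, Submodule.Quotient.mk_eq_zero]
                exact Submodule.smul_mem_pointwise_smul _ _ _ Submodule.mem_top
              rw [this]
              exact Submodule.zero_mem _
            · exact Submodule.smul_mem_smul (Ideal.subset_span ⟨j, rfl⟩) Submodule.mem_top
          · intro y
            rw [zero_smul]
            exact Submodule.zero_mem _
          · intro r s _ _ hr hs y
            rw [add_smul]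
            exact Submodule.add_mem _ (hr y) (hs y)
          · intro r s _ hs y
            rw [smul_eq_mul, mul_smul]
            exact Submodule.smul_mem _ r (hs y)
        exact key y
      · apply Submodule.smul_mono_left
        apply Ideal.span_mono
        rintro _ ⟨j, rfl⟩
        exact ⟨j.succ, rfl⟩
    have hih := ih (M ⧸ C) (quoGr ℳ C) E₁ (c - 1) (by omega) hvan1 (fun i => f i.succ)
      (fun i => deg i.succ) (fun i => hf i.succ) (fun i => hfa i.succ) hreg' N 𝒩 ρ hρs hρg hρk F
    have e1 : c - (t + 1) = c - 1 - t := by omega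
    have e2 : c - 1 + 1 = c := by omega
    rw [e1]
    refine ⟨hih.1, ?_⟩
    rw [hih.2, hstep, e2, Fin.sum_univ_succ, add_assoc]
    congr 1

end Groth.Agent.Lib.Helper20.GrLES
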