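import Mathlib
import Groth.Prelude.Def_GrLC
import Groth.Agent.Lib.Helper20.GrLES14

/-!
# S18645: `a(R/(f_1,…,f_t)) = a(R) + Σ deg f_i`
-/

set_option autoImplicit false
set_option linter.unusedSectionVars false
set_option linter.unusedVariables false

namespace Groth.Agent.Lib.Helper20.GrLES

open DirectSum Groth.Agent.Lib.Helper26.GrProj Groth.Agent.Lib.Helper20.GrKit

universe u

theorem ofList_ofFn' {R : Type u} [CommRing R] {t : ℕ} (f : Fin t → R) :
    Ideal.ofList (List.ofFn f) = Ideal.span (Set.range f) := by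
  unfold Ideal.ofList
  congr 1
  ext x
  simp [List.mem_ofFn]

variable {R : Type u} [CommRing R] [LocCoh.IsCohenMacaulayRing R] (𝒜 : ℤ → AddSubgroup R)
  [GradedRing 𝒜] (hpos : ∀ n : ℤ, n < 0 → 𝒜 n = ⊥)
  (m : HomogeneousIdeal 𝒜) (hm : GrLC.IsStarLocal 𝒜 m)

include hpos hm in
theorem s18645 (n : ℕ) (hn : ringKrullDim R = n) (I : GrLC.StarInjRes 𝒜 𝒜) (t : ℕ) (htn : t ≤ n)
    (f : Fin t → R) (deg : Fin t → ℤ) (hfdeg : ∀ i, f i ∈ 𝒜 (deg i))
    (hfm : ∀ i, f i ∈ m.toIdeal) (hreg : RingTheory.Sequence.IsRegular R (List.ofFn f))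
    (N : Type u) [AddCommGroup N] [Module R N] (𝒩 : ℤ → AddSubgroup N)
    [DirectSum.Decomposition 𝒩] [SetLike.GradedSMul 𝒜 𝒩] (π : R →ₗ[R] N)
    (hπ : GrLC.IsGrHom 𝒜 𝒩 π) (hπs : Function.Surjective π)
    (hπk : LinearMap.ker π = Ideal.span (Set.range f)) (F : GrLC.StarInjRes 𝒜 𝒩) :
    GrLC.endDeg (F.Hgr m (n - t)) = GrLC.endDeg (I.Hgr m n) +
      ((((Finset.univ : Finset (Fin t)).sum deg : ℤ) : WithTop ℤ) : WithBot (WithTop ℤ)) := by
  have hne : Ideal.span (Set.range f) ≠ ⊤ := by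
    intro h
    apply hreg.top_ne_smul
    rw [ofList_ofFn', h, smul_eq_mul, Ideal.mul_top]
  haveI : Nontrivial N := by
    by_contra hnt
    rw [not_nontrivial_iff_subsingleton] at hnt
    apply hne
    rw [← hπk, eq_top_iff]
    intro r _
    exact Subsingleton.elim _ _
  have hker : LinearMap.ker π = Ideal.span (Set.range f) • (⊤ : Submodule R R) := by
    rw [hπk, smul_eq_mul, Ideal.mul_top]
  exact (chain 𝒜 hpos m t R 𝒜 I n htn
    (fun i hi => subsingleton_H_of_lt_dim 𝒜 hpos m hm I n hn i hi) f deg hfdeg hfm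
    hreg.toIsWeaklyRegular N 𝒩 π hπs hπ hker F).2

end Groth.Agent.Lib.Helper20.GrLES
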