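import Mathlib
import Groth.Prelude.Def_GrLC
import Groth.Agent.Lib.Helper20.GrLES15
import Groth.Agent.Lib.Helper20.GrStarLoc
import Groth.Agent.Lib.Helper20.GrKit9

/-!
# The shift of a free *canonical module is minus the a-invariant
-/

set_option autoImplicit false
set_option linter.unusedSectionVars false
set_option linter.unusedVariables false
set_option linter.style.haveILetI false

namespace Groth.Agent.Lib.Helper20.GrCanW

open DirectSum Groth.Agent.Lib.Helper26.GrProj Groth.Agent.Lib.Helper20.GrKit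
  Groth.Agent.Lib.Helper20.GrLES

universe u

section Torsion

variable {ι : Type} [AddCommGroup ι] [DecidableEq ι] {R : Type u} [CommRing R]
  {𝒜 : ι → AddSubgroup R} [GradedRing 𝒜]
  {M : Type u} [AddCommGroup M] [Module R M] {ℳ : ι → AddSubgroup M}
  [DirectSum.Decomposition ℳ] [SetLike.GradedSMul 𝒜 ℳ] (E : GrLC.StarInjRes 𝒜 ℳ)
  (b : HomogeneousIdeal 𝒜)

/-- for a torsion module, `H^0` has the same nonzero pieces as the module -/
theorem Hgr_zero_eq_bot_iff (htors : ∀ x : M, x ∈ GrLC.gam b.toIdeal M) (n : ι) :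
    E.Hgr b 0 n = ⊥ ↔ ℳ n = ⊥ := by
  constructor
  · intro h
    rw [eq_bot_iff]
    intro x hx
    have hc : E.ε x ∈ E.cocyc b 0 := ⟨map_mem_gam E.ε _ (htors x), d_eps E x⟩
    have h1 : E.toH b 0 ⟨E.ε x, hc⟩ ∈ E.Hgr b 0 n := ⟨⟨E.ε x, hc⟩, E.ε_grHom n x hx, rfl⟩
    rw [h, AddSubgroup.mem_bot, toH_eq_zero_iff, mem_cobdy_zero] at h1
    rw [AddSubgroup.mem_bot]
    apply E.ε_injective
    rw [map_zero]
    exact h1
  · intro h
    rw [eq_bot_iff]
    rintro z ⟨c, hc, rfl⟩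
    rw [AddSubgroup.mem_bot]
    have hk : (c : (E.X 0).carrier) ∈ LinearMap.ker (E.d 0) := c.2.2
    rw [E.exact_zero] at hk
    obtain ⟨x, hx⟩ := hk
    have hxn : x = proj ℳ n x := by
      apply E.ε_injective
      rw [← proj_hom ℳ (E.X 0).gr E.ε E.ε_grHom n x, hx, proj_of_mem_same _ hc]
    have hx0 : x = 0 := by
      have : proj ℳ n x ∈ ℳ n := proj_mem ℳ n x
      rw [h, AddSubgroup.mem_bot] at this
      rw [hxn, this]
    have hc0 : c = 0 := by
      apply Subtype.ext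
      rw [← hx, hx0, map_zero]
      rfl
    rw [hc0, map_zero]

end Torsion

theorem endDeg_congr {M N : Type u} [AddCommGroup M] [AddCommGroup N] (ℳ : ℤ → AddSubgroup M)
    (𝒩 : ℤ → AddSubgroup N) (h : ∀ n, ℳ n = ⊥ ↔ 𝒩 n = ⊥) :
    GrLC.endDeg ℳ = GrLC.endDeg 𝒩 := by
  apply le_antisymm
  · rw [endDeg_le_iff]
    intro n hn
    exact le_endDeg 𝒩 n (fun h' => hn ((h n).2 h'))
  · rw [endDeg_le_iff]
    intro n hn
    exact le_endDeg ℳ n (fun h' => hn ((h n).1 h'))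

theorem ne_bot_of_endDeg_eq {M : Type u} [AddCommGroup M] (ℳ : ℤ → AddSubgroup M) (s : ℤ)
    (h : GrLC.endDeg ℳ = ((s : WithTop ℤ) : WithBot (WithTop ℤ))) : ℳ s ≠ ⊥ := by
  intro hbot
  have h1 : GrLC.endDeg ℳ ≤ (((s - 1 : ℤ) : WithTop ℤ) : WithBot (WithTop ℤ)) := by
    rw [endDeg_le_iff]
    intro n hn
    have h2 := le_endDeg ℳ n hn
    rw [h, WithBot.coe_le_coe, WithTop.coe_le_coe] at h2
    have hne : n ≠ s := by
      rintro rfl
      exact hn hbot
    rw [WithBot.coe_le_coe, WithTop.coe_le_coe]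
    omega
  rw [h, WithBot.coe_le_coe, WithTop.coe_le_coe] at h1
  omega

section Core

variable {R : Type u} [CommRing R] [IsNoetherianRing R] (𝒜 : ℤ → AddSubgroup R) [GradedRing 𝒜]
  (hpos : ∀ n : ℤ, n < 0 → 𝒜 n = ⊥) (m : HomogeneousIdeal 𝒜) (hm : GrLC.IsStarLocal 𝒜 m)
  (n : ℕ) (I : GrLC.StarInjRes 𝒜 𝒜)
  {E' : Type u} [AddCommGroup E'] [Module R E'] (𝓔 : ℤ → AddSubgroup E')
  [DirectSum.Decomposition 𝓔] [SetLike.GradedSMul 𝒜 𝓔] (e : (R ⧸ m.toIdeal) →ₗ[R] E')
  (he : GrLC.IsStarInjHull 𝒜 (GrLC.quotGr 𝒜 m) 𝓔 e)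
  {C : Type u} [AddCommGroup C] [Module R C] (𝒞 : ℤ → AddSubgroup C)
  [DirectSum.Decomposition 𝒞] [SetLike.GradedSMul 𝒜 𝒞]

include hpos hm he in
theorem E_mk_mem (t : R) : e (Ideal.Quotient.mk m.toIdeal t) ∈ 𝓔 0 := by
  have h1 : Ideal.Quotient.mk m.toIdeal t = Ideal.Quotient.mk m.toIdeal (proj 𝒜 0 t) := by
    rw [Ideal.Quotient.eq]
    exact GrStarLoc.sub_proj_zero_mem 𝒜 hpos m hm t
  rw [h1]
  exact he.grHom 0 _ ⟨proj 𝒜 0 t, proj_mem 𝒜 0 t, rfl⟩

include hpos hm he in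
theorem E_pos_eq_bot (j : ℤ) (hj : 0 < j) : 𝓔 j = ⊥ := by
  classical
  rw [eq_bot_iff]
  intro u hu
  rw [AddSubgroup.mem_bot]
  by_contra hu0
  let P : Submodule R E' := Submodule.span R {u}
  have hP : P.IsHomogeneous 𝓔 := by
    intro i x hx
    obtain ⟨r, rfl⟩ := Submodule.mem_span_singleton.1 hx
    have : ((DirectSum.decompose 𝓔 (r • u) i : 𝓔 i) : E') = proj 𝓔 i (r • u) := rfl
    rw [this, proj_smul_of_mem_right 𝒜 𝓔 hu i r]
    exact Submodule.smul_mem _ _ (Submodule.mem_span_singleton_self u)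
  have hPne : P ≠ ⊥ := by
    intro h
    have : u ∈ P := Submodule.mem_span_singleton_self u
    rw [h, Submodule.mem_bot] at this
    exact hu0 this
  have hmeet := he.essential P hP hPne
  obtain ⟨y, hy, hy0⟩ := Submodule.exists_mem_ne_zero_of_ne_bot hmeet
  obtain ⟨hyP, q, hq⟩ := hy
  obtain ⟨r, hr⟩ := Submodule.mem_span_singleton.1 hyP
  obtain ⟨t, rfl⟩ := Ideal.Quotient.mk_surjective q
  have hy0' : y ∈ 𝓔 0 := by
    rw [← hq]
    exact E_mk_mem 𝒜 hpos m hm 𝓔 e he t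
  apply hy0
  rw [← proj_of_mem_same 𝓔 hy0', ← hr, proj_smul_of_mem_right 𝒜 𝓔 hu 0 r]
  have := proj_mem 𝒜 (0 - j) r
  rw [hpos (0 - j) (by omega), AddSubgroup.mem_bot] at this
  rw [this, zero_smul]

variable (a : ℤ) (f : R →ₗ[R] C) (hf : Function.Bijective f) (hfa : GrLC.IsGrHomDeg 𝒜 𝒞 f a)

include hf hfa in
theorem symm_mem (g : ℤ) (c : C) (hc : c ∈ 𝒞 g) :
    (LinearEquiv.ofBijective f hf).symm c ∈ 𝒜 (g - a) := by
  have h1 : GrLC.IsGrHom (shiftGr 𝒜 a) 𝒞 (LinearEquiv.ofBijective f hf).toLinearMap := by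
    intro g r hr
    have hr' : r ∈ 𝒜 (g - a) := hr
    have := hfa (g - a) r hr'
    rw [sub_add_cancel] at this
    exact this
  exact isGrHom_symm (shiftGr 𝒜 a) 𝒞 (LinearEquiv.ofBijective f hf) h1 g c hc

/-- the map `C → E'` sending the free generator to `v` -/
noncomputable def psi (v : E') : C →ₗ[R] E' :=
  (LinearMap.toSpanSingleton R E' v) ∘ₗ (LinearEquiv.ofBijective f hf).symm.toLinearMap

theorem psi_apply (v : E') (c : C) :
    psi f hf v c = (LinearEquiv.ofBijective f hf).symm c • v := rfl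

theorem psi_gen (v : E') : psi f hf v (f 1) = v := by
  rw [psi_apply]
  have : (LinearEquiv.ofBijective f hf).symm (f 1) = 1 :=
    (LinearEquiv.ofBijective f hf).symm_apply_apply 1
  rw [this, one_smul]

include hfa in
theorem psi_mem (j : ℤ) (v : E') (hv : v ∈ 𝓔 j) :
    psi f hf v ∈ GrLC.homDeg 𝒜 𝒞 𝓔 (j - a) := by
  intro g c hc
  rw [psi_apply]
  have h1 := symm_mem 𝒜 𝒞 a f hf hfa g c hc
  have h2 := SetLike.GradedSMul.smul_mem (A := 𝒜) (B := 𝓔) h1 hv
  rw [vadd_eq_add] at h2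
  have e1 : g - a + j = g + (j - a) := by ring
  rw [e1] at h2
  exact h2

include hpos hm he hf hfa in
/-- the degree of the generator of a free *canonical module is minus the a-invariant -/
theorem shift_eq (hC : GrLC.IsStarCanonical 𝒜 𝒞 𝓔 m n I) (s : ℤ)
    (hs : GrLC.endDeg (I.Hgr m n) = ((s : WithTop ℤ) : WithBot (WithTop ℤ))) : a = -s := by
  classical
  obtain ⟨-, φ, hφ⟩ := hC
  have hmne : m.toIdeal ≠ ⊤ := by
    intro h
    apply hm.1.1
    apply HomogeneousIdeal.toIdeal_injective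
    rw [h, HomogeneousIdeal.toIdeal_top]
  apply le_antisymm
  · -- `a ≤ -s`
    by_contra hlt
    have hlt' : 0 < s + a := by omega
    obtain ⟨z, hz, hz0⟩ := exists_ne_zero_of_ne_bot _ (ne_bot_of_endDeg_eq (I.Hgr m n) s hs)
    apply hz0
    set ψ := φ.symm z with hψ
    set v := ψ (f 1) with hv
    have hsum : ψ = ∑ j ∈ (DirectSum.decompose 𝓔 v).support, psi f hf (proj 𝓔 j v) := by
      apply LinearMap.ext
      intro c
      rw [LinearMap.sum_apply]
      simp only [psi_apply]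
      rw [← Finset.smul_sum, sum_proj 𝓔 v]
      have hc : c = (LinearEquiv.ofBijective f hf).symm c • f 1 := by
        rw [← map_smul, smul_eq_mul, mul_one]
        exact ((LinearEquiv.ofBijective f hf).apply_symm_apply c).symm
      conv_lhs => rw [hc, map_smul]
    have hz' : z = ∑ j ∈ (DirectSum.decompose 𝓔 v).support, φ (psi f hf (proj 𝓔 j v)) := by
      rw [← map_sum, ← hsum, hψ, LinearEquiv.apply_symm_apply]
    letI := (Hgr_isInternal I m n).chooseDecomposition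
    rw [← proj_of_mem_same (I.Hgr m n) hz, hz', proj_sum]
    refine Finset.sum_eq_zero fun j _ => ?_
    have hmem : φ (psi f hf (proj 𝓔 j v)) ∈ I.Hgr m n (j - a) :=
      hφ (j - a) _ (psi_mem 𝒜 𝓔 𝒞 a f hf hfa j _ (proj_mem 𝓔 j v))
    by_cases hj : j - a = s
    · have hjpos : 0 < j := by omega
      have h0 := proj_mem 𝓔 j v
      rw [E_pos_eq_bot 𝒜 hpos m hm 𝓔 e he j hjpos, AddSubgroup.mem_bot] at h0
      rw [h0]
      have : psi f hf (0 : E') = 0 := by
        apply LinearMap.ext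
        intro c
        rw [psi_apply, smul_zero, LinearMap.zero_apply]
      rw [this, map_zero, proj_zero]
    · exact proj_of_mem_ne (I.Hgr m n) hmem hj
  · -- `-s ≤ a`
    set u₀ := e (Ideal.Quotient.mk m.toIdeal 1) with hu₀
    have hu0 : u₀ ∈ 𝓔 0 := E_mk_mem 𝒜 hpos m hm 𝓔 e he 1
    have hune : u₀ ≠ 0 := by
      intro h
      have h1 : Ideal.Quotient.mk m.toIdeal 1 = 0 := he.injective (by rw [map_zero]; exact h)
      rw [Ideal.Quotient.eq_zero_iff_mem] at h1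
      exact hmne ((Ideal.eq_top_iff_one _).2 h1)
    have hmem : φ (psi f hf u₀) ∈ I.Hgr m n (0 - a) :=
      hφ (0 - a) _ (psi_mem 𝒜 𝓔 𝒞 a f hf hfa 0 _ hu0)
    have hne : φ (psi f hf u₀) ≠ 0 := by
      intro h
      have h1 : psi f hf u₀ = 0 := φ.injective (by rw [map_zero]; exact h)
      have h2 := psi_gen f hf u₀
      rw [h1, LinearMap.zero_apply] at h2
      exact hune h2.symm
    have hnb : I.Hgr m n (0 - a) ≠ ⊥ := by
      intro hbot
      rw [hbot, AddSubgroup.mem_bot] at hmem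
      exact hne hmem
    have := le_endDeg _ _ hnb
    rw [hs, WithBot.coe_le_coe, WithTop.coe_le_coe] at this
    omega

end Core

end Groth.Agent.Lib.Helper20.GrCanW
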