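import Mathlib
import Groth.Agent.Lib.Helper20.GrCanW1
import Groth.Agent.Lib.Helper20.GrKit12

/-!
# The *injective hull of the residue field of a positively graded ring: separation and existence
-/

set_option autoImplicit false
set_option linter.unusedSectionVars false
set_option linter.unusedVariables false
set_option linter.style.haveILetI false

namespace Groth.Agent.Lib.Helper20.GrVG

open DirectSum Groth.Agent.Lib.Helper26.GrProj Groth.Agent.Lib.Helper20.GrKit
  Groth.Agent.Lib.Helper20.GrCanW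

universe u

section Basic

variable {R : Type u} [CommRing R] (𝒜 : ℤ → AddSubgroup R) [GradedRing 𝒜]

open Classical in
theorem proj_mul_eq (s r : R) (j : ℤ) :
    proj 𝒜 j (s * r) = ∑ i ∈ (DirectSum.decompose 𝒜 s).support, proj 𝒜 i s * proj 𝒜 (j - i) r := by
  classical
  conv_lhs => rw [← sum_proj 𝒜 s, Finset.sum_mul, proj_sum]
  refine Finset.sum_congr rfl fun i _ => ?_
  have := proj_smul_of_mem 𝒜 𝒜 (proj_mem 𝒜 i s) j r
  rwa [smul_eq_mul, smul_eq_mul] at this

theorem span_homogeneous {E' : Type u} [AddCommGroup E'] [Module R E'] (𝓔 : ℤ → AddSubgroup E')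
    [DirectSum.Decomposition 𝓔] [SetLike.GradedSMul 𝒜 𝓔] {j : ℤ} {u : E'} (hu : u ∈ 𝓔 j) :
    (Submodule.span R {u}).IsHomogeneous 𝓔 := by
  intro i x hx
  obtain ⟨r, rfl⟩ := Submodule.mem_span_singleton.1 hx
  have : ((DirectSum.decompose 𝓔 (r • u) i : 𝓔 i) : E') = proj 𝓔 i (r • u) := rfl
  rw [this, proj_smul_of_mem_right 𝒜 𝓔 hu i r]
  exact Submodule.smul_mem _ _ (Submodule.mem_span_singleton_self u)

end Basic

section Hull

variable {R : Type u} [CommRing R] [IsNoetherianRing R] (𝒜 : ℤ → AddSubgroup R) [GradedRing 𝒜]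
  (hpos : ∀ n : ℤ, n < 0 → 𝒜 n = ⊥) (m : HomogeneousIdeal 𝒜) (hm : GrLC.IsStarLocal 𝒜 m)
  {E' : Type u} [AddCommGroup E'] [Module R E'] (𝓔 : ℤ → AddSubgroup E')
  [DirectSum.Decomposition 𝓔] [SetLike.GradedSMul 𝒜 𝓔] (e : (R ⧸ m.toIdeal) →ₗ[R] E')
  (he : GrLC.IsStarInjHull 𝒜 (GrLC.quotGr 𝒜 m) 𝓔 e)

include hpos hm he in
/-- separation: a homogeneous element of the hull killed by the complementary piece vanishes -/
theorem sep {n : ℤ} {x : E'} (hx : x ∈ 𝓔 n) (h : ∀ r ∈ 𝒜 (-n), r • x = 0) : x = 0 := by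
  classical
  by_contra hx0
  let P : Submodule R E' := Submodule.span R {x}
  have hP : P.IsHomogeneous 𝓔 := span_homogeneous 𝒜 𝓔 hx
  have hPne : P ≠ ⊥ := by
    intro h'
    have : x ∈ P := Submodule.mem_span_singleton_self x
    rw [h', Submodule.mem_bot] at this
    exact hx0 this
  have hmeet := he.essential P hP hPne
  obtain ⟨y, hy, hy0⟩ := Submodule.exists_mem_ne_zero_of_ne_bot hmeet
  obtain ⟨hyP, q, hq⟩ := hy
  obtain ⟨r, hr⟩ := Submodule.mem_span_singleton.1 hyP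
  obtain ⟨t, rfl⟩ := Ideal.Quotient.mk_surjective q
  have hy0' : y ∈ 𝓔 0 := by
    rw [← hq]
    exact E_mk_mem 𝒜 hpos m hm 𝓔 e he t
  apply hy0
  rw [← proj_of_mem_same 𝓔 hy0', ← hr, proj_smul_of_mem_right 𝒜 𝓔 hx 0 r, zero_sub]
  exact h _ (proj_mem 𝒜 (-n) r)

include hpos hm he in
/-- scalars act on the degree zero part of the hull through their degree zero component -/
theorem smul_eq_proj_zero_smul {y : E'} (hy : y ∈ 𝓔 0) (s : R) : s • y = proj 𝒜 0 s • y := by
  classical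
  conv_lhs => rw [← sum_proj 𝒜 s, Finset.sum_smul]
  have key : ∀ i : ℤ, i ≠ 0 → proj 𝒜 i s • y = 0 := by
    intro i hi
    rcases lt_or_gt_of_ne hi with hlt | hgt
    · have := proj_mem 𝒜 i s
      rw [hpos i hlt, AddSubgroup.mem_bot] at this
      rw [this, zero_smul]
    · have h1 := SetLike.GradedSMul.smul_mem (A := 𝒜) (B := 𝓔) (proj_mem 𝒜 i s) hy
      rw [vadd_eq_add, add_zero, E_pos_eq_bot 𝒜 hpos m hm 𝓔 e he i hgt, AddSubgroup.mem_bot] at h1
      exact h1
  by_cases h0 : (0 : ℤ) ∈ (DirectSum.decompose 𝒜 s).support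
  · rw [Finset.sum_eq_single_of_mem 0 h0 (fun i _ hi => key i hi)]
  · rw [proj_eq_zero_of_notMem 𝒜 h0, zero_smul]
    exact Finset.sum_eq_zero fun i hi => key i (fun e0 => h0 (e0 ▸ hi))

include hpos hm he in
/-- the degree zero part of the hull is the image of the residue field -/
theorem exists_eq_of_mem_zero (h0 : IsField (GrLC.deg0 𝒜)) {y : E'} (hy : y ∈ 𝓔 0) :
    ∃ t ∈ 𝒜 0, y = e (Ideal.Quotient.mk m.toIdeal t) := by
  classical
  by_cases hy0 : y = 0
  · exact ⟨0, zero_mem _, by rw [hy0, map_zero, map_zero]⟩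
  let P : Submodule R E' := Submodule.span R {y}
  have hP : P.IsHomogeneous 𝓔 := span_homogeneous 𝒜 𝓔 hy
  have hPne : P ≠ ⊥ := by
    intro h'
    have : y ∈ P := Submodule.mem_span_singleton_self y
    rw [h', Submodule.mem_bot] at this
    exact hy0 this
  have hmeet := he.essential P hP hPne
  obtain ⟨z, hz, hz0⟩ := Submodule.exists_mem_ne_zero_of_ne_bot hmeet
  obtain ⟨hzP, q, hq⟩ := hz
  obtain ⟨s, hs⟩ := Submodule.mem_span_singleton.1 hzP
  obtain ⟨t, rfl⟩ := Ideal.Quotient.mk_surjective q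
  have hzs : z = proj 𝒜 0 s • y := by
    rw [← hs]
    exact smul_eq_proj_zero_smul 𝒜 hpos m hm 𝓔 e he hy s
  set s0 : GrLC.deg0 𝒜 := ⟨proj 𝒜 0 s, proj_mem 𝒜 0 s⟩ with hs0
  have hs0ne : s0 ≠ 0 := by
    intro h
    apply hz0
    have h1 : proj 𝒜 0 s = 0 := congrArg Subtype.val h
    rw [hzs, h1, zero_smul]
  obtain ⟨c, hc⟩ := h0.mul_inv_cancel hs0ne
  have hc' : proj 𝒜 0 s * (c : R) = 1 := congrArg Subtype.val hc
  have hyz : y = (c : R) • z := by
    rw [hzs, smul_smul, mul_comm, hc', one_smul]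
  refine ⟨proj 𝒜 0 ((c : R) * t), proj_mem 𝒜 0 _, ?_⟩
  have h1 : Ideal.Quotient.mk m.toIdeal (proj 𝒜 0 ((c : R) * t)) =
      Ideal.Quotient.mk m.toIdeal ((c : R) * t) := by
    symm
    rw [Ideal.Quotient.eq]
    exact GrStarLoc.sub_proj_zero_mem 𝒜 hpos m hm _
  rw [h1, hyz, ← hq, ← map_smul]
  congr 1

include hpos hm he in
/-- existence: every `R_0`-linear map from a piece of the ring to the degree zero part of the hull
is multiplication by a homogeneous element -/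
theorem ex (n : ℤ) (g : R →+ E') (hg0 : ∀ r, g r ∈ 𝓔 0)
    (hgs : ∀ s ∈ 𝒜 0, ∀ r ∈ 𝒜 (-n), g (s * r) = s • g r) :
    ∃ x ∈ 𝓔 n, ∀ r ∈ 𝒜 (-n), r • x = g r := by
  classical
  -- the ideal of elements of degrees at least `-n`
  let J : Submodule R R :=
    { carrier := {r | ∀ j < -n, proj 𝒜 j r = 0}
      add_mem' := fun {a b} ha hb j hj => by rw [proj_add, ha j hj, hb j hj, add_zero]
      zero_mem' := fun j _ => proj_zero 𝒜 j
      smul_mem' := fun s r hr j hj => by
        rw [smul_eq_mul, proj_mul_eq]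
        refine Finset.sum_eq_zero fun i _ => ?_
        by_cases hi : i < 0
        · have := proj_mem 𝒜 i s
          rw [hpos i hi, AddSubgroup.mem_bot] at this
          rw [this, zero_mul]
        · rw [hr (j - i) (by omega), mul_zero] }
  have hJmem : ∀ r : R, r ∈ J ↔ ∀ j < -n, proj 𝒜 j r = 0 := fun r => Iff.rfl
  have hJst : ∀ g x, x ∈ J → proj 𝒜 g x ∈ J := by
    intro g x hx j hj
    by_cases hgj : g = j
    · rw [hgj, proj_of_mem_same 𝒜 (proj_mem 𝒜 j x)]
      exact hx j hj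
    · exact proj_of_mem_ne 𝒜 (proj_mem 𝒜 g x) hgj
  have K1 : ∀ r ∈ J, ∀ s : R, proj 𝒜 (-n) (s * r) = proj 𝒜 0 s * proj 𝒜 (-n) r := by
    intro r hr s
    rw [proj_mul_eq]
    have key : ∀ i : ℤ, i ≠ 0 → proj 𝒜 i s * proj 𝒜 (-n - i) r = 0 := by
      intro i hi
      rcases lt_or_gt_of_ne hi with hlt | hgt
      · have := proj_mem 𝒜 i s
        rw [hpos i hlt, AddSubgroup.mem_bot] at this
        rw [this, zero_mul]
      · rw [hr (-n - i) (by omega), mul_zero]
    by_cases h0 : (0 : ℤ) ∈ (DirectSum.decompose 𝒜 s).support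
    · rw [Finset.sum_eq_single_of_mem 0 h0 (fun i _ hi => key i hi), sub_zero]
    · rw [proj_eq_zero_of_notMem 𝒜 h0, zero_mul]
      exact Finset.sum_eq_zero fun i hi => key i (fun e0 => h0 (e0 ▸ hi))
  let G : J →ₗ[R] E' :=
    { toFun := fun r => g (proj 𝒜 (-n) r.1)
      map_add' := fun r r' => by
        change g (proj 𝒜 (-n) (r.1 + r'.1)) = _
        rw [proj_add, map_add]
      map_smul' := fun s r => by
        change g (proj 𝒜 (-n) (s * r.1)) = s • g (proj 𝒜 (-n) r.1)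
        rw [K1 r.1 r.2 s, hgs _ (proj_mem 𝒜 0 s) _ (proj_mem 𝒜 (-n) r.1),
          ← smul_eq_proj_zero_smul 𝒜 hpos m hm 𝓔 e he (hg0 _) s] }
  have hG : ∀ r : J, G r = g (proj 𝒜 (-n) r.1) := fun _ => rfl
  letI : DirectSum.Decomposition (subGr 𝒜 J) := subDecomposition 𝒜 J hJst
  let A : GrLC.GMod.{u} 𝒜 := { carrier := J, gr := shiftGr (subGr 𝒜 J) n }
  let B : GrLC.GMod.{u} 𝒜 := { carrier := R, gr := shiftGr 𝒜 n }
  have hf : GrLC.IsGrHom A.gr B.gr J.subtype := fun g x hx => hx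
  have hGgr : GrLC.IsGrHom A.gr 𝓔 G := by
    intro j x hx
    have hx' : (x : R) ∈ 𝒜 (j - n) := hx
    rw [hG]
    by_cases hj : j - n = -n
    · have : j = 0 := by omega
      rw [this]
      exact hg0 _
    · rw [proj_of_mem_ne 𝒜 hx' hj, map_zero]
      exact zero_mem _
  obtain ⟨h, hh, hcomp⟩ := he.starInj A B J.subtype hf Subtype.val_injective G hGgr
  refine ⟨h 1, ?_, ?_⟩
  · apply hh n
    change (1 : R) ∈ 𝒜 (n - n)
    rw [sub_self]
    exact SetLike.GradedOne.one_mem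
  · intro r hr
    have hrJ : r ∈ J := by
      intro j hj
      exact proj_of_mem_ne 𝒜 hr (by omega)
    have h1 : h r = G ⟨r, hrJ⟩ := by
      rw [← hcomp]
      rfl
    rw [← map_smul, smul_eq_mul, mul_one, h1, hG]
    change g (proj 𝒜 (-n) r) = g r
    rw [proj_of_mem_same 𝒜 hr]

end Hull

end Groth.Agent.Lib.Helper20.GrVG
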