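import Mathlib
import Groth.Prelude.Def_GrLC
import Groth.Agent.Lib.Helper20.GrVG1
import Groth.Agent.Lib.Helper20.GrKit2
import Groth.Agent.Lib.Helper20.GrStarLoc

/-!
# Graded Matlis duality, degree by degree: enough homomorphisms into the *injective hull
-/

set_option autoImplicit false
set_option linter.unusedSectionVars false
set_option linter.unusedVariables false
set_option linter.style.haveILetI false

namespace Groth.Agent.Lib.Helper20.GrVK

open DirectSum Groth.Agent.Lib.Helper26.GrProj Groth.Agent.Lib.Helper20.GrKit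
  Groth.Agent.Lib.Helper20.GrCanW Groth.Agent.Lib.Helper20.GrVG

universe u

variable {R : Type u} [CommRing R] [IsNoetherianRing R] (𝒜 : ℤ → AddSubgroup R) [GradedRing 𝒜]
  (hpos : ∀ n : ℤ, n < 0 → 𝒜 n = ⊥) (h0 : IsField (GrLC.deg0 𝒜))
  (m : HomogeneousIdeal 𝒜) (hm : GrLC.IsStarLocal 𝒜 m)
  {E' : Type u} [AddCommGroup E'] [Module R E'] (𝓔 : ℤ → AddSubgroup E')
  [DirectSum.Decomposition 𝓔] [SetLike.GradedSMul 𝒜 𝓔] (e : (R ⧸ m.toIdeal) →ₗ[R] E')
  (he : GrLC.IsStarInjHull 𝒜 (GrLC.quotGr 𝒜 m) 𝓔 e)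
  {C : Type u} [AddCommGroup C] [Module R C] (𝒞 : ℤ → AddSubgroup C)
  [DirectSum.Decomposition 𝒞] [SetLike.GradedSMul 𝒜 𝒞]

include hm in
theorem toIdeal_ne_top : m.toIdeal ≠ ⊤ := by
  intro h
  apply hm.1.1
  apply HomogeneousIdeal.toIdeal_injective
  rw [h, HomogeneousIdeal.toIdeal_top]

include hm he in
theorem e_one_ne_zero : e (Ideal.Quotient.mk m.toIdeal 1) ≠ 0 := by
  intro h
  have h1 : Ideal.Quotient.mk m.toIdeal 1 = 0 := he.injective (by rw [h, map_zero])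
  rw [Ideal.Quotient.eq_zero_iff_mem] at h1
  exact toIdeal_ne_top 𝒜 m hm ((Ideal.eq_top_iff_one _).2 h1)

include hpos h0 hm in
/-- the annihilator of a nonzero homogeneous element lies in the irrelevant ideal -/
theorem ann_le {i : ℤ} {c : C} (hc : c ∈ 𝒞 i) (hc0 : c ≠ 0) (r : R) (hr : r • c = 0) :
    r ∈ m.toIdeal := by
  have h1 : proj 𝒜 0 r • c = 0 := by
    have := proj_smul_of_mem_right 𝒜 𝒞 hc i r
    rw [hr, proj_zero, sub_self] at this
    exact this.symm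
  have h2 : proj 𝒜 0 r = 0 := by
    by_contra hne
    set s0 : GrLC.deg0 𝒜 := ⟨proj 𝒜 0 r, proj_mem 𝒜 0 r⟩ with hs0def
    have hs0 : s0 ≠ 0 := fun h => hne (congrArg Subtype.val h)
    obtain ⟨u, hu⟩ := h0.mul_inv_cancel hs0
    have hu' : proj 𝒜 0 r * (u : R) = 1 := congrArg Subtype.val hu
    apply hc0
    rw [← one_smul R c, ← hu', mul_comm, mul_smul, h1, smul_zero]
  have := GrStarLoc.sub_proj_zero_mem 𝒜 hpos m hm r
  rwa [h2, sub_zero] at this

include hpos h0 hm he in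
/-- there are enough homogeneous maps into the *injective hull of the residue field -/
theorem enough_homs {i : ℤ} {c : C} (hc : c ∈ 𝒞 i) (hc0 : c ≠ 0) :
    ∃ f : C →ₗ[R] E', GrLC.IsGrHomDeg 𝒞 𝓔 f (-i) ∧ f c ≠ 0 := by
  classical
  let t : R →ₗ[R] C := LinearMap.toSpanSingleton R C c
  have ht : ∀ r, t r = r • c := fun r => rfl
  have hker : LinearMap.ker t ≤ m.toIdeal := fun r hr => ann_le 𝒜 hpos h0 m hm 𝒞 hc hc0 r hr
  let P : Submodule R C := Submodule.span R {c}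
  have hP : P.IsHomogeneous 𝒞 := span_homogeneous 𝒜 𝒞 hc
  letI decP : DirectSum.Decomposition (subGr 𝒞 P) :=
    subDecomposition 𝒞 P (fun g x hx => hP g hx)
  let G₀ : (R ⧸ LinearMap.ker t) →ₗ[R] E' :=
    (LinearMap.ker t).liftQ (e ∘ₗ m.toIdeal.mkQ) (by
      intro r hr
      rw [LinearMap.mem_ker, LinearMap.comp_apply]
      have : m.toIdeal.mkQ r = 0 := (Submodule.Quotient.mk_eq_zero _).2 (hker hr)
      rw [this, map_zero])
  have hrange : LinearMap.range t = P := (LinearMap.span_singleton_eq_range R C c).symm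
  let G : P →ₗ[R] E' :=
    G₀ ∘ₗ t.quotKerEquivRange.symm.toLinearMap ∘ₗ (LinearEquiv.ofEq P _ hrange.symm).toLinearMap
  have hG : ∀ (r : R) (h : r • c ∈ P), G ⟨r • c, h⟩ = e (Ideal.Quotient.mk m.toIdeal r) := by
    intro r h
    change G₀ (t.quotKerEquivRange.symm ⟨t r, _⟩) = _
    rw [LinearMap.quotKerEquivRange_symm_apply_image]
    rfl
  let A : GrLC.GMod.{u} 𝒜 := { carrier := P, gr := shiftGr (subGr 𝒞 P) (-i) }
  let B : GrLC.GMod.{u} 𝒜 := { carrier := C, gr := shiftGr 𝒞 (-i) }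
  have hf : GrLC.IsGrHom A.gr B.gr P.subtype := fun g x hx => hx
  have hGgr : GrLC.IsGrHom A.gr 𝓔 G := by
    intro g x hx
    have hx' : (x : C) ∈ 𝒞 (g - -i) := hx
    obtain ⟨r, hr⟩ := Submodule.mem_span_singleton.1 x.2
    have h1 : (x : C) = proj 𝒜 g r • c := by
      rw [← proj_of_mem_same 𝒞 hx', ← hr, proj_smul_of_mem_right 𝒜 𝒞 hc (g - -i) r]
      congr 2
      ring
    have hmem : proj 𝒜 g r • c ∈ P := Submodule.smul_mem _ _ (Submodule.mem_span_singleton_self c)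
    have hx2 : x = ⟨proj 𝒜 g r • c, hmem⟩ := Subtype.ext h1
    rw [hx2, hG]
    exact he.grHom g _ ⟨proj 𝒜 g r, proj_mem 𝒜 g r, rfl⟩
  obtain ⟨h, hh, hcomp⟩ := he.starInj A B P.subtype hf Subtype.val_injective G hGgr
  refine ⟨h, ?_, ?_⟩
  · intro g x hx
    apply hh (g + -i) x
    change x ∈ 𝒞 (g + -i - -i)
    rwa [show g + -i - -i = g by ring]
  · have hcP : c ∈ P := Submodule.mem_span_singleton_self c
    have h1 : h c = G ⟨c, hcP⟩ := by
      rw [← hcomp]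
      rfl
    have h2 : (⟨c, hcP⟩ : P) = ⟨(1 : R) • c, by rw [one_smul]; exact hcP⟩ :=
      Subtype.ext (one_smul R c).symm
    rw [h1, h2, hG]
    exact e_one_ne_zero 𝒜 m hm 𝓔 e he

include hpos hm he in
/-- a homogeneous map into the hull is determined by its values on the complementary piece -/
theorem hom_eq_zero {i : ℤ} (f : C →ₗ[R] E') (hf : GrLC.IsGrHomDeg 𝒞 𝓔 f (-i))
    (hvan : ∀ x ∈ 𝒞 i, f x = 0) : f = 0 := by
  classical
  ext x
  rw [LinearMap.zero_apply]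
  induction x using DirectSum.Decomposition.inductionOn 𝒞 with
  | zero => exact map_zero f
  | add x y hx hy => rw [map_add, hx, hy, add_zero]
  | homogeneous x =>
    rename_i g
    have h1 : f (x : C) ∈ 𝓔 (g + -i) := hf g x x.2
    apply sep 𝒜 hpos m hm 𝓔 e he h1
    intro r hr
    rw [← map_smul]
    apply hvan
    have := SetLike.GradedSMul.smul_mem (A := 𝒜) (B := 𝒞) hr x.2
    rw [vadd_eq_add] at this
    rwa [show -(g + -i) + g = i by ring] at this

variable {H : Type u} [AddCommGroup H] [Module R H] (ℋ : ℤ → AddSubgroup H)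
  [DirectSum.Decomposition ℋ] [SetLike.GradedSMul 𝒜 ℋ]
  (ψ : (C →ₗ[R] E') ≃ₗ[R] H)
  (hψ : GrLC.IsGrHom (fun d => (GrLC.homDeg 𝒜 𝒞 𝓔 d).toAddSubgroup) ℋ ψ.toLinearMap)

include hψ in
/-- the inverse of the canonical isomorphism is graded -/
theorem symm_homDeg [Module.Finite R C] {j : ℤ} {h : H} (hh : h ∈ ℋ j) :
    GrLC.IsGrHomDeg 𝒞 𝓔 (ψ.symm h) j := by
  classical
  set u := ψ.symm h with hu
  obtain ⟨T, hT⟩ := exists_finset_homComp 𝒜 𝒞 𝓔 Module.Finite.fg_top u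
  have hmem : ∀ d, ψ (homComp 𝒜 𝒞 𝓔 u d) ∈ ℋ d :=
    fun d => hψ d _ (homComp_isGrHomDeg 𝒜 𝒞 𝓔 u d)
  have hsum : h = ∑ d ∈ T, ψ (homComp 𝒜 𝒞 𝓔 u d) := by
    have := congrArg ψ hT
    rwa [hu, LinearEquiv.apply_symm_apply, map_sum] at this
  have hz : ∀ d ∈ T, d ≠ j → homComp 𝒜 𝒞 𝓔 u d = 0 := by
    intro d hd hne
    have h1 : proj ℋ d h = 0 := proj_of_mem_ne ℋ hh hne.symm
    rw [hsum, proj_sum] at h1
    have h2 : ∀ d' ∈ T, proj ℋ d (ψ (homComp 𝒜 𝒞 𝓔 u d')) =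
        if d' = d then ψ (homComp 𝒜 𝒞 𝓔 u d) else 0 := by
      intro d' _
      split_ifs with hdd
      · rw [hdd]
        exact proj_of_mem_same ℋ (hmem d)
      · exact proj_of_mem_ne ℋ (hmem d') hdd
    rw [Finset.sum_congr rfl h2, Finset.sum_ite_eq' T d, if_pos hd] at h1
    exact ψ.injective (by rw [h1, map_zero])
  rw [hT]
  intro g x hx
  rw [LinearMap.sum_apply]
  apply AddSubgroup.sum_mem
  intro d hd
  by_cases hdj : d = j
  · rw [hdj]
    exact homComp_isGrHomDeg 𝒜 𝒞 𝓔 u j g x hx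
  · rw [hz d hd hdj, LinearMap.zero_apply]
    exact zero_mem _

include hpos h0 hm he in
/-- the degree zero part of the hull is one dimensional -/
theorem finrank_hull_zero :
    letI : Field (GrLC.deg0 𝒜) := h0.toField
    Module.finrank (GrLC.deg0 𝒜) (GrLC.comp 𝒜 𝓔 0) = 1 := by
  letI : Field (GrLC.deg0 𝒜) := h0.toField
  let ε : GrLC.comp 𝒜 𝓔 0 :=
    ⟨e (Ideal.Quotient.mk m.toIdeal 1), E_mk_mem 𝒜 hpos m hm 𝓔 e he 1⟩
  have hε : ε ≠ 0 := by
    intro h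
    exact e_one_ne_zero 𝒜 m hm 𝓔 e he (congrArg Subtype.val h)
  refine finrank_eq_one ε hε ?_
  intro w
  obtain ⟨t, ht, hw⟩ := exists_eq_of_mem_zero 𝒜 hpos m hm 𝓔 e he h0 w.2
  refine ⟨⟨t, ht⟩, ?_⟩
  apply Subtype.ext
  change t • e (Ideal.Quotient.mk m.toIdeal 1) = (w : E')
  rw [← map_smul, hw]
  congr 1
  change Ideal.Quotient.mk m.toIdeal (t * 1) = _
  rw [mul_one]

end Groth.Agent.Lib.Helper20.GrVK
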