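import Mathlib
import Groth.Prelude.Def_GrLC
import Groth.Agent.Lib.Helper20.GrVK1
import Groth.Agent.Lib.Helper20.GrVK2
import Groth.Agent.Lib.Helper20.GrArt2

/-!
# Graded Matlis duality, degree by degree: the pairing `C_i × H_{-i} → E_0` is perfect
-/

set_option autoImplicit false
set_option linter.unusedSectionVars false
set_option linter.unusedVariables false
set_option linter.style.haveILetI false

namespace Groth.Agent.Lib.Helper20.GrVK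

open DirectSum Groth.Agent.Lib.Helper26.GrProj Groth.Agent.Lib.Helper20.GrKit
  Groth.Agent.Lib.Helper20.GrCanW Groth.Agent.Lib.Helper20.GrVG

universe u

variable {R : Type u} [CommRing R] [IsNoetherianRing R] (𝒜 : ℤ → AddSubgroup R) [GradedRing 𝒜]
  (hpos : ∀ n : ℤ, n < 0 → 𝒜 n = ⊥) (h0 : IsField (GrLC.deg0 𝒜))
  (m : HomogeneousIdeal 𝒜) (hm : GrLC.IsStarLocal 𝒜 m)
  {E' : Type u} [AddCommGroup E'] [Module R E'] (𝓔 : ℤ → AddSubgroup E')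
  [DirectSum.Decomposition 𝓔] [SetLike.GradedSMul 𝒜 𝓔] (e : (R ⧸ m.toIdeal) →ₗ[R] E')
  (he : GrLC.IsStarInjHull 𝒜 (GrLC.quotGr 𝒜 m) 𝓔 e)
  {C : Type u} [AddCommGroup C] [Module R C] [Module.Finite R C] (𝒞 : ℤ → AddSubgroup C)
  [DirectSum.Decomposition 𝒞] [SetLike.GradedSMul 𝒜 𝒞]
  {H : Type u} [AddCommGroup H] [Module R H] (ℋ : ℤ → AddSubgroup H)
  [DirectSum.Decomposition ℋ] [SetLike.GradedSMul 𝒜 ℋ]
  (ψ : (C →ₗ[R] E') ≃ₗ[R] H)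
  (hψ : GrLC.IsGrHom (fun d => (GrLC.homDeg 𝒜 𝒞 𝓔 d).toAddSubgroup) ℋ ψ.toLinearMap)

include hψ in
theorem pair_mem {i j : ℤ} {c : C} (hc : c ∈ 𝒞 i) {h : H} (hh : h ∈ ℋ j) :
    (ψ.symm h) c ∈ 𝓔 (i + j) :=
  symm_homDeg 𝒜 𝓔 𝒞 ℋ ψ hψ hh i c hc

include hψ in
theorem pair_mem_zero {i : ℤ} {c : C} (hc : c ∈ 𝒞 i) {h : H} (hh : h ∈ ℋ (-i)) :
    (ψ.symm h) c ∈ 𝓔 0 := by
  have := pair_mem 𝒜 𝓔 𝒞 ℋ ψ hψ hc hh
  rwa [add_neg_cancel] at this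

include hpos h0 hm he hψ in
/-- left nondegeneracy -/
theorem nondeg {i : ℤ} {c : C} (hc : c ∈ 𝒞 i) (h : ∀ h ∈ ℋ (-i), (ψ.symm h) c = 0) : c = 0 := by
  by_contra hc0
  obtain ⟨f, hf, hfc⟩ := enough_homs 𝒜 hpos h0 m hm 𝓔 e he 𝒞 hc hc0
  apply hfc
  have h1 := h (ψ f) (hψ (-i) f hf)
  rwa [LinearEquiv.symm_apply_apply] at h1

include hpos hm he hψ in
/-- right nondegeneracy -/
theorem nondeg_right {i : ℤ} {h : H} (hh : h ∈ ℋ (-i)) (hv : ∀ c ∈ 𝒞 i, (ψ.symm h) c = 0) :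
    h = 0 := by
  have h1 := hom_eq_zero 𝒜 hpos m hm 𝓔 e he 𝒞 (ψ.symm h)
    (symm_homDeg 𝒜 𝓔 𝒞 ℋ ψ hψ hh) hv
  exact ψ.symm.injective (by rw [h1, map_zero])

include hpos h0 hm he hψ in
/-- representability of functionals -/
theorem rep (i : ℤ) (lam : H →+ R ⧸ m.toIdeal)
    (hlam : ∀ r ∈ 𝒜 0, ∀ h ∈ ℋ (-i), lam (r • h) = Ideal.Quotient.mk m.toIdeal r * lam h) :
    ∃ c ∈ 𝒞 i, ∀ h ∈ ℋ (-i), (ψ.symm h) c = e (lam h) := by
  classical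
  letI : Field (GrLC.deg0 𝒜) := h0.toField
  haveI : IsNoetherian R C := isNoetherian_of_isNoetherianRing_of_finite R C
  haveI hN : IsNoetherian (GrLC.deg0 𝒜) (GrLC.comp 𝒜 𝒞 i) :=
    Groth.Agent.Lib.Helper20.GrArt.isNoetherian_comp 𝒜 𝒞 i
  haveI : Module.Finite (GrLC.deg0 𝒜) (GrLC.comp 𝒜 𝒞 i) := inferInstance
  have hemem : ∀ y : R ⧸ m.toIdeal, e y ∈ 𝓔 0 := by
    intro y
    obtain ⟨t, rfl⟩ := Ideal.Quotient.mk_surjective y
    exact E_mk_mem 𝒜 hpos m hm 𝓔 e he t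
  let B : GrLC.comp 𝒜 𝒞 i →ₗ[GrLC.deg0 𝒜] GrLC.comp 𝒜 ℋ (-i) →ₗ[GrLC.deg0 𝒜] GrLC.comp 𝒜 𝓔 0 :=
    LinearMap.mk₂ (GrLC.deg0 𝒜)
      (fun v w => ⟨(ψ.symm (w : H)) (v : C), pair_mem_zero 𝒜 𝓔 𝒞 ℋ ψ hψ v.2 w.2⟩)
      (fun v v' w => Subtype.ext (map_add (ψ.symm (w : H)) (v : C) (v' : C)))
      (fun r v w => Subtype.ext (map_smul (ψ.symm (w : H)) (r : R) (v : C)))
      (fun v w w' => Subtype.ext (by
        change (ψ.symm ((w : H) + (w' : H))) (v : C) = _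
        rw [map_add]
        rfl))
      (fun r v w => Subtype.ext (by
        change (ψ.symm ((r : R) • (w : H))) (v : C) = _
        rw [map_smul]
        rfl))
  have hB : ∀ v w, ((B v w : GrLC.comp 𝒜 𝓔 0) : E') = (ψ.symm (w : H)) (v : C) := fun v w => rfl
  have hl : ∀ v, (∀ w, B v w = 0) → v = 0 := by
    intro v hv
    apply Subtype.ext
    apply nondeg 𝒜 hpos h0 m hm 𝓔 e he 𝒞 ℋ ψ hψ v.2
    intro h hh
    have := congrArg Subtype.val (hv ⟨h, hh⟩)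
    exact this
  have hr : ∀ w, (∀ v, B v w = 0) → w = 0 := by
    intro w hw
    apply Subtype.ext
    apply nondeg_right 𝒜 hpos m hm 𝓔 e he 𝒞 ℋ ψ hψ w.2
    intro c hc
    have := congrArg Subtype.val (hw ⟨c, hc⟩)
    exact this
  let l : GrLC.comp 𝒜 ℋ (-i) →ₗ[GrLC.deg0 𝒜] GrLC.comp 𝒜 𝓔 0 :=
    { toFun := fun w => ⟨e (lam (w : H)), hemem _⟩
      map_add' := fun w w' => Subtype.ext (by
        change e (lam ((w : H) + (w' : H))) = e (lam (w : H)) + e (lam (w' : H))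
        rw [map_add, map_add])
      map_smul' := fun r w => Subtype.ext (by
        change e (lam ((r : R) • (w : H))) = (r : R) • e (lam (w : H))
        rw [hlam _ r.2 _ w.2, ← map_smul]
        congr 1) }
  obtain ⟨v, hv⟩ := exists_rep_of_nondeg
    (finrank_hull_zero 𝒜 hpos h0 m hm 𝓔 e he) B hl hr l
  refine ⟨v, v.2, fun h hh => ?_⟩
  have := LinearMap.congr_fun hv ⟨h, hh⟩
  exact congrArg Subtype.val this

end Groth.Agent.Lib.Helper20.GrVK
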