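import Mathlib
import Groth.Prelude.Def_GrLC
import Groth.Prelude.Def_Wider
import Groth.Agent.Lib.Helper26.GrProj
import Groth.Agent.Lib.Helper20.GrKit10
import Groth.Agent.Lib.Helper20.GrKit2

/-!
# Positively ℤ-graded rings: elementary degree bookkeeping
-/

set_option autoImplicit false
set_option linter.unusedSectionVars false
set_option linter.unusedVariables false

namespace Groth.Agent.Lib.Helper20.GrKit

open DirectSum Groth.Agent.Lib.Helper26.GrProj

universe u

section Gens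

variable {ι : Type} [AddCommGroup ι] [DecidableEq ι] {R : Type u} [CommRing R]
  (𝒜 : ι → AddSubgroup R) [GradedRing 𝒜]
  {M : Type u} [AddCommGroup M] [Module R M] (ℳ : ι → AddSubgroup M)
  [DirectSum.Decomposition ℳ] [SetLike.GradedSMul 𝒜 ℳ]

/-- homogeneous elements are homogeneous combinations of homogeneous generators -/
theorem exists_homogeneous_coeffs {s : ℕ} (d : Fin s → ι) (m : Fin s → M)
    (hm : ∀ j, m j ∈ ℳ (d j)) (hspan : Submodule.span R (Set.range m) = ⊤) (n : ι) (x : M)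
    (hx : x ∈ ℳ n) : ∃ c : Fin s → R, (∀ j, c j ∈ 𝒜 (n - d j)) ∧ x = ∑ j, c j • m j := by
  classical
  have hx' : x ∈ Submodule.span R (Set.range m) := by rw [hspan]; exact Submodule.mem_top
  obtain ⟨c, hc⟩ := (Submodule.mem_span_range_iff_exists_fun R).1 hx'
  refine ⟨fun j => proj 𝒜 (n - d j) (c j), fun j => proj_mem 𝒜 _ _, ?_⟩
  conv_lhs => rw [← proj_of_mem_same ℳ hx, ← hc, proj_sum]
  refine Finset.sum_congr rfl fun j _ => ?_
  exact proj_smul_of_mem_right 𝒜 ℳ (hm j) n (c j)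

end Gens

section ZGr

variable {R : Type u} [CommRing R] (𝒜 : ℤ → AddSubgroup R) [GradedRing 𝒜]
  {M : Type u} [AddCommGroup M] [Module R M] (ℳ : ℤ → AddSubgroup M)
  [DirectSum.Decomposition ℳ] [SetLike.GradedSMul 𝒜 ℳ]

/-- a finitely generated graded module over a positively graded ring is bounded below -/
theorem exists_bounded_below (hpos : ∀ n : ℤ, n < 0 → 𝒜 n = ⊥) [Module.Finite R M] :
    ∃ d₀ : ℤ, ∀ n : ℤ, n < d₀ → ℳ n = ⊥ := by
  classical
  obtain ⟨s, d, m, hm, hspan⟩ := exists_homogeneous_gens ℳ (Module.Finite.fg_top (R := R) (M := M))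
  refine ⟨- ∑ j, |d j|, fun n hn => ?_⟩
  rw [eq_bot_iff]
  intro x hx
  obtain ⟨c, hc, rfl⟩ := exists_homogeneous_coeffs 𝒜 ℳ d m hm hspan n x hx
  rw [AddSubgroup.mem_bot]
  refine Finset.sum_eq_zero fun j _ => ?_
  have hj : |d j| ≤ ∑ j, |d j| :=
    Finset.single_le_sum (f := fun j => |d j|) (fun i _ => abs_nonneg _) (Finset.mem_univ j)
  have hneg : n - d j < 0 := by
    have := neg_abs_le (d j)
    linarith
  have h0 := hc j
  rw [hpos _ hneg, AddSubgroup.mem_bot] at h0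
  rw [h0, zero_smul]

variable (a : HomogeneousIdeal 𝒜)

/-- elements of the irrelevant ideal have no component in degree 0 -/
theorem proj_zero_of_mem_irrelevant (hpos : ∀ n : ℤ, n < 0 → 𝒜 n = ⊥)
    (ha : a.toIdeal = Ideal.span (⋃ n ∈ Set.Ioi (0 : ℤ), (𝒜 n : Set R))) (r : R)
    (hr : r ∈ a.toIdeal) : proj 𝒜 0 r = 0 := by
  rw [ha] at hr
  refine Submodule.closure_induction (R := R) (M := R) (p := fun x _ => proj 𝒜 0 x = 0)
    (proj_zero 𝒜 0) ?_ ?_ hr
  · intro x y _ _ hx hy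
    rw [proj_add, hx, hy, add_zero]
  · intro c x hx
    obtain ⟨n, hn, hxn⟩ : ∃ n : ℤ, 0 < n ∧ x ∈ 𝒜 n := by
      simp only [Set.mem_iUnion, Set.mem_Ioi, SetLike.mem_coe] at hx
      obtain ⟨n, hn, hxn⟩ := hx
      exact ⟨n, hn, hxn⟩
    have h1 := proj_smul_of_mem_right 𝒜 𝒜 hxn 0 c
    rw [h1]
    have h2 : proj 𝒜 (0 - n) c ∈ 𝒜 (0 - n) := proj_mem 𝒜 _ _
    rw [hpos _ (by omega), AddSubgroup.mem_bot] at h2
    rw [h2, zero_smul]

/-- in a homogeneous ring, `R_i ⊆ (R_+)^i` -/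
theorem mem_pow_of_mem_deg (ha : a.toIdeal = Ideal.span (⋃ n ∈ Set.Ioi (0 : ℤ), (𝒜 n : Set R)))
    (hhom : a.toIdeal = Ideal.span ((𝒜 1 : AddSubgroup R) : Set R)) (i : ℕ) :
    ∀ r ∈ 𝒜 (i : ℤ), r ∈ a.toIdeal ^ i := by
  induction i with
  | zero => intro r _; rw [pow_zero, Ideal.one_eq_top]; exact Submodule.mem_top (R := R) (M := R)
  | succ i ih =>
    intro r hr
    have hra : r ∈ a.toIdeal := by
      rw [ha]
      apply Ideal.subset_span
      simp only [Set.mem_iUnion, Set.mem_Ioi, SetLike.mem_coe]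
      exact ⟨((i + 1 : ℕ) : ℤ), by positivity, hr⟩
    have key : ∀ x ∈ Ideal.span ((𝒜 1 : AddSubgroup R) : Set R),
        proj 𝒜 ((i + 1 : ℕ) : ℤ) x ∈ a.toIdeal ^ (i + 1) := by
      intro x hx
      refine Submodule.closure_induction (R := R) (M := R)
        (p := fun x _ => proj 𝒜 ((i + 1 : ℕ) : ℤ) x ∈ a.toIdeal ^ (i + 1)) ?_ ?_ ?_ hx
      · rw [proj_zero]; exact Submodule.zero_mem _
      · intro x y _ _ hx hy
        rw [proj_add]; exact Submodule.add_mem _ hx hy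
      · intro c s hs
        have h1 := proj_smul_of_mem_right 𝒜 𝒜 (show s ∈ 𝒜 1 from hs) ((i + 1 : ℕ) : ℤ) c
        rw [h1, pow_succ]
        have h2 : proj 𝒜 (((i + 1 : ℕ) : ℤ) - 1) c ∈ 𝒜 (i : ℤ) := by
          have e : ((i + 1 : ℕ) : ℤ) - 1 = (i : ℤ) := by push_cast; ring
          rw [e]
          exact proj_mem 𝒜 _ c
        have hs' : s ∈ a.toIdeal := by rw [hhom]; exact Ideal.subset_span hs
        exact Ideal.mul_mem_mul (ih _ h2) hs'
    have := key r (by rw [← hhom]; exact hra)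
    rwa [proj_of_mem_same 𝒜 hr] at this

/-- `(R_+)^k` is generated by `R_k` when `R_+` is generated by `R_1` -/
theorem pow_le_span_deg (hhom : a.toIdeal = Ideal.span ((𝒜 1 : AddSubgroup R) : Set R)) (k : ℕ) :
    a.toIdeal ^ k ≤ Ideal.span ((𝒜 (k : ℤ) : AddSubgroup R) : Set R) := by
  induction k with
  | zero =>
    rw [pow_zero]
    intro x _
    have h1 : (1 : R) ∈ Ideal.span ((𝒜 ((0 : ℕ) : ℤ) : AddSubgroup R) : Set R) :=
      Ideal.subset_span (SetLike.GradedOne.one_mem (A := 𝒜))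
    have := Ideal.mul_mem_left _ x h1
    rwa [mul_one] at this
  | succ k ih =>
    rw [pow_succ]
    calc a.toIdeal ^ k * a.toIdeal
        ≤ Ideal.span ((𝒜 (k : ℤ) : AddSubgroup R) : Set R) *
            Ideal.span ((𝒜 1 : AddSubgroup R) : Set R) := by
          rw [← hhom]; exact Ideal.mul_mono_left ih
      _ ≤ Ideal.span ((𝒜 ((k + 1 : ℕ) : ℤ) : AddSubgroup R) : Set R) := by
          rw [Ideal.span_mul_span']
          apply Ideal.span_mono
          rintro _ ⟨x, hx, y, hy, rfl⟩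
          have := SetLike.GradedMul.mul_mem (A := 𝒜) hx hy
          have e : ((k + 1 : ℕ) : ℤ) = (k : ℤ) + 1 := by push_cast; ring
          rw [e]
          exact this

end ZGr

end Groth.Agent.Lib.Helper20.GrKit
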