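import Mathlib
import Groth.Agent.Lib.Helper20.GorGr5
import Groth.Agent.Lib.Helper20.GrKit15
import Groth.Agent.Lib.Helper21.DepthKit11
import Groth.Agent.Lib.Helper21.FlatLocal8

/-!
# The irrelevant ideal of a positively graded ring over a field
-/

set_option autoImplicit false
set_option linter.unusedSectionVars false
set_option linter.unusedVariables false
set_option linter.style.haveILetI false

namespace Groth.Agent.Lib.Helper20.HilbMono

open Groth.Agent.Lib.Helper20.CanonShift Groth.Agent.Lib.Helper26.GrProj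
  Groth.Agent.Lib.Helper20.GrKit Groth.Agent.Lib.Helper20.GorGr
  Groth.Agent.Lib.Helper21.FlatLocal Groth.Agent.Lib.Helper21

universe u

section

variable {R : Type u} [CommRing R] (𝒜 : ℤ → AddSubgroup R) [GradedRing 𝒜]
  (hpos : ∀ n : ℤ, n < 0 → 𝒜 n = ⊥) (h0 : IsField (GrLC.deg0 𝒜))

/-- the irrelevant ideal -/
def irr : HomogeneousIdeal 𝒜 :=
  ⟨Ideal.span (⋃ n ∈ Set.Ioi (0 : ℤ), (𝒜 n : Set R)), Ideal.homogeneous_span 𝒜 _ (by
    intro x hx
    simp only [Set.mem_iUnion, Set.mem_Ioi, SetLike.mem_coe] at hx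
    obtain ⟨n, -, hxn⟩ := hx
    exact ⟨n, hxn⟩)⟩

theorem irr_toIdeal :
    (irr 𝒜).toIdeal = Ideal.span (⋃ n ∈ Set.Ioi (0 : ℤ), (𝒜 n : Set R)) := rfl

include hpos h0 in
theorem irr_ne_top : (irr 𝒜).toIdeal ≠ ⊤ := by
  intro h
  have h1 : (1 : R) ∈ (irr 𝒜).toIdeal := by rw [h]; trivial
  have h2 := proj_zero_of_mem_irrelevant 𝒜 (irr 𝒜) hpos (irr_toIdeal 𝒜) 1 h1
  have h3 : proj 𝒜 0 (1 : R) = 1 := proj_of_mem_same 𝒜 (SetLike.GradedOne.one_mem (A := 𝒜))
  rw [h3] at h2
  haveI := h0.nontrivial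
  have : (1 : GrLC.deg0 𝒜) = 0 := Subtype.ext h2
  exact one_ne_zero this

include hpos h0 in
theorem le_irr (I : HomogeneousIdeal 𝒜) (hI : I.toIdeal ≠ ⊤) : I ≤ irr 𝒜 := by
  intro x hx
  have hx0 : proj 𝒜 0 x ∈ I.toIdeal := I.isHomogeneous 0 hx
  have hz : proj 𝒜 0 x = 0 := by
    by_contra hne
    have hne0 : (⟨proj 𝒜 0 x, proj_mem 𝒜 0 x⟩ : GrLC.deg0 𝒜) ≠ 0 :=
      fun h => hne (congrArg Subtype.val h)
    obtain ⟨y, hy⟩ := h0.mul_inv_cancel hne0
    have hy' : proj 𝒜 0 x * (y : R) = 1 := congrArg Subtype.val hy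
    apply hI
    rw [Ideal.eq_top_iff_one, ← hy']
    exact Ideal.mul_mem_right _ _ hx0
  have := sub_proj_zero_mem 𝒜 hpos (irr 𝒜) (irr_toIdeal 𝒜) x
  rwa [hz, sub_zero] at this

include hpos h0 in
theorem isStarLocal_irr : GrLC.IsStarLocal 𝒜 (irr 𝒜) := by
  have hne : irr 𝒜 ≠ ⊤ := by
    intro h
    apply irr_ne_top 𝒜 hpos h0
    rw [h, HomogeneousIdeal.toIdeal_top]
  have hco : IsCoatom (irr 𝒜) := by
    refine ⟨hne, fun b hb => ?_⟩
    by_contra hbt
    have hbt' : b.toIdeal ≠ ⊤ := by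
      intro h
      apply hbt
      apply HomogeneousIdeal.toIdeal_injective
      rw [h, HomogeneousIdeal.toIdeal_top]
    exact absurd (le_irr 𝒜 hpos h0 b hbt') (not_le_of_gt hb)
  refine ⟨hco, fun n hn => ?_⟩
  have hn' : n.toIdeal ≠ ⊤ := by
    intro h
    apply hn.1
    apply HomogeneousIdeal.toIdeal_injective
    rw [h, HomogeneousIdeal.toIdeal_top]
  have hle := le_irr 𝒜 hpos h0 n hn'
  rcases eq_or_lt_of_le hle with h | h
  · exact h
  · exact absurd (hn.2 _ h) hne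

include hpos h0 in
theorem isMaximal_irr : (irr 𝒜).toIdeal.IsMaximal :=
  isMaximal_irrelevant 𝒜 hpos h0 (irr 𝒜) (isStarLocal_irr 𝒜 hpos h0) (irr_toIdeal 𝒜)

include hpos h0 in
theorem dim_loc_irr [IsNoetherianRing R] [(irr 𝒜).toIdeal.IsPrime] :
    ringKrullDim (Localization.AtPrime (irr 𝒜).toIdeal) = ringKrullDim R :=
  ringKrullDim_localization_irrelevant 𝒜 hpos h0 (irr 𝒜) (isStarLocal_irr 𝒜 hpos h0)
    (irr_toIdeal 𝒜)

include hpos h0 in
/-- in a Cohen–Macaulay graded ring of positive dimension over a field, nothing kills `R_+` -/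
theorem eq_zero_of_irr_le_colon [LocCoh.IsCohenMacaulayRing R] (h1 : 1 ≤ ringKrullDim R) (a : R)
    (ha : (irr 𝒜).toIdeal ≤ (⊥ : Submodule R R).colon {a}) : a = 0 := by
  by_contra hne
  haveI hmax := isMaximal_irr 𝒜 hpos h0
  haveI hprime : (irr 𝒜).toIdeal.IsPrime := hmax.isPrime
  have hcne : (⊥ : Submodule R R).colon {a} ≠ ⊤ := by
    intro h
    apply hne
    have h1 : (1 : R) ∈ (⊥ : Submodule R R).colon {a} := by rw [h]; trivial
    have h2 : (1 : R) • a ∈ (⊥ : Submodule R R) := Submodule.mem_colon_singleton.1 h1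
    simpa using h2
  have heq : (irr 𝒜).toIdeal = (⊥ : Submodule R R).colon {a} := hmax.eq_of_le hcne ha
  have hass : (irr 𝒜).toIdeal ∈ associatedPrimes R R :=
    isAssociatedPrime_iff.2 ⟨hprime, a, heq⟩
  have hd0 := (DepthKit.depth_localization_eq_zero_iff (M := R) (irr 𝒜).toIdeal).2 hass
  have hd1 : LocCoh.depth (Localization.AtPrime (irr 𝒜).toIdeal)
      (Localization.AtPrime (irr 𝒜).toIdeal) = 0 := by
    exact (DepthKit.depth_congr (localizedSelfEquiv (irr 𝒜).toIdeal)).symm.trans hd0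
  haveI hCM : LocCoh.IsCohenMacaulayLocalRing (Localization.AtPrime (irr 𝒜).toIdeal) :=
    LocCoh.IsCohenMacaulayRing.isCohenMacaulayLocalRing_localization _
  have h2 := hCM.supportDim_eq_depth
  rw [hd1, Module.supportDim_self_eq_ringKrullDim, dim_loc_irr 𝒜 hpos h0] at h2
  rw [h2] at h1
  exact absurd h1 (by decide)

/-- each graded piece of a Noetherian graded ring is finite over the degree zero part -/
theorem comp_fg [IsNoetherianRing R] (n : ℤ) : (GrLC.comp 𝒜 𝒜 n).FG := by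
  classical
  have hfg : (Ideal.span ((𝒜 n : AddSubgroup R) : Set R)).FG := IsNoetherian.noetherian _
  obtain ⟨s', hs'sub, hs'⟩ := (Submodule.fg_span_iff_fg_span_finset_subset _).1 hfg
  refine ⟨s', ?_⟩
  apply le_antisymm
  · rw [Submodule.span_le]
    exact hs'sub
  · intro x hx
    have hxA : x ∈ Submodule.span R (s' : Set R) := by
      have : x ∈ Ideal.span ((𝒜 n : AddSubgroup R) : Set R) := Ideal.subset_span hx
      rw [Ideal.span, hs'] at this
      exact this
    obtain ⟨c, -, hc⟩ := Submodule.mem_span_finset.1 hxA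
    have hx1 : proj 𝒜 n x = x := proj_of_mem_same 𝒜 hx
    rw [← hx1, ← hc, proj_sum]
    apply Submodule.sum_mem
    intro v hv
    have hv1 : v ∈ 𝒜 n := hs'sub hv
    have h2 := proj_smul_of_mem_right 𝒜 𝒜 hv1 n (c v)
    rw [sub_self] at h2
    rw [h2]
    have h3 : proj 𝒜 0 (c v) • v = (⟨proj 𝒜 0 (c v), proj_mem 𝒜 0 (c v)⟩ : GrLC.deg0 𝒜) • v := rfl
    rw [h3]
    exact Submodule.smul_mem _ _ (Submodule.subset_span hv)

/-- finitely many generators of degree one of an ideal generated in degree one -/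
theorem exists_gens_deg_one [IsNoetherianRing R] :
    ∃ (s : ℕ) (x : Fin s → R), (∀ i, x i ∈ 𝒜 1) ∧
      Ideal.span (Set.range x) = Ideal.span ((𝒜 1 : AddSubgroup R) : Set R) := by
  classical
  have hfg : (Ideal.span ((𝒜 1 : AddSubgroup R) : Set R)).FG := IsNoetherian.noetherian _
  obtain ⟨t, htsub, ht⟩ := (Submodule.fg_span_iff_fg_span_finset_subset _).1 hfg
  refine ⟨t.card, fun i => (t.equivFin.symm i : R), fun i => htsub (t.equivFin.symm i).2, ?_⟩
  have hr : Set.range (fun i => (t.equivFin.symm i : R)) = (t : Set R) := by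
    ext y
    constructor
    · rintro ⟨i, rfl⟩
      exact (t.equivFin.symm i).2
    · intro hy
      exact ⟨t.equivFin ⟨y, hy⟩, by simp⟩
  rw [hr]
  exact ht.symm

end

end Groth.Agent.Lib.Helper20.HilbMono
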