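import Mathlib
import Groth.Agent.Lib.helper11.LCArtinian

/-!
# `H^i_𝔪(M)` is Artinian for a maximal ideal `𝔪` of a Noetherian ring and finite `M`
(adapted from helper11's local version)
-/

set_option autoImplicit false
set_option linter.unusedSectionVars false
set_option linter.unusedVariables false
set_option linter.style.haveILetI false

namespace Groth.Agent.Lib.Helper20.GrArt

open CategoryTheory Limits Opposite localCohomology Abelian Groth.Agent.Lib.helper11.LCKit

universe u

variable {R : Type u} [CommRing R] [IsNoetherianRing R] (𝔪 : Ideal R) [h𝔪 : 𝔪.IsMaximal]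

/-- a Noetherian `𝔪`-power torsion module is Artinian -/
theorem isArtinian_of_isPowerTorsion_of_isNoetherian (M : Type u) [AddCommGroup M] [Module R M]
    [IsNoetherian R M] (h : LocCoh.IsPowerTorsion 𝔪 M) : IsArtinian R M := by
  letI : Field (R ⧸ 𝔪) := Ideal.Quotient.field _
  haveI : Module.Finite (R ⧸ 𝔪) ↥(Submodule.torsionBySet R M (𝔪 : Set R)) :=
    Module.Finite.of_restrictScalars_finite R _ _
  haveI : IsArtinian R ↥(Submodule.torsionBySet R M (𝔪 : Set R)) :=
    isArtinian_of_surjective_algebraMap (R := R ⧸ 𝔪) (S := R) Ideal.Quotient.mk_surjective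
  exact Groth.Agent.Lib.Helper26.Melkersson.isArtinian_of_isPowerTorsion 𝔪
    (IsNoetherian.noetherian _) h

theorem isArtinian_localCohomology (i : ℕ) :
    ∀ (M : Type u) [AddCommGroup M] [Module R M] [Module.Finite R M],
      IsArtinian R ((localCohomology 𝔪 i).obj (ModuleCat.of R M)) := by
  induction i with
  | zero =>
    intro M _ _ _
    haveI : IsNoetherian R ((localCohomology 𝔪 0).obj (ModuleCat.of R M)) :=
      isNoetherian_of_injective (ev 𝔪 (ModuleCat.of R M)) (ev_injective 𝔪 (ModuleCat.of R M))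
    exact isArtinian_of_isPowerTorsion_of_isNoetherian 𝔪 _
      (fun z => exists_pow_smul_eq_zero 𝔪 0 (ModuleCat.of R M) z)
  | succ i ih =>
    intro M _ _ _
    let N := M ⧸ gam 𝔪 M
    suffices hN : IsArtinian R ((localCohomology 𝔪 (i + 1)).obj (ModuleCat.of R N)) by
      have hb := bijective_map_mkQ_gam 𝔪 (i + 1) (by omega) M
      exact isArtinian_of_injective
        ((localCohomology 𝔪 (i + 1)).map (ModuleCat.ofHom (gam 𝔪 M).mkQ)).hom hb.1
    have hNfree : IsTorsFree 𝔪 N := isTorsFree_quotient_gam 𝔪 (IsNoetherian.noetherian _) M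
    obtain ⟨x, hxJ, hreg⟩ := exists_regular_of_isTorsFree 𝔪 N hNfree
    have hS := IsSMulRegular.smulShortComplex_shortExact (M := ModuleCat.of R N) hreg
    let S := (ModuleCat.of R N).smulShortComplex x
    haveI hQ : IsArtinian R ((localCohomology 𝔪 i).obj S.X₃) := ih (QuotSMulTop x N)
    show IsArtinian R ((localCohomology 𝔪 (i + 1)).obj S.X₁)
    haveI : IsArtinian R (Submodule.torsionBy R ((localCohomology 𝔪 (i + 1)).obj S.X₁) x) := by
      have hle : Submodule.torsionBy R ((localCohomology 𝔪 (i + 1)).obj S.X₁) x ≤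
          LinearMap.range (δ 𝔪 i hS).hom := by
        intro z hz
        rw [Submodule.mem_torsionBy_iff] at hz
        have hz' : ((localCohomology 𝔪 (i + 1)).map S.f).hom z = 0 := by
          rw [smul_eq_map] at hz
          exact hz
        obtain ⟨x₃, hx₃⟩ := exact₁ 𝔪 i hS z hz'
        exact ⟨x₃, hx₃⟩
      haveI : IsArtinian R (LinearMap.range (δ 𝔪 i hS).hom) :=
        isArtinian_of_surjective _ (δ 𝔪 i hS).hom.rangeRestrict
          (LinearMap.surjective_rangeRestrict _)
      exact isArtinian_of_le hle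
    apply Groth.Agent.Lib.Helper26.Melkersson.isArtinian_of_torsionBy x
    intro z
    obtain ⟨k, hk⟩ := exists_pow_smul_eq_zero 𝔪 (i + 1) S.X₁ z
    exact ⟨k, hk _ (Ideal.pow_mem_pow hxJ k)⟩

end Groth.Agent.Lib.Helper20.GrArt
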