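import Mathlib
import Groth.Prelude.Def_GrLC
import Groth.Prelude.Def_Wider
import Groth.Agent.Lib.Helper26.GrProj
import Groth.Agent.Lib.Helper20.GrKit15
import Groth.Agent.Lib.helper11.LCLoc
import Groth.Agent.Lib.helper11.LCGammaFree
import Groth.Agent.Lib.Helper21.DepthKit7
import Groth.Agent.S0321

/-!
# `H^i_{R_+}(M) = 0` for all `i ≥ 1` iff `M_n = 0` for `n ≫ 0`
-/

set_option autoImplicit false
set_option linter.unusedSectionVars false
set_option linter.unusedVariables false

namespace Groth.Agent.Lib.Helper20.GrKit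

open DirectSum Groth.Agent.Lib.Helper26.GrProj Groth.Agent.Lib.helper11.LCKit
open CategoryTheory Abelian

universe u

section Ungraded

variable {R : Type u} [CommRing R] [IsNoetherianRing R] (J : Ideal R)
  (M : Type u) [AddCommGroup M] [Module R M] [Module.Finite R M]

theorem isTors_quotient_self : IsTors J (R ⧸ J) := by
  intro m
  refine ⟨1, fun a ha => ?_⟩
  rw [pow_one] at ha
  obtain ⟨b, rfl⟩ := Ideal.Quotient.mk_surjective m
  change Ideal.Quotient.mk J (a * b) = 0
  rw [Ideal.Quotient.eq_zero_iff_mem]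
  exact Ideal.mul_mem_right _ _ ha

/-- if `H^i_J(M) = 0` for all `i ≥ 1` (and `M` is finitely generated over a Noetherian ring),
then `M = J M + Γ_J(M)` -/
theorem smul_top_sup_gam_eq_top
    (hH : ∀ i : ℕ, 1 ≤ i → Subsingleton (LocCoh.H J i M)) :
    ∀ x : M, ∃ y ∈ (J • ⊤ : Submodule R M), x - y ∈ gam J M := by
  classical
  have hJfg : J.FG := IsNoetherian.noetherian J
  have hN : ∀ i : ℕ, Subsingleton (LocCoh.H J i (M ⧸ gam J M)) := by
    intro i
    rcases Nat.eq_zero_or_pos i with rfl | hi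
    · exact subsingleton_H0_of_isTorsFree J (ModuleCat.of R (M ⧸ gam J M))
        (isTorsFree_quotient_gam J hJfg M)
    · have hK : IsTors J (LinearMap.ker (gam J M).mkQ) := by
        rw [Submodule.ker_mkQ]
        exact isTors_gam J M
      have hbij := bijective_map_of_surjective_of_isTors_ker J i hi (gam J M).mkQ
        (Submodule.mkQ_surjective _) hK
      haveI := hH i hi
      exact hbij.2.subsingleton
  have hExt : ∀ i : ℕ, Subsingleton
      (Abelian.Ext (ModuleCat.of R (R ⧸ J)) (ModuleCat.of R (M ⧸ gam J M)) i) := by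
    intro i
    have h := ext_vanishing_of_lc_vanishing J (i + 1) (ModuleCat.of R (M ⧸ gam J M))
      (fun k _ => hN k) (ModuleCat.of R (R ⧸ J)) (isTors_quotient_self J) i (Nat.lt_succ_self i)
    exact ⟨fun x y => by rw [h x, h y]⟩
  have hdepth : LocCoh.idealDepth J (M ⧸ gam J M) = ⊤ := by
    rw [ENat.eq_top_iff_forall_ge]
    intro n
    exact (Groth.Agent.S0321.le_depth_iff R J (M ⧸ gam J M) n).2 (fun i _ => hExt i)
  have hJN : J • (⊤ : Submodule R (M ⧸ gam J M)) = ⊤ := by
    by_contra hne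
    exact Groth.Agent.Lib.Helper21.DepthKit.idealDepth_ne_top J hne hdepth
  intro x
  have hx : (gam J M).mkQ x ∈ (J • ⊤ : Submodule R (M ⧸ gam J M)) := by rw [hJN]; trivial
  have hmap : (J • ⊤ : Submodule R (M ⧸ gam J M)) = (J • (⊤ : Submodule R M)).map (gam J M).mkQ := by
    rw [Submodule.map_smul'', Submodule.map_top, Submodule.range_mkQ]
  rw [hmap] at hx
  obtain ⟨y, hy, hxy⟩ := hx
  refine ⟨y, hy, ?_⟩
  have : (gam J M).mkQ (x - y) = 0 := by rw [map_sub, hxy, sub_self]
  rwa [Submodule.mkQ_apply, Submodule.Quotient.mk_eq_zero] at this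

end Ungraded

section Main

variable {R : Type u} [CommRing R] [IsNoetherianRing R] (𝒜 : ℤ → AddSubgroup R) [GradedRing 𝒜]
  (a : HomogeneousIdeal 𝒜)
  {M : Type u} [AddCommGroup M] [Module R M] [Module.Finite R M] (ℳ : ℤ → AddSubgroup M)
  [DirectSum.Decomposition ℳ] [SetLike.GradedSMul 𝒜 ℳ]

include 𝒜 in
/-- graded Nakayama, in the form: `M = R_+ M + T` with `T` homogeneous implies `M = T` -/
theorem eq_top_of_irrelevant_smul_sup (hpos : ∀ n : ℤ, n < 0 → 𝒜 n = ⊥)
    (ha : a.toIdeal = Ideal.span (⋃ n ∈ Set.Ioi (0 : ℤ), (𝒜 n : Set R)))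
    (T : Submodule R M) (hT : ∀ g x, x ∈ T → proj ℳ g x ∈ T)
    (h : ∀ x : M, ∃ y ∈ (a.toIdeal • ⊤ : Submodule R M), x - y ∈ T) : ∀ x : M, x ∈ T := by
  classical
  obtain ⟨d₀, hd₀⟩ := exists_bounded_below 𝒜 ℳ hpos
  have key : ∀ k : ℕ, ∀ n : ℤ, n < d₀ + k → ∀ x ∈ ℳ n, x ∈ T := by
    intro k
    induction k with
    | zero =>
      intro n hn x hx
      rw [hd₀ n (by simpa using hn), AddSubgroup.mem_bot] at hx
      rw [hx]; exact T.zero_mem
    | succ k ih =>
      intro n hn x hx
      obtain ⟨y, hy, hxy⟩ := h x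
      have hproj : ∀ y ∈ (a.toIdeal • ⊤ : Submodule R M), proj ℳ n y ∈ T := by
        intro y hy
        refine Submodule.smul_induction_on hy ?_ ?_
        · intro r hr m _
          have hrsum : r = ∑ j ∈ (DirectSum.decompose 𝒜 r).support, proj 𝒜 j r :=
            (sum_proj 𝒜 r).symm
          rw [hrsum, Finset.sum_smul, proj_sum]
          refine Submodule.sum_mem _ fun j _ => ?_
          rw [proj_smul_of_mem 𝒜 ℳ (proj_mem 𝒜 j r) n m]
          rcases lt_trichotomy j 0 with hj | hj | hj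
          · have := proj_mem 𝒜 j r
            rw [hpos j hj, AddSubgroup.mem_bot] at this
            rw [this, zero_smul]; exact T.zero_mem
          · rw [hj, proj_zero_of_mem_irrelevant 𝒜 a hpos ha r hr, zero_smul]; exact T.zero_mem
          · apply T.smul_mem
            apply ih (n - j) _ _ (proj_mem ℳ _ m)
            push_cast at hn
            omega
        · intro y z hy hz
          rw [proj_add]; exact T.add_mem hy hz
      have hx' : x = proj ℳ n y + proj ℳ n (x - y) := by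
        rw [← proj_add, add_sub_cancel, proj_of_mem_same ℳ hx]
      rw [hx']
      exact T.add_mem (hproj y hy) (hT n _ hxy)
  intro x
  rw [← sum_proj ℳ x]
  refine Submodule.sum_mem _ fun g _ => ?_
  obtain ⟨k, hk⟩ : ∃ k : ℕ, g < d₀ + k := ⟨(g - d₀ + 1).toNat, by omega⟩
  exact key k g hk _ (proj_mem ℳ g x)

theorem lc_irrelevant_vanishing_iff (hpos : ∀ n : ℤ, n < 0 → 𝒜 n = ⊥)
    (ha : a.toIdeal = Ideal.span (⋃ n ∈ Set.Ioi (0 : ℤ), (𝒜 n : Set R)))
    (hhom : a.toIdeal = Ideal.span ((𝒜 1 : AddSubgroup R) : Set R)) :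
    (∀ i : ℕ, 1 ≤ i → Subsingleton (LocCoh.H a.toIdeal i M)) ↔
      ∃ n₀ : ℤ, ∀ n : ℤ, n₀ ≤ n → ℳ n = ⊥ := by
  classical
  constructor
  · intro hH
    -- `M` is `a`-torsion
    have hsplit := smul_top_sup_gam_eq_top a.toIdeal M hH
    have hT : ∀ g x, x ∈ gam a.toIdeal M → proj ℳ g x ∈ gam a.toIdeal M :=
      fun g x hx => proj_mem_gam 𝒜 ℳ a g x hx
    have htors : ∀ x : M, x ∈ gam a.toIdeal M :=
      eq_top_of_irrelevant_smul_sup 𝒜 a ℳ hpos ha (gam a.toIdeal M) hT hsplit
    obtain ⟨s, d, m, hm, hspan⟩ := exists_homogeneous_gens ℳ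
      (Module.Finite.fg_top (R := R) (M := M))
    -- a uniform power killing the generators
    have hk : ∃ k : ℕ, ∀ j, ∀ r ∈ a.toIdeal ^ k, r • m j = 0 := by
      choose kk hkk using fun j => htors (m j)
      refine ⟨∑ j, kk j, fun j r hr => hkk j r ?_⟩
      exact Ideal.pow_le_pow_right
        (Finset.single_le_sum (f := kk) (fun i _ => Nat.zero_le _) (Finset.mem_univ j)) hr
    obtain ⟨k, hk⟩ := hk
    refine ⟨∑ j, |d j| + k, fun n hn => ?_⟩
    rw [eq_bot_iff]
    intro x hx
    obtain ⟨c, hc, rfl⟩ := exists_homogeneous_coeffs 𝒜 ℳ d m hm hspan n x hx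
    rw [AddSubgroup.mem_bot]
    refine Finset.sum_eq_zero fun j _ => ?_
    have hj : |d j| ≤ ∑ j, |d j| :=
      Finset.single_le_sum (f := fun j => |d j|) (fun i _ => abs_nonneg _) (Finset.mem_univ j)
    have hge : (k : ℤ) ≤ n - d j := by
      have := le_abs_self (d j)
      linarith
    obtain ⟨t, ht⟩ : ∃ t : ℕ, n - d j = (t : ℤ) := ⟨(n - d j).toNat, by omega⟩
    have hcj : c j ∈ a.toIdeal ^ t := by
      apply mem_pow_of_mem_deg 𝒜 a ha hhom t
      rw [← ht]; exact hc j
    exact hk j _ (Ideal.pow_le_pow_right (by omega) hcj)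
  · rintro ⟨n₀, hn₀⟩ i hi
    obtain ⟨d₀, hd₀⟩ := exists_bounded_below 𝒜 ℳ hpos
    have htors : IsTors a.toIdeal M := by
      intro x
      refine ⟨(n₀ - d₀).toNat, fun r hr => ?_⟩
      have hr' := pow_le_span_deg 𝒜 a hhom _ hr
      have key : ∀ r ∈ Ideal.span ((𝒜 (((n₀ - d₀).toNat : ℕ) : ℤ) : AddSubgroup R) : Set R),
          ∀ g, ∀ y ∈ ℳ g, r • y = 0 := by
        intro r hr
        refine Submodule.span_induction (R := R) (M := R)
          (p := fun r _ => ∀ g, ∀ y ∈ ℳ g, r • y = 0) ?_ ?_ ?_ ?_ hr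
        · intro s hs g y hy
          by_cases hg : g < d₀
          · rw [hd₀ g hg, AddSubgroup.mem_bot] at hy
            rw [hy, smul_zero]
          · have := SetLike.GradedSMul.smul_mem (A := 𝒜) (B := ℳ) (show s ∈ 𝒜 _ from hs) hy
            rw [vadd_eq_add, hn₀ _ (by omega), AddSubgroup.mem_bot] at this
            exact this
        · intro g y _; exact zero_smul _ _
        · intro r s _ _ hr hs g y hy
          rw [add_smul, hr g y hy, hs g y hy, add_zero]
        · intro c r _ hr g y hy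
          rw [smul_eq_mul, mul_smul, hr g y hy, smul_zero]
      rw [← sum_proj ℳ x, Finset.smul_sum]
      exact Finset.sum_eq_zero fun g _ => key r hr' g _ (proj_mem ℳ g x)
    exact subsingleton_of_isTors a.toIdeal i hi (ModuleCat.of R M) htors

end Main

end Groth.Agent.Lib.Helper20.GrKit
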