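import Mathlib
import Groth.Prelude.Def_GrLC
import Groth.Agent.Lib.Helper20.GrLES14

/-!
# The quotient by a quasi-regular homogeneous element: vanishing of pieces of local cohomology
-/

set_option autoImplicit false
set_option linter.unusedSectionVars false
set_option linter.unusedVariables false
set_option linter.style.haveILetI false

namespace Groth.Agent.Lib.Helper20.GrLES

open DirectSum Groth.Agent.Lib.Helper26.GrProj Groth.Agent.Lib.Helper20.GrKit
open scoped Pointwise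

universe u

variable {R : Type u} [CommRing R] [IsNoetherianRing R] {𝒜 : ℤ → AddSubgroup R} [GradedRing 𝒜]
  (a : HomogeneousIdeal 𝒜)
  {M : Type u} [AddCommGroup M] [Module R M] {ℳ : ℤ → AddSubgroup M}
  [DirectSum.Decomposition ℳ] [SetLike.GradedSMul 𝒜 ℳ]
  {N : Type u} [AddCommGroup N] [Module R N] {𝒩 : ℤ → AddSubgroup N}
  [DirectSum.Decomposition 𝒩] [SetLike.GradedSMul 𝒜 𝒩]

theorem ker_smul_proj_stable (x : R) (k : ℤ) (hx : x ∈ 𝒜 k) (g : ℤ) (y : M)
    (hy : y ∈ LinearMap.ker (x • (LinearMap.id : M →ₗ[R] M))) :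
    proj ℳ g y ∈ LinearMap.ker (x • (LinearMap.id : M →ₗ[R] M)) := by
  have hy' : x • y = 0 := hy
  change x • proj ℳ g y = 0
  have := proj_smul_of_mem 𝒜 ℳ hx (g + k) y
  rw [add_sub_cancel_right] at this
  rw [← this, hy', proj_zero]

/-- If `(0 :_M x)` has no higher local cohomology, vanishing of `H^i(M)_g` and `H^{i+1}(M)_{g-k}`
forces vanishing of `H^i(M/xM)_g`. -/
theorem quasi_regular_step (x : R) (k : ℤ) (hx : x ∈ 𝒜 k)
    (hK : ∀ j : ℕ, 1 ≤ j →
      Subsingleton (LocCoh.H a.toIdeal j (LinearMap.ker (x • (LinearMap.id : M →ₗ[R] M)))))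
    (π : M →ₗ[R] N) (hπ : Function.Surjective π) (hπg : GrLC.IsGrHom ℳ 𝒩 π)
    (hker : LinearMap.ker π = LinearMap.range (x • (LinearMap.id : M →ₗ[R] M)))
    (E : GrLC.StarInjRes 𝒜 ℳ) (E' : GrLC.StarInjRes 𝒜 𝒩) (i : ℕ) (g : ℤ)
    (h1 : E.Hgr a i g = ⊥) (h2 : E.Hgr a (i + 1) (g - k) = ⊥) : E'.Hgr a i g = ⊥ := by
  classical
  set K : Submodule R M := LinearMap.ker (x • (LinearMap.id : M →ₗ[R] M)) with hKdef
  have hKst : ∀ g y, y ∈ K → proj ℳ g y ∈ K := ker_smul_proj_stable x k hx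
  letI : DirectSum.Decomposition (subGr ℳ K) := subDecomposition ℳ K hKst
  letI : DirectSum.Decomposition (quoGr ℳ K) := quoDecomposition ℳ K hKst
  obtain ⟨EK⟩ := nonempty_starInjRes 𝒜 (subGr ℳ K)
  obtain ⟨Eb⟩ := nonempty_starInjRes 𝒜 (quoGr ℳ K)
  have hEK : ∀ j : ℕ, 1 ≤ j → Subsingleton (EK.H a j) := by
    intro j hj
    obtain ⟨e⟩ := bridge_starInjRes EK a j
    haveI := hK j hj
    exact e.toEquiv.subsingleton
  -- first sequence `0 → K → M → M/K → 0`
  have hEb : Eb.Hgr a (i + 1) (g - k) = ⊥ := by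
    obtain ⟨δ, -, hles⟩ := les EK E Eb K.subtype K.mkQ (fun g y hy => hy) (mkQ_isGrHom ℳ K)
      (Submodule.subtype_injective K) (Submodule.mkQ_surjective K)
      (by rw [Submodule.ker_mkQ, Submodule.range_subtype]) a
    obtain ⟨φ, hφ⟩ := exists_lift EK E K.subtype (fun g y hy => hy)
    obtain ⟨ψ, hψ⟩ := exists_lift E Eb K.mkQ (mkQ_isGrHom ℳ K)
    obtain ⟨-, hr, -, -⟩ := hles φ ψ hφ hψ
    rw [AddSubgroup.eq_bot_iff_forall]
    intro w hw
    haveI := hEK (i + 1 + 1) (by omega)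
    have hwr : w ∈ LinearMap.range (ψ.Hmap a (i + 1)) := by
      rw [← hr (i + 1)]
      exact Subsingleton.elim _ _
    obtain ⟨y, hy, rfl⟩ := exists_homogeneous_preimage (E.Hgr a (i + 1)) (Eb.Hgr a (i + 1))
      (Hgr_isInternal E a (i + 1)) (Hgr_isInternal Eb a (i + 1)) _ (ψ.Hmap_isGrHom a (i + 1))
      (g - k) w hw hwr
    rw [h2, AddSubgroup.mem_bot] at hy
    rw [hy, map_zero]
  -- second sequence `0 → (M/K)(-k) → M → N → 0`
  let xb : (M ⧸ K) →ₗ[R] M := K.liftQ (x • (LinearMap.id : M →ₗ[R] M)) le_rfl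
  have hxbg : GrLC.IsGrHom (shiftGr (quoGr ℳ K) k) ℳ xb := by
    rintro g' y ⟨m', hm', rfl⟩
    change x • m' ∈ ℳ g'
    have := SetLike.GradedSMul.smul_mem (A := 𝒜) (B := ℳ) hx hm'
    rw [vadd_eq_add, add_sub_cancel] at this
    exact this
  have hxbi : Function.Injective xb := by
    rw [← LinearMap.ker_eq_bot]
    exact Submodule.ker_liftQ_eq_bot _ _ _ le_rfl
  have hxbr : LinearMap.ker π = LinearMap.range xb := by
    rw [hker, Submodule.range_liftQ]
  obtain ⟨δ, hδ, hles⟩ := les (shiftRes Eb k) E E' xb π hxbg hπg hxbi hπ hxbr a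
  obtain ⟨φ, hφ⟩ := exists_lift (shiftRes Eb k) E xb hxbg
  obtain ⟨ψ, hψ⟩ := exists_lift E E' π hπg
  obtain ⟨-, hr, -, -⟩ := hles φ ψ hφ hψ
  rw [AddSubgroup.eq_bot_iff_forall]
  intro w hw
  have hδw : δ i w = 0 := by
    have h3 := hδ i g w hw
    rw [shiftH_mem, hEb, AddSubgroup.mem_bot] at h3
    exact h3
  have hwr : w ∈ LinearMap.range (ψ.Hmap a i) := by
    rw [← hr i]
    exact hδw
  obtain ⟨y, hy, rfl⟩ := exists_homogeneous_preimage (E.Hgr a i) (E'.Hgr a i)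
    (Hgr_isInternal E a i) (Hgr_isInternal E' a i) _ (ψ.Hmap_isGrHom a i) g w hw hwr
  rw [h1, AddSubgroup.mem_bot] at hy
  rw [hy, map_zero]

end Groth.Agent.Lib.Helper20.GrLES
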