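import Mathlib
import Groth.Agent.Lib.Helper21.GrAddSub
import Groth.Agent.Lib.Helper20.GrKit7
import Groth.Agent.Lib.Helper20.HilbMono1

/-!
# The quotient of a graded algebra by a homogeneous ideal, and chains of primes below the
irrelevant ideal
-/

set_option autoImplicit false
set_option linter.unusedSectionVars false
set_option linter.style.haveILetI false
universe u

namespace Groth.Agent.Lib.Helper20.SegQuot

open Groth.Agent.Lib.Helper21.GrAddSub Groth.Agent.Lib.Helper20.GrKit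
  Groth.Agent.Lib.Helper26.GrProj Groth.Agent.Lib.Helper20.HilbMono

variable {k : Type u} [Field k] {R : Type u} [CommRing R] [Algebra k R]
  (𝒜 : ℤ → Submodule k R) [GradedAlgebra 𝒜] (I : Ideal R)

/-- the pieces of `R ⧸ I` -/
def qGr : ℤ → AddSubgroup (R ⧸ I) := quoGr (toAddSub 𝒜) I

theorem mk_mem_qGr {n : ℤ} {x : R} (hx : x ∈ 𝒜 n) : Ideal.Quotient.mk I x ∈ qGr 𝒜 I n :=
  ⟨x, hx, rfl⟩

theorem mem_qGr {n : ℤ} {y : R ⧸ I} :
    y ∈ qGr 𝒜 I n ↔ ∃ x ∈ 𝒜 n, Ideal.Quotient.mk I x = y := Iff.rfl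

instance gradedMonoid_qGr : SetLike.GradedMonoid (qGr 𝒜 I) where
  one_mem := ⟨1, SetLike.GradedOne.one_mem (A := 𝒜), rfl⟩
  mul_mem := by
    rintro i j _ _ ⟨x, hx, rfl⟩ ⟨y, hy, rfl⟩
    exact ⟨x * y, SetLike.GradedMul.mul_mem (A := 𝒜) hx hy, map_mul (Ideal.Quotient.mk I) x y⟩

variable (hI : I.IsHomogeneous 𝒜)

include hI in
theorem proj_mem_of_mem (g : ℤ) (x : R) (hx : x ∈ I) : proj (toAddSub 𝒜) g x ∈ I :=
  hI g hx

/-- the decomposition of `R ⧸ I` -/
noncomputable def decomposition_qGr : DirectSum.Decomposition (qGr 𝒜 I) :=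
  quoDecomposition (toAddSub 𝒜) I (proj_mem_of_mem 𝒜 I hI)

/-- the graded ring structure of `R ⧸ I` -/
noncomputable def gradedRing_qGr : GradedRing (qGr 𝒜 I) :=
  letI := decomposition_qGr 𝒜 I hI
  { }


section chain

variable (hposR : ∀ n : ℤ, n < 0 → 𝒜 n = ⊥) (h0R : 𝒜 0 = Submodule.span k {(1 : R)})

/-- the irrelevant ideal of `R` -/
def irrIdeal : Ideal R := Ideal.span (⋃ n ∈ Set.Ioi (0 : ℤ), (𝒜 n : Set R))

include hposR h0R hI in
/-- a proper homogeneous ideal is contained in the irrelevant ideal -/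
theorem le_irrIdeal (hne : I ≠ ⊤) : I ≤ irrIdeal 𝒜 := by
  classical
  intro x hx
  rw [← DirectSum.sum_support_decompose 𝒜 x]
  refine Ideal.sum_mem _ fun n _ => ?_
  have hxn : (DirectSum.decompose 𝒜 x n : R) ∈ I := hI n hx
  have hmem : (DirectSum.decompose 𝒜 x n : R) ∈ 𝒜 n := SetLike.coe_mem _
  rcases lt_trichotomy n 0 with hn | hn | hn
  · have hz : ∀ y ∈ 𝒜 n, y = 0 := fun y hy => by
      rw [hposR n hn] at hy
      exact (Submodule.mem_bot k).1 hy
    rw [hz _ hmem]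
    exact Ideal.zero_mem _
  · subst hn
    have hz : ∀ y ∈ 𝒜 0, y ∈ I → y = 0 := fun y hy hyI => by
      rw [h0R, Submodule.mem_span_singleton] at hy
      obtain ⟨l, rfl⟩ := hy
      by_contra hne0
      have hl : l ≠ 0 := by
        rintro rfl
        exact hne0 (zero_smul _ _)
      apply hne
      rw [Ideal.eq_top_iff_one]
      have : (1 : R) = algebraMap k R l⁻¹ * (l • (1 : R)) := by
        rw [Algebra.smul_def, mul_one, ← map_mul, inv_mul_cancel₀ hl, map_one]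
      rw [this]
      exact I.mul_mem_left _ hyI
    rw [hz _ hmem hxn]
    exact Ideal.zero_mem _
  · apply Ideal.subset_span
    rw [Set.mem_iUnion₂]
    exact ⟨n, hn, hmem⟩

include hposR in
theorem qGr_eq_bot_of_neg (n : ℤ) (hn : n < 0) : qGr 𝒜 I n = ⊥ := by
  rw [eq_bot_iff]
  rintro _ ⟨x, hx, rfl⟩
  have : x = 0 := by
    have hx' : x ∈ 𝒜 n := hx
    rw [hposR n hn] at hx'
    exact (Submodule.mem_bot k).1 hx'
  rw [this, map_zero]
  exact AddSubgroup.zero_mem _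

include h0R in
theorem isField_deg0_qGr (hne : I ≠ ⊤) :
    letI := gradedRing_qGr 𝒜 I hI
    IsField (GrLC.deg0 (qGr 𝒜 I)) := by
  letI := gradedRing_qGr 𝒜 I hI
  haveI : Nontrivial (R ⧸ I) := Ideal.Quotient.nontrivial_iff.2 hne
  refine ⟨⟨0, 1, fun h => ?_⟩, fun a b => mul_comm a b, ?_⟩
  · have : ((0 : GrLC.deg0 (qGr 𝒜 I)) : R ⧸ I) = ((1 : GrLC.deg0 (qGr 𝒜 I)) : R ⧸ I) :=
      congrArg Subtype.val h
    exact zero_ne_one this
  · rintro ⟨a, ha⟩ hane
    obtain ⟨x, hx, rfl⟩ := ha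
    have hx' : x ∈ 𝒜 0 := hx
    rw [h0R, Submodule.mem_span_singleton] at hx'
    obtain ⟨l, rfl⟩ := hx'
    have hl : l ≠ 0 := by
      rintro rfl
      apply hane
      apply Subtype.ext
      change (Ideal.Quotient.mk I) ((0 : k) • (1 : R)) = 0
      rw [zero_smul, map_zero]
    refine ⟨⟨Ideal.Quotient.mk I (l⁻¹ • (1 : R)), ⟨l⁻¹ • (1 : R), ?_, rfl⟩⟩, ?_⟩
    · change l⁻¹ • (1 : R) ∈ 𝒜 0
      rw [h0R]
      exact Submodule.smul_mem _ _ (Submodule.subset_span rfl)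
    · apply Subtype.ext
      change (Ideal.Quotient.mk I) (l • (1 : R)) * (Ideal.Quotient.mk I) (l⁻¹ • (1 : R)) = 1
      rw [← map_mul, smul_mul_smul_comm, mul_one, mul_inv_cancel₀ hl, one_smul, map_one]

include hposR h0R hI in
/-- **Graded dimension theory**: for a homogeneous ideal `I`, `dim R ⧸ I` is realised by a chain of
primes between `I` and the irrelevant ideal. -/
theorem exists_chain [IsNoetherianRing R] (d : ℕ) (hd : ringKrullDim (R ⧸ I) = d) :
    ∃ l : LTSeries (PrimeSpectrum R), l.length = d ∧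
      ∀ i, I ≤ (l i).asIdeal ∧ (l i).asIdeal ≤ irrIdeal 𝒜 := by
  classical
  have hne : I ≠ ⊤ := by
    rintro rfl
    haveI : Subsingleton (R ⧸ (⊤ : Ideal R)) := Ideal.Quotient.subsingleton_iff.2 rfl
    rw [ringKrullDim_eq_bot_of_subsingleton] at hd
    exact absurd hd (by simp)
  letI := gradedRing_qGr 𝒜 I hI
  have hpos' := qGr_eq_bot_of_neg 𝒜 I hposR
  have h0' := isField_deg0_qGr 𝒜 I hI h0R hne
  haveI hmax := isMaximal_irr (qGr 𝒜 I) hpos' h0'
  haveI hprime : (irr (qGr 𝒜 I)).toIdeal.IsPrime := hmax.isPrime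
  have hht := Groth.Agent.Lib.Helper20.GorGr.height_irrelevant (qGr 𝒜 I) hpos' h0'
    (irr (qGr 𝒜 I)) (isStarLocal_irr (qGr 𝒜 I) hpos' h0') (irr_toIdeal (qGr 𝒜 I))
  rw [hd] at hht
  have hht' : Order.height (⟨(irr (qGr 𝒜 I)).toIdeal, hprime⟩ : PrimeSpectrum (R ⧸ I)) = d := by
    rw [← PrimeSpectrum.height_eq_orderHeight]
    exact_mod_cast hht
  obtain ⟨p', hlast, hlen⟩ := Order.exists_series_of_height_eq_coe _ hht'
  have hsm : StrictMono (PrimeSpectrum.comap (Ideal.Quotient.mk I)) := by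
    intro a b hab
    refine lt_of_le_of_ne (Ideal.comap_mono hab.le) fun h => ?_
    exact hab.ne (PrimeSpectrum.comap_injective_of_surjective _ Ideal.Quotient.mk_surjective h)
  refine ⟨p'.map _ hsm, by rw [LTSeries.map_length, hlen], fun i => ?_⟩
  have hli : ((p'.map _ hsm) i).asIdeal = Ideal.comap (Ideal.Quotient.mk I) (p' i).asIdeal := rfl
  rw [hli]
  refine ⟨?_, ?_⟩
  · intro x hx
    rw [Ideal.mem_comap, Ideal.Quotient.eq_zero_iff_mem.2 hx]
    exact Ideal.zero_mem _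
  · have h1 : p' i ≤ p'.last := p'.monotone (Fin.le_last _)
    rw [hlast] at h1
    have h2 : Ideal.comap (Ideal.Quotient.mk I) (p' i).asIdeal ≤
        Ideal.comap (Ideal.Quotient.mk I) (irr (qGr 𝒜 I)).toIdeal := Ideal.comap_mono h1
    refine le_trans h2 ?_
    have h3 : (irr (qGr 𝒜 I)).toIdeal = Ideal.map (Ideal.Quotient.mk I) (irrIdeal 𝒜) := by
      rw [irr_toIdeal, irrIdeal, Ideal.map_span]
      congr 1
      ext y
      simp only [Set.mem_iUnion, Set.mem_image, SetLike.mem_coe, exists_prop]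
      constructor
      · rintro ⟨n, hn, x, hx, rfl⟩
        exact ⟨x, ⟨n, hn, hx⟩, rfl⟩
      · rintro ⟨x, ⟨n, hn, hx⟩, rfl⟩
        exact ⟨n, hn, x, hx, rfl⟩
    rw [h3, Ideal.comap_map_of_surjective _ Ideal.Quotient.mk_surjective, ← RingHom.ker_eq_comap_bot,
      Ideal.mk_ker]
    exact sup_le le_rfl (le_irrIdeal 𝒜 I hI hposR h0R hne)

end chain

end Groth.Agent.Lib.Helper20.SegQuot
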