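import Mathlib
import Groth.Prelude.Def_GrSyz
import Groth.Agent.Lib.Helper20.SegQuot

/-!
# The irrelevant ideal of `k[X] ⧸ I` is maximal of height `dim k[X] ⧸ I`
-/

set_option autoImplicit false
set_option linter.unusedSectionVars false
set_option linter.unusedVariables false
set_option linter.style.haveILetI false

universe u

namespace Groth.Agent.Lib.Helper20.HilbDim

open Groth.Agent.Lib.Helper21.GrAddSub Groth.Agent.Lib.Helper20.GrKit
  Groth.Agent.Lib.Helper26.GrProj Groth.Agent.Lib.Helper20.HilbMono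
  Groth.Agent.Lib.Helper20.SegQuot

section general

variable {k : Type u} [Field k] {R : Type u} [CommRing R] [Algebra k R]
  (𝒜 : ℤ → Submodule k R) [GradedAlgebra 𝒜] (I : Ideal R) (hI : I.IsHomogeneous 𝒜)
  (hposR : ∀ n : ℤ, n < 0 → 𝒜 n = ⊥) (h0R : 𝒜 0 = Submodule.span k {(1 : R)})

include hposR h0R hI in
theorem height_map_irrIdeal [IsNoetherianRing R] (hne : I ≠ ⊤) :
    (Ideal.map (Ideal.Quotient.mk I) (irrIdeal 𝒜)).IsMaximal ∧
      ((Ideal.map (Ideal.Quotient.mk I) (irrIdeal 𝒜)).height : WithBot ℕ∞) =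
        ringKrullDim (R ⧸ I) := by
  classical
  letI := gradedRing_qGr 𝒜 I hI
  have hpos' := qGr_eq_bot_of_neg 𝒜 I hposR
  have h0' := isField_deg0_qGr 𝒜 I hI h0R hne
  haveI hmax := isMaximal_irr (qGr 𝒜 I) hpos' h0'
  have hht := Groth.Agent.Lib.Helper20.GorGr.height_irrelevant (qGr 𝒜 I) hpos' h0'
    (irr (qGr 𝒜 I)) (isStarLocal_irr (qGr 𝒜 I) hpos' h0') (irr_toIdeal (qGr 𝒜 I))
  have h3 : (irr (qGr 𝒜 I)).toIdeal = Ideal.map (Ideal.Quotient.mk I) (irrIdeal 𝒜) := by
    rw [irr_toIdeal, irrIdeal, Ideal.map_span]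
    congr 1
    ext y
    simp only [Set.mem_iUnion, Set.mem_image, SetLike.mem_coe, exists_prop]
    constructor
    · rintro ⟨n, hn, x, hx, rfl⟩
      exact ⟨x, ⟨n, hn, hx⟩, rfl⟩
    · rintro ⟨x, ⟨n, hn, hx⟩, rfl⟩
      exact ⟨n, hn, x, hx, rfl⟩
  rw [← h3]
  exact ⟨hmax, hht⟩

end general

section poly

open MvPolynomial

attribute [local instance] MvPolynomial.gradedAlgebra

variable (k : Type u) [Field k] (σ : Type)

theorem weight_one_eq (d : σ →₀ ℕ) :
    Finsupp.weight (fun _ : σ => (1 : ℤ)) d = (d.degree : ℤ) := by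
  rw [Finsupp.weight_apply (w := fun _ : σ => (1 : ℤ)), Finsupp.degree_apply, Finsupp.sum]
  push_cast
  refine Finset.sum_congr rfl fun i _ => ?_
  simp

theorem mem_stdGr_natCast (m : ℕ) (p : MvPolynomial σ k) :
    p ∈ GrSyz.stdGr k σ (m : ℤ) ↔ p ∈ homogeneousSubmodule σ k m := by
  rw [GrSyz.mem_stdGr_iff, mem_homogeneousSubmodule]
  unfold IsHomogeneous IsWeightedHomogeneous
  refine forall_congr' fun d => forall_congr' fun _ => ?_
  rw [weight_one_eq]
  have h1 : Finsupp.weight (1 : σ → ℕ) d = d.degree := by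
    rw [Finsupp.degree_eq_weight_one]
    rfl
  rw [h1]
  exact Nat.cast_inj

theorem stdGr_neg (n : ℤ) (hn : n < 0) : GrSyz.stdGr k σ n = ⊥ := by
  rw [eq_bot_iff]
  intro p hp
  rw [GrSyz.mem_stdGr_iff] at hp
  rw [Submodule.mem_bot]
  ext d
  rw [coeff_zero]
  by_contra hne
  have := hp hne
  rw [weight_one_eq] at this
  omega

theorem stdGr_zero : GrSyz.stdGr k σ 0 = Submodule.span k {(1 : MvPolynomial σ k)} := by
  classical
  ext p
  rw [Submodule.mem_span_singleton]
  have h0 : p ∈ GrSyz.stdGr k σ 0 ↔ p ∈ homogeneousSubmodule σ k 0 := by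
    have := mem_stdGr_natCast k σ 0 p
    simpa using this
  rw [h0]
  constructor
  · intro hp
    refine ⟨coeff 0 p, ?_⟩
    have h1 : homogeneousComponent 0 p = p := by
      rw [homogeneousComponent_of_mem hp, if_pos rfl]
    rw [homogeneousComponent_zero] at h1
    rw [← h1, coeff_C, if_pos rfl, Algebra.smul_def, mul_one]
    rfl
  · rintro ⟨c, rfl⟩
    rw [mem_homogeneousSubmodule, Algebra.smul_def, mul_one]
    exact isHomogeneous_C σ c

theorem irrIdeal_stdGr : irrIdeal (GrSyz.stdGr k σ) = idealOfVars σ k := by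
  apply le_antisymm
  · unfold irrIdeal
    rw [Ideal.span_le]
    intro p hp
    simp only [Set.mem_iUnion, Set.mem_Ioi, SetLike.mem_coe] at hp
    obtain ⟨n, hn, hp⟩ := hp
    rw [SetLike.mem_coe, ← pow_one (idealOfVars σ k), mem_pow_idealOfVars_iff']
    intro d hd
    by_contra hne
    rw [GrSyz.mem_stdGr_iff] at hp
    have := hp hne
    rw [weight_one_eq] at this
    omega
  · unfold idealOfVars
    rw [Ideal.span_le]
    rintro _ ⟨i, rfl⟩
    apply Ideal.subset_span
    simp only [Set.mem_iUnion, Set.mem_Ioi, SetLike.mem_coe]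
    refine ⟨1, one_pos, ?_⟩
    have := (mem_stdGr_natCast k σ 1 (X i)).2 (isHomogeneous_X k i)
    simpa using this

variable {k σ}

theorem isHomogeneous_stdGr {I : Ideal (MvPolynomial σ k)}
    (hI : I.IsHomogeneous (homogeneousSubmodule σ k)) : I.IsHomogeneous (GrSyz.stdGr k σ) := by
  classical
  intro i x hx
  have hsum : x = ∑ m ∈ Finset.range (x.totalDegree + 1), homogeneousComponent m x :=
    (sum_homogeneousComponent x).symm
  rw [hsum, DirectSum.decompose_sum, DFinsupp.finsetSum_apply, AddSubmonoidClass.coe_finsetSum]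
  refine Ideal.sum_mem _ fun m _ => ?_
  have hm : homogeneousComponent m x ∈ GrSyz.stdGr k σ (m : ℤ) :=
    (mem_stdGr_natCast k σ m _).2 (homogeneousComponent_mem m x)
  by_cases hmi : (m : ℤ) = i
  · subst hmi
    rw [DirectSum.decompose_of_mem_same _ hm]
    exact homogeneousComponent_mem_of_mem hI hx m
  · rw [DirectSum.decompose_of_mem_ne _ hm hmi]
    exact Ideal.zero_mem _

theorem height_map_idealOfVars [Finite σ] {I : Ideal (MvPolynomial σ k)}
    (hI : I.IsHomogeneous (homogeneousSubmodule σ k)) (hne : I ≠ ⊤) :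
    (Ideal.map (Ideal.Quotient.mk I) (idealOfVars σ k)).IsMaximal ∧
      ((Ideal.map (Ideal.Quotient.mk I) (idealOfVars σ k)).height : WithBot ℕ∞) =
        ringKrullDim (MvPolynomial σ k ⧸ I) := by
  have := height_map_irrIdeal (GrSyz.stdGr k σ) I (isHomogeneous_stdGr hI) (stdGr_neg k σ)
    (stdGr_zero k σ) hne
  rwa [irrIdeal_stdGr] at this

theorem sub_C_mem_idealOfVars (x : MvPolynomial σ k) :
    x - C (coeff 0 x) ∈ idealOfVars σ k := by
  classical
  rw [← pow_one (idealOfVars σ k), mem_pow_idealOfVars_iff']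
  intro d hd
  have hd0 : d = 0 := by
    have : d.degree = 0 := by omega
    exact (Finsupp.degree_eq_zero_iff d).1 this
  subst hd0
  rw [coeff_sub, coeff_C, if_pos rfl, sub_self]

theorem algebraMap_surjective_quot (I : Ideal (MvPolynomial σ k)) :
    Function.Surjective (algebraMap k ((MvPolynomial σ k ⧸ I) ⧸
      Ideal.map (Ideal.Quotient.mk I) (idealOfVars σ k))) := by
  intro y
  obtain ⟨a, rfl⟩ := Ideal.Quotient.mk_surjective y
  obtain ⟨x, rfl⟩ := Ideal.Quotient.mk_surjective a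
  refine ⟨coeff 0 x, ?_⟩
  symm
  rw [IsScalarTower.algebraMap_apply k (MvPolynomial σ k ⧸ I),
    IsScalarTower.algebraMap_apply k (MvPolynomial σ k) (MvPolynomial σ k ⧸ I)]
  change Ideal.Quotient.mk _ (Ideal.Quotient.mk I x) =
    Ideal.Quotient.mk _ (Ideal.Quotient.mk I (C (coeff 0 x)))
  rw [Ideal.Quotient.eq, ← map_sub]
  exact Ideal.mem_map_of_mem _ (sub_C_mem_idealOfVars x)

end poly

end Groth.Agent.Lib.Helper20.HilbDim
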