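import Mathlib
import Groth.Prelude.Def_GrLC
import Groth.Prelude.Def_GrSyz
import Groth.Agent.Lib.Helper20.GrLES16
import Groth.Agent.Lib.Helper20.GrConv
import Groth.Agent.Lib.Helper20.GrKit16
import Groth.Agent.Lib.Helper20.HilbDim3

/-!
# Graded modules of finite length; S15419
-/

set_option autoImplicit false
set_option linter.unusedSectionVars false
set_option linter.unusedVariables false
set_option linter.style.haveILetI false

namespace Groth.Agent.Lib.Helper20.GrLES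

open DirectSum Groth.Agent.Lib.Helper26.GrProj Groth.Agent.Lib.Helper20.GrKit
open scoped Pointwise

universe u

section Artinian

variable {R : Type u} [CommRing R] (𝒜 : ℤ → AddSubgroup R) [GradedRing 𝒜]
  (hpos : ∀ n : ℤ, n < 0 → 𝒜 n = ⊥)
  {K : Type u} [AddCommGroup K] [Module R K] (𝒦 : ℤ → AddSubgroup K)
  [DirectSum.Decomposition 𝒦] [SetLike.GradedSMul 𝒜 𝒦]

include hpos in
/-- the elements with no components in degrees `< j` -/
def geSub (j : ℤ) : Submodule R K where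
  carrier := {m | ∀ l, l < j → proj 𝒦 l m = 0}
  zero_mem' := fun l _ => proj_zero 𝒦 l
  add_mem' := by
    intro m m' hm hm' l hl
    rw [proj_add, hm l hl, hm' l hl, add_zero]
  smul_mem' := by
    classical
    intro r m hm l hl
    have hr : r = ∑ n ∈ (DirectSum.decompose 𝒜 r).support, proj 𝒜 n r := (sum_proj 𝒜 r).symm
    rw [hr, Finset.sum_smul, proj_sum]
    refine Finset.sum_eq_zero fun n _ => ?_
    rw [proj_smul_of_mem 𝒜 𝒦 (proj_mem 𝒜 n r) l m]
    by_cases hn : n < 0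
    · have := proj_mem 𝒜 n r
      rw [hpos n hn, AddSubgroup.mem_bot] at this
      rw [this, zero_smul]
    · rw [hm (l - n) (by omega), smul_zero]

include hpos in
theorem exists_pieces_eq_bot [IsArtinian R K] : ∃ n₀ : ℤ, ∀ n : ℤ, n₀ ≤ n → 𝒦 n = ⊥ := by
  let f : ℕ →o (Submodule R K)ᵒᵈ :=
    ⟨fun n => OrderDual.toDual (geSub 𝒜 hpos 𝒦 (n : ℤ)), by
      intro n n' hnn'
      change geSub 𝒜 hpos 𝒦 (n' : ℤ) ≤ geSub 𝒜 hpos 𝒦 (n : ℤ)
      intro m hm l hl
      exact hm l (lt_of_lt_of_le hl (by exact_mod_cast hnn'))⟩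
  obtain ⟨n, hn⟩ := IsArtinian.monotone_stabilizes f
  refine ⟨(n : ℤ), fun l hl => ?_⟩
  rw [AddSubgroup.eq_bot_iff_forall]
  intro m hm
  have hl0 : 0 ≤ l := le_trans (Int.natCast_nonneg n) hl
  obtain ⟨l', rfl⟩ := Int.eq_ofNat_of_zero_le hl0
  have hln : n ≤ l' := by exact_mod_cast hl
  have h1 : geSub 𝒜 hpos 𝒦 (l' : ℤ) = geSub 𝒜 hpos 𝒦 ((l' + 1 : ℕ) : ℤ) := by
    have e1 := hn l' hln
    have e2 := hn (l' + 1) (by omega)
    exact OrderDual.toDual.injective (e1.symm.trans e2)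
  have h2 : m ∈ geSub 𝒜 hpos 𝒦 (l' : ℤ) := by
    intro j hj
    exact proj_of_mem_ne 𝒦 hm (ne_of_gt hj)
  rw [h1] at h2
  have h3 := h2 (l' : ℤ) (by push_cast; omega)
  rw [proj_of_mem_same 𝒦 hm] at h3
  exact h3

end Artinian

section FiniteLength

variable {R : Type u} [CommRing R] [IsNoetherianRing R] (𝒜 : ℤ → AddSubgroup R) [GradedRing 𝒜]
  (hpos : ∀ n : ℤ, n < 0 → 𝒜 n = ⊥) (a : HomogeneousIdeal 𝒜)
  (ha : a.toIdeal = Ideal.span (⋃ n ∈ Set.Ioi (0 : ℤ), (𝒜 n : Set R)))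
  (hhom : a.toIdeal = Ideal.span ((𝒜 1 : AddSubgroup R) : Set R))

include hpos ha hhom in
theorem subsingleton_H_of_isFiniteLength {K : Type u} [AddCommGroup K] [Module R K]
    (𝒦 : ℤ → AddSubgroup K) [DirectSum.Decomposition 𝒦] [SetLike.GradedSMul 𝒜 𝒦]
    (hfl : IsFiniteLength R K) (j : ℕ) (hj : 1 ≤ j) :
    Subsingleton (LocCoh.H a.toIdeal j K) := by
  obtain ⟨hN, hA⟩ := isFiniteLength_iff_isNoetherian_isArtinian.1 hfl
  haveI : Module.Finite R K := Module.Finite.of_injective LinearMap.id Function.injective_id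
  exact (lc_irrelevant_vanishing_iff 𝒜 a 𝒦 hpos ha hhom).2 (exists_pieces_eq_bot 𝒜 hpos 𝒦) j hj

end FiniteLength

end Groth.Agent.Lib.Helper20.GrLES
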