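import Mathlib
import Groth.Prelude.Def_GrLC
import Groth.Agent.Lib.Helper20.GrArt1
import Groth.Agent.Lib.Helper20.GrArt2
import Groth.Agent.Lib.Helper20.GrLES17
import Groth.Agent.Lib.Helper20.GrStarLoc

/-!
# S17767 / S17768: pieces of `H^i_m(M)` for a positively graded *local ring
-/

set_option autoImplicit false
set_option linter.unusedSectionVars false
set_option linter.unusedVariables false
set_option linter.style.haveILetI false

namespace Groth.Agent.Lib.Helper20.GrArt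

open DirectSum Groth.Agent.Lib.Helper26.GrProj Groth.Agent.Lib.Helper20.GrKit
  Groth.Agent.Lib.Helper20.GrLES

universe u

variable {R : Type u} [CommRing R] [IsNoetherianRing R] (𝒜 : ℤ → AddSubgroup R) [GradedRing 𝒜]
  (hpos : ∀ n : ℤ, n < 0 → 𝒜 n = ⊥) (m : HomogeneousIdeal 𝒜) (hm : GrLC.IsStarLocal 𝒜 m)
  {M : Type u} [AddCommGroup M] [Module R M] [Module.Finite R M] {ℳ : ℤ → AddSubgroup M}
  [DirectSum.Decomposition ℳ] [SetLike.GradedSMul 𝒜 ℳ] (E : GrLC.StarInjRes 𝒜 ℳ)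

include hpos hm in
theorem isArtinian_H (i : ℕ) : IsArtinian R (E.H m i) := by
  haveI hmax : m.toIdeal.IsMaximal := GrStarLoc.isMaximal 𝒜 hpos m hm
  haveI : IsArtinian R (LocCoh.H m.toIdeal i M) := isArtinian_localCohomology m.toIdeal i M
  obtain ⟨e⟩ := bridge_starInjRes E m i
  exact isArtinian_of_injective e.toLinearMap e.injective

/-- the graded module structure on graded local cohomology -/
def hgrGradedSMul {ι : Type} [AddCommGroup ι] [DecidableEq ι] {𝒜' : ι → AddSubgroup R}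
    [GradedRing 𝒜'] {M' : Type u} [AddCommGroup M'] [Module R M'] {ℳ' : ι → AddSubgroup M'}
    [DirectSum.Decomposition ℳ'] [SetLike.GradedSMul 𝒜' ℳ'] (E' : GrLC.StarInjRes 𝒜' ℳ')
    (a : HomogeneousIdeal 𝒜') (i : ℕ) : SetLike.GradedSMul 𝒜' (E'.Hgr a i) :=
  ⟨fun {j k} {r z} hr hz => smul_mem_Hgr E' a i hr hz⟩

include hpos hm in
theorem s17768 (i : ℕ) (n : ℤ) : IsArtinian (GrLC.deg0 𝒜) (E.Hcomp m i n) := by
  haveI := isArtinian_H 𝒜 hpos m hm E i
  letI := (Hgr_isInternal E m i).chooseDecomposition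
  letI := hgrGradedSMul E m i
  have h := isArtinian_comp 𝒜 (E.Hgr m i) n
  have e : GrLC.comp 𝒜 (E.Hgr m i) n = E.Hcomp m i n := Submodule.ext (fun _ => Iff.rfl)
  rw [e] at h
  exact h

include hpos hm in
theorem s17767 (i : ℕ) : ∃ N : ℤ, ∀ n : ℤ, N ≤ n → E.Hcomp m i n = ⊥ := by
  haveI := isArtinian_H 𝒜 hpos m hm E i
  letI := (Hgr_isInternal E m i).chooseDecomposition
  letI := hgrGradedSMul E m i
  obtain ⟨N, hN⟩ := exists_pieces_eq_bot 𝒜 hpos (E.Hgr m i)
  refine ⟨N, fun n hn => ?_⟩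
  rw [Submodule.eq_bot_iff]
  intro w hw
  have hw' : w ∈ E.Hgr m i n := hw
  rw [hN n hn, AddSubgroup.mem_bot] at hw'
  exact hw'

end Groth.Agent.Lib.Helper20.GrArt
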