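import Mathlib
import Groth.Prelude.Def_GrLC

/-!
# Graded prime avoidance and homogeneous regular elements
-/

set_option autoImplicit false
set_option linter.unusedSectionVars false
set_option linter.unusedVariables false
set_option linter.style.haveILetI false

namespace Groth.Agent.Lib.Helper20.GrAvoid

open DirectSum

universe u

variable {R : Type u} [CommRing R] (𝒜 : ℤ → AddSubgroup R) [GradedRing 𝒜]

/-- graded prime avoidance: finitely many primes, each missing some homogeneous element of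
positive degree, are simultaneously missed by one homogeneous element of positive degree -/
theorem exists_homogeneous_avoid : ∀ (S : Finset (Ideal R)),
    (∀ P ∈ S, P.IsPrime ∧ ∃ n : ℕ, 0 < n ∧ ∃ x ∈ 𝒜 (n : ℤ), x ∉ P) →
    ∃ d : ℕ, 0 < d ∧ ∃ x ∈ 𝒜 (d : ℤ), ∀ P ∈ S, x ∉ P := by
  classical
  intro S
  induction S using Finset.strongInduction with
  | H S ih =>
    intro hS
    rcases S.eq_empty_or_nonempty with rfl | ⟨P₁, hP₁⟩
    · exact ⟨1, one_pos, 0, zero_mem _, by simp⟩
    have key : ∀ P ∈ S, ∃ d : ℕ, 0 < d ∧ ∃ x ∈ 𝒜 (d : ℤ), ∀ Q ∈ S.erase P, x ∉ Q := by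
      intro P hP
      exact ih (S.erase P) (Finset.erase_ssubset hP)
        (fun Q hQ => hS Q (Finset.mem_of_mem_erase hQ))
    choose! d hd x hx hav using key
    by_cases h : ∃ P ∈ S, x P ∉ P
    · obtain ⟨P, hP, hxP⟩ := h
      refine ⟨d P, hd P hP, x P, hx P hP, fun Q hQ => ?_⟩
      by_cases hQP : Q = P
      · rw [hQP]; exact hxP
      · exact hav P hP Q (Finset.mem_erase.2 ⟨hQP, hQ⟩)
    push Not at h
    rcases (S.erase P₁).eq_empty_or_nonempty with hT | hT
    · -- `S = {P₁}`
      obtain ⟨-, n, hn, y, hy, hyP⟩ := hS P₁ hP₁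
      refine ⟨n, hn, y, hy, fun Q hQ => ?_⟩
      by_cases hQP : Q = P₁
      · rw [hQP]; exact hyP
      · exfalso
        have : Q ∈ S.erase P₁ := Finset.mem_erase.2 ⟨hQP, hQ⟩
        rw [hT] at this
        exact Finset.notMem_empty _ this
    · set T := S.erase P₁ with hTdef
      set D : ℕ := ∑ Q ∈ T, d Q with hD
      have hDpos : 0 < D := by
        apply Finset.sum_pos _ hT
        intro Q hQ
        exact hd Q (Finset.mem_of_mem_erase hQ)
      set y : R := ∏ Q ∈ T, x Q with hy
      have hyD : y ∈ 𝒜 (∑ Q ∈ T, (d Q : ℤ)) :=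
        SetLike.prod_mem_graded 𝒜 (fun Q => (d Q : ℤ)) x
          (fun Q hQ => hx Q (Finset.mem_of_mem_erase hQ))
      have hd1 := hd P₁ hP₁
      have h1 : x P₁ ^ D ∈ 𝒜 (((d P₁ * D : ℕ)) : ℤ) := by
        have := SetLike.pow_mem_graded D (hx P₁ hP₁)
        have e : D • ((d P₁ : ℕ) : ℤ) = ((d P₁ * D : ℕ) : ℤ) := by
          rw [nsmul_eq_mul]; push_cast; ring
        rw [e] at this
        exact this
      have h2 : y ^ d P₁ ∈ 𝒜 (((d P₁ * D : ℕ)) : ℤ) := by
        have := SetLike.pow_mem_graded (d P₁) hyD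
        have e : d P₁ • (∑ Q ∈ T, (d Q : ℤ)) = ((d P₁ * D : ℕ) : ℤ) := by
          rw [nsmul_eq_mul, hD]; push_cast; ring
        rw [e] at this
        exact this
      refine ⟨d P₁ * D, Nat.mul_pos hd1 hDpos, x P₁ ^ D + y ^ d P₁, add_mem h1 h2, ?_⟩
      intro P hP hmem
      haveI hPprime : P.IsPrime := (hS P hP).1
      by_cases hPP : P = P₁
      · subst hPP
        have h3 : x P ^ D ∈ P := Ideal.pow_mem_of_mem _ (h P hP) _ hDpos
        have h4 : y ^ d P ∈ P := by
          have := P.sub_mem hmem h3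
          rwa [add_sub_cancel_left] at this
        have h5 : y ∈ P := hPprime.mem_of_pow_mem _ h4
        obtain ⟨Q, hQ, hxQ⟩ := Ideal.IsPrime.prod_mem_iff.1 h5
        have hQ' := Finset.mem_erase.1 hQ
        exact hav Q hQ'.2 P (Finset.mem_erase.2 ⟨fun e => hQ'.1 e.symm, hP⟩) hxQ
      · have hPT : P ∈ T := Finset.mem_erase.2 ⟨hPP, hP⟩
        have h5 : y ∈ P := Ideal.IsPrime.prod_mem_iff.2 ⟨P, hPT, h P hP⟩
        have h4 : y ^ d P₁ ∈ P := Ideal.pow_mem_of_mem _ h5 _ hd1
        have h3 : x P₁ ^ D ∈ P := by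
          have := P.sub_mem hmem h4
          rwa [add_sub_cancel_right] at this
        exact hav P₁ hP₁ P hPT (hPprime.mem_of_pow_mem _ h3)

variable [IsNoetherianRing R] (a : HomogeneousIdeal 𝒜)
  (ha : a.toIdeal = Ideal.span (⋃ n ∈ Set.Ioi (0 : ℤ), (𝒜 n : Set R)))

include ha in
/-- if `Γ_{R_+}(M) = 0` there is a homogeneous `M`-regular element of positive degree -/
theorem exists_homogeneous_regular (M : Type u) [AddCommGroup M] [Module R M] [Module.Finite R M]
    (htf : ∀ m : M, m ∈ GrLC.gam a.toIdeal M → m = 0) :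
    ∃ d : ℤ, 0 < d ∧ ∃ x ∈ 𝒜 d, x ∈ a.toIdeal ∧ IsSMulRegular M x := by
  classical
  have hfin := associatedPrimes.finite R M
  obtain ⟨d, hd, x, hx, hav⟩ := exists_homogeneous_avoid 𝒜 hfin.toFinset (by
    intro P hP
    rw [Set.Finite.mem_toFinset] at hP
    have hP' := (isAssociatedPrime_iff.1 hP)
    obtain ⟨hprime, m, hm⟩ := hP'
    refine ⟨hprime, ?_⟩
    by_contra hcon
    push Not at hcon
    have hle : a.toIdeal ≤ P := by
      rw [ha, Ideal.span_le]
      intro r hr
      simp only [Set.mem_iUnion, Set.mem_Ioi, SetLike.mem_coe, exists_prop] at hr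
      obtain ⟨n, hn, hrn⟩ := hr
      have hn' : ((n.toNat : ℕ) : ℤ) = n := Int.toNat_of_nonneg hn.le
      apply hcon n.toNat (by omega) r
      rw [hn']
      exact hrn
    have hm0 : m = 0 := by
      apply htf
      refine ⟨1, fun r hr => ?_⟩
      rw [pow_one] at hr
      have := hle hr
      rw [hm, Submodule.mem_colon_singleton, Submodule.mem_bot] at this
      exact this
    apply hprime.ne_top
    rw [hm, hm0]
    ext r
    simp [Submodule.mem_colon_singleton])
  refine ⟨d, by exact_mod_cast hd, x, hx, ?_, ?_⟩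
  · rw [ha]
    apply Ideal.subset_span
    simp only [Set.mem_iUnion, Set.mem_Ioi, SetLike.mem_coe, exists_prop]
    exact ⟨d, by exact_mod_cast hd, hx⟩
  · by_contra hreg
    have : x ∈ {r : R | IsSMulRegular M r}ᶜ := hreg
    rw [← biUnion_associatedPrimes_eq_compl_regular] at this
    simp only [Set.mem_iUnion, SetLike.mem_coe, exists_prop] at this
    obtain ⟨P, hP, hxP⟩ := this
    exact hav P (hfin.mem_toFinset.2 hP) hxP

end Groth.Agent.Lib.Helper20.GrAvoid
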