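import Mathlib
import Groth.Prelude.Def_GrLC
import Groth.Agent.Lib.Helper20.GrArt3
import Groth.Agent.Lib.Helper20.GrAvoid

/-!
# Finiteness of graded local cohomology w.r.t. the irrelevant ideal: the case `i = 0`
-/

set_option autoImplicit false
set_option linter.unusedSectionVars false
set_option linter.unusedVariables false
set_option linter.style.haveILetI false

namespace Groth.Agent.Lib.Helper20.GrFin

open DirectSum Groth.Agent.Lib.Helper26.GrProj Groth.Agent.Lib.Helper20.GrKit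
  Groth.Agent.Lib.Helper20.GrLES Groth.Agent.Lib.Helper20.GrArt

universe u

variable {R : Type u} [CommRing R] [IsNoetherianRing R] (𝒜 : ℤ → AddSubgroup R) [GradedRing 𝒜]
  (a : HomogeneousIdeal 𝒜)
  (ha : a.toIdeal = Ideal.span (⋃ n ∈ Set.Ioi (0 : ℤ), (𝒜 n : Set R)))

include ha in
/-- homogeneous elements of large degree lie in large powers of the irrelevant ideal -/
theorem exists_deg_pow : ∃ e : ℤ, 0 ≤ e ∧ ∀ (s : ℕ) (n : ℤ), (s : ℤ) * e ≤ n →
    ∀ r ∈ 𝒜 n, r ∈ a.toIdeal ^ s := by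
  classical
  have hfg : a.toIdeal.FG := IsNoetherian.noetherian _
  rw [ha] at hfg
  obtain ⟨G, hGsub, hGspan⟩ := (Submodule.fg_span_iff_fg_span_finset_subset _).1 hfg
  have hGdeg : ∀ g ∈ G, ∃ n : ℤ, 0 < n ∧ g ∈ 𝒜 n := by
    intro g hg
    have := hGsub hg
    simp only [Set.mem_iUnion, Set.mem_Ioi, SetLike.mem_coe, exists_prop] at this
    exact this
  choose! deg hdeg hgdeg using hGdeg
  have haG : a.toIdeal = Ideal.span (G : Set R) := by rw [ha]; exact hGspan
  have hGa : ∀ g ∈ G, g ∈ a.toIdeal := fun g hg => by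
    rw [haG]; exact Ideal.subset_span hg
  set e : ℤ := 1 + ∑ g ∈ G, |deg g| with he
  have he0 : 0 ≤ ∑ g ∈ G, |deg g| := Finset.sum_nonneg fun g _ => abs_nonneg _
  have hdege : ∀ g ∈ G, deg g ≤ e - 1 := by
    intro g hg
    have h1 : |deg g| ≤ ∑ g ∈ G, |deg g| :=
      Finset.single_le_sum (f := fun g => |deg g|) (fun i _ => abs_nonneg _) hg
    have h2 := le_abs_self (deg g)
    omega
  refine ⟨e, by omega, ?_⟩
  intro s
  induction s with
  | zero =>
    intro n _ r _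
    rw [pow_zero, Ideal.one_eq_top]
    exact Submodule.mem_top
  | succ s ih =>
    intro n hn r hr
    have hse : (0 : ℤ) ≤ (s : ℤ) * e := mul_nonneg (Int.natCast_nonneg s) (by omega)
    have hn' : (s : ℤ) * e + e ≤ n := by
      have : ((s + 1 : ℕ) : ℤ) * e = (s : ℤ) * e + e := by push_cast; ring
      rw [this] at hn
      exact hn
    have hnpos : 0 < n := by omega
    have hra : r ∈ a.toIdeal := by
      rw [ha]
      apply Ideal.subset_span
      simp only [Set.mem_iUnion, Set.mem_Ioi, SetLike.mem_coe, exists_prop]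
      exact ⟨n, hnpos, hr⟩
    rw [haG] at hra
    obtain ⟨c, -, hc⟩ := Submodule.mem_span_finset.1 hra
    have hr' : r = ∑ g ∈ G, proj 𝒜 (n - deg g) (c g) • g := by
      conv_lhs => rw [← proj_of_mem_same 𝒜 hr, ← hc, proj_sum]
      refine Finset.sum_congr rfl fun g hg => ?_
      exact proj_smul_of_mem_right 𝒜 𝒜 (hgdeg g hg) n (c g)
    rw [hr', pow_succ]
    refine Ideal.sum_mem _ fun g hg => ?_
    rw [smul_eq_mul]
    apply Ideal.mul_mem_mul _ (hGa g hg)
    apply ih (n - deg g) _ _ (proj_mem 𝒜 _ _)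
    have := hdege g hg
    omega

include ha in
/-- a finitely generated graded `R_+`-torsion module vanishes in large degrees -/
theorem exists_bounded_above_of_torsion {T : Type u} [AddCommGroup T] [Module R T]
    [Module.Finite R T] (𝒯 : ℤ → AddSubgroup T) [DirectSum.Decomposition 𝒯]
    [SetLike.GradedSMul 𝒜 𝒯] (htors : ∀ z : T, ∃ s : ℕ, ∀ r ∈ a.toIdeal ^ s, r • z = 0) :
    ∃ r₀ : ℤ, ∀ n : ℤ, r₀ ≤ n → 𝒯 n = ⊥ := by
  classical
  obtain ⟨e, he, hpow⟩ := exists_deg_pow 𝒜 a ha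
  obtain ⟨p, D, m, hm, hspan⟩ := exists_homogeneous_gens 𝒯 (Module.Finite.fg_top (R := R) (M := T))
  choose s hs using fun j => htors (m j)
  refine ⟨∑ j, |D j| + ((∑ j, s j : ℕ) : ℤ) * e, fun n hn => ?_⟩
  rw [eq_bot_iff]
  intro z hz
  obtain ⟨c, hc, rfl⟩ := exists_homogeneous_coeffs 𝒜 𝒯 D m hm hspan n z hz
  rw [AddSubgroup.mem_bot]
  refine Finset.sum_eq_zero fun j _ => ?_
  apply hs j
  apply hpow (s j) (n - D j) _ _ (hc j)
  have h1 : |D j| ≤ ∑ j, |D j| :=
    Finset.single_le_sum (f := fun j => |D j|) (fun i _ => abs_nonneg _) (Finset.mem_univ j)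
  have h2 := le_abs_self (D j)
  have h3 : s j ≤ ∑ j, s j :=
    Finset.single_le_sum (f := fun j => s j) (fun i _ => Nat.zero_le _) (Finset.mem_univ j)
  have h4 : ((s j : ℕ) : ℤ) * e ≤ ((∑ j, s j : ℕ) : ℤ) * e :=
    mul_le_mul_of_nonneg_right (by exact_mod_cast h3) he
  omega

variable {M : Type u} [AddCommGroup M] [Module R M] [Module.Finite R M] {ℳ : ℤ → AddSubgroup M}
  [DirectSum.Decomposition ℳ] [SetLike.GradedSMul 𝒜 ℳ] (E : GrLC.StarInjRes 𝒜 ℳ)

theorem isNoetherian_H_zero : IsNoetherian R (E.H a 0) := by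
  haveI : IsNoetherian R M := isNoetherian_of_isNoetherianRing_of_finite R M
  haveI : IsNoetherian R (LinearMap.range E.ε) := inferInstance
  have hle : E.cocyc a 0 ≤ LinearMap.range E.ε := by
    rw [← E.exact_zero]
    exact inf_le_right
  haveI : IsNoetherian R (E.cocyc a 0) := isNoetherian_of_le hle
  infer_instance

theorem isTorsion_H (i : ℕ) (z : E.H a i) : ∃ s : ℕ, ∀ r ∈ a.toIdeal ^ s, r • z = 0 := by
  obtain ⟨c, rfl⟩ := toH_surjective E a i z
  obtain ⟨n, hn⟩ := c.2.1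
  refine ⟨n, fun r hr => ?_⟩
  rw [← map_smul]
  have : r • c = 0 := Subtype.ext (hn r hr)
  rw [this, map_zero]

include ha in
theorem P_zero : (∃ r : ℤ, ∀ n : ℤ, r ≤ n → E.Hgr a 0 n = ⊥) ∧
    ∀ n : ℤ, IsNoetherian (GrLC.deg0 𝒜) (E.Hcomp a 0 n) := by
  haveI := isNoetherian_H_zero 𝒜 a E
  letI := (Hgr_isInternal E a 0).chooseDecomposition
  letI := hgrGradedSMul E a 0
  refine ⟨exists_bounded_above_of_torsion 𝒜 a ha (E.Hgr a 0) (isTorsion_H 𝒜 a E 0), fun n => ?_⟩
  have h := isNoetherian_comp 𝒜 (E.Hgr a 0) n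
  have e : GrLC.comp 𝒜 (E.Hgr a 0) n = E.Hcomp a 0 n := Submodule.ext (fun _ => Iff.rfl)
  rw [e] at h
  exact h

end Groth.Agent.Lib.Helper20.GrFin
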