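import Mathlib
import Groth.Prelude.Def_GrLC
import Groth.Agent.Lib.Helper20.GrFin1
import Groth.Agent.Lib.Helper20.GrLES14
import Groth.Agent.Lib.helper11.LCVanish
import Groth.Agent.S0323

/-!
# Finiteness of graded local cohomology w.r.t. the irrelevant ideal: the induction
-/

set_option autoImplicit false
set_option linter.unusedSectionVars false
set_option linter.unusedVariables false
set_option linter.style.haveILetI false

namespace Groth.Agent.Lib.Helper20.GrFin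

open DirectSum Groth.Agent.Lib.Helper26.GrProj Groth.Agent.Lib.Helper20.GrKit
  Groth.Agent.Lib.Helper20.GrLES Groth.Agent.Lib.Helper20.GrArt
open scoped Pointwise

universe u

section Pieces

variable {R : Type u} [CommRing R] (𝒜 : ℤ → AddSubgroup R) [GradedRing 𝒜]
  {H₁ H₂ H₃ : Type u} [AddCommGroup H₁] [Module R H₁] [AddCommGroup H₂] [Module R H₂]
  [AddCommGroup H₃] [Module R H₃]
  (P₁ : Submodule (GrLC.deg0 𝒜) H₁) (P₂ : Submodule (GrLC.deg0 𝒜) H₂)
  (P₃ : Submodule (GrLC.deg0 𝒜) H₃)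

theorem isNoetherian_mid (f : H₁ →ₗ[R] H₂) (g : H₂ →ₗ[R] H₃) (hf : ∀ z ∈ P₁, f z ∈ P₂)
    (hg : ∀ z ∈ P₂, g z ∈ P₃) (hgf : ∀ w ∈ P₁, g (f w) = 0)
    (hex : ∀ z ∈ P₂, g z = 0 → ∃ w ∈ P₁, f w = z)
    [IsNoetherian (GrLC.deg0 𝒜) P₁] [IsNoetherian (GrLC.deg0 𝒜) P₃] :
    IsNoetherian (GrLC.deg0 𝒜) P₂ := by
  let f' : P₁ →ₗ[GrLC.deg0 𝒜] P₂ := (f.restrictScalars (GrLC.deg0 𝒜)).restrict hf
  let g' : P₂ →ₗ[GrLC.deg0 𝒜] P₃ := (g.restrictScalars (GrLC.deg0 𝒜)).restrict hg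
  apply isNoetherian_of_range_eq_ker f' g'
  ext z
  constructor
  · rintro ⟨w, rfl⟩
    apply Subtype.ext
    exact hgf w w.2
  · intro hz
    have hz0 : g z = 0 := congrArg Subtype.val (LinearMap.mem_ker.1 hz)
    obtain ⟨w, hw, e⟩ := hex z z.2 hz0
    exact ⟨⟨w, hw⟩, Subtype.ext e⟩

theorem isNoetherian_of_inj (f : H₁ →ₗ[R] H₂) (hf : ∀ z ∈ P₁, f z ∈ P₂)
    (hinj : ∀ z ∈ P₁, f z = 0 → z = 0) [IsNoetherian (GrLC.deg0 𝒜) P₂] :
    IsNoetherian (GrLC.deg0 𝒜) P₁ := by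
  refine isNoetherian_of_injective ((f.restrictScalars (GrLC.deg0 𝒜)).restrict hf) ?_
  rw [← LinearMap.ker_eq_bot, LinearMap.ker_eq_bot']
  intro z hz
  apply Subtype.ext
  exact hinj z z.2 (congrArg Subtype.val hz)

theorem isNoetherian_of_eq_bot (h : P₁ = ⊥) : IsNoetherian (GrLC.deg0 𝒜) P₁ := by
  rw [h]
  infer_instance

end Pieces

variable {R : Type u} [CommRing R] [IsNoetherianRing R] (𝒜 : ℤ → AddSubgroup R) [GradedRing 𝒜]
  (a : HomogeneousIdeal 𝒜)

/-- the statement proved by induction on `i` -/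
def P (i : ℕ) : Prop :=
  ∀ (M : Type u) [AddCommGroup M] [Module R M] [Module.Finite R M] (ℳ : ℤ → AddSubgroup M)
    [DirectSum.Decomposition ℳ] [SetLike.GradedSMul 𝒜 ℳ] (E : GrLC.StarInjRes 𝒜 ℳ),
    (∃ r : ℤ, ∀ n : ℤ, r ≤ n → E.Hgr a i n = ⊥) ∧
      ∀ n : ℤ, IsNoetherian (GrLC.deg0 𝒜) (E.Hcomp a i n)

theorem Hcomp_eq_bot_of_Hgr {M : Type u} [AddCommGroup M] [Module R M] {ℳ : ℤ → AddSubgroup M}
    [DirectSum.Decomposition ℳ] [SetLike.GradedSMul 𝒜 ℳ] (E : GrLC.StarInjRes 𝒜 ℳ) (i : ℕ)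
    (n : ℤ) (h : E.Hgr a i n = ⊥) : E.Hcomp a i n = ⊥ := by
  rw [Submodule.eq_bot_iff]
  intro w hw
  have hw' : w ∈ E.Hgr a i n := hw
  rw [h, AddSubgroup.mem_bot] at hw'
  exact hw'

/-- the step for a module with a homogeneous regular element of positive degree in `a` -/
theorem step_regular (i : ℕ) (hP : P 𝒜 a i) (M : Type u) [AddCommGroup M] [Module R M]
    [Module.Finite R M] (ℳ : ℤ → AddSubgroup M) [DirectSum.Decomposition ℳ]
    [SetLike.GradedSMul 𝒜 ℳ] (E : GrLC.StarInjRes 𝒜 ℳ) (x : R) (d : ℤ) (hd : 0 < d)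
    (hx : x ∈ 𝒜 d) (hxa : x ∈ a.toIdeal) (hreg : IsSMulRegular M x) :
    (∃ r : ℤ, ∀ n : ℤ, r ≤ n → E.Hgr a (i + 1) n = ⊥) ∧
      ∀ n : ℤ, IsNoetherian (GrLC.deg0 𝒜) (E.Hcomp a (i + 1) n) := by
  classical
  let C : Submodule R M := x • (⊤ : Submodule R M)
  have hC : ∀ g y, y ∈ C → proj ℳ g y ∈ C := smul_top_proj_stable 𝒜 ℳ x d hx
  letI : DirectSum.Decomposition (quoGr ℳ C) := quoDecomposition ℳ C hC
  obtain ⟨F⟩ := nonempty_starInjRes 𝒜 (quoGr ℳ C)
  have hkerQ : LinearMap.ker C.mkQ = LinearMap.range (x • (LinearMap.id : M →ₗ[R] M)) := by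
    rw [Submodule.ker_mkQ]
    exact smul_top_eq_range x
  obtain ⟨β, δ, -, hδ, -, -, -, -, h7, h8, -, -⟩ := les_regular E F x d hx hreg C.mkQ
    (Submodule.mkQ_surjective C) (mkQ_isGrHom ℳ C) hkerQ a
  obtain ⟨⟨rN, hrN⟩, hNoeth⟩ := hP (M ⧸ C) (quoGr ℳ C) F
  -- vanishing
  have hvan : ∀ (s : ℕ) (n : ℤ), rN - d ≤ n → ∀ z ∈ E.Hgr a (i + 1) n, x ^ s • z = 0 → z = 0 := by
    intro s
    induction s with
    | zero =>
      intro n _ z _ hz
      rwa [pow_zero, one_smul] at hz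
    | succ s ih =>
      intro n hn z hz hz0
      have hxz : x • z ∈ E.Hgr a (i + 1) (d + n) := smul_mem_Hgr E a (i + 1) hx hz
      have h0 : x • z = 0 := by
        apply ih (d + n) (by omega) (x • z) hxz
        rw [← mul_smul, ← pow_succ]
        exact hz0
      obtain ⟨w, hw, rfl⟩ := h7 i n z hz h0
      rw [hrN (n + d) (by omega), AddSubgroup.mem_bot] at hw
      rw [hw, map_zero]
  have hvan' : ∀ n : ℤ, rN - d ≤ n → E.Hgr a (i + 1) n = ⊥ := by
    intro n hn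
    rw [eq_bot_iff]
    intro z hz
    rw [AddSubgroup.mem_bot]
    obtain ⟨s, hs⟩ := exists_pow_smul_eq_zero E a (i + 1) hxa z
    exact hvan s n hn z hz hs
  refine ⟨⟨rN - d, hvan'⟩, ?_⟩
  -- finiteness, by descending induction
  have hfin : ∀ (k : ℕ) (n : ℤ), rN - d - k * d ≤ n →
      IsNoetherian (GrLC.deg0 𝒜) (E.Hcomp a (i + 1) n) := by
    intro k
    induction k with
    | zero =>
      intro n hn
      apply isNoetherian_of_eq_bot
      apply Hcomp_eq_bot_of_Hgr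
      apply hvan'
      simpa using hn
    | succ k ih =>
      intro n hn
      haveI := ih (n + d) (by push_cast at hn; linarith)
      haveI := hNoeth (n + d)
      refine isNoetherian_mid 𝒜 (F.Hcomp a i (n + d)) (E.Hcomp a (i + 1) n)
        (E.Hcomp a (i + 1) (n + d)) (δ i) (x • (LinearMap.id : E.H a (i + 1) →ₗ[R] E.H a (i + 1)))
        ?_ ?_ ?_ ?_
      · intro w hw
        have := hδ i (n + d) w hw
        rw [add_sub_cancel_right] at this
        exact this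
      · intro z hz
        have := smul_mem_Hgr E a (i + 1) hx hz
        rw [add_comm d n] at this
        exact this
      · intro w _
        exact h8 i w
      · intro z hz hz0
        exact h7 i n z hz hz0
  intro n
  apply hfin (rN - d - n).toNat n
  have h1 := Int.self_le_toNat (rN - d - n)
  have h2 : ((rN - d - n).toNat : ℤ) ≤ ((rN - d - n).toNat : ℤ) * d := by
    have : (0 : ℤ) ≤ ((rN - d - n).toNat : ℤ) := Int.natCast_nonneg _
    nlinarith
  linarith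

end Groth.Agent.Lib.Helper20.GrFin
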