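import Mathlib
import Groth.Prelude.Def_GrLC
import Groth.Agent.Lib.Helper20.GrFin2
import Groth.Agent.S0326

/-!
# Finiteness of graded local cohomology w.r.t. the irrelevant ideal: S13226, S13227
-/

set_option autoImplicit false
set_option linter.unusedSectionVars false
set_option linter.unusedVariables false
set_option linter.style.haveILetI false

namespace Groth.Agent.Lib.Helper20.GrFin

open DirectSum Groth.Agent.Lib.Helper26.GrProj Groth.Agent.Lib.Helper20.GrKit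
  Groth.Agent.Lib.Helper20.GrLES Groth.Agent.Lib.Helper20.GrArt
  Groth.Agent.Lib.Helper20.GrAvoid
open scoped Pointwise

universe u

variable {R : Type u} [CommRing R] [IsNoetherianRing R] (𝒜 : ℤ → AddSubgroup R) [GradedRing 𝒜]
  (a : HomogeneousIdeal 𝒜)
  (ha : a.toIdeal = Ideal.span (⋃ n ∈ Set.Ioi (0 : ℤ), (𝒜 n : Set R)))

include ha in
theorem step_general (i : ℕ) (hP : P 𝒜 a i) : P 𝒜 a (i + 1) := by
  intro M _ _ _ ℳ _ _ E
  classical
  let Γ : Submodule R M := GrLC.gam a.toIdeal M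
  have hΓ : ∀ g y, y ∈ Γ → proj ℳ g y ∈ Γ := fun g y hy => proj_mem_gam 𝒜 ℳ a g y hy
  letI : DirectSum.Decomposition (quoGr ℳ Γ) := quoDecomposition ℳ Γ hΓ
  letI : DirectSum.Decomposition (subGr ℳ Γ) := subDecomposition ℳ Γ hΓ
  obtain ⟨E₁⟩ := nonempty_starInjRes 𝒜 (subGr ℳ Γ)
  obtain ⟨E₂⟩ := nonempty_starInjRes 𝒜 (quoGr ℳ Γ)
  have htf : ∀ m : M ⧸ Γ, m ∈ GrLC.gam a.toIdeal (M ⧸ Γ) → m = 0 := by
    intro m hm
    exact Groth.Agent.Lib.helper11.LCKit.isTorsFree_quotient_gam a.toIdeal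
      (IsNoetherian.noetherian _) M m hm
  obtain ⟨d, hd, x, hx, hxa, hreg⟩ := exists_homogeneous_regular 𝒜 a ha (M ⧸ Γ) htf
  obtain ⟨⟨r, hr⟩, hN⟩ := step_regular 𝒜 a i hP (M ⧸ Γ) (quoGr ℳ Γ) E₂ x d hd hx hxa hreg
  have hsubg : GrLC.IsGrHom (subGr ℳ Γ) ℳ Γ.subtype := fun g m hm => hm
  obtain ⟨φ, hφ⟩ := exists_lift E₁ E Γ.subtype hsubg
  obtain ⟨ψ, hψ⟩ := exists_lift E E₂ Γ.mkQ (mkQ_isGrHom ℳ Γ)
  obtain ⟨δ, -, hles⟩ := les E₁ E E₂ Γ.subtype Γ.mkQ hsubg (mkQ_isGrHom ℳ Γ)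
    Γ.injective_subtype Γ.mkQ_surjective (by rw [Submodule.ker_mkQ, Submodule.range_subtype]) a
  obtain ⟨h1, -, -, -⟩ := hles φ ψ hφ hψ
  have hsub : Subsingleton (E₁.H a (i + 1)) := by
    obtain ⟨e⟩ := bridge_starInjRes E₁ a (i + 1)
    have htors : LocCoh.IsPowerTorsion a.toIdeal Γ := by
      rintro ⟨m, n, hn⟩
      exact ⟨n, fun r hr => Subtype.ext (hn r hr)⟩
    haveI := (Groth.Agent.S0323.result R a.toIdeal Γ htors).2 (i + 1) (Nat.succ_pos i)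
    exact e.toEquiv.subsingleton
  have hinj : ∀ z, ψ.Hmap a (i + 1) z = 0 → z = 0 := by
    intro z hz
    have : z ∈ LinearMap.ker (ψ.Hmap a (i + 1)) := hz
    rw [h1 (i + 1)] at this
    obtain ⟨y, rfl⟩ := this
    rw [Subsingleton.elim y 0, map_zero]
  refine ⟨⟨r, fun n hn => ?_⟩, fun n => ?_⟩
  · rw [eq_bot_iff]
    intro z hz
    have := ψ.Hmap_isGrHom a (i + 1) n z hz
    rw [hr n hn, AddSubgroup.mem_bot] at this
    rw [AddSubgroup.mem_bot]
    exact hinj z this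
  · haveI := hN n
    exact isNoetherian_of_inj 𝒜 (E.Hcomp a (i + 1) n) (E₂.Hcomp a (i + 1) n) (ψ.Hmap a (i + 1))
      (fun z hz => ψ.Hmap_isGrHom a (i + 1) n z hz) (fun z _ hz => hinj z hz)

include ha in
theorem P_all : ∀ i, P 𝒜 a i := by
  intro i
  induction i with
  | zero =>
    intro M _ _ _ ℳ _ _ E
    exact P_zero 𝒜 a ha E
  | succ i ih => exact step_general 𝒜 a ha i ih

theorem exists_cd : ∃ t : ℕ, ∀ (M : Type u) [AddCommGroup M] [Module R M]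
    (ℳ : ℤ → AddSubgroup M) [DirectSum.Decomposition ℳ] [SetLike.GradedSMul 𝒜 ℳ]
    (E : GrLC.StarInjRes 𝒜 ℳ) (i : ℕ), t < i → Subsingleton (E.H a i) := by
  have hfg : a.toIdeal.FG := IsNoetherian.noetherian _
  obtain ⟨G, hG⟩ := hfg
  refine ⟨G.card, ?_⟩
  intro M _ _ ℳ _ _ E i hi
  obtain ⟨e⟩ := bridge_starInjRes E a i
  have hcd := Groth.Agent.S0326.result R G M i hi
  have hG' : Ideal.span (G : Set R) = a.toIdeal := hG
  rw [hG'] at hcd
  exact e.toEquiv.subsingleton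

variable {M : Type u} [AddCommGroup M] [Module R M] [Module.Finite R M] (ℳ : ℤ → AddSubgroup M)
  [DirectSum.Decomposition ℳ] [SetLike.GradedSMul 𝒜 ℳ] (E : GrLC.StarInjRes 𝒜 ℳ)

include ha in
theorem s13226 (i : ℕ) (n : ℤ) : Module.Finite (GrLC.deg0 𝒜) (E.Hcomp a i n) := by
  haveI := (P_all 𝒜 a ha i M ℳ E).2 n
  infer_instance

include ha in
theorem s13227 : ∃ r : ℤ, ∀ (i : ℕ) (n : ℤ), r ≤ n → E.Hcomp a i n = ⊥ := by
  classical
  obtain ⟨t, ht⟩ := exists_cd 𝒜 a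
  choose r hr using fun i => (P_all 𝒜 a ha i M ℳ E).1
  refine ⟨∑ i ∈ Finset.range (t + 1), |r i|, fun i n hn => ?_⟩
  by_cases hi : i ≤ t
  · apply Hcomp_eq_bot_of_Hgr
    apply hr i n
    have h1 : |r i| ≤ ∑ i ∈ Finset.range (t + 1), |r i| :=
      Finset.single_le_sum (f := fun i => |r i|) (fun i _ => abs_nonneg _)
        (Finset.mem_range.2 (by omega))
    have h2 := le_abs_self (r i)
    omega
  · haveI := ht M ℳ E i (by omega)
    rw [Submodule.eq_bot_iff]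
    intro w _
    exact Subsingleton.elim _ _

end Groth.Agent.Lib.Helper20.GrFin
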