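import Mathlib
import Groth.Prelude.Def_CAlg
import Groth.Agent.Lib.Helper21.GrCMVertex
import Groth.Agent.Lib.Helper21.DepthKit10
import Groth.Agent.Lib.Helper21.FinResKit2
import Groth.Agent.Lib.Helper20.GrConv

/-!
# Cohen–Macaulayness of a graded module is detected at the vertex
-/

set_option autoImplicit false
set_option linter.unusedSectionVars false
set_option linter.unusedVariables false
set_option linter.style.haveILetI false

universe u

namespace Groth.Agent.Lib.Helper20.SegCM

open Groth.Agent.Lib.Helper21 Groth.Agent.Lib.Helper21.GrCMVertex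
  Groth.Agent.Lib.Helper21.DepthKit

section General

variable {R : Type u} [CommRing R] [IsNoetherianRing R]
  {M : Type u} [AddCommGroup M] [Module R M] [Module.Finite R M]

/-- Cohen–Macaulayness passes to localizations at smaller primes of the support. -/
theorem isCM_of_le (m : Ideal R) [m.IsPrime] (q : Ideal R) [q.IsPrime] (hle : q ≤ m)
    (hnt : Nontrivial (LocalizedModule q.primeCompl M))
    (hm : LocCoh.IsCohenMacaulayModule (Localization.AtPrime m)
      (LocalizedModule m.primeCompl M)) :
    LocCoh.IsCohenMacaulayModule (Localization.AtPrime q) (LocalizedModule q.primeCompl M) := by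
  set A := Localization.AtPrime m with hA
  have hdisj : Disjoint (m.primeCompl : Set R) (q : Set R) := by
    rw [Set.disjoint_left]
    intro x hx hxq
    exact hx (hle hxq)
  set P := q.map (algebraMap R A) with hP
  haveI hPprime : P.IsPrime := IsLocalization.isPrime_of_isPrime_disjoint m.primeCompl A q
    inferInstance hdisj
  have hcomap : q = P.comap (algebraMap R A) :=
    (IsLocalization.comap_map_of_isPrime_disjoint m.primeCompl A inferInstance hdisj).symm
  have hsupp : (⟨P, hPprime⟩ : PrimeSpectrum A) ∈
      Module.support A (LocalizedModule m.primeCompl M) := by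
    rw [support_localization, Set.mem_preimage]
    have : PrimeSpectrum.comap (algebraMap R A) ⟨P, hPprime⟩ = ⟨q, inferInstance⟩ :=
      PrimeSpectrum.ext hcomap.symm
    rw [this, Module.mem_support_iff]
    exact hnt
  have h := (isCM_localizedModule_and_dim hm ⟨P, hPprime⟩ hsupp).1
  have hd := depth_localization_of_isLocalization' m.primeCompl
    (LocalizedModule.mkLinearMap m.primeCompl M) P q hcomap
  have hs := supportDim_localization_of_isLocalization' m.primeCompl
    (LocalizedModule.mkLinearMap m.primeCompl M) P q hcomap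
  unfold LocCoh.IsCohenMacaulayModule
  rw [hd, hs]
  exact h

theorem supportDim_localization_le (P : Ideal R) [P.IsPrime] :
    Module.supportDim (Localization.AtPrime P) (LocalizedModule P.primeCompl M) ≤
      Module.supportDim R M := by
  rw [FinResKit.supportDim_localization_eq]
  unfold Module.supportDim
  exact Order.krullDim_le_of_strictMono (fun a => ⟨a.1, a.2.1⟩) (fun {_ _} lt => lt)

end General

section Graded

open Groth.Agent.Lib.Helper20.GrConv Groth.Agent.Lib.Helper26.GrProj

variable {R : Type u} [CommRing R] [IsNoetherianRing R]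
  {σ : Type u} [SetLike σ R] [AddSubgroupClass σ R] (𝒜 : ℤ → σ) [GradedRing 𝒜]
  {M : Type u} [AddCommGroup M] [Module R M] [Module.Finite R M]
  {τ : Type u} [SetLike τ M] [AddSubgroupClass τ M]
  (ℳ : ℤ → τ) [DirectSum.Decomposition ℳ] [SetLike.GradedSMul 𝒜 ℳ]

theorem decompose_smul_of_mem {n : ℤ} {a : M} (ha : a ∈ ℳ n) (r : R) (i : ℤ) :
    (DirectSum.decompose ℳ (r • a) (i + n) : M) = (DirectSum.decompose 𝒜 r i : R) • a := by
  classical
  induction r using DirectSum.Decomposition.inductionOn 𝒜 with
  | zero => simp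
  | add r r' hr hr' =>
    rw [add_smul, DirectSum.decompose_add, DirectSum.add_apply, AddMemClass.coe_add, hr, hr',
      DirectSum.decompose_add, DirectSum.add_apply, AddMemClass.coe_add, add_smul]
  | homogeneous r =>
    rename_i j
    have hmem : (r : R) • a ∈ ℳ (j + n) := SetLike.GradedSMul.smul_mem r.2 ha
    by_cases hji : j = i
    · subst hji
      rw [DirectSum.decompose_of_mem_same ℳ hmem, DirectSum.decompose_of_mem_same 𝒜 r.2]
    · rw [DirectSum.decompose_of_mem_ne ℳ hmem (by omega),
        DirectSum.decompose_of_mem_ne 𝒜 r.2 hji, zero_smul]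

include ℳ in
theorem annihilator_isHomogeneous : Ideal.IsHomogeneous 𝒜 (Module.annihilator R M) := by
  intro i r hr
  rw [Module.mem_annihilator] at hr ⊢
  intro m
  induction m using DirectSum.Decomposition.inductionOn ℳ with
  | zero => simp
  | add m m' hm hm' => rw [smul_add, hm, hm', add_zero]
  | homogeneous m =>
    rename_i n
    rw [← decompose_smul_of_mem 𝒜 ℳ m.2 r i, hr, DirectSum.decompose_zero]
    rfl

include ℳ in
/-- `M_q` is Cohen–Macaulay as soon as `M_{q*}` is, for the homogeneous core `q*` of `q`. -/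
theorem isCM_of_core (q : Ideal R) [q.IsPrime]
    [(Ideal.homogeneousCore (asGr 𝒜) q).toIdeal.IsPrime]
    (hnt : Nontrivial (LocalizedModule q.primeCompl M))
    (h : LocCoh.IsCohenMacaulayModule
      (Localization.AtPrime (Ideal.homogeneousCore (asGr 𝒜) q).toIdeal)
      (LocalizedModule (Ideal.homogeneousCore (asGr 𝒜) q).toIdeal.primeCompl M)) :
    LocCoh.IsCohenMacaulayModule (Localization.AtPrime q) (LocalizedModule q.primeCompl M) := by
  set qs := (Ideal.homogeneousCore (asGr 𝒜) q).toIdeal with hqs
  have hle : qs ≤ q := Ideal.toIdeal_homogeneousCore_le (asGr 𝒜) q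
  haveI : (q.map (Ideal.Quotient.mk qs)).IsPrime :=
    Ideal.map_isPrime_of_surjective Ideal.Quotient.mk_surjective (by rwa [Ideal.mk_ker])
  have hfin : (q.map (Ideal.Quotient.mk qs)).height ≠ ⊤ :=
    Ideal.height_ne_top (Ideal.IsPrime.ne_top inferInstance)
  obtain ⟨d, hd⟩ := ENat.ne_top_iff_exists.1 hfin
  have h1 := Groth.Agent.S13232.result R (asGr 𝒜) M (asGrM ℳ) q d hd.symm hnt
  have h2 := Groth.Agent.S13234.result R (asGr 𝒜) M (asGrM ℳ) q d hd.symm
  unfold LocCoh.IsCohenMacaulayModule at h ⊢
  rw [h1, h2, h]
  push_cast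
  rfl

variable (m : Ideal R) [m.IsPrime]
  (hmm : ∀ (n : ℤ) (y : R), y ∈ 𝒜 n → ¬ IsUnit y → y ∈ m)

include ℳ hmm in
/-- **A finite graded module is locally Cohen–Macaulay as soon as it is so at the vertex.** -/
theorem cm_all_of_vertex
    (hm : LocCoh.IsCohenMacaulayModule (Localization.AtPrime m)
      (LocalizedModule m.primeCompl M)) (q : Ideal R) [q.IsPrime] :
    Subsingleton (LocalizedModule q.primeCompl M) ∨
      LocCoh.IsCohenMacaulayModule (Localization.AtPrime q) (LocalizedModule q.primeCompl M) := by
  by_cases hsub : Subsingleton (LocalizedModule q.primeCompl M)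
  · exact Or.inl hsub
  right
  have hnt : Nontrivial (LocalizedModule q.primeCompl M) := not_subsingleton_iff_nontrivial.1 hsub
  haveI hqsp : (Ideal.homogeneousCore (asGr 𝒜) q).toIdeal.IsPrime := isPrime_core (asGr 𝒜) q
  have hqsm : (Ideal.homogeneousCore (asGr 𝒜) q).toIdeal ≤ m :=
    core_le_of_homogeneous_mem (asGr 𝒜) q m hmm
  have hann : Module.annihilator R M ≤ q := by
    have : (⟨q, inferInstance⟩ : PrimeSpectrum R) ∈ Module.support R M :=
      Module.mem_support_iff.2 hnt
    exact (Module.mem_support_iff_of_finite).1 this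
  have hannh : (Module.annihilator R M).IsHomogeneous (asGr 𝒜) :=
    annihilator_isHomogeneous (asGr 𝒜) (asGrM ℳ)
  have hann' : Module.annihilator R M ≤ (Ideal.homogeneousCore (asGr 𝒜) q).toIdeal := by
    rw [← Ideal.IsHomogeneous.toIdeal_homogeneousCore_eq_self hannh]
    exact Ideal.homogeneousCore_mono (asGr 𝒜) hann
  have hnts : Nontrivial
      (LocalizedModule (Ideal.homogeneousCore (asGr 𝒜) q).toIdeal.primeCompl M) := by
    have : (⟨(Ideal.homogeneousCore (asGr 𝒜) q).toIdeal, hqsp⟩ : PrimeSpectrum R) ∈
        Module.support R M := (Module.mem_support_iff_of_finite).2 hann'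
    exact Module.mem_support_iff.1 this
  exact isCM_of_core 𝒜 ℳ q hnt (isCM_of_le m _ hqsm hnts hm)

end Graded

end Groth.Agent.Lib.Helper20.SegCM
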