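import Mathlib
import Groth.Agent.Lib.Helper20.GrConv

/-!
# Conversion of ranks of pieces between gradings by a `SetLike` class and by additive subgroups
-/

set_option autoImplicit false
set_option linter.unusedSectionVars false
set_option linter.unusedVariables false

namespace Groth.Agent.Lib.Helper20.GrConv

open DirectSum Groth.Agent.Lib.Helper26.GrProj Groth.Agent.Lib.Helper20.GrKit

universe u

variable {ι : Type} [AddCommGroup ι] [DecidableEq ι] {R : Type u} [CommRing R]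
  {σ : Type u} [SetLike σ R] [AddSubgroupClass σ R] {𝒜 : ι → σ} [GradedRing 𝒜]
  {M : Type u} [AddCommGroup M] [Module R M] {τ : Type u} [SetLike τ M] [AddSubgroupClass τ M]
  {ℳ : ι → τ} [DirectSum.Decomposition ℳ] [SetLike.GradedSMul 𝒜 ℳ]

/-- the identification of the degree zero subrings -/
def deg0Conv : GrLC.deg0 (asGr 𝒜) → GrLC.deg0 𝒜 := fun r => ⟨r.1, r.2⟩

theorem deg0Conv_bijective : Function.Bijective (deg0Conv (𝒜 := 𝒜)) :=
  ⟨fun a b h => Subtype.ext (congrArg Subtype.val h), fun r => ⟨⟨r.1, r.2⟩, rfl⟩⟩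

theorem finrank_Hcomp_conv (E : GrLC.StarInjRes 𝒜 ℳ) (a : HomogeneousIdeal 𝒜) (i : ℕ) (g : ι) :
    Module.finrank (GrLC.deg0 (asGr 𝒜)) ((resToAS E).Hcomp (idealToAS 𝒜 a) i g) =
      Module.finrank (GrLC.deg0 𝒜) (E.Hcomp a i g) := rfl

theorem finrank_comp_conv (g : ι) :
    Module.finrank (GrLC.deg0 (asGr 𝒜)) (GrLC.comp (asGr 𝒜) (asGrM ℳ) g) =
      Module.finrank (GrLC.deg0 𝒜) (GrLC.comp 𝒜 ℳ g) := rfl

theorem Hcomp_conv_eq_bot (E : GrLC.StarInjRes 𝒜 ℳ) (a : HomogeneousIdeal 𝒜) (i : ℕ) (g : ι)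
    (h : E.Hcomp a i g = ⊥) : (resToAS E).Hcomp (idealToAS 𝒜 a) i g = ⊥ := by
  rw [Submodule.eq_bot_iff]
  intro w hw
  have hw' : convH E a i w ∈ E.Hcomp a i g := hw
  rw [h, Submodule.mem_bot] at hw'
  exact hw'

end Groth.Agent.Lib.Helper20.GrConv
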