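import Mathlib

/-!
# Graded modules: annihilators of homogeneous elements
-/

set_option autoImplicit false
universe u

namespace Groth.Agent.Lib.Helper20.SegGr

variable {k : Type u} [Field k] {R : Type u} [CommRing R] [Algebra k R]
  (𝒜 : ℤ → Submodule k R) [GradedAlgebra 𝒜]
  {M : Type u} [AddCommGroup M] [Module R M] (ℳ : ℤ → AddSubgroup M)
  [DirectSum.Decomposition ℳ] [SetLike.GradedSMul 𝒜 ℳ]

theorem decompose_smul_of_mem {n : ℤ} {a : M} (ha : a ∈ ℳ n) (r : R) (i : ℤ) :
    (DirectSum.decompose ℳ (r • a) (i + n) : M) = (DirectSum.decompose 𝒜 r i : R) • a := by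
  classical
  induction r using DirectSum.Decomposition.inductionOn 𝒜 with
  | zero => simp
  | add r r' hr hr' =>
    rw [add_smul, DirectSum.decompose_add, DirectSum.add_apply, AddSubgroup.coe_add, hr, hr',
      DirectSum.decompose_add, DirectSum.add_apply, Submodule.coe_add, add_smul]
  | homogeneous r =>
    rename_i j
    have hmem : (r : R) • a ∈ ℳ (j + n) := SetLike.GradedSMul.smul_mem r.2 ha
    by_cases hji : j = i
    · subst hji
      rw [DirectSum.decompose_of_mem_same ℳ hmem, DirectSum.decompose_of_mem_same 𝒜 r.2]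
    · rw [DirectSum.decompose_of_mem_ne ℳ hmem (by omega),
        DirectSum.decompose_of_mem_ne 𝒜 r.2 hji, zero_smul]

theorem ker_toSpanSingleton_isHomogeneous {n : ℤ} {a : M} (ha : a ∈ ℳ n) :
    Ideal.IsHomogeneous 𝒜 (LinearMap.ker (LinearMap.toSpanSingleton R M a)) := by
  intro i r hr
  rw [LinearMap.mem_ker, LinearMap.toSpanSingleton_apply] at hr ⊢
  rw [← decompose_smul_of_mem 𝒜 ℳ ha r i, hr, DirectSum.decompose_zero]
  rfl

include ℳ in
theorem annihilator_isHomogeneous : Ideal.IsHomogeneous 𝒜 (Module.annihilator R M) := by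
  intro i r hr
  rw [Module.mem_annihilator] at hr ⊢
  intro m
  induction m using DirectSum.Decomposition.inductionOn ℳ with
  | zero => simp
  | add m m' hm hm' => rw [smul_add, hm, hm', add_zero]
  | homogeneous m =>
    rename_i n
    rw [← decompose_smul_of_mem 𝒜 ℳ m.2 r i, hr, DirectSum.decompose_zero]
    rfl

/-- A prime containing the annihilator of a finite graded module contains the annihilator of a
homogeneous element. -/
theorem exists_homogeneous_ker_le [Module.Finite R M] (𝔭 : Ideal R) [h𝔭 : 𝔭.IsPrime]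
    (h : Module.annihilator R M ≤ 𝔭) :
    ∃ (n : ℤ) (a : M), a ∈ ℳ n ∧ LinearMap.ker (LinearMap.toSpanSingleton R M a) ≤ 𝔭 := by
  classical
  have hsupp : (⟨𝔭, h𝔭⟩ : PrimeSpectrum R) ∈ Module.support R M :=
    Module.mem_support_iff_of_finite.2 h
  have hspan : Submodule.span R {a : M | ∃ n : ℤ, a ∈ ℳ n} = ⊤ := by
    rw [eq_top_iff]
    intro m _
    rw [← DirectSum.sum_support_decompose ℳ m]
    exact Submodule.sum_mem _ fun i _ => Submodule.subset_span ⟨i, SetLike.coe_mem _⟩
  obtain ⟨a, ⟨n, ha⟩, hle⟩ := (Module.mem_support_iff_of_span_eq_top hspan).1 hsupp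
  refine ⟨n, a, ha, ?_⟩
  rw [← Submodule.annihilator_span_singleton]
  exact hle

section std

variable (hposR : ∀ n : ℤ, n < 0 → 𝒜 n = ⊥) (h0R : 𝒜 0 = Submodule.span k {(1 : R)})

include hposR h0R in
/-- Every element of `R` is a scalar modulo an ideal containing all elements of positive degree. -/
theorem exists_sub_mem (𝔭 : Ideal R) (hno : ∀ d : ℤ, 0 < d → ∀ x ∈ 𝒜 d, x ∈ 𝔭) (a : R) :
    ∃ l : k, a - algebraMap k R l ∈ 𝔭 := by
  have key : ∀ (i : ℤ) (a : R), a ∈ 𝒜 i → ∃ l : k, a - algebraMap k R l ∈ 𝔭 := by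
    intro i a h
    rcases lt_trichotomy i 0 with hi | hi | hi
    · rw [hposR i hi, Submodule.mem_bot] at h
      exact ⟨0, by simp [h]⟩
    · subst hi
      rw [h0R, Submodule.mem_span_singleton] at h
      obtain ⟨l, hl⟩ := h
      refine ⟨l, ?_⟩
      rw [← hl, Algebra.algebraMap_eq_smul_one, sub_self]
      exact 𝔭.zero_mem
    · refine ⟨0, ?_⟩
      rw [map_zero, sub_zero]
      exact hno i hi _ h
  induction a using DirectSum.Decomposition.inductionOn 𝒜 with
  | zero => exact ⟨0, by simp⟩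
  | add a a' ha ha' =>
    obtain ⟨l, hl⟩ := ha
    obtain ⟨l', hl'⟩ := ha'
    refine ⟨l + l', ?_⟩
    have : a + a' - algebraMap k R (l + l') = (a - algebraMap k R l) + (a' - algebraMap k R l') := by
      rw [map_add]; ring
    rw [this]
    exact 𝔭.add_mem hl hl'
  | homogeneous a => exact key _ _ a.2

include hposR h0R in
/-- If a prime contains all elements of positive degree, its quotient has dimension `≤ 0`. -/
theorem dim_quotient_le_zero (𝔭 : Ideal R) (hno : ∀ d : ℤ, 0 < d → ∀ x ∈ 𝒜 d, x ∈ 𝔭) :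
    ringKrullDim (R ⧸ 𝔭) ≤ 0 := by
  have hsurj : Function.Surjective (algebraMap k (R ⧸ 𝔭)) := by
    intro z
    obtain ⟨a, rfl⟩ := Ideal.Quotient.mk_surjective z
    obtain ⟨l, hl⟩ := exists_sub_mem 𝒜 hposR h0R 𝔭 hno a
    refine ⟨l, ?_⟩
    rw [IsScalarTower.algebraMap_apply k R (R ⧸ 𝔭), Ideal.Quotient.algebraMap_eq, eq_comm,
      ← sub_eq_zero, ← map_sub, Ideal.Quotient.eq_zero_iff_mem]
    exact hl
  have := ringKrullDim_le_of_surjective (algebraMap k (R ⧸ 𝔭)) hsurj
  rwa [ringKrullDim_eq_zero_of_field] at this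

include hposR h0R in
/-- In a standard graded ring, a prime with quotient of positive dimension misses an element of
degree one. -/
theorem exists_deg_one_notMem
    (hstd : Ideal.span (⋃ n ∈ Set.Ioi (0 : ℤ), (𝒜 n : Set R)) =
      Ideal.span ((𝒜 1 : Submodule k R) : Set R)) (𝔭 : Ideal R)
    (hdim : ¬ ringKrullDim (R ⧸ 𝔭) ≤ 0) : ∃ x ∈ 𝒜 1, x ∉ 𝔭 := by
  by_contra hno
  push Not at hno
  apply hdim
  apply dim_quotient_le_zero 𝒜 hposR h0R
  intro d hd x hx
  have h1 : Ideal.span ((𝒜 1 : Submodule k R) : Set R) ≤ 𝔭 := Ideal.span_le.2 hno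
  apply h1
  rw [← hstd]
  apply Ideal.subset_span
  rw [Set.mem_iUnion₂]
  exact ⟨d, hd, hx⟩

end std

end Groth.Agent.Lib.Helper20.SegGr
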