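import Mathlib
import Groth.Prelude.Def_CAlg
import Groth.Agent.Lib.Helper20.SegQuot
import Groth.Agent.Lib.Helper20.SegGr
import Groth.Agent.Lib.Helper21.DepthKit10
import Groth.Agent.Lib.Helper21.DepthKit3
import Groth.Agent.Lib.helper11.DimChain

/-!
# Unmixedness of graded modules that are locally Cohen–Macaulay
-/

set_option autoImplicit false
set_option linter.unusedSectionVars false
set_option linter.style.haveILetI false
universe u

namespace Groth.Agent.Lib.Helper20.SegUnmixed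

open Groth.Agent.Lib.Helper20.SegQuot Groth.Agent.Lib.Helper20.SegGr
  Groth.Agent.Lib.Helper21.GrAddSub Groth.Agent.Lib.Helper20.HilbMono

variable {k : Type u} [Field k] {R : Type u} [CommRing R] [Algebra k R]
  (𝒜 : ℤ → Submodule k R) [GradedAlgebra 𝒜]
  {M : Type u} [AddCommGroup M] [Module R M] (ℳ : ℤ → AddSubgroup M)
  [DirectSum.Decomposition ℳ] [SetLike.GradedSMul 𝒜 ℳ]

/-- Over a Noetherian graded ring, above the annihilator of a nonzero homogeneous element there is
a homogeneous prime which is the annihilator of a (homogeneous) element. -/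
theorem exists_homogeneous_prime_ker [IsNoetherianRing R] {n : ℤ} {a : M} (ha : a ∈ ℳ n)
    (ha0 : a ≠ 0) :
    ∃ (𝔭 : Ideal R) (m₀ : M), 𝔭.IsPrime ∧ 𝔭.IsHomogeneous 𝒜 ∧
      𝔭 = LinearMap.ker (LinearMap.toSpanSingleton R M m₀) ∧
      LinearMap.ker (LinearMap.toSpanSingleton R M a) ≤ 𝔭 := by
  classical
  let 𝒮 : Set (Ideal R) := {J | ∃ (j : ℤ) (r : R), r ∈ 𝒜 j ∧ r • a ≠ 0 ∧
    J = LinearMap.ker (LinearMap.toSpanSingleton R M (r • a))}
  have hne : 𝒮.Nonempty := ⟨_, 0, 1, SetLike.GradedOne.one_mem, by rwa [one_smul], rfl⟩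
  obtain ⟨𝔭, ⟨j, r₀, hr₀, hr₀a, rfl⟩, hmax⟩ :=
    (set_has_maximal_iff_noetherian (R := R) (M := R)).2 inferInstance 𝒮 hne
  set m₀ := r₀ • a with hm₀
  have hm₀mem : m₀ ∈ ℳ (j + n) := SetLike.GradedSMul.smul_mem (A := 𝒜) (B := ℳ) hr₀ ha
  have hhom : (LinearMap.ker (LinearMap.toSpanSingleton R M m₀)).IsHomogeneous 𝒜 :=
    ker_toSpanSingleton_isHomogeneous 𝒜 ℳ hm₀mem
  refine ⟨_, m₀, ?_, hhom, rfl, ?_⟩
  · refine Ideal.IsHomogeneous.isPrime_of_homogeneous_mem_or_mem hhom ?_ ?_
    · intro h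
      have : (1 : R) ∈ LinearMap.ker (LinearMap.toSpanSingleton R M m₀) := by rw [h]; trivial
      rw [LinearMap.mem_ker, LinearMap.toSpanSingleton_apply, one_smul] at this
      exact hr₀a this
    · rintro x y ⟨i, hx⟩ ⟨i', hy⟩ hxy
      by_cases hy0 : y • m₀ = 0
      · right
        rw [LinearMap.mem_ker, LinearMap.toSpanSingleton_apply]
        exact hy0
      · left
        have hyr : (y * r₀) • a ≠ 0 := by rwa [mul_smul]
        have hmem : LinearMap.ker (LinearMap.toSpanSingleton R M ((y * r₀) • a)) ∈ 𝒮 :=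
          ⟨i' + j, y * r₀, SetLike.GradedMul.mul_mem hy hr₀, hyr, rfl⟩
        have hle : LinearMap.ker (LinearMap.toSpanSingleton R M m₀) ≤
            LinearMap.ker (LinearMap.toSpanSingleton R M ((y * r₀) • a)) := by
          intro z hz
          rw [LinearMap.mem_ker, LinearMap.toSpanSingleton_apply] at hz ⊢
          rw [mul_smul, smul_comm, hz, smul_zero]
        have heq : LinearMap.ker (LinearMap.toSpanSingleton R M m₀) =
            LinearMap.ker (LinearMap.toSpanSingleton R M ((y * r₀) • a)) := by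
          by_contra hne'
          exact hmax _ hmem (lt_of_le_of_ne hle hne')
        rw [heq, LinearMap.mem_ker, LinearMap.toSpanSingleton_apply, mul_smul, ← hm₀,
          ← mul_smul]
        rw [LinearMap.mem_ker, LinearMap.toSpanSingleton_apply] at hxy
        exact hxy
  · intro z hz
    rw [LinearMap.mem_ker, LinearMap.toSpanSingleton_apply] at hz ⊢
    rw [hm₀, smul_comm, hz, smul_zero]


section irr

variable (hposR : ∀ n : ℤ, n < 0 → 𝒜 n = ⊥) (h0R : 𝒜 0 = Submodule.span k {(1 : R)})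

include h0R in
theorem isField_deg0 [Nontrivial R] : IsField (GrLC.deg0 (toAddSub 𝒜)) := by
  refine ⟨⟨0, 1, fun h => ?_⟩, fun a b => mul_comm a b, ?_⟩
  · have : ((0 : GrLC.deg0 (toAddSub 𝒜)) : R) = ((1 : GrLC.deg0 (toAddSub 𝒜)) : R) :=
      congrArg Subtype.val h
    exact zero_ne_one this
  · rintro ⟨x, hx⟩ hane
    have hx' : x ∈ 𝒜 0 := hx
    rw [h0R, Submodule.mem_span_singleton] at hx'
    obtain ⟨l, rfl⟩ := hx'
    have hl : l ≠ 0 := by
      rintro rfl
      apply hane
      apply Subtype.ext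
      change (0 : k) • (1 : R) = 0
      rw [zero_smul]
    refine ⟨⟨l⁻¹ • (1 : R), ?_⟩, ?_⟩
    · change l⁻¹ • (1 : R) ∈ 𝒜 0
      rw [h0R]
      exact Submodule.smul_mem _ _ (Submodule.subset_span rfl)
    · apply Subtype.ext
      change (l • (1 : R)) * (l⁻¹ • (1 : R)) = 1
      rw [smul_mul_smul_comm, mul_one, mul_inv_cancel₀ hl, one_smul]

include hposR h0R in
theorem isMaximal_irrIdeal [Nontrivial R] : (irrIdeal 𝒜).IsMaximal := by
  have hpos' : ∀ n : ℤ, n < 0 → toAddSub 𝒜 n = ⊥ := by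
    intro n hn
    rw [eq_bot_iff]
    intro x hx
    have hx' : x ∈ 𝒜 n := hx
    rw [hposR n hn] at hx'
    exact hx'
  exact isMaximal_irr (toAddSub 𝒜) hpos' (isField_deg0 𝒜 h0R)

end irr


section loc

open Groth.Agent.Lib.Helper21.DepthKit

/-- the dimension of a localization of a quotient is at most that of the quotient -/
theorem dim_localization_quotient_le (𝔪 : Ideal R) [𝔪.IsPrime] (𝔭 : Ideal R) :
    ringKrullDim (Localization.AtPrime 𝔪 ⧸ 𝔭.map (algebraMap R (Localization.AtPrime 𝔪))) ≤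
      ringKrullDim (R ⧸ 𝔭) := by
  rw [ringKrullDim_quotient, ringKrullDim_quotient]
  refine Order.krullDim_le_of_strictMono
    (fun q => ⟨PrimeSpectrum.comap (algebraMap R (Localization.AtPrime 𝔪)) q.1, ?_⟩) ?_
  · have hq := q.2
    rw [PrimeSpectrum.mem_zeroLocus] at hq ⊢
    exact Ideal.map_le_iff_le_comap.1 hq
  · intro q₁ q₂ h
    refine lt_of_le_of_ne (Ideal.comap_mono (le_of_lt h)) fun heq => ?_
    have h' : q₁.1 = q₂.1 :=
      PrimeSpectrum.localization_comap_injective (Localization.AtPrime 𝔪) 𝔪.primeCompl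
        (congrArg Subtype.val heq)
    exact (ne_of_lt h) (Subtype.ext h')

/-- a chain of primes in the support of `M` below the prime `𝔪` bounds `dim M_𝔪` from below -/
theorem le_supportDim_localization [Module.Finite R M] (𝔪 : Ideal R) [𝔪.IsPrime]
    (l : LTSeries (PrimeSpectrum R))
    (hl : ∀ i, Module.annihilator R M ≤ (l i).asIdeal ∧ (l i).asIdeal ≤ 𝔪) :
    (l.length : WithBot ℕ∞) ≤
      Module.supportDim (Localization.AtPrime 𝔪) (LocalizedModule 𝔪.primeCompl M) := by
  classical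
  have hdisj : ∀ i, Disjoint (𝔪.primeCompl : Set R) ((l i).asIdeal : Set R) := by
    intro i
    rw [Set.disjoint_left]
    intro x hx hxl
    exact hx ((hl i).2 hxl)
  have hprime : ∀ i, ((l i).asIdeal.map (algebraMap R (Localization.AtPrime 𝔪))).IsPrime :=
    fun i => IsLocalization.isPrime_of_isPrime_disjoint 𝔪.primeCompl _ _ (l i).isPrime (hdisj i)
  have hcomap : ∀ i, ((l i).asIdeal.map (algebraMap R (Localization.AtPrime 𝔪))).comap
      (algebraMap R (Localization.AtPrime 𝔪)) = (l i).asIdeal :=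
    fun i => IsLocalization.comap_map_of_isPrime_disjoint 𝔪.primeCompl _ (l i).isPrime (hdisj i)
  have hmem : ∀ i, (⟨_, hprime i⟩ : PrimeSpectrum (Localization.AtPrime 𝔪)) ∈
      Module.support (Localization.AtPrime 𝔪) (LocalizedModule 𝔪.primeCompl M) := by
    intro i
    rw [support_localization, Set.mem_preimage]
    have : PrimeSpectrum.comap (algebraMap R (Localization.AtPrime 𝔪)) ⟨_, hprime i⟩ = l i :=
      PrimeSpectrum.ext (hcomap i)
    rw [this, Module.mem_support_iff_of_finite]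
    exact (hl i).1
  let L : LTSeries (Module.support (Localization.AtPrime 𝔪) (LocalizedModule 𝔪.primeCompl M)) :=
    { length := l.length
      toFun := fun i => ⟨⟨_, hprime i⟩, hmem i⟩
      step := by
        intro i
        have hlt : l i.castSucc < l i.succ := l.step i
        refine lt_of_le_of_ne (Ideal.map_mono (le_of_lt hlt)) fun heq => ?_
        have h1 : (l i.castSucc).asIdeal = (l i.succ).asIdeal := by
          rw [← hcomap i.castSucc, ← hcomap i.succ]
          exact congrArg (Ideal.comap (algebraMap R (Localization.AtPrime 𝔪))) heq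
        exact (ne_of_lt hlt) (PrimeSpectrum.ext h1) }
  exact Order.LTSeries.length_le_krullDim L

end loc


section main

open Groth.Agent.Lib.Helper21.DepthKit

variable (hposR : ∀ n : ℤ, n < 0 → 𝒜 n = ⊥) (h0R : 𝒜 0 = Submodule.span k {(1 : R)})

include hposR h0R in
/-- **Unmixedness.**  In a finite graded module all of whose localizations are zero or
Cohen–Macaulay, the annihilator of a nonzero homogeneous element has the dimension of the module. -/
theorem dim_quotient_ker_eq_of_cm [IsNoetherianRing R] [Module.Finite R M]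
    (hMcm : ∀ (q : Ideal R) [q.IsPrime], Subsingleton (LocalizedModule q.primeCompl M) ∨
      LocCoh.IsCohenMacaulayModule (Localization.AtPrime q) (LocalizedModule q.primeCompl M))
    (d : ℕ) (hd : Module.supportDim R M = d) {n : ℤ} {a : M} (ha : a ∈ ℳ n) (ha0 : a ≠ 0) :
    ringKrullDim (R ⧸ LinearMap.ker (LinearMap.toSpanSingleton R M a)) = d := by
  classical
  haveI : Nontrivial R := by
    by_contra h
    rw [not_nontrivial_iff_subsingleton] at h
    apply ha0
    rw [← one_smul R a, Subsingleton.elim (1 : R) 0, zero_smul]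
  obtain ⟨𝔭, m₀, h𝔭p, h𝔭h, h𝔭eq, hle⟩ := exists_homogeneous_prime_ker 𝒜 ℳ ha ha0
  haveI := h𝔭p
  have h𝔭𝔪 : 𝔭 ≤ irrIdeal 𝒜 := le_irrIdeal 𝒜 𝔭 h𝔭h hposR h0R h𝔭p.ne_top
  haveI hmax : (irrIdeal 𝒜).IsMaximal := isMaximal_irrIdeal 𝒜 hposR h0R
  haveI hprime : (irrIdeal 𝒜).IsPrime := hmax.isPrime
  have hass : 𝔭 ∈ associatedPrimes R M := by
    refine (isAssociatedPrime_iff).2 ⟨h𝔭p, m₀, ?_⟩
    rw [h𝔭eq]
    ext x
    rw [LinearMap.mem_ker, LinearMap.toSpanSingleton_apply, Submodule.mem_colon_singleton,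
      Submodule.mem_bot]
  have hsupp𝔭 : (⟨𝔭, h𝔭p⟩ : PrimeSpectrum R) ∈ Module.support R M :=
    mem_support_of_mem_associatedPrimes hass
  have hsupp𝔪 : (⟨irrIdeal 𝒜, hprime⟩ : PrimeSpectrum R) ∈ Module.support R M :=
    Module.mem_support_mono (p := ⟨𝔭, h𝔭p⟩) (q := ⟨irrIdeal 𝒜, hprime⟩) h𝔭𝔪 hsupp𝔭
  have hCM : LocCoh.IsCohenMacaulayModule (Localization.AtPrime (irrIdeal 𝒜))
      (LocalizedModule (irrIdeal 𝒜).primeCompl M) := by
    rcases hMcm (irrIdeal 𝒜) with hsub | hCM
    · rw [Module.mem_support_iff] at hsupp𝔪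
      exact absurd hsub (not_subsingleton_iff_nontrivial.2 hsupp𝔪)
    · exact hCM
  have hdisj : Disjoint ((irrIdeal 𝒜).primeCompl : Set R) (𝔭 : Set R) := by
    rw [Set.disjoint_left]
    intro x hx hx𝔭
    exact hx (h𝔭𝔪 hx𝔭)
  set A := Localization.AtPrime (irrIdeal 𝒜) with hA
  set 𝔭' : Ideal A := 𝔭.map (algebraMap R A) with h𝔭'
  have hcomap : 𝔭'.comap (algebraMap R A) = 𝔭 :=
    IsLocalization.comap_map_of_isPrime_disjoint (irrIdeal 𝒜).primeCompl A h𝔭p hdisj
  have hass' : 𝔭' ∈ associatedPrimes A (LocalizedModule (irrIdeal 𝒜).primeCompl M) := by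
    apply Module.associatedPrimes.mem_associatedPrimes_of_comap_mem_associatedPrimes_of_isLocalizedModule
      (irrIdeal 𝒜).primeCompl (LocalizedModule.mkLinearMap (irrIdeal 𝒜).primeCompl M) 𝔭'
    rw [hcomap]
    exact hass
  have h1 : ringKrullDim (A ⧸ 𝔭') =
      Module.supportDim A (LocalizedModule (irrIdeal 𝒜).primeCompl M) :=
    ringKrullDim_quotient_eq_supportDim_of_isCM hCM hass'
  have h2 : ringKrullDim (A ⧸ 𝔭') ≤ ringKrullDim (R ⧸ 𝔭) :=
    dim_localization_quotient_le (irrIdeal 𝒜) 𝔭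
  have hd' : ringKrullDim (R ⧸ Module.annihilator R M) = d := by
    rw [← Module.supportDim_eq_ringKrullDim_quotient_annihilator, hd]
  obtain ⟨l, hlen, hl⟩ := exists_chain 𝒜 (Module.annihilator R M)
    (annihilator_isHomogeneous 𝒜 ℳ) hposR h0R d hd'
  have h3 := le_supportDim_localization (M := M) (irrIdeal 𝒜) l hl
  rw [hlen] at h3
  apply le_antisymm
  · rw [← hd']
    apply helper11.DimChain.ringKrullDim_quotient_mono
    intro r hr
    rw [LinearMap.mem_ker, LinearMap.toSpanSingleton_apply]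
    exact Module.mem_annihilator.1 hr a
  · calc (d : WithBot ℕ∞) ≤ Module.supportDim A (LocalizedModule (irrIdeal 𝒜).primeCompl M) := h3
      _ = ringKrullDim (A ⧸ 𝔭') := h1.symm
      _ ≤ ringKrullDim (R ⧸ 𝔭) := h2
      _ ≤ ringKrullDim (R ⧸ LinearMap.ker (LinearMap.toSpanSingleton R M a)) :=
        helper11.DimChain.ringKrullDim_quotient_mono hle

end main

end Groth.Agent.Lib.Helper20.SegUnmixed
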