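import Mathlib
import Groth.Agent.Lib.Helper20.SegCM1
import Groth.Agent.Lib.Helper20.SegUnmixed
import Groth.Agent.Lib.Helper20.SegConv
import Groth.Agent.Lib.Helper20.GrKit5
import Groth.Agent.Lib.Helper20.GrLES7
import Groth.Agent.Lib.Helper21.PolyDepth
import Groth.Agent.Lib.Helper21.DepthKit7
import Groth.Agent.Lib.Helper2.HZDepth1

/-!
# The local cohomology criterion for Cohen–Macaulayness of a graded module over a graded ring
defined over a field
-/

set_option autoImplicit false
set_option linter.unusedSectionVars false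
set_option linter.unusedVariables false
set_option linter.style.haveILetI false

universe u

namespace Groth.Agent.Lib.Helper20.SegCM

open Groth.Agent.Lib.Helper21 Groth.Agent.Lib.Helper21.DepthKit
  Groth.Agent.Lib.Helper20.SegQuot Groth.Agent.Lib.Helper20.SegUnmixed
  Groth.Agent.Lib.Helper20.GrConv Groth.Agent.Lib.Helper20.GrKit

section Crit

variable {k : Type u} [Field k] {R : Type u} [CommRing R] [Algebra k R]
  (𝒜 : ℤ → Submodule k R) [GradedAlgebra 𝒜] [IsNoetherianRing R]
  (hposR : ∀ n : ℤ, n < 0 → 𝒜 n = ⊥) (h0R : 𝒜 0 = Submodule.span k {(1 : R)})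
  {M : Type u} [AddCommGroup M] [Module R M] [Module.Finite R M]
  {τ : Type u} [SetLike τ M] [AddSubgroupClass τ M]
  (ℳ : ℤ → τ) [DirectSum.Decomposition ℳ] [SetLike.GradedSMul 𝒜 ℳ]

include hposR h0R in
theorem mem_irrIdeal_of_not_isUnit (n : ℤ) (y : R) (hy : y ∈ 𝒜 n) (hu : ¬ IsUnit y) :
    y ∈ irrIdeal 𝒜 := by
  rcases lt_trichotomy n 0 with hn | hn | hn
  · rw [hposR n hn, Submodule.mem_bot] at hy
    rw [hy]
    exact zero_mem _
  · subst hn
    rw [h0R, Submodule.mem_span_singleton] at hy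
    obtain ⟨c, rfl⟩ := hy
    by_cases hc : c = 0
    · rw [hc, zero_smul]
      exact zero_mem _
    · exfalso
      apply hu
      rw [← Algebra.algebraMap_eq_smul_one]
      exact (IsUnit.mk0 c hc).map (algebraMap k R)
  · exact Ideal.subset_span (Set.mem_iUnion₂.2 ⟨n, hn, hy⟩)

variable [Nontrivial R]

include hposR h0R ℳ in
/-- the dimension of a finite graded module is attained at the vertex -/
theorem supportDim_vertex (d : ℕ) (hd : Module.supportDim R M = d) :
    haveI := (isMaximal_irrIdeal 𝒜 hposR h0R).isPrime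
    Module.supportDim (Localization.AtPrime (irrIdeal 𝒜))
      (LocalizedModule (irrIdeal 𝒜).primeCompl M) = d := by
  haveI := (isMaximal_irrIdeal 𝒜 hposR h0R).isPrime
  apply le_antisymm
  · rw [← hd]
    exact supportDim_localization_le (irrIdeal 𝒜)
  · have hd' : ringKrullDim (R ⧸ Module.annihilator R M) = d := by
      rw [← Module.supportDim_eq_ringKrullDim_quotient_annihilator, hd]
    obtain ⟨l, hlen, hl⟩ := exists_chain 𝒜 (Module.annihilator R M)
      (annihilator_isHomogeneous 𝒜 ℳ) hposR h0R d hd'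
    have h3 := le_supportDim_localization (M := M) (irrIdeal 𝒜) l hl
    rw [hlen] at h3
    exact h3

include hposR h0R ℳ in
theorem cm_iff_idealDepth (d : ℕ) (hd : Module.supportDim R M = d) :
    (∀ (q : Ideal R) [q.IsPrime], Subsingleton (LocalizedModule q.primeCompl M) ∨
      LocCoh.IsCohenMacaulayModule (Localization.AtPrime q) (LocalizedModule q.primeCompl M)) ↔
      LocCoh.idealDepth (irrIdeal 𝒜) M = d := by
  haveI hmax := isMaximal_irrIdeal 𝒜 hposR h0R
  haveI hprime := hmax.isPrime
  have hdim := supportDim_vertex 𝒜 hposR h0R ℳ d hd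
  have hdepth := PolyDepth.idealDepth_eq_depth_of_isMaximal (M := M) (irrIdeal 𝒜)
  have hnt : Nontrivial (LocalizedModule (irrIdeal 𝒜).primeCompl M) := by
    by_contra h
    rw [not_nontrivial_iff_subsingleton] at h
    rw [Module.supportDim_eq_bot_of_subsingleton] at hdim
    exact absurd hdim (by simp)
  constructor
  · intro h
    rcases h (irrIdeal 𝒜) with hsub | hcm
    · exact absurd hsub (not_subsingleton_iff_nontrivial.2 hnt)
    · unfold LocCoh.IsCohenMacaulayModule at hcm
      rw [hdim, ← hdepth] at hcm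
      have : ((d : ℕ∞) : WithBot ℕ∞) = ((LocCoh.idealDepth (irrIdeal 𝒜) M : ℕ∞) : WithBot ℕ∞) := by
        exact_mod_cast hcm
      exact (WithBot.coe_injective this).symm
  · intro h q hq
    apply cm_all_of_vertex 𝒜 ℳ (irrIdeal 𝒜) (mem_irrIdeal_of_not_isUnit 𝒜 hposR h0R)
    unfold LocCoh.IsCohenMacaulayModule
    rw [hdim, ← hdepth, h]
    rfl

include hposR h0R ℳ in
theorem idealDepth_eq_iff_vanishing (d : ℕ) (hd : Module.supportDim R M = d) :
    LocCoh.idealDepth (irrIdeal 𝒜) M = d ↔
      ∀ i : ℕ, i < d → Subsingleton (LocCoh.H (irrIdeal 𝒜) i M) := by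
  haveI hmax := isMaximal_irrIdeal 𝒜 hposR h0R
  haveI hprime := hmax.isPrime
  have hdim := supportDim_vertex 𝒜 hposR h0R ℳ d hd
  have hnt : Nontrivial (LocalizedModule (irrIdeal 𝒜).primeCompl M) := by
    by_contra h
    rw [not_nontrivial_iff_subsingleton] at h
    rw [Module.supportDim_eq_bot_of_subsingleton] at hdim
    exact absurd hdim (by simp)
  have hle : LocCoh.idealDepth (irrIdeal 𝒜) M ≤ d := by
    have := idealDepth_le_supportDim_localization (M := M) (irrIdeal 𝒜)
      ⟨irrIdeal 𝒜, hprime⟩ le_rfl (Module.mem_support_iff.2 hnt)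
    rw [hdim] at this
    exact_mod_cast this
  rw [← Groth.Agent.Lib.Helper2.HZDepth1.le_idealDepth_iff]
  constructor
  · intro h
    rw [h]
  · intro h
    exact le_antisymm hle h

end Crit

section Bridge

variable {R : Type u} [CommRing R] [IsNoetherianRing R]
  {σ : Type u} [SetLike σ R] [AddSubgroupClass σ R] {𝒜 : ℤ → σ} [GradedRing 𝒜]
  {M : Type u} [AddCommGroup M] [Module R M] {τ : Type u} [SetLike τ M] [AddSubgroupClass τ M]
  {ℳ : ℤ → τ} [DirectSum.Decomposition ℳ] [SetLike.GradedSMul 𝒜 ℳ]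

theorem subsingleton_H_iff (E : GrLC.StarInjRes 𝒜 ℳ) (a : HomogeneousIdeal 𝒜) (i : ℕ) :
    Subsingleton (E.H a i) ↔ ∀ n : ℤ, E.Hcomp a i n = ⊥ := by
  constructor
  · intro h n
    rw [Submodule.eq_bot_iff]
    intro x _
    exact Subsingleton.elim _ _
  · intro h
    have hint := Groth.Agent.Lib.Helper20.GrLES.Hgr_isInternal (resToAS E) (idealToAS 𝒜 a) i
    have hbot : ∀ n, (resToAS E).Hgr (idealToAS 𝒜 a) i n = ⊥ := by
      intro n
      have := Hcomp_conv_eq_bot E a i n (h n)
      rw [AddSubgroup.eq_bot_iff_forall]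
      intro w hw
      have hw' : w ∈ (resToAS E).Hcomp (idealToAS 𝒜 a) i n := hw
      rw [this, Submodule.mem_bot] at hw'
      exact hw'
    have key : ∀ x : (resToAS E).H (idealToAS 𝒜 a) i, x = 0 := by
      intro x
      obtain ⟨f, rfl⟩ := hint.2 x
      have hf : f = 0 := by
        ext n
        have h0 : ∀ w : (resToAS E).H (idealToAS 𝒜 a) i,
            w ∈ (resToAS E).Hgr (idealToAS 𝒜 a) i n → w = 0 := by
          intro w hw
          rw [hbot n, AddSubgroup.mem_bot] at hw
          exact hw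
        rw [h0 _ (f n).2]
        rfl
      rw [hf, map_zero]
    exact ⟨fun x y => (key x).trans (key y).symm⟩

theorem subsingleton_LC_iff (E : GrLC.StarInjRes 𝒜 ℳ) (a : HomogeneousIdeal 𝒜) (i : ℕ) :
    Subsingleton (LocCoh.H a.toIdeal i M) ↔ ∀ n : ℤ, E.Hcomp a i n = ⊥ := by
  rw [← subsingleton_H_iff]
  obtain ⟨e⟩ := bridge_starInjRes (resToAS E) (idealToAS 𝒜 a) i
  constructor
  · intro h
    exact (show E.H a i ≃ LocCoh.H a.toIdeal i M from e.toEquiv).subsingleton
  · intro h
    exact (show E.H a i ≃ LocCoh.H a.toIdeal i M from e.toEquiv).symm.subsingleton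

end Bridge

end Groth.Agent.Lib.Helper20.SegCM
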