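import Mathlib
import Groth.Agent.Lib.Helper20.SegCM2
import Groth.Agent.Lib.helper11.LCVanish
import Groth.Prelude.Def_GrSeg
import Groth.Agent.Lib.Helper20.GrFin3
import Groth.Agent.Lib.Helper20.GrArt2

/-!
# Graded local cohomology of locally Cohen–Macaulay graded modules
-/

set_option autoImplicit false
set_option linter.unusedSectionVars false
set_option linter.unusedVariables false
set_option linter.style.haveILetI false

universe u

namespace Groth.Agent.Lib.Helper20.SegCM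

open Groth.Agent.Lib.Helper21 Groth.Agent.Lib.Helper21.DepthKit
  Groth.Agent.Lib.Helper20.SegQuot Groth.Agent.Lib.Helper20.SegUnmixed
  Groth.Agent.Lib.Helper20.GrConv Groth.Agent.Lib.Helper20.GrKit

section CM

variable {k : Type u} [Field k] {R : Type u} [CommRing R] [Algebra k R]
  (𝒜 : ℤ → Submodule k R) [GradedAlgebra 𝒜] [IsNoetherianRing R] [Nontrivial R]
  (hposR : ∀ n : ℤ, n < 0 → 𝒜 n = ⊥) (h0R : 𝒜 0 = Submodule.span k {(1 : R)})
  (mR : HomogeneousIdeal 𝒜)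
  (hmR : mR.toIdeal = Ideal.span (⋃ n ∈ Set.Ioi (0 : ℤ), (𝒜 n : Set R)))
  {M : Type u} [AddCommGroup M] [Module R M] [Module.Finite R M]
  {τ : Type u} [SetLike τ M] [AddSubgroupClass τ M]
  (ℳ : ℤ → τ) [DirectSum.Decomposition ℳ] [SetLike.GradedSMul 𝒜 ℳ]
  (E : GrLC.StarInjRes 𝒜 ℳ)

include hposR h0R hmR in
/-- **Criterion**: a finite graded module of dimension `d` is locally Cohen–Macaulay iff its graded
local cohomology vanishes below `d`. -/
theorem cm_iff_Hcomp (d : ℕ) (hd : Module.supportDim R M = d) :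
    (∀ (q : Ideal R) [q.IsPrime], Subsingleton (LocalizedModule q.primeCompl M) ∨
      LocCoh.IsCohenMacaulayModule (Localization.AtPrime q) (LocalizedModule q.primeCompl M)) ↔
      ∀ i : ℕ, i < d → ∀ n : ℤ, E.Hcomp mR i n = ⊥ := by
  have hm : mR.toIdeal = irrIdeal 𝒜 := hmR
  rw [cm_iff_idealDepth 𝒜 hposR h0R ℳ d hd, idealDepth_eq_iff_vanishing 𝒜 hposR h0R ℳ d hd]
  constructor
  · intro h i hi
    rw [← subsingleton_LC_iff E mR i, hm]
    exact h i hi
  · intro h i hi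
    rw [← hm, subsingleton_LC_iff E mR i]
    exact h i hi

include hposR h0R hmR in
/-- the graded local cohomology of a locally Cohen–Macaulay graded module is concentrated in the
cohomological degree `dim M` -/
theorem Hcomp_eq_bot_of_cm (d : ℕ) (hd : Module.supportDim R M = d)
    (hcm : ∀ (q : Ideal R) [q.IsPrime], Subsingleton (LocalizedModule q.primeCompl M) ∨
      LocCoh.IsCohenMacaulayModule (Localization.AtPrime q) (LocalizedModule q.primeCompl M))
    (i : ℕ) (hi : i ≠ d) (n : ℤ) : E.Hcomp mR i n = ⊥ := by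
  rcases lt_or_gt_of_ne hi with hlt | hgt
  · exact (cm_iff_Hcomp 𝒜 hposR h0R mR hmR ℳ E d hd).1 hcm i hlt n
  · have hlt : Module.supportDim R M < (i : WithBot ℕ∞) := by
      rw [hd]
      exact_mod_cast hgt
    haveI := Groth.Agent.Lib.helper11.LCKit.subsingleton_of_supportDim_lt mR.toIdeal i M hlt
    exact (subsingleton_LC_iff E mR i).1 inferInstance n

include h0R in
theorem isField_deg0 : IsField (GrLC.deg0 𝒜) := by
  refine ⟨⟨0, 1, fun h => ?_⟩, fun a b => mul_comm a b, ?_⟩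
  · have : ((0 : GrLC.deg0 𝒜) : R) = ((1 : GrLC.deg0 𝒜) : R) := congrArg Subtype.val h
    exact zero_ne_one this
  · rintro ⟨x, hx⟩ hane
    have hx' : x ∈ 𝒜 0 := hx
    rw [h0R, Submodule.mem_span_singleton] at hx'
    obtain ⟨l, rfl⟩ := hx'
    have hl : l ≠ 0 := by
      rintro rfl
      apply hane
      apply Subtype.ext
      change (0 : k) • (1 : R) = 0
      rw [zero_smul]
    refine ⟨⟨l⁻¹ • (1 : R), ?_⟩, ?_⟩
    · change l⁻¹ • (1 : R) ∈ 𝒜 0
      rw [h0R]
      exact Submodule.smul_mem _ _ (Submodule.subset_span rfl)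
    · apply Subtype.ext
      change (l • (1 : R)) * (l⁻¹ • (1 : R)) = 1
      rw [smul_mul_smul_comm, mul_one, mul_inv_cancel₀ hl, one_smul]

include hmR in
theorem finite_Hcomp (i : ℕ) (n : ℤ) : Module.Finite (GrLC.deg0 𝒜) (E.Hcomp mR i n) :=
  Groth.Agent.Lib.Helper20.GrFin.s13226 (asGr 𝒜) (idealToAS 𝒜 mR) hmR (asGrM ℳ) (resToAS E) i n

theorem finite_comp (n : ℤ) : Module.Finite (GrLC.deg0 𝒜) (GrLC.comp 𝒜 ℳ n) := by
  haveI : IsNoetherian R M := isNoetherian_of_isNoetherianRing_of_finite R M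
  haveI : IsNoetherian (GrLC.deg0 (asGr 𝒜)) (GrLC.comp (asGr 𝒜) (asGrM ℳ) n) :=
    Groth.Agent.Lib.Helper20.GrArt.isNoetherian_comp (asGr 𝒜) (asGrM ℳ) n
  exact (inferInstance : Module.Finite (GrLC.deg0 (asGr 𝒜)) (GrLC.comp (asGr 𝒜) (asGrM ℳ) n))

include h0R hmR in
theorem finrank_Hcomp_eq_zero_iff (i : ℕ) (n : ℤ) :
    Module.finrank (GrLC.deg0 𝒜) (E.Hcomp mR i n) = 0 ↔ E.Hcomp mR i n = ⊥ := by
  haveI := finite_Hcomp 𝒜 mR hmR ℳ E i n
  letI : Field (GrLC.deg0 𝒜) := (isField_deg0 𝒜 h0R).toField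
  exact Submodule.finrank_eq_zero

include h0R in
theorem finrank_comp_eq_zero_iff (n : ℤ) :
    Module.finrank (GrLC.deg0 𝒜) (GrLC.comp 𝒜 ℳ n) = 0 ↔ ∀ x ∈ ℳ n, x = 0 := by
  haveI := finite_comp 𝒜 ℳ n
  letI : Field (GrLC.deg0 𝒜) := (isField_deg0 𝒜 h0R).toField
  rw [Submodule.finrank_eq_zero, Submodule.eq_bot_iff]
  rfl

end CM

end Groth.Agent.Lib.Helper20.SegCM
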