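import Mathlib
import Groth.Agent.Lib.Helper20.GrVK3
import Groth.Agent.Lib.Helper20.GorTop4
import Groth.Agent.Lib.Helper20.GrCanW2
import Groth.Agent.Lib.Helper20.SegCM3
import Groth.Agent.Lib.Helper20.HilbMono1

/-!
# Graded local duality, numerically: `dim (K_R)_i = dim H^n_m(R)_{-i}`
-/

set_option autoImplicit false
set_option linter.unusedSectionVars false
set_option linter.unusedVariables false
set_option linter.style.haveILetI false

namespace Groth.Agent.Lib.Helper20.CanDual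

open DirectSum Groth.Agent.Lib.Helper26.GrProj Groth.Agent.Lib.Helper20.GrKit
  Groth.Agent.Lib.Helper20.GrCanW Groth.Agent.Lib.Helper20.GrVG Groth.Agent.Lib.Helper20.GrVK
  Groth.Agent.Lib.Helper20.GrConv

universe u v

theorem finrank_eq_of_nondeg {k : Type u} {V W T : Type v} [Field k] [AddCommGroup V] [Module k V]
    [AddCommGroup W] [Module k W] [AddCommGroup T] [Module k T] [FiniteDimensional k V]
    (hT : Module.finrank k T = 1)
    (B : V →ₗ[k] W →ₗ[k] T) (hl : ∀ v, (∀ w, B v w = 0) → v = 0)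
    (hr : ∀ w, (∀ v, B v w = 0) → w = 0) : Module.finrank k V = Module.finrank k W := by
  haveI : Module.Finite k T := Module.finite_of_finrank_pos (by rw [hT]; exact one_pos)
  have hBf : Function.Injective B.flip := by
    rw [injective_iff_map_eq_zero]
    intro w hw
    apply hr
    intro v
    have := LinearMap.congr_fun hw v
    simpa using this
  haveI : Module.Finite k W := Module.Finite.of_injective B.flip hBf
  have hB : Function.Injective B := by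
    rw [injective_iff_map_eq_zero]
    intro v hv
    apply hl
    intro w
    rw [hv]
    rfl
  have h1 : Module.finrank k W ≤ Module.finrank k V := by
    have := LinearMap.finrank_le_finrank_of_injective hBf
    rwa [Module.finrank_linearMap, hT, mul_one] at this
  have h2 : Module.finrank k V ≤ Module.finrank k W := by
    have := LinearMap.finrank_le_finrank_of_injective hB
    rwa [Module.finrank_linearMap, hT, mul_one] at this
  exact le_antisymm h2 h1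

section AS

variable {R : Type u} [CommRing R] [IsNoetherianRing R] (𝒜 : ℤ → AddSubgroup R) [GradedRing 𝒜]
  (hpos : ∀ n : ℤ, n < 0 → 𝒜 n = ⊥) (h0 : IsField (GrLC.deg0 𝒜))
  (m : HomogeneousIdeal 𝒜) (hm : GrLC.IsStarLocal 𝒜 m)
  {E' : Type u} [AddCommGroup E'] [Module R E'] (𝓔 : ℤ → AddSubgroup E')
  [DirectSum.Decomposition 𝓔] [SetLike.GradedSMul 𝒜 𝓔] (e : (R ⧸ m.toIdeal) →ₗ[R] E')
  (he : GrLC.IsStarInjHull 𝒜 (GrLC.quotGr 𝒜 m) 𝓔 e)
  {C : Type u} [AddCommGroup C] [Module R C] [Module.Finite R C] (𝒞 : ℤ → AddSubgroup C)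
  [DirectSum.Decomposition 𝒞] [SetLike.GradedSMul 𝒜 𝒞]
  {H : Type u} [AddCommGroup H] [Module R H] (ℋ : ℤ → AddSubgroup H)
  [DirectSum.Decomposition ℋ] [SetLike.GradedSMul 𝒜 ℋ]
  (ψ : (C →ₗ[R] E') ≃ₗ[R] H)
  (hψ : GrLC.IsGrHom (fun d => (GrLC.homDeg 𝒜 𝒞 𝓔 d).toAddSubgroup) ℋ ψ.toLinearMap)

include hpos h0 hm he hψ in
/-- the perfect pairing `C_i × H_{-i} → E_0` gives equal dimensions -/
theorem finrank_comp_eq (i : ℤ) :
    Module.finrank (GrLC.deg0 𝒜) (GrLC.comp 𝒜 𝒞 i) =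
      Module.finrank (GrLC.deg0 𝒜) (GrLC.comp 𝒜 ℋ (-i)) := by
  classical
  letI : Field (GrLC.deg0 𝒜) := h0.toField
  haveI : IsNoetherian R C := isNoetherian_of_isNoetherianRing_of_finite R C
  haveI hN : IsNoetherian (GrLC.deg0 𝒜) (GrLC.comp 𝒜 𝒞 i) :=
    Groth.Agent.Lib.Helper20.GrArt.isNoetherian_comp 𝒜 𝒞 i
  haveI : Module.Finite (GrLC.deg0 𝒜) (GrLC.comp 𝒜 𝒞 i) := inferInstance
  let B : GrLC.comp 𝒜 𝒞 i →ₗ[GrLC.deg0 𝒜] GrLC.comp 𝒜 ℋ (-i) →ₗ[GrLC.deg0 𝒜] GrLC.comp 𝒜 𝓔 0 :=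
    LinearMap.mk₂ (GrLC.deg0 𝒜)
      (fun v w => ⟨(ψ.symm (w : H)) (v : C), pair_mem_zero 𝒜 𝓔 𝒞 ℋ ψ hψ v.2 w.2⟩)
      (fun v v' w => Subtype.ext (map_add (ψ.symm (w : H)) (v : C) (v' : C)))
      (fun r v w => Subtype.ext (map_smul (ψ.symm (w : H)) (r : R) (v : C)))
      (fun v w w' => Subtype.ext (by
        change (ψ.symm ((w : H) + (w' : H))) (v : C) = _
        rw [map_add]
        rfl))
      (fun r v w => Subtype.ext (by
        change (ψ.symm ((r : R) • (w : H))) (v : C) = _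
        rw [map_smul]
        rfl))
  have hl : ∀ v, (∀ w, B v w = 0) → v = 0 := by
    intro v hv
    apply Subtype.ext
    apply nondeg 𝒜 hpos h0 m hm 𝓔 e he 𝒞 ℋ ψ hψ v.2
    intro h hh
    have := congrArg Subtype.val (hv ⟨h, hh⟩)
    exact this
  have hr : ∀ w, (∀ v, B v w = 0) → w = 0 := by
    intro w hw
    apply Subtype.ext
    apply nondeg_right 𝒜 hpos m hm 𝓔 e he 𝒞 ℋ ψ hψ w.2
    intro c hc
    have := congrArg Subtype.val (hw ⟨c, hc⟩)
    exact this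
  exact finrank_eq_of_nondeg (finrank_hull_zero 𝒜 hpos h0 m hm 𝓔 e he) B hl hr

end AS

section Canon

variable {R : Type u} [CommRing R] [IsNoetherianRing R] (𝒜 : ℤ → AddSubgroup R) [GradedRing 𝒜]
  (hpos : ∀ n : ℤ, n < 0 → 𝒜 n = ⊥) (h0 : IsField (GrLC.deg0 𝒜))
  (m : HomogeneousIdeal 𝒜) (hm : GrLC.IsStarLocal 𝒜 m)
  {E' : Type u} [AddCommGroup E'] [Module R E'] (𝓔 : ℤ → AddSubgroup E')
  [DirectSum.Decomposition 𝓔] [SetLike.GradedSMul 𝒜 𝓔] (e : (R ⧸ m.toIdeal) →ₗ[R] E')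
  (he : GrLC.IsStarInjHull 𝒜 (GrLC.quotGr 𝒜 m) 𝓔 e)
  {C : Type u} [AddCommGroup C] [Module R C] (𝒞 : ℤ → AddSubgroup C)
  [DirectSum.Decomposition 𝒞] [SetLike.GradedSMul 𝒜 𝒞]
  (n : ℕ) (I : GrLC.StarInjRes 𝒜 𝒜)

include hpos h0 hm he in
/-- numerical graded local duality for a *canonical module (gradings by additive subgroups) -/
theorem finrank_canonical_AS (hC : GrLC.IsStarCanonical 𝒜 𝒞 𝓔 m n I) (i : ℤ) :
    Module.finrank (GrLC.deg0 𝒜) (GrLC.comp 𝒜 𝒞 i) =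
      Module.finrank (GrLC.deg0 𝒜) (I.Hcomp m n (-i)) := by
  obtain ⟨hfin, ψ, hψ⟩ := hC
  haveI := hfin
  letI := Groth.Agent.Lib.Helper20.GorTop.HgrDecomposition 𝒜 𝒜 I m n
  rw [finrank_comp_eq 𝒜 hpos h0 m hm 𝓔 e he 𝒞 (I.Hgr m n) ψ hψ i]
  rfl

end Canon

end Groth.Agent.Lib.Helper20.CanDual
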