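import Mathlib

/-!
# A Noetherian non-negatively graded algebra with degree-zero part `k` is of finite type
-/

set_option autoImplicit false
universe u

namespace Groth.Agent.Lib.Helper20.SegFT

variable {k : Type u} [CommRing k] {T : Type u} [CommRing T] [Algebra k T]
  (𝒯 : ℤ → Submodule k T) [GradedAlgebra 𝒯]

theorem finiteType_of_noetherian_graded [IsNoetherianRing T] (hneg : ∀ n : ℤ, n < 0 → 𝒯 n = ⊥)
    (h0 : 𝒯 0 = Submodule.span k {(1 : T)}) : Algebra.FiniteType k T := by
  classical
  set U : Set T := ⋃ n ∈ Set.Ioi (0 : ℤ), (𝒯 n : Set T) with hU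
  have hfg : (Ideal.span U).FG := (isNoetherianRing_iff_ideal_fg T).1 inferInstance _
  obtain ⟨G, hGU, hG⟩ := (Submodule.fg_span_iff_fg_span_finset_subset U).1 hfg
  refine ⟨⟨G, ?_⟩⟩
  set A : Subalgebra k T := Algebra.adjoin k (G : Set T) with hA
  -- degrees of the generators
  have hdeg : ∀ g ∈ G, ∃ n : ℤ, 0 < n ∧ g ∈ 𝒯 n := by
    intro g hg
    have := hGU hg
    rw [hU, Set.mem_iUnion₂] at this
    obtain ⟨n, hn, hgn⟩ := this
    exact ⟨n, hn, hgn⟩
  choose! dg hdg using hdeg
  have key : ∀ n : ℕ, ∀ t ∈ 𝒯 (n : ℤ), t ∈ A := by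
    intro n
    induction n using Nat.strong_induction_on with
    | _ n ih =>
      intro t ht
      rcases Nat.eq_zero_or_pos n with rfl | hn
      · rw [Nat.cast_zero, h0, Submodule.mem_span_singleton] at ht
        obtain ⟨c, rfl⟩ := ht
        rw [← Algebra.algebraMap_eq_smul_one]
        exact Subalgebra.algebraMap_mem A c
      · have htU : t ∈ Ideal.span U := Ideal.subset_span (by
          rw [hU, Set.mem_iUnion₂]
          exact ⟨n, by simpa using hn, ht⟩)
        have hspan : Ideal.span U = Ideal.span (G : Set T) := hG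
        rw [hspan] at htU
        obtain ⟨c, hc⟩ := (Submodule.mem_span_finset' (R := T)).1 htU
        have ht' : t = ∑ g : G, (DirectSum.decompose 𝒯 (c g) ((n : ℤ) - dg g) : T) * (g : T) := by
          have h1 : (DirectSum.decompose 𝒯 t (n : ℤ) : T) = t :=
            DirectSum.decompose_of_mem_same 𝒯 ht
          rw [← h1, ← hc, DirectSum.decompose_sum, DFinsupp.finsetSum_apply,
            AddSubmonoidClass.coe_finsetSum]
          refine Finset.sum_congr rfl fun g _ => ?_
          rw [smul_eq_mul]
          have := DirectSum.coe_decompose_mul_add_of_right_mem 𝒯 (i := (n : ℤ) - dg g)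
            (a := c g) (hdg g g.2).2
          rw [sub_add_cancel] at this
          exact this
        rw [ht']
        refine Subalgebra.sum_mem _ fun g _ => ?_
        refine Subalgebra.mul_mem _ ?_ (Algebra.subset_adjoin g.2)
        by_cases hlt : (n : ℤ) - dg g < 0
        · have : (DirectSum.decompose 𝒯 (c g) ((n : ℤ) - dg g) : T) ∈ 𝒯 ((n : ℤ) - dg g) :=
            SetLike.coe_mem _
          have hz : ∀ x ∈ 𝒯 ((n : ℤ) - dg g), x = 0 := fun x hx => by
            rw [hneg _ hlt] at hx
            exact (Submodule.mem_bot k).1 hx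
          have h0' : (DirectSum.decompose 𝒯 (c g) ((n : ℤ) - dg g) : T) = 0 := hz _ this
          rw [h0']
          exact Subalgebra.zero_mem _
        · push Not at hlt
          obtain ⟨m, hm⟩ := Int.eq_ofNat_of_zero_le hlt
          have hmn : m < n := by
            have := (hdg g g.2).1
            omega
          have hmem : (DirectSum.decompose 𝒯 (c g) ((n : ℤ) - dg g) : T) ∈ 𝒯 (m : ℤ) := by
            rw [← hm]
            exact SetLike.coe_mem _
          exact ih m hmn _ hmem
  rw [eq_top_iff]
  intro t _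
  rw [← DirectSum.sum_support_decompose 𝒯 t]
  refine Subalgebra.sum_mem _ fun i _ => ?_
  by_cases hi : i < 0
  · have : (DirectSum.decompose 𝒯 t i : T) ∈ 𝒯 i := SetLike.coe_mem _
    have hz : ∀ x ∈ 𝒯 i, x = 0 := fun x hx => by
      rw [hneg _ hi] at hx
      exact (Submodule.mem_bot k).1 hx
    have h0' : (DirectSum.decompose 𝒯 t i : T) = 0 := hz _ this
    rw [h0']
    exact Subalgebra.zero_mem _
  · push Not at hi
    obtain ⟨m, rfl⟩ := Int.eq_ofNat_of_zero_le hi
    exact key m _ (SetLike.coe_mem _)

end Groth.Agent.Lib.Helper20.SegFT
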