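import Mathlib
import Groth.Agent.Lib.Helper20.SegTrdeg

/-!
# Lower bound: `R ⊗ S` modulo a prime is algebraic over the Segre part with one element adjoined
-/

set_option autoImplicit false
universe u
open scoped TensorProduct

namespace Groth.Agent.Lib.Helper20.SegLower

open Groth.Agent.Lib.Helper20.SegTrdeg

variable {k : Type u} [Field k] {R S : Type u} [CommRing R] [CommRing S] [Algebra k R]
  [Algebra k S] [Algebra.FiniteType k R] [Algebra.FiniteType k S]
  (𝒜 : ℤ → Submodule k R) (ℬ : ℤ → Submodule k S) [GradedAlgebra 𝒜] [GradedAlgebra ℬ]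
  {T : Type u} [CommRing T] [Algebra k T] [Algebra.FiniteType k T] (ψ : T →ₐ[k] R ⊗[k] S)

instance : Algebra.FiniteType k (R ⊗[k] S) :=
  Algebra.FiniteType.trans (S := R) inferInstance inferInstance

/-- **Lower bound.** -/
theorem lower (hposR : ∀ n : ℤ, n < 0 → 𝒜 n = ⊥) (hposS : ∀ n : ℤ, n < 0 → ℬ n = ⊥)
    (hψ : ∀ n : ℤ, ∀ a ∈ 𝒜 n, ∀ b ∈ ℬ n, ∃ t : T, ψ t = a ⊗ₜ[k] b)
    (𝔓 : Ideal (R ⊗[k] S)) [h𝔓 : 𝔓.IsPrime] {d e : ℕ} (hd : 0 < d) (he : 0 < e) {x : R}
    (hx : x ∈ 𝒜 d) {y : S} (hy : y ∈ ℬ e) (hx𝔓 : x ⊗ₜ[k] (1 : S) ∉ 𝔓)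
    (hy𝔓 : (1 : R) ⊗ₜ[k] y ∉ 𝔓) :
    ringKrullDim ((R ⊗[k] S) ⧸ 𝔓) ≤ ringKrullDim (T ⧸ 𝔓.comap ψ) + 1 := by
  classical
  set P : Ideal T := 𝔓.comap ψ with hPdef
  haveI hPp : P.IsPrime := Ideal.comap_isPrime ψ 𝔓
  let φ : T ⧸ P →ₐ[k] (R ⊗[k] S) ⧸ 𝔓 := Ideal.quotientMapₐ 𝔓 ψ le_rfl
  have hφinj : Function.Injective φ :=
    Ideal.quotientMap_injective' (f := (ψ : T →+* R ⊗[k] S)) (H := le_rfl) le_rfl
  letI : Algebra (T ⧸ P) ((R ⊗[k] S) ⧸ 𝔓) := φ.toRingHom.toAlgebra
  haveI : IsScalarTower k (T ⧸ P) ((R ⊗[k] S) ⧸ 𝔓) := IsScalarTower.of_algebraMap_eq fun x => by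
    change _ = φ (algebraMap k (T ⧸ P) x)
    rw [φ.commutes]
  haveI : FaithfulSMul (T ⧸ P) ((R ⊗[k] S) ⧸ 𝔓) :=
    (faithfulSMul_iff_algebraMap_injective _ _).2 hφinj
  obtain ⟨n', hd', ht'⟩ := exists_dim_eq_trdeg k ((R ⊗[k] S) ⧸ 𝔓)
  obtain ⟨m, hm, htm⟩ := exists_dim_eq_trdeg k (T ⧸ P)
  have hadd := trdeg_add_eq k (T ⧸ P) (A := (R ⊗[k] S) ⧸ 𝔓)
  rw [htm, ht'] at hadd
  set D := (R ⊗[k] S) ⧸ 𝔓 with hDdef
  set mk : R ⊗[k] S →+* D := Ideal.Quotient.mk 𝔓 with hmk
  set c : D := mk (x ⊗ₜ[k] (1 : S)) with hc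
  set c' : D := mk ((1 : R) ⊗ₜ[k] y) with hc'
  have hc0 : c ≠ 0 := by
    rw [hc, hmk, Ne, Ideal.Quotient.eq_zero_iff_mem]
    exact hx𝔓
  have hc'0 : c' ≠ 0 := by
    rw [hc', hmk, Ne, Ideal.Quotient.eq_zero_iff_mem]
    exact hy𝔓
  set B : Subalgebra (T ⧸ P) D := Algebra.adjoin (T ⧸ P) {c} with hB
  -- elements coming from `T` are in `B`
  have hTB : ∀ t : T, IsAlgebraic B (mk (ψ t)) := by
    intro t
    have : mk (ψ t) = algebraMap B D (algebraMap (T ⧸ P) B (Ideal.Quotient.mk P t)) := by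
      rw [← IsScalarTower.algebraMap_apply]
      rfl
    rw [this]
    exact isAlgebraic_algebraMap _
  have hcB : IsAlgebraic B c :=
    isAlgebraic_algebraMap (R := B) (A := D)
      (⟨c, Algebra.subset_adjoin (Set.mem_singleton c)⟩ : B)
  have hc'B : IsAlgebraic B c' := by
    -- c ^ e * c' ^ d comes from T
    obtain ⟨t, ht⟩ := hψ ((d * e : ℕ) : ℤ) (x ^ e) (by
      have := SetLike.pow_mem_graded e hx
      convert this using 2
      rw [nsmul_eq_mul]
      push_cast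
      ring) (y ^ d) (by
      have := SetLike.pow_mem_graded d hy
      convert this using 2
      rw [nsmul_eq_mul]
      push_cast
      ring)
    have h1 : c ^ e * c' ^ d = mk (ψ t) := by
      rw [ht, hc, hc', ← map_pow, ← map_pow, ← map_mul, Algebra.TensorProduct.tmul_pow,
        Algebra.TensorProduct.tmul_pow, Algebra.TensorProduct.tmul_mul_tmul, one_pow, one_pow,
        mul_one, one_mul]
    have h2 : IsAlgebraic B (c ^ e * c' ^ d) := by
      rw [h1]
      exact hTB t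
    have h3 := IsAlgebraic.of_mul (mem_nonZeroDivisors_of_ne_zero (pow_ne_zero e hc0))
      (hcB.pow e) h2
    exact h3.of_pow hd
  -- bihomogeneous elements are algebraic
  have hbi : ∀ (i j : ℤ) (a : R) (b : S), a ∈ 𝒜 i → b ∈ ℬ j → IsAlgebraic B (mk (a ⊗ₜ[k] b)) := by
    intro i j a b ha hb
    by_cases hi : i < 0
    · rw [hposR i hi, Submodule.mem_bot] at ha
      rw [ha, TensorProduct.zero_tmul, map_zero]
      exact isAlgebraic_zero
    by_cases hj : j < 0
    · rw [hposS j hj, Submodule.mem_bot] at hb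
      rw [hb, TensorProduct.tmul_zero, map_zero]
      exact isAlgebraic_zero
    push_neg at hi hj
    obtain ⟨i, rfl⟩ := Int.eq_ofNat_of_zero_le hi
    obtain ⟨j, rfl⟩ := Int.eq_ofNat_of_zero_le hj
    obtain ⟨t, ht⟩ := hψ ((d * e * i + d * e * j : ℕ) : ℤ) (a ^ (d * e) * x ^ (e * j)) (by
      have h1 := SetLike.pow_mem_graded (d * e) ha
      have h2 := SetLike.pow_mem_graded (e * j) hx
      have := SetLike.GradedMul.mul_mem h1 h2
      convert this using 2
      rw [nsmul_eq_mul, nsmul_eq_mul]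
      push_cast
      ring) (b ^ (d * e) * y ^ (d * i)) (by
      have h1 := SetLike.pow_mem_graded (d * e) hb
      have h2 := SetLike.pow_mem_graded (d * i) hy
      have := SetLike.GradedMul.mul_mem h1 h2
      convert this using 2
      rw [nsmul_eq_mul, nsmul_eq_mul]
      push_cast
      ring)
    have h1 : (c ^ (e * j) * c' ^ (d * i)) * (mk (a ⊗ₜ[k] b)) ^ (d * e) = mk (ψ t) := by
      rw [ht, hc, hc', ← map_pow, ← map_pow, ← map_pow, ← map_mul, ← map_mul,
        Algebra.TensorProduct.tmul_pow, Algebra.TensorProduct.tmul_pow,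
        Algebra.TensorProduct.tmul_pow, Algebra.TensorProduct.tmul_mul_tmul,
        Algebra.TensorProduct.tmul_mul_tmul, one_pow, one_pow, mul_one, one_mul,
        mul_comm (x ^ (e * j)), mul_comm (y ^ (d * i))]
    have h2 : IsAlgebraic B ((c ^ (e * j) * c' ^ (d * i)) * (mk (a ⊗ₜ[k] b)) ^ (d * e)) := by
      rw [h1]
      exact hTB t
    have h3 := IsAlgebraic.of_mul (mem_nonZeroDivisors_of_ne_zero
      (mul_ne_zero (pow_ne_zero _ hc0) (pow_ne_zero _ hc'0)))
      ((hcB.pow _).mul (hc'B.pow _)) h2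
    exact h3.of_pow (Nat.mul_pos hd he)
  have halg : Algebra.IsAlgebraic B D := by
    refine ⟨fun z => ?_⟩
    obtain ⟨z, rfl⟩ := Ideal.Quotient.mk_surjective z
    change IsAlgebraic B (mk z)
    induction z using TensorProduct.induction_on with
    | zero => rw [map_zero]; exact isAlgebraic_zero
    | add z z' hz hz' => rw [map_add]; exact hz.add hz'
    | tmul a b =>
      revert b
      induction a using DirectSum.Decomposition.inductionOn 𝒜 with
      | zero => intro b; rw [TensorProduct.zero_tmul, map_zero]; exact isAlgebraic_zero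
      | add a a' ha ha' =>
        intro b
        rw [TensorProduct.add_tmul, map_add]
        exact (ha b).add (ha' b)
      | homogeneous a =>
        intro b
        induction b using DirectSum.Decomposition.inductionOn ℬ with
        | zero => rw [TensorProduct.tmul_zero, map_zero]; exact isAlgebraic_zero
        | add b b' hb hb' =>
          rw [TensorProduct.tmul_add, map_add]
          exact hb.add hb'
        | homogeneous b => exact hbi _ _ _ _ a.2 b.2
  have hle : Algebra.trdeg (T ⧸ P) D ≤ 1 := by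
    have := Algebra.IsAlgebraic.trdeg_le_cardinalMk (T ⧸ P) ({c} : Set D)
    simpa using this
  have h1 : (n' : Cardinal) ≤ ((m + 1 : ℕ) : Cardinal) := by
    rw [← hadd]
    push_cast
    gcongr
  have h2 : n' ≤ m + 1 := by exact_mod_cast h1
  rw [hd', hm]
  exact_mod_cast h2

end Groth.Agent.Lib.Helper20.SegLower
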