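import Mathlib
import Groth.Agent.Lib.Helper20.SegTrdeg

/-!
# Upper bound: the degree-zero part of a `ℤ`-graded algebra of finite type has smaller dimension
-/

set_option autoImplicit false
universe u
open scoped TensorProduct

namespace Groth.Agent.Lib.Helper20.SegUpper

open Groth.Agent.Lib.Helper20.SegTrdeg

section homog

variable {k : Type u} [CommRing k] {A : Type u} [CommRing A] [Algebra k A]
  {𝒞 : ℤ → Submodule k A} [GradedAlgebra 𝒞]

/-- In a homogeneous ideal, a sum of homogeneous elements of distinct degrees has all its terms in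
the ideal. -/
theorem mem_of_sum_mem {I : Ideal A} (hI : I.IsHomogeneous 𝒞) {ι' : Type} [DecidableEq ι']
    (s : Finset ι') (f : ι' → A) (d : ι' → ℤ) (hd : Set.InjOn d (s : Set ι'))
    (hf : ∀ i ∈ s, f i ∈ 𝒞 (d i)) (hsum : ∑ i ∈ s, f i ∈ I) : ∀ i ∈ s, f i ∈ I := by
  classical
  intro i hi
  have h := hI (d i) hsum
  rw [DirectSum.decompose_sum, DFinsupp.finset_sum_apply, AddSubmonoidClass.coe_finset_sum,
    Finset.sum_eq_single i] at h
  · rwa [DirectSum.decompose_of_mem_same 𝒞 (hf i hi)] at h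
  · intro j hj hji
    rw [DirectSum.decompose_of_mem_ne 𝒞 (hf j hj)]
    intro hdd
    exact hji (hd hj hi hdd)
  · intro h'
    exact absurd hi h'

end homog

section upper

variable {k : Type u} [Field k] {C : Type u} [CommRing C] [Algebra k C] [Algebra.FiniteType k C]
  (𝒞 : ℤ → Submodule k C) [GradedAlgebra 𝒞]
  {T : Type u} [CommRing T] [Algebra k T] [Algebra.FiniteType k T] (ψ : T →ₐ[k] C)

/-- The key transcendence statement: a homogeneous element of non-zero weight outside a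
homogeneous prime `𝔔` is transcendental over `T ⧸ ψ⁻¹ 𝔔`. -/
theorem coeff_mem_of_eval₂_mem (hψ0 : ∀ t, ψ t ∈ 𝒞 0) (𝔔 : Ideal C) [h𝔔 : 𝔔.IsPrime]
    (h𝔔h : 𝔔.IsHomogeneous 𝒞) {w : ℤ} (hw : w ≠ 0) {c : C} (hc : c ∈ 𝒞 w) (hc𝔔 : c ∉ 𝔔)
    (q : Polynomial T) (hq : Polynomial.eval₂ ψ.toRingHom c q ∈ 𝔔) (i : ℕ) :
    q.coeff i ∈ 𝔔.comap ψ := by
  classical
  by_cases hi : i ∈ q.support
  · rw [Polynomial.eval₂_eq_sum, Polynomial.sum_def] at hq
    have := mem_of_sum_mem h𝔔h q.support (fun i => ψ.toRingHom (q.coeff i) * c ^ i)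
      (fun i => (i : ℤ) * w) ?_ ?_ hq i hi
    · rcases h𝔔.mem_or_mem this with h | h
      · exact h
      · exact absurd (h𝔔.mem_of_pow_mem _ h) hc𝔔
    · intro a _ b _ hab
      have : (a : ℤ) = b := mul_right_cancel₀ hw hab
      exact_mod_cast this
    · intro j _
      have h1 : c ^ j ∈ 𝒞 (j • w) := SetLike.pow_mem_graded j hc
      have h2 := SetLike.GradedMul.mul_mem (hψ0 (q.coeff j)) h1
      simpa using h2
  · rw [Polynomial.notMem_support_iff] at hi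
    rw [hi]
    exact Ideal.zero_mem _


/-- **Upper bound.**  Let `C` be a `ℤ`-graded algebra of finite type over a field, `ψ : T → C` a map
into the degree-zero part, `𝔞` a homogeneous ideal such that homogeneous primes over `𝔞` containing
all elements of non-zero degree have residue ring `k` on `T`.  Then
`dim T ⧸ ψ⁻¹ 𝔞 ≤ dim C ⧸ 𝔞 - 1`. -/
theorem upper (hψ0 : ∀ t, ψ t ∈ 𝒞 0) (𝔞 : Ideal C) (h𝔞 : 𝔞.IsHomogeneous 𝒞)
    (hH : ∀ 𝔔 : Ideal C, 𝔔.IsPrime → 𝔔.IsHomogeneous 𝒞 → 𝔞 ≤ 𝔔 →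
      (∀ w : ℤ, w ≠ 0 → ∀ c ∈ 𝒞 w, c ∈ 𝔔) → ∀ t : T, ∃ l : k, ψ t - algebraMap k C l ∈ 𝔔)
    (N : ℕ) (hN : ringKrullDim (C ⧸ 𝔞) = N) (hN1 : 1 ≤ N) :
    ringKrullDim (T ⧸ 𝔞.comap ψ) ≤ ((N - 1 : ℕ) : WithBot ℕ∞) := by
  classical
  have h𝔞top : 𝔞 ≠ ⊤ := by
    rintro rfl
    haveI : Subsingleton (C ⧸ (⊤ : Ideal C)) := Ideal.Quotient.subsingleton_iff.2 rfl
    rw [ringKrullDim_eq_bot_of_subsingleton] at hN
    exact absurd hN (by simp)
  have hcomap : 𝔞.comap ψ ≠ ⊤ := by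
    intro h
    apply h𝔞top
    rw [Ideal.eq_top_iff_one] at h ⊢
    simpa using h
  haveI : Nontrivial (T ⧸ 𝔞.comap ψ) := Ideal.Quotient.nontrivial_iff.2 hcomap
  obtain ⟨m, hm⟩ := exists_dim_eq k (T ⧸ 𝔞.comap ψ)
  rw [hm]
  obtain ⟨P, hPmin, hPp, hPd, hPt⟩ := exists_minimalPrime_trdeg k T (𝔞.comap ψ) m hm
  rcases Nat.eq_zero_or_pos m with rfl | hmpos
  · exact_mod_cast Nat.zero_le _
  obtain ⟨𝔓, h𝔓p, h𝔞𝔓, h𝔓c⟩ := Ideal.exists_comap_eq_of_mem_minimalPrimes ψ.toRingHom P hPmin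
  set 𝔔 : Ideal C := (𝔓.homogeneousCore 𝒞).toIdeal with h𝔔def
  haveI h𝔔p : 𝔔.IsPrime := h𝔓p.homogeneousCore
  have h𝔔h : 𝔔.IsHomogeneous 𝒞 := (𝔓.homogeneousCore 𝒞).isHomogeneous
  have h𝔞𝔔 : 𝔞 ≤ 𝔔 := by
    rw [← h𝔞.toIdeal_homogeneousCore_eq_self]
    exact Ideal.homogeneousCore_mono 𝒞 h𝔞𝔓
  have h𝔔c : 𝔔.comap ψ = P := by
    apply le_antisymm
    · rw [← h𝔓c]
      exact Ideal.comap_mono (Ideal.toIdeal_homogeneousCore_le 𝒞 𝔓)
    · intro t ht
      rw [← h𝔓c] at ht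
      exact Ideal.mem_homogeneousCore_of_homogeneous_of_mem ⟨0, hψ0 t⟩ ht
  -- the tower `k → T ⧸ P → C ⧸ 𝔔`
  let φ : T ⧸ P →ₐ[k] C ⧸ 𝔔 := Ideal.quotientMapₐ 𝔔 ψ (le_of_eq h𝔔c.symm)
  have hφinj : Function.Injective φ :=
    Ideal.quotientMap_injective' (f := (ψ : T →+* C)) (H := le_of_eq h𝔔c.symm) (le_of_eq h𝔔c)
  letI : Algebra (T ⧸ P) (C ⧸ 𝔔) := φ.toRingHom.toAlgebra
  haveI : IsScalarTower k (T ⧸ P) (C ⧸ 𝔔) := IsScalarTower.of_algebraMap_eq fun x => by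
    change _ = φ (algebraMap k (T ⧸ P) x)
    rw [φ.commutes]
  haveI : FaithfulSMul (T ⧸ P) (C ⧸ 𝔔) := (faithfulSMul_iff_algebraMap_injective _ _).2 hφinj
  obtain ⟨n', hd', ht'⟩ := exists_dim_eq_trdeg k (C ⧸ 𝔔)
  have hn'N : n' ≤ N := by
    have := helper11.DimChain.ringKrullDim_quotient_mono h𝔞𝔔
    rw [hd', hN] at this
    exact_mod_cast this
  have hadd := trdeg_add_eq k (T ⧸ P) (A := C ⧸ 𝔔)
  rw [hPt, ht'] at hadd
  -- a transcendental element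
  have htr : Algebra.Transcendental (T ⧸ P) (C ⧸ 𝔔) := by
    by_cases hex : ∃ w : ℤ, w ≠ 0 ∧ ∃ c ∈ 𝒞 w, c ∉ 𝔔
    · obtain ⟨w, hw, c, hc, hc𝔔⟩ := hex
      refine ⟨⟨Ideal.Quotient.mk 𝔔 c, ?_⟩⟩
      rw [transcendental_iff]
      intro p hp
      obtain ⟨q, rfl⟩ := Polynomial.map_surjective (Ideal.Quotient.mk P)
        Ideal.Quotient.mk_surjective p
      have hmem : Polynomial.eval₂ ψ.toRingHom c q ∈ 𝔔 := by
        rw [← Ideal.Quotient.eq_zero_iff_mem, Polynomial.hom_eval₂]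
        rw [Polynomial.aeval_def, Polynomial.eval₂_map] at hp
        exact hp
      ext i
      rw [Polynomial.coeff_map, Polynomial.coeff_zero, Ideal.Quotient.eq_zero_iff_mem, ← h𝔔c]
      exact coeff_mem_of_eval₂_mem 𝒞 ψ hψ0 𝔔 h𝔔h hw hc hc𝔔 q hmem i
    · exfalso
      push_neg at hex
      have hall := hH 𝔔 h𝔔p h𝔔h h𝔞𝔔 hex
      haveI : Algebra.IsAlgebraic k (T ⧸ P) := by
        refine ⟨fun x => ?_⟩
        obtain ⟨t, rfl⟩ := Ideal.Quotient.mk_surjective x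
        obtain ⟨l, hl⟩ := hall t
        have : Ideal.Quotient.mk P t = algebraMap k (T ⧸ P) l := by
          rw [← sub_eq_zero, IsScalarTower.algebraMap_apply k T (T ⧸ P), Ideal.Quotient.algebraMap_eq,
            ← map_sub, Ideal.Quotient.eq_zero_iff_mem, ← h𝔔c, Ideal.mem_comap, map_sub,
            AlgHom.commutes]
          exact hl
        rw [this]
        exact isAlgebraic_algebraMap l
      have h0 := trdeg_eq_zero (R := k) (A := T ⧸ P)
      rw [hPt] at h0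
      have : m = 0 := by exact_mod_cast h0
      omega
  have hpos : 1 ≤ Algebra.trdeg (T ⧸ P) (C ⧸ 𝔔) := Cardinal.one_le_iff_pos.2 (trdeg_pos _ _)
  have h1 : ((m + 1 : ℕ) : Cardinal) ≤ (n' : Cardinal) := by
    rw [← hadd]
    push_cast
    gcongr
  have h2 : m + 1 ≤ n' := by exact_mod_cast h1
  have : m ≤ N - 1 := by omega
  exact_mod_cast this

end upper

end Groth.Agent.Lib.Helper20.SegUpper
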