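import Mathlib.RingTheory.GradedAlgebra.Basic
import Mathlib.RingTheory.TensorProduct.Basic
import Mathlib.LinearAlgebra.DirectSum.TensorProduct
import Mathlib.Algebra.DirectSum.Decomposition
import Mathlib.Algebra.Algebra.Operations

/-!
# The weight grading on the tensor product of two `ℤ`-graded algebras

For graded `k`-algebras `R = ⊕ 𝒜 i` and `S = ⊕ ℬ j` the tensor product `R ⊗[k] S` is `ℤ`-graded by
weight `i - j`; the weight-zero part is the (internal) Segre product.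
-/

set_option autoImplicit false
universe u
open scoped TensorProduct DirectSum

namespace Groth.Agent.Lib.Helper20.SegWeight

variable {k : Type u} [CommRing k] {R S : Type u} [CommRing R] [CommRing S] [Algebra k R]
  [Algebra k S] (𝒜 : ℤ → Submodule k R) (ℬ : ℤ → Submodule k S)

/-- The span of the `a ⊗ b` with `a ∈ 𝒜 i`, `b ∈ ℬ j`. -/
def biPiece (i j : ℤ) : Submodule k (R ⊗[k] S) :=
  Submodule.span k {x | ∃ a ∈ 𝒜 i, ∃ b ∈ ℬ j, x = a ⊗ₜ[k] b}

/-- The weight `w` part: the sum of the `biPiece (w + j) j`. -/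
def wt (w : ℤ) : Submodule k (R ⊗[k] S) := ⨆ j : ℤ, biPiece 𝒜 ℬ (w + j) j

variable {𝒜 ℬ}

theorem tmul_mem_biPiece {i j : ℤ} {a : R} (ha : a ∈ 𝒜 i) {b : S} (hb : b ∈ ℬ j) :
    a ⊗ₜ[k] b ∈ biPiece 𝒜 ℬ i j :=
  Submodule.subset_span ⟨a, ha, b, hb, rfl⟩

theorem biPiece_le_wt {i j w : ℤ} (h : i - j = w) : biPiece 𝒜 ℬ i j ≤ wt 𝒜 ℬ w := by
  have : i = w + j := by omega
  subst this
  exact le_iSup (fun j => biPiece 𝒜 ℬ (w + j) j) j

theorem tmul_mem_wt {i j w : ℤ} (h : i - j = w) {a : R} (ha : a ∈ 𝒜 i) {b : S} (hb : b ∈ ℬ j) :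
    a ⊗ₜ[k] b ∈ wt 𝒜 ℬ w :=
  biPiece_le_wt h (tmul_mem_biPiece ha hb)

/-- Induction principle for elements of `wt w`. -/
theorem wt_induction {w : ℤ} {p : R ⊗[k] S → Prop} (h0 : p 0)
    (hadd : ∀ x y, p x → p y → p (x + y)) (hsmul : ∀ (c : k) x, p x → p (c • x))
    (htmul : ∀ (i j : ℤ), i - j = w → ∀ a ∈ 𝒜 i, ∀ b ∈ ℬ j, p (a ⊗ₜ[k] b))
    {x : R ⊗[k] S} (hx : x ∈ wt 𝒜 ℬ w) : p x := by
  unfold wt at hx
  induction hx using Submodule.iSup_induction' with
  | mem j x hx =>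
    induction hx using Submodule.span_induction with
    | mem x hx =>
      obtain ⟨a, ha, b, hb, rfl⟩ := hx
      exact htmul _ _ (by omega) a ha b hb
    | zero => exact h0
    | add x y _ _ hx hy => exact hadd x y hx hy
    | smul c x _ hx => exact hsmul c x hx
  | zero => exact h0
  | add x y _ _ hx hy => exact hadd x y hx hy

variable [GradedAlgebra 𝒜] [GradedAlgebra ℬ]

instance gradedMonoid_wt : SetLike.GradedMonoid (wt 𝒜 ℬ) where
  one_mem := by
    rw [Algebra.TensorProduct.one_def]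
    exact tmul_mem_wt (by simp) (SetLike.GradedOne.one_mem) (SetLike.GradedOne.one_mem)
  mul_mem := by
    intro w w' x y hx hy
    refine wt_induction (p := fun x => x * y ∈ wt 𝒜 ℬ (w + w')) (by simp)
      (fun x x' hx hx' => by rw [add_mul]; exact Submodule.add_mem _ hx hx')
      (fun c x hx => by rw [smul_mul_assoc]; exact Submodule.smul_mem _ c hx) ?_ hx
    intro i j hij a ha b hb
    refine wt_induction (p := fun y => a ⊗ₜ[k] b * y ∈ wt 𝒜 ℬ (w + w')) (by simp)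
      (fun y y' hy hy' => by rw [mul_add]; exact Submodule.add_mem _ hy hy')
      (fun c y hy => by rw [mul_smul_comm]; exact Submodule.smul_mem _ c hy) ?_ hy
    intro i' j' hij' a' ha' b' hb'
    rw [Algebra.TensorProduct.tmul_mul_tmul]
    exact tmul_mem_wt (by omega) (SetLike.GradedMul.mul_mem ha ha')
      (SetLike.GradedMul.mul_mem hb hb')


/-- `𝒜 i ⊗ ℬ j → wt (i - j)`. -/
noncomputable def toWt (i j : ℤ) : (𝒜 i) ⊗[k] (ℬ j) →ₗ[k] wt 𝒜 ℬ (i - j) :=
  LinearMap.codRestrict _ (TensorProduct.map (𝒜 i).subtype (ℬ j).subtype) (by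
    intro x
    induction x using TensorProduct.induction_on with
    | zero => simp
    | tmul a b => exact tmul_mem_wt rfl a.2 b.2
    | add x y hx hy => rw [map_add]; exact Submodule.add_mem _ hx hy)

theorem toWt_tmul (i j : ℤ) (a : 𝒜 i) (b : ℬ j) :
    ((toWt (𝒜 := 𝒜) (ℬ := ℬ) i j (a ⊗ₜ[k] b) : wt 𝒜 ℬ (i - j)) : R ⊗[k] S) =
      (a : R) ⊗ₜ[k] (b : S) := rfl

/-- The decomposition map of the weight grading. -/
noncomputable def decomp : R ⊗[k] S →ₗ[k] ⨁ w, wt 𝒜 ℬ w :=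
  (DirectSum.toModule k (ℤ × ℤ) (⨁ w, wt 𝒜 ℬ w) (fun p =>
      (DirectSum.lof k ℤ (fun w => wt 𝒜 ℬ w) (p.1 - p.2)).comp (toWt p.1 p.2))) ∘ₗ
    (TensorProduct.directSum k k (fun i => 𝒜 i) (fun j => ℬ j)).toLinearMap ∘ₗ
    (TensorProduct.congr (DirectSum.decomposeLinearEquiv 𝒜)
      (DirectSum.decomposeLinearEquiv ℬ)).toLinearMap

theorem decomp_tmul_of_mem {i j : ℤ} {a : R} (ha : a ∈ 𝒜 i) {b : S} (hb : b ∈ ℬ j) :
    decomp (𝒜 := 𝒜) (ℬ := ℬ) (a ⊗ₜ[k] b) =
      DirectSum.lof k ℤ (fun w => wt 𝒜 ℬ w) (i - j) ⟨a ⊗ₜ[k] b, tmul_mem_wt rfl ha hb⟩ := by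
  simp only [decomp, LinearMap.comp_apply, LinearEquiv.coe_coe, TensorProduct.congr_tmul,
    DirectSum.decomposeLinearEquiv_apply, DirectSum.decompose_of_mem 𝒜 ha,
    DirectSum.decompose_of_mem ℬ hb]
  rw [← DirectSum.lof_eq_of k, ← DirectSum.lof_eq_of k, TensorProduct.directSum_lof_tmul_lof,
    DirectSum.toModule_lof]
  rfl

theorem decomp_tmul_of_mem' {i j w : ℤ} (h : i - j = w) {a : R} (ha : a ∈ 𝒜 i) {b : S}
    (hb : b ∈ ℬ j) :
    decomp (𝒜 := 𝒜) (ℬ := ℬ) (a ⊗ₜ[k] b) =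
      DirectSum.lof k ℤ (fun w => wt 𝒜 ℬ w) w ⟨a ⊗ₜ[k] b, tmul_mem_wt h ha hb⟩ := by
  subst h
  exact decomp_tmul_of_mem ha hb


theorem coe_decomp (x : R ⊗[k] S) :
    DirectSum.coeLinearMap (wt 𝒜 ℬ) (decomp x) = x := by
  induction x using TensorProduct.induction_on with
  | zero => simp
  | add x y hx hy => rw [map_add, map_add, hx, hy]
  | tmul a b =>
    revert b
    induction a using DirectSum.Decomposition.inductionOn 𝒜 with
    | zero => intro b; simp
    | add a a' ha ha' =>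
      intro b
      rw [TensorProduct.add_tmul, map_add, map_add, ha, ha']
    | homogeneous a =>
      intro b
      induction b using DirectSum.Decomposition.inductionOn ℬ with
      | zero => simp
      | add b b' hb hb' => rw [TensorProduct.tmul_add, map_add, map_add, hb, hb']
      | homogeneous b =>
        rw [decomp_tmul_of_mem a.2 b.2, DirectSum.coeLinearMap_lof]

theorem decomp_coe {w : ℤ} (x : wt 𝒜 ℬ w) :
    decomp (x : R ⊗[k] S) = DirectSum.lof k ℤ (fun w => wt 𝒜 ℬ w) w x := by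
  obtain ⟨x, hx⟩ := x
  have key : ∃ hx : x ∈ wt 𝒜 ℬ w,
      decomp x = DirectSum.lof k ℤ (fun w => wt 𝒜 ℬ w) w ⟨x, hx⟩ := by
    refine wt_induction
      (p := fun x => ∃ hx : x ∈ wt 𝒜 ℬ w,
        decomp x = DirectSum.lof k ℤ (fun w => wt 𝒜 ℬ w) w ⟨x, hx⟩) ?_ ?_ ?_ ?_ hx
    · refine ⟨Submodule.zero_mem _, ?_⟩
      rw [map_zero]
      exact (map_zero _).symm
    · rintro x y ⟨hx, ex⟩ ⟨hy, ey⟩
      refine ⟨Submodule.add_mem _ hx hy, ?_⟩
      rw [map_add, ex, ey, ← map_add]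
      rfl
    · rintro c x ⟨hx, ex⟩
      refine ⟨Submodule.smul_mem _ c hx, ?_⟩
      rw [map_smul, ex, ← map_smul]
      rfl
    · intro i j hij a ha b hb
      exact ⟨tmul_mem_wt hij ha hb, decomp_tmul_of_mem' hij ha hb⟩
  obtain ⟨_, h⟩ := key
  exact h

noncomputable instance decomposition_wt : DirectSum.Decomposition (wt 𝒜 ℬ) :=
  DirectSum.Decomposition.ofLinearMap (wt 𝒜 ℬ) decomp
    (LinearMap.ext fun x => coe_decomp x)
    (by
      ext w x : 2
      simp only [LinearMap.comp_apply, DirectSum.coeLinearMap_lof, LinearMap.id_comp]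
      exact decomp_coe x)

noncomputable instance gradedAlgebra_wt : GradedAlgebra (wt 𝒜 ℬ) where

end Groth.Agent.Lib.Helper20.SegWeight
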