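import Mathlib
import Groth.Agent.S18646
import Groth.Agent.Lib.Helper20.SegWeight
import Groth.Agent.Lib.Helper20.SegUpper
import Groth.Agent.Lib.Helper20.SegLower
import Groth.Agent.Lib.Helper20.SegFT

/-!
# The dimension of a Segre product (and of its quotients by `I ⊗ S + R ⊗ J`)
-/

set_option autoImplicit false
universe u
open scoped TensorProduct

namespace Groth.Agent.Lib.Helper20.SegDim

open Groth.Agent.Lib.Helper20.SegWeight Groth.Agent.Lib.Helper20.SegTrdeg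

section basic

variable {k : Type u} [Field k] {R : Type u} [CommRing R] [Algebra k R]
  (𝒜 : ℤ → Submodule k R) [GradedAlgebra 𝒜] {S : Type u} [CommRing S] [Algebra k S]
  (ℬ : ℤ → Submodule k S) [GradedAlgebra ℬ]

/-- The ideal `I ⊗ S + R ⊗ J` of `R ⊗ S`. -/
def tensorIdeal (I : Ideal R) (J : Ideal S) : Ideal (R ⊗[k] S) :=
  I.map (Algebra.TensorProduct.includeLeft : R →ₐ[k] R ⊗[k] S) ⊔
    J.map (Algebra.TensorProduct.includeRight : S →ₐ[k] R ⊗[k] S)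

theorem tensorIdeal_eq_ker (I : Ideal R) (J : Ideal S) :
    tensorIdeal (k := k) I J =
      RingHom.ker (Algebra.TensorProduct.map (Ideal.Quotient.mkₐ k I) (Ideal.Quotient.mkₐ k J)) := by
  rw [Algebra.TensorProduct.map_ker _ _ (Ideal.Quotient.mkₐ_surjective k I)
    (Ideal.Quotient.mkₐ_surjective k J)]
  have h1 : RingHom.ker (Ideal.Quotient.mkₐ k I) = I := Ideal.Quotient.mkₐ_ker k I
  have h2 : RingHom.ker (Ideal.Quotient.mkₐ k J) = J := Ideal.Quotient.mkₐ_ker k J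
  rw [h1, h2]
  rfl

/-- `(R ⊗ S) ⧸ (I ⊗ S + R ⊗ J) ≃ (R ⧸ I) ⊗ (S ⧸ J)`. -/
noncomputable def quotEquiv (I : Ideal R) (J : Ideal S) :
    ((R ⊗[k] S) ⧸ tensorIdeal (k := k) I J) ≃+* (R ⧸ I) ⊗[k] (S ⧸ J) :=
  (Ideal.quotEquivOfEq (tensorIdeal_eq_ker I J)).trans
    (RingHom.quotientKerEquivOfSurjective
      (f := (Algebra.TensorProduct.map (Ideal.Quotient.mkₐ k I)
        (Ideal.Quotient.mkₐ k J)).toRingHom)
      (Algebra.TensorProduct.map_surjective _ _ (Ideal.Quotient.mkₐ_surjective k I)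
        (Ideal.Quotient.mkₐ_surjective k J)))

theorem tensorIdeal_isHomogeneous {I : Ideal R} (hI : I.IsHomogeneous 𝒜) {J : Ideal S}
    (hJ : J.IsHomogeneous ℬ) : (tensorIdeal (k := k) I J).IsHomogeneous (wt 𝒜 ℬ) := by
  refine Ideal.IsHomogeneous.sup ?_ ?_
  · obtain ⟨s, rfl⟩ := (Ideal.IsHomogeneous.iff_exists 𝒜 I).1 hI
    rw [Ideal.map_span]
    refine Ideal.homogeneous_span _ _ ?_
    rintro _ ⟨_, ⟨⟨a, ⟨i, ha⟩⟩, _, rfl⟩, rfl⟩
    exact ⟨i, tmul_mem_wt (by simp) ha SetLike.GradedOne.one_mem⟩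
  · obtain ⟨s, rfl⟩ := (Ideal.IsHomogeneous.iff_exists ℬ J).1 hJ
    rw [Ideal.map_span]
    refine Ideal.homogeneous_span _ _ ?_
    rintro _ ⟨_, ⟨⟨b, ⟨j, hb⟩⟩, _, rfl⟩, rfl⟩
    exact ⟨-j, tmul_mem_wt (by simp) SetLike.GradedOne.one_mem hb⟩

end basic


section setting

variable {k : Type u} [Field k] {R : Type u} [CommRing R] [Algebra k R]
  (𝒜 : ℤ → Submodule k R) [GradedAlgebra 𝒜] {S : Type u} [CommRing S] [Algebra k S]
  (ℬ : ℤ → Submodule k S) [GradedAlgebra ℬ]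
  {T : Type u} [CommRing T] [Algebra k T] (𝒯 : ℤ → Submodule k T) [GradedAlgebra 𝒯]
  (ψ : T →ₐ[k] R ⊗[k] S)

theorem biPiece_zero (h0R : 𝒜 0 = Submodule.span k {(1 : R)})
    (h0S : ℬ 0 = Submodule.span k {(1 : S)}) :
    biPiece 𝒜 ℬ 0 0 = Submodule.span k {(1 : R ⊗[k] S)} := by
  apply le_antisymm
  · refine Submodule.span_le.2 ?_
    rintro _ ⟨a, ha, b, hb, rfl⟩
    rw [h0R, Submodule.mem_span_singleton] at ha
    rw [h0S, Submodule.mem_span_singleton] at hb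
    obtain ⟨l, rfl⟩ := ha
    obtain ⟨m, rfl⟩ := hb
    rw [TensorProduct.smul_tmul_smul, ← Algebra.TensorProduct.one_def]
    exact Submodule.smul_mem _ _ (Submodule.subset_span rfl)
  · refine Submodule.span_le.2 ?_
    rintro _ rfl
    rw [Algebra.TensorProduct.one_def]
    exact tmul_mem_biPiece SetLike.GradedOne.one_mem SetLike.GradedOne.one_mem

theorem biPiece_neg_left {i j : ℤ} (h : 𝒜 i = ⊥) : biPiece 𝒜 ℬ i j = ⊥ := by
  rw [eq_bot_iff]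
  refine Submodule.span_le.2 ?_
  rintro _ ⟨a, ha, b, hb, rfl⟩
  rw [h, Submodule.mem_bot] at ha
  rw [ha, TensorProduct.zero_tmul]
  exact Submodule.zero_mem _

variable {𝒜 ℬ 𝒯 ψ}

theorem map_mem_wt_zero
    (hdegT : ∀ n : ℤ, (𝒯 n).map ψ.toLinearMap = biPiece 𝒜 ℬ n n) (t : T) :
    ψ t ∈ wt 𝒜 ℬ 0 := by
  induction t using DirectSum.Decomposition.inductionOn 𝒯 with
  | zero => rw [map_zero]; exact Submodule.zero_mem _
  | add t t' ht ht' => rw [map_add]; exact Submodule.add_mem _ ht ht'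
  | homogeneous t =>
    rename_i n
    have : ψ t ∈ (𝒯 n).map ψ.toLinearMap := Submodule.mem_map_of_mem t.2
    rw [hdegT n] at this
    exact biPiece_le_wt (by simp) this

theorem exists_map_eq_tmul
    (hdegT : ∀ n : ℤ, (𝒯 n).map ψ.toLinearMap = biPiece 𝒜 ℬ n n) (n : ℤ) (a : R) (ha : a ∈ 𝒜 n)
    (b : S) (hb : b ∈ ℬ n) : ∃ t : T, ψ t = a ⊗ₜ[k] b := by
  have : a ⊗ₜ[k] b ∈ (𝒯 n).map ψ.toLinearMap := by
    rw [hdegT n]
    exact tmul_mem_biPiece ha hb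
  obtain ⟨t, -, ht⟩ := this
  exact ⟨t, ht⟩

theorem piece_eq_bot_of_neg (hψ : Function.Injective ψ)
    (hdegT : ∀ n : ℤ, (𝒯 n).map ψ.toLinearMap = biPiece 𝒜 ℬ n n) {n : ℤ} (h : 𝒜 n = ⊥) :
    𝒯 n = ⊥ := by
  have h1 := hdegT n
  rw [biPiece_neg_left 𝒜 ℬ h] at h1
  rw [eq_bot_iff]
  intro t ht
  have : ψ t ∈ (𝒯 n).map ψ.toLinearMap := Submodule.mem_map_of_mem ht
  rw [h1, Submodule.mem_bot] at this
  rw [Submodule.mem_bot]
  exact hψ (by rw [this, map_zero])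

theorem piece_zero_eq (hψ : Function.Injective ψ)
    (hdegT : ∀ n : ℤ, (𝒯 n).map ψ.toLinearMap = biPiece 𝒜 ℬ n n)
    (h0R : 𝒜 0 = Submodule.span k {(1 : R)}) (h0S : ℬ 0 = Submodule.span k {(1 : S)}) :
    𝒯 0 = Submodule.span k {(1 : T)} := by
  have h1 := hdegT 0
  rw [biPiece_zero 𝒜 ℬ h0R h0S] at h1
  apply Submodule.map_injective_of_injective (f := ψ.toLinearMap) hψ
  rw [h1, Submodule.map_span, Set.image_singleton]
  simp

/-- In a prime containing all elements of non-zero weight, weight-zero elements are scalars. -/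
theorem exists_sub_mem_of_wt_zero (h0R : 𝒜 0 = Submodule.span k {(1 : R)})
    (h0S : ℬ 0 = Submodule.span k {(1 : S)}) (𝔔 : Ideal (R ⊗[k] S))
    (hw : ∀ w : ℤ, w ≠ 0 → ∀ c ∈ wt 𝒜 ℬ w, c ∈ 𝔔) {z : R ⊗[k] S} (hz : z ∈ wt 𝒜 ℬ 0) :
    ∃ l : k, z - algebraMap k (R ⊗[k] S) l ∈ 𝔔 := by
  refine wt_induction (p := fun z => ∃ l : k, z - algebraMap k (R ⊗[k] S) l ∈ 𝔔) ?_ ?_ ?_ ?_ hz
  · exact ⟨0, by simp⟩
  · rintro x y ⟨l, hl⟩ ⟨l', hl'⟩
    refine ⟨l + l', ?_⟩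
    have : x + y - algebraMap k (R ⊗[k] S) (l + l') =
        (x - algebraMap k (R ⊗[k] S) l) + (y - algebraMap k (R ⊗[k] S) l') := by
      rw [map_add]; ring
    rw [this]
    exact 𝔔.add_mem hl hl'
  · rintro c x ⟨l, hl⟩
    refine ⟨c * l, ?_⟩
    have : c • x - algebraMap k (R ⊗[k] S) (c * l) =
        algebraMap k (R ⊗[k] S) c * (x - algebraMap k (R ⊗[k] S) l) := by
      rw [map_mul, Algebra.smul_def]; ring
    rw [this]
    exact 𝔔.mul_mem_left _ hl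
  · intro i j hij a ha b hb
    by_cases hi : i = 0
    · subst hi
      have hj : j = 0 := by omega
      subst hj
      have : a ⊗ₜ[k] b ∈ biPiece 𝒜 ℬ 0 0 := tmul_mem_biPiece ha hb
      rw [biPiece_zero 𝒜 ℬ h0R h0S, Submodule.mem_span_singleton] at this
      obtain ⟨l, hl⟩ := this
      refine ⟨l, ?_⟩
      rw [← hl, Algebra.algebraMap_eq_smul_one, sub_self]
      exact 𝔔.zero_mem
    · refine ⟨0, ?_⟩
      rw [map_zero, sub_zero]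
      have h1 : a ⊗ₜ[k] (1 : S) ∈ 𝔔 :=
        hw i hi _ (tmul_mem_wt (by simp) ha SetLike.GradedOne.one_mem)
      have : a ⊗ₜ[k] b = a ⊗ₜ[k] (1 : S) * (1 : R) ⊗ₜ[k] b := by
        rw [Algebra.TensorProduct.tmul_mul_tmul, mul_one, one_mul]
      rw [this]
      exact 𝔔.mul_mem_right _ h1

end setting


section sides

variable {k : Type u} [Field k] {R : Type u} [CommRing R] [Algebra k R]
  (𝒜 : ℤ → Submodule k R) [GradedAlgebra 𝒜] {S : Type u} [CommRing S] [Algebra k S]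
  (ℬ : ℤ → Submodule k S) [GradedAlgebra ℬ]

/-- Every element of `R` is a scalar modulo the elements of positive degree. -/
theorem exists_sub_mem_left (hposR : ∀ n : ℤ, n < 0 → 𝒜 n = ⊥)
    (h0R : 𝒜 0 = Submodule.span k {(1 : R)}) (𝔓 : Ideal (R ⊗[k] S))
    (hno : ∀ d : ℕ, 0 < d → ∀ x ∈ 𝒜 d, x ⊗ₜ[k] (1 : S) ∈ 𝔓) (a : R) :
    ∃ l : k, (a - algebraMap k R l) ⊗ₜ[k] (1 : S) ∈ 𝔓 := by
  have key : ∀ (i : ℤ) (a : R), a ∈ 𝒜 i → ∃ l : k, (a - algebraMap k R l) ⊗ₜ[k] (1 : S) ∈ 𝔓 := by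
    intro i a h
    rcases lt_trichotomy i 0 with hi | hi | hi
    · rw [hposR i hi, Submodule.mem_bot] at h
      exact ⟨0, by simp [h]⟩
    · subst hi
      rw [h0R, Submodule.mem_span_singleton] at h
      obtain ⟨l, hl⟩ := h
      refine ⟨l, ?_⟩
      rw [← hl, Algebra.algebraMap_eq_smul_one, sub_self, TensorProduct.zero_tmul]
      exact 𝔓.zero_mem
    · obtain ⟨d, rfl⟩ := Int.eq_ofNat_of_zero_le hi.le
      refine ⟨0, ?_⟩
      rw [map_zero, sub_zero]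
      exact hno d (by exact_mod_cast hi) _ h
  induction a using DirectSum.Decomposition.inductionOn 𝒜 with
  | zero => exact ⟨0, by simp⟩
  | add a a' ha ha' =>
    obtain ⟨l, hl⟩ := ha
    obtain ⟨l', hl'⟩ := ha'
    refine ⟨l + l', ?_⟩
    have : (a + a' - algebraMap k R (l + l')) ⊗ₜ[k] (1 : S) =
        (a - algebraMap k R l) ⊗ₜ[k] (1 : S) + (a' - algebraMap k R l') ⊗ₜ[k] (1 : S) := by
      rw [← TensorProduct.add_tmul, map_add]
      congr 1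
      ring
    rw [this]
    exact 𝔓.add_mem hl hl'
  | homogeneous a => exact key _ _ a.2

theorem exists_sub_mem_right (hposS : ∀ n : ℤ, n < 0 → ℬ n = ⊥)
    (h0S : ℬ 0 = Submodule.span k {(1 : S)}) (𝔓 : Ideal (R ⊗[k] S))
    (hno : ∀ e : ℕ, 0 < e → ∀ y ∈ ℬ e, (1 : R) ⊗ₜ[k] y ∈ 𝔓) (b : S) :
    ∃ l : k, (1 : R) ⊗ₜ[k] (b - algebraMap k S l) ∈ 𝔓 := by
  have key : ∀ (i : ℤ) (a : S), a ∈ ℬ i → ∃ l : k, (1 : R) ⊗ₜ[k] (a - algebraMap k S l) ∈ 𝔓 := by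
    intro i a h
    rcases lt_trichotomy i 0 with hi | hi | hi
    · rw [hposS i hi, Submodule.mem_bot] at h
      exact ⟨0, by simp [h]⟩
    · subst hi
      rw [h0S, Submodule.mem_span_singleton] at h
      obtain ⟨l, hl⟩ := h
      refine ⟨l, ?_⟩
      rw [← hl, Algebra.algebraMap_eq_smul_one, sub_self, TensorProduct.tmul_zero]
      exact 𝔓.zero_mem
    · obtain ⟨d, rfl⟩ := Int.eq_ofNat_of_zero_le hi.le
      refine ⟨0, ?_⟩
      rw [map_zero, sub_zero]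
      exact hno d (by exact_mod_cast hi) _ h
  induction b using DirectSum.Decomposition.inductionOn ℬ with
  | zero => exact ⟨0, by simp⟩
  | add a a' ha ha' =>
    obtain ⟨l, hl⟩ := ha
    obtain ⟨l', hl'⟩ := ha'
    refine ⟨l + l', ?_⟩
    have : (1 : R) ⊗ₜ[k] (a + a' - algebraMap k S (l + l')) =
        (1 : R) ⊗ₜ[k] (a - algebraMap k S l) + (1 : R) ⊗ₜ[k] (a' - algebraMap k S l') := by
      rw [← TensorProduct.tmul_add, map_add]
      congr 1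
      ring
    rw [this]
    exact 𝔓.add_mem hl hl'
  | homogeneous a => exact key _ _ a.2

/-- If all `x ⊗ 1` (`x` of positive degree) lie in the prime `𝔓 ⊇ R ⊗ J`, then
`dim (R ⊗ S) ⧸ 𝔓 ≤ dim S ⧸ J`. -/
theorem dim_le_right (hposR : ∀ n : ℤ, n < 0 → 𝒜 n = ⊥)
    (h0R : 𝒜 0 = Submodule.span k {(1 : R)}) (J : Ideal S) (𝔓 : Ideal (R ⊗[k] S))
    (hJ𝔓 : J.map (Algebra.TensorProduct.includeRight : S →ₐ[k] R ⊗[k] S) ≤ 𝔓)
    (hno : ∀ d : ℕ, 0 < d → ∀ x ∈ 𝒜 d, x ⊗ₜ[k] (1 : S) ∈ 𝔓) :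
    ringKrullDim ((R ⊗[k] S) ⧸ 𝔓) ≤ ringKrullDim (S ⧸ J) := by
  let g : S →+* (R ⊗[k] S) ⧸ 𝔓 := (Ideal.Quotient.mk 𝔓).comp
    (Algebra.TensorProduct.includeRight : S →ₐ[k] R ⊗[k] S).toRingHom
  have hg : ∀ b ∈ J, g b = 0 := by
    intro b hb
    change Ideal.Quotient.mk 𝔓 _ = 0
    rw [Ideal.Quotient.eq_zero_iff_mem]
    exact hJ𝔓 (Ideal.mem_map_of_mem _ hb)
  let f : S ⧸ J →+* (R ⊗[k] S) ⧸ 𝔓 := Ideal.Quotient.lift J g hg
  refine ringKrullDim_le_of_surjective f ?_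
  intro z
  obtain ⟨z, rfl⟩ := Ideal.Quotient.mk_surjective z
  induction z using TensorProduct.induction_on with
  | zero => exact ⟨0, by simp⟩
  | add x y hx hy =>
    obtain ⟨u, hu⟩ := hx
    obtain ⟨v, hv⟩ := hy
    exact ⟨u + v, by rw [map_add, hu, hv, map_add]⟩
  | tmul a b =>
    obtain ⟨l, hl⟩ := exists_sub_mem_left 𝒜 hposR h0R 𝔓 hno a
    refine ⟨Ideal.Quotient.mk J (l • b), ?_⟩
    change Ideal.Quotient.mk 𝔓 ((1 : R) ⊗ₜ[k] (l • b)) = _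
    rw [eq_comm, ← sub_eq_zero, ← map_sub, Ideal.Quotient.eq_zero_iff_mem]
    have : a ⊗ₜ[k] b - (1 : R) ⊗ₜ[k] (l • b) =
        (a - algebraMap k R l) ⊗ₜ[k] (1 : S) * (1 : R) ⊗ₜ[k] b := by
      rw [Algebra.TensorProduct.tmul_mul_tmul, mul_one, one_mul, TensorProduct.sub_tmul,
        TensorProduct.tmul_smul, Algebra.algebraMap_eq_smul_one, TensorProduct.smul_tmul']
    rw [this]
    exact 𝔓.mul_mem_right _ hl

theorem dim_le_left (hposS : ∀ n : ℤ, n < 0 → ℬ n = ⊥)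
    (h0S : ℬ 0 = Submodule.span k {(1 : S)}) (I : Ideal R) (𝔓 : Ideal (R ⊗[k] S))
    (hI𝔓 : I.map (Algebra.TensorProduct.includeLeft : R →ₐ[k] R ⊗[k] S) ≤ 𝔓)
    (hno : ∀ e : ℕ, 0 < e → ∀ y ∈ ℬ e, (1 : R) ⊗ₜ[k] y ∈ 𝔓) :
    ringKrullDim ((R ⊗[k] S) ⧸ 𝔓) ≤ ringKrullDim (R ⧸ I) := by
  let g : R →+* (R ⊗[k] S) ⧸ 𝔓 := (Ideal.Quotient.mk 𝔓).comp
    (Algebra.TensorProduct.includeLeft : R →ₐ[k] R ⊗[k] S).toRingHom
  have hg : ∀ b ∈ I, g b = 0 := by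
    intro b hb
    change Ideal.Quotient.mk 𝔓 _ = 0
    rw [Ideal.Quotient.eq_zero_iff_mem]
    exact hI𝔓 (Ideal.mem_map_of_mem _ hb)
  let f : R ⧸ I →+* (R ⊗[k] S) ⧸ 𝔓 := Ideal.Quotient.lift I g hg
  refine ringKrullDim_le_of_surjective f ?_
  intro z
  obtain ⟨z, rfl⟩ := Ideal.Quotient.mk_surjective z
  induction z using TensorProduct.induction_on with
  | zero => exact ⟨0, by simp⟩
  | add x y hx hy =>
    obtain ⟨u, hu⟩ := hx
    obtain ⟨v, hv⟩ := hy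
    exact ⟨u + v, by rw [map_add, hu, hv, map_add]⟩
  | tmul a b =>
    obtain ⟨l, hl⟩ := exists_sub_mem_right ℬ hposS h0S 𝔓 hno b
    refine ⟨Ideal.Quotient.mk I (l • a), ?_⟩
    change Ideal.Quotient.mk 𝔓 ((l • a) ⊗ₜ[k] (1 : S)) = _
    rw [eq_comm, ← sub_eq_zero, ← map_sub, Ideal.Quotient.eq_zero_iff_mem]
    have : a ⊗ₜ[k] b - (l • a) ⊗ₜ[k] (1 : S) =
        (1 : R) ⊗ₜ[k] (b - algebraMap k S l) * a ⊗ₜ[k] (1 : S) := by
      rw [Algebra.TensorProduct.tmul_mul_tmul, mul_one, one_mul, TensorProduct.tmul_sub,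
        Algebra.algebraMap_eq_smul_one, TensorProduct.tmul_smul, TensorProduct.smul_tmul']
    rw [this]
    exact 𝔓.mul_mem_right _ hl

end sides


section main

variable {k : Type u} [Field k] {R : Type u} [CommRing R] [Algebra k R]
  (𝒜 : ℤ → Submodule k R) [GradedAlgebra 𝒜] [Algebra.FiniteType k R]
  {S : Type u} [CommRing S] [Algebra k S]
  (ℬ : ℤ → Submodule k S) [GradedAlgebra ℬ] [Algebra.FiniteType k S]
  {T : Type u} [CommRing T] [Algebra k T] (𝒯 : ℤ → Submodule k T) [GradedAlgebra 𝒯]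
  (ψ : T →ₐ[k] R ⊗[k] S)

theorem finiteType_segre (hposR : ∀ n : ℤ, n < 0 → 𝒜 n = ⊥)
    (h0R : 𝒜 0 = Submodule.span k {(1 : R)}) (hposS : ∀ n : ℤ, n < 0 → ℬ n = ⊥)
    (h0S : ℬ 0 = Submodule.span k {(1 : S)}) (hψ : Function.Injective ψ)
    (hdegT : ∀ n : ℤ, (𝒯 n).map ψ.toLinearMap = biPiece 𝒜 ℬ n n) : Algebra.FiniteType k T := by
  haveI : IsNoetherianRing T :=
    Groth.Agent.S18646.result k R 𝒜 hposR h0R S ℬ hposS h0S T 𝒯 ψ hψ hdegT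
  exact SegFT.finiteType_of_noetherian_graded 𝒯
    (fun n hn => piece_eq_bot_of_neg hψ hdegT (hposR n hn)) (piece_zero_eq hψ hdegT h0R h0S)

/-- **The dimension of the Segre product** of `R ⧸ I` and `S ⧸ J`, realised as a quotient of
`T = R # S`. -/
theorem segre_dim (hposR : ∀ n : ℤ, n < 0 → 𝒜 n = ⊥)
    (h0R : 𝒜 0 = Submodule.span k {(1 : R)}) (hposS : ∀ n : ℤ, n < 0 → ℬ n = ⊥)
    (h0S : ℬ 0 = Submodule.span k {(1 : S)}) (hψ : Function.Injective ψ)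
    (hdegT : ∀ n : ℤ, (𝒯 n).map ψ.toLinearMap = biPiece 𝒜 ℬ n n)
    (I : Ideal R) (hI : I.IsHomogeneous 𝒜) (J : Ideal S) (hJ : J.IsHomogeneous ℬ) (r s : ℕ)
    (hr : ringKrullDim (R ⧸ I) = r) (hs : ringKrullDim (S ⧸ J) = s) (h1r : 1 ≤ r) (h1s : 1 ≤ s) :
    ringKrullDim (T ⧸ (tensorIdeal (k := k) I J).comap ψ) = ((r + s - 1 : ℕ) : WithBot ℕ∞) := by
  classical
  haveI : Algebra.FiniteType k T := finiteType_segre 𝒜 ℬ 𝒯 ψ hposR h0R hposS h0S hψ hdegT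
  haveI : Algebra.FiniteType k (R ⧸ I) :=
    Algebra.FiniteType.of_surjective (Ideal.Quotient.mkₐ k I) (Ideal.Quotient.mkₐ_surjective k I)
  haveI : Algebra.FiniteType k (S ⧸ J) :=
    Algebra.FiniteType.of_surjective (Ideal.Quotient.mkₐ k J) (Ideal.Quotient.mkₐ_surjective k J)
  haveI : Nontrivial (R ⧸ I) := by
    by_contra h
    rw [not_nontrivial_iff_subsingleton] at h
    rw [ringKrullDim_eq_bot_of_subsingleton] at hr
    exact absurd hr (by simp)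
  haveI : Nontrivial (S ⧸ J) := by
    by_contra h
    rw [not_nontrivial_iff_subsingleton] at h
    rw [ringKrullDim_eq_bot_of_subsingleton] at hs
    exact absurd hs (by simp)
  set 𝔞 : Ideal (R ⊗[k] S) := tensorIdeal (k := k) I J with h𝔞
  have hdimC : ringKrullDim ((R ⊗[k] S) ⧸ 𝔞) = ((r + s : ℕ) : WithBot ℕ∞) := by
    rw [ringKrullDim_eq_of_ringEquiv (quotEquiv I J)]
    exact ringKrullDim_tensorProduct k (R ⧸ I) (S ⧸ J) hr hs
  have h𝔞hom : 𝔞.IsHomogeneous (wt 𝒜 ℬ) := tensorIdeal_isHomogeneous 𝒜 ℬ hI hJ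
  -- upper bound
  have hup : ringKrullDim (T ⧸ 𝔞.comap ψ) ≤ ((r + s - 1 : ℕ) : WithBot ℕ∞) := by
    refine SegUpper.upper (wt 𝒜 ℬ) ψ (map_mem_wt_zero hdegT) 𝔞 h𝔞hom ?_ (r + s) hdimC (by omega)
    intro 𝔔 _ _ _ hw t
    exact exists_sub_mem_of_wt_zero h0R h0S 𝔔 hw (map_mem_wt_zero hdegT t)
  -- lower bound
  obtain ⟨𝔓, h𝔓min, h𝔓d⟩ := helper11.DimChain.exists_minimalPrimes_dim_eq 𝔞 (r + s) hdimC
  haveI h𝔓p : 𝔓.IsPrime := h𝔓min.1.1
  have h𝔞𝔓 : 𝔞 ≤ 𝔓 := h𝔓min.1.2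
  have hI𝔓 : I.map (Algebra.TensorProduct.includeLeft : R →ₐ[k] R ⊗[k] S) ≤ 𝔓 :=
    le_trans le_sup_left h𝔞𝔓
  have hJ𝔓 : J.map (Algebra.TensorProduct.includeRight : S →ₐ[k] R ⊗[k] S) ≤ 𝔓 :=
    le_trans le_sup_right h𝔞𝔓
  have hx : ∃ d : ℕ, 0 < d ∧ ∃ x ∈ 𝒜 d, x ⊗ₜ[k] (1 : S) ∉ 𝔓 := by
    by_contra hno
    push Not at hno
    have := dim_le_right 𝒜 hposR h0R J 𝔓 hJ𝔓 hno
    rw [h𝔓d, hs] at this
    have : r + s ≤ s := by exact_mod_cast this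
    omega
  have hy : ∃ e : ℕ, 0 < e ∧ ∃ y ∈ ℬ e, (1 : R) ⊗ₜ[k] y ∉ 𝔓 := by
    by_contra hno
    push Not at hno
    have := dim_le_left ℬ hposS h0S I 𝔓 hI𝔓 hno
    rw [h𝔓d, hr] at this
    have : r + s ≤ r := by exact_mod_cast this
    omega
  obtain ⟨d, hd, x, hx, hx𝔓⟩ := hx
  obtain ⟨e, he, y, hy, hy𝔓⟩ := hy
  have hlow := SegLower.lower 𝒜 ℬ ψ hposR hposS (exists_map_eq_tmul hdegT) 𝔓 hd he hx hy hx𝔓 hy𝔓
  have hmono : ringKrullDim (T ⧸ 𝔓.comap ψ) ≤ ringKrullDim (T ⧸ 𝔞.comap ψ) :=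
    helper11.DimChain.ringKrullDim_quotient_mono (Ideal.comap_mono h𝔞𝔓)
  rw [h𝔓d] at hlow
  have hlow' : ((r + s : ℕ) : WithBot ℕ∞) ≤ ringKrullDim (T ⧸ 𝔞.comap ψ) + 1 :=
    hlow.trans (add_le_add_left hmono 1)
  -- conclude
  have hcomap : 𝔞.comap ψ ≠ ⊤ := by
    intro h
    rw [h] at hlow'
    haveI : Subsingleton (T ⧸ (⊤ : Ideal T)) := Ideal.Quotient.subsingleton_iff.2 rfl
    rw [ringKrullDim_eq_bot_of_subsingleton] at hlow'
    simp at hlow'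
  haveI : Nontrivial (T ⧸ 𝔞.comap ψ) := Ideal.Quotient.nontrivial_iff.2 hcomap
  obtain ⟨m, hm⟩ := exists_dim_eq k (T ⧸ 𝔞.comap ψ)
  rw [hm] at hup hlow' ⊢
  have h1 : m ≤ r + s - 1 := by exact_mod_cast hup
  have h2 : r + s ≤ m + 1 := by exact_mod_cast hlow'
  have : m = r + s - 1 := by omega
  rw [this]

end main


section ring

variable {k : Type u} [Field k] {R : Type u} [CommRing R] [Algebra k R]
  (𝒜 : ℤ → Submodule k R) [GradedAlgebra 𝒜] [Algebra.FiniteType k R]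
  {S : Type u} [CommRing S] [Algebra k S]
  (ℬ : ℤ → Submodule k S) [GradedAlgebra ℬ] [Algebra.FiniteType k S]
  {T : Type u} [CommRing T] [Algebra k T] (𝒯 : ℤ → Submodule k T) [GradedAlgebra 𝒯]
  (ψ : T →ₐ[k] R ⊗[k] S)

/-- The dimension of the Segre product `R # S`. -/
theorem ringKrullDim_segre (hposR : ∀ n : ℤ, n < 0 → 𝒜 n = ⊥)
    (h0R : 𝒜 0 = Submodule.span k {(1 : R)}) (hposS : ∀ n : ℤ, n < 0 → ℬ n = ⊥)
    (h0S : ℬ 0 = Submodule.span k {(1 : S)}) (hψ : Function.Injective ψ)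
    (hdegT : ∀ n : ℤ, (𝒯 n).map ψ.toLinearMap = biPiece 𝒜 ℬ n n) (r s : ℕ)
    (hr : ringKrullDim R = r) (hs : ringKrullDim S = s) (h1r : 1 ≤ r) (h1s : 1 ≤ s) :
    ringKrullDim T = ((r + s - 1 : ℕ) : WithBot ℕ∞) := by
  have hr' : ringKrullDim (R ⧸ (⊥ : Ideal R)) = r := by
    rw [ringKrullDim_eq_of_ringEquiv (RingEquiv.quotientBot R)]
    exact hr
  have hs' : ringKrullDim (S ⧸ (⊥ : Ideal S)) = s := by
    rw [ringKrullDim_eq_of_ringEquiv (RingEquiv.quotientBot S)]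
    exact hs
  have := segre_dim 𝒜 ℬ 𝒯 ψ hposR h0R hposS h0S hψ hdegT ⊥ (Ideal.IsHomogeneous.bot 𝒜) ⊥
    (Ideal.IsHomogeneous.bot ℬ) r s hr' hs' h1r h1s
  have hbot : (tensorIdeal (k := k) (⊥ : Ideal R) (⊥ : Ideal S)).comap ψ = ⊥ := by
    rw [tensorIdeal, Ideal.map_bot, Ideal.map_bot, sup_bot_eq]
    exact Ideal.comap_bot_of_injective ψ.toRingHom hψ
  rw [hbot, ringKrullDim_eq_of_ringEquiv (RingEquiv.quotientBot T)] at this
  exact this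

end ring

end Groth.Agent.Lib.Helper20.SegDim
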