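import Mathlib
import Groth.Prelude.Def_GrSeg
import Groth.Agent.Lib.Helper20.SegDim

/-!
# Segre products of modules: bounds for the dimension of the support
-/

set_option autoImplicit false
universe u
open scoped TensorProduct

namespace Groth.Agent.Lib.Helper20.SegMod

open Groth.Agent.Lib.Helper20.SegDim GrSeg

section act

variable {k : Type u} [Field k] {R S : Type u} [CommRing R] [CommRing S] [Algebra k R]
  [Algebra k S] {M N : Type u} [AddCommGroup M] [Module R M] [Module k M] [IsScalarTower k R M]
  [AddCommGroup N] [Module S N] [Module k N] [IsScalarTower k S N]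

theorem act_mul (c c' : R ⊗[k] S) (z : M ⊗[k] N) :
    act k R S M N (c * c') z = act k R S M N c (act k R S M N c' z) := by
  induction z using TensorProduct.induction_on with
  | zero => simp
  | add x y hx hy => simp only [map_add, hx, hy]
  | tmul m n =>
    induction c using TensorProduct.induction_on with
    | zero => simp
    | add x y hx hy => simp only [add_mul, map_add, LinearMap.add_apply, hx, hy]
    | tmul r s =>
      induction c' using TensorProduct.induction_on with
      | zero => simp
      | add x y hx hy => simp only [mul_add, map_add, LinearMap.add_apply, hx, hy]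
      | tmul r' s' =>
        rw [Algebra.TensorProduct.tmul_mul_tmul, act_tmul, act_tmul, act_tmul, mul_smul, mul_smul]

/-- the elements of `R ⊗ S` acting as zero on `M ⊗ N` -/
def actKer : Ideal (R ⊗[k] S) where
  carrier := {c | act k R S M N c = 0}
  add_mem' := by
    intro c c' hc hc'
    simp only [Set.mem_setOf_eq] at hc hc' ⊢
    rw [map_add, hc, hc', add_zero]
  zero_mem' := by simp
  smul_mem' := by
    intro c c' hc'
    simp only [Set.mem_setOf_eq] at hc' ⊢
    refine LinearMap.ext fun z => ?_
    rw [smul_eq_mul, act_mul, hc']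
    simp

theorem mem_actKer {c : R ⊗[k] S} :
    c ∈ actKer (k := k) (M := M) (N := N) ↔ act k R S M N c = 0 := Iff.rfl

theorem tensorIdeal_le_actKer (I : Ideal R) (hI : ∀ r ∈ I, ∀ m : M, r • m = 0) (J : Ideal S)
    (hJ : ∀ s ∈ J, ∀ n : N, s • n = 0) :
    tensorIdeal (k := k) I J ≤ actKer (k := k) (M := M) (N := N) := by
  refine sup_le ?_ ?_
  · rw [Ideal.map_le_iff_le_comap]
    intro r hr
    rw [Ideal.mem_comap, mem_actKer]
    apply TensorProduct.ext'
    intro m n
    change act k R S M N (r ⊗ₜ[k] (1 : S)) (m ⊗ₜ[k] n) = 0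
    rw [act_tmul, hI r hr, TensorProduct.zero_tmul]
  · rw [Ideal.map_le_iff_le_comap]
    intro s hs
    rw [Ideal.mem_comap, mem_actKer]
    apply TensorProduct.ext'
    intro m n
    change act k R S M N ((1 : R) ⊗ₜ[k] s) (m ⊗ₜ[k] n) = 0
    rw [act_tmul, hJ s hs, TensorProduct.tmul_zero]

/-- The kernel of `c ↦ c • (a ⊗ b)` is `ann a ⊗ S + R ⊗ ann b`. -/
theorem mem_tensorIdeal_of_act_eq_zero (a : M) (b : N) (c : R ⊗[k] S)
    (hc : act k R S M N c (a ⊗ₜ[k] b) = 0) :
    c ∈ tensorIdeal (k := k) (LinearMap.ker (LinearMap.toSpanSingleton R M a))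
      (LinearMap.ker (LinearMap.toSpanSingleton S N b)) := by
  set I : Ideal R := LinearMap.ker (LinearMap.toSpanSingleton R M a) with hI
  set J : Ideal S := LinearMap.ker (LinearMap.toSpanSingleton S N b) with hJ
  -- the injective maps `R ⧸ I → M`, `S ⧸ J → N`
  let f' : R ⧸ I →ₗ[R] M := Submodule.liftQ I (LinearMap.toSpanSingleton R M a) le_rfl
  let g' : S ⧸ J →ₗ[S] N := Submodule.liftQ J (LinearMap.toSpanSingleton S N b) le_rfl
  have hf' : Function.Injective f' := by
    rw [← LinearMap.ker_eq_bot]
    exact Submodule.ker_liftQ_eq_bot _ _ _ le_rfl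
  have hg' : Function.Injective g' := by
    rw [← LinearMap.ker_eq_bot]
    exact Submodule.ker_liftQ_eq_bot _ _ _ le_rfl
  have hinj : Function.Injective
      (TensorProduct.map (f'.restrictScalars k) (g'.restrictScalars k)) :=
    TensorProduct.map_injective_of_flat_flat _ _ hf' hg'
  rw [tensorIdeal_eq_ker, RingHom.mem_ker]
  apply hinj
  rw [map_zero, ← hc]
  clear hc
  induction c using TensorProduct.induction_on with
  | zero => simp
  | add x y hx hy => simp only [map_add, LinearMap.add_apply, hx, hy]
  | tmul r s =>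
    rw [act_tmul]
    change TensorProduct.map (f'.restrictScalars k) (g'.restrictScalars k)
      ((Ideal.Quotient.mk I r) ⊗ₜ[k] (Ideal.Quotient.mk J s)) = _
    rw [TensorProduct.map_tmul]
    rfl

end act


section bounds

variable {k : Type u} [Field k] {R S T : Type u} [CommRing R] [CommRing S] [CommRing T]
  [Algebra k R] [Algebra k S] [Algebra k T]
  {M N P : Type u} [AddCommGroup M] [Module R M] [Module k M] [IsScalarTower k R M]
  [AddCommGroup N] [Module S N] [Module k N] [IsScalarTower k S N]
  [AddCommGroup P] [Module T P] [Module k P] [IsScalarTower k T P]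
  {ψ : T →ₐ[k] R ⊗[k] S} {φ : P →ₗ[k] M ⊗[k] N}

/-- **Upper bound for the support.** -/
theorem supportDim_le (hinj : Function.Injective φ)
    (hsmul : ∀ (t : T) (p : P), φ (t • p) = act k R S M N (ψ t) (φ p))
    (I : Ideal R) (hI : ∀ r ∈ I, ∀ m : M, r • m = 0) (J : Ideal S)
    (hJ : ∀ s ∈ J, ∀ n : N, s • n = 0) :
    Module.supportDim T P ≤ ringKrullDim (T ⧸ (tensorIdeal (k := k) I J).comap ψ) := by
  have hann : (tensorIdeal (k := k) I J).comap ψ ≤ Module.annihilator T P := by
    intro t ht
    rw [Module.mem_annihilator]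
    intro p
    apply hinj
    rw [hsmul, map_zero]
    have : ψ t ∈ actKer (k := k) (M := M) (N := N) := tensorIdeal_le_actKer I hI J hJ ht
    rw [mem_actKer] at this
    rw [this]
    rfl
  rw [ringKrullDim_quotient, Module.supportDim]
  refine Order.krullDim_le_of_strictMono (fun q => ⟨q.1, ?_⟩) (fun _ _ h => h)
  rw [PrimeSpectrum.mem_zeroLocus]
  exact fun t ht => Module.annihilator_le_of_mem_support q.2 (hann ht)

/-- **Lower bound for the support.** -/
theorem le_supportDim
    (hsmul : ∀ (t : T) (p : P), φ (t • p) = act k R S M N (ψ t) (φ p))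
    (a : M) (b : N) (p : P) (hp : φ p = a ⊗ₜ[k] b) :
    ringKrullDim (T ⧸ (tensorIdeal (k := k) (LinearMap.ker (LinearMap.toSpanSingleton R M a))
      (LinearMap.ker (LinearMap.toSpanSingleton S N b))).comap ψ) ≤ Module.supportDim T P := by
  rw [ringKrullDim_quotient, Module.supportDim]
  refine Order.krullDim_le_of_strictMono (fun q => ⟨q.1, ?_⟩) (fun _ _ h => h)
  rw [Module.mem_support_iff_exists_annihilator]
  refine ⟨p, fun t ht => ?_⟩
  rw [Submodule.mem_annihilator_span_singleton] at ht
  have hq := q.2
  rw [PrimeSpectrum.mem_zeroLocus] at hq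
  apply hq
  rw [SetLike.mem_coe, Ideal.mem_comap]
  apply mem_tensorIdeal_of_act_eq_zero
  rw [← hp, ← hsmul, ht, map_zero]

end bounds

end Groth.Agent.Lib.Helper20.SegMod
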