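import Mathlib
import Groth.Prelude.Def_GrSeg
import Groth.Agent.Lib.Helper20.SegMod

/-!
# The number of generators of `R(a) # S(b)` for `a ≥ b`
-/

set_option autoImplicit false
set_option linter.unusedSectionVars false
universe u
open scoped TensorProduct

namespace Groth.Agent.Lib.Helper20.SegShift

open Groth.Agent.Lib.Helper20.SegDim Groth.Agent.Lib.Helper20.SegMod
  Groth.Agent.Lib.Helper20.SegWeight GrSeg

section Std

variable {k : Type u} [Field k] {R : Type u} [CommRing R] [Algebra k R]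
  (𝒜 : ℤ → Submodule k R) [GradedAlgebra 𝒜]

/-- In a standard graded ring, elements of positive degree `n` are sums of products of elements
of degree `1` and `n - 1`. -/
theorem exists_sum_mul_of_std
    (hstd : Ideal.span (⋃ n ∈ Set.Ioi (0 : ℤ), (𝒜 n : Set R)) =
      Ideal.span ((𝒜 1 : Submodule k R) : Set R)) {n : ℤ} (hn : 0 < n) {x : R} (hx : x ∈ 𝒜 n) :
    ∃ (t : Finset R) (c : R → R), (∀ u ∈ t, u ∈ 𝒜 1) ∧ (∀ u, c u ∈ 𝒜 (n - 1)) ∧
      x = ∑ u ∈ t, c u * u := by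
  classical
  have h1 : x ∈ Ideal.span ((𝒜 1 : Submodule k R) : Set R) := by
    rw [← hstd]
    exact Ideal.subset_span (Set.mem_iUnion₂.2 ⟨n, hn, hx⟩)
  obtain ⟨f, t, ht, -, hsum⟩ := Submodule.mem_span_iff_exists_finset_subset.1 h1
  refine ⟨t, fun u => (DirectSum.decompose 𝒜 (f u) (n - 1) : R), fun u hu => ht hu,
    fun u => SetLike.coe_mem _, ?_⟩
  conv_lhs => rw [← DirectSum.decompose_of_mem_same 𝒜 hx, ← hsum]
  rw [DirectSum.decompose_sum, DFinsupp.finset_sum_apply, AddSubmonoidClass.coe_finset_sum]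
  refine Finset.sum_congr rfl fun u hu => ?_
  have := DirectSum.coe_decompose_mul_add_of_right_mem 𝒜 (i := n - 1) (a := f u) (ht hu)
  rw [sub_add_cancel] at this
  simpa [smul_eq_mul] using this

end Std

section Main

variable {k : Type u} [Field k] {R : Type u} [CommRing R] [Algebra k R]
  (𝒜 : ℤ → Submodule k R) [GradedAlgebra 𝒜]
  {S : Type u} [CommRing S] [Algebra k S] (ℬ : ℤ → Submodule k S) [GradedAlgebra ℬ]

theorem act_eq_mul (c z : R ⊗[k] S) : act k R S R S c z = c * z := by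
  induction z using TensorProduct.induction_on with
  | zero => simp
  | add x y hx hy => simp only [map_add, hx, hy, mul_add]
  | tmul m n =>
    induction c using TensorProduct.induction_on with
    | zero => simp
    | add x y hx hy => simp only [add_mul, map_add, LinearMap.add_apply, hx, hy]
    | tmul r s => rw [act_tmul, Algebra.TensorProduct.tmul_mul_tmul, smul_eq_mul, smul_eq_mul]

omit [GradedAlgebra 𝒜] [GradedAlgebra ℬ] in
theorem biPiece_eq_bot_right {i j : ℤ} (h : ℬ j = ⊥) : biPiece 𝒜 ℬ i j = ⊥ := by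
  rw [eq_bot_iff]
  refine Submodule.span_le.2 ?_
  rintro _ ⟨x, -, y, hy, rfl⟩
  rw [h, Submodule.mem_bot] at hy
  subst hy
  simp

theorem mul_mem_biPiece {i j i' j' : ℤ} {c z : R ⊗[k] S} (hc : c ∈ biPiece 𝒜 ℬ i j)
    (hz : z ∈ biPiece 𝒜 ℬ i' j') : c * z ∈ biPiece 𝒜 ℬ (i + i') (j + j') := by
  have h := Submodule.mul_mem_mul hc hz
  unfold biPiece at h
  rw [Submodule.span_mul_span] at h
  refine (Submodule.span_le.2 ?_) h
  rintro _ ⟨_, ⟨x, hx, y, hy, rfl⟩, _, ⟨x', hx', y', hy', rfl⟩, rfl⟩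
  simp only [Algebra.TensorProduct.tmul_mul_tmul]
  exact tmul_mem_biPiece (SetLike.GradedMul.mul_mem hx hx') (SetLike.GradedMul.mul_mem hy hy')

/-- the projection of `R ⊗ S` onto `R_{a-b} ⊗ S_0` -/
noncomputable def G (a b : ℤ) : R ⊗[k] S →ₗ[k] R ⊗[k] S :=
  TensorProduct.map (GradedAlgebra.proj 𝒜 (a - b)) (GradedAlgebra.proj ℬ 0)

theorem G_eq_zero (a b : ℤ) {i j : ℤ} (hj : j ≠ 0) {z : R ⊗[k] S} (hz : z ∈ biPiece 𝒜 ℬ i j) :
    G 𝒜 ℬ a b z = 0 := by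
  induction hz using Submodule.span_induction with
  | mem z hz =>
    obtain ⟨x, hx, y, hy, rfl⟩ := hz
    rw [G, TensorProduct.map_tmul, GradedAlgebra.proj_apply ℬ, DirectSum.decompose_of_mem_ne ℬ hy hj,
      TensorProduct.tmul_zero]
  | zero => simp
  | add x y _ _ hx hy => rw [map_add, hx, hy, add_zero]
  | smul c x _ hx => rw [map_smul, hx, smul_zero]

theorem G_eq_self (a b : ℤ) {z : R ⊗[k] S} (hz : z ∈ biPiece 𝒜 ℬ (a - b) 0) :
    G 𝒜 ℬ a b z = z := by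
  induction hz using Submodule.span_induction with
  | mem z hz =>
    obtain ⟨x, hx, y, hy, rfl⟩ := hz
    rw [G, TensorProduct.map_tmul, GradedAlgebra.proj_apply ℬ, DirectSum.decompose_of_mem_same ℬ hy,
      GradedAlgebra.proj_apply 𝒜, DirectSum.decompose_of_mem_same 𝒜 hx]
  | zero => simp
  | add x y _ _ hx hy => rw [map_add, hx, hy]
  | smul c x _ hx => rw [map_smul, hx]

/-- `x ↦ x ⊗ 1` -/
noncomputable def incl : R →ₗ[k] R ⊗[k] S :=
  (Algebra.TensorProduct.includeLeft (R := k) (S := k) (A := R) (B := S)).toLinearMap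

omit [GradedAlgebra 𝒜] [GradedAlgebra ℬ] in
theorem incl_apply (x : R) : incl (k := k) (S := S) x = x ⊗ₜ[k] (1 : S) := rfl

theorem G_mem (h0S : ℬ 0 = Submodule.span k {(1 : S)}) (a b : ℤ) (z : R ⊗[k] S) :
    G 𝒜 ℬ a b z ∈ (𝒜 (a - b)).map (incl (k := k) (S := S)) := by
  induction z using TensorProduct.induction_on with
  | zero => simp
  | add x y hx hy => rw [map_add]; exact Submodule.add_mem _ hx hy
  | tmul x y =>
    rw [G, TensorProduct.map_tmul, GradedAlgebra.proj_apply ℬ, GradedAlgebra.proj_apply 𝒜]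
    have hy : ((DirectSum.decompose ℬ y) 0 : S) ∈ Submodule.span k {(1 : S)} :=
      h0S ▸ SetLike.coe_mem _
    rw [Submodule.mem_span_singleton] at hy
    obtain ⟨c, hc⟩ := hy
    rw [← hc, TensorProduct.tmul_smul, TensorProduct.smul_tmul']
    exact ⟨c • ((DirectSum.decompose 𝒜 x) (a - b) : R),
      Submodule.smul_mem _ c (SetLike.coe_mem _), rfl⟩

variable {T : Type u} [CommRing T] [Algebra k T] (𝒯 : ℤ → Submodule k T) [GradedAlgebra 𝒯]
  (ψ : T →ₐ[k] R ⊗[k] S)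
  {P : Type u} [AddCommGroup P] [Module T P] [Module k P] [IsScalarTower k T P]
  (𝒬 : ℤ → AddSubgroup P) [DirectSum.Decomposition 𝒬] (φ : P →ₗ[k] R ⊗[k] S) (a b : ℤ)

theorem phi_mem (hP : IsSegreMod ψ (fun n : ℤ => 𝒜 (n + a)) (fun n : ℤ => ℬ (n + b)) 𝒬 φ) {n : ℤ}
    {p : P} (hp : p ∈ 𝒬 n) : φ p ∈ biPiece 𝒜 ℬ (n + a) (n + b) := by
  have h : φ p ∈ φ '' (𝒬 n : Set P) := ⟨p, hp, rfl⟩
  rw [hP.image_piece n] at h
  exact h

theorem exists_phi_eq (hP : IsSegreMod ψ (fun n : ℤ => 𝒜 (n + a)) (fun n : ℤ => ℬ (n + b)) 𝒬 φ)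
    {n : ℤ} {z : R ⊗[k] S} (hz : z ∈ biPiece 𝒜 ℬ (n + a) (n + b)) : ∃ p ∈ 𝒬 n, φ p = z := by
  have h : z ∈ (segrePiece k (fun n : ℤ => 𝒜 (n + a)) (fun n : ℤ => ℬ (n + b)) n :
      Set (R ⊗[k] S)) := hz
  rw [← hP.image_piece n] at h
  exact h

/-- `g = G ∘ φ` kills `T_j P` for `j > 0`. -/
theorem G_phi_smul (hposS : ∀ n : ℤ, n < 0 → ℬ n = ⊥)
    (hdegT : ∀ n : ℤ, (𝒯 n).map ψ.toLinearMap = biPiece 𝒜 ℬ n n)
    (hP : IsSegreMod ψ (fun n : ℤ => 𝒜 (n + a)) (fun n : ℤ => ℬ (n + b)) 𝒬 φ) {j : ℤ} (hj : 0 < j)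
    {t : T} (ht : t ∈ 𝒯 j) (p : P) : G 𝒜 ℬ a b (φ (t • p)) = 0 := by
  classical
  have hψt : ψ t ∈ biPiece 𝒜 ℬ j j := by
    rw [← hdegT j]
    exact Submodule.mem_map_of_mem ht
  induction p using DirectSum.Decomposition.inductionOn 𝒬 with
  | zero => simp
  | add p q hp hq => rw [smul_add, map_add, map_add, hp, hq, add_zero]
  | homogeneous p =>
    rename_i n
    rw [hP.map_smul, act_eq_mul]
    have hz := phi_mem 𝒜 ℬ ψ 𝒬 φ a b hP p.2
    by_cases h0 : j + (n + b) = 0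
    · have hbot : biPiece 𝒜 ℬ (n + a) (n + b) = ⊥ :=
        biPiece_eq_bot_right 𝒜 ℬ (hposS _ (by omega))
      rw [hbot, Submodule.mem_bot] at hz
      rw [hz, mul_zero, map_zero]
    · exact G_eq_zero 𝒜 ℬ a b h0 (mul_mem_biPiece 𝒜 ℬ hψt hz)

theorem G_phi_eq (hP : IsSegreMod ψ (fun n : ℤ => 𝒜 (n + a)) (fun n : ℤ => ℬ (n + b)) 𝒬 φ)
    (p : P) : G 𝒜 ℬ a b (φ p) = φ (DirectSum.decompose 𝒬 p (-b) : P) := by
  classical
  induction p using DirectSum.Decomposition.inductionOn 𝒬 with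
  | zero => simp
  | add p q hp hq =>
    rw [map_add, map_add, hp, hq, DirectSum.decompose_add, DirectSum.add_apply,
      AddSubgroup.coe_add, map_add]
  | homogeneous p =>
    rename_i n
    have hz := phi_mem 𝒜 ℬ ψ 𝒬 φ a b hP p.2
    by_cases hn : n = -b
    · subst hn
      rw [DirectSum.decompose_of_mem_same 𝒬 p.2]
      apply G_eq_self
      have : -b + a = a - b := by ring
      rwa [this, neg_add_cancel] at hz
    · rw [DirectSum.decompose_of_mem_ne 𝒬 p.2 hn, map_zero]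
      exact G_eq_zero 𝒜 ℬ a b (by omega) hz

theorem eq_zero_of_lt (hposS : ∀ n : ℤ, n < 0 → ℬ n = ⊥)
    (hP : IsSegreMod ψ (fun n : ℤ => 𝒜 (n + a)) (fun n : ℤ => ℬ (n + b)) 𝒬 φ) {n : ℤ}
    (hn : n < -b) {p : P} (hp : p ∈ 𝒬 n) : p = 0 := by
  have hz := phi_mem 𝒜 ℬ ψ 𝒬 φ a b hP hp
  rw [biPiece_eq_bot_right 𝒜 ℬ (hposS _ (by omega)), Submodule.mem_bot] at hz
  exact hP.injective (by rw [hz, map_zero])

variable (mT : Ideal T)

theorem mem_smul_top_of_gt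
    (hstdR : Ideal.span (⋃ n ∈ Set.Ioi (0 : ℤ), (𝒜 n : Set R)) =
      Ideal.span ((𝒜 1 : Submodule k R) : Set R))
    (hstdS : Ideal.span (⋃ n ∈ Set.Ioi (0 : ℤ), (ℬ n : Set S)) =
      Ideal.span ((ℬ 1 : Submodule k S) : Set S))
    (hdegT : ∀ n : ℤ, (𝒯 n).map ψ.toLinearMap = biPiece 𝒜 ℬ n n)
    (hmT : mT = Ideal.span (⋃ n ∈ Set.Ioi (0 : ℤ), (𝒯 n : Set T))) (hab : b ≤ a)
    (hP : IsSegreMod ψ (fun n : ℤ => 𝒜 (n + a)) (fun n : ℤ => ℬ (n + b)) 𝒬 φ) {n : ℤ}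
    (hn : -b < n) {p : P} (hp : p ∈ 𝒬 n) : p ∈ mT • (⊤ : Submodule T P) := by
  classical
  have hz := phi_mem 𝒜 ℬ ψ 𝒬 φ a b hP hp
  let Qimg : Submodule k (R ⊗[k] S) :=
    ((mT • (⊤ : Submodule T P)).restrictScalars k).map φ
  have hle : biPiece 𝒜 ℬ (n + a) (n + b) ≤ Qimg := by
    refine Submodule.span_le.2 ?_
    rintro _ ⟨x, hx, y, hy, rfl⟩
    obtain ⟨tx, cx, htx, hcx, rfl⟩ := exists_sum_mul_of_std 𝒜 hstdR (by omega : 0 < n + a) hx
    obtain ⟨ty, cy, hty, hcy, rfl⟩ := exists_sum_mul_of_std ℬ hstdS (by omega : 0 < n + b) hy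
    rw [TensorProduct.sum_tmul]
    refine Submodule.sum_mem _ fun u hu => ?_
    rw [TensorProduct.tmul_sum]
    refine Submodule.sum_mem _ fun v hv => ?_
    have e : (cx u * u) ⊗ₜ[k] (cy v * v) = (u ⊗ₜ[k] v) * (cx u ⊗ₜ[k] cy v) := by
      rw [Algebra.TensorProduct.tmul_mul_tmul, mul_comm u, mul_comm v]
    obtain ⟨t, ht, hψt⟩ : ∃ t ∈ 𝒯 1, ψ t = u ⊗ₜ[k] v := by
      have : u ⊗ₜ[k] v ∈ (𝒯 1).map ψ.toLinearMap := by
        rw [hdegT 1]
        exact tmul_mem_biPiece (htx u hu) (hty v hv)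
      obtain ⟨t, ht, h⟩ := this
      exact ⟨t, ht, h⟩
    have hmem : cx u ⊗ₜ[k] cy v ∈ biPiece 𝒜 ℬ (n - 1 + a) (n - 1 + b) := by
      have h1 : n - 1 + a = n + a - 1 := by ring
      have h2 : n - 1 + b = n + b - 1 := by ring
      rw [h1, h2]
      exact tmul_mem_biPiece (hcx u) (hcy v)
    obtain ⟨q, hq, hφq⟩ := exists_phi_eq 𝒜 ℬ ψ 𝒬 φ a b hP hmem
    refine ⟨t • q, Submodule.smul_mem_smul ?_ Submodule.mem_top, ?_⟩
    · rw [hmT]
      exact Ideal.subset_span (Set.mem_iUnion₂.2 ⟨1, Set.mem_Ioi.2 one_pos, ht⟩)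
    · show φ (t • q) = _
      rw [hP.map_smul, act_eq_mul, hψt, hφq, e]
  obtain ⟨q, hq, hqp⟩ := hle hz
  rw [← hP.injective hqp]
  exact hq

theorem ker_eq (hposS : ∀ n : ℤ, n < 0 → ℬ n = ⊥)
    (hstdR : Ideal.span (⋃ n ∈ Set.Ioi (0 : ℤ), (𝒜 n : Set R)) =
      Ideal.span ((𝒜 1 : Submodule k R) : Set R))
    (hstdS : Ideal.span (⋃ n ∈ Set.Ioi (0 : ℤ), (ℬ n : Set S)) =
      Ideal.span ((ℬ 1 : Submodule k S) : Set S))
    (hdegT : ∀ n : ℤ, (𝒯 n).map ψ.toLinearMap = biPiece 𝒜 ℬ n n)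
    (hmT : mT = Ideal.span (⋃ n ∈ Set.Ioi (0 : ℤ), (𝒯 n : Set T))) (hab : b ≤ a)
    (hP : IsSegreMod ψ (fun n : ℤ => 𝒜 (n + a)) (fun n : ℤ => ℬ (n + b)) 𝒬 φ) :
    (mT • (⊤ : Submodule T P)).restrictScalars k = LinearMap.ker ((G 𝒜 ℬ a b).comp φ) := by
  classical
  apply le_antisymm
  · intro x hx
    rw [Submodule.restrictScalars_mem] at hx
    rw [LinearMap.mem_ker, LinearMap.comp_apply]
    refine Submodule.smul_induction_on (p := fun x => G 𝒜 ℬ a b (φ x) = 0) hx ?_ ?_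
    · rintro r hr p -
      show G 𝒜 ℬ a b (φ (r • p)) = 0
      rw [hmT] at hr
      induction hr using Submodule.span_induction generalizing p with
      | mem r hr =>
        obtain ⟨j, hj, hr⟩ := Set.mem_iUnion₂.1 hr
        exact G_phi_smul 𝒜 ℬ 𝒯 ψ 𝒬 φ a b hposS hdegT hP hj hr p
      | zero => simp
      | add r r' _ _ hr hr' => rw [add_smul, map_add, map_add, hr, hr', add_zero]
      | smul c r _ hr => rw [smul_eq_mul, mul_comm, mul_smul]; exact hr _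
    · intro x y hx hy
      rw [map_add, map_add, hx, hy, add_zero]
  · intro p hp
    rw [LinearMap.mem_ker, LinearMap.comp_apply, G_phi_eq 𝒜 ℬ ψ 𝒬 φ a b hP] at hp
    have h0 : (DirectSum.decompose 𝒬 p (-b) : P) = 0 := hP.injective (by rw [hp, map_zero])
    rw [Submodule.restrictScalars_mem, ← DirectSum.sum_support_decompose 𝒬 p]
    refine Submodule.sum_mem _ fun i _ => ?_
    rcases lt_trichotomy i (-b) with hi | hi | hi
    · rw [eq_zero_of_lt 𝒜 ℬ ψ 𝒬 φ a b hposS hP hi (SetLike.coe_mem _)]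
      exact Submodule.zero_mem _
    · rw [hi, h0]
      exact Submodule.zero_mem _
    · exact mem_smul_top_of_gt 𝒜 ℬ 𝒯 ψ 𝒬 φ a b mT hstdR hstdS hdegT hmT hab hP hi
        (SetLike.coe_mem _)

theorem range_eq (h0S : ℬ 0 = Submodule.span k {(1 : S)})
    (hP : IsSegreMod ψ (fun n : ℤ => 𝒜 (n + a)) (fun n : ℤ => ℬ (n + b)) 𝒬 φ) :
    LinearMap.range ((G 𝒜 ℬ a b).comp φ) = (𝒜 (a - b)).map (incl (k := k) (S := S)) := by
  apply le_antisymm
  · rintro _ ⟨p, rfl⟩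
    exact G_mem 𝒜 ℬ h0S a b _
  · rintro _ ⟨x, hx, rfl⟩
    have hmem : x ⊗ₜ[k] (1 : S) ∈ biPiece 𝒜 ℬ (-b + a) (-b + b) := by
      have h1 : -b + a = a - b := by ring
      rw [h1, neg_add_cancel]
      exact tmul_mem_biPiece hx SetLike.GradedOne.one_mem
    obtain ⟨p, -, hp⟩ := exists_phi_eq 𝒜 ℬ ψ 𝒬 φ a b hP hmem
    refine ⟨p, ?_⟩
    rw [LinearMap.comp_apply, hp, incl_apply]
    exact G_eq_self 𝒜 ℬ a b (tmul_mem_biPiece hx SetLike.GradedOne.one_mem)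

theorem finrank_quotient_eq [Nontrivial S] (hposS : ∀ n : ℤ, n < 0 → ℬ n = ⊥)
    (h0S : ℬ 0 = Submodule.span k {(1 : S)})
    (hstdR : Ideal.span (⋃ n ∈ Set.Ioi (0 : ℤ), (𝒜 n : Set R)) =
      Ideal.span ((𝒜 1 : Submodule k R) : Set R))
    (hstdS : Ideal.span (⋃ n ∈ Set.Ioi (0 : ℤ), (ℬ n : Set S)) =
      Ideal.span ((ℬ 1 : Submodule k S) : Set S))
    (hdegT : ∀ n : ℤ, (𝒯 n).map ψ.toLinearMap = biPiece 𝒜 ℬ n n)
    (hmT : mT = Ideal.span (⋃ n ∈ Set.Ioi (0 : ℤ), (𝒯 n : Set T))) (hab : b ≤ a)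
    (hP : IsSegreMod ψ (fun n : ℤ => 𝒜 (n + a)) (fun n : ℤ => ℬ (n + b)) 𝒬 φ) :
    Module.finrank k (P ⧸ (mT • (⊤ : Submodule T P))) = Module.finrank k (𝒜 (a - b)) := by
  have hinj : Function.Injective (incl (k := k) (R := R) (S := S)) :=
    Algebra.TensorProduct.includeLeft_injective (S := k) (algebraMap k S).injective
  have e1 := Submodule.Quotient.restrictScalarsEquiv k (mT • (⊤ : Submodule T P))
  have e2 := Submodule.quotEquivOfEq _ _
    (ker_eq 𝒜 ℬ 𝒯 ψ 𝒬 φ a b mT hposS hstdR hstdS hdegT hmT hab hP)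
  have e3 := LinearMap.quotKerEquivRange ((G 𝒜 ℬ a b).comp φ)
  have e4 := LinearEquiv.ofEq _ _ (range_eq 𝒜 ℬ ψ 𝒬 φ a b h0S hP)
  have e5 := Submodule.equivMapOfInjective (incl (k := k) (R := R) (S := S)) hinj (𝒜 (a - b))
  exact (e1.symm.trans (e2.trans (e3.trans (e4.trans e5.symm)))).finrank_eq

end Main

end Groth.Agent.Lib.Helper20.SegShift
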