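import Mathlib
import Groth.Prelude.Def_GrLC
import Groth.Agent.Lib.Helper26.GrProj
import Groth.Agent.Lib.Helper20.GrLES7
import Groth.Agent.Lib.Helper20.GrKit9

/-!
# Graded resolutions that need not be *injective, and the cohomology of `Γ_a` of them
-/

set_option autoImplicit false
set_option linter.unusedSectionVars false
set_option linter.unusedVariables false

namespace Groth.Agent.Lib.Helper20.GrAcyc

open DirectSum Groth.Agent.Lib.Helper26.GrProj Groth.Agent.Lib.Helper20.GrKit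
  Groth.Agent.Lib.Helper20.GrLES

universe u

variable {ι : Type} [AddCommGroup ι] [DecidableEq ι] {R : Type u} [CommRing R]

/-- a resolution of a graded module by graded modules (not necessarily *injective) -/
structure GrRes (𝒜 : ι → AddSubgroup R) [GradedRing 𝒜] {M : Type u} [AddCommGroup M] [Module R M]
    (ℳ : ι → AddSubgroup M) : Type (u + 1) where
  X : ℕ → GrLC.GMod.{u} 𝒜
  d : ∀ n : ℕ, (X n).carrier →ₗ[R] (X (n + 1)).carrier
  ε : M →ₗ[R] (X 0).carrier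
  d_grHom : ∀ n : ℕ, GrLC.IsGrHom (X n).gr (X (n + 1)).gr (d n)
  ε_grHom : GrLC.IsGrHom ℳ (X 0).gr ε
  ε_injective : Function.Injective ε
  exact_zero : LinearMap.ker (d 0) = LinearMap.range ε
  exact_succ : ∀ n : ℕ, LinearMap.ker (d (n + 1)) = LinearMap.range (d n)

namespace GrRes

variable {𝒜 : ι → AddSubgroup R} [GradedRing 𝒜] {M : Type u} [AddCommGroup M] [Module R M]
  {ℳ : ι → AddSubgroup M} (A : GrRes 𝒜 ℳ) (a : HomogeneousIdeal 𝒜)

/-- cocycles of `Γ_a(A^•)` -/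
def cocyc (i : ℕ) : Submodule R (A.X i).carrier :=
  GrLC.gam a.toIdeal (A.X i).carrier ⊓ LinearMap.ker (A.d i)

/-- coboundaries of `Γ_a(A^•)` -/
def cobdy : (i : ℕ) → Submodule R (A.X i).carrier
  | 0 => ⊥
  | n + 1 => (GrLC.gam a.toIdeal (A.X n).carrier).map (A.d n)

/-- the cohomology of `Γ_a(A^•)` -/
abbrev H (i : ℕ) : Type u :=
  ↥(A.cocyc a i) ⧸ (A.cobdy a i).comap (A.cocyc a i).subtype

/-- the class map -/
abbrev toH (i : ℕ) : ↥(A.cocyc a i) →ₗ[R] A.H a i :=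
  ((A.cobdy a i).comap (A.cocyc a i).subtype).mkQ

/-- homogeneous pieces of the cohomology -/
def Hgr (i : ℕ) (g : ι) : AddSubgroup (A.H a i) where
  carrier := {x | ∃ z : ↥(A.cocyc a i), (z : (A.X i).carrier) ∈ (A.X i).gr g ∧ A.toH a i z = x}
  zero_mem' := ⟨0, zero_mem _, map_zero _⟩
  add_mem' := by
    rintro x y ⟨z, hz, rfl⟩ ⟨w, hw, rfl⟩
    exact ⟨z + w, add_mem hz hw, map_add _ _ _⟩
  neg_mem' := by
    rintro x ⟨z, hz, rfl⟩
    exact ⟨-z, neg_mem hz, map_neg _ _⟩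

theorem mem_Hgr (i : ℕ) (g : ι) (x : A.H a i) :
    x ∈ A.Hgr a i g ↔
      ∃ z : ↥(A.cocyc a i), (z : (A.X i).carrier) ∈ (A.X i).gr g ∧ A.toH a i z = x := Iff.rfl

theorem mem_cocyc (i : ℕ) (x : (A.X i).carrier) :
    x ∈ A.cocyc a i ↔ x ∈ GrLC.gam a.toIdeal (A.X i).carrier ∧ A.d i x = 0 := Iff.rfl

theorem mem_cobdy_zero (x : (A.X 0).carrier) : x ∈ A.cobdy a 0 ↔ x = 0 := Submodule.mem_bot R

theorem mem_cobdy_succ (n : ℕ) (x : (A.X (n + 1)).carrier) :
    x ∈ A.cobdy a (n + 1) ↔ ∃ y ∈ GrLC.gam a.toIdeal (A.X n).carrier, A.d n y = x := Iff.rfl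

theorem toH_surjective (i : ℕ) : Function.Surjective (A.toH a i) := Submodule.mkQ_surjective _

theorem toH_eq_zero_iff (i : ℕ) (z : A.cocyc a i) :
    A.toH a i z = 0 ↔ (z : (A.X i).carrier) ∈ A.cobdy a i := by
  rw [Submodule.mkQ_apply, Submodule.Quotient.mk_eq_zero, Submodule.mem_comap]
  rfl

theorem d_comp (n : ℕ) (x : (A.X n).carrier) : A.d (n + 1) (A.d n x) = 0 := by
  have : A.d n x ∈ LinearMap.ker (A.d (n + 1)) := by
    rw [A.exact_succ]
    exact ⟨x, rfl⟩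
  exact this

theorem d_eps (m : M) : A.d 0 (A.ε m) = 0 := by
  have : A.ε m ∈ LinearMap.ker (A.d 0) := by
    rw [A.exact_zero]
    exact ⟨m, rfl⟩
  exact this

theorem cocyc_proj_stable (i : ℕ) (g : ι) (z : (A.X i).carrier) (hz : z ∈ A.cocyc a i) :
    proj (A.X i).gr g z ∈ A.cocyc a i := by
  obtain ⟨h1, h2⟩ := Submodule.mem_inf.1 hz
  refine Submodule.mem_inf.2 ⟨proj_mem_gam 𝒜 _ a g z h1, ?_⟩
  rw [LinearMap.mem_ker] at h2 ⊢
  rw [← proj_hom (A.X i).gr (A.X (i + 1)).gr (A.d i) (A.d_grHom i), h2, proj_zero]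

theorem cobdy_proj_stable (i : ℕ) (g : ι) (z : (A.X i).carrier) (hz : z ∈ A.cobdy a i) :
    proj (A.X i).gr g z ∈ A.cobdy a i := by
  cases i with
  | zero =>
    have hz0 : z = 0 := (Submodule.mem_bot R).1 hz
    rw [hz0, proj_zero]
    exact Submodule.zero_mem _
  | succ n =>
    obtain ⟨y, hy, rfl⟩ := hz
    exact ⟨proj (A.X n).gr g y, proj_mem_gam 𝒜 _ a g y hy,
      (proj_hom (A.X n).gr (A.X (n + 1)).gr (A.d n) (A.d_grHom n) g y).symm⟩

theorem Hgr_isInternal (i : ℕ) : DirectSum.IsInternal (A.Hgr a i) :=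
  quot_isInternal (A.X i).gr (A.cocyc a i) (A.cobdy a i) (A.cocyc_proj_stable a i)
    (A.cobdy_proj_stable a i) (A.Hgr a i) (fun g x => Iff.rfl)

/-- forget *injectivity -/
def ofStar [DirectSum.Decomposition ℳ] [SetLike.GradedSMul 𝒜 ℳ] (E : GrLC.StarInjRes 𝒜 ℳ) :
    GrRes 𝒜 ℳ where
  X := E.X
  d := E.d
  ε := E.ε
  d_grHom := E.d_grHom
  ε_grHom := E.ε_grHom
  ε_injective := E.ε_injective
  exact_zero := E.exact_zero
  exact_succ := E.exact_succ

/-- the kernel of `d¹`, as a graded module -/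
theorem ker_stable (n : ℕ) (g : ι) (x : (A.X n).carrier) (hx : x ∈ LinearMap.ker (A.d n)) :
    proj (A.X n).gr g x ∈ LinearMap.ker (A.d n) :=
  ker_proj_stable (A.X n).gr (A.X (n + 1)).gr (A.d n) (A.d_grHom n) g x hx

/-- the truncated resolution, a resolution of `ker d¹` -/
def shift : GrRes 𝒜 (subGr (A.X 1).gr (LinearMap.ker (A.d 1))) where
  X n := A.X (n + 1)
  d n := A.d (n + 1)
  ε := (LinearMap.ker (A.d 1)).subtype
  d_grHom n := A.d_grHom (n + 1)
  ε_grHom := fun g x hx => hx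
  ε_injective := Submodule.subtype_injective _
  exact_zero := (Submodule.range_subtype _).symm
  exact_succ n := A.exact_succ (n + 1)

/-- the cohomology of the truncated resolution -/
def shiftH (i : ℕ) : A.shift.H a (i + 1) ≃ₗ[R] A.H a (i + 2) := LinearEquiv.refl R _

theorem shiftH_mem (i : ℕ) (g : ι) (y : A.shift.H a (i + 1)) :
    y ∈ A.shift.Hgr a (i + 1) g ↔ A.shiftH a i y ∈ A.Hgr a (i + 2) g := Iff.rfl

end GrRes

/-- the inverse of a bijective graded map between internally graded modules is graded -/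
theorem symm_isGrHom {A B : Type u} [AddCommGroup A] [Module R A] [AddCommGroup B] [Module R B]
    (𝒜A : ι → AddSubgroup A) (𝒜B : ι → AddSubgroup B)
    (hA : DirectSum.IsInternal 𝒜A) (hB : DirectSum.IsInternal 𝒜B)
    (e : A ≃ₗ[R] B) (he : GrLC.IsGrHom 𝒜A 𝒜B e.toLinearMap) :
    GrLC.IsGrHom 𝒜B 𝒜A e.symm.toLinearMap := by
  classical
  letI := hA.chooseDecomposition
  letI := hB.chooseDecomposition
  exact isGrHom_symm 𝒜A 𝒜B e he

end Groth.Agent.Lib.Helper20.GrAcyc
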