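import Mathlib
import Groth.Prelude.Def_GrLC
import Groth.Agent.Lib.Helper26.GrProj
import Groth.Agent.Lib.Helper20.GrAcyc1
import Groth.Agent.Lib.Helper20.GrKit8

/-!
# Dimension shifting along a graded acyclic resolution
-/

set_option autoImplicit false
set_option linter.unusedSectionVars false
set_option linter.unusedVariables false
set_option linter.style.haveILetI false

namespace Groth.Agent.Lib.Helper20.GrAcyc

open DirectSum Groth.Agent.Lib.Helper26.GrProj Groth.Agent.Lib.Helper20.GrKit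
  Groth.Agent.Lib.Helper20.GrLES

universe u

variable {ι : Type} [AddCommGroup ι] [DecidableEq ι] {R : Type u} [CommRing R]

theorem gam_of_injective {X Y : Type u} [AddCommGroup X] [Module R X] [AddCommGroup Y] [Module R Y]
    (f : X →ₗ[R] Y) (hf : Function.Injective f) (a : Ideal R) {x : X}
    (hx : f x ∈ GrLC.gam a Y) : x ∈ GrLC.gam a X := by
  obtain ⟨n, hn⟩ := hx
  refine ⟨n, fun r hr => hf ?_⟩
  rw [map_smul, hn r hr, map_zero]

/-- an injective graded map reflects degrees -/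
theorem mem_of_map_mem {X Y : Type u} [AddCommGroup X] [Module R X] [AddCommGroup Y] [Module R Y]
    (𝒳 : ι → AddSubgroup X) [DirectSum.Decomposition 𝒳] (𝒴 : ι → AddSubgroup Y)
    [DirectSum.Decomposition 𝒴] (f : X →ₗ[R] Y) (hf : Function.Injective f)
    (hfg : GrLC.IsGrHom 𝒳 𝒴 f) {g : ι} {x : X} (hx : f x ∈ 𝒴 g) : x ∈ 𝒳 g := by
  classical
  have h1 : f (proj 𝒳 g x) = f x := by
    rw [← proj_hom 𝒳 𝒴 f hfg g x]
    exact proj_of_mem_same 𝒴 hx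
  rw [← hf h1]
  exact proj_mem 𝒳 g x

variable {𝒜 : ι → AddSubgroup R} [GradedRing 𝒜] {M : Type u} [AddCommGroup M] [Module R M]
  {ℳ : ι → AddSubgroup M} [DirectSum.Decomposition ℳ] [SetLike.GradedSMul 𝒜 ℳ]
  (A : GrRes 𝒜 ℳ) (a : HomogeneousIdeal 𝒜) (F : GrLC.StarInjRes 𝒜 ℳ)

section Zero

theorem eps_mem_cocyc (m : GrLC.gam a.toIdeal M) : A.ε (m : M) ∈ A.cocyc a 0 :=
  ⟨map_mem_gam A.ε a.toIdeal m.2, A.d_eps m⟩

/-- `Γ_a(M) → Z⁰(Γ_a(A))` -/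
noncomputable def gamToCocyc : GrLC.gam a.toIdeal M →ₗ[R] A.cocyc a 0 :=
  LinearMap.codRestrict (A.cocyc a 0) (A.ε ∘ₗ (GrLC.gam a.toIdeal M).subtype)
    (fun m => eps_mem_cocyc A a m)

theorem gamToCocyc_bijective : Function.Bijective (gamToCocyc A a) := by
  constructor
  · intro m m' h
    have h1 : A.ε (m : M) = A.ε (m' : M) := congrArg Subtype.val h
    exact Subtype.ext (A.ε_injective h1)
  · rintro ⟨z, hz1, hz2⟩
    rw [A.exact_zero] at hz2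
    obtain ⟨m, rfl⟩ := hz2
    exact ⟨⟨m, gam_of_injective A.ε A.ε_injective a.toIdeal hz1⟩, rfl⟩

/-- `Γ_a(M) ≃ H⁰(Γ_a(A))` -/
noncomputable def gamEquiv : GrLC.gam a.toIdeal M ≃ₗ[R] A.H a 0 :=
  (LinearEquiv.ofBijective (gamToCocyc A a) (gamToCocyc_bijective A a)) ≪≫ₗ
    (Submodule.quotEquivOfEqBot _ (by
      change Submodule.comap (A.cocyc a 0).subtype ⊥ = ⊥
      rw [Submodule.comap_bot, Submodule.ker_subtype])).symm

theorem gamEquiv_apply (m : GrLC.gam a.toIdeal M) :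
    gamEquiv A a m = A.toH a 0 ⟨A.ε (m : M), eps_mem_cocyc A a m⟩ := rfl

theorem gamEquiv_mem {g : ι} (m : GrLC.gam a.toIdeal M) :
    gamEquiv A a m ∈ A.Hgr a 0 g ↔ (m : M) ∈ ℳ g := by
  constructor
  · rintro ⟨z, hz, hzm⟩
    rw [gamEquiv_apply] at hzm
    have h0 : (z : (A.X 0).carrier) - A.ε (m : M) ∈ A.cobdy a 0 := by
      have := sub_eq_zero.2 hzm
      rw [← map_sub, A.toH_eq_zero_iff] at this
      exact this
    rw [A.mem_cobdy_zero, sub_eq_zero] at h0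
    rw [h0] at hz
    exact mem_of_map_mem ℳ (A.X 0).gr A.ε A.ε_injective A.ε_grHom hz
  · intro hm
    exact ⟨⟨A.ε (m : M), eps_mem_cocyc A a m⟩, A.ε_grHom g _ hm, rfl⟩

/-- the cohomology in degree zero -/
theorem step_zero : ∃ ψ : A.H a 0 ≃ₗ[R] F.H a 0,
    GrLC.IsGrHom (A.Hgr a 0) (F.Hgr a 0) ψ.toLinearMap ∧
      GrLC.IsGrHom (F.Hgr a 0) (A.Hgr a 0) ψ.symm.toLinearMap := by
  let e1 : A.H a 0 ≃ₗ[R] (GrRes.ofStar F).H a 0 :=
    (gamEquiv A a).symm ≪≫ₗ gamEquiv (GrRes.ofStar F) a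
  let e2 : (GrRes.ofStar F).H a 0 ≃ₗ[R] F.H a 0 := LinearEquiv.refl R _
  have h12 : ∀ g y, y ∈ (GrRes.ofStar F).Hgr a 0 g ↔ e2 y ∈ F.Hgr a 0 g := fun g y => Iff.rfl
  have hfw : GrLC.IsGrHom (A.Hgr a 0) (F.Hgr a 0) (e1 ≪≫ₗ e2).toLinearMap := by
    intro g x hx
    change e2 (e1 x) ∈ F.Hgr a 0 g
    rw [← h12]
    change gamEquiv (GrRes.ofStar F) a ((gamEquiv A a).symm x) ∈ _
    rw [gamEquiv_mem]
    rw [← gamEquiv_mem A a, LinearEquiv.apply_symm_apply]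
    exact hx
  exact ⟨e1 ≪≫ₗ e2, hfw, symm_isGrHom _ _ (A.Hgr_isInternal a 0) (Hgr_isInternal F a 0) _ hfw⟩

end Zero

section Step

/-- the corestriction of `d⁰` to `ker d¹` -/
noncomputable def d0' : (A.X 0).carrier →ₗ[R] LinearMap.ker (A.d 1) :=
  (A.d 0).codRestrict (LinearMap.ker (A.d 1)) (fun x => A.d_comp 0 x)

theorem d0'_isGrHom :
    GrLC.IsGrHom (A.X 0).gr (subGr (A.X 1).gr (LinearMap.ker (A.d 1))) (d0' A) :=
  fun g x hx => A.d_grHom 0 g x hx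

theorem d0'_surjective : Function.Surjective (d0' A) := by
  rintro ⟨z, hz⟩
  have hz' : z ∈ LinearMap.range (A.d 0) := by
    rw [← A.exact_succ 0]
    exact hz
  obtain ⟨x, rfl⟩ := hz'
  exact ⟨x, rfl⟩

theorem ker_d0' : LinearMap.ker (d0' A) = LinearMap.range A.ε := by
  unfold d0'
  rw [LinearMap.ker_codRestrict, A.exact_zero]

/-- dimension shifting in degrees `≥ 2` -/
theorem step_succ [DirectSum.Decomposition (subGr (A.X 1).gr (LinearMap.ker (A.d 1)))]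
    (EZ : GrLC.StarInjRes 𝒜 (subGr (A.X 1).gr (LinearMap.ker (A.d 1))))
    (i : ℕ)
    (hX0 : ∀ EX : GrLC.StarInjRes 𝒜 (A.X 0).gr,
      Subsingleton (EX.H a i) ∧ Subsingleton (EX.H a (i + 1))) :
    ∃ ψ : EZ.H a i ≃ₗ[R] F.H a (i + 1),
      GrLC.IsGrHom (EZ.Hgr a i) (F.Hgr a (i + 1)) ψ.toLinearMap ∧
        GrLC.IsGrHom (F.Hgr a (i + 1)) (EZ.Hgr a i) ψ.symm.toLinearMap := by
  classical
  obtain ⟨EX⟩ := nonempty_starInjRes 𝒜 (A.X 0).gr
  obtain ⟨δ, hδ, hles⟩ := les F EX EZ A.ε (d0' A) A.ε_grHom (d0'_isGrHom A) A.ε_injective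
    (d0'_surjective A) (ker_d0' A) a
  obtain ⟨φ, hφ⟩ := exists_lift F EX A.ε A.ε_grHom
  obtain ⟨ψ, hψ⟩ := exists_lift EX EZ (d0' A) (d0'_isGrHom A)
  obtain ⟨h1, h2, h3, h4⟩ := hles φ ψ hφ hψ
  obtain ⟨s1, s2⟩ := hX0 EX
  have hinj : Function.Injective (δ i) := by
    rw [← LinearMap.ker_eq_bot, h2 i, LinearMap.range_eq_bot]
    apply LinearMap.ext
    intro x
    rw [Subsingleton.elim x 0, map_zero, map_zero]
  have hsurj : Function.Surjective (δ i) := by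
    intro y
    have : y ∈ LinearMap.ker (φ.Hmap a (i + 1)) := Subsingleton.elim _ _
    rw [h3 i] at this
    exact this
  let e := LinearEquiv.ofBijective (δ i) ⟨hinj, hsurj⟩
  have hfw : GrLC.IsGrHom (EZ.Hgr a i) (F.Hgr a (i + 1)) e.toLinearMap := hδ i
  exact ⟨e, hfw, symm_isGrHom _ _ (Hgr_isInternal EZ a i) (Hgr_isInternal F a (i + 1)) _ hfw⟩

/-- the first cohomology -/
theorem step_one (hX0 : ∀ EX : GrLC.StarInjRes 𝒜 (A.X 0).gr, Subsingleton (EX.H a 1)) :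
    ∃ ψ : A.H a 1 ≃ₗ[R] F.H a 1,
      GrLC.IsGrHom (A.Hgr a 1) (F.Hgr a 1) ψ.toLinearMap ∧
        GrLC.IsGrHom (F.Hgr a 1) (A.Hgr a 1) ψ.symm.toLinearMap := by
  classical
  letI : DirectSum.Decomposition (subGr (A.X 1).gr (LinearMap.ker (A.d 1))) :=
    subDecomposition (A.X 1).gr (LinearMap.ker (A.d 1)) (A.ker_stable 1)
  obtain ⟨EX⟩ := nonempty_starInjRes 𝒜 (A.X 0).gr
  obtain ⟨EZ⟩ := nonempty_starInjRes 𝒜 (subGr (A.X 1).gr (LinearMap.ker (A.d 1)))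
  obtain ⟨δ, hδ, hles⟩ := les F EX EZ A.ε (d0' A) A.ε_grHom (d0'_isGrHom A) A.ε_injective
    (d0'_surjective A) (ker_d0' A) a
  obtain ⟨φ, hφ⟩ := exists_lift F EX A.ε A.ε_grHom
  obtain ⟨ψ, hψ⟩ := exists_lift EX EZ (d0' A) (d0'_isGrHom A)
  obtain ⟨h1, h2, h3, h4⟩ := hles φ ψ hφ hψ
  haveI := hX0 EX
  have hδs : Function.Surjective (δ 0) := by
    intro y
    have : y ∈ LinearMap.ker (φ.Hmap a 1) := Subsingleton.elim _ _
    rw [h3 0] at this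
    exact this
  -- from cocycles of `A` to cocycles of `EZ`
  let ι₁ : A.cocyc a 1 →ₗ[R] LinearMap.ker (A.d 1) :=
    (A.cocyc a 1).subtype.codRestrict (LinearMap.ker (A.d 1)) (fun z => z.2.2)
  have hc : ∀ z : A.cocyc a 1, (EZ.ε ∘ₗ ι₁) z ∈ EZ.cocyc a 0 := by
    intro z
    refine ⟨?_, d_eps EZ _⟩
    apply map_mem_gam EZ.ε a.toIdeal
    obtain ⟨k, hk⟩ := z.2.1
    exact ⟨k, fun r hr => Subtype.ext (hk r hr)⟩
  let c : A.cocyc a 1 →ₗ[R] EZ.cocyc a 0 := LinearMap.codRestrict (EZ.cocyc a 0) (EZ.ε ∘ₗ ι₁) hc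
  let θ : A.cocyc a 1 →ₗ[R] F.H a 1 := δ 0 ∘ₗ EZ.toH a 0 ∘ₗ c
  have hθs : Function.Surjective θ := by
    intro y
    obtain ⟨w, rfl⟩ := hδs y
    obtain ⟨c₀, rfl⟩ := toH_surjective EZ a 0 w
    have hr : (c₀ : (EZ.X 0).carrier) ∈ LinearMap.range EZ.ε := by
      rw [← EZ.exact_zero]
      exact c₀.2.2
    obtain ⟨⟨z, hzZ⟩, hz⟩ := hr
    have hzt' : (⟨z, hzZ⟩ : LinearMap.ker (A.d 1)) ∈
        GrLC.gam a.toIdeal (LinearMap.ker (A.d 1)) := by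
      apply gam_of_injective EZ.ε EZ.ε_injective
      rw [hz]
      exact c₀.2.1
    have hzt : z ∈ GrLC.gam a.toIdeal (A.X 1).carrier := by
      obtain ⟨k, hk⟩ := hzt'
      exact ⟨k, fun r hr => congrArg Subtype.val (hk r hr)⟩
    refine ⟨⟨z, hzt, hzZ⟩, ?_⟩
    change δ 0 (EZ.toH a 0 (c ⟨z, hzt, hzZ⟩)) = δ 0 (EZ.toH a 0 c₀)
    congr 2
    exact Subtype.ext hz
  have hθk : LinearMap.ker θ = (A.cobdy a 1).comap (A.cocyc a 1).subtype := by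
    ext z
    rw [LinearMap.mem_ker, Submodule.mem_comap]
    constructor
    · intro hz
      have hz' : EZ.toH a 0 (c z) ∈ LinearMap.ker (δ 0) := hz
      rw [h2 0] at hz'
      obtain ⟨w, hw⟩ := hz'
      obtain ⟨x₀, rfl⟩ := toH_surjective EX a 0 w
      rw [CMap.Hmap_toH, toH_eq_iff, mem_cobdy_zero, sub_eq_zero] at hw
      have hr : (x₀ : (EX.X 0).carrier) ∈ LinearMap.range EX.ε := by
        rw [← EX.exact_zero]
        exact x₀.2.2
      obtain ⟨x, hx⟩ := hr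
      have hxt : x ∈ GrLC.gam a.toIdeal (A.X 0).carrier := by
        apply gam_of_injective EX.ε EX.ε_injective
        rw [hx]
        exact x₀.2.1
      have hw' : ψ.f 0 (EX.ε x) = EZ.ε (ι₁ z) := by
        rw [hx]
        exact hw
      rw [hψ] at hw'
      have h5 := EZ.ε_injective hw'
      refine ⟨x, hxt, ?_⟩
      exact congrArg Subtype.val h5
    · rintro ⟨x, hxt, hx⟩
      have hx₀ : EX.ε x ∈ EX.cocyc a 0 := ⟨map_mem_gam EX.ε a.toIdeal hxt, d_eps EX x⟩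
      have hcz : EZ.toH a 0 (c z) = ψ.Hmap a 0 (EX.toH a 0 ⟨EX.ε x, hx₀⟩) := by
        rw [CMap.Hmap_toH]
        congr 1
        apply Subtype.ext
        change EZ.ε (ι₁ z) = ψ.f 0 (EX.ε x)
        rw [hψ]
        congr 1
        exact Subtype.ext hx.symm
      change δ 0 (EZ.toH a 0 (c z)) = 0
      rw [hcz]
      have : ψ.Hmap a 0 (EX.toH a 0 ⟨EX.ε x, hx₀⟩) ∈ LinearMap.ker (δ 0) := by
        rw [h2 0]
        exact ⟨_, rfl⟩
      exact this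
  let e : A.H a 1 ≃ₗ[R] F.H a 1 :=
    (Submodule.quotEquivOfEq _ _ hθk.symm) ≪≫ₗ (θ.quotKerEquivOfSurjective hθs)
  have he : ∀ z : A.cocyc a 1, e (A.toH a 1 z) = θ z := fun z => rfl
  have hfw : GrLC.IsGrHom (A.Hgr a 1) (F.Hgr a 1) e.toLinearMap := by
    rintro g x ⟨z, hz, rfl⟩
    change e (A.toH a 1 z) ∈ _
    rw [he]
    apply hδ 0 g
    refine ⟨c z, ?_, rfl⟩
    exact EZ.ε_grHom g (ι₁ z) hz
  exact ⟨e, hfw, symm_isGrHom _ _ (A.Hgr_isInternal a 1) (Hgr_isInternal F a 1) _ hfw⟩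

end Step

end Groth.Agent.Lib.Helper20.GrAcyc
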