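import Mathlib
import Groth.Prelude.Def_GrLC
import Groth.Agent.Lib.Helper26.GrProj
import Groth.Agent.Lib.Helper20.GrAcyc2

/-!
# Graded local cohomology is computed by graded `Γ_a`-acyclic resolutions
-/

set_option autoImplicit false
set_option linter.unusedSectionVars false
set_option linter.unusedVariables false
set_option linter.style.haveILetI false

namespace Groth.Agent.Lib.Helper20.GrAcyc

open DirectSum Groth.Agent.Lib.Helper26.GrProj Groth.Agent.Lib.Helper20.GrKit
  Groth.Agent.Lib.Helper20.GrLES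

universe u

variable {ι : Type} [AddCommGroup ι] [DecidableEq ι] {R : Type u} [CommRing R]
  {𝒜 : ι → AddSubgroup R} [GradedRing 𝒜] (a : HomogeneousIdeal 𝒜)

/-- a graded module is `Γ_a`-acyclic -/
def IsAcyc (X : GrLC.GMod.{u} 𝒜) : Prop :=
  ∀ (EX : GrLC.StarInjRes 𝒜 X.gr) (j : ℕ), 1 ≤ j → Subsingleton (EX.H a j)

/-- **Graded acyclic resolutions compute graded local cohomology.** -/
theorem acyclic_computes : ∀ (i : ℕ) (M : Type u) [AddCommGroup M] [Module R M]
    (ℳ : ι → AddSubgroup M) [DirectSum.Decomposition ℳ] [SetLike.GradedSMul 𝒜 ℳ]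
    (A : GrRes 𝒜 ℳ) (hA : ∀ n, IsAcyc a (A.X n)) (F : GrLC.StarInjRes 𝒜 ℳ),
    ∃ ψ : A.H a i ≃ₗ[R] F.H a i,
      GrLC.IsGrHom (A.Hgr a i) (F.Hgr a i) ψ.toLinearMap ∧
        GrLC.IsGrHom (F.Hgr a i) (A.Hgr a i) ψ.symm.toLinearMap := by
  intro i
  induction i with
  | zero =>
    intro M _ _ ℳ _ _ A hA F
    exact step_zero A a F
  | succ i ih =>
    intro M _ _ ℳ _ _ A hA F
    cases i with
    | zero => exact step_one A a F (fun EX => hA 0 EX 1 le_rfl)
    | succ i =>
      classical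
      letI : DirectSum.Decomposition (subGr (A.X 1).gr (LinearMap.ker (A.d 1))) :=
        subDecomposition (A.X 1).gr (LinearMap.ker (A.d 1)) (A.ker_stable 1)
      obtain ⟨EZ⟩ := nonempty_starInjRes 𝒜 (subGr (A.X 1).gr (LinearMap.ker (A.d 1)))
      obtain ⟨ψ1, h1, h1'⟩ := ih (LinearMap.ker (A.d 1)) (subGr (A.X 1).gr (LinearMap.ker (A.d 1)))
        A.shift (fun n => hA (n + 1)) EZ
      obtain ⟨ψ2, h2, h2'⟩ := step_succ A a F EZ (i + 1)
        (fun EX => ⟨hA 0 EX (i + 1) (by omega), hA 0 EX (i + 1 + 1) (by omega)⟩)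
      refine ⟨(A.shiftH a i).symm ≪≫ₗ ψ1 ≪≫ₗ ψ2, ?_, ?_⟩
      · intro g x hx
        change ψ2 (ψ1 ((A.shiftH a i).symm x)) ∈ _
        apply h2 g
        apply h1 g
        rw [GrRes.shiftH_mem, LinearEquiv.apply_symm_apply]
        exact hx
      · intro g y hy
        change A.shiftH a i (ψ1.symm (ψ2.symm y)) ∈ _
        rw [← GrRes.shiftH_mem]
        apply h1' g
        exact h2' g y hy

end Groth.Agent.Lib.Helper20.GrAcyc
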