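import Mathlib
import Groth.Agent.Lib.Helper2.LCSup
import Groth.Agent.Lib.helper11.LCMV

/-!
# Vanishing of local cohomology for a sum of two ideals (composite functor argument)
and for an intersection (Mayer–Vietoris)
-/

set_option autoImplicit false
set_option linter.unusedSectionVars false
set_option linter.unusedVariables false
set_option linter.style.haveILetI false

universe u

open CategoryTheory CategoryTheory.Limits Opposite

namespace Groth.Agent.Lib.Helper20.SegAc

open Groth.Agent.Lib.helper11.LCKit Groth.Agent.Lib.Helper2.LCInj1 Groth.Agent.Lib.Helper2.LCTorI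
  Groth.Agent.Lib.Helper2.LCSup

variable {R : Type u} [CommRing R]

section Tors

variable (J : Ideal R) (S : ShortComplex (ModuleCat.{u} R))

/-- the short complex of `J`-torsion submodules -/
noncomputable def torSC : ShortComplex (ModuleCat.{u} R) :=
  ShortComplex.mk
    (ModuleCat.ofHom (S.f.hom.restrict (p := torSubI J S.X₁) (q := torSubI J S.X₂)
      (fun x hx => torSubI_map S.f.hom hx)))
    (ModuleCat.ofHom (S.g.hom.restrict (p := torSubI J S.X₂) (q := torSubI J S.X₃)
      (fun x hx => torSubI_map S.g.hom hx))) (by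
      refine ModuleCat.hom_ext (LinearMap.ext fun x => Subtype.ext ?_)
      change S.g.hom (S.f.hom x.1) = 0
      rw [← LinearMap.comp_apply, ← ModuleCat.hom_comp, S.zero]
      rfl)

variable {S} (hS : S.ShortExact)

include hS in
/-- torsion elements lift when `H^1_J` of the kernel vanishes -/
theorem exists_tors_lift (h1 : Subsingleton ((localCohomology J 1).obj S.X₁))
    (c : S.X₃) (hc : c ∈ torSubI J S.X₃) : ∃ y : S.X₂, y ∈ torSubI J S.X₂ ∧ S.g.hom y = c := by
  obtain ⟨x₃, hx₃⟩ := (mem_range_ev_iff J S.X₃ c).2 hc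
  have hδ : (δ J 0 hS).hom x₃ = 0 := h1.elim _ _
  obtain ⟨x₂, hx₂⟩ := exact₃ J 0 hS x₃ hδ
  refine ⟨ev J S.X₂ x₂, (mem_range_ev_iff J S.X₂ _).1 ⟨x₂, rfl⟩, ?_⟩
  rw [← ev_natural, hx₂, hx₃]

include hS in
theorem torSC_shortExact (h1 : Subsingleton ((localCohomology J 1).obj S.X₁)) :
    (torSC J S).ShortExact := by
  have hf : Function.Injective S.f.hom := by
    have := hS.mono_f
    exact (ModuleCat.mono_iff_injective S.f).1 this
  have hmono : Mono (torSC J S).f := by
    rw [ModuleCat.mono_iff_injective]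
    intro x y hxy
    apply Subtype.ext
    exact hf (congrArg Subtype.val hxy)
  have hepi : Epi (torSC J S).g := by
    rw [ModuleCat.epi_iff_surjective]
    intro c
    obtain ⟨y, hy, hyc⟩ := exists_tors_lift J hS h1 c.1 c.2
    exact ⟨⟨y, hy⟩, Subtype.ext hyc⟩
  refine ShortComplex.ShortExact.mk' ?_ hmono hepi
  rw [ShortComplex.moduleCat_exact_iff]
  intro x₂ hx₂
  have h0 : S.g.hom x₂.1 = 0 := congrArg Subtype.val hx₂
  obtain ⟨x₁, hx₁⟩ := (ShortComplex.moduleCat_exact_iff S).1 hS.exact x₂.1 h0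
  obtain ⟨k, hk⟩ := x₂.2
  refine ⟨⟨x₁, k, fun a ha => ?_⟩, Subtype.ext hx₁⟩
  apply hf
  rw [map_smul, hx₁, hk a ha, map_zero]

include hS in
/-- dimension shifting -/
theorem shift_vanishing (K : Ideal R)
    (h2 : ∀ j, 1 ≤ j → Subsingleton ((localCohomology K j).obj S.X₂))
    (h1 : ∀ j, 1 ≤ j → Subsingleton ((localCohomology K j).obj S.X₁)) :
    ∀ j, 1 ≤ j → Subsingleton ((localCohomology K j).obj S.X₃) := by
  intro j hj
  refine ⟨fun x y => ?_⟩
  have key : ∀ x₃ : (localCohomology K j).obj S.X₃, x₃ = 0 := by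
    intro x₃
    have hδ : (δ K j hS).hom x₃ = 0 := (h1 (j + 1) (by omega)).elim _ _
    obtain ⟨x₂, hx₂⟩ := exact₃ K j hS x₃ hδ
    rw [← hx₂, (h2 j hj).elim x₂ 0, map_zero]
  rw [key x, key y]

end Tors

section Embed

variable (W : ModuleCat.{u} R)

/-- the embedding of `W` into an injective, as a short complex -/
noncomputable def embSC : ShortComplex (ModuleCat.{u} R) :=
  ShortComplex.mk (Injective.ι W)
    (ModuleCat.ofHom (LinearMap.range (Injective.ι W).hom).mkQ) (by
      ext x
      change (LinearMap.range (Injective.ι W).hom).mkQ ((Injective.ι W).hom x) = 0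
      rw [Submodule.mkQ_apply, Submodule.Quotient.mk_eq_zero]
      exact ⟨x, rfl⟩)

theorem embSC_shortExact : (embSC W).ShortExact := by
  have hmono : Mono (embSC W).f := inferInstanceAs (Mono (Injective.ι W))
  have hepi : Epi (embSC W).g := by
    rw [ModuleCat.epi_iff_surjective]
    exact Submodule.mkQ_surjective _
  refine ShortComplex.ShortExact.mk' ?_ hmono hepi
  rw [ShortComplex.moduleCat_exact_iff]
  intro x₂ hx₂
  have h0 : (LinearMap.range (Injective.ι W).hom).mkQ x₂ = 0 := hx₂
  rw [Submodule.mkQ_apply, Submodule.Quotient.mk_eq_zero] at h0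
  exact h0

instance : Injective (embSC W).X₂ := inferInstanceAs (Injective (Injective.under W))

end Embed

section Main

variable [IsNoetherianRing R] (I J : Ideal R)

/-- the hypotheses of the composite functor lemma -/
def Good (W : ModuleCat.{u} R) : Prop :=
  (∀ j, 1 ≤ j → Subsingleton ((localCohomology J j).obj W)) ∧
  (∀ j, 1 ≤ j → Subsingleton ((localCohomology I j).obj (ModuleCat.of R (torSubI J W))))

theorem injective_tor (E : ModuleCat.{u} R) [Injective E] :
    Injective (ModuleCat.of R (torSubI J E)) := by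
  haveI : Module.Injective R E := Module.injective_module_of_injective_object R E
  haveI : Module.Injective R (torSubI J E) := injective_torSubI J E
  exact Module.injective_object_of_injective_module R (torSubI J E)

theorem good_coker (W : ModuleCat.{u} R) (h : Good I J W) : Good I J (embSC W).X₃ := by
  have hS := embSC_shortExact W
  refine ⟨?_, ?_⟩
  · exact shift_vanishing hS J
      (fun j hj => subsingleton_of_injective J j (embSC W).X₂ (by omega)) h.1
  · have hT := torSC_shortExact J hS (h.1 1 le_rfl)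
    haveI : Injective (torSC J (embSC W)).X₂ := injective_tor J (embSC W).X₂
    exact shift_vanishing hT I
      (fun j hj => subsingleton_of_injective I j (torSC J (embSC W)).X₂ (by omega)) h.2

/-- **Composite functor lemma.** If `H^j_J(W) = 0` and `H^j_I(Γ_J W) = 0` for all `j ≥ 1`
then `H^n_{I+J}(W) = 0` for all `n ≥ 1`. -/
theorem subsingleton_sup : ∀ (n : ℕ) (W : ModuleCat.{u} R), Good I J W →
    Subsingleton ((localCohomology (I ⊔ J) (n + 1)).obj W) := by
  intro n
  induction n with
  | zero =>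
    intro W h
    have hS := embSC_shortExact W
    have hT := torSC_shortExact J hS (h.1 1 le_rfl)
    refine ⟨fun x y => ?_⟩
    have key : ∀ x₁ : (localCohomology (I ⊔ J) (0 + 1)).obj W, x₁ = 0 := by
      intro x₁
      have h2 : ((localCohomology (I ⊔ J) (0 + 1)).map (embSC W).f).hom x₁ = 0 :=
        (subsingleton_of_injective (I ⊔ J) (0 + 1) (embSC W).X₂ (by omega)).elim _ _
      obtain ⟨x₃, hx₃⟩ := exact₁ (I ⊔ J) 0 hS x₁ h2
      obtain ⟨k, hk⟩ := (mem_range_ev_iff (I ⊔ J) (embSC W).X₃ (ev (I ⊔ J) (embSC W).X₃ x₃)).1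
        ⟨x₃, rfl⟩
      set c := ev (I ⊔ J) (embSC W).X₃ x₃ with hc
      have hcJ : c ∈ torSubI J (embSC W).X₃ :=
        ⟨k, fun a ha => hk a (Ideal.pow_right_mono le_sup_right k ha)⟩
      have hcI : (⟨c, hcJ⟩ : torSubI J (embSC W).X₃) ∈ torSubI I (torSubI J (embSC W).X₃) :=
        ⟨k, fun a ha => Subtype.ext (hk a (Ideal.pow_right_mono le_sup_left k ha))⟩
      obtain ⟨y', hy', hyc⟩ := exists_tors_lift I hT (h.2 1 le_rfl) ⟨c, hcJ⟩ hcI
      obtain ⟨a, ha⟩ := hy'
      obtain ⟨b, hb⟩ := y'.2
      have hy : Kills (I ⊔ J) (a + b) (y'.1 : (embSC W).X₂) :=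
        kills_sup_ideal (fun z hz => congrArg Subtype.val (ha z hz)) hb
      obtain ⟨x₂, hx₂⟩ := (mem_range_ev_iff (I ⊔ J) (embSC W).X₂ y'.1).2 ⟨a + b, hy⟩
      have h3 : ((localCohomology (I ⊔ J) 0).map (embSC W).g).hom x₂ = x₃ := by
        apply ev_injective (I ⊔ J) (embSC W).X₃
        rw [ev_natural, hx₂]
        exact congrArg Subtype.val hyc
      rw [← hx₃, ← h3]
      exact δ_map_g (I ⊔ J) 0 hS x₂
    rw [key x, key y]
  | succ n ih =>
    intro W h
    have hS := embSC_shortExact W
    have hC := ih (embSC W).X₃ (good_coker I J W h)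
    refine ⟨fun x y => ?_⟩
    have key : ∀ x₁ : (localCohomology (I ⊔ J) (n + 1 + 1)).obj W, x₁ = 0 := by
      intro x₁
      have h2 : ((localCohomology (I ⊔ J) (n + 1 + 1)).map (embSC W).f).hom x₁ = 0 :=
        (subsingleton_of_injective (I ⊔ J) (n + 1 + 1) (embSC W).X₂ (by omega)).elim _ _
      obtain ⟨x₃, hx₃⟩ := exact₁ (I ⊔ J) (n + 1) hS x₁ h2
      rw [← hx₃, hC.elim x₃ 0]
      exact map_zero _
    rw [key x, key y]

/-- **Mayer–Vietoris vanishing.** -/
theorem subsingleton_inf (W : ModuleCat.{u} R) (j : ℕ)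
    (hI : Subsingleton ((localCohomology I j).obj W))
    (hJ : Subsingleton ((localCohomology J j).obj W))
    (hIJ : Subsingleton ((localCohomology (I ⊔ J) (j + 1)).obj W)) :
    Subsingleton ((localCohomology (I ⊓ J) j).obj W) := by
  obtain ⟨δ', h1, h2, h3⟩ := Groth.Agent.Lib.helper11.LCMV.mayer_vietoris I J W
  refine ⟨fun x y => ?_⟩
  have key : ∀ x : (localCohomology (I ⊓ J) j).obj W, x = 0 := by
    intro x
    have hx : x ∈ LinearMap.ker (δ' j) := LinearMap.mem_ker.2 (hIJ.elim _ _)
    rw [h3 j] at hx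
    obtain ⟨p, rfl⟩ := hx
    have hp : p = 0 := by
      apply Prod.ext
      · exact hI.elim _ _
      · exact hJ.elim _ _
    rw [hp, map_zero]
  rw [key x, key y]

end Main

end Groth.Agent.Lib.Helper20.SegAc
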