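import Mathlib
import Groth.Prelude.Def_GrLC
import Groth.Agent.Lib.Helper2.LCEW
import Groth.Agent.Lib.Helper20.GrKit5

/-!
# Local cohomology of direct sums and of `X ⊗[k] Y` over the left factor
-/

set_option autoImplicit false
set_option linter.unusedSectionVars false
set_option linter.unusedVariables false
set_option linter.style.haveILetI false

universe u

open CategoryTheory CategoryTheory.Limits Opposite TensorProduct

namespace Groth.Agent.Lib.Helper20.SegAc

open Groth.Agent.Lib.Helper20.GrKit

variable {R : Type u} [CommRing R] [IsNoetherianRing R] (I : Ideal R) (j : ℕ)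

/-- local cohomology of a direct sum of modules with vanishing local cohomology vanishes -/
theorem subsingleton_directSum {ι : Type u} (Z : ι → Type u) [∀ i, AddCommGroup (Z i)]
    [∀ i, Module R (Z i)] (h : ∀ i, Subsingleton (LocCoh.H I j (Z i))) :
    Subsingleton (LocCoh.H I j (DirectSum ι Z)) := by
  classical
  let Z' : ι → ModuleCat.{u} R := fun i => ModuleCat.of R (Z i)
  let F := localCohomology I j
  haveI : PreservesColimitsOfShape (Discrete ι) F :=
    Groth.Agent.Lib.Helper2.LCEW.lc_preservesCoproducts I j ι
  have hc : IsColimit (F.mapCocone (ModuleCat.coproductCocone Z')) :=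
    isColimitOfPreserves F (ModuleCat.coproductCoconeIsColimit Z')
  have h0 : 𝟙 (F.obj (ModuleCat.coproductCocone Z').pt) = 0 := by
    apply hc.hom_ext
    rintro ⟨b⟩
    refine ModuleCat.hom_ext (LinearMap.ext fun x => ?_)
    have hx : x = 0 := (h b).elim _ _
    rw [hx, map_zero, map_zero]
  refine ⟨fun x y => ?_⟩
  have key : ∀ x : F.obj (ModuleCat.coproductCocone Z').pt, x = 0 := by
    intro x
    have : (𝟙 (F.obj (ModuleCat.coproductCocone Z').pt) :
        F.obj (ModuleCat.coproductCocone Z').pt ⟶ _).hom x = x := rfl
    rw [← this, h0]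
    rfl
  exact (key x).trans (key y).symm

theorem subsingleton_finsupp (B : Type u) (X : Type u) [AddCommGroup X] [Module R X]
    (h : Subsingleton (LocCoh.H I j X)) : Subsingleton (LocCoh.H I j (B →₀ X)) := by
  classical
  have h1 := subsingleton_directSum I j (fun _ : B => X) (fun _ => h)
  exact (congrH I j (finsuppLEquivDirectSum R X B)).toEquiv.subsingleton

theorem subsingleton_of_linearEquiv {M N : Type u} [AddCommGroup M] [Module R M]
    [AddCommGroup N] [Module R N] (e : M ≃ₗ[R] N) (h : Subsingleton (LocCoh.H I j N)) :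
    Subsingleton (LocCoh.H I j M) :=
  (congrH I j e).toEquiv.subsingleton

/-- `H^j_I(X ⊗[k] Y) = 0` over `R` (acting on the left factor) when `H^j_I(X) = 0` -/
theorem subsingleton_tensor_left (k : Type u) [Field k] [Algebra k R] (X Y : Type u)
    [AddCommGroup X] [Module R X] [Module k X] [IsScalarTower k R X] [AddCommGroup Y]
    [Module k Y] (h : Subsingleton (LocCoh.H I j X)) :
    Subsingleton (LocCoh.H I j (X ⊗[k] Y)) := by
  classical
  let B := Module.Free.ChooseBasisIndex k Y
  let e : X ⊗[k] Y ≃ₗ[R] (B →₀ X) :=
    (TensorProduct.AlgebraTensorModule.congr (LinearEquiv.refl R X)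
      (Module.Free.chooseBasis k Y).repr) ≪≫ₗ TensorProduct.finsuppScalarRight k R X B
  exact subsingleton_of_linearEquiv I j e (subsingleton_finsupp I j B X h)

end Groth.Agent.Lib.Helper20.SegAc
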