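import Mathlib
import Groth.Prelude.Def_GrSeg
import Groth.Prelude.Def_GrLC
import Groth.Agent.Lib.Helper20.SegMod
import Groth.Agent.Lib.Helper20.SegAc1
import Groth.Agent.Lib.Helper20.SegAc2
import Groth.Agent.Lib.Helper2.LCBaseRes

/-!
# `X ⊗[k] Y` as a module over `R ⊗[k] S`; vanishing of its local cohomology
-/

set_option autoImplicit false
set_option linter.unusedSectionVars false
set_option linter.unusedVariables false
set_option linter.style.haveILetI false

universe u

open CategoryTheory CategoryTheory.Limits Opposite TensorProduct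

namespace Groth.Agent.Lib.Helper20.SegAc

open Groth.Agent.Lib.Helper20.GrKit Groth.Agent.Lib.Helper2.LCTorI Groth.Agent.Lib.Helper2.LCInj1

/-- `X ⊗[k] Y` as a module over `R ⊗[k] S` -/
def UP (k : Type u) [Field k] (R S : Type u) (X Y : Type u) [AddCommGroup X] [Module k X]
    [AddCommGroup Y] [Module k Y] : Type u := X ⊗[k] Y

section Def

variable (k : Type u) [Field k] (R S : Type u) [CommRing R] [CommRing S] [Algebra k R]
  [Algebra k S] (X Y : Type u) [AddCommGroup X] [Module R X] [Module k X] [IsScalarTower k R X]
  [AddCommGroup Y] [Module S Y] [Module k Y] [IsScalarTower k S Y]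

noncomputable instance acgUP : AddCommGroup (UP k R S X Y) := inferInstanceAs (AddCommGroup (X ⊗[k] Y))
noncomputable instance modkUP : Module k (UP k R S X Y) := inferInstanceAs (Module k (X ⊗[k] Y))

theorem act_one (z : X ⊗[k] Y) : GrSeg.act k R S X Y 1 z = z := by
  induction z using TensorProduct.induction_on with
  | zero => simp
  | tmul x y => rw [Algebra.TensorProduct.one_def, GrSeg.act_tmul, one_smul, one_smul]
  | add a b ha hb => rw [map_add, ha, hb]

/-- the action as a ring homomorphism -/
noncomputable def actHom : (R ⊗[k] S) →+* Module.End k (X ⊗[k] Y) where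
  toFun u := GrSeg.act k R S X Y u
  map_one' := LinearMap.ext fun z => act_one k R S X Y z
  map_mul' u v := LinearMap.ext fun z => SegMod.act_mul u v z
  map_zero' := map_zero _
  map_add' u v := map_add _ u v

noncomputable instance modUUP : Module (R ⊗[k] S) (UP k R S X Y) :=
  Module.compHom (X ⊗[k] Y) (actHom k R S X Y)

theorem smul_def (u : R ⊗[k] S) (z : UP k R S X Y) : u • z = GrSeg.act k R S X Y u z := rfl

noncomputable instance modRUP : Module R (UP k R S X Y) :=
  Module.compHom (UP k R S X Y) (algebraMap R (R ⊗[k] S))

theorem smulR_def (r : R) (z : UP k R S X Y) :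
    r • z = GrSeg.act k R S X Y (r ⊗ₜ[k] (1 : S)) z := rfl

instance towerRUP : IsScalarTower R (R ⊗[k] S) (UP k R S X Y) := ⟨fun r u w => by
  rw [Algebra.smul_def, mul_smul]
  rfl⟩

theorem act_left (r : R) (z : X ⊗[k] Y) :
    GrSeg.act k R S X Y (r ⊗ₜ[k] (1 : S)) z = r • z := by
  induction z using TensorProduct.induction_on with
  | zero => simp
  | tmul x y => rw [GrSeg.act_tmul, one_smul, TensorProduct.smul_tmul']
  | add a b ha hb => rw [map_add, ha, hb, smul_add]

theorem act_right (s : S) (z : X ⊗[k] Y) :
    TensorProduct.comm k X Y (GrSeg.act k R S X Y ((1 : R) ⊗ₜ[k] s) z) =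
      s • TensorProduct.comm k X Y z := by
  induction z using TensorProduct.induction_on with
  | zero => simp
  | tmul x y =>
    rw [GrSeg.act_tmul, one_smul, TensorProduct.comm_tmul, TensorProduct.comm_tmul,
      TensorProduct.smul_tmul']
  | add a b ha hb => rw [map_add, map_add, ha, map_add, hb, smul_add]

/-- the identification with the tensor product as a module over the left factor -/
noncomputable def toLeft : UP k R S X Y ≃ₗ[R] X ⊗[k] Y :=
  { AddEquiv.refl (X ⊗[k] Y) with
    map_smul' := fun r z => act_left k R S X Y r z }

theorem toLeft_apply (z : UP k R S X Y) : toLeft k R S X Y z = (z : X ⊗[k] Y) := rfl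

/-- the `S`-module structure -/
@[instance_reducible] noncomputable def modS : Module S (UP k R S X Y) :=
  Module.compHom (UP k R S X Y)
    (Algebra.TensorProduct.includeRight : S →ₐ[k] R ⊗[k] S).toRingHom

/-- the identification with the swapped tensor product as a module over the right factor -/
noncomputable def toRight :
    letI := modS k R S X Y
    UP k R S X Y ≃ₗ[S] Y ⊗[k] X :=
  letI := modS k R S X Y
  { (TensorProduct.comm k X Y).toAddEquiv with
    map_smul' := fun s z => act_right k R S X Y s z }

end Def

section Map

variable {k : Type u} [Field k] {R S : Type u} [CommRing R] [CommRing S] [Algebra k R]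
  [Algebra k S] {X Y : Type u} [AddCommGroup X] [Module R X] [Module k X] [IsScalarTower k R X]
  [AddCommGroup Y] [Module S Y] [Module k Y] [IsScalarTower k S Y]
  {X' Y' : Type u} [AddCommGroup X'] [Module R X'] [Module k X'] [IsScalarTower k R X']
  [AddCommGroup Y'] [Module S Y'] [Module k Y'] [IsScalarTower k S Y']

theorem act_map (f : X →ₗ[R] X') (g : Y →ₗ[S] Y') (u : R ⊗[k] S) (z : X ⊗[k] Y) :
    TensorProduct.map (f.restrictScalars k) (g.restrictScalars k) (GrSeg.act k R S X Y u z) =
      GrSeg.act k R S X' Y' u
        (TensorProduct.map (f.restrictScalars k) (g.restrictScalars k) z) := by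
  induction z using TensorProduct.induction_on with
  | zero => simp
  | add a b ha hb => simp only [map_add, ha, hb]
  | tmul x y =>
    induction u using TensorProduct.induction_on with
    | zero => simp
    | add a b ha hb => simp only [map_add, LinearMap.add_apply, ha, hb]
    | tmul r s =>
      rw [GrSeg.act_tmul, TensorProduct.map_tmul, TensorProduct.map_tmul, GrSeg.act_tmul]
      simp

/-- the tensor product of linear maps, as a map of `R ⊗[k] S`-modules -/
noncomputable def mapU (f : X →ₗ[R] X') (g : Y →ₗ[S] Y') :
    UP k R S X Y →ₗ[R ⊗[k] S] UP k R S X' Y' where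
  toFun z := TensorProduct.map (f.restrictScalars k) (g.restrictScalars k) (z : X ⊗[k] Y)
  map_add' a b := map_add _ _ _
  map_smul' u z := act_map f g u z

theorem mapU_apply (f : X →ₗ[R] X') (g : Y →ₗ[S] Y') (z : UP k R S X Y) :
    mapU f g z = TensorProduct.map (f.restrictScalars k) (g.restrictScalars k)
      (z : X ⊗[k] Y) := rfl

end Map

end Groth.Agent.Lib.Helper20.SegAc
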