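import Mathlib
import Groth.Agent.Lib.Helper20.SegAc3

/-!
# Vanishing of local cohomology of `X ⊗[k] Y` with respect to `𝔞`, `𝔟`, `𝔞 + 𝔟`, `𝔞 ∩ 𝔟`
-/

set_option autoImplicit false
set_option linter.unusedSectionVars false
set_option linter.unusedVariables false
set_option linter.style.haveILetI false

universe u

open CategoryTheory CategoryTheory.Limits Opposite TensorProduct

namespace Groth.Agent.Lib.Helper20.SegAc

open Groth.Agent.Lib.Helper20.GrKit Groth.Agent.Lib.Helper2.LCTorI Groth.Agent.Lib.Helper2.LCInj1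

variable (k : Type u) [Field k] (R S : Type u) [CommRing R] [CommRing S] [Algebra k R]
  [Algebra k S]

/-- the extension of an ideal of `R` -/
abbrev idA (mR : Ideal R) : Ideal (R ⊗[k] S) := mR.map (algebraMap R (R ⊗[k] S))

/-- the extension of an ideal of `S` -/
abbrev idB (mS : Ideal S) : Ideal (R ⊗[k] S) :=
  mS.map (Algebra.TensorProduct.includeRight : S →ₐ[k] R ⊗[k] S).toRingHom

variable (X Y : Type u) [AddCommGroup X] [Module R X] [Module k X] [IsScalarTower k R X]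
  [AddCommGroup Y] [Module S Y] [Module k Y] [IsScalarTower k S Y]
  [IsNoetherianRing R] [IsNoetherianRing S] [IsNoetherianRing (R ⊗[k] S)]
  (mR : Ideal R) (mS : Ideal S)

theorem subsingleton_A (j : ℕ) (h : Subsingleton (LocCoh.H mR j X)) :
    Subsingleton (LocCoh.H (idA k R S mR) j (UP k R S X Y)) := by
  obtain ⟨φ, -⟩ := Groth.Agent.Lib.Helper2.LCBaseRes.H_res_equiv' (R := R) (R' := R ⊗[k] S) mR
    (UP k R S X Y) j
  have h1 : Subsingleton (LocCoh.H mR j (UP k R S X Y)) :=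
    subsingleton_of_linearEquiv mR j (toLeft k R S X Y) (subsingleton_tensor_left mR j k X Y h)
  exact φ.toEquiv.subsingleton

theorem subsingleton_B (j : ℕ) (h : Subsingleton (LocCoh.H mS j Y)) :
    Subsingleton (LocCoh.H (idB k R S mS) j (UP k R S X Y)) := by
  letI : Algebra S (R ⊗[k] S) :=
    (Algebra.TensorProduct.includeRight : S →ₐ[k] R ⊗[k] S).toRingHom.toAlgebra
  letI := modS k R S X Y
  haveI : IsScalarTower S (R ⊗[k] S) (UP k R S X Y) := ⟨fun s u w => by
    rw [Algebra.smul_def, mul_smul]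
    rfl⟩
  obtain ⟨φ, -⟩ := Groth.Agent.Lib.Helper2.LCBaseRes.H_res_equiv' (R := S) (R' := R ⊗[k] S) mS
    (UP k R S X Y) j
  have h1 : Subsingleton (LocCoh.H mS j (UP k R S X Y)) :=
    subsingleton_of_linearEquiv mS j (toRight k R S X Y) (subsingleton_tensor_left mS j k Y X h)
  exact φ.toEquiv.subsingleton

/-- the inclusion `Γ_m(X) ⊗ Y → X ⊗ Y` -/
noncomputable def gamIncl : UP k R S (GrLC.gam mR X) Y →ₗ[R ⊗[k] S] UP k R S X Y :=
  mapU (GrLC.gam mR X).subtype LinearMap.id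

theorem gamIncl_tmul (x : GrLC.gam mR X) (y : Y) :
    gamIncl k R S X Y mR (x ⊗ₜ[k] y) = ((x : X) ⊗ₜ[k] y : X ⊗[k] Y) := rfl

theorem gamIncl_injective : Function.Injective (gamIncl k R S X Y mR) := by
  have : Function.Injective (TensorProduct.map ((GrLC.gam mR X).subtype.restrictScalars k)
      ((LinearMap.id : Y →ₗ[S] Y).restrictScalars k)) :=
    TensorProduct.map_injective_of_flat_flat _ _ (Submodule.injective_subtype _)
      (fun a b h => h)
  exact this

theorem gamIncl_mem (z' : UP k R S (GrLC.gam mR X) Y) :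
    gamIncl k R S X Y mR z' ∈ torSubI (idA k R S mR) (UP k R S X Y) := by
  have key : ∀ (x : GrLC.gam mR X) (y : Y), gamIncl k R S X Y mR (x ⊗ₜ[k] y) ∈
      torSubI (idA k R S mR) (UP k R S X Y) := by
    intro x y
    obtain ⟨n, hn⟩ := x.2
    refine ⟨n, fun a ha => ?_⟩
    rw [← Ideal.map_pow] at ha
    refine Submodule.span_induction (p := fun a _ => a • gamIncl k R S X Y mR (x ⊗ₜ[k] y) = 0)
      ?_ ?_ ?_ ?_ ha
    · rintro _ ⟨r, hr, rfl⟩
      rw [gamIncl_tmul, smul_def]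
      change GrSeg.act k R S X Y (r ⊗ₜ[k] (1 : S)) ((x : X) ⊗ₜ[k] y) = 0
      rw [GrSeg.act_tmul, hn r hr, TensorProduct.zero_tmul]
    · exact zero_smul _ _
    · intro a b _ _ ha hb
      rw [add_smul, ha, hb, add_zero]
    · intro u a _ ha
      rw [smul_eq_mul, mul_smul, ha, smul_zero]
  have h2 : ∀ z' : ↥(GrLC.gam mR X) ⊗[k] Y, (z' : UP k R S (GrLC.gam mR X) Y) ∈
      (torSubI (idA k R S mR) (UP k R S X Y)).comap (gamIncl k R S X Y mR) := by
    intro z'
    induction z' using TensorProduct.induction_on with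
    | zero => exact zero_mem _
    | add a b ha hb => exact add_mem ha hb
    | tmul x y => exact key x y
  exact h2 z'

theorem exists_of_mem_tor (z : X ⊗[k] Y)
    (hz : (z : UP k R S X Y) ∈ torSubI (idA k R S mR) (UP k R S X Y)) :
    ∃ z' : UP k R S (GrLC.gam mR X) Y, gamIncl k R S X Y mR z' = (z : UP k R S X Y) := by
  classical
  obtain ⟨n, hn⟩ := hz
  let bY := Module.Free.chooseBasis k Y
  let B := Module.Free.ChooseBasisIndex k Y
  let e : X ⊗[k] Y ≃ₗ[R] (B →₀ X) :=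
    (TensorProduct.AlgebraTensorModule.congr (LinearEquiv.refl R X) bY.repr) ≪≫ₗ
      TensorProduct.finsuppScalarRight k R X B
  have he : ∀ (x : X) (b : B), e (x ⊗ₜ[k] bY b) = Finsupp.single b x := by
    intro x b
    simp only [e, LinearEquiv.trans_apply, TensorProduct.AlgebraTensorModule.congr_tmul,
      LinearEquiv.refl_apply, Module.Basis.repr_self]
    rw [TensorProduct.finsuppScalarRight_apply_tmul, Finsupp.sum_single_index, one_smul]
    rw [zero_smul, Finsupp.single_zero]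
  have hc : ∀ b, e z b ∈ GrLC.gam mR X := by
    intro b
    refine ⟨n, fun r hr => ?_⟩
    have h1' : GrSeg.act k R S X Y (r ⊗ₜ[k] (1 : S)) z = 0 :=
      hn (algebraMap R (R ⊗[k] S) r)
        (by rw [← Ideal.map_pow]; exact Ideal.mem_map_of_mem _ hr)
    rw [act_left] at h1'
    have h2 : e (r • z) b = 0 := by rw [h1', map_zero]; rfl
    rw [map_smul] at h2
    exact h2
  refine ⟨∑ b ∈ (e z).support, ((⟨e z b, hc b⟩ : GrLC.gam mR X) ⊗ₜ[k] bY b :
    ↥(GrLC.gam mR X) ⊗[k] Y), ?_⟩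
  have h3 : gamIncl k R S X Y mR (∑ b ∈ (e z).support,
      ((⟨e z b, hc b⟩ : GrLC.gam mR X) ⊗ₜ[k] bY b : ↥(GrLC.gam mR X) ⊗[k] Y)) =
      ∑ b ∈ (e z).support, ((e z b) ⊗ₜ[k] bY b : X ⊗[k] Y) := by
    rw [map_sum]
    rfl
  rw [h3]
  apply e.injective
  rw [map_sum]
  simp only [he]
  exact (e z).sum_single

/-- `Γ_𝔞(X ⊗ Y) ≅ Γ_m(X) ⊗ Y` -/
noncomputable def torEquiv :
    UP k R S (GrLC.gam mR X) Y ≃ₗ[R ⊗[k] S] torSubI (idA k R S mR) (UP k R S X Y) :=
  LinearEquiv.ofBijective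
    (LinearMap.codRestrict _ (gamIncl k R S X Y mR) (gamIncl_mem k R S X Y mR))
    ⟨fun a b h => gamIncl_injective k R S X Y mR (congrArg Subtype.val h),
      fun z => by
        obtain ⟨z', hz'⟩ := exists_of_mem_tor k R S X Y mR z.1 z.2
        exact ⟨z', Subtype.ext hz'⟩⟩

theorem good (hX : ∀ j, 1 ≤ j → Subsingleton (LocCoh.H mR j X))
    (hY : ∀ j, 1 ≤ j → Subsingleton (LocCoh.H mS j Y)) :
    Good (idB k R S mS) (idA k R S mR) (ModuleCat.of (R ⊗[k] S) (UP k R S X Y)) := by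
  refine ⟨fun j hj => subsingleton_A k R S X Y mR j (hX j hj), fun j hj => ?_⟩
  have h1 := subsingleton_B k R S (GrLC.gam mR X) Y mS j (hY j hj)
  exact subsingleton_of_linearEquiv _ j (torEquiv k R S X Y mR).symm h1

/-- **Acyclicity of `X ⊗[k] Y` for `𝔞 ∩ 𝔟`.** -/
theorem subsingleton_inf_UP (hX : ∀ j, 1 ≤ j → Subsingleton (LocCoh.H mR j X))
    (hY : ∀ j, 1 ≤ j → Subsingleton (LocCoh.H mS j Y)) (j : ℕ) (hj : 1 ≤ j) :
    Subsingleton (LocCoh.H (idB k R S mS ⊓ idA k R S mR) j (UP k R S X Y)) := by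
  apply subsingleton_inf
  · exact subsingleton_B k R S X Y mS j (hY j hj)
  · exact subsingleton_A k R S X Y mR j (hX j hj)
  · exact subsingleton_sup _ _ j _ (good k R S X Y mR mS hX hY)

end Groth.Agent.Lib.Helper20.SegAc
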