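import Mathlib
import Groth.Agent.Lib.Helper20.SegAc4

/-!
# `X ⊗[k] Y` as a module over the Segre product; acyclicity for the irrelevant ideal
-/

set_option autoImplicit false
set_option linter.unusedSectionVars false
set_option linter.unusedVariables false
set_option linter.style.haveILetI false

universe u

open CategoryTheory CategoryTheory.Limits Opposite TensorProduct

namespace Groth.Agent.Lib.Helper20.SegAc

open Groth.Agent.Lib.Helper20.GrKit Groth.Agent.Lib.Helper2.LCTorI Groth.Agent.Lib.Helper2.LCInj1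

/-- `X ⊗[k] Y` as a module over `T` via `ψ : T → R ⊗[k] S` -/
def TP {k : Type u} [Field k] {R S T : Type u} [CommRing R] [CommRing S] [CommRing T]
    [Algebra k R] [Algebra k S] [Algebra k T] (ψ : T →ₐ[k] R ⊗[k] S) (X Y : Type u)
    [AddCommGroup X] [Module k X] [AddCommGroup Y] [Module k Y] : Type u := UP k R S X Y

section Def

variable {k : Type u} [Field k] {R S T : Type u} [CommRing R] [CommRing S] [CommRing T]
  [Algebra k R] [Algebra k S] [Algebra k T] (ψ : T →ₐ[k] R ⊗[k] S)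
  (X Y : Type u) [AddCommGroup X] [Module R X] [Module k X] [IsScalarTower k R X]
  [AddCommGroup Y] [Module S Y] [Module k Y] [IsScalarTower k S Y]

noncomputable instance acgTP : AddCommGroup (TP ψ X Y) :=
  inferInstanceAs (AddCommGroup (UP k R S X Y))
noncomputable instance modkTP : Module k (TP ψ X Y) := inferInstanceAs (Module k (UP k R S X Y))
noncomputable instance modUTP : Module (R ⊗[k] S) (TP ψ X Y) :=
  inferInstanceAs (Module (R ⊗[k] S) (UP k R S X Y))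
noncomputable instance modTTP : Module T (TP ψ X Y) :=
  Module.compHom (UP k R S X Y) ψ.toRingHom

theorem smulT_def (t : T) (z : TP ψ X Y) : t • z = GrSeg.act k R S X Y (ψ t) z := rfl

theorem smulU_def (u : R ⊗[k] S) (z : TP ψ X Y) : u • z = GrSeg.act k R S X Y u z := rfl

instance towerkTTP : IsScalarTower k T (TP ψ X Y) := ⟨fun c t z => by
  rw [smulT_def, smulT_def, map_smul, map_smul]
  rfl⟩

end Def

section Radical

variable {k : Type u} [Field k] {R S T : Type u} [CommRing R] [CommRing S] [CommRing T]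
  [Algebra k R] [Algebra k S] [Algebra k T]
  (𝒜 : ℤ → Submodule k R) [GradedAlgebra 𝒜] (ℬ : ℤ → Submodule k S) [GradedAlgebra ℬ]
  (𝒯 : ℤ → Submodule k T) [GradedAlgebra 𝒯] (ψ : T →ₐ[k] R ⊗[k] S)
  (hT : GrSeg.IsSegreRing 𝒜 ℬ 𝒯 ψ)
  (mR : HomogeneousIdeal 𝒜) (hmR : mR.toIdeal = Ideal.span (⋃ n ∈ Set.Ioi (0 : ℤ), (𝒜 n : Set R)))
  (mS : HomogeneousIdeal ℬ) (hmS : mS.toIdeal = Ideal.span (⋃ n ∈ Set.Ioi (0 : ℤ), (ℬ n : Set S)))
  (mT : HomogeneousIdeal 𝒯) (hmT : mT.toIdeal = Ideal.span (⋃ n ∈ Set.Ioi (0 : ℤ), (𝒯 n : Set T)))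

include hT hmR hmS hmT in
theorem map_le_inf : mT.toIdeal.map ψ.toRingHom ≤ idB k R S mS.toIdeal ⊓ idA k R S mR.toIdeal := by
  rw [hmT, Ideal.map_span, Ideal.span_le]
  rintro _ ⟨t, ht, rfl⟩
  simp only [Set.mem_iUnion, Set.mem_Ioi, SetLike.mem_coe] at ht
  obtain ⟨n, hn, htn⟩ := ht
  have h1 : ψ t ∈ (𝒯 n).map ψ.toLinearMap := Submodule.mem_map_of_mem htn
  rw [hT.2 n] at h1
  change ψ t ∈ ((idB k R S mS.toIdeal ⊓ idA k R S mR.toIdeal : Ideal (R ⊗[k] S)) : Set _)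
  refine Submodule.span_induction (p := fun z _ => z ∈ idB k R S mS.toIdeal ⊓ idA k R S mR.toIdeal)
    ?_ ?_ ?_ ?_ h1
  · rintro _ ⟨a, ha, b, hb, rfl⟩
    have haR : a ∈ mR.toIdeal := by
      rw [hmR]
      apply Ideal.subset_span
      simp only [Set.mem_iUnion, Set.mem_Ioi, SetLike.mem_coe]
      exact ⟨n, hn, ha⟩
    have hbS : b ∈ mS.toIdeal := by
      rw [hmS]
      apply Ideal.subset_span
      simp only [Set.mem_iUnion, Set.mem_Ioi, SetLike.mem_coe]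
      exact ⟨n, hn, hb⟩
    have e1 : a ⊗ₜ[k] b = (a ⊗ₜ[k] (1 : S)) * ((1 : R) ⊗ₜ[k] b) := by
      rw [Algebra.TensorProduct.tmul_mul_tmul, mul_one, one_mul]
    refine ⟨?_, ?_⟩
    · rw [e1]
      exact Ideal.mul_mem_left _ _ (Ideal.mem_map_of_mem _ hbS)
    · rw [e1]
      exact Ideal.mul_mem_right _ _ (Ideal.mem_map_of_mem _ haR)
  · exact zero_mem _
  · intro x y _ _ hx hy
    exact add_mem hx hy
  · intro c x _ hx
    rw [Algebra.smul_def]
    exact Ideal.mul_mem_left _ _ hx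

include hT hmR hmS hmT in
theorem mul_le_radical :
    idB k R S mS.toIdeal * idA k R S mR.toIdeal ≤ (mT.toIdeal.map ψ.toRingHom).radical := by
  unfold idA idB
  rw [hmR, hmS, Ideal.map_span, Ideal.map_span, Ideal.span_mul_span', Ideal.span_le]
  rintro _ ⟨_, ⟨b, hb, rfl⟩, _, ⟨a, ha, rfl⟩, rfl⟩
  simp only [Set.mem_iUnion, Set.mem_Ioi, SetLike.mem_coe] at ha hb
  obtain ⟨m, hm, ham⟩ := ha
  obtain ⟨n, hn, hbn⟩ := hb
  change (Algebra.TensorProduct.includeRight b : R ⊗[k] S) * algebraMap R (R ⊗[k] S) a ∈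
    (mT.toIdeal.map ψ.toRingHom).radical
  have e0 : (Algebra.TensorProduct.includeRight b : R ⊗[k] S) * algebraMap R (R ⊗[k] S) a =
      a ⊗ₜ[k] b := by
    change ((1 : R) ⊗ₜ[k] b) * (a ⊗ₜ[k] (1 : S)) = a ⊗ₜ[k] b
    rw [Algebra.TensorProduct.tmul_mul_tmul, mul_one, one_mul]
  rw [e0]
  refine ⟨m.toNat + n.toNat, ?_⟩
  have hm' : (m.toNat : ℤ) = m := Int.toNat_of_nonneg hm.le
  have hn' : (n.toNat : ℤ) = n := Int.toNat_of_nonneg hn.le
  have e1 : (a ⊗ₜ[k] b) ^ (m.toNat + n.toNat) =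
      ((a ^ n.toNat) ⊗ₜ[k] (b ^ m.toNat)) * ((a ^ m.toNat) ⊗ₜ[k] (b ^ n.toNat)) := by
    rw [Algebra.TensorProduct.tmul_pow, Algebra.TensorProduct.tmul_mul_tmul, ← pow_add, ← pow_add,
      add_comm n.toNat m.toNat]
  rw [e1]
  apply Ideal.mul_mem_right
  have ha' : a ^ n.toNat ∈ 𝒜 (n * m) := by
    have := SetLike.pow_mem_graded n.toNat ham
    rwa [nsmul_eq_mul, hn'] at this
  have hb' : b ^ m.toNat ∈ ℬ (n * m) := by
    have := SetLike.pow_mem_graded m.toNat hbn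
    rwa [nsmul_eq_mul, hm', mul_comm] at this
  have h2 : (a ^ n.toNat) ⊗ₜ[k] (b ^ m.toNat) ∈ GrSeg.segrePiece k 𝒜 ℬ (n * m) :=
    Submodule.subset_span ⟨_, ha', _, hb', rfl⟩
  rw [← hT.2 (n * m)] at h2
  obtain ⟨t, ht, htt⟩ := h2
  have htm : t ∈ mT.toIdeal := by
    rw [hmT]
    apply Ideal.subset_span
    simp only [Set.mem_iUnion, Set.mem_Ioi, SetLike.mem_coe]
    exact ⟨n * m, mul_pos hn hm, ht⟩
  have : ψ.toRingHom t = (a ^ n.toNat) ⊗ₜ[k] (b ^ m.toNat) := htt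
  rw [← this]
  exact Ideal.mem_map_of_mem _ htm

include hT hmR hmS hmT in
theorem radical_eq : (mT.toIdeal.map ψ.toRingHom).radical =
    (idB k R S mS.toIdeal ⊓ idA k R S mR.toIdeal).radical := by
  apply le_antisymm
  · exact Ideal.radical_mono (map_le_inf 𝒜 ℬ 𝒯 ψ hT mR hmR mS hmS mT hmT)
  · rw [Ideal.radical_inf, ← Ideal.radical_mul]
    have := Ideal.radical_mono (mul_le_radical 𝒜 ℬ 𝒯 ψ hT mR hmR mS hmS mT hmT)
    rwa [Ideal.radical_idem] at this

variable (X Y : Type u) [AddCommGroup X] [Module R X] [Module k X] [IsScalarTower k R X]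
  [AddCommGroup Y] [Module S Y] [Module k Y] [IsScalarTower k S Y]
  [IsNoetherianRing R] [IsNoetherianRing S] [IsNoetherianRing T] [IsNoetherianRing (R ⊗[k] S)]

include hT hmR hmS hmT in
/-- **`X ⊗[k] Y` is `Γ_{T_+}`-acyclic** when `X` is `Γ_{R_+}`-acyclic and `Y` is
`Γ_{S_+}`-acyclic. -/
theorem subsingleton_TP (hX : ∀ j, 1 ≤ j → Subsingleton (LocCoh.H mR.toIdeal j X))
    (hY : ∀ j, 1 ≤ j → Subsingleton (LocCoh.H mS.toIdeal j Y)) (j : ℕ) (hj : 1 ≤ j) :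
    Subsingleton (LocCoh.H mT.toIdeal j (TP ψ X Y)) := by
  letI : Algebra T (R ⊗[k] S) := ψ.toRingHom.toAlgebra
  haveI : IsScalarTower T (R ⊗[k] S) (TP ψ X Y) := ⟨fun t u w => by
    rw [Algebra.smul_def, mul_smul]
    rfl⟩
  obtain ⟨φ, -⟩ := Groth.Agent.Lib.Helper2.LCBaseRes.H_res_equiv' (R := T) (R' := R ⊗[k] S)
    mT.toIdeal (TP ψ X Y) j
  have h1 : Subsingleton (LocCoh.H (idB k R S mS.toIdeal ⊓ idA k R S mR.toIdeal) j
      (UP k R S X Y)) := subsingleton_inf_UP k R S X Y mR.toIdeal mS.toIdeal hX hY j hj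
  have iso := (localCohomology.isoOfSameRadical
    (radical_eq 𝒜 ℬ 𝒯 ψ hT mR hmR mS hmS mT hmT) j).app (ModuleCat.of (R ⊗[k] S) (UP k R S X Y))
  have h2 : Subsingleton (LocCoh.H (mT.toIdeal.map ψ.toRingHom) j (UP k R S X Y)) :=
    iso.toLinearEquiv.toEquiv.subsingleton
  have h3 : Subsingleton (LocCoh.H (Ideal.map (algebraMap T (R ⊗[k] S)) mT.toIdeal) j
      (TP ψ X Y)) := h2
  exact φ.symm.toEquiv.subsingleton

end Radical

end Groth.Agent.Lib.Helper20.SegAc
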