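import Mathlib
import Groth.Agent.Lib.Helper20.SegAc5

/-!
# The `T_+`-torsion of `X ⊗[k] Y` is `Γ_m(X) ⊗ Y + X ⊗ Γ_n(Y)`
-/

set_option autoImplicit false
set_option linter.unusedSectionVars false
set_option linter.unusedVariables false
set_option linter.style.haveILetI false

universe u

open CategoryTheory CategoryTheory.Limits Opposite TensorProduct

namespace Groth.Agent.Lib.Helper20.SegAc

open Groth.Agent.Lib.Helper20.GrKit Groth.Agent.Lib.Helper2.LCTorI Groth.Agent.Lib.Helper2.LCInj1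

section Right

variable (k : Type u) [Field k] (R S : Type u) [CommRing R] [CommRing S] [Algebra k R]
  [Algebra k S]
  (X Y : Type u) [AddCommGroup X] [Module R X] [Module k X] [IsScalarTower k R X]
  [AddCommGroup Y] [Module S Y] [Module k Y] [IsScalarTower k S Y]
  (mR : Ideal R) (mS : Ideal S)

/-- the inclusion `X ⊗ Γ_n(Y) → X ⊗ Y` -/
noncomputable def gamInclR : UP k R S X (GrLC.gam mS Y) →ₗ[R ⊗[k] S] UP k R S X Y :=
  mapU LinearMap.id (GrLC.gam mS Y).subtype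

theorem gamInclR_tmul (x : X) (y : GrLC.gam mS Y) :
    gamInclR k R S X Y mS (x ⊗ₜ[k] y) = (x ⊗ₜ[k] (y : Y) : X ⊗[k] Y) := rfl

theorem gamInclR_mem (z' : UP k R S X (GrLC.gam mS Y)) :
    gamInclR k R S X Y mS z' ∈ torSubI (idB k R S mS) (UP k R S X Y) := by
  have key : ∀ (x : X) (y : GrLC.gam mS Y), gamInclR k R S X Y mS (x ⊗ₜ[k] y) ∈
      torSubI (idB k R S mS) (UP k R S X Y) := by
    intro x y
    obtain ⟨n, hn⟩ := y.2
    refine ⟨n, fun a ha => ?_⟩
    rw [← Ideal.map_pow] at ha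
    refine Submodule.span_induction (p := fun a _ => a • gamInclR k R S X Y mS (x ⊗ₜ[k] y) = 0)
      ?_ ?_ ?_ ?_ ha
    · rintro _ ⟨s, hs, rfl⟩
      rw [gamInclR_tmul, smul_def]
      change GrSeg.act k R S X Y ((1 : R) ⊗ₜ[k] s) (x ⊗ₜ[k] (y : Y)) = 0
      rw [GrSeg.act_tmul, hn s hs, TensorProduct.tmul_zero]
    · exact zero_smul _ _
    · intro a b _ _ ha hb
      rw [add_smul, ha, hb, add_zero]
    · intro u a _ ha
      rw [smul_eq_mul, mul_smul, ha, smul_zero]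
  have h2 : ∀ z' : X ⊗[k] ↥(GrLC.gam mS Y), (z' : UP k R S X (GrLC.gam mS Y)) ∈
      (torSubI (idB k R S mS) (UP k R S X Y)).comap (gamInclR k R S X Y mS) := by
    intro z'
    induction z' using TensorProduct.induction_on with
    | zero => exact zero_mem _
    | add a b ha hb => exact add_mem ha hb
    | tmul x y => exact key x y
  exact h2 z'

theorem exists_of_mem_torR (z : X ⊗[k] Y)
    (hz : (z : UP k R S X Y) ∈ torSubI (idB k R S mS) (UP k R S X Y)) :
    ∃ z' : UP k R S X (GrLC.gam mS Y), gamInclR k R S X Y mS z' = (z : UP k R S X Y) := by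
  classical
  obtain ⟨n, hn⟩ := hz
  let bX := Module.Free.chooseBasis k X
  let B := Module.Free.ChooseBasisIndex k X
  let e : Y ⊗[k] X ≃ₗ[S] (B →₀ Y) :=
    (TensorProduct.AlgebraTensorModule.congr (LinearEquiv.refl S Y) bX.repr) ≪≫ₗ
      TensorProduct.finsuppScalarRight k S Y B
  let c := TensorProduct.comm k X Y
  have he : ∀ (y : Y) (b : B), e (y ⊗ₜ[k] bX b) = Finsupp.single b y := by
    intro y b
    simp only [e, LinearEquiv.trans_apply, TensorProduct.AlgebraTensorModule.congr_tmul,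
      LinearEquiv.refl_apply, Module.Basis.repr_self]
    rw [TensorProduct.finsuppScalarRight_apply_tmul, Finsupp.sum_single_index, one_smul]
    rw [zero_smul, Finsupp.single_zero]
  have hc : ∀ b, e (c z) b ∈ GrLC.gam mS Y := by
    intro b
    refine ⟨n, fun s hs => ?_⟩
    have h1' : GrSeg.act k R S X Y ((1 : R) ⊗ₜ[k] s) z = 0 :=
      hn ((Algebra.TensorProduct.includeRight : S →ₐ[k] R ⊗[k] S).toRingHom s)
        (by rw [← Ideal.map_pow]; exact Ideal.mem_map_of_mem _ hs)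
    have h2 := act_right k R S X Y s z
    rw [h1', map_zero] at h2
    have h3 : e (s • c z) b = 0 := by rw [← h2, map_zero]; rfl
    rw [map_smul] at h3
    exact h3
  refine ⟨∑ b ∈ (e (c z)).support, (bX b ⊗ₜ[k] (⟨e (c z) b, hc b⟩ : GrLC.gam mS Y) :
    X ⊗[k] ↥(GrLC.gam mS Y)), ?_⟩
  have h3 : gamInclR k R S X Y mS (∑ b ∈ (e (c z)).support,
      (bX b ⊗ₜ[k] (⟨e (c z) b, hc b⟩ : GrLC.gam mS Y) : X ⊗[k] ↥(GrLC.gam mS Y))) =
      ∑ b ∈ (e (c z)).support, (bX b ⊗ₜ[k] (e (c z) b) : X ⊗[k] Y) := by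
    rw [map_sum]
    rfl
  rw [h3]
  apply c.injective
  apply e.injective
  rw [map_sum, map_sum]
  simp only [c, TensorProduct.comm_tmul, he]
  exact (e (TensorProduct.comm k X Y z)).sum_single

end Right

section Sup

variable (k : Type u) [Field k] (R S : Type u) [CommRing R] [CommRing S] [Algebra k R]
  [Algebra k S]
  (X Y : Type u) [AddCommGroup X] [Module R X] [Module k X] [IsScalarTower k R X]
  [AddCommGroup Y] [Module S Y] [Module k Y] [IsScalarTower k S Y]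
  [IsNoetherianRing R] [IsNoetherianRing S] [IsNoetherianRing (R ⊗[k] S)]
  (mR : Ideal R) (mS : Ideal S)

/-- the quotient map `X ⊗ Y → (X / Γ_m X) ⊗ Y` -/
noncomputable def quoMap : UP k R S X Y →ₗ[R ⊗[k] S] UP k R S (X ⧸ GrLC.gam mR X) Y :=
  mapU (GrLC.gam mR X).mkQ LinearMap.id

theorem quoMap_gamIncl (w : UP k R S (GrLC.gam mR X) Y) :
    quoMap k R S X Y mR (gamIncl k R S X Y mR w) = 0 := by
  change TensorProduct.map _ _ (TensorProduct.map _ _ (w : ↥(GrLC.gam mR X) ⊗[k] Y)) = 0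
  rw [← LinearMap.comp_apply, ← TensorProduct.map_comp]
  have : ((GrLC.gam mR X).mkQ.restrictScalars k) ∘ₗ ((GrLC.gam mR X).subtype.restrictScalars k)
      = 0 := by
    ext x
    simp
  rw [this, TensorProduct.map_zero_left]
  rfl

theorem mem_range_of_quoMap_eq_zero (w : UP k R S X Y) (hw : quoMap k R S X Y mR w = 0) :
    w ∈ LinearMap.range (gamIncl k R S X Y mR) := by
  have hex : Function.Exact ((GrLC.gam mR X).subtype.restrictScalars k)
      ((GrLC.gam mR X).mkQ.restrictScalars k) := by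
    intro x
    change (GrLC.gam mR X).mkQ x = 0 ↔ x ∈ Set.range (GrLC.gam mR X).subtype
    rw [Submodule.mkQ_apply, Submodule.Quotient.mk_eq_zero]
    simp
  have h2 := rTensor_exact Y hex (Submodule.mkQ_surjective _)
  have h3 : (LinearMap.rTensor Y ((GrLC.gam mR X).mkQ.restrictScalars k)) (w : X ⊗[k] Y) = 0 := hw
  obtain ⟨v, hv⟩ := (h2 _).1 h3
  exact ⟨v, hv⟩

theorem mem_sup_of_kills (z : UP k R S X Y) (N : ℕ)
    (h : ∀ s ∈ (idB k R S mS) ^ N, ∀ r ∈ (idA k R S mR) ^ N, (s * r) • z = 0) :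
    ∃ (v : UP k R S (GrLC.gam mR X) Y) (w : UP k R S X (GrLC.gam mS Y)),
      z = gamIncl k R S X Y mR v + gamInclR k R S X Y mS w := by
  have h1 : quoMap k R S X Y mR z ∈
      torSubI (idB k R S mS) (UP k R S (X ⧸ GrLC.gam mR X) Y) := by
    refine ⟨N, fun s hs => ?_⟩
    rw [← map_smul]
    have h2 : s • z ∈ torSubI (idA k R S mR) (UP k R S X Y) := by
      refine ⟨N, fun r hr => ?_⟩
      rw [← mul_smul, mul_comm]
      exact h s hs r hr
    obtain ⟨w, hw⟩ := exists_of_mem_tor k R S X Y mR _ h2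
    rw [← hw, quoMap_gamIncl]
  obtain ⟨w', hw'⟩ := exists_of_mem_torR k R S (X ⧸ GrLC.gam mR X) Y mS _ h1
  have hsurj : Function.Surjective (TensorProduct.map ((GrLC.gam mR X).mkQ.restrictScalars k)
      (LinearMap.id : ↥(GrLC.gam mS Y) →ₗ[k] ↥(GrLC.gam mS Y))) :=
    TensorProduct.map_surjective (Submodule.mkQ_surjective _) Function.surjective_id
  obtain ⟨w'', hw''⟩ := hsurj w'
  have h4 : quoMap k R S X Y mR (gamInclR k R S X Y mS w'') = quoMap k R S X Y mR z := by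
    rw [← hw', ← hw'']
    change TensorProduct.map _ _ (TensorProduct.map _ _ w'') =
      TensorProduct.map _ _ (TensorProduct.map _ _ w'')
    rw [← LinearMap.comp_apply, ← TensorProduct.map_comp, ← LinearMap.comp_apply,
      ← TensorProduct.map_comp]
    rfl
  have h5 : quoMap k R S X Y mR (z - gamInclR k R S X Y mS w'') = 0 := by
    rw [map_sub, h4, sub_self]
  obtain ⟨v, hv⟩ := mem_range_of_quoMap_eq_zero k R S X Y mR _ h5
  refine ⟨v, w'', ?_⟩
  rw [hv]; abel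

end Sup

section Gam

variable {k : Type u} [Field k] {R S T : Type u} [CommRing R] [CommRing S] [CommRing T]
  [Algebra k R] [Algebra k S] [Algebra k T]
  (𝒜 : ℤ → Submodule k R) [GradedAlgebra 𝒜] (ℬ : ℤ → Submodule k S) [GradedAlgebra ℬ]
  (𝒯 : ℤ → Submodule k T) [GradedAlgebra 𝒯] (ψ : T →ₐ[k] R ⊗[k] S)
  (hT : GrSeg.IsSegreRing 𝒜 ℬ 𝒯 ψ)
  (mR : HomogeneousIdeal 𝒜) (hmR : mR.toIdeal = Ideal.span (⋃ n ∈ Set.Ioi (0 : ℤ), (𝒜 n : Set R)))
  (mS : HomogeneousIdeal ℬ) (hmS : mS.toIdeal = Ideal.span (⋃ n ∈ Set.Ioi (0 : ℤ), (ℬ n : Set S)))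
  (mT : HomogeneousIdeal 𝒯) (hmT : mT.toIdeal = Ideal.span (⋃ n ∈ Set.Ioi (0 : ℤ), (𝒯 n : Set T)))
  (X Y : Type u) [AddCommGroup X] [Module R X] [Module k X] [IsScalarTower k R X]
  [AddCommGroup Y] [Module S Y] [Module k Y] [IsScalarTower k S Y]
  [IsNoetherianRing R] [IsNoetherianRing S] [IsNoetherianRing (R ⊗[k] S)]

theorem kills_map_iff (n : ℕ) (z : TP ψ X Y) :
    (∀ t ∈ mT.toIdeal ^ n, t • z = 0) ↔
      ∀ u ∈ (mT.toIdeal.map ψ.toRingHom) ^ n, u • z = 0 := by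
  constructor
  · intro h u hu
    rw [← Ideal.map_pow] at hu
    refine Submodule.span_induction (p := fun u _ => u • z = 0) ?_ ?_ ?_ ?_ hu
    · rintro _ ⟨t, ht, rfl⟩
      exact h t ht
    · exact zero_smul _ _
    · intro a b _ _ ha hb
      rw [add_smul, ha, hb, add_zero]
    · intro v a _ ha
      rw [smul_eq_mul, mul_smul, ha, smul_zero]
  · intro h t ht
    have : ψ.toRingHom t ∈ (mT.toIdeal.map ψ.toRingHom) ^ n := by
      rw [← Ideal.map_pow]
      exact Ideal.mem_map_of_mem _ ht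
    exact h _ this

include hT hmR hmS hmT in
/-- **The `T_+`-torsion of `X ⊗[k] Y`.** -/
theorem mem_gam_TP_iff (z : TP ψ X Y) :
    z ∈ GrLC.gam mT.toIdeal (TP ψ X Y) ↔
      ∃ (v : UP k R S (GrLC.gam mR.toIdeal X) Y) (w : UP k R S X (GrLC.gam mS.toIdeal Y)),
        z = gamIncl k R S X Y mR.toIdeal v + gamInclR k R S X Y mS.toIdeal w := by
  constructor
  · rintro ⟨n, hn⟩
    have h1 := (kills_map_iff 𝒯 ψ mT X Y n z).1 hn
    have hle : idB k R S mS.toIdeal * idA k R S mR.toIdeal ≤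
        (mT.toIdeal.map ψ.toRingHom).radical := mul_le_radical 𝒜 ℬ 𝒯 ψ hT mR hmR mS hmS mT hmT
    obtain ⟨m, hm⟩ := Ideal.exists_pow_le_of_le_radical_of_fg hle
      (IsNoetherian.noetherian _)
    apply mem_sup_of_kills k R S X Y mR.toIdeal mS.toIdeal z (m * n)
    intro s hs r hr
    apply h1
    have h2 : s * r ∈ (idB k R S mS.toIdeal * idA k R S mR.toIdeal) ^ (m * n) := by
      rw [mul_pow]
      exact Ideal.mul_mem_mul hs hr
    rw [pow_mul] at h2
    exact Ideal.pow_right_mono hm n h2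
  · rintro ⟨v, w, hab⟩
    have hle := map_le_inf 𝒜 ℬ 𝒯 ψ hT mR hmR mS hmS mT hmT
    have ha : gamIncl k R S X Y mR.toIdeal v ∈ GrLC.gam mT.toIdeal (TP ψ X Y) := by
      obtain ⟨n, hn⟩ := gamIncl_mem k R S X Y mR.toIdeal v
      refine ⟨n, (kills_map_iff 𝒯 ψ mT X Y n _).2 fun u hu => ?_⟩
      exact hn u (Ideal.pow_right_mono (hle.trans inf_le_right) n hu)
    have hb : gamInclR k R S X Y mS.toIdeal w ∈ GrLC.gam mT.toIdeal (TP ψ X Y) := by
      obtain ⟨n, hn⟩ := gamInclR_mem k R S X Y mS.toIdeal w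
      refine ⟨n, (kills_map_iff 𝒯 ψ mT X Y n _).2 fun u hu => ?_⟩
      exact hn u (Ideal.pow_right_mono (hle.trans inf_le_left) n hu)
    have := (GrLC.gam mT.toIdeal (TP ψ X Y)).add_mem ha hb
    rw [hab]
    exact this

end Gam

end Groth.Agent.Lib.Helper20.SegAc
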