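import Mathlib

/-!
# Cochain complexes of vector spaces as big direct sums: differential, sign, splitting homotopy
-/

set_option autoImplicit false
set_option linter.unusedSectionVars false
set_option linter.unusedVariables false

namespace Groth.Agent.Lib.Helper20.Ku

open DirectSum

universe u

/-- a cochain complex of vector spaces, indexed by `ℕ` -/
structure Cx (k : Type u) [Field k] where
  X : ℕ → Type u
  [acg : ∀ i, AddCommGroup (X i)]
  [mod : ∀ i, Module k (X i)]
  d : ∀ i, X i →ₗ[k] X (i + 1)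
  d_comp : ∀ i x, d (i + 1) (d i x) = 0

attribute [instance] Cx.acg Cx.mod

namespace Cx

variable {k : Type u} [Field k] (A : Cx k)

/-- the total space -/
abbrev T : Type u := ⨁ i, A.X i

/-- the differential on the total space -/
noncomputable def dT : A.T →ₗ[k] A.T :=
  DirectSum.toModule k ℕ _ (fun i => (DirectSum.lof k ℕ A.X (i + 1)).comp (A.d i))

theorem dT_lof (i : ℕ) (x : A.X i) :
    A.dT (DirectSum.lof k ℕ A.X i x) = DirectSum.lof k ℕ A.X (i + 1) (A.d i x) := by
  unfold dT
  rw [DirectSum.toModule_lof]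
  rfl

/-- the sign operator -/
noncomputable def eT : A.T →ₗ[k] A.T :=
  DirectSum.toModule k ℕ _ (fun i => ((-1 : k) ^ i) • DirectSum.lof k ℕ A.X i)

theorem eT_lof (i : ℕ) (x : A.X i) :
    A.eT (DirectSum.lof k ℕ A.X i x) = ((-1 : k) ^ i) • DirectSum.lof k ℕ A.X i x := by
  unfold eT
  rw [DirectSum.toModule_lof]
  rfl

theorem dT_dT (x : A.T) : A.dT (A.dT x) = 0 := by
  have : A.dT.comp A.dT = 0 := by
    apply DirectSum.linearMap_ext
    intro i
    ext x
    simp only [LinearMap.comp_apply, dT_lof, A.d_comp, map_zero, LinearMap.zero_apply]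
  exact LinearMap.congr_fun this x

theorem eT_eT (x : A.T) : A.eT (A.eT x) = x := by
  have : A.eT.comp A.eT = LinearMap.id := by
    apply DirectSum.linearMap_ext
    intro i
    ext x
    simp only [LinearMap.comp_apply, eT_lof, map_smul, LinearMap.id_apply, smul_smul]
    rw [← pow_add, ← two_mul, pow_mul]
    simp
  exact LinearMap.congr_fun this x

theorem eT_dT (x : A.T) : A.eT (A.dT x) = - A.dT (A.eT x) := by
  have : A.eT.comp A.dT = - A.dT.comp A.eT := by
    apply DirectSum.linearMap_ext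
    intro i
    ext x
    simp only [LinearMap.comp_apply, eT_lof, dT_lof, map_smul, LinearMap.neg_apply, pow_succ]
    rw [mul_neg_one, neg_smul]
  exact LinearMap.congr_fun this x

/-- cocycles -/
def cocyc (i : ℕ) : Submodule k (A.X i) := LinearMap.ker (A.d i)

/-- coboundaries -/
def cobdy : (i : ℕ) → Submodule k (A.X i)
  | 0 => ⊥
  | i + 1 => LinearMap.range (A.d i)

theorem cobdy_le_cocyc (i : ℕ) : A.cobdy i ≤ A.cocyc i := by
  cases i with
  | zero => exact bot_le
  | succ i =>
    rintro _ ⟨x, rfl⟩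
    exact A.d_comp i x

/-- cohomology -/
abbrev H (i : ℕ) : Type u := ↥(A.cocyc i) ⧸ (A.cobdy i).comap (A.cocyc i).subtype

/-- the class map -/
abbrev cls (i : ℕ) : ↥(A.cocyc i) →ₗ[k] A.H i := ((A.cobdy i).comap (A.cocyc i).subtype).mkQ

theorem cls_surjective (i : ℕ) : Function.Surjective (A.cls i) := Submodule.mkQ_surjective _

theorem cls_eq_zero_iff (i : ℕ) (z : A.cocyc i) : A.cls i z = 0 ↔ (z : A.X i) ∈ A.cobdy i := by
  rw [Submodule.mkQ_apply, Submodule.Quotient.mk_eq_zero]
  rfl

/-- a splitting: a generalised inverse of the differential -/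
structure Spl where
  s : ∀ i, A.X (i + 1) →ₗ[k] A.X i
  dsd : ∀ i x, A.d i (s i (A.d i x)) = A.d i x

theorem exists_genInv {V W : Type u} [AddCommGroup V] [Module k V] [AddCommGroup W] [Module k W]
    (f : V →ₗ[k] W) : ∃ g : W →ₗ[k] V, ∀ x, f (g (f x)) = f x := by
  obtain ⟨σ, hσ⟩ := LinearMap.exists_rightInverse_of_surjective f.rangeRestrict
    (LinearMap.range_rangeRestrict f)
  obtain ⟨π, hπ⟩ := LinearMap.exists_leftInverse_of_injective (LinearMap.range f).subtype
    (by rw [Submodule.ker_subtype])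
  refine ⟨σ.comp π, fun x => ?_⟩
  have h1 : π (f x) = ⟨f x, LinearMap.mem_range_self f x⟩ :=
    LinearMap.congr_fun hπ ⟨f x, LinearMap.mem_range_self f x⟩
  have h2 : f.rangeRestrict (σ ⟨f x, LinearMap.mem_range_self f x⟩) =
      ⟨f x, LinearMap.mem_range_self f x⟩ := LinearMap.congr_fun hσ _
  have h3 := congrArg Subtype.val h2
  rw [LinearMap.comp_apply, h1]
  exact h3

theorem nonempty_spl : Nonempty A.Spl := by
  choose g hg using fun i => exists_genInv (A.d i)
  exact ⟨⟨g, hg⟩⟩

namespace Spl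

variable {A} (σ : A.Spl)

/-- the projection onto "harmonic" representatives -/
noncomputable def h : (i : ℕ) → A.X i →ₗ[k] A.X i
  | 0 => LinearMap.id - (σ.s 0).comp (A.d 0)
  | i + 1 => LinearMap.id - (A.d i).comp (σ.s i) - (σ.s (i + 1)).comp (A.d (i + 1))

theorem d_h (i : ℕ) (x : A.X i) : A.d i (σ.h i x) = 0 := by
  cases i with
  | zero =>
    simp only [h, LinearMap.sub_apply, LinearMap.id_apply, LinearMap.comp_apply, map_sub, σ.dsd,
      sub_self]
  | succ i =>
    simp only [h, LinearMap.sub_apply, LinearMap.id_apply, LinearMap.comp_apply, map_sub, σ.dsd,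
      A.d_comp, sub_zero, sub_self]

theorem h_d (i : ℕ) (x : A.X i) : σ.h (i + 1) (A.d i x) = 0 := by
  simp only [h, LinearMap.sub_apply, LinearMap.id_apply, LinearMap.comp_apply, σ.dsd,
    A.d_comp, map_zero, sub_zero, sub_self]

theorem h_sub_mem (i : ℕ) (z : A.X i) (hz : z ∈ A.cocyc i) : σ.h i z - z ∈ A.cobdy i := by
  have hz' : A.d i z = 0 := hz
  cases i with
  | zero =>
    simp only [h, LinearMap.sub_apply, LinearMap.id_apply, LinearMap.comp_apply, hz', map_zero,
      sub_zero, sub_self]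
    exact zero_mem _
  | succ i =>
    simp only [h, LinearMap.sub_apply, LinearMap.id_apply, LinearMap.comp_apply, hz', map_zero,
      sub_zero]
    refine ⟨-(σ.s i z), ?_⟩
    rw [map_neg]
    abel

/-- `h` with values in cocycles -/
noncomputable def hc (i : ℕ) : A.X i →ₗ[k] A.cocyc i :=
  LinearMap.codRestrict _ (σ.h i) (fun x => σ.d_h i x)

theorem hc_coe (i : ℕ) (x : A.X i) : ((σ.hc i x : A.cocyc i) : A.X i) = σ.h i x := rfl

theorem cls_hc (i : ℕ) (z : A.cocyc i) : A.cls i (σ.hc i (z : A.X i)) = A.cls i z := by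
  rw [← sub_eq_zero, ← map_sub, cls_eq_zero_iff]
  exact σ.h_sub_mem i z z.2

theorem hc_d (i : ℕ) (x : A.X i) : σ.hc (i + 1) (A.d i x) = 0 :=
  Subtype.ext (σ.h_d i x)

/-- the homotopy on the total space -/
noncomputable def sT : A.T →ₗ[k] A.T :=
  DirectSum.toModule k ℕ _ (fun i => match i with
    | 0 => (0 : A.X 0 →ₗ[k] A.T)
    | i + 1 => (DirectSum.lof k ℕ A.X i).comp (σ.s i))

theorem sT_lof_zero (x : A.X 0) : σ.sT (DirectSum.lof k ℕ A.X 0 x) = 0 := by
  unfold sT
  rw [DirectSum.toModule_lof]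
  rfl

theorem sT_lof_succ (i : ℕ) (x : A.X (i + 1)) :
    σ.sT (DirectSum.lof k ℕ A.X (i + 1) x) = DirectSum.lof k ℕ A.X i (σ.s i x) := by
  unfold sT
  rw [DirectSum.toModule_lof]
  rfl

/-- `h` on the total space -/
noncomputable def hT : A.T →ₗ[k] A.T :=
  DirectSum.toModule k ℕ _ (fun i => (DirectSum.lof k ℕ A.X i).comp (σ.h i))

theorem hT_lof (i : ℕ) (x : A.X i) :
    σ.hT (DirectSum.lof k ℕ A.X i x) = DirectSum.lof k ℕ A.X i (σ.h i x) := by
  unfold hT
  rw [DirectSum.toModule_lof]
  rfl

theorem homotopy (x : A.T) : A.dT (σ.sT x) + σ.sT (A.dT x) = x - σ.hT x := by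
  have : A.dT.comp σ.sT + σ.sT.comp A.dT = LinearMap.id - σ.hT := by
    apply DirectSum.linearMap_ext
    intro i
    ext x
    cases i with
    | zero =>
      simp only [LinearMap.add_apply, LinearMap.comp_apply, LinearMap.sub_apply,
        LinearMap.id_apply, sT_lof_zero, map_zero, zero_add, dT_lof, sT_lof_succ, hT_lof, h,
        map_sub]
      abel
    | succ i =>
      simp only [LinearMap.add_apply, LinearMap.comp_apply, LinearMap.sub_apply,
        LinearMap.id_apply, dT_lof, sT_lof_succ, hT_lof, h, map_sub]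
      abel
  exact LinearMap.congr_fun this x

theorem dT_hT (x : A.T) : A.dT (σ.hT x) = 0 := by
  have : A.dT.comp σ.hT = 0 := by
    apply DirectSum.linearMap_ext
    intro i
    ext x
    simp only [LinearMap.comp_apply, hT_lof, dT_lof, σ.d_h, map_zero, LinearMap.zero_apply]
  exact LinearMap.congr_fun this x

theorem hT_dT (x : A.T) : σ.hT (A.dT x) = 0 := by
  have : σ.hT.comp A.dT = 0 := by
    apply DirectSum.linearMap_ext
    intro i
    ext x
    simp only [LinearMap.comp_apply, hT_lof, dT_lof, σ.h_d, map_zero, LinearMap.zero_apply]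
  exact LinearMap.congr_fun this x

theorem eT_sT (x : A.T) : A.eT (σ.sT x) = - σ.sT (A.eT x) := by
  have : A.eT.comp σ.sT = - σ.sT.comp A.eT := by
    apply DirectSum.linearMap_ext
    intro i
    ext x
    cases i with
    | zero =>
      simp only [LinearMap.comp_apply, sT_lof_zero, map_zero, LinearMap.neg_apply, eT_lof,
        map_smul, smul_zero, neg_zero]
    | succ i =>
      simp only [LinearMap.comp_apply, sT_lof_succ, eT_lof, LinearMap.neg_apply, map_smul,
        pow_succ]
      rw [mul_neg_one, neg_smul, neg_neg]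
  exact LinearMap.congr_fun this x

end Spl

end Cx

end Groth.Agent.Lib.Helper20.Ku
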