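import Mathlib
import Groth.Agent.Lib.Helper20.Ku1

/-!
# The total complex of a tensor product of two complexes of vector spaces: homotopy decomposition
-/

set_option autoImplicit false
set_option linter.unusedSectionVars false
set_option linter.unusedVariables false

namespace Groth.Agent.Lib.Helper20.Ku

open DirectSum TensorProduct

universe u

variable {k : Type u} [Field k] (A B : Cx k)

/-- the big tensor product -/
abbrev TT : Type u := A.T ⊗[k] B.T

/-- the total differential -/
noncomputable def D : TT A B →ₗ[k] TT A B :=
  TensorProduct.map A.dT LinearMap.id + TensorProduct.map A.eT B.dT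

theorem D_tmul (v : A.T) (w : B.T) :
    D A B (v ⊗ₜ[k] w) = A.dT v ⊗ₜ[k] w + A.eT v ⊗ₜ[k] B.dT w := by
  simp [D]

theorem D_D (x : TT A B) : D A B (D A B x) = 0 := by
  induction x using TensorProduct.induction_on with
  | zero => simp
  | tmul v w =>
    rw [D_tmul, map_add, D_tmul, D_tmul, A.dT_dT, B.dT_dT, A.eT_dT, TensorProduct.zero_tmul,
      TensorProduct.tmul_zero, zero_add, add_zero, TensorProduct.neg_tmul, add_comm, add_neg_cancel]
  | add x y hx hy => rw [map_add, map_add, hx, hy, add_zero]

variable {A B} (σA : A.Spl) (σB : B.Spl)

/-- homotopy in the second variable -/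
noncomputable def SY : TT A B →ₗ[k] TT A B := TensorProduct.map A.eT σB.sT
/-- projection in the second variable -/
noncomputable def PY : TT A B →ₗ[k] TT A B := TensorProduct.map LinearMap.id σB.hT
/-- homotopy in the first variable -/
noncomputable def SX : TT A B →ₗ[k] TT A B := TensorProduct.map σA.sT LinearMap.id
/-- projection in the first variable -/
noncomputable def PX : TT A B →ₗ[k] TT A B := TensorProduct.map σA.hT LinearMap.id

theorem homotopyY (x : TT A B) :
    D A B (SY (A := A) σB x) + SY (A := A) σB (D A B x) = x - PY (A := A) σB x := by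
  induction x using TensorProduct.induction_on with
  | zero => simp
  | tmul v w =>
    simp only [SY, PY, TensorProduct.map_tmul, D_tmul, map_add, LinearMap.id_apply]
    rw [A.eT_eT, A.eT_dT, TensorProduct.neg_tmul]
    have h := σB.homotopy w
    rw [← TensorProduct.tmul_sub, ← h, TensorProduct.tmul_add]
    abel
  | add x y hx hy =>
    rw [map_add, map_add, map_add, map_add, map_add]
    rw [add_add_add_comm, hx, hy]
    abel

theorem homotopyX (x : TT A B) :
    D A B (SX (B := B) σA x) + SX (B := B) σA (D A B x) = x - PX (B := B) σA x := by
  induction x using TensorProduct.induction_on with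
  | zero => simp
  | tmul v w =>
    simp only [SX, PX, TensorProduct.map_tmul, D_tmul, map_add, LinearMap.id_apply]
    rw [σA.eT_sT, TensorProduct.neg_tmul]
    have h := σA.homotopy v
    rw [← TensorProduct.sub_tmul, ← h, TensorProduct.add_tmul]
    abel
  | add x y hx hy =>
    rw [map_add, map_add, map_add, map_add, map_add]
    rw [add_add_add_comm, hx, hy]
    abel

theorem D_PY (x : TT A B) : D A B (PY (A := A) σB x) = PY (A := A) σB (D A B x) := by
  induction x using TensorProduct.induction_on with
  | zero => simp
  | tmul v w =>
    simp only [PY, TensorProduct.map_tmul, D_tmul, map_add, LinearMap.id_apply]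
    rw [σB.dT_hT, σB.hT_dT]
  | add x y hx hy => rw [map_add, map_add, map_add, map_add, hx, hy]

theorem PX_PY (x : TT A B) :
    PX (B := B) σA (PY (A := A) σB x) = TensorProduct.map σA.hT σB.hT x := by
  induction x using TensorProduct.induction_on with
  | zero => simp
  | tmul v w => simp only [PX, PY, TensorProduct.map_tmul, LinearMap.id_apply]
  | add x y hx hy => rw [map_add, map_add, map_add, hx, hy]

/-- every cocycle is cohomologous to its "harmonic projection" -/
theorem decomp (x : TT A B) (hx : D A B x = 0) :
    x = TensorProduct.map σA.hT σB.hT x +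
      D A B (SY (A := A) σB x + SX (B := B) σA (PY (A := A) σB x)) := by
  have h1 := homotopyY (A := A) σB x
  rw [hx, map_zero, add_zero] at h1
  have h2 : D A B (PY (A := A) σB x) = 0 := by rw [D_PY, hx, map_zero]
  have h3 := homotopyX (B := B) σA (PY (A := A) σB x)
  rw [h2, map_zero, add_zero, PX_PY] at h3
  rw [map_add, h1, h3]
  abel

end Groth.Agent.Lib.Helper20.Ku
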