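import Mathlib
import Groth.Agent.Lib.Helper20.Ku2

/-!
# Degrees in the total complex and the comparison map to the tensor product of cohomologies
-/

set_option autoImplicit false
set_option linter.unusedSectionVars false
set_option linter.unusedVariables false

namespace Groth.Agent.Lib.Helper20.Ku

open DirectSum TensorProduct

universe u

variable {k : Type u} [Field k] (A B : Cx k)

/-- the antidiagonal -/
abbrev AD (q : ℕ) : Finset (ℕ × ℕ) := Finset.HasAntidiagonal.antidiagonal q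

theorem mem_AD {q : ℕ} {ij : ℕ × ℕ} : ij ∈ AD q ↔ ij.1 + ij.2 = q :=
  Finset.HasAntidiagonal.mem_antidiagonal

/-- inclusion of a bidegree component -/
noncomputable def inc (i j : ℕ) : A.X i ⊗[k] B.X j →ₗ[k] TT A B :=
  TensorProduct.map (DirectSum.lof k ℕ A.X i) (DirectSum.lof k ℕ B.X j)

/-- projection to a bidegree component -/
noncomputable def comp (i j : ℕ) : TT A B →ₗ[k] A.X i ⊗[k] B.X j :=
  TensorProduct.map (DirectSum.component k ℕ A.X i) (DirectSum.component k ℕ B.X j)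

theorem inc_tmul (i j : ℕ) (x : A.X i) (y : B.X j) :
    inc A B i j (x ⊗ₜ[k] y) = DirectSum.lof k ℕ A.X i x ⊗ₜ[k] DirectSum.lof k ℕ B.X j y := rfl

theorem comp_inc_self (i j : ℕ) (t : A.X i ⊗[k] B.X j) : comp A B i j (inc A B i j t) = t := by
  unfold comp inc
  rw [← LinearMap.comp_apply, ← TensorProduct.map_comp, DirectSum.component_comp_lof_same,
    DirectSum.component_comp_lof_same, TensorProduct.map_id]
  rfl

theorem component_lof_ne {X : ℕ → Type u} [∀ i, AddCommGroup (X i)] [∀ i, Module k (X i)]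
    {i j : ℕ} (h : j ≠ i) (b : X j) :
    DirectSum.component k ℕ X i (DirectSum.lof k ℕ X j b) = 0 := by
  rw [DirectSum.component.of, dif_neg h]

theorem comp_inc_ne {i j i' j' : ℕ} (h : (i', j') ≠ (i, j)) (t : A.X i' ⊗[k] B.X j') :
    comp A B i j (inc A B i' j' t) = 0 := by
  induction t using TensorProduct.induction_on with
  | zero => simp
  | tmul x y =>
    rw [inc_tmul]
    unfold comp
    rw [TensorProduct.map_tmul]
    by_cases hi : i' = i
    · have hj : j' ≠ j := by
        rintro rfl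
        exact h (by rw [hi])
      rw [component_lof_ne hj, TensorProduct.tmul_zero]
    · rw [component_lof_ne hi, TensorProduct.zero_tmul]
  | add a b ha hb => rw [map_add, map_add, ha, hb, add_zero]

/-- bidegree piece -/
noncomputable def Tij (i j : ℕ) : Submodule k (TT A B) := LinearMap.range (inc A B i j)

/-- total degree piece -/
noncomputable def Tq (q : ℕ) : Submodule k (TT A B) := ⨆ (ij : ℕ × ℕ) (_ : ij.1 + ij.2 = q), Tij A B ij.1 ij.2

/-- coboundaries of total degree `q` -/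
noncomputable def Bq (q : ℕ) : Submodule k (TT A B) :=
  ⨆ (ab : ℕ × ℕ) (_ : ab.1 + ab.2 + 1 = q), (Tij A B ab.1 ab.2).map (D A B)

theorem Tij_le_Tq {i j q : ℕ} (h : i + j = q) : Tij A B i j ≤ Tq A B q :=
  le_iSup₂_of_le (i, j) h le_rfl

theorem Tij_le {i j : ℕ} {N : Submodule k (TT A B)}
    (h : ∀ x y, DirectSum.lof k ℕ A.X i x ⊗ₜ[k] DirectSum.lof k ℕ B.X j y ∈ N) :
    Tij A B i j ≤ N := by
  rintro _ ⟨t, rfl⟩
  induction t using TensorProduct.induction_on with
  | zero => rw [map_zero]; exact zero_mem _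
  | tmul x y => exact h x y
  | add a b ha hb => rw [map_add]; exact N.add_mem ha hb

theorem Tq_le {q : ℕ} {N : Submodule k (TT A B)}
    (h : ∀ i j, i + j = q → ∀ x y,
      DirectSum.lof k ℕ A.X i x ⊗ₜ[k] DirectSum.lof k ℕ B.X j y ∈ N) :
    Tq A B q ≤ N :=
  iSup₂_le fun ij hij => Tij_le A B (h ij.1 ij.2 hij)

theorem D_tmul_lof (i j : ℕ) (x : A.X i) (y : B.X j) :
    D A B (DirectSum.lof k ℕ A.X i x ⊗ₜ[k] DirectSum.lof k ℕ B.X j y) =
      DirectSum.lof k ℕ A.X (i + 1) (A.d i x) ⊗ₜ[k] DirectSum.lof k ℕ B.X j y +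
        ((-1 : k) ^ i) • (DirectSum.lof k ℕ A.X i x ⊗ₜ[k]
          DirectSum.lof k ℕ B.X (j + 1) (B.d j y)) := by
  rw [D_tmul, Cx.dT_lof, Cx.eT_lof, Cx.dT_lof, TensorProduct.smul_tmul']

theorem tmul_mem_Tq {i j q : ℕ} (h : i + j = q) (x : A.X i) (y : B.X j) :
    DirectSum.lof k ℕ A.X i x ⊗ₜ[k] DirectSum.lof k ℕ B.X j y ∈ Tq A B q :=
  Tij_le_Tq A B h ⟨x ⊗ₜ y, rfl⟩

theorem D_mem_Tq {q : ℕ} {x : TT A B} (hx : x ∈ Tq A B q) : D A B x ∈ Tq A B (q + 1) := by
  have : Tq A B q ≤ (Tq A B (q + 1)).comap (D A B) := by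
    apply Tq_le
    intro i j hij x y
    rw [Submodule.mem_comap, D_tmul_lof]
    refine add_mem (tmul_mem_Tq A B (by omega) _ _) (Submodule.smul_mem _ _ ?_)
    exact tmul_mem_Tq A B (by omega) _ _
  exact this hx

theorem Bq_le_Tq (q : ℕ) : Bq A B q ≤ Tq A B q := by
  apply iSup₂_le
  rintro ab hab _ ⟨x, hx, rfl⟩
  have h1 : x ∈ Tq A B (ab.1 + ab.2) := Tij_le_Tq A B rfl hx
  have h2 := D_mem_Tq A B h1
  rwa [hab] at h2

theorem Bq_le_ker (q : ℕ) : Bq A B q ≤ LinearMap.ker (D A B) := by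
  apply iSup₂_le
  rintro ab hab _ ⟨x, hx, rfl⟩
  exact D_D A B x

theorem Bq_succ_le (q : ℕ) : Bq A B (q + 1) ≤ (Tq A B q).map (D A B) := by
  apply iSup₂_le
  intro ab hab
  exact Submodule.map_mono (Tij_le_Tq A B (by omega))

theorem Bq_zero : Bq A B 0 = ⊥ := by
  rw [eq_bot_iff]
  apply iSup₂_le
  intro ab hab
  omega

/-- every element of total degree `q` is the sum of its components -/
theorem repr {q : ℕ} {x : TT A B} (hx : x ∈ Tq A B q) :
    x = ∑ ij ∈ AD q, inc A B ij.1 ij.2 (comp A B ij.1 ij.2 x) := by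
  classical
  let F : TT A B →ₗ[k] TT A B :=
    ∑ ij ∈ AD q, (inc A B ij.1 ij.2).comp (comp A B ij.1 ij.2)
  have hF : ∀ y, F y = ∑ ij ∈ AD q, inc A B ij.1 ij.2 (comp A B ij.1 ij.2 y) := by
    intro y
    simp only [F, LinearMap.sum_apply, LinearMap.comp_apply]
  have : Tq A B q ≤ LinearMap.eqLocus LinearMap.id F := by
    apply Tq_le
    intro i j hij x y
    rw [LinearMap.mem_eqLocus, LinearMap.id_apply, hF]
    rw [Finset.sum_eq_single (i, j)]
    · rw [← inc_tmul, comp_inc_self]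
    · intro ij _ hne
      rw [← inc_tmul, comp_inc_ne A B (Ne.symm hne), map_zero]
    · intro h
      exact absurd (mem_AD.2 hij) h
  have h1 := this hx
  rw [LinearMap.mem_eqLocus, LinearMap.id_apply, hF] at h1
  exact h1

/-- an extensionality principle for linear maps out of the big tensor product -/
theorem TT_ext {M : Type*} [AddCommGroup M] [Module k M] {f g : TT A B →ₗ[k] M}
    (h : ∀ a b x y, f (DirectSum.lof k ℕ A.X a x ⊗ₜ[k] DirectSum.lof k ℕ B.X b y) =
      g (DirectSum.lof k ℕ A.X a x ⊗ₜ[k] DirectSum.lof k ℕ B.X b y)) : f = g := by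
  apply TensorProduct.ext
  apply DirectSum.linearMap_ext
  intro a
  apply LinearMap.ext
  intro x
  apply DirectSum.linearMap_ext
  intro b
  apply LinearMap.ext
  intro y
  exact h a b x y

/-- instance shortcut (the nested instance search fails otherwise) -/
noncomputable instance instACGSub (Z : Submodule k (A.T ⊗[k] B.T)) : AddCommGroup ↥Z :=
  Submodule.addCommGroup Z

/-- cocycles of total degree `q` -/
noncomputable abbrev Zq (q : ℕ) : Submodule k (TT A B) := LinearMap.ker (D A B) ⊓ Tq A B q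

/-- cohomology of the total complex -/
noncomputable abbrev Hq (q : ℕ) : Type u := ↥(Zq A B q) ⧸ (Bq A B q).comap (Zq A B q).subtype

variable {A B} (σA : A.Spl) (σB : B.Spl)

/-- the component of the comparison map -/
noncomputable def phiC (i j : ℕ) : TT A B →ₗ[k] A.H i ⊗[k] B.H j :=
  (TensorProduct.map ((A.cls i).comp (σA.hc i)) ((B.cls j).comp (σB.hc j))).comp (comp A B i j)

theorem phiC_D (i j : ℕ) (t : TT A B) : phiC σA σB i j (D A B t) = 0 := by
  have : (phiC σA σB i j).comp (D A B) = 0 := by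
    apply TT_ext
    intro a b x y
    rw [LinearMap.comp_apply, LinearMap.zero_apply, D_tmul_lof, map_add, map_smul]
    have h1 : phiC σA σB i j (DirectSum.lof k ℕ A.X (a + 1) (A.d a x) ⊗ₜ[k]
        DirectSum.lof k ℕ B.X b y) = 0 := by
      by_cases h : (a + 1, b) = (i, j)
      · obtain ⟨rfl, rfl⟩ := Prod.mk.inj h
        unfold phiC
        rw [LinearMap.comp_apply, ← inc_tmul, comp_inc_self, TensorProduct.map_tmul,
          LinearMap.comp_apply, σA.hc_d, map_zero, TensorProduct.zero_tmul]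
      · unfold phiC
        rw [LinearMap.comp_apply, ← inc_tmul, comp_inc_ne A B h, map_zero]
    have h2 : phiC σA σB i j (DirectSum.lof k ℕ A.X a x ⊗ₜ[k]
        DirectSum.lof k ℕ B.X (b + 1) (B.d b y)) = 0 := by
      by_cases h : (a, b + 1) = (i, j)
      · obtain ⟨rfl, rfl⟩ := Prod.mk.inj h
        unfold phiC
        rw [LinearMap.comp_apply, ← inc_tmul, comp_inc_self, TensorProduct.map_tmul,
          LinearMap.comp_apply (B.cls _), σB.hc_d, map_zero, TensorProduct.tmul_zero]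
      · unfold phiC
        rw [LinearMap.comp_apply, ← inc_tmul, comp_inc_ne A B h, map_zero]
    rw [h1, h2, smul_zero, add_zero]
  exact LinearMap.congr_fun this t

/-- the comparison map on the big tensor product -/
noncomputable def phi (q : ℕ) :
    TT A B →ₗ[k] ((ij : AD q) → A.H ij.1.1 ⊗[k] B.H ij.1.2) :=
  LinearMap.pi (fun ij => phiC σA σB ij.1.1 ij.1.2)

theorem phi_apply (q : ℕ) (t : TT A B) (ij : AD q) :
    phi σA σB q t ij = phiC σA σB ij.1.1 ij.1.2 t := rfl

theorem Bq_le_ker_phi (q : ℕ) : Bq A B q ≤ LinearMap.ker (phi σA σB q) := by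
  apply iSup₂_le
  rintro ab hab _ ⟨x, hx, rfl⟩
  rw [LinearMap.mem_ker]
  funext ij
  rw [phi_apply, phiC_D]
  rfl

/-- the target of the comparison map -/
abbrev KT (A B : Cx k) (q : ℕ) : Type u := (ij : AD q) → A.H ij.1.1 ⊗[k] B.H ij.1.2

noncomputable instance instACGKT (q : ℕ) : AddCommGroup (KT A B q) := Pi.addCommGroup

/-- the comparison map on cohomology -/
noncomputable def phiH (q : ℕ) :
    Hq A B q →ₗ[k] KT A B q :=
  have hker : (Bq A B q).comap (Zq A B q).subtype ≤
      LinearMap.ker ((phi σA σB q).comp (Zq A B q).subtype) := by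
    intro z hz
    have hz' : (z : TT A B) ∈ Bq A B q := hz
    exact Bq_le_ker_phi σA σB q hz'
  Submodule.liftQ ((Bq A B q).comap (Zq A B q).subtype)
    ((phi σA σB q).comp (Zq A B q).subtype) hker

theorem phiH_mk (q : ℕ) (z : Zq A B q) :
    phiH σA σB q (Submodule.Quotient.mk z) = phi σA σB q (z : TT A B) := rfl

/-- the class of a tensor of cocycles -/
noncomputable def zz (i j : ℕ) : ↥(A.cocyc i) ⊗[k] ↥(B.cocyc j) →ₗ[k] TT A B :=
  (inc A B i j).comp (TensorProduct.map (A.cocyc i).subtype (B.cocyc j).subtype)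

theorem D_zz (i j : ℕ) (ζ : ↥(A.cocyc i) ⊗[k] ↥(B.cocyc j)) : D A B (zz (A := A) (B := B) i j ζ) = 0 := by
  induction ζ using TensorProduct.induction_on with
  | zero => simp
  | tmul z w =>
    unfold zz
    rw [LinearMap.comp_apply, TensorProduct.map_tmul, inc_tmul, D_tmul_lof]
    have h1 : A.d i (z : A.X i) = 0 := z.2
    have h2 : B.d j (w : B.X j) = 0 := w.2
    simp only [Submodule.subtype_apply, h1, h2, map_zero, TensorProduct.zero_tmul,
      TensorProduct.tmul_zero, smul_zero, add_zero]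
  | add a b ha hb => rw [map_add, map_add, ha, hb, add_zero]

theorem zz_mem_Tq {i j q : ℕ} (h : i + j = q) (ζ : ↥(A.cocyc i) ⊗[k] ↥(B.cocyc j)) :
    zz (A := A) (B := B) i j ζ ∈ Tq A B q :=
  Tij_le_Tq A B h ⟨_, rfl⟩

theorem phiC_zz_self (i j : ℕ) (ζ : ↥(A.cocyc i) ⊗[k] ↥(B.cocyc j)) :
    phiC σA σB i j (zz (A := A) (B := B) i j ζ) = TensorProduct.map (A.cls i) (B.cls j) ζ := by
  unfold phiC zz
  rw [LinearMap.comp_apply, LinearMap.comp_apply, comp_inc_self]
  induction ζ using TensorProduct.induction_on with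
  | zero => simp
  | tmul z w =>
    rw [TensorProduct.map_tmul, TensorProduct.map_tmul, TensorProduct.map_tmul]
    simp only [LinearMap.comp_apply, Submodule.subtype_apply]
    rw [σA.cls_hc, σB.cls_hc]
  | add a b ha hb => simp only [map_add, ha, hb]

theorem phiC_zz_ne {i j i' j' : ℕ} (h : (i', j') ≠ (i, j))
    (ζ : ↥(A.cocyc i') ⊗[k] ↥(B.cocyc j')) :
    phiC σA σB i j (zz (A := A) (B := B) i' j' ζ) = 0 := by
  unfold phiC zz
  rw [LinearMap.comp_apply, LinearMap.comp_apply, comp_inc_ne A B h, map_zero]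

theorem phiH_surjective (q : ℕ) : Function.Surjective (phiH σA σB q) := by
  classical
  intro ξ
  have hs : ∀ ij : AD q,
      ∃ ζ : ↥(A.cocyc ij.1.1) ⊗[k] ↥(B.cocyc ij.1.2),
        TensorProduct.map (A.cls ij.1.1) (B.cls ij.1.2) ζ = ξ ij := fun ij =>
    TensorProduct.map_surjective (A.cls_surjective _) (B.cls_surjective _) (ξ ij)
  choose ζ hζ using hs
  let x : TT A B := ∑ ij : AD q, zz (A := A) (B := B) ij.1.1 ij.1.2 (ζ ij)
  have hxZ : x ∈ Zq A B q := by
    refine ⟨?_, ?_⟩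
    · show D A B x = 0
      rw [map_sum]
      exact Finset.sum_eq_zero fun ij _ => D_zz _ _ _
    · exact sum_mem fun ij _ => zz_mem_Tq (mem_AD.1 ij.2) _
  refine ⟨Submodule.Quotient.mk ⟨x, hxZ⟩, ?_⟩
  rw [phiH_mk]
  funext ij₀
  rw [phi_apply]
  change phiC σA σB ij₀.1.1 ij₀.1.2 (∑ ij : AD q, _) = _
  rw [map_sum, Finset.sum_eq_single ij₀]
  · rw [phiC_zz_self, hζ]
  · intro ij _ hne
    apply phiC_zz_ne
    intro h
    apply hne
    apply Subtype.ext
    exact Prod.ext (Prod.mk.inj h).1 (Prod.mk.inj h).2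
  · intro h
    exact absurd (Finset.mem_univ _) h

end Groth.Agent.Lib.Helper20.Ku
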