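import Mathlib
import Groth.Agent.Lib.Helper20.Ku3

/-!
# The Künneth formula for complexes of vector spaces
-/

set_option autoImplicit false
set_option linter.unusedSectionVars false
set_option linter.unusedVariables false

namespace Groth.Agent.Lib.Helper20.Ku

open DirectSum TensorProduct

universe u

variable {k : Type u} [Field k] {A B : Cx k} (σA : A.Spl) (σB : B.Spl)

theorem mem_Bq_of {a b q : ℕ} (h : a + b + 1 = q) {t : TT A B} (ht : t ∈ Tij A B a b) :
    D A B t ∈ Bq A B q :=
  (le_iSup₂_of_le (f := fun (ab : ℕ × ℕ) (_ : ab.1 + ab.2 + 1 = q) =>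
    (Tij A B ab.1 ab.2).map (D A B)) (a, b) h le_rfl) (Submodule.mem_map_of_mem ht)

theorem DSY_mem_Bq {q : ℕ} {x : TT A B} (hx : x ∈ Tq A B q) :
    D A B (SY (A := A) σB x) ∈ Bq A B q := by
  have : Tq A B q ≤ (Bq A B q).comap ((D A B).comp (SY (A := A) σB)) := by
    apply Tq_le
    intro i j hij x y
    rw [Submodule.mem_comap, LinearMap.comp_apply]
    unfold SY
    rw [TensorProduct.map_tmul, Cx.eT_lof]
    cases j with
    | zero =>
      rw [Cx.Spl.sT_lof_zero, TensorProduct.tmul_zero, map_zero]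
      exact zero_mem _
    | succ j =>
      rw [Cx.Spl.sT_lof_succ, ← TensorProduct.smul_tmul', map_smul]
      exact Submodule.smul_mem _ _ (mem_Bq_of (by omega) ⟨x ⊗ₜ σB.s j y, rfl⟩)
  exact this hx

theorem DSXPY_mem_Bq {q : ℕ} {x : TT A B} (hx : x ∈ Tq A B q) :
    D A B (SX (B := B) σA (PY (A := A) σB x)) ∈ Bq A B q := by
  have : Tq A B q ≤ (Bq A B q).comap ((D A B).comp ((SX (B := B) σA).comp (PY (A := A) σB))) := by
    apply Tq_le
    intro i j hij x y
    rw [Submodule.mem_comap, LinearMap.comp_apply, LinearMap.comp_apply]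
    unfold SX PY
    rw [TensorProduct.map_tmul, TensorProduct.map_tmul, LinearMap.id_apply, LinearMap.id_apply,
      Cx.Spl.hT_lof]
    cases i with
    | zero =>
      rw [Cx.Spl.sT_lof_zero, TensorProduct.zero_tmul, map_zero]
      exact zero_mem _
    | succ i =>
      rw [Cx.Spl.sT_lof_succ]
      exact mem_Bq_of (by omega) ⟨σA.s i x ⊗ₜ σB.h j y, rfl⟩
  exact this hx

theorem map_hT_inc (i j : ℕ) (t : A.X i ⊗[k] B.X j) :
    TensorProduct.map σA.hT σB.hT (inc A B i j t) =
      zz (A := A) (B := B) i j (TensorProduct.map (σA.hc i) (σB.hc j) t) := by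
  induction t using TensorProduct.induction_on with
  | zero => simp
  | tmul x y =>
    rw [inc_tmul, TensorProduct.map_tmul, Cx.Spl.hT_lof, Cx.Spl.hT_lof, TensorProduct.map_tmul]
    rfl
  | add a b ha hb => simp only [map_add, ha, hb]

theorem zz_mem_Bq_of_ker {i j q : ℕ} (hq : i + j = q) (ζ : ↥(A.cocyc i) ⊗[k] ↥(B.cocyc j))
    (hζ : TensorProduct.map (A.cls i) (B.cls j) ζ = 0) :
    zz (A := A) (B := B) i j ζ ∈ Bq A B q := by
  have hk := TensorProduct.map_ker
    (LinearMap.exact_subtype_mkQ ((A.cobdy i).comap (A.cocyc i).subtype))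
    (A.cls_surjective i)
    (LinearMap.exact_subtype_mkQ ((B.cobdy j).comap (B.cocyc j).subtype))
    (B.cls_surjective j)
  have hmem : ζ ∈ LinearMap.ker (TensorProduct.map (A.cls i) (B.cls j)) := hζ
  rw [hk] at hmem
  obtain ⟨u, ⟨u', rfl⟩, v, ⟨v', rfl⟩, rfl⟩ := Submodule.mem_sup.1 hmem
  clear hmem hζ
  rw [map_add]
  refine add_mem ?_ ?_
  · induction u' using TensorProduct.induction_on with
    | zero => simp
    | tmul z b =>
      rw [LinearMap.lTensor_tmul]
      unfold zz
      rw [LinearMap.comp_apply, TensorProduct.map_tmul, inc_tmul]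
      have hb : ((b : ↥(B.cocyc j)) : B.X j) ∈ B.cobdy j := b.2
      have hz : A.d i (z : A.X i) = 0 := z.2
      simp only [Submodule.subtype_apply]
      cases j with
      | zero =>
        have h0 : ((b : ↥(B.cocyc 0)) : B.X 0) = 0 := (Submodule.mem_bot k).1 hb
        rw [h0, map_zero, TensorProduct.tmul_zero]
        exact zero_mem _
      | succ j =>
        obtain ⟨y, hy⟩ := hb
        have hD := D_tmul_lof A B i j (z : A.X i) y
        rw [hz, map_zero, TensorProduct.zero_tmul, zero_add, hy] at hD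
        have h2 : DirectSum.lof k ℕ A.X i (z : A.X i) ⊗ₜ[k]
            DirectSum.lof k ℕ B.X (j + 1) ((b : ↥(B.cocyc (j + 1))) : B.X (j + 1)) =
            ((-1 : k) ^ i) • D A B (DirectSum.lof k ℕ A.X i (z : A.X i) ⊗ₜ[k]
              DirectSum.lof k ℕ B.X j y) := by
          rw [hD, smul_smul, ← pow_add, ← two_mul, pow_mul]
          simp
        rw [h2]
        exact Submodule.smul_mem _ _ (mem_Bq_of (by omega) ⟨(z : A.X i) ⊗ₜ y, rfl⟩)
    | add a b ha hb => rw [map_add, map_add]; exact add_mem ha hb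
  · induction v' using TensorProduct.induction_on with
    | zero => simp
    | tmul b w =>
      rw [LinearMap.rTensor_tmul]
      unfold zz
      rw [LinearMap.comp_apply, TensorProduct.map_tmul, inc_tmul]
      have hb : ((b : ↥(A.cocyc i)) : A.X i) ∈ A.cobdy i := b.2
      have hw : B.d j (w : B.X j) = 0 := w.2
      simp only [Submodule.subtype_apply]
      cases i with
      | zero =>
        have h0 : ((b : ↥(A.cocyc 0)) : A.X 0) = 0 := (Submodule.mem_bot k).1 hb
        rw [h0, map_zero, TensorProduct.zero_tmul]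
        exact zero_mem _
      | succ i =>
        obtain ⟨x, hx⟩ := hb
        have hD := D_tmul_lof A B i j x (w : B.X j)
        rw [hw, map_zero, TensorProduct.tmul_zero, smul_zero, add_zero, hx] at hD
        rw [← hD]
        exact mem_Bq_of (by omega) ⟨x ⊗ₜ (w : B.X j), rfl⟩
    | add a b ha hb => rw [map_add, map_add]; exact add_mem ha hb

theorem map_hT_eq_sum {q : ℕ} {x : TT A B} (hx : x ∈ Tq A B q) :
    TensorProduct.map σA.hT σB.hT x = ∑ ij ∈ AD q,
      zz (A := A) (B := B) ij.1 ij.2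
        (TensorProduct.map (σA.hc ij.1) (σB.hc ij.2) (comp A B ij.1 ij.2 x)) := by
  conv_lhs => rw [repr A B hx]
  rw [map_sum]
  exact Finset.sum_congr rfl fun ij _ => map_hT_inc σA σB _ _ _

theorem phiH_injective (q : ℕ) : Function.Injective (phiH σA σB q) := by
  rw [injective_iff_map_eq_zero]
  intro ξ hξ
  obtain ⟨z, rfl⟩ := Submodule.Quotient.mk_surjective _ ξ
  rw [phiH_mk] at hξ
  rw [Submodule.Quotient.mk_eq_zero, Submodule.mem_comap]
  have hD : D A B (z : TT A B) = 0 := z.2.1
  have hT : (z : TT A B) ∈ Tq A B q := z.2.2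
  change (z : TT A B) ∈ Bq A B q
  rw [decomp σA σB (z : TT A B) hD]
  refine add_mem ?_ ?_
  · rw [map_hT_eq_sum σA σB hT]
    refine sum_mem fun ij hij => ?_
    apply zz_mem_Bq_of_ker (mem_AD.1 hij)
    have h1 := congrFun hξ ⟨ij, hij⟩
    rw [phi_apply] at h1
    unfold phiC at h1
    rw [LinearMap.comp_apply] at h1
    rw [← LinearMap.comp_apply, ← TensorProduct.map_comp]
    exact h1
  · rw [map_add]
    exact add_mem (DSY_mem_Bq σB hT) (DSXPY_mem_Bq σA σB hT)

/-- **Künneth**: the cohomology of the total complex is the tensor product of cohomologies. -/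
noncomputable def kunneth (q : ℕ) : Hq A B q ≃ₗ[k] KT A B q :=
  LinearEquiv.ofBijective (phiH σA σB q) ⟨phiH_injective σA σB q, phiH_surjective σA σB q⟩

variable (A B)

theorem finrank_Hq [∀ i, Module.Finite k (A.H i)] [∀ j, Module.Finite k (B.H j)] (q : ℕ) :
    Module.finrank k (Hq A B q) = ∑ i ∈ Finset.range (q + 1),
      Module.finrank k (A.H i) * Module.finrank k (B.H (q - i)) := by
  obtain ⟨σA⟩ := A.nonempty_spl
  obtain ⟨σB⟩ := B.nonempty_spl
  rw [LinearEquiv.finrank_eq (kunneth σA σB q)]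
  unfold KT
  rw [Module.finrank_pi_fintype]
  simp only [Module.finrank_tensorProduct]
  rw [Finset.sum_coe_sort (AD q) (fun ij => Module.finrank k (A.H ij.1) * Module.finrank k (B.H ij.2))]
  exact Finset.Nat.sum_antidiagonal_eq_sum_range_succ
    (fun i j => Module.finrank k (A.H i) * Module.finrank k (B.H j)) q

theorem subsingleton_tensor {M N : Type u} [AddCommGroup M] [Module k M] [AddCommGroup N]
    [Module k N] (h : Subsingleton M ∨ Subsingleton N) : Subsingleton (M ⊗[k] N) := by
  refine ⟨fun a b => ?_⟩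
  have key : ∀ t : M ⊗[k] N, t = 0 := by
    intro t
    induction t using TensorProduct.induction_on with
    | zero => rfl
    | tmul x y =>
      rcases h with h | h
      · rw [Subsingleton.elim x 0, TensorProduct.zero_tmul]
      · rw [Subsingleton.elim y 0, TensorProduct.tmul_zero]
    | add a b ha hb => rw [ha, hb, add_zero]
  rw [key a, key b]

theorem subsingleton_Hq (q : ℕ)
    (h : ∀ i j, i + j = q → Subsingleton (A.H i) ∨ Subsingleton (B.H j)) :
    Subsingleton (Hq A B q) := by
  obtain ⟨σA⟩ := A.nonempty_spl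
  obtain ⟨σB⟩ := B.nonempty_spl
  haveI : ∀ ij : AD q, Subsingleton (A.H ij.1.1 ⊗[k] B.H ij.1.2) := fun ij =>
    subsingleton_tensor (h _ _ (mem_AD.1 ij.2))
  haveI : Subsingleton (KT A B q) := by
    unfold KT
    infer_instance
  exact (kunneth σA σB q).toEquiv.subsingleton

/-- exactness in positive degrees when the cohomology vanishes -/
theorem exists_of_subsingleton (q : ℕ) (hH : Subsingleton (Hq A B (q + 1))) {x : TT A B}
    (hx : x ∈ Tq A B (q + 1)) (hD : D A B x = 0) : ∃ y ∈ Tq A B q, D A B y = x := by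
  have h0 : (Submodule.Quotient.mk (⟨x, hD, hx⟩ : Zq A B (q + 1)) : Hq A B (q + 1)) = 0 :=
    Subsingleton.elim _ _
  rw [Submodule.Quotient.mk_eq_zero, Submodule.mem_comap] at h0
  have h1 : x ∈ Bq A B (q + 1) := h0
  obtain ⟨y, hy, rfl⟩ := Bq_succ_le A B q h1
  exact ⟨y, hy, rfl⟩

/-- cocycles in degree zero -/
theorem exists_of_deg_zero {x : TT A B} (hx : x ∈ Tq A B 0) (hD : D A B x = 0) :
    ∃ ζ : ↥(A.cocyc 0) ⊗[k] ↥(B.cocyc 0), zz (A := A) (B := B) 0 0 ζ = x := by
  obtain ⟨σA⟩ := A.nonempty_spl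
  obtain ⟨σB⟩ := B.nonempty_spl
  have h1 := decomp σA σB x hD
  have h2 : D A B (SY (A := A) σB x + SX (B := B) σA (PY (A := A) σB x)) = 0 := by
    have := add_mem (DSY_mem_Bq σB hx) (DSXPY_mem_Bq σA σB hx)
    rw [Bq_zero, Submodule.mem_bot, ← map_add] at this
    exact this
  rw [h2, add_zero, map_hT_eq_sum σA σB hx] at h1
  have h3 : AD 0 = {(0, 0)} := Finset.Nat.antidiagonal_zero
  rw [h3, Finset.sum_singleton] at h1
  exact ⟨_, h1.symm⟩

end Groth.Agent.Lib.Helper20.Ku
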