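import Mathlib

/-!
# An abstract Mayer–Vietoris dimension count for sub-quotients of a differential vector space
-/

set_option autoImplicit false
set_option linter.unusedSectionVars false
set_option linter.unusedVariables false

namespace Groth.Agent.Lib.Helper20.Ku

universe u

variable {k : Type u} [Field k] {V : Type u} [AddCommGroup V] [Module k V]

/-- a sub-quotient -/
abbrev SQ (Z B : Submodule k V) : Type u := ↥Z ⧸ B.comap Z.subtype

theorem SQ_mk_eq_zero {Z B : Submodule k V} (z : Z) :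
    (Submodule.Quotient.mk z : SQ Z B) = 0 ↔ (z : V) ∈ B := by
  rw [Submodule.Quotient.mk_eq_zero]
  rfl

/-- finrank of the middle term of a short exact sequence -/
theorem finrank_of_exact {X Y Z : Type u} [AddCommGroup X] [Module k X] [AddCommGroup Y]
    [Module k Y] [AddCommGroup Z] [Module k Z] [Module.Finite k X] [Module.Finite k Z]
    (f : X →ₗ[k] Y) (g : Y →ₗ[k] Z) (hf : Function.Injective f) (hg : Function.Surjective g)
    (hfg : LinearMap.ker g = LinearMap.range f) :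
    Module.Finite k Y ∧ Module.finrank k Y = Module.finrank k X + Module.finrank k Z := by
  have e1 : X ≃ₗ[k] LinearMap.ker g := (LinearEquiv.ofInjective f hf).trans (LinearEquiv.ofEq _ _ hfg.symm)
  have e2 : (Y ⧸ LinearMap.ker g) ≃ₗ[k] Z := g.quotKerEquivOfSurjective hg
  haveI : Module.Finite k (LinearMap.ker g) := Module.Finite.equiv e1
  haveI : Module.Finite k (Y ⧸ LinearMap.ker g) := Module.Finite.equiv e2.symm
  haveI hY : Module.Finite k Y := Module.Finite.of_submodule_quotient (LinearMap.ker g)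
  refine ⟨hY, ?_⟩
  have h1 := Submodule.finrank_quotient_add_finrank (LinearMap.ker g)
  rw [← h1, LinearEquiv.finrank_eq e2, LinearEquiv.finrank_eq e1, add_comm]

variable (D : V →ₗ[k] V) (hD : ∀ x, D (D x) = 0)

include hD in
/-- **Mayer–Vietoris dimension count.** -/
theorem mv_finrank (a₂ a₃ b₂ b₃ c₂ c₃ : Submodule k V)
    (hab₂ : a₂.map D ≤ b₂) (hab₃ : a₃.map D ≤ b₃) (hbc₂ : b₂.map D ≤ c₂) (hbc₃ : b₃.map D ≤ c₃)
    (v₂ : LinearMap.ker D ⊓ (b₂ ⊓ b₃) ≤ a₂.map D) (v₃ : LinearMap.ker D ⊓ (b₂ ⊓ b₃) ≤ a₃.map D)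
    (w₂ : LinearMap.ker D ⊓ (c₂ ⊓ c₃) ≤ b₂.map D) (w₃ : LinearMap.ker D ⊓ (c₂ ⊓ c₃) ≤ b₃.map D)
    [Module.Finite k (SQ (LinearMap.ker D ⊓ b₂) (a₂.map D))]
    [Module.Finite k (SQ (LinearMap.ker D ⊓ b₃) (a₃.map D))]
    [Module.Finite k (SQ (LinearMap.ker D ⊓ (c₂ ⊓ c₃)) ((b₂ ⊓ b₃).map D))] :
    Module.finrank k (SQ (LinearMap.ker D ⊓ (b₂ ⊔ b₃)) (a₂.map D ⊔ a₃.map D)) =
      Module.finrank k (SQ (LinearMap.ker D ⊓ b₂) (a₂.map D)) +
        Module.finrank k (SQ (LinearMap.ker D ⊓ b₃) (a₃.map D)) +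
          Module.finrank k (SQ (LinearMap.ker D ⊓ (c₂ ⊓ c₃)) ((b₂ ⊓ b₃).map D)) := by
  classical
  -- a linear splitting of `b₂ × b₃ → b₂ ⊔ b₃`
  let s : (↥b₂ × ↥b₃) →ₗ[k] ↥(b₂ ⊔ b₃) :=
    (Submodule.inclusion (le_sup_left : b₂ ≤ b₂ ⊔ b₃)).coprod
      (Submodule.inclusion (le_sup_right : b₃ ≤ b₂ ⊔ b₃))
  have hs : Function.Surjective s := by
    rintro ⟨x, hx⟩
    obtain ⟨y, hy, z, hz, rfl⟩ := Submodule.mem_sup.1 hx
    exact ⟨(⟨y, hy⟩, ⟨z, hz⟩), Subtype.ext rfl⟩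
  obtain ⟨ρ, hρ⟩ := LinearMap.exists_rightInverse_of_surjective s (LinearMap.range_eq_top.2 hs)
  let π₂ : ↥(b₂ ⊔ b₃) →ₗ[k] V := b₂.subtype.comp ((LinearMap.fst k _ _).comp ρ)
  let π₃ : ↥(b₂ ⊔ b₃) →ₗ[k] V := b₃.subtype.comp ((LinearMap.snd k _ _).comp ρ)
  have hπ₂ : ∀ x, π₂ x ∈ b₂ := fun x => ((ρ x).1).2
  have hπ₃ : ∀ x, π₃ x ∈ b₃ := fun x => ((ρ x).2).2
  have hπ : ∀ x : ↥(b₂ ⊔ b₃), π₂ x + π₃ x = (x : V) := by
    intro x
    have h1 := LinearMap.congr_fun hρ x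
    have h2 := congrArg Subtype.val h1
    exact h2
  -- the key claim
  have star : ∀ (x : ↥(b₂ ⊔ b₃)) (u : V), u ∈ b₂ → (x : V) - u ∈ b₃ → π₂ x - u ∈ b₂ ⊓ b₃ := by
    intro x u hu hxu
    refine ⟨sub_mem (hπ₂ x) hu, ?_⟩
    have : π₂ x - u = ((x : V) - u) - π₃ x := by rw [← hπ x]; abel
    rw [this]
    exact sub_mem hxu (hπ₃ x)
  set ZC := LinearMap.ker D ⊓ (b₂ ⊔ b₃) with hZC
  set BC := a₂.map D ⊔ a₃.map D with hBC
  set Z₂ := LinearMap.ker D ⊓ b₂ with hZ₂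
  set Z₃ := LinearMap.ker D ⊓ b₃ with hZ₃
  set Z₁ := LinearMap.ker D ⊓ (c₂ ⊓ c₃) with hZ₁
  set B₁ := (b₂ ⊓ b₃).map D with hB₁
  -- the connecting map
  let incC : ↥ZC →ₗ[k] ↥(b₂ ⊔ b₃) := Submodule.inclusion inf_le_right
  have hg0 : ∀ x : ↥ZC, D (π₂ (incC x)) ∈ Z₁ := by
    intro x
    refine ⟨hD _, hbc₂ (Submodule.mem_map_of_mem (hπ₂ _)), ?_⟩
    have h1 : D (π₂ (incC x)) = - D (π₃ (incC x)) := by
      have h2 : D ((x : V)) = 0 := x.2.1
      have h3 := hπ (incC x)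
      have h4 : ((incC x : ↥(b₂ ⊔ b₃)) : V) = (x : V) := rfl
      rw [h4] at h3
      rw [← h3, map_add] at h2
      exact eq_neg_of_add_eq_zero_left h2
    rw [h1]
    exact neg_mem (hbc₃ (Submodule.mem_map_of_mem (hπ₃ _)))
  let g0 : ↥ZC →ₗ[k] ↥Z₁ := LinearMap.codRestrict Z₁ (D.comp (π₂.comp incC)) hg0
  have hg0_val : ∀ x : ↥ZC, ((g0 x : ↥Z₁) : V) = D (π₂ (incC x)) := fun x => rfl
  have hker : BC.comap ZC.subtype ≤ LinearMap.ker ((B₁.comap Z₁.subtype).mkQ.comp g0) := by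
    intro x hx
    have hx' : (x : V) ∈ BC := hx
    obtain ⟨y, ⟨p, hp, rfl⟩, z, ⟨r, hr, rfl⟩, hyz⟩ := Submodule.mem_sup.1 hx'
    rw [LinearMap.mem_ker, LinearMap.comp_apply, Submodule.mkQ_apply, SQ_mk_eq_zero, hg0_val]
    have h1 := star (incC x) (D p) (hab₂ (Submodule.mem_map_of_mem hp)) (by
      have : ((incC x : ↥(b₂ ⊔ b₃)) : V) - D p = D r := by
        change (x : V) - D p = D r
        rw [← hyz]; abel
      rw [this]
      exact hab₃ (Submodule.mem_map_of_mem hr))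
    refine ⟨π₂ (incC x) - D p, h1, ?_⟩
    rw [map_sub, hD, sub_zero]
  let g : SQ ZC BC →ₗ[k] SQ Z₁ B₁ := Submodule.liftQ _ _ hker
  have hg_mk : ∀ x : ↥ZC, g (Submodule.Quotient.mk x) = Submodule.Quotient.mk (g0 x) := fun x => rfl
  -- the maps from the two pieces
  have hle₂ : Z₂ ≤ ZC := inf_le_inf_left _ le_sup_left
  have hle₃ : Z₃ ≤ ZC := inf_le_inf_left _ le_sup_right
  let f₂ : SQ Z₂ (a₂.map D) →ₗ[k] SQ ZC BC :=
    Submodule.mapQ _ _ (Submodule.inclusion hle₂) (by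
      intro x hx
      have hx' : (x : V) ∈ a₂.map D := hx
      exact (le_sup_left : a₂.map D ≤ BC) hx')
  let f₃ : SQ Z₃ (a₃.map D) →ₗ[k] SQ ZC BC :=
    Submodule.mapQ _ _ (Submodule.inclusion hle₃) (by
      intro x hx
      have hx' : (x : V) ∈ a₃.map D := hx
      exact (le_sup_right : a₃.map D ≤ BC) hx')
  let f : (SQ Z₂ (a₂.map D) × SQ Z₃ (a₃.map D)) →ₗ[k] SQ ZC BC := f₂.coprod f₃
  have hf_mk : ∀ (x : ↥Z₂) (y : ↥Z₃), f (Submodule.Quotient.mk x, Submodule.Quotient.mk y) =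
      Submodule.Quotient.mk (⟨(x : V) + (y : V), add_mem (hle₂ x.2) (hle₃ y.2)⟩ : ↥ZC) := by
    intro x y
    rfl
  -- injectivity of `f`
  have hf_inj : Function.Injective f := by
    rw [injective_iff_map_eq_zero]
    rintro ⟨ξ, η⟩ h
    obtain ⟨x, rfl⟩ := Submodule.Quotient.mk_surjective _ ξ
    obtain ⟨y, rfl⟩ := Submodule.Quotient.mk_surjective _ η
    rw [hf_mk, SQ_mk_eq_zero] at h
    obtain ⟨_, ⟨p, hp, rfl⟩, _, ⟨r, hr, rfl⟩, hyz⟩ := Submodule.mem_sup.1 h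
    have hu₂ : (x : V) - D p ∈ b₂ := sub_mem x.2.2 (hab₂ (Submodule.mem_map_of_mem hp))
    have hu₃ : (x : V) - D p ∈ b₃ := by
      have : (x : V) - D p = D r - (y : V) := by
        have h5 : (x : V) + (y : V) = D p + D r := hyz.symm
        have h6 : (x : V) = D p + D r - (y : V) := eq_sub_of_add_eq h5
        rw [h6]; abel
      rw [this]
      exact sub_mem (hab₃ (Submodule.mem_map_of_mem hr)) y.2.2
    have huD : (x : V) - D p ∈ LinearMap.ker D := by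
      rw [LinearMap.mem_ker, map_sub, hD, sub_zero]
      exact x.2.1
    have h2 := v₂ ⟨huD, hu₂, hu₃⟩
    have h3 := v₃ ⟨huD, hu₂, hu₃⟩
    refine Prod.ext ?_ ?_
    · change (Submodule.Quotient.mk x : SQ Z₂ (a₂.map D)) = 0
      rw [SQ_mk_eq_zero]
      have : (x : V) = ((x : V) - D p) + D p := by abel
      rw [this]
      exact add_mem h2 (Submodule.mem_map_of_mem hp)
    · change (Submodule.Quotient.mk y : SQ Z₃ (a₃.map D)) = 0
      rw [SQ_mk_eq_zero]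
      have : (y : V) = D r - ((x : V) - D p) := by
        have h5 : (x : V) + (y : V) = D p + D r := hyz.symm
        have h6 : (y : V) = D p + D r - (x : V) := eq_sub_of_add_eq' h5
        rw [h6]; abel
      rw [this]
      exact sub_mem (Submodule.mem_map_of_mem hr) h3
  -- surjectivity of `g`
  have hg_surj : Function.Surjective g := by
    intro ζ
    obtain ⟨z, rfl⟩ := Submodule.Quotient.mk_surjective _ ζ
    obtain ⟨p, hp, hpz⟩ := w₂ z.2
    obtain ⟨r, hr, hrz⟩ := w₃ z.2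
    have hx : p - r ∈ ZC := by
      refine ⟨?_, Submodule.sub_mem_sup hp hr⟩
      show D (p - r) = 0
      rw [map_sub, hpz, hrz, sub_self]
    refine ⟨Submodule.Quotient.mk ⟨p - r, hx⟩, ?_⟩
    rw [hg_mk, ← sub_eq_zero, ← Submodule.Quotient.mk_sub, SQ_mk_eq_zero]
    have h1 := star (incC ⟨p - r, hx⟩) p hp (by
      have : ((incC ⟨p - r, hx⟩ : ↥(b₂ ⊔ b₃)) : V) - p = - r := by
        change p - r - p = - r
        abel
      rw [this]
      exact neg_mem hr)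
    refine ⟨π₂ (incC ⟨p - r, hx⟩) - p, h1, ?_⟩
    rw [Submodule.coe_sub, hg0_val, map_sub, hpz]
  -- exactness in the middle
  have hfg : LinearMap.ker g = LinearMap.range f := by
    apply le_antisymm
    · intro ξ hξ
      obtain ⟨x, rfl⟩ := Submodule.Quotient.mk_surjective _ ξ
      rw [LinearMap.mem_ker, hg_mk, SQ_mk_eq_zero, hg0_val] at hξ
      obtain ⟨w, hw, hwD⟩ := hξ
      have hx₂ : π₂ (incC x) - w ∈ Z₂ := by
        refine ⟨?_, sub_mem (hπ₂ _) hw.1⟩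
        show D (π₂ (incC x) - w) = 0
        rw [map_sub, hwD, sub_self]
      have hx₃ : π₃ (incC x) + w ∈ Z₃ := by
        refine ⟨?_, add_mem (hπ₃ _) hw.2⟩
        have h2 : D ((x : V)) = 0 := x.2.1
        have h3 := hπ (incC x)
        have h4 : ((incC x : ↥(b₂ ⊔ b₃)) : V) = (x : V) := rfl
        rw [h4] at h3
        rw [← h3, map_add] at h2
        show D (π₃ (incC x) + w) = 0
        rw [map_add, hwD, add_comm]
        exact h2
      refine ⟨(Submodule.Quotient.mk ⟨_, hx₂⟩, Submodule.Quotient.mk ⟨_, hx₃⟩), ?_⟩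
      rw [hf_mk]
      congr 1
      apply Subtype.ext
      change π₂ (incC x) - w + (π₃ (incC x) + w) = (x : V)
      have h3 := hπ (incC x)
      have h4 : ((incC x : ↥(b₂ ⊔ b₃)) : V) = (x : V) := rfl
      rw [h4] at h3
      rw [← h3]
      abel
    · rintro _ ⟨⟨ξ, η⟩, rfl⟩
      obtain ⟨x, rfl⟩ := Submodule.Quotient.mk_surjective _ ξ
      obtain ⟨y, rfl⟩ := Submodule.Quotient.mk_surjective _ η
      rw [LinearMap.mem_ker, hf_mk, hg_mk, SQ_mk_eq_zero, hg0_val]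
      set t : ↥ZC := ⟨(x : V) + (y : V), add_mem (hle₂ x.2) (hle₃ y.2)⟩ with ht
      have h1 := star (incC t) (x : V) x.2.2 (by
        have : ((incC t : ↥(b₂ ⊔ b₃)) : V) - (x : V) = (y : V) := by
          change (x : V) + (y : V) - (x : V) = (y : V)
          abel
        rw [this]
        exact y.2.2)
      refine ⟨π₂ (incC t) - (x : V), h1, ?_⟩
      rw [map_sub]
      have : D (x : V) = 0 := x.2.1
      rw [this, sub_zero]
  obtain ⟨-, h⟩ := finrank_of_exact f g hf_inj hg_surj hfg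
  rw [h, Module.finrank_prod]

end Groth.Agent.Lib.Helper20.Ku
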