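import Mathlib
import Groth.Agent.Lib.Helper20.Ku4
import Groth.Agent.Lib.Helper20.Ku5

/-!
# Subcomplexes inside an ambient pair of complexes
-/

set_option autoImplicit false
set_option linter.unusedSectionVars false
set_option linter.unusedVariables false

namespace Groth.Agent.Lib.Helper20.Ku

open DirectSum TensorProduct

universe u

variable {k : Type u} [Field k]

/-- transport of sub-quotients along an injective intertwiner -/
theorem sq_equiv {V' V : Type u} [AddCommGroup V'] [Module k V'] [AddCommGroup V] [Module k V]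
    (E : V' →ₗ[k] V) (hE : Function.Injective E) (D' : V' →ₗ[k] V') (D : V →ₗ[k] V)
    (hED : ∀ x, E (D' x) = D (E x)) (T' B' : Submodule k V') :
    Nonempty (SQ (LinearMap.ker D' ⊓ T') B' ≃ₗ[k] SQ (LinearMap.ker D ⊓ T'.map E) (B'.map E)) := by
  have h1 : ∀ x ∈ LinearMap.ker D' ⊓ T', E x ∈ LinearMap.ker D ⊓ T'.map E := by
    intro x hx
    refine ⟨?_, Submodule.mem_map_of_mem hx.2⟩
    show D (E x) = 0
    rw [← hED, show D' x = 0 from hx.1, map_zero]
  let e0 : ↥(LinearMap.ker D' ⊓ T') →ₗ[k] ↥(LinearMap.ker D ⊓ T'.map E) := E.restrict h1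
  have he0 : ∀ x, ((e0 x : ↥(LinearMap.ker D ⊓ T'.map E)) : V) = E (x : V') := fun x => rfl
  let φ : SQ (LinearMap.ker D' ⊓ T') B' →ₗ[k] SQ (LinearMap.ker D ⊓ T'.map E) (B'.map E) :=
    Submodule.mapQ _ _ e0 (by
      intro x hx
      have hx' : (x : V') ∈ B' := hx
      show ((e0 x : ↥(LinearMap.ker D ⊓ T'.map E)) : V) ∈ B'.map E
      rw [he0]
      exact Submodule.mem_map_of_mem hx')
  have hφ : ∀ x, φ (Submodule.Quotient.mk x) = Submodule.Quotient.mk (e0 x) := fun x => rfl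
  refine ⟨LinearEquiv.ofBijective φ ⟨?_, ?_⟩⟩
  · rw [injective_iff_map_eq_zero]
    intro ξ hξ
    obtain ⟨x, rfl⟩ := Submodule.Quotient.mk_surjective _ ξ
    rw [hφ, SQ_mk_eq_zero, he0] at hξ
    obtain ⟨b, hb, hbx⟩ := hξ
    rw [SQ_mk_eq_zero, ← hE hbx]
    exact hb
  · intro ξ
    obtain ⟨x, rfl⟩ := Submodule.Quotient.mk_surjective _ ξ
    obtain ⟨t, ht, htx⟩ := x.2.2
    have hDt : D' t = 0 := by
      apply hE
      rw [hED, htx, map_zero]
      exact x.2.1
    refine ⟨Submodule.Quotient.mk ⟨t, hDt, ht⟩, ?_⟩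
    rw [hφ]
    congr 1
    exact Subtype.ext htx

namespace Cx

variable (A : Cx k)

/-- a subcomplex -/
structure Sub where
  P : ∀ i, Submodule k (A.X i)
  stable : ∀ i x, x ∈ P i → A.d i x ∈ P (i + 1)

variable {A}

/-- the subcomplex as a complex -/
@[reducible] noncomputable def Sub.cx (S : A.Sub) : Cx k where
  X i := ↥(S.P i)
  d i := (A.d i).restrict (S.stable i)
  d_comp i x := Subtype.ext (A.d_comp i x)

theorem Sub.cx_d_coe (S : A.Sub) (i : ℕ) (x : S.P i) :
    ((S.cx.d i x : S.P (i + 1)) : A.X (i + 1)) = A.d i (x : A.X i) := rfl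

/-- the embedding of total spaces -/
noncomputable def Sub.emb (S : A.Sub) : S.cx.T →ₗ[k] A.T :=
  DirectSum.lmap (fun i => (S.P i).subtype)

theorem Sub.emb_lof (S : A.Sub) (i : ℕ) (x : S.P i) :
    S.emb (DirectSum.lof k ℕ S.cx.X i x) = DirectSum.lof k ℕ A.X i (x : A.X i) := by
  unfold Sub.emb
  exact DirectSum.lmap_lof _ _ _

theorem Sub.emb_injective (S : A.Sub) : Function.Injective S.emb := by
  unfold Sub.emb
  rw [DirectSum.lmap_injective]
  intro i
  exact Submodule.subtype_injective _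

theorem Sub.emb_dT (S : A.Sub) (x : S.cx.T) : S.emb (S.cx.dT x) = A.dT (S.emb x) := by
  have : S.emb.comp S.cx.dT = A.dT.comp S.emb := by
    apply DirectSum.linearMap_ext
    intro i
    apply LinearMap.ext
    intro x
    show S.emb (S.cx.dT (DirectSum.lof k ℕ S.cx.X i x)) =
      A.dT (S.emb (DirectSum.lof k ℕ S.cx.X i x))
    rw [Cx.dT_lof, Sub.emb_lof, Sub.emb_lof, Cx.dT_lof]
    rfl
  exact LinearMap.congr_fun this x

theorem Sub.emb_eT (S : A.Sub) (x : S.cx.T) : S.emb (S.cx.eT x) = A.eT (S.emb x) := by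
  have : S.emb.comp S.cx.eT = A.eT.comp S.emb := by
    apply DirectSum.linearMap_ext
    intro i
    apply LinearMap.ext
    intro x
    show S.emb (S.cx.eT (DirectSum.lof k ℕ S.cx.X i x)) =
      A.eT (S.emb (DirectSum.lof k ℕ S.cx.X i x))
    rw [Cx.eT_lof, map_smul, Sub.emb_lof, Cx.eT_lof]
  exact LinearMap.congr_fun this x

/-- inclusion of subcomplexes -/
def Sub.le (S₁ S : A.Sub) : Prop := ∀ i, S₁.P i ≤ S.P i

end Cx

variable {A B : Cx k} (S : A.Sub) (S' : B.Sub)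

/-- the embedding of big tensor products -/
noncomputable def EE : TT S.cx S'.cx →ₗ[k] TT A B := TensorProduct.map S.emb S'.emb

theorem EE_injective : Function.Injective (EE S S') :=
  TensorProduct.map_injective_of_flat_flat _ _ S.emb_injective S'.emb_injective

theorem EE_D (x : TT S.cx S'.cx) : EE S S' (D S.cx S'.cx x) = D A B (EE S S' x) := by
  induction x using TensorProduct.induction_on with
  | zero => simp
  | tmul v w =>
    unfold EE
    rw [D_tmul, map_add, TensorProduct.map_tmul, TensorProduct.map_tmul, TensorProduct.map_tmul,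
      D_tmul, S.emb_dT, S.emb_eT, S'.emb_dT]
  | add a b ha hb => simp only [map_add, ha, hb]

theorem EE_tmul_lof (i j : ℕ) (x : S.P i) (y : S'.P j) :
    EE S S' (DirectSum.lof k ℕ S.cx.X i x ⊗ₜ[k] DirectSum.lof k ℕ S'.cx.X j y) =
      DirectSum.lof k ℕ A.X i (x : A.X i) ⊗ₜ[k] DirectSum.lof k ℕ B.X j (y : B.X j) := by
  unfold EE
  rw [TensorProduct.map_tmul, S.emb_lof, S'.emb_lof]

/-- total degree `q` part of the tensor product of subcomplexes, inside the ambient space -/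
noncomputable def TPq (q : ℕ) : Submodule k (TT A B) := (Tq S.cx S'.cx q).map (EE S S')

/-- coboundaries -/
noncomputable def BPq (q : ℕ) : Submodule k (TT A B) := (Bq S.cx S'.cx q).map (EE S S')

theorem tmul_mem_TPq {i j q : ℕ} (h : i + j = q) {x : A.X i} (hx : x ∈ S.P i) {y : B.X j}
    (hy : y ∈ S'.P j) :
    DirectSum.lof k ℕ A.X i x ⊗ₜ[k] DirectSum.lof k ℕ B.X j y ∈ TPq S S' q := by
  refine ⟨_, tmul_mem_Tq S.cx S'.cx h ⟨x, hx⟩ ⟨y, hy⟩, ?_⟩
  exact EE_tmul_lof S S' i j ⟨x, hx⟩ ⟨y, hy⟩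

theorem TPq_le {q : ℕ} {N : Submodule k (TT A B)}
    (h : ∀ i j, i + j = q → ∀ x ∈ S.P i, ∀ y ∈ S'.P j,
      DirectSum.lof k ℕ A.X i x ⊗ₜ[k] DirectSum.lof k ℕ B.X j y ∈ N) : TPq S S' q ≤ N := by
  unfold TPq
  rw [Submodule.map_le_iff_le_comap]
  apply Tq_le
  intro i j hij x y
  rw [Submodule.mem_comap, EE_tmul_lof]
  exact h i j hij _ x.2 _ y.2

theorem TPq_le_Tq (q : ℕ) : TPq S S' q ≤ Tq A B q :=
  TPq_le S S' fun i j hij x _ y _ => tmul_mem_Tq A B hij x y

theorem Bq_succ (A B : Cx k) (q : ℕ) : Bq A B (q + 1) = (Tq A B q).map (D A B) := by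
  apply le_antisymm (Bq_succ_le A B q)
  unfold Tq
  rw [Submodule.map_iSup]
  apply iSup_le
  intro ij
  rw [Submodule.map_iSup]
  apply iSup_le
  intro hij
  exact le_iSup₂_of_le (f := fun (ab : ℕ × ℕ) (_ : ab.1 + ab.2 + 1 = q + 1) =>
    (Tij A B ab.1 ab.2).map (D A B)) ij (by omega) le_rfl

theorem BPq_zero : BPq S S' 0 = ⊥ := by
  unfold BPq
  rw [Bq_zero, Submodule.map_bot]

theorem BPq_succ (q : ℕ) : BPq S S' (q + 1) = (TPq S S' q).map (D A B) := by
  unfold BPq TPq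
  rw [Bq_succ, ← Submodule.map_comp, ← Submodule.map_comp]
  congr 1
  apply LinearMap.ext
  intro x
  exact EE_D S S' x

/-- the previous-degree part, with `⊥` in degree `0` -/
noncomputable def TPprev : ℕ → Submodule k (TT A B)
  | 0 => ⊥
  | q + 1 => TPq S S' q

theorem BPq_eq (q : ℕ) : BPq S S' q = (TPprev S S' q).map (D A B) := by
  cases q with
  | zero => rw [BPq_zero]; unfold TPprev; rw [Submodule.map_bot]
  | succ q => exact BPq_succ S S' q

theorem D_mem_TPq {q : ℕ} {x : TT A B} (hx : x ∈ TPq S S' q) : D A B x ∈ TPq S S' (q + 1) := by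
  obtain ⟨t, ht, rfl⟩ := hx
  rw [← EE_D]
  exact ⟨_, D_mem_Tq _ _ ht, rfl⟩

theorem TPprev_map_le (q : ℕ) : (TPprev S S' q).map (D A B) ≤ TPq S S' q := by
  cases q with
  | zero => unfold TPprev; rw [Submodule.map_bot]; exact bot_le
  | succ q =>
    rintro _ ⟨x, hx, rfl⟩
    exact D_mem_TPq S S' hx

/-- cohomology of the sub-pair inside the ambient space -/
noncomputable abbrev HP (q : ℕ) : Type u :=
  SQ (LinearMap.ker (D A B) ⊓ TPq S S' q) (BPq S S' q)

theorem nonempty_equiv_HP (q : ℕ) : Nonempty (Hq S.cx S'.cx q ≃ₗ[k] HP S S' q) :=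
  sq_equiv (EE S S') (EE_injective S S') (D S.cx S'.cx) (D A B) (EE_D S S') _ _

theorem finrank_HP [∀ i, Module.Finite k (S.cx.H i)] [∀ j, Module.Finite k (S'.cx.H j)]
    (q : ℕ) : Module.finrank k (HP S S' q) = ∑ i ∈ Finset.range (q + 1),
      Module.finrank k (S.cx.H i) * Module.finrank k (S'.cx.H (q - i)) := by
  obtain ⟨e⟩ := nonempty_equiv_HP S S' q
  rw [← LinearEquiv.finrank_eq e, finrank_Hq]

theorem finite_HP [∀ i, Module.Finite k (S.cx.H i)] [∀ j, Module.Finite k (S'.cx.H j)]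
    (q : ℕ) : Module.Finite k (HP S S' q) := by
  obtain ⟨e⟩ := nonempty_equiv_HP S S' q
  obtain ⟨σA⟩ := S.cx.nonempty_spl
  obtain ⟨σB⟩ := S'.cx.nonempty_spl
  haveI : Module.Finite k (KT S.cx S'.cx q) := by
    unfold KT
    infer_instance
  haveI : Module.Finite k (Hq S.cx S'.cx q) := Module.Finite.equiv (kunneth σA σB q).symm
  exact Module.Finite.equiv e

theorem TPq_mono {S₁ S : A.Sub} {S₁' S' : B.Sub} (h : S₁.le S) (h' : S₁'.le S') (q : ℕ) :
    TPq S₁ S₁' q ≤ TPq S S' q :=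
  TPq_le S₁ S₁' fun i j hij x hx y hy => tmul_mem_TPq S S' hij (h i hx) (h' j hy)

theorem BPq_mono {S₁ S : A.Sub} {S₁' S' : B.Sub} (h : S₁.le S) (h' : S₁'.le S') (q : ℕ) :
    BPq S₁ S₁' q ≤ BPq S S' q := by
  cases q with
  | zero => rw [BPq_zero]; exact bot_le
  | succ q =>
    rw [BPq_succ, BPq_succ]
    exact Submodule.map_mono (TPq_mono h h' q)

end Groth.Agent.Lib.Helper20.Ku
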