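import Mathlib
import Groth.Agent.Lib.Helper20.Ku6

/-!
# The cohomology of `A'⊗B + A⊗B'` inside `A⊗B`
-/

set_option autoImplicit false
set_option linter.unusedSectionVars false
set_option linter.unusedVariables false
set_option linter.style.haveILetI false

namespace Groth.Agent.Lib.Helper20.Ku

open DirectSum TensorProduct

universe u

variable {k : Type u} [Field k]

/-- `(G ⊗ Y) ∩ (X ⊗ Q) = G ⊗ Q` inside `X ⊗ Y`. -/
theorem mem_range_map_of_mem_of_mem {X Y : Type u} [AddCommGroup X] [Module k X] [AddCommGroup Y]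
    [Module k Y] (G : Submodule k X) (Q : Submodule k Y) (z : X ⊗[k] Y)
    (h1 : z ∈ LinearMap.range (LinearMap.rTensor Y G.subtype))
    (h2 : z ∈ LinearMap.range (LinearMap.lTensor X Q.subtype)) :
    z ∈ LinearMap.range (TensorProduct.map G.subtype Q.subtype) := by
  obtain ⟨z', rfl⟩ := h2
  have hex : Function.Exact (LinearMap.rTensor Y G.subtype) (LinearMap.rTensor Y G.mkQ) :=
    rTensor_exact Y (LinearMap.exact_subtype_mkQ G) (Submodule.mkQ_surjective G)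
  have h3 : LinearMap.rTensor Y G.mkQ (LinearMap.lTensor X Q.subtype z') = 0 := (hex _).2 h1
  have h4 : LinearMap.lTensor (X ⧸ G) Q.subtype (LinearMap.rTensor ↥Q G.mkQ z') = 0 := by
    rw [← h3, ← LinearMap.comp_apply, ← LinearMap.comp_apply, LinearMap.lTensor_comp_rTensor,
      LinearMap.rTensor_comp_lTensor]
  have hinj : Function.Injective (LinearMap.lTensor (X ⧸ G) Q.subtype) :=
    Module.Flat.lTensor_preserves_injective_linearMap _ Q.subtype_injective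
  have h5 : LinearMap.rTensor ↥Q G.mkQ z' = 0 := hinj (by rw [h4, map_zero])
  have hex' : Function.Exact (LinearMap.rTensor ↥Q G.subtype) (LinearMap.rTensor ↥Q G.mkQ) :=
    rTensor_exact ↥Q (LinearMap.exact_subtype_mkQ G) (Submodule.mkQ_surjective G)
  obtain ⟨w, rfl⟩ := (hex' z').1 h5
  refine ⟨w, ?_⟩
  rw [← LinearMap.comp_apply, LinearMap.lTensor_comp_rTensor]

variable {A B : Cx k}

theorem comp_mem_of_mem_TPq (S : A.Sub) (S' : B.Sub) {q : ℕ} {x : TT A B} (hx : x ∈ TPq S S' q)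
    (i j : ℕ) :
    comp A B i j x ∈ LinearMap.range (TensorProduct.map (S.P i).subtype (S'.P j).subtype) := by
  have : TPq S S' q ≤ (LinearMap.range
      (TensorProduct.map (S.P i).subtype (S'.P j).subtype)).comap (comp A B i j) := by
    apply TPq_le
    intro a b hab x hx y hy
    rw [Submodule.mem_comap]
    by_cases h : (a, b) = (i, j)
    · obtain ⟨rfl, rfl⟩ := Prod.mk.inj h
      rw [← inc_tmul, comp_inc_self]
      exact ⟨(⟨x, hx⟩ : S.P a) ⊗ₜ (⟨y, hy⟩ : S'.P b), rfl⟩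
    · rw [← inc_tmul, comp_inc_ne A B h]
      exact zero_mem _
  exact this hx

theorem inc_map_mem_TPq (S : A.Sub) (S' : B.Sub) {i j q : ℕ} (h : i + j = q)
    (w : ↥(S.P i) ⊗[k] ↥(S'.P j)) :
    inc A B i j (TensorProduct.map (S.P i).subtype (S'.P j).subtype w) ∈ TPq S S' q := by
  induction w using TensorProduct.induction_on with
  | zero => simp
  | tmul x y =>
    rw [TensorProduct.map_tmul, inc_tmul]
    exact tmul_mem_TPq S S' h x.2 y.2
  | add a b ha hb => rw [map_add, map_add]; exact add_mem ha hb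

theorem TPq_inf {S₁ S : A.Sub} {S₁' S' : B.Sub} (h : S₁.le S) (h' : S₁'.le S') (q : ℕ) :
    TPq S₁ S' q ⊓ TPq S S₁' q = TPq S₁ S₁' q := by
  apply le_antisymm
  · rintro x ⟨hx1, hx2⟩
    rw [repr A B (TPq_le_Tq _ _ q hx1)]
    refine sum_mem fun ij hij => ?_
    have h1 := comp_mem_of_mem_TPq S₁ S' hx1 ij.1 ij.2
    have h2 := comp_mem_of_mem_TPq S S₁' hx2 ij.1 ij.2
    have h1' : comp A B ij.1 ij.2 x ∈
        LinearMap.range (LinearMap.rTensor (B.X ij.2) (S₁.P ij.1).subtype) := by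
      obtain ⟨w, hw⟩ := h1
      refine ⟨LinearMap.lTensor _ (S'.P ij.2).subtype w, ?_⟩
      rw [← hw, ← LinearMap.comp_apply, LinearMap.rTensor_comp_lTensor]
    have h2' : comp A B ij.1 ij.2 x ∈
        LinearMap.range (LinearMap.lTensor (A.X ij.1) (S₁'.P ij.2).subtype) := by
      obtain ⟨w, hw⟩ := h2
      refine ⟨LinearMap.rTensor _ (S.P ij.1).subtype w, ?_⟩
      rw [← hw, ← LinearMap.comp_apply, LinearMap.lTensor_comp_rTensor]
    obtain ⟨w, hw⟩ := mem_range_map_of_mem_of_mem _ _ _ h1' h2'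
    rw [← hw]
    exact inc_map_mem_TPq S₁ S₁' (mem_AD.1 hij) w
  · exact le_inf (TPq_mono (fun i => le_rfl) h' q) (TPq_mono h (fun i => le_rfl) q)

/-- every cocycle is, modulo coboundaries, a sum of tensors of cocycles -/
theorem exists_zz_decomp (A B : Cx k) {q : ℕ} {x : TT A B} (hx : x ∈ Zq A B q) :
    ∃ ζ : ∀ i j, ↥(A.cocyc i) ⊗[k] ↥(B.cocyc j),
      x - ∑ ij ∈ AD q, zz (A := A) (B := B) ij.1 ij.2 (ζ ij.1 ij.2) ∈ Bq A B q := by
  obtain ⟨σA⟩ := A.nonempty_spl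
  obtain ⟨σB⟩ := B.nonempty_spl
  refine ⟨fun i j => TensorProduct.map (σA.hc i) (σB.hc j) (comp A B i j x), ?_⟩
  have h1 := decomp σA σB x hx.1
  rw [map_hT_eq_sum σA σB hx.2] at h1
  have h2 : x - ∑ ij ∈ AD q, zz (A := A) (B := B) ij.1 ij.2
      (TensorProduct.map (σA.hc ij.1) (σB.hc ij.2) (comp A B ij.1 ij.2 x)) =
      D A B (SY (A := A) σB x + SX (B := B) σA (PY (A := A) σB x)) := by
    rw [sub_eq_iff_eq_add']
    exact h1
  rw [h2, map_add]
  exact add_mem (DSY_mem_Bq σB hx.2) (DSXPY_mem_Bq σA σB hx.2)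

/-- `w` is a coboundary of the subcomplex `S` in degree `j` -/
def Cx.Sub.IsCobdy (S : A.Sub) : (j : ℕ) → A.X j → Prop
  | 0, w => w = 0
  | j + 1, w => ∃ w' ∈ S.P j, A.d j w' = w

theorem EE_zz_tmul (S : A.Sub) (S' : B.Sub) (i j : ℕ) (z : S.cx.cocyc i) (w : S'.cx.cocyc j) :
    EE S S' (zz (A := S.cx) (B := S'.cx) i j (z ⊗ₜ w)) =
      DirectSum.lof k ℕ A.X i ((z : S.P i) : A.X i) ⊗ₜ[k]
        DirectSum.lof k ℕ B.X j ((w : S'.P j) : B.X j) := by
  unfold zz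
  rw [LinearMap.comp_apply, TensorProduct.map_tmul, inc_tmul]
  exact EE_tmul_lof S S' i j _ _

theorem vanish_right {S₁ : A.Sub} {S₁' S' : B.Sub} (h' : S₁'.le S')
    (hv : ∀ (j : ℕ) (w : B.X j), w ∈ S₁'.P j → B.d j w = 0 → S'.IsCobdy j w) (q : ℕ) :
    LinearMap.ker (D A B) ⊓ TPq S₁ S₁' q ≤ BPq S₁ S' q := by
  rintro x ⟨hxD, t, ht, rfl⟩
  have htD : D S₁.cx S₁'.cx t = 0 := by
    apply EE_injective S₁ S₁'
    rw [EE_D, map_zero]
    exact hxD
  obtain ⟨ζ, hζ⟩ := exists_zz_decomp S₁.cx S₁'.cx (⟨htD, ht⟩ : t ∈ Zq S₁.cx S₁'.cx q)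
  have h1 : EE S₁ S₁' (t - ∑ ij ∈ AD q, zz (A := S₁.cx) (B := S₁'.cx) ij.1 ij.2 (ζ ij.1 ij.2)) ∈
      BPq S₁ S' q := BPq_mono (fun i => le_rfl) h' q (Submodule.mem_map_of_mem hζ)
  have h2 : ∀ i j, i + j = q → ∀ ζ' : ↥(S₁.cx.cocyc i) ⊗[k] ↥(S₁'.cx.cocyc j),
      EE S₁ S₁' (zz (A := S₁.cx) (B := S₁'.cx) i j ζ') ∈ BPq S₁ S' q := by
    intro i j hij ζ'
    induction ζ' using TensorProduct.induction_on with
    | zero => simp
    | tmul z w =>
      rw [EE_zz_tmul]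
      have hz : A.d i ((z : S₁.P i) : A.X i) = 0 := congrArg Subtype.val z.2
      have hw : B.d j ((w : S₁'.P j) : B.X j) = 0 := congrArg Subtype.val w.2
      have hc := hv j _ (w : S₁'.P j).2 hw
      cases j with
      | zero =>
        have h0 : ((w : S₁'.P 0) : B.X 0) = 0 := hc
        rw [h0, map_zero, TensorProduct.tmul_zero]
        exact zero_mem _
      | succ j =>
        obtain ⟨w', hw', hww⟩ := hc
        have hD := D_tmul_lof A B i j ((z : S₁.P i) : A.X i) w'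
        rw [hz, map_zero, TensorProduct.zero_tmul, zero_add, hww] at hD
        have h3 : DirectSum.lof k ℕ A.X i ((z : S₁.P i) : A.X i) ⊗ₜ[k]
            DirectSum.lof k ℕ B.X (j + 1) ((w : S₁'.P (j + 1)) : B.X (j + 1)) =
            ((-1 : k) ^ i) • D A B (DirectSum.lof k ℕ A.X i ((z : S₁.P i) : A.X i) ⊗ₜ[k]
              DirectSum.lof k ℕ B.X j w') := by
          rw [hD, smul_smul, ← pow_add, ← two_mul, pow_mul]
          simp
        rw [h3]
        apply Submodule.smul_mem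
        have hq : q = (i + j) + 1 := by omega
        rw [hq, BPq_succ]
        exact Submodule.mem_map_of_mem (tmul_mem_TPq S₁ S' rfl (z : S₁.P i).2 hw')
    | add a b ha hb => rw [map_add, map_add]; exact add_mem ha hb
  have h3 : EE S₁ S₁' t = EE S₁ S₁' (t - ∑ ij ∈ AD q,
      zz (A := S₁.cx) (B := S₁'.cx) ij.1 ij.2 (ζ ij.1 ij.2)) +
      ∑ ij ∈ AD q, EE S₁ S₁' (zz (A := S₁.cx) (B := S₁'.cx) ij.1 ij.2 (ζ ij.1 ij.2)) := by
    rw [map_sub, map_sum]
    abel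
  rw [h3]
  exact add_mem h1 (sum_mem fun ij hij => h2 _ _ (mem_AD.1 hij) _)

theorem vanish_left {S₁ S : A.Sub} {S₁' : B.Sub} (h : S₁.le S)
    (hv : ∀ (i : ℕ) (z : A.X i), z ∈ S₁.P i → A.d i z = 0 → S.IsCobdy i z) (q : ℕ) :
    LinearMap.ker (D A B) ⊓ TPq S₁ S₁' q ≤ BPq S S₁' q := by
  rintro x ⟨hxD, t, ht, rfl⟩
  have htD : D S₁.cx S₁'.cx t = 0 := by
    apply EE_injective S₁ S₁'
    rw [EE_D, map_zero]
    exact hxD
  obtain ⟨ζ, hζ⟩ := exists_zz_decomp S₁.cx S₁'.cx (⟨htD, ht⟩ : t ∈ Zq S₁.cx S₁'.cx q)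
  have h1 : EE S₁ S₁' (t - ∑ ij ∈ AD q, zz (A := S₁.cx) (B := S₁'.cx) ij.1 ij.2 (ζ ij.1 ij.2)) ∈
      BPq S S₁' q := BPq_mono h (fun i => le_rfl) q (Submodule.mem_map_of_mem hζ)
  have h2 : ∀ i j, i + j = q → ∀ ζ' : ↥(S₁.cx.cocyc i) ⊗[k] ↥(S₁'.cx.cocyc j),
      EE S₁ S₁' (zz (A := S₁.cx) (B := S₁'.cx) i j ζ') ∈ BPq S S₁' q := by
    intro i j hij ζ'
    induction ζ' using TensorProduct.induction_on with
    | zero => simp
    | tmul z w =>
      rw [EE_zz_tmul]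
      have hz : A.d i ((z : S₁.P i) : A.X i) = 0 := congrArg Subtype.val z.2
      have hw : B.d j ((w : S₁'.P j) : B.X j) = 0 := congrArg Subtype.val w.2
      have hc := hv i _ (z : S₁.P i).2 hz
      cases i with
      | zero =>
        have h0 : ((z : S₁.P 0) : A.X 0) = 0 := hc
        rw [h0, map_zero, TensorProduct.zero_tmul]
        exact zero_mem _
      | succ i =>
        obtain ⟨z', hz', hzz⟩ := hc
        have hD := D_tmul_lof A B i j z' ((w : S₁'.P j) : B.X j)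
        rw [hw, map_zero, TensorProduct.tmul_zero, smul_zero, add_zero, hzz] at hD
        rw [← hD]
        have hq : q = (i + j) + 1 := by omega
        rw [hq, BPq_succ]
        exact Submodule.mem_map_of_mem (tmul_mem_TPq S S₁' rfl hz' (w : S₁'.P j).2)
    | add a b ha hb => rw [map_add, map_add]; exact add_mem ha hb
  have h3 : EE S₁ S₁' t = EE S₁ S₁' (t - ∑ ij ∈ AD q,
      zz (A := S₁.cx) (B := S₁'.cx) ij.1 ij.2 (ζ ij.1 ij.2)) +
      ∑ ij ∈ AD q, EE S₁ S₁' (zz (A := S₁.cx) (B := S₁'.cx) ij.1 ij.2 (ζ ij.1 ij.2)) := by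
    rw [map_sub, map_sum]
    abel
  rw [h3]
  exact add_mem h1 (sum_mem fun ij hij => h2 _ _ (mem_AD.1 hij) _)

/-- **The main count.** -/
theorem finrank_sum {S₁ S : A.Sub} {S₁' S' : B.Sub} (h : S₁.le S) (h' : S₁'.le S')
    (hvA : ∀ (i : ℕ) (z : A.X i), z ∈ S₁.P i → A.d i z = 0 → S.IsCobdy i z)
    (hvB : ∀ (j : ℕ) (w : B.X j), w ∈ S₁'.P j → B.d j w = 0 → S'.IsCobdy j w)
    [∀ i, Module.Finite k (S₁.cx.H i)] [∀ i, Module.Finite k (S.cx.H i)]
    [∀ j, Module.Finite k (S₁'.cx.H j)] [∀ j, Module.Finite k (S'.cx.H j)] (q : ℕ) :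
    Module.finrank k (SQ (LinearMap.ker (D A B) ⊓ (TPq S₁ S' q ⊔ TPq S S₁' q))
      (BPq S₁ S' q ⊔ BPq S S₁' q)) =
      Module.finrank k (HP S₁ S' q) + Module.finrank k (HP S S₁' q) +
        Module.finrank k (HP S₁ S₁' (q + 1)) := by
  have e1 := TPq_inf h h' q
  have e2 := TPq_inf h h' (q + 1)
  haveI i1 : Module.Finite k (SQ (LinearMap.ker (D A B) ⊓ TPq S₁ S' q)
      ((TPprev S₁ S' q).map (D A B))) := by
    rw [← BPq_eq]; exact finite_HP S₁ S' q
  haveI i2 : Module.Finite k (SQ (LinearMap.ker (D A B) ⊓ TPq S S₁' q)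
      ((TPprev S S₁' q).map (D A B))) := by
    rw [← BPq_eq]; exact finite_HP S S₁' q
  haveI i3 : Module.Finite k (SQ (LinearMap.ker (D A B) ⊓ (TPq S₁ S' (q + 1) ⊓ TPq S S₁' (q + 1)))
      ((TPq S₁ S' q ⊓ TPq S S₁' q).map (D A B))) := by
    rw [e1, e2, ← BPq_succ]; exact finite_HP S₁ S₁' (q + 1)
  have key := mv_finrank (D A B) (D_D A B) (TPprev S₁ S' q) (TPprev S S₁' q)
    (TPq S₁ S' q) (TPq S S₁' q) (TPq S₁ S' (q + 1)) (TPq S S₁' (q + 1))
    (TPprev_map_le S₁ S' q) (TPprev_map_le S S₁' q)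
    (by rintro _ ⟨x, hx, rfl⟩; exact D_mem_TPq S₁ S' hx)
    (by rintro _ ⟨x, hx, rfl⟩; exact D_mem_TPq S S₁' hx)
    (by rw [e1, ← BPq_eq]; exact vanish_right h' hvB q)
    (by rw [e1, ← BPq_eq]; exact vanish_left h hvA q)
    (by rw [e2, ← BPq_succ]; exact vanish_right h' hvB (q + 1))
    (by rw [e2, ← BPq_succ]; exact vanish_left h hvA (q + 1))
  rw [e1, e2, ← BPq_eq, ← BPq_eq, ← BPq_succ] at key
  exact key

end Groth.Agent.Lib.Helper20.Ku
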