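import Mathlib
import Groth.Agent.Lib.Helper26.GrProj
import Groth.Agent.Lib.Helper20.SegAc5

/-!
# The degree projections on `X ⊗[k] Y` for graded `X`, `Y`, and the weight-zero projection
-/

set_option autoImplicit false
set_option linter.unusedSectionVars false
set_option linter.unusedVariables false
set_option linter.style.haveILetI false

universe u

open TensorProduct DirectSum

namespace Groth.Agent.Lib.Helper20.SegTot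

open Groth.Agent.Lib.Helper26.GrProj Groth.Agent.Lib.Helper20.SegAc

section One

variable {k : Type u} [Field k] {R : Type u} [CommRing R] [Algebra k R]
  (𝒜 : ℤ → AddSubgroup R) [GradedRing 𝒜] (hkA : ∀ c : k, algebraMap k R c ∈ 𝒜 0)
  {X : Type u} [AddCommGroup X] [Module R X] [Module k X] [IsScalarTower k R X]
  (𝒳 : ℤ → AddSubgroup X) [DirectSum.Decomposition 𝒳] [SetLike.GradedSMul 𝒜 𝒳]

/-- the degree projection, as a `k`-linear map -/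
noncomputable def prK (e : ℤ) : X →ₗ[k] X where
  toFun := proj 𝒳 e
  map_add' := proj_add 𝒳 e
  map_smul' c x := by
    have h := proj_smul_of_mem 𝒜 𝒳 (hkA c) e x
    rw [sub_zero] at h
    simp only [algebraMap_smul] at h
    exact h

theorem prK_apply (e : ℤ) (x : X) : prK 𝒜 hkA 𝒳 e x = proj 𝒳 e x := rfl

theorem prK_prK_same (e : ℤ) (x : X) : prK 𝒜 hkA 𝒳 e (prK 𝒜 hkA 𝒳 e x) = prK 𝒜 hkA 𝒳 e x :=
  proj_of_mem_same 𝒳 (proj_mem 𝒳 e x)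

theorem prK_prK_ne {e e' : ℤ} (h : e' ≠ e) (x : X) :
    prK 𝒜 hkA 𝒳 e (prK 𝒜 hkA 𝒳 e' x) = 0 :=
  proj_of_mem_ne 𝒳 (proj_mem 𝒳 e' x) h

/-- the degree piece, as a `k`-subspace -/
def pcK (e : ℤ) : Submodule k X where
  carrier := 𝒳 e
  add_mem' := (𝒳 e).add_mem
  zero_mem' := (𝒳 e).zero_mem
  smul_mem' c x hx := by
    have h := SetLike.GradedSMul.smul_mem (A := 𝒜) (B := 𝒳) (hkA c) hx
    rw [vadd_eq_add, zero_add, algebraMap_smul] at h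
    exact h

theorem mem_pcK {e : ℤ} {x : X} : x ∈ pcK 𝒜 hkA 𝒳 e ↔ x ∈ 𝒳 e := Iff.rfl

end One

section Two

variable {k : Type u} [Field k] {R S T : Type u} [CommRing R] [CommRing S] [CommRing T]
  [Algebra k R] [Algebra k S] [Algebra k T]
  (𝒜 : ℤ → AddSubgroup R) [GradedRing 𝒜] (hkA : ∀ c : k, algebraMap k R c ∈ 𝒜 0)
  (ℬ : ℤ → AddSubgroup S) [GradedRing ℬ] (hkB : ∀ c : k, algebraMap k S c ∈ ℬ 0)
  (𝒯 : ℤ → AddSubgroup T) [GradedRing 𝒯]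
  (ψ : T →ₐ[k] R ⊗[k] S) (hψ : ∀ n t, t ∈ 𝒯 n → ψ t ∈ GrSeg.segrePiece k 𝒜 ℬ n)
  {X : Type u} [AddCommGroup X] [Module R X] [Module k X] [IsScalarTower k R X]
  (𝒳 : ℤ → AddSubgroup X) [DirectSum.Decomposition 𝒳] [SetLike.GradedSMul 𝒜 𝒳]
  {Y : Type u} [AddCommGroup Y] [Module S Y] [Module k Y] [IsScalarTower k S Y]
  (𝒴 : ℤ → AddSubgroup Y) [DirectSum.Decomposition 𝒴] [SetLike.GradedSMul ℬ 𝒴]

/-- the projection to bidegree `(e, e)` -/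
noncomputable def pp (e : ℤ) : X ⊗[k] Y →ₗ[k] X ⊗[k] Y :=
  TensorProduct.map (prK 𝒜 hkA 𝒳 e) (prK ℬ hkB 𝒴 e)

theorem pp_tmul (e : ℤ) (x : X) (y : Y) :
    pp 𝒜 hkA ℬ hkB 𝒳 𝒴 e (x ⊗ₜ[k] y) = proj 𝒳 e x ⊗ₜ[k] proj 𝒴 e y := rfl

theorem pp_pp_same (e : ℤ) (z : X ⊗[k] Y) :
    pp 𝒜 hkA ℬ hkB 𝒳 𝒴 e (pp 𝒜 hkA ℬ hkB 𝒳 𝒴 e z) = pp 𝒜 hkA ℬ hkB 𝒳 𝒴 e z := by
  induction z using TensorProduct.induction_on with
  | zero => simp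
  | tmul x y =>
    rw [pp_tmul, pp_tmul, proj_of_mem_same 𝒳 (proj_mem 𝒳 e x),
      proj_of_mem_same 𝒴 (proj_mem 𝒴 e y)]
  | add a b ha hb => rw [map_add, map_add, ha, hb]

theorem pp_pp_ne {e e' : ℤ} (h : e' ≠ e) (z : X ⊗[k] Y) :
    pp 𝒜 hkA ℬ hkB 𝒳 𝒴 e (pp 𝒜 hkA ℬ hkB 𝒳 𝒴 e' z) = 0 := by
  induction z using TensorProduct.induction_on with
  | zero => simp
  | tmul x y =>
    rw [pp_tmul, pp_tmul, proj_of_mem_ne 𝒳 (proj_mem 𝒳 e' x) h, TensorProduct.zero_tmul]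
  | add a b ha hb => rw [map_add, map_add, ha, hb, add_zero]

theorem pp_act {a : ℤ} {r : R} (hr : r ∈ 𝒜 a) {s : S} (hs : s ∈ ℬ a) (e : ℤ) (z : X ⊗[k] Y) :
    pp 𝒜 hkA ℬ hkB 𝒳 𝒴 (e + a) (GrSeg.act k R S X Y (r ⊗ₜ[k] s) z) =
      GrSeg.act k R S X Y (r ⊗ₜ[k] s) (pp 𝒜 hkA ℬ hkB 𝒳 𝒴 e z) := by
  induction z using TensorProduct.induction_on with
  | zero => simp
  | tmul x y =>
    rw [GrSeg.act_tmul, pp_tmul, pp_tmul, GrSeg.act_tmul, proj_smul_of_mem 𝒜 𝒳 hr,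
      proj_smul_of_mem ℬ 𝒴 hs, add_sub_cancel_right]
  | add a b ha hb => simp only [map_add, ha, hb]

include hψ in
theorem pp_smulT {a : ℤ} {t : T} (ht : t ∈ 𝒯 a) (e : ℤ) (z : X ⊗[k] Y) :
    pp 𝒜 hkA ℬ hkB 𝒳 𝒴 (e + a) (GrSeg.act k R S X Y (ψ t) z) =
      GrSeg.act k R S X Y (ψ t) (pp 𝒜 hkA ℬ hkB 𝒳 𝒴 e z) := by
  have h := hψ a t ht
  refine Submodule.span_induction (p := fun u _ => ∀ z : X ⊗[k] Y,
    pp 𝒜 hkA ℬ hkB 𝒳 𝒴 (e + a) (GrSeg.act k R S X Y u z) =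
      GrSeg.act k R S X Y u (pp 𝒜 hkA ℬ hkB 𝒳 𝒴 e z)) ?_ ?_ ?_ ?_ h z
  · rintro _ ⟨r, hr, s, hs, rfl⟩ z
    exact pp_act 𝒜 hkA ℬ hkB 𝒳 𝒴 hr hs e z
  · intro z
    simp
  · intro u v _ _ hu hv z
    rw [map_add, LinearMap.add_apply, map_add, hu, hv, LinearMap.add_apply]
  · intro c u _ hu z
    rw [map_smul, LinearMap.smul_apply, map_smul, hu, LinearMap.smul_apply]

theorem pp_support_finite (z : X ⊗[k] Y) :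
    (Function.support fun e => pp 𝒜 hkA ℬ hkB 𝒳 𝒴 e z).Finite := by
  classical
  induction z using TensorProduct.induction_on with
  | zero =>
    have : (fun e => pp 𝒜 hkA ℬ hkB 𝒳 𝒴 e (0 : X ⊗[k] Y)) = fun _ => 0 := by
      funext e; exact map_zero _
    rw [this]
    simp
  | tmul x y =>
    refine (Finset.finite_toSet (DirectSum.decompose 𝒳 x).support).subset ?_
    intro e he
    by_contra hne
    apply he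
    change pp 𝒜 hkA ℬ hkB 𝒳 𝒴 e (x ⊗ₜ[k] y) = 0
    rw [pp_tmul, proj_eq_zero_of_notMem 𝒳 hne, TensorProduct.zero_tmul]
  | add a b ha hb =>
    refine (ha.union hb).subset ?_
    have : (fun e => pp 𝒜 hkA ℬ hkB 𝒳 𝒴 e (a + b)) =
        (fun e => pp 𝒜 hkA ℬ hkB 𝒳 𝒴 e a) + fun e => pp 𝒜 hkA ℬ hkB 𝒳 𝒴 e b := by
      funext e; exact map_add _ _ _
    rw [this]
    exact Function.support_add _ _

/-- the weight-zero projection `Σ_e p_e ⊗ p_e` -/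
noncomputable def P0 : X ⊗[k] Y →ₗ[k] X ⊗[k] Y where
  toFun z := ∑ᶠ e, pp 𝒜 hkA ℬ hkB 𝒳 𝒴 e z
  map_add' a b := by
    simp only [map_add]
    exact finsum_add_distrib (pp_support_finite 𝒜 hkA ℬ hkB 𝒳 𝒴 a)
      (pp_support_finite 𝒜 hkA ℬ hkB 𝒳 𝒴 b)
  map_smul' c z := by
    simp only [map_smul, RingHom.id_apply]
    exact (smul_finsum c _).symm

theorem P0_apply (z : X ⊗[k] Y) :
    P0 𝒜 hkA ℬ hkB 𝒳 𝒴 z = ∑ᶠ e, pp 𝒜 hkA ℬ hkB 𝒳 𝒴 e z := rfl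

theorem P0_eq_sum (z : X ⊗[k] Y) (s : Finset ℤ)
    (hs : (Function.support fun e => pp 𝒜 hkA ℬ hkB 𝒳 𝒴 e z) ⊆ ↑s) :
    P0 𝒜 hkA ℬ hkB 𝒳 𝒴 z = ∑ e ∈ s, pp 𝒜 hkA ℬ hkB 𝒳 𝒴 e z :=
  finsum_eq_sum_of_support_subset _ hs

theorem P0_pp (e : ℤ) (z : X ⊗[k] Y) :
    P0 𝒜 hkA ℬ hkB 𝒳 𝒴 (pp 𝒜 hkA ℬ hkB 𝒳 𝒴 e z) = pp 𝒜 hkA ℬ hkB 𝒳 𝒴 e z := by
  rw [P0_apply, finsum_eq_single _ e (fun e' hne => pp_pp_ne 𝒜 hkA ℬ hkB 𝒳 𝒴 hne.symm z),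
    pp_pp_same]

theorem pp_P0 (e : ℤ) (z : X ⊗[k] Y) :
    pp 𝒜 hkA ℬ hkB 𝒳 𝒴 e (P0 𝒜 hkA ℬ hkB 𝒳 𝒴 z) = pp 𝒜 hkA ℬ hkB 𝒳 𝒴 e z := by
  classical
  have hfin := pp_support_finite 𝒜 hkA ℬ hkB 𝒳 𝒴 z
  rw [P0_eq_sum 𝒜 hkA ℬ hkB 𝒳 𝒴 z (insert e hfin.toFinset) (by
    intro x hx
    simp only [Finset.coe_insert, Set.Finite.coe_toFinset]
    exact Set.mem_insert_of_mem _ hx), map_sum]
  rw [Finset.sum_eq_single e]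
  · exact pp_pp_same 𝒜 hkA ℬ hkB 𝒳 𝒴 e z
  · intro e' _ hne
    exact pp_pp_ne 𝒜 hkA ℬ hkB 𝒳 𝒴 hne z
  · intro h
    exact absurd (Finset.mem_insert_self _ _) h

theorem P0_P0 (z : X ⊗[k] Y) :
    P0 𝒜 hkA ℬ hkB 𝒳 𝒴 (P0 𝒜 hkA ℬ hkB 𝒳 𝒴 z) = P0 𝒜 hkA ℬ hkB 𝒳 𝒴 z := by
  classical
  have hfin := pp_support_finite 𝒜 hkA ℬ hkB 𝒳 𝒴 z
  have h1 := P0_eq_sum 𝒜 hkA ℬ hkB 𝒳 𝒴 z hfin.toFinset (by
    rw [Set.Finite.coe_toFinset])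
  conv_lhs => rw [h1, map_sum]
  rw [h1]
  exact Finset.sum_congr rfl fun e _ => P0_pp 𝒜 hkA ℬ hkB 𝒳 𝒴 e z

/-- an element fixed by a `pp e` is a finite sum of its `pp`-components -/
theorem exists_finset_of_P0 (z : X ⊗[k] Y) (hz : P0 𝒜 hkA ℬ hkB 𝒳 𝒴 z = z) :
    ∃ s : Finset ℤ, z = ∑ e ∈ s, pp 𝒜 hkA ℬ hkB 𝒳 𝒴 e z := by
  classical
  have hfin := pp_support_finite 𝒜 hkA ℬ hkB 𝒳 𝒴 z
  refine ⟨hfin.toFinset, ?_⟩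
  conv_lhs => rw [← hz]
  exact P0_eq_sum 𝒜 hkA ℬ hkB 𝒳 𝒴 z hfin.toFinset (by rw [Set.Finite.coe_toFinset])

include hψ in
theorem P0_smulT_of_mem {a : ℤ} {t : T} (ht : t ∈ 𝒯 a) (z : X ⊗[k] Y) :
    P0 𝒜 hkA ℬ hkB 𝒳 𝒴 (GrSeg.act k R S X Y (ψ t) z) =
      GrSeg.act k R S X Y (ψ t) (P0 𝒜 hkA ℬ hkB 𝒳 𝒴 z) := by
  classical
  have hfin := pp_support_finite 𝒜 hkA ℬ hkB 𝒳 𝒴 z
  have h1 := P0_eq_sum 𝒜 hkA ℬ hkB 𝒳 𝒴 z hfin.toFinset (by rw [Set.Finite.coe_toFinset])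
  have h2 : P0 𝒜 hkA ℬ hkB 𝒳 𝒴 (GrSeg.act k R S X Y (ψ t) z) =
      ∑ e ∈ hfin.toFinset.map (addRightEmbedding a),
        pp 𝒜 hkA ℬ hkB 𝒳 𝒴 e (GrSeg.act k R S X Y (ψ t) z) := by
    apply P0_eq_sum
    intro e he
    simp only [Finset.coe_map, addRightEmbedding_apply, Set.Finite.coe_toFinset, Set.mem_image]
    refine ⟨e - a, ?_, by ring⟩
    intro h0
    apply he
    change pp 𝒜 hkA ℬ hkB 𝒳 𝒴 e (GrSeg.act k R S X Y (ψ t) z) = 0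
    have : e = (e - a) + a := by ring
    rw [this, pp_smulT 𝒜 hkA ℬ hkB 𝒯 ψ hψ 𝒳 𝒴 ht]
    have h0' : pp 𝒜 hkA ℬ hkB 𝒳 𝒴 (e - a) z = 0 := h0
    rw [h0', map_zero]
  rw [h2, Finset.sum_map, h1, map_sum]
  simp only [addRightEmbedding_apply]
  exact Finset.sum_congr rfl fun e _ => pp_smulT 𝒜 hkA ℬ hkB 𝒯 ψ hψ 𝒳 𝒴 ht e z

include hψ in
theorem P0_smulT (t : T) (z : X ⊗[k] Y) :
    P0 𝒜 hkA ℬ hkB 𝒳 𝒴 (GrSeg.act k R S X Y (ψ t) z) =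
      GrSeg.act k R S X Y (ψ t) (P0 𝒜 hkA ℬ hkB 𝒳 𝒴 z) := by
  classical
  induction t using DirectSum.Decomposition.inductionOn 𝒯 with
  | zero => simp
  | homogeneous t => exact P0_smulT_of_mem 𝒜 hkA ℬ hkB 𝒯 ψ hψ 𝒳 𝒴 t.2 z
  | add a b ha hb =>
    rw [map_add, map_add, LinearMap.add_apply, map_add, ha, hb, LinearMap.add_apply]

/-- the weight-zero projection as a `T`-linear map -/
noncomputable def P0T : TP ψ X Y →ₗ[T] TP ψ X Y where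
  toFun z := P0 𝒜 hkA ℬ hkB 𝒳 𝒴 z
  map_add' a b := map_add (P0 𝒜 hkA ℬ hkB 𝒳 𝒴) a b
  map_smul' t z := P0_smulT 𝒜 hkA ℬ hkB 𝒯 ψ hψ 𝒳 𝒴 t z

end Two

end Groth.Agent.Lib.Helper20.SegTot
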