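import Mathlib
import Groth.Agent.Lib.Helper20.SegTot1
import Groth.Agent.Lib.Helper20.Ku7
import Groth.Agent.Lib.Helper20.GrKit1

/-!
# The total space of a *injective resolution: grading, differential, subcomplexes
-/

set_option autoImplicit false
set_option linter.unusedSectionVars false
set_option linter.unusedVariables false
set_option linter.style.haveILetI false

universe u

open TensorProduct DirectSum

namespace Groth.Agent.Lib.Helper20.SegTot

open Groth.Agent.Lib.Helper26.GrProj Groth.Agent.Lib.Helper20.SegAc Groth.Agent.Lib.Helper20.GrKit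
  Groth.Agent.Lib.Helper20.Ku

variable {k : Type u} [Field k] {R : Type u} [CommRing R] [Algebra k R]
  {𝒜 : ℤ → AddSubgroup R} [GradedRing 𝒜] (hkA : ∀ c : k, algebraMap k R c ∈ 𝒜 0)
  {M : Type u} [AddCommGroup M] [Module R M] {ℳ : ℤ → AddSubgroup M}
  [DirectSum.Decomposition ℳ] [SetLike.GradedSMul 𝒜 ℳ]
  (E : GrLC.StarInjRes 𝒜 ℳ) [∀ i, Module k (E.X i).carrier]
  [∀ i, IsScalarTower k R (E.X i).carrier]

/-- the complex of `k`-vector spaces underlying a *injective resolution -/
@[reducible] noncomputable def cxOf : Ku.Cx k where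
  X i := (E.X i).carrier
  d i := (E.d i).restrictScalars k
  d_comp i x := by
    have : E.d i x ∈ LinearMap.ker (E.d (i + 1)) := by
      rw [E.exact_succ]; exact ⟨x, rfl⟩
    exact this

/-- the grading of the total space -/
def totGr (e : ℤ) : AddSubgroup (cxOf (k := k) E).T where
  carrier := {x | ∀ i, x i ∈ (E.X i).gr e}
  add_mem' hx hy i := by
    rw [DirectSum.add_apply]; exact add_mem (hx i) (hy i)
  zero_mem' i := by
    rw [DirectSum.zero_apply]; exact zero_mem _
  neg_mem' {x} hx i := by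
    have : (-x) i = - x i := rfl
    rw [this]; exact neg_mem (hx i)

theorem mem_totGr {e : ℤ} {x : (cxOf (k := k) E).T} :
    x ∈ totGr E e ↔ ∀ i, x i ∈ (E.X i).gr e := Iff.rfl

/-- the projections of the total space -/
noncomputable def totProj (e : ℤ) : (cxOf (k := k) E).T →+ (cxOf (k := k) E).T :=
  DirectSum.map (fun i => projAdd (E.X i).gr e)

theorem totProj_apply (e : ℤ) (x : (cxOf (k := k) E).T) (i : ℕ) :
    totProj E e x i = proj (E.X i).gr e (x i) := by
  unfold totProj
  rw [DirectSum.map_apply]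
  rfl

theorem totProj_of (e : ℤ) (i : ℕ) (y : (E.X i).carrier) :
    totProj (k := k) E e (DirectSum.of (fun i => (E.X i).carrier) i y) =
      DirectSum.of (fun i => (E.X i).carrier) i (proj (E.X i).gr e y) := by
  unfold totProj
  rw [DirectSum.map_of]
  rfl

theorem tot_h1 (g : ℤ) (x : (cxOf (k := k) E).T) : totProj E g x ∈ totGr E g := by
  intro i
  rw [totProj_apply]
  exact proj_mem _ _ _

theorem tot_h2 (g : ℤ) (x : (cxOf (k := k) E).T) (hx : x ∈ totGr E g) : totProj E g x = x := by
  apply DirectSum.ext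
  intro i
  rw [totProj_apply]
  exact proj_of_mem_same _ (hx i)

theorem tot_h3 (g h : ℤ) (x : (cxOf (k := k) E).T) (hx : x ∈ totGr E h) (hne : h ≠ g) :
    totProj E g x = 0 := by
  apply DirectSum.ext
  intro i
  rw [totProj_apply, DirectSum.zero_apply]
  exact proj_of_mem_ne _ (hx i) hne

theorem tot_h4 (x : (cxOf (k := k) E).T) : ∃ s : Finset ℤ, x = ∑ g ∈ s, totProj E g x := by
  classical
  induction x using DirectSum.induction_on with
  | zero => exact ⟨∅, by simp⟩
  | of i y =>
    refine ⟨(DirectSum.decompose (E.X i).gr y).support, ?_⟩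
    simp only [totProj_of]
    rw [← map_sum]
    congr 1
    exact (sum_proj (E.X i).gr y).symm
  | add x y hx hy =>
    obtain ⟨s, hs⟩ := hx
    obtain ⟨s', hs'⟩ := hy
    have key : ∀ (z : (cxOf (k := k) E).T) (s : Finset ℤ), z = ∑ g ∈ s, totProj E g z →
        ∀ t : Finset ℤ, s ⊆ t → z = ∑ g ∈ t, totProj E g z := by
      intro z s hz t hst
      rw [← Finset.sum_subset hst]
      · exact hz
      · intro g _ hg
        rw [hz, map_sum]
        apply Finset.sum_eq_zero
        intro h hh
        exact tot_h3 E g h _ (tot_h1 E h z) (fun e => hg (e ▸ hh))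
    refine ⟨s ∪ s', ?_⟩
    simp only [map_add]
    rw [Finset.sum_add_distrib]
    rw [← key x s hs _ Finset.subset_union_left, ← key y s' hs' _ Finset.subset_union_right]

theorem tot_isInternal : DirectSum.IsInternal (totGr (k := k) E) :=
  isInternal_of_proj (totGr E) (totProj E) (tot_h1 E) (tot_h2 E) (tot_h3 E) (tot_h4 E)

noncomputable instance totDec : DirectSum.Decomposition (totGr (k := k) E) :=
  (tot_isInternal E).chooseDecomposition

instance totGSMul : SetLike.GradedSMul 𝒜 (totGr (k := k) E) where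
  smul_mem := by
    intro a e r x hr hx i
    have : (r • x) i = r • x i := rfl
    rw [this]
    exact SetLike.GradedSMul.smul_mem (A := 𝒜) (B := (E.X i).gr) hr (hx i)

theorem proj_tot (e : ℤ) (x : (cxOf (k := k) E).T) : proj (totGr E) e x = totProj E e x :=
  proj_eq_of_proj (totGr E) (totProj E) (tot_h1 E) (tot_h3 E) (tot_h4 E) e x

theorem proj_tot_lof (e : ℤ) (i : ℕ) (y : (E.X i).carrier) :
    proj (totGr (k := k) E) e (DirectSum.lof k ℕ (cxOf (k := k) E).X i y) =
      DirectSum.lof k ℕ (cxOf (k := k) E).X i (proj (E.X i).gr e y) := by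
  rw [proj_tot]
  exact totProj_of E e i y

theorem dT_smul (r : R) (x : (cxOf (k := k) E).T) :
    (cxOf (k := k) E).dT (r • x) = r • (cxOf (k := k) E).dT x := by
  induction x using DirectSum.induction_on with
  | zero => simp
  | of i y =>
    have h1 : r • DirectSum.of (fun i => (E.X i).carrier) i y =
        DirectSum.lof k ℕ (cxOf (k := k) E).X i (r • y) := (DirectSum.of_smul R i r y).symm
    have h2 : DirectSum.of (fun i => (E.X i).carrier) i y =
        DirectSum.lof k ℕ (cxOf (k := k) E).X i y := rfl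
    rw [h1, h2, Cx.dT_lof, Cx.dT_lof]
    have h3 : (cxOf (k := k) E).d i (r • y) = r • (cxOf (k := k) E).d i y := (E.d i).map_smul r y
    rw [h3]
    exact DirectSum.of_smul R (i + 1) r _
  | add x y hx hy => rw [smul_add, map_add, map_add, hx, hy, smul_add]

theorem eT_smul (r : R) (x : (cxOf (k := k) E).T) :
    (cxOf (k := k) E).eT (r • x) = r • (cxOf (k := k) E).eT x := by
  induction x using DirectSum.induction_on with
  | zero => simp
  | of i y =>
    have h1 : r • DirectSum.of (fun i => (E.X i).carrier) i y =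
        DirectSum.lof k ℕ (cxOf (k := k) E).X i (r • y) := (DirectSum.of_smul R i r y).symm
    have h2 : DirectSum.of (fun i => (E.X i).carrier) i y =
        DirectSum.lof k ℕ (cxOf (k := k) E).X i y := rfl
    rw [h1, h2, Cx.eT_lof, Cx.eT_lof, smul_comm]
    congr 1
    exact DirectSum.of_smul R i r y
  | add x y hx hy => rw [smul_add, map_add, map_add, hx, hy, smul_add]

/-- the differential of the total space, `R`-linear -/
noncomputable def dTR : (cxOf (k := k) E).T →ₗ[R] (cxOf (k := k) E).T where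
  toFun := (cxOf (k := k) E).dT
  map_add' := map_add _
  map_smul' := dT_smul E

/-- the sign operator of the total space, `R`-linear -/
noncomputable def eTR : (cxOf (k := k) E).T →ₗ[R] (cxOf (k := k) E).T where
  toFun := (cxOf (k := k) E).eT
  map_add' := map_add _
  map_smul' := eT_smul E

/-- the degree `e` subcomplex -/
noncomputable def SubE (e : ℤ) : (cxOf (k := k) E).Sub where
  P i := pcK 𝒜 hkA (E.X i).gr e
  stable i x hx := E.d_grHom i e x hx

theorem gam_map {a : Ideal R} {X Y : Type u} [AddCommGroup X] [Module R X] [AddCommGroup Y]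
    [Module R Y] (f : X →ₗ[R] Y) {x : X} (hx : x ∈ GrLC.gam a X) : f x ∈ GrLC.gam a Y := by
  obtain ⟨n, hn⟩ := hx
  exact ⟨n, fun r hr => by rw [← map_smul, hn r hr, map_zero]⟩

/-- the degree `e` torsion subcomplex -/
noncomputable def SubG (a : Ideal R) (e : ℤ) : (cxOf (k := k) E).Sub where
  P i := pcK 𝒜 hkA (E.X i).gr e ⊓ (GrLC.gam a (E.X i).carrier).restrictScalars k
  stable i x hx := ⟨E.d_grHom i e x hx.1, gam_map (E.d i) hx.2⟩

theorem SubG_le (a : Ideal R) (e : ℤ) : (SubG hkA E a e).le (SubE hkA E e) :=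
  fun i x hx => hx.1

/-- cocycles of positive degree in the degree `e` piece are coboundaries -/
theorem exists_of_d_eq_zero (e : ℤ) (i : ℕ) (z : (E.X (i + 1)).carrier)
    (hz : z ∈ (E.X (i + 1)).gr e) (hd : E.d (i + 1) z = 0) :
    ∃ y ∈ (E.X i).gr e, E.d i y = z := by
  have h1 : z ∈ LinearMap.ker (E.d (i + 1)) := hd
  rw [E.exact_succ] at h1
  obtain ⟨y, rfl⟩ := h1
  refine ⟨proj (E.X i).gr e y, proj_mem _ _ _, ?_⟩
  rw [← proj_hom (E.X i).gr (E.X (i + 1)).gr (E.d i) (E.d_grHom i) e y]
  exact proj_of_mem_same _ hz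

theorem subsingleton_H_SubE (e : ℤ) (i : ℕ) :
    Subsingleton ((SubE hkA E e).cx.H (i + 1)) := by
  refine ⟨fun a b => ?_⟩
  have key : ∀ c : (SubE hkA E e).cx.H (i + 1), c = 0 := by
    intro c
    obtain ⟨z, rfl⟩ := (SubE hkA E e).cx.cls_surjective (i + 1) c
    rw [Cx.cls_eq_zero_iff]
    have hd : E.d (i + 1) ((z : (SubE hkA E e).P (i + 1)) : (E.X (i + 1)).carrier) = 0 :=
      congrArg Subtype.val z.2
    obtain ⟨y, hy, hyz⟩ := exists_of_d_eq_zero E e i _ (z : (SubE hkA E e).P (i + 1)).2 hd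
    exact ⟨⟨y, hy⟩, Subtype.ext hyz⟩
  rw [key a, key b]

theorem isCobdy_SubE (a : HomogeneousIdeal 𝒜) (e : ℤ) (h0 : E.Hcomp a 0 e = ⊥) (i : ℕ)
    (z : (cxOf (k := k) E).X i) (hz : z ∈ (SubG hkA E a.toIdeal e).P i)
    (hd : (cxOf (k := k) E).d i z = 0) : (SubE hkA E e).IsCobdy i z := by
  cases i with
  | zero =>
    change z = 0
    have hc : z ∈ E.cocyc a 0 := ⟨hz.2, hd⟩
    have h1 : E.toH a 0 ⟨z, hc⟩ ∈ E.Hcomp a 0 e := ⟨⟨z, hc⟩, hz.1, rfl⟩
    rw [h0, Submodule.mem_bot, Submodule.mkQ_apply, Submodule.Quotient.mk_eq_zero] at h1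
    exact h1
  | succ i =>
    obtain ⟨y, hy, hyz⟩ := exists_of_d_eq_zero E e i z hz.1 hd
    exact ⟨y, hy, hyz⟩

end Groth.Agent.Lib.Helper20.SegTot
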