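import Mathlib
import Groth.Agent.Lib.Helper20.SegTot2

/-!
# The total Segre complex: the projections, the `T`-module `X^q`, its grading and differential
-/

set_option autoImplicit false
set_option linter.unusedSectionVars false
set_option linter.unusedVariables false
set_option linter.style.haveILetI false

universe u

open TensorProduct DirectSum

namespace Groth.Agent.Lib.Helper20.SegTot

open Groth.Agent.Lib.Helper26.GrProj Groth.Agent.Lib.Helper20.SegAc Groth.Agent.Lib.Helper20.GrKit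
  Groth.Agent.Lib.Helper20.Ku

section General

variable {k : Type u} [Field k] {R S : Type u} [CommRing R] [CommRing S]
  [Algebra k R] [Algebra k S]
  (𝒜 : ℤ → AddSubgroup R) [GradedRing 𝒜] (hkA : ∀ c : k, algebraMap k R c ∈ 𝒜 0)
  (ℬ : ℤ → AddSubgroup S) [GradedRing ℬ] (hkB : ∀ c : k, algebraMap k S c ∈ ℬ 0)
  {X : Type u} [AddCommGroup X] [Module R X] [Module k X] [IsScalarTower k R X]
  (𝒳 : ℤ → AddSubgroup X) [DirectSum.Decomposition 𝒳] [SetLike.GradedSMul 𝒜 𝒳]
  {Y : Type u} [AddCommGroup Y] [Module S Y] [Module k Y] [IsScalarTower k S Y]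
  (𝒴 : ℤ → AddSubgroup Y) [DirectSum.Decomposition 𝒴] [SetLike.GradedSMul ℬ 𝒴]

/-- a linear map commuting with all the `pp e` commutes with `P0` -/
theorem P0_comm (L : X ⊗[k] Y →ₗ[k] X ⊗[k] Y)
    (hL : ∀ e z, pp 𝒜 hkA ℬ hkB 𝒳 𝒴 e (L z) = L (pp 𝒜 hkA ℬ hkB 𝒳 𝒴 e z)) (z : X ⊗[k] Y) :
    P0 𝒜 hkA ℬ hkB 𝒳 𝒴 (L z) = L (P0 𝒜 hkA ℬ hkB 𝒳 𝒴 z) := by
  classical
  have hfin := pp_support_finite 𝒜 hkA ℬ hkB 𝒳 𝒴 z
  have h1 := P0_eq_sum 𝒜 hkA ℬ hkB 𝒳 𝒴 z hfin.toFinset (by rw [Set.Finite.coe_toFinset])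
  have h2 : P0 𝒜 hkA ℬ hkB 𝒳 𝒴 (L z) =
      ∑ e ∈ hfin.toFinset, pp 𝒜 hkA ℬ hkB 𝒳 𝒴 e (L z) := by
    apply P0_eq_sum
    intro e he
    rw [Set.Finite.coe_toFinset]
    intro h0
    apply he
    change pp 𝒜 hkA ℬ hkB 𝒳 𝒴 e (L z) = 0
    have h0' : pp 𝒜 hkA ℬ hkB 𝒳 𝒴 e z = 0 := h0
    rw [hL, h0', map_zero]
  rw [h2, h1, map_sum]
  exact Finset.sum_congr rfl fun e _ => hL e z

end General

variable {k : Type u} [Field k] {R S T : Type u} [CommRing R] [CommRing S] [CommRing T]
  [Algebra k R] [Algebra k S] [Algebra k T]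
  {𝒜 : ℤ → AddSubgroup R} [GradedRing 𝒜] (hkA : ∀ c : k, algebraMap k R c ∈ 𝒜 0)
  {ℬ : ℤ → AddSubgroup S} [GradedRing ℬ] (hkB : ∀ c : k, algebraMap k S c ∈ ℬ 0)
  {𝒯 : ℤ → AddSubgroup T} [GradedRing 𝒯]
  (ψ : T →ₐ[k] R ⊗[k] S) (hψ : ∀ n t, t ∈ 𝒯 n → ψ t ∈ GrSeg.segrePiece k 𝒜 ℬ n)
  {M : Type u} [AddCommGroup M] [Module R M] {ℳ : ℤ → AddSubgroup M}
  [DirectSum.Decomposition ℳ] [SetLike.GradedSMul 𝒜 ℳ]
  (E : GrLC.StarInjRes 𝒜 ℳ) [∀ i, Module k (E.X i).carrier]
  [∀ i, IsScalarTower k R (E.X i).carrier]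
  {N : Type u} [AddCommGroup N] [Module S N] {𝒩 : ℤ → AddSubgroup N}
  [DirectSum.Decomposition 𝒩] [SetLike.GradedSMul ℬ 𝒩]
  (F : GrLC.StarInjRes ℬ 𝒩) [∀ j, Module k (F.X j).carrier]
  [∀ j, IsScalarTower k S (F.X j).carrier]

local notation "AA" => cxOf (k := k) E
local notation "BB" => cxOf (k := k) F

/-- the bidegree projections of the total tensor product -/
noncomputable abbrev ppE (e : ℤ) : TT AA BB →ₗ[k] TT AA BB :=
  pp 𝒜 hkA ℬ hkB (totGr E) (totGr F) e

/-- the weight-zero projection of the total tensor product -/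
noncomputable abbrev P0E : TT AA BB →ₗ[k] TT AA BB :=
  P0 𝒜 hkA ℬ hkB (totGr E) (totGr F)

theorem ppE_tmul_lof (e : ℤ) (i j : ℕ) (x : (AA).X i) (y : (BB).X j) :
    ppE hkA hkB E F e (DirectSum.lof k ℕ (AA).X i x ⊗ₜ[k] DirectSum.lof k ℕ (BB).X j y) =
      DirectSum.lof k ℕ (AA).X i (proj (E.X i).gr e x) ⊗ₜ[k]
        DirectSum.lof k ℕ (BB).X j (proj (F.X j).gr e y) := by
  change proj (totGr E) e _ ⊗ₜ[k] proj (totGr F) e _ = _
  rw [proj_tot_lof, proj_tot_lof]

theorem D_act (u : R ⊗[k] S) (z : TT AA BB) :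
    D AA BB (GrSeg.act k R S (AA).T (BB).T u z) = GrSeg.act k R S (AA).T (BB).T u (D AA BB z) := by
  have h1 := act_map (dTR (k := k) E) (LinearMap.id : (BB).T →ₗ[S] (BB).T) u z
  have h2 := act_map (eTR (k := k) E) (dTR (k := k) F) u z
  unfold D
  rw [LinearMap.add_apply, LinearMap.add_apply, map_add]
  exact congrArg₂ (· + ·) h1 h2

/-- the projection onto total cohomological degree `q` -/
noncomputable def prq (q : ℕ) : TT AA BB →ₗ[k] TT AA BB :=
  ∑ ij ∈ AD q, (inc AA BB ij.1 ij.2).comp (comp AA BB ij.1 ij.2)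

theorem prq_tmul_lof (q i j : ℕ) (x : (AA).X i) (y : (BB).X j) :
    prq (k := k) E F q (DirectSum.lof k ℕ (AA).X i x ⊗ₜ[k] DirectSum.lof k ℕ (BB).X j y) =
      if i + j = q then DirectSum.lof k ℕ (AA).X i x ⊗ₜ[k] DirectSum.lof k ℕ (BB).X j y else 0 := by
  classical
  rw [← inc_tmul]
  unfold prq
  simp only [LinearMap.sum_apply, LinearMap.comp_apply]
  split_ifs with h
  · rw [Finset.sum_eq_single (i, j)]
    · rw [comp_inc_self]
    · intro ij _ hne
      rw [comp_inc_ne AA BB (Ne.symm hne), map_zero]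
    · intro h'
      exact absurd (mem_AD.2 h) h'
  · apply Finset.sum_eq_zero
    intro ij hij
    have hne : (i, j) ≠ ij := by
      rintro rfl
      exact h (mem_AD.1 hij)
    rw [comp_inc_ne AA BB hne, map_zero]

theorem prq_of_add_eq {q i j : ℕ} (h : i + j = q) (x : (AA).X i) (y : (BB).X j) :
    prq (k := k) E F q (DirectSum.lof k ℕ (AA).X i x ⊗ₜ[k] DirectSum.lof k ℕ (BB).X j y) =
      DirectSum.lof k ℕ (AA).X i x ⊗ₜ[k] DirectSum.lof k ℕ (BB).X j y := by
  rw [prq_tmul_lof, if_pos h]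

theorem prq_of_add_ne {q i j : ℕ} (h : i + j ≠ q) (x : (AA).X i) (y : (BB).X j) :
    prq (k := k) E F q (DirectSum.lof k ℕ (AA).X i x ⊗ₜ[k] DirectSum.lof k ℕ (BB).X j y) = 0 := by
  rw [prq_tmul_lof, if_neg h]

theorem prq_ppE (q : ℕ) (e : ℤ) (z : TT AA BB) :
    prq (k := k) E F q (ppE hkA hkB E F e z) = ppE hkA hkB E F e (prq (k := k) E F q z) := by
  have : (prq (k := k) E F q).comp (ppE hkA hkB E F e) = (ppE hkA hkB E F e).comp (prq (k := k) E F q) := by
    apply TT_ext
    intro a b x y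
    rw [LinearMap.comp_apply, LinearMap.comp_apply, ppE_tmul_lof, prq_tmul_lof, prq_tmul_lof]
    split_ifs with h
    · rw [ppE_tmul_lof]
    · rw [map_zero]
  exact LinearMap.congr_fun this z

theorem prq_prq_same (q : ℕ) (z : TT AA BB) : prq (k := k) E F q (prq (k := k) E F q z) = prq (k := k) E F q z := by
  have : (prq (k := k) E F q).comp (prq (k := k) E F q) = prq (k := k) E F q := by
    apply TT_ext
    intro a b x y
    rw [LinearMap.comp_apply, prq_tmul_lof]
    split_ifs with h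
    · rw [prq_of_add_eq E F h]
    · rw [map_zero]
  exact LinearMap.congr_fun this z

theorem prq_D (q : ℕ) (z : TT AA BB) :
    prq (k := k) E F (q + 1) (D AA BB z) = D AA BB (prq (k := k) E F q z) := by
  have : (prq (k := k) E F (q + 1)).comp (D AA BB) = (D AA BB).comp (prq (k := k) E F q) := by
    apply TT_ext
    intro a b x y
    rw [LinearMap.comp_apply, LinearMap.comp_apply, D_tmul_lof, map_add, map_smul,
      prq_tmul_lof, prq_tmul_lof, prq_tmul_lof]
    by_cases h : a + b = q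
    · rw [if_pos (by omega), if_pos (by omega), if_pos h, D_tmul_lof]
    · rw [if_neg (by omega), if_neg (by omega), if_neg h, map_zero, smul_zero, add_zero]
  exact LinearMap.congr_fun this z

theorem D_ppE (e : ℤ) (z : TT AA BB) :
    ppE hkA hkB E F e (D AA BB z) = D AA BB (ppE hkA hkB E F e z) := by
  have : (ppE hkA hkB E F e).comp (D AA BB) = (D AA BB).comp (ppE hkA hkB E F e) := by
    apply TT_ext
    intro a b x y
    rw [LinearMap.comp_apply, LinearMap.comp_apply, D_tmul_lof, map_add, map_smul,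
      ppE_tmul_lof, ppE_tmul_lof, ppE_tmul_lof, D_tmul_lof]
    have h1 : proj (E.X (a + 1)).gr e ((AA).d a x) = (AA).d a (proj (E.X a).gr e x) :=
      proj_hom (E.X a).gr (E.X (a + 1)).gr (E.d a) (E.d_grHom a) e x
    have h2 : proj (F.X (b + 1)).gr e ((BB).d b y) = (BB).d b (proj (F.X b).gr e y) :=
      proj_hom (F.X b).gr (F.X (b + 1)).gr (F.d b) (F.d_grHom b) e y
    rw [h1, h2]
  exact LinearMap.congr_fun this z

theorem prq_act (q : ℕ) (u : R ⊗[k] S) (z : TT AA BB) :
    prq (k := k) E F q (GrSeg.act k R S (AA).T (BB).T u z) = GrSeg.act k R S (AA).T (BB).T u (prq (k := k) E F q z) := by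
  induction u using TensorProduct.induction_on with
  | zero => simp
  | add u v hu hv => rw [map_add, LinearMap.add_apply, map_add, hu, hv, LinearMap.add_apply]
  | tmul r s =>
    have : (prq (k := k) E F q).comp (GrSeg.act k R S (AA).T (BB).T (r ⊗ₜ[k] s)) =
        (GrSeg.act k R S (AA).T (BB).T (r ⊗ₜ[k] s)).comp (prq (k := k) E F q) := by
      apply TT_ext
      intro a b x y
      rw [LinearMap.comp_apply, LinearMap.comp_apply, GrSeg.act_tmul, prq_tmul_lof]
      have h1 : r • DirectSum.lof k ℕ (AA).X a x = DirectSum.lof k ℕ (AA).X a (r • x) :=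
        (DirectSum.of_smul R a r x).symm
      have h2 : s • DirectSum.lof k ℕ (BB).X b y = DirectSum.lof k ℕ (BB).X b (s • y) :=
        (DirectSum.of_smul S b s y).symm
      rw [h1, h2, prq_tmul_lof]
      split_ifs with h
      · rw [GrSeg.act_tmul, h1, h2]
      · rw [map_zero]
    exact LinearMap.congr_fun this z

theorem P0E_prq (q : ℕ) (z : TT AA BB) :
    P0E hkA hkB E F (prq (k := k) E F q z) = prq (k := k) E F q (P0E hkA hkB E F z) :=
  P0_comm 𝒜 hkA ℬ hkB (totGr E) (totGr F) (prq (k := k) E F q)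
    (fun e z => (prq_ppE hkA hkB E F q e z).symm) z

theorem P0E_D (z : TT AA BB) :
    P0E hkA hkB E F (D AA BB z) = D AA BB (P0E hkA hkB E F z) :=
  P0_comm 𝒜 hkA ℬ hkB (totGr E) (totGr F) (D AA BB) (fun e z => D_ppE hkA hkB E F e z) z

/-- induction principle for the total tensor product -/
theorem TT_induction {p : TT AA BB → Prop} (h0 : p 0) (hadd : ∀ a b, p a → p b → p (a + b))
    (h : ∀ i j (x : (AA).X i) (y : (BB).X j),
      p (DirectSum.lof k ℕ (AA).X i x ⊗ₜ[k] DirectSum.lof k ℕ (BB).X j y)) (z : TT AA BB) : p z := by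
  induction z using TensorProduct.induction_on with
  | zero => exact h0
  | add a b ha hb => exact hadd a b ha hb
  | tmul v w =>
    induction v using DirectSum.induction_on with
    | zero => rw [TensorProduct.zero_tmul]; exact h0
    | add a b ha hb => rw [TensorProduct.add_tmul]; exact hadd _ _ ha hb
    | of i x =>
      induction w using DirectSum.induction_on with
      | zero => rw [TensorProduct.tmul_zero]; exact h0
      | add a b ha hb => rw [TensorProduct.tmul_add]; exact hadd _ _ ha hb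
      | of j y => exact h i j x y

/-- **The link**: the degree `(e, q)` piece is the tensor product of the degree `e` subcomplexes -/
theorem mem_TPq_iff (e : ℤ) (q : ℕ) (z : TT AA BB) :
    z ∈ TPq (SubE hkA E e) (SubE hkB F e) q ↔
      ppE hkA hkB E F e z = z ∧ prq (k := k) E F q z = z := by
  constructor
  · intro hz
    have : TPq (SubE hkA E e) (SubE hkB F e) q ≤
        LinearMap.eqLocus (ppE hkA hkB E F e) LinearMap.id ⊓
          LinearMap.eqLocus (prq (k := k) E F q) LinearMap.id := by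
      apply TPq_le
      intro i j hij x hx y hy
      refine ⟨?_, ?_⟩
      · show ppE hkA hkB E F e _ = _
        rw [ppE_tmul_lof, proj_of_mem_same _ hx, proj_of_mem_same _ hy]
        rfl
      · show prq (k := k) E F q _ = _
        rw [prq_of_add_eq E F hij]
        rfl
    exact this hz
  · rintro ⟨h1, h2⟩
    have key : ∀ z : TT AA BB,
        ppE hkA hkB E F e (prq (k := k) E F q z) ∈ TPq (SubE hkA E e) (SubE hkB F e) q := by
      intro z
      induction z using TT_induction E F with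
      | h0 => rw [map_zero, map_zero]; exact zero_mem _
      | hadd a b ha hb => rw [map_add, map_add]; exact add_mem ha hb
      | h i j x y =>
        rw [prq_tmul_lof]
        split_ifs with h
        · rw [ppE_tmul_lof]
          exact tmul_mem_TPq _ _ h (proj_mem _ _ _) (proj_mem _ _ _)
        · rw [map_zero]; exact zero_mem _
    have := key z
    rwa [h2, h1] at this

end Groth.Agent.Lib.Helper20.SegTot
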