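import Mathlib
import Groth.Agent.Lib.Helper20.SegTot3

/-!
# The terms `X^q` of the total Segre complex as graded `T`-modules, and the differential
-/

set_option autoImplicit false
set_option linter.unusedSectionVars false
set_option linter.unusedVariables false
set_option linter.style.haveILetI false

universe u

open TensorProduct DirectSum

namespace Groth.Agent.Lib.Helper20.SegTot

open Groth.Agent.Lib.Helper26.GrProj Groth.Agent.Lib.Helper20.SegAc Groth.Agent.Lib.Helper20.GrKit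
  Groth.Agent.Lib.Helper20.Ku

variable {k : Type u} [Field k] {R S T : Type u} [CommRing R] [CommRing S] [CommRing T]
  [Algebra k R] [Algebra k S] [Algebra k T]
  {𝒜 : ℤ → AddSubgroup R} [GradedRing 𝒜] (hkA : ∀ c : k, algebraMap k R c ∈ 𝒜 0)
  {ℬ : ℤ → AddSubgroup S} [GradedRing ℬ] (hkB : ∀ c : k, algebraMap k S c ∈ ℬ 0)
  {𝒯 : ℤ → AddSubgroup T} [GradedRing 𝒯]
  (ψ : T →ₐ[k] R ⊗[k] S) (hψ : ∀ n t, t ∈ 𝒯 n → ψ t ∈ GrSeg.segrePiece k 𝒜 ℬ n)
  {M : Type u} [AddCommGroup M] [Module R M] {ℳ : ℤ → AddSubgroup M}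
  [DirectSum.Decomposition ℳ] [SetLike.GradedSMul 𝒜 ℳ]
  (E : GrLC.StarInjRes 𝒜 ℳ) [∀ i, Module k (E.X i).carrier]
  [∀ i, IsScalarTower k R (E.X i).carrier]
  {N : Type u} [AddCommGroup N] [Module S N] {𝒩 : ℤ → AddSubgroup N}
  [DirectSum.Decomposition 𝒩] [SetLike.GradedSMul ℬ 𝒩]
  (F : GrLC.StarInjRes ℬ 𝒩) [∀ j, Module k (F.X j).carrier]
  [∀ j, IsScalarTower k S (F.X j).carrier]

local notation "AA" => cxOf (k := k) E
local notation "BB" => cxOf (k := k) F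

/-- the `q`-th term of the total Segre complex, as a `T`-submodule of the big tensor product -/
def XQ (q : ℕ) : Submodule T (TP ψ (AA).T (BB).T) where
  carrier := {z | P0E hkA hkB E F z = z ∧ prq (k := k) E F q z = z}
  add_mem' {a b} ha hb :=
    ⟨(map_add (P0E hkA hkB E F) a b).trans (congrArg₂ (· + ·) ha.1 hb.1),
      (map_add (prq (k := k) E F q) a b).trans (congrArg₂ (· + ·) ha.2 hb.2)⟩
  zero_mem' := ⟨map_zero (P0E hkA hkB E F), map_zero (prq (k := k) E F q)⟩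
  smul_mem' t z hz :=
    ⟨(P0_smulT 𝒜 hkA ℬ hkB 𝒯 ψ hψ (totGr E) (totGr F) t z).trans
        (congrArg (GrSeg.act k R S (AA).T (BB).T (ψ t)) hz.1),
      (prq_act E F q (ψ t) z).trans (congrArg (GrSeg.act k R S (AA).T (BB).T (ψ t)) hz.2)⟩

theorem mem_XQ {q : ℕ} {z : TP ψ (AA).T (BB).T} :
    z ∈ XQ hkA hkB ψ hψ E F q ↔ P0E hkA hkB E F z = z ∧ prq (k := k) E F q z = z := Iff.rfl

theorem ppE_mem_XQ {q : ℕ} (e : ℤ) {z : TP ψ (AA).T (BB).T} (hz : z ∈ XQ hkA hkB ψ hψ E F q) :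
    (ppE hkA hkB E F e z : TP ψ (AA).T (BB).T) ∈ XQ hkA hkB ψ hψ E F q := by
  refine ⟨P0_pp 𝒜 hkA ℬ hkB (totGr E) (totGr F) e z, ?_⟩
  exact (prq_ppE hkA hkB E F q e z).trans (congrArg (ppE hkA hkB E F e) hz.2)

theorem mem_XQ_of_mem_TPq {q : ℕ} {e : ℤ} {z : TT AA BB}
    (hz : z ∈ TPq (SubE hkA E e) (SubE hkB F e) q) :
    (z : TP ψ (AA).T (BB).T) ∈ XQ hkA hkB ψ hψ E F q := by
  obtain ⟨h1, h2⟩ := (mem_TPq_iff hkA hkB E F e q z).1 hz
  refine ⟨?_, h2⟩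
  have := P0_pp 𝒜 hkA ℬ hkB (totGr E) (totGr F) e z
  rw [h1] at this
  exact this

/-- the grading of `X^q` -/
def XGgr (q : ℕ) (e : ℤ) : AddSubgroup ↥(XQ hkA hkB ψ hψ E F q) where
  carrier := {z | ppE hkA hkB E F e z.1 = z.1}
  add_mem' {a b} ha hb :=
    (map_add (ppE hkA hkB E F e) a.1 b.1).trans (congrArg₂ (· + ·) ha hb)
  zero_mem' := map_zero (ppE hkA hkB E F e)
  neg_mem' {a} ha := (map_neg (ppE hkA hkB E F e) a.1).trans (congrArg Neg.neg ha)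

theorem mem_XGgr {q : ℕ} {e : ℤ} {z : ↥(XQ hkA hkB ψ hψ E F q)} :
    z ∈ XGgr hkA hkB ψ hψ E F q e ↔ ppE hkA hkB E F e z.1 = z.1 := Iff.rfl

/-- the projections of `X^q` -/
noncomputable def XGproj (q : ℕ) (e : ℤ) :
    ↥(XQ hkA hkB ψ hψ E F q) →+ ↥(XQ hkA hkB ψ hψ E F q) where
  toFun z := ⟨ppE hkA hkB E F e z.1, ppE_mem_XQ hkA hkB ψ hψ E F e z.2⟩
  map_zero' := Subtype.ext (map_zero (ppE hkA hkB E F e))
  map_add' a b := Subtype.ext (map_add (ppE hkA hkB E F e) a.1 b.1)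

theorem XG_isInternal (q : ℕ) : DirectSum.IsInternal (XGgr hkA hkB ψ hψ E F q) := by
  refine isInternal_of_proj (XGgr hkA hkB ψ hψ E F q) (XGproj hkA hkB ψ hψ E F q) ?_ ?_ ?_ ?_
  · intro g z
    exact pp_pp_same 𝒜 hkA ℬ hkB (totGr E) (totGr F) g z.1
  · intro g z hz
    exact Subtype.ext hz
  · intro g h z hz hne
    apply Subtype.ext
    change ppE hkA hkB E F g z.1 = 0
    have hz' : ppE hkA hkB E F h z.1 = z.1 := hz
    rw [← hz']
    exact pp_pp_ne 𝒜 hkA ℬ hkB (totGr E) (totGr F) hne z.1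
  · intro z
    obtain ⟨s, hs⟩ := exists_finset_of_P0 𝒜 hkA ℬ hkB (totGr E) (totGr F) z.1 z.2.1
    refine ⟨s, Subtype.ext ?_⟩
    rw [AddSubmonoidClass.coe_finset_sum]
    exact hs

noncomputable instance XGdec (q : ℕ) : DirectSum.Decomposition (XGgr hkA hkB ψ hψ E F q) :=
  (XG_isInternal hkA hkB ψ hψ E F q).chooseDecomposition

instance XGgsmul (q : ℕ) : SetLike.GradedSMul 𝒯 (XGgr hkA hkB ψ hψ E F q) where
  smul_mem := by
    intro a e t z ht hz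
    change ppE hkA hkB E F (a + e) (GrSeg.act k R S (AA).T (BB).T (ψ t) z.1) =
      GrSeg.act k R S (AA).T (BB).T (ψ t) z.1
    rw [add_comm, pp_smulT 𝒜 hkA ℬ hkB 𝒯 ψ hψ (totGr E) (totGr F) ht e z.1]
    exact congrArg _ hz

/-- `X^q` as a graded `T`-module -/
noncomputable def XG (q : ℕ) : GrLC.GMod.{u} 𝒯 where
  carrier := ↥(XQ hkA hkB ψ hψ E F q)
  gr := XGgr hkA hkB ψ hψ E F q
  dec := XGdec hkA hkB ψ hψ E F q
  gsmul := XGgsmul hkA hkB ψ hψ E F q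

/-- the differential -/
noncomputable def dX (q : ℕ) :
    ↥(XQ hkA hkB ψ hψ E F q) →ₗ[T] ↥(XQ hkA hkB ψ hψ E F (q + 1)) where
  toFun z := ⟨D AA BB z.1,
    ⟨(P0E_D hkA hkB E F z.1).trans (congrArg (D AA BB) z.2.1),
      (prq_D E F q z.1).trans (congrArg (D AA BB) z.2.2)⟩⟩
  map_add' a b := Subtype.ext (map_add (D AA BB) a.1 b.1)
  map_smul' t z := Subtype.ext (D_act E F (ψ t) z.1)

theorem dX_coe (q : ℕ) (z : ↥(XQ hkA hkB ψ hψ E F q)) :
    ((dX hkA hkB ψ hψ E F q z : ↥(XQ hkA hkB ψ hψ E F (q + 1))) : TP ψ (AA).T (BB).T) =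
      D AA BB z.1 := rfl

theorem dX_grHom (q : ℕ) :
    GrLC.IsGrHom (XGgr hkA hkB ψ hψ E F q) (XGgr hkA hkB ψ hψ E F (q + 1))
      (dX hkA hkB ψ hψ E F q) := by
  intro e z hz
  change ppE hkA hkB E F e (D AA BB z.1) = D AA BB z.1
  rw [D_ppE]
  exact congrArg _ hz

end Groth.Agent.Lib.Helper20.SegTot
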