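import Mathlib
import Groth.Agent.Lib.Helper20.SegTot4
import Groth.Agent.Lib.Helper20.GrAcyc3

/-!
# The total Segre complex is a graded resolution of the Segre product module
-/

set_option autoImplicit false
set_option linter.unusedSectionVars false
set_option linter.unusedVariables false
set_option linter.style.haveILetI false

universe u

open TensorProduct DirectSum

namespace Groth.Agent.Lib.Helper20.SegTot

open Groth.Agent.Lib.Helper26.GrProj Groth.Agent.Lib.Helper20.SegAc Groth.Agent.Lib.Helper20.GrKit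
  Groth.Agent.Lib.Helper20.Ku

variable {k : Type u} [Field k] {R S T : Type u} [CommRing R] [CommRing S] [CommRing T]
  [Algebra k R] [Algebra k S] [Algebra k T]
  {𝒜 : ℤ → AddSubgroup R} [GradedRing 𝒜] (hkA : ∀ c : k, algebraMap k R c ∈ 𝒜 0)
  {ℬ : ℤ → AddSubgroup S} [GradedRing ℬ] (hkB : ∀ c : k, algebraMap k S c ∈ ℬ 0)
  {𝒯 : ℤ → AddSubgroup T} [GradedRing 𝒯]
  (ψ : T →ₐ[k] R ⊗[k] S) (hψ : ∀ n t, t ∈ 𝒯 n → ψ t ∈ GrSeg.segrePiece k 𝒜 ℬ n)
  {M : Type u} [AddCommGroup M] [Module R M] [Module k M] [IsScalarTower k R M]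
  {ℳ : ℤ → AddSubgroup M}
  [DirectSum.Decomposition ℳ] [SetLike.GradedSMul 𝒜 ℳ]
  (E : GrLC.StarInjRes 𝒜 ℳ) [∀ i, Module k (E.X i).carrier]
  [∀ i, IsScalarTower k R (E.X i).carrier]
  {N : Type u} [AddCommGroup N] [Module S N] [Module k N] [IsScalarTower k S N]
  {𝒩 : ℤ → AddSubgroup N}
  [DirectSum.Decomposition 𝒩] [SetLike.GradedSMul ℬ 𝒩]
  (F : GrLC.StarInjRes ℬ 𝒩) [∀ j, Module k (F.X j).carrier]
  [∀ j, IsScalarTower k S (F.X j).carrier]

local notation "AA" => cxOf (k := k) E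
local notation "BB" => cxOf (k := k) F

/-- `M → I^0 → ⨁ I^i` -/
noncomputable def jE : M →ₗ[R] (AA).T :=
  (DirectSum.lof R ℕ (fun i => (E.X i).carrier) 0).comp E.ε

theorem jE_apply (m : M) : jE (k := k) E m = DirectSum.lof k ℕ (AA).X 0 (E.ε m) := rfl

theorem jE_injective : Function.Injective (jE (k := k) E) := by
  intro a b h
  apply E.ε_injective
  exact DirectSum.of_injective (β := fun i => (E.X i).carrier) 0 h

/-- the augmentation on the level of tensor products -/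
noncomputable def epsTT : M ⊗[k] N →ₗ[k] TT AA BB :=
  TensorProduct.map ((jE (k := k) E).restrictScalars k) ((jE (k := k) F).restrictScalars k)

theorem epsTT_tmul (m : M) (n : N) :
    epsTT E F (m ⊗ₜ[k] n) =
      DirectSum.lof k ℕ (AA).X 0 (E.ε m) ⊗ₜ[k] DirectSum.lof k ℕ (BB).X 0 (F.ε n) := rfl

theorem epsTT_injective : Function.Injective (epsTT (k := k) E F) :=
  TensorProduct.map_injective_of_flat_flat _ _ (jE_injective E) (jE_injective F)

theorem epsTT_act (u : R ⊗[k] S) (z : M ⊗[k] N) :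
    epsTT E F (GrSeg.act k R S M N u z) = GrSeg.act k R S (AA).T (BB).T u (epsTT E F z) :=
  act_map (jE (k := k) E) (jE (k := k) F) u z

theorem D_epsTT (z : M ⊗[k] N) : D AA BB (epsTT E F z) = 0 := by
  induction z using TensorProduct.induction_on with
  | zero => simp
  | add a b ha hb => rw [map_add, map_add, ha, hb, add_zero]
  | tmul m n =>
    rw [epsTT_tmul, D_tmul_lof]
    have h1 : (AA).d 0 (E.ε m) = 0 := by
      have : E.ε m ∈ LinearMap.ker (E.d 0) := by rw [E.exact_zero]; exact ⟨m, rfl⟩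
      exact this
    have h2 : (BB).d 0 (F.ε n) = 0 := by
      have : F.ε n ∈ LinearMap.ker (F.d 0) := by rw [F.exact_zero]; exact ⟨n, rfl⟩
      exact this
    rw [h1, h2]
    simp

theorem epsTT_mem_TPq {e : ℤ} {z : M ⊗[k] N} (hz : z ∈ GrSeg.segrePiece k ℳ 𝒩 e) :
    epsTT E F z ∈ TPq (SubE hkA E e) (SubE hkB F e) 0 := by
  have : GrSeg.segrePiece k ℳ 𝒩 e ≤
      (TPq (SubE hkA E e) (SubE hkB F e) 0).comap (epsTT E F) := by
    apply Submodule.span_le.2
    rintro _ ⟨m, hm, n, hn, rfl⟩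
    show epsTT E F (m ⊗ₜ[k] n) ∈ TPq (SubE hkA E e) (SubE hkB F e) 0
    rw [epsTT_tmul]
    have hm' : E.ε m ∈ (SubE hkA E e).P 0 := E.ε_grHom e m hm
    have hn' : F.ε n ∈ (SubE hkB F e).P 0 := F.ε_grHom e n hn
    exact tmul_mem_TPq (SubE hkA E e) (SubE hkB F e) (q := 0) (i := 0) (j := 0) rfl hm' hn'
  exact this hz

/-- degree `e` cocycles of `I^0` come from `M_e` -/
theorem exists_of_d_zero_eq_zero (e : ℤ) (z : (E.X 0).carrier) (hz : z ∈ (E.X 0).gr e)
    (hd : E.d 0 z = 0) : ∃ m ∈ ℳ e, E.ε m = z := by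
  have h1 : z ∈ LinearMap.ker (E.d 0) := hd
  rw [E.exact_zero] at h1
  obtain ⟨m, rfl⟩ := h1
  refine ⟨proj ℳ e m, proj_mem _ _ _, ?_⟩
  rw [← proj_hom ℳ (E.X 0).gr E.ε E.ε_grHom e m]
  exact proj_of_mem_same _ hz

/-- degree `e` cocycles of total degree `0` come from `M_e ⊗ N_e` -/
theorem exists_of_mem_TPq_zero {e : ℤ} {z : TT AA BB}
    (hz : z ∈ TPq (SubE hkA E e) (SubE hkB F e) 0) (hD : D AA BB z = 0) :
    ∃ w ∈ GrSeg.segrePiece k ℳ 𝒩 e, epsTT E F w = z := by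
  obtain ⟨t, ht, rfl⟩ := hz
  have htD : D (SubE hkA E e).cx (SubE hkB F e).cx t = 0 := by
    apply EE_injective (SubE hkA E e) (SubE hkB F e)
    rw [EE_D, map_zero]
    exact hD
  obtain ⟨ζ, rfl⟩ := exists_of_deg_zero _ _ ht htD
  have key : ∀ ζ : ↥((SubE hkA E e).cx.cocyc 0) ⊗[k] ↥((SubE hkB F e).cx.cocyc 0),
      EE (SubE hkA E e) (SubE hkB F e)
        (zz (A := (SubE hkA E e).cx) (B := (SubE hkB F e).cx) 0 0 ζ) ∈
        (GrSeg.segrePiece k ℳ 𝒩 e).map (epsTT E F) := by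
    intro ζ
    induction ζ using TensorProduct.induction_on with
    | zero => rw [map_zero, map_zero]; exact zero_mem _
    | add a b ha hb => rw [map_add, map_add]; exact add_mem ha hb
    | tmul c c' =>
      rw [EE_zz_tmul]
      have hc : E.d 0 ((c : (SubE hkA E e).P 0) : (E.X 0).carrier) = 0 :=
        congrArg Subtype.val c.2
      have hc' : F.d 0 ((c' : (SubE hkB F e).P 0) : (F.X 0).carrier) = 0 :=
        congrArg Subtype.val c'.2
      obtain ⟨m, hm, hmc⟩ := exists_of_d_zero_eq_zero E e _ (c : (SubE hkA E e).P 0).2 hc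
      obtain ⟨n, hn, hnc⟩ := exists_of_d_zero_eq_zero F e _ (c' : (SubE hkB F e).P 0).2 hc'
      refine ⟨m ⊗ₜ[k] n, Submodule.subset_span ⟨m, hm, n, hn, rfl⟩, ?_⟩
      rw [epsTT_tmul, hmc, hnc]
  obtain ⟨w, hw, hwz⟩ := key ζ
  exact ⟨w, hw, hwz⟩

theorem subsingleton_Hq_SubE (e : ℤ) (q : ℕ) :
    Subsingleton (Hq (SubE hkA E e).cx (SubE hkB F e).cx (q + 1)) := by
  apply subsingleton_Hq
  intro i j hij
  cases i with
  | zero =>
    right
    obtain ⟨j', rfl⟩ : ∃ j', j = j' + 1 := ⟨j - 1, by omega⟩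
    exact subsingleton_H_SubE hkB F e j'
  | succ i =>
    left
    exact subsingleton_H_SubE hkA E e i

/-- exactness in positive degrees, degree by degree -/
theorem exists_of_mem_TPq_succ {e : ℤ} {q : ℕ} {z : TT AA BB}
    (hz : z ∈ TPq (SubE hkA E e) (SubE hkB F e) (q + 1)) (hD : D AA BB z = 0) :
    ∃ y ∈ TPq (SubE hkA E e) (SubE hkB F e) q, D AA BB y = z := by
  obtain ⟨t, ht, rfl⟩ := hz
  have htD : D (SubE hkA E e).cx (SubE hkB F e).cx t = 0 := by
    apply EE_injective (SubE hkA E e) (SubE hkB F e)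
    rw [EE_D, map_zero]
    exact hD
  obtain ⟨y, hy, rfl⟩ := exists_of_subsingleton _ _ q (subsingleton_Hq_SubE hkA hkB E F e q) ht htD
  exact ⟨EE (SubE hkA E e) (SubE hkB F e) y, ⟨y, hy, rfl⟩, (EE_D _ _ y).symm⟩

section Aug

variable {P : Type u} [AddCommGroup P] [Module T P] [Module k P] [IsScalarTower k T P]
  {𝒬 : ℤ → AddSubgroup P} [DirectSum.Decomposition 𝒬] [SetLike.GradedSMul 𝒯 𝒬]
  (φ : P →ₗ[k] M ⊗[k] N) (hφi : Function.Injective φ)
  (hφp : ∀ n : ℤ, φ '' (𝒬 n : Set P) = (GrSeg.segrePiece k ℳ 𝒩 n : Set (M ⊗[k] N)))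
  (hφs : ∀ (t : T) (p : P), φ (t • p) = GrSeg.act k R S M N (ψ t) (φ p))

include hφp in
theorem eps_mem_TPq {e : ℤ} {p : P} (hp : p ∈ 𝒬 e) :
    epsTT E F (φ p) ∈ TPq (SubE hkA E e) (SubE hkB F e) 0 := by
  apply epsTT_mem_TPq
  have : φ p ∈ φ '' (𝒬 e : Set P) := ⟨p, hp, rfl⟩
  rw [hφp e] at this
  exact this

include hφp in
theorem eps_mem_XQ (p : P) :
    (epsTT E F (φ p) : TP ψ (AA).T (BB).T) ∈ XQ hkA hkB ψ hψ E F 0 := by
  classical
  induction p using DirectSum.Decomposition.inductionOn 𝒬 with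
  | zero => rw [map_zero, map_zero]; exact zero_mem _
  | homogeneous p => exact mem_XQ_of_mem_TPq hkA hkB ψ hψ E F (eps_mem_TPq hkA hkB E F φ hφp p.2)
  | add a b ha hb =>
    rw [map_add, map_add]
    exact (XQ hkA hkB ψ hψ E F 0).add_mem ha hb

/-- the augmentation -/
noncomputable def epsX : P →ₗ[T] ↥(XQ hkA hkB ψ hψ E F 0) where
  toFun p := ⟨epsTT E F (φ p), eps_mem_XQ hkA hkB ψ hψ E F φ hφp p⟩
  map_add' a b := Subtype.ext (by
    change epsTT E F (φ (a + b)) = epsTT E F (φ a) + epsTT E F (φ b)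
    rw [map_add, map_add])
  map_smul' t p := Subtype.ext (by
    change epsTT E F (φ (t • p)) = GrSeg.act k R S (AA).T (BB).T (ψ t) (epsTT E F (φ p))
    rw [hφs, epsTT_act])

theorem epsX_coe (p : P) :
    ((epsX hkA hkB ψ hψ E F φ hφp hφs p : ↥(XQ hkA hkB ψ hψ E F 0)) : TP ψ (AA).T (BB).T) =
      epsTT E F (φ p) := rfl

include hφi in
theorem epsX_injective : Function.Injective (epsX hkA hkB ψ hψ E F φ hφp hφs) := by
  intro a b h
  apply hφi
  apply epsTT_injective E F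
  exact congrArg Subtype.val h

theorem epsX_grHom :
    GrLC.IsGrHom 𝒬 (XGgr hkA hkB ψ hψ E F 0) (epsX hkA hkB ψ hψ E F φ hφp hφs) := by
  intro e p hp
  exact ((mem_TPq_iff hkA hkB E F e 0 _).1 (eps_mem_TPq hkA hkB E F φ hφp hp)).1

include hφi in
theorem exact_zero :
    LinearMap.ker (dX hkA hkB ψ hψ E F 0) = LinearMap.range (epsX hkA hkB ψ hψ E F φ hφp hφs) := by
  classical
  apply le_antisymm
  · intro z hz
    have hD : D AA BB z.1 = 0 := congrArg Subtype.val hz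
    obtain ⟨s, hs⟩ := exists_finset_of_P0 𝒜 hkA ℬ hkB (totGr E) (totGr F) z.1 z.2.1
    have hzs : z = ∑ e ∈ s, XGproj hkA hkB ψ hψ E F 0 e z := by
      apply Subtype.ext
      rw [AddSubmonoidClass.coe_finsetSum]
      exact hs
    have key : ∀ e : ℤ, ∃ p : P, epsX hkA hkB ψ hψ E F φ hφp hφs p =
        XGproj hkA hkB ψ hψ E F 0 e z := by
      intro e
      have h1 : ppE hkA hkB E F e z.1 ∈ TPq (SubE hkA E e) (SubE hkB F e) 0 := by
        rw [mem_TPq_iff]
        refine ⟨pp_pp_same 𝒜 hkA ℬ hkB (totGr E) (totGr F) e z.1, ?_⟩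
        rw [prq_ppE]
        exact congrArg _ z.2.2
      have h2 : D AA BB (ppE hkA hkB E F e z.1) = 0 := by
        rw [← D_ppE]
        exact (congrArg _ hD).trans (map_zero _)
      obtain ⟨w, hw, hwz⟩ := exists_of_mem_TPq_zero hkA hkB E F h1 h2
      have : w ∈ φ '' (𝒬 e : Set P) := by rw [hφp e]; exact hw
      obtain ⟨p, -, rfl⟩ := this
      exact ⟨p, Subtype.ext hwz⟩
    choose pe hpe using key
    refine ⟨∑ e ∈ s, pe e, ?_⟩
    rw [map_sum]
    conv_rhs => rw [hzs]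
    exact Finset.sum_congr rfl fun e _ => hpe e
  · rintro _ ⟨p, rfl⟩
    apply Subtype.ext
    exact D_epsTT E F (φ p)

theorem exact_succ (q : ℕ) :
    LinearMap.ker (dX hkA hkB ψ hψ E F (q + 1)) = LinearMap.range (dX hkA hkB ψ hψ E F q) := by
  classical
  apply le_antisymm
  · intro z hz
    have hD : D AA BB z.1 = 0 := congrArg Subtype.val hz
    obtain ⟨s, hs⟩ := exists_finset_of_P0 𝒜 hkA ℬ hkB (totGr E) (totGr F) z.1 z.2.1
    have hzs : z = ∑ e ∈ s, XGproj hkA hkB ψ hψ E F (q + 1) e z := by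
      apply Subtype.ext
      rw [AddSubmonoidClass.coe_finsetSum]
      exact hs
    have key : ∀ e : ℤ, ∃ y : ↥(XQ hkA hkB ψ hψ E F q),
        dX hkA hkB ψ hψ E F q y = XGproj hkA hkB ψ hψ E F (q + 1) e z := by
      intro e
      have h1 : ppE hkA hkB E F e z.1 ∈ TPq (SubE hkA E e) (SubE hkB F e) (q + 1) := by
        rw [mem_TPq_iff]
        refine ⟨pp_pp_same 𝒜 hkA ℬ hkB (totGr E) (totGr F) e z.1, ?_⟩
        rw [prq_ppE]
        exact congrArg _ z.2.2
      have h2 : D AA BB (ppE hkA hkB E F e z.1) = 0 := by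
        rw [← D_ppE]
        exact (congrArg _ hD).trans (map_zero _)
      obtain ⟨y, hy, hyz⟩ := exists_of_mem_TPq_succ hkA hkB E F h1 h2
      exact ⟨⟨y, mem_XQ_of_mem_TPq hkA hkB ψ hψ E F hy⟩, Subtype.ext hyz⟩
    choose ye hye using key
    refine ⟨∑ e ∈ s, ye e, ?_⟩
    rw [map_sum]
    conv_rhs => rw [hzs]
    exact Finset.sum_congr rfl fun e _ => hye e
  · rintro _ ⟨y, rfl⟩
    apply Subtype.ext
    exact D_D AA BB y.1

include hφi in
/-- **The total Segre complex is a graded resolution of the Segre product.** -/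
noncomputable def segRes : GrAcyc.GrRes 𝒯 𝒬 where
  X q := XG hkA hkB ψ hψ E F q
  d q := dX hkA hkB ψ hψ E F q
  ε := epsX hkA hkB ψ hψ E F φ hφp hφs
  d_grHom q := dX_grHom hkA hkB ψ hψ E F q
  ε_grHom := epsX_grHom hkA hkB ψ hψ E F φ hφp hφs
  ε_injective := epsX_injective hkA hkB ψ hψ E F φ hφi hφp hφs
  exact_zero := exact_zero hkA hkB ψ hψ E F φ hφi hφp hφs
  exact_succ q := exact_succ hkA hkB ψ hψ E F q

end Aug

end Groth.Agent.Lib.Helper20.SegTot
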