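import Mathlib
import Groth.Agent.Lib.Helper20.SegTot5
import Groth.Agent.Lib.Helper20.SegAc6

/-!
# Acyclicity of the terms of the total Segre complex and their torsion
-/

set_option autoImplicit false
set_option linter.unusedSectionVars false
set_option linter.unusedVariables false
set_option linter.style.haveILetI false

universe u

open TensorProduct DirectSum CategoryTheory

namespace Groth.Agent.Lib.Helper20.SegTot

open Groth.Agent.Lib.Helper26.GrProj Groth.Agent.Lib.Helper20.SegAc Groth.Agent.Lib.Helper20.GrKit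
  Groth.Agent.Lib.Helper20.Ku

variable {k : Type u} [Field k] {R S T : Type u} [CommRing R] [CommRing S] [CommRing T]
  [Algebra k R] [Algebra k S] [Algebra k T]
  {𝒜 : ℤ → AddSubgroup R} [GradedRing 𝒜] (hkA : ∀ c : k, algebraMap k R c ∈ 𝒜 0)
  {ℬ : ℤ → AddSubgroup S} [GradedRing ℬ] (hkB : ∀ c : k, algebraMap k S c ∈ ℬ 0)
  {𝒯 : ℤ → AddSubgroup T} [GradedRing 𝒯]
  (ψ : T →ₐ[k] R ⊗[k] S) (hψ : ∀ n t, t ∈ 𝒯 n → ψ t ∈ GrSeg.segrePiece k 𝒜 ℬ n)
  {M : Type u} [AddCommGroup M] [Module R M]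
  {ℳ : ℤ → AddSubgroup M}
  [DirectSum.Decomposition ℳ] [SetLike.GradedSMul 𝒜 ℳ]
  (E : GrLC.StarInjRes 𝒜 ℳ) [∀ i, Module k (E.X i).carrier]
  [∀ i, IsScalarTower k R (E.X i).carrier]
  {N : Type u} [AddCommGroup N] [Module S N]
  {𝒩 : ℤ → AddSubgroup N}
  [DirectSum.Decomposition 𝒩] [SetLike.GradedSMul ℬ 𝒩]
  (F : GrLC.StarInjRes ℬ 𝒩) [∀ j, Module k (F.X j).carrier]
  [∀ j, IsScalarTower k S (F.X j).carrier]

local notation "AA" => cxOf (k := k) E
local notation "BB" => cxOf (k := k) F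

section Acyc

/-- the total space of a *injective resolution is `Γ_a`-acyclic -/
theorem subsingleton_tot [IsNoetherianRing R] (a : HomogeneousIdeal 𝒜) (j : ℕ) (hj : 1 ≤ j) :
    Subsingleton (LocCoh.H a.toIdeal j (AA).T) := by
  have h1 : Subsingleton (LocCoh.H a.toIdeal j
      (⨁ i : ULift.{u} ℕ, (E.X (Equiv.ulift.symm.symm i)).carrier)) :=
    subsingleton_directSum a.toIdeal j _
      (fun i => localCohomology_subsingleton 𝒜 (E.X _).gr (E.starInj _) a j hj)
  exact subsingleton_of_linearEquiv a.toIdeal j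
    (DirectSum.lequivCongrLeft R (M := fun i => (E.X i).carrier) Equiv.ulift.symm) h1

/-- the retraction of the big tensor product onto `X^q` -/
noncomputable def retr (q : ℕ) : TP ψ (AA).T (BB).T →ₗ[T] ↥(XQ hkA hkB ψ hψ E F q) where
  toFun z := ⟨P0E hkA hkB E F (prq (k := k) E F q z), by
    refine ⟨P0_P0 𝒜 hkA ℬ hkB (totGr E) (totGr F) _, ?_⟩
    rw [← P0E_prq, prq_prq_same]⟩
  map_add' a b := Subtype.ext (by
    change P0E hkA hkB E F (prq (k := k) E F q (a + b)) = _
    exact ((congrArg _ (map_add (prq (k := k) E F q) a b)).trans (map_add _ _ _)))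
  map_smul' t z := Subtype.ext (by
    change P0E hkA hkB E F (prq (k := k) E F q (GrSeg.act k R S (AA).T (BB).T (ψ t) z)) =
      GrSeg.act k R S (AA).T (BB).T (ψ t) (P0E hkA hkB E F (prq (k := k) E F q z))
    rw [prq_act]
    exact P0_smulT 𝒜 hkA ℬ hkB 𝒯 ψ hψ (totGr E) (totGr F) t _)

theorem retr_subtype (q : ℕ) (z : ↥(XQ hkA hkB ψ hψ E F q)) :
    retr hkA hkB ψ hψ E F q z.1 = z := by
  apply Subtype.ext
  change P0E hkA hkB E F (prq (k := k) E F q z.1) = z.1
  exact (congrArg _ z.2.2).trans z.2.1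

/-- `X^q` is a retract of the big tensor product, hence `Γ`-acyclic when the latter is -/
theorem subsingleton_XQ (aT : Ideal T) (q j : ℕ)
    (h : Subsingleton (LocCoh.H aT j (TP ψ (AA).T (BB).T))) :
    Subsingleton (LocCoh.H aT j ↥(XQ hkA hkB ψ hψ E F q)) := by
  let ι : ↥(XQ hkA hkB ψ hψ E F q) →ₗ[T] TP ψ (AA).T (BB).T := (XQ hkA hkB ψ hψ E F q).subtype
  let π := retr hkA hkB ψ hψ E F q
  have hπι : π ∘ₗ ι = LinearMap.id := LinearMap.ext fun z => retr_subtype hkA hkB ψ hψ E F q z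
  let G := localCohomology aT j
  have hG : G.map (ModuleCat.ofHom ι) ≫ G.map (ModuleCat.ofHom π) = 𝟙 _ := by
    rw [← G.map_comp, ← ModuleCat.ofHom_comp, hπι]
    exact G.map_id _
  refine ⟨fun x y => ?_⟩
  have hx : (G.map (ModuleCat.ofHom ι) ≫ G.map (ModuleCat.ofHom π)).hom x = x := by
    rw [hG]; rfl
  have hy : (G.map (ModuleCat.ofHom ι) ≫ G.map (ModuleCat.ofHom π)).hom y = y := by
    rw [hG]; rfl
  rw [← hx, ← hy]
  change (G.map (ModuleCat.ofHom π)).hom ((G.map (ModuleCat.ofHom ι)).hom x) =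
    (G.map (ModuleCat.ofHom π)).hom ((G.map (ModuleCat.ofHom ι)).hom y)
  congr 1
  exact Subsingleton.elim _ _

theorem isAcyc_XG [IsNoetherianRing T] (aT : HomogeneousIdeal 𝒯) (q : ℕ)
    (h : ∀ j, 1 ≤ j → Subsingleton (LocCoh.H aT.toIdeal j (TP ψ (AA).T (BB).T))) :
    GrAcyc.IsAcyc aT (XG hkA hkB ψ hψ E F q) := by
  intro EX j hj
  obtain ⟨e⟩ := bridge_starInjRes EX aT j
  haveI : Subsingleton (LocCoh.H aT.toIdeal j (XG hkA hkB ψ hψ E F q).carrier) :=
    subsingleton_XQ hkA hkB ψ hψ E F aT.toIdeal q j (h j hj)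
  exact e.toEquiv.subsingleton

end Acyc

section Torsion

/-- torsion with respect to `T` acting through `ψ` -/
def IsTors (aT : Ideal T) (z : TT AA BB) : Prop :=
  ∃ n : ℕ, ∀ r ∈ aT ^ n, GrSeg.act k R S (AA).T (BB).T (ψ r) z = 0

theorem isTors_iff (aT : Ideal T) (z : TP ψ (AA).T (BB).T) :
    z ∈ GrLC.gam aT (TP ψ (AA).T (BB).T) ↔ IsTors ψ E F aT z := Iff.rfl

/-- the torsion elements, as a `k`-subspace -/
def torsK (aT : Ideal T) : Submodule k (TT AA BB) where
  carrier := {z | IsTors ψ E F aT z}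
  add_mem' {a b} ha hb := (GrLC.gam aT (TP ψ (AA).T (BB).T)).add_mem ha hb
  zero_mem' := (GrLC.gam aT (TP ψ (AA).T (BB).T)).zero_mem
  smul_mem' c z hz := by
    obtain ⟨n, hn⟩ := hz
    exact ⟨n, fun r hr => by rw [map_smul, hn r hr, smul_zero]⟩

theorem mem_gam_tot_of_lof {aR : Ideal R} {i : ℕ} {x : (E.X i).carrier}
    (hx : x ∈ GrLC.gam aR (E.X i).carrier) :
    DirectSum.lof k ℕ (AA).X i x ∈ GrLC.gam aR (AA).T := by
  obtain ⟨n, hn⟩ := hx
  refine ⟨n, fun r hr => ?_⟩
  have h1 : r • DirectSum.lof k ℕ (AA).X i x = DirectSum.lof k ℕ (AA).X i (r • x) :=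
    (DirectSum.of_smul (M := fun i => (E.X i).carrier) R i r x).symm
  rw [h1, hn r hr, map_zero]

theorem component_mem_gam {aR : Ideal R} {x : (AA).T} (hx : x ∈ GrLC.gam aR (AA).T) (i : ℕ) :
    x i ∈ GrLC.gam aR (E.X i).carrier := by
  obtain ⟨n, hn⟩ := hx
  refine ⟨n, fun r hr => ?_⟩
  have h1 : r • x i = (r • x) i := rfl
  rw [h1, hn r hr]
  rfl

variable (aR : HomogeneousIdeal 𝒜) (aS : HomogeneousIdeal ℬ) (aT : Ideal T)

/-- the projection to bidegree `(e, q)` of `Γ(𝕀) ⊗ 𝕁` lands in the torsion piece -/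
theorem pp_prq_tmul_mem_left (e : ℤ) (q : ℕ) {x : (AA).T} (hx : x ∈ GrLC.gam aR.toIdeal (AA).T)
    (y : (BB).T) :
    ppE hkA hkB E F e (prq (k := k) E F q (x ⊗ₜ[k] y)) ∈
      TPq (SubG hkA E aR.toIdeal e) (SubE hkB F e) q := by
  classical
  induction y using DirectSum.induction_on with
  | zero => rw [TensorProduct.tmul_zero, map_zero, map_zero]; exact zero_mem _
  | add a b ha hb => rw [TensorProduct.tmul_add, map_add, map_add]; exact add_mem ha hb
  | of j y' =>
    have hxs : x = ∑ i ∈ x.support, DirectSum.of (fun i => (E.X i).carrier) i (x i) :=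
      (DirectSum.sum_support_of x).symm
    rw [hxs, TensorProduct.sum_tmul, map_sum, map_sum]
    apply sum_mem
    intro i _
    have h2 : DirectSum.of (fun i => (E.X i).carrier) i (x i) =
        DirectSum.lof k ℕ (AA).X i (x i) := rfl
    have h3 : DirectSum.of (fun i => (F.X i).carrier) j y' = DirectSum.lof k ℕ (BB).X j y' := rfl
    rw [h2, h3, prq_tmul_lof]
    split_ifs with h
    · rw [ppE_tmul_lof]
      refine tmul_mem_TPq (SubG hkA E aR.toIdeal e) (SubE hkB F e) h ?_ (proj_mem _ _ _)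
      exact ⟨proj_mem _ _ _, proj_mem_gam 𝒜 (E.X i).gr aR e _ (component_mem_gam E hx i)⟩
    · rw [map_zero]; exact zero_mem _

theorem pp_prq_tmul_mem_right (e : ℤ) (q : ℕ) (x : (AA).T) {y : (BB).T}
    (hy : y ∈ GrLC.gam aS.toIdeal (BB).T) :
    ppE hkA hkB E F e (prq (k := k) E F q (x ⊗ₜ[k] y)) ∈
      TPq (SubE hkA E e) (SubG hkB F aS.toIdeal e) q := by
  classical
  induction x using DirectSum.induction_on with
  | zero => rw [TensorProduct.zero_tmul, map_zero, map_zero]; exact zero_mem _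
  | add a b ha hb => rw [TensorProduct.add_tmul, map_add, map_add]; exact add_mem ha hb
  | of i x' =>
    have hys : y = ∑ j ∈ y.support, DirectSum.of (fun j => (F.X j).carrier) j (y j) :=
      (DirectSum.sum_support_of y).symm
    rw [hys, TensorProduct.tmul_sum, map_sum, map_sum]
    apply sum_mem
    intro j _
    have h2 : DirectSum.of (fun j => (F.X j).carrier) j (y j) =
        DirectSum.lof k ℕ (BB).X j (y j) := rfl
    have h3 : DirectSum.of (fun i => (E.X i).carrier) i x' = DirectSum.lof k ℕ (AA).X i x' := rfl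
    rw [h2, h3, prq_tmul_lof]
    split_ifs with h
    · rw [ppE_tmul_lof]
      refine tmul_mem_TPq (SubE hkA E e) (SubG hkB F aS.toIdeal e) h (proj_mem _ _ _) ?_
      exact ⟨proj_mem _ _ _, proj_mem_gam ℬ (F.X j).gr aS e _ (component_mem_gam F hy j)⟩
    · rw [map_zero]; exact zero_mem _

/-- the hypothesis describing the `T_+`-torsion of the big tensor product -/
def TorsHyp : Prop :=
  ∀ z : TP ψ (AA).T (BB).T, z ∈ GrLC.gam aT (TP ψ (AA).T (BB).T) ↔
    ∃ (v : UP k R S (GrLC.gam aR.toIdeal (AA).T) (BB).T)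
      (w : UP k R S (AA).T (GrLC.gam aS.toIdeal (BB).T)),
      z = gamIncl k R S (AA).T (BB).T aR.toIdeal v + gamInclR k R S (AA).T (BB).T aS.toIdeal w

/-- **The torsion of the degree `(e, q)` piece.** -/
theorem isTors_piece_iff (hyp : TorsHyp ψ E F aR aS aT) (e : ℤ) (q : ℕ) (z : TT AA BB)
    (hz : z ∈ TPq (SubE hkA E e) (SubE hkB F e) q) :
    IsTors ψ E F aT z ↔
      z ∈ TPq (SubG hkA E aR.toIdeal e) (SubE hkB F e) q ⊔
        TPq (SubE hkA E e) (SubG hkB F aS.toIdeal e) q := by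
  constructor
  · intro ht
    obtain ⟨v, w, hvw⟩ := (hyp z).1 ht
    obtain ⟨h1, h2⟩ := (mem_TPq_iff hkA hkB E F e q z).1 hz
    have hv : ∀ v : ↥(GrLC.gam aR.toIdeal (AA).T) ⊗[k] (BB).T,
        ppE hkA hkB E F e (prq (k := k) E F q
          (TensorProduct.map ((GrLC.gam aR.toIdeal (AA).T).subtype.restrictScalars k)
            ((LinearMap.id : (BB).T →ₗ[S] (BB).T).restrictScalars k) v)) ∈
          TPq (SubG hkA E aR.toIdeal e) (SubE hkB F e) q := by
      intro v
      induction v using TensorProduct.induction_on with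
      | zero => rw [map_zero, map_zero, map_zero]; exact zero_mem _
      | add a b ha hb => rw [map_add, map_add, map_add]; exact add_mem ha hb
      | tmul x y =>
        rw [TensorProduct.map_tmul]
        exact pp_prq_tmul_mem_left hkA hkB E F aR e q x.2 y
    have hw : ∀ w : (AA).T ⊗[k] ↥(GrLC.gam aS.toIdeal (BB).T),
        ppE hkA hkB E F e (prq (k := k) E F q
          (TensorProduct.map ((LinearMap.id : (AA).T →ₗ[R] (AA).T).restrictScalars k)
            ((GrLC.gam aS.toIdeal (BB).T).subtype.restrictScalars k) w)) ∈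
          TPq (SubE hkA E e) (SubG hkB F aS.toIdeal e) q := by
      intro w
      induction w using TensorProduct.induction_on with
      | zero => rw [map_zero, map_zero, map_zero]; exact zero_mem _
      | add a b ha hb => rw [map_add, map_add, map_add]; exact add_mem ha hb
      | tmul x y =>
        rw [TensorProduct.map_tmul]
        exact pp_prq_tmul_mem_right hkA hkB E F aS e q x y.2
    obtain ⟨a, ha⟩ : ∃ a : TT AA BB, a =
        TensorProduct.map ((GrLC.gam aR.toIdeal (AA).T).subtype.restrictScalars k)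
          ((LinearMap.id : (BB).T →ₗ[S] (BB).T).restrictScalars k) v := ⟨_, rfl⟩
    obtain ⟨b, hb⟩ : ∃ b : TT AA BB, b =
        TensorProduct.map ((LinearMap.id : (AA).T →ₗ[R] (AA).T).restrictScalars k)
          ((GrLC.gam aS.toIdeal (BB).T).subtype.restrictScalars k) w := ⟨_, rfl⟩
    have hzab : z = a + b := by
      rw [ha, hb]
      exact hvw
    have hz' : z = ppE hkA hkB E F e (prq (k := k) E F q a) +
        ppE hkA hkB E F e (prq (k := k) E F q b) := by
      rw [← map_add, ← map_add, ← hzab, h2, h1]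
    rw [hz']
    refine Submodule.add_mem_sup ?_ ?_
    · rw [ha]; exact hv v
    · rw [hb]; exact hw w
  · intro hz'
    have hle : TPq (SubG hkA E aR.toIdeal e) (SubE hkB F e) q ⊔
        TPq (SubE hkA E e) (SubG hkB F aS.toIdeal e) q ≤ torsK ψ E F aT := by
      apply sup_le
      · apply TPq_le
        intro i j hij x hx y hy
        change IsTors ψ E F aT _
        rw [← isTors_iff]
        apply (hyp _).2
        refine ⟨((⟨DirectSum.lof k ℕ (AA).X i x, mem_gam_tot_of_lof E hx.2⟩ :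
          GrLC.gam aR.toIdeal (AA).T) ⊗ₜ[k] DirectSum.lof k ℕ (BB).X j y :
            ↥(GrLC.gam aR.toIdeal (AA).T) ⊗[k] (BB).T), 0, ?_⟩
        rw [map_zero, add_zero]
        rfl
      · apply TPq_le
        intro i j hij x hx y hy
        change IsTors ψ E F aT _
        rw [← isTors_iff]
        apply (hyp _).2
        refine ⟨0, (DirectSum.lof k ℕ (AA).X i x ⊗ₜ[k]
          (⟨DirectSum.lof k ℕ (BB).X j y, mem_gam_tot_of_lof F hy.2⟩ :
            GrLC.gam aS.toIdeal (BB).T) : (AA).T ⊗[k] ↥(GrLC.gam aS.toIdeal (BB).T)), ?_⟩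
        rw [map_zero, zero_add]
        rfl
    exact hle hz'

end Torsion

end Groth.Agent.Lib.Helper20.SegTot
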