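import Mathlib
import Groth.Agent.Lib.Helper20.SegTot6

/-!
# Ranks of subquotients; the pieces of graded local cohomology as cohomology of subcomplexes
-/

set_option autoImplicit false
set_option linter.unusedSectionVars false
set_option linter.unusedVariables false
set_option linter.style.haveILetI false

universe u

open TensorProduct DirectSum

namespace Groth.Agent.Lib.Helper20.SegTot

open Groth.Agent.Lib.Helper26.GrProj Groth.Agent.Lib.Helper20.SegAc Groth.Agent.Lib.Helper20.GrKit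
  Groth.Agent.Lib.Helper20.Ku

section General

variable {k : Type u} [Field k] {V : Type u} [AddCommGroup V] [Module k V]
  {R' : Type u} [Ring R'] {H : Type u} [AddCommGroup H] [Module R' H]

/-- the rank of a subquotient computed through an additive surjection with the right kernel -/
theorem rank_SQ_eq (i : k →+* R') (hi : Function.Bijective i) (Z B : Submodule k V)
    (f : ↥Z →+ H) (hsurj : Function.Surjective f) (hker : ∀ z : ↥Z, f z = 0 ↔ (z : V) ∈ B)
    (hc : ∀ (c : k) (z : ↥Z), f (c • z) = i c • f z) :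
    Module.rank k (SQ Z B) = Module.rank R' H := by
  letI : Module k H := Module.compHom H i
  let fl : ↥Z →ₗ[k] H :=
    { toFun := f
      map_add' := map_add f
      map_smul' := fun c z => hc c z }
  have hfs : Function.Surjective fl := hsurj
  have hk : LinearMap.ker fl = B.comap Z.subtype := by
    ext z
    exact hker z
  have e1 : (↥Z ⧸ LinearMap.ker fl) ≃ₗ[k] H := fl.quotKerEquivOfSurjective hfs
  have e2 : SQ Z B ≃ₗ[k] (↥Z ⧸ LinearMap.ker fl) := Submodule.quotEquivOfEq _ _ hk.symm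
  rw [LinearEquiv.rank_eq (e2.trans e1)]
  exact rank_eq_of_equiv_equiv i (AddEquiv.refl H) hi (fun c m => rfl)

theorem finrank_SQ_eq (i : k →+* R') (hi : Function.Bijective i) (Z B : Submodule k V)
    (f : ↥Z →+ H) (hsurj : Function.Surjective f) (hker : ∀ z : ↥Z, f z = 0 ↔ (z : V) ∈ B)
    (hc : ∀ (c : k) (z : ↥Z), f (c • z) = i c • f z) :
    Module.finrank k (SQ Z B) = Module.finrank R' H := by
  unfold Module.finrank
  rw [rank_SQ_eq i hi Z B f hsurj hker hc]

theorem finite_SQ [StrongRankCondition R'] [Module.Finite R' H]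
    (i : k →+* R') (hi : Function.Bijective i) (Z B : Submodule k V)
    (f : ↥Z →+ H) (hsurj : Function.Surjective f) (hker : ∀ z : ↥Z, f z = 0 ↔ (z : V) ∈ B)
    (hc : ∀ (c : k) (z : ↥Z), f (c • z) = i c • f z) :
    Module.Finite k (SQ Z B) := by
  rw [← Module.rank_lt_aleph0_iff, rank_SQ_eq i hi Z B f hsurj hker hc]
  exact Module.rank_lt_aleph0 R' H

end General

section One

variable {k : Type u} [Field k] {R : Type u} [CommRing R] [Algebra k R]
  {𝒜 : ℤ → AddSubgroup R} [GradedRing 𝒜] (hkA : ∀ c : k, algebraMap k R c ∈ 𝒜 0)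
  {M : Type u} [AddCommGroup M] [Module R M] {ℳ : ℤ → AddSubgroup M}
  [DirectSum.Decomposition ℳ] [SetLike.GradedSMul 𝒜 ℳ]
  (E : GrLC.StarInjRes 𝒜 ℳ) [∀ i, Module k (E.X i).carrier]
  [∀ i, IsScalarTower k R (E.X i).carrier]

/-- the structure map of the degree zero subring -/
def i0 : k →+* GrLC.deg0 𝒜 := (algebraMap k R).codRestrict (GrLC.deg0 𝒜) hkA

theorem i0_coe (c : k) : ((i0 hkA c : GrLC.deg0 𝒜) : R) = algebraMap k R c := rfl

theorem mem_cocyc_of_SubG (a : HomogeneousIdeal 𝒜) (e : ℤ) (i : ℕ)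
    (z : ↥((SubG hkA E a.toIdeal e).cx.cocyc i)) :
    ((z : (SubG hkA E a.toIdeal e).P i) : (E.X i).carrier) ∈ E.cocyc a i :=
  ⟨(z : (SubG hkA E a.toIdeal e).P i).2.2, congrArg Subtype.val z.2⟩

/-- the class map from the cocycles of the torsion subcomplex of degree `e` -/
noncomputable def clsG (a : HomogeneousIdeal 𝒜) (e : ℤ) (i : ℕ) :
    ↥((SubG hkA E a.toIdeal e).cx.cocyc i) →+ ↥(E.Hcomp a i e) where
  toFun z := ⟨E.toH a i ⟨_, mem_cocyc_of_SubG hkA E a e i z⟩,
    ⟨⟨_, mem_cocyc_of_SubG hkA E a e i z⟩, (z : (SubG hkA E a.toIdeal e).P i).2.1, rfl⟩⟩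
  map_zero' := Subtype.ext (map_zero (E.toH a i))
  map_add' x y := Subtype.ext (map_add (E.toH a i) ⟨_, mem_cocyc_of_SubG hkA E a e i x⟩
    ⟨_, mem_cocyc_of_SubG hkA E a e i y⟩)

theorem clsG_surjective (a : HomogeneousIdeal 𝒜) (e : ℤ) (i : ℕ) :
    Function.Surjective (clsG hkA E a e i) := by
  rintro ⟨x, w, hw, rfl⟩
  refine ⟨⟨⟨w.1, hw, w.2.1⟩, ?_⟩, ?_⟩
  · exact Subtype.ext w.2.2
  · exact Subtype.ext rfl

theorem clsG_eq_zero_iff (a : HomogeneousIdeal 𝒜) (e : ℤ) (i : ℕ)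
    (z : ↥((SubG hkA E a.toIdeal e).cx.cocyc i)) :
    clsG hkA E a e i z = 0 ↔
      (z : (SubG hkA E a.toIdeal e).P i) ∈ (SubG hkA E a.toIdeal e).cx.cobdy i := by
  have h1 : clsG hkA E a e i z = 0 ↔
      ((z : (SubG hkA E a.toIdeal e).P i) : (E.X i).carrier) ∈ E.cobdy a i := by
    rw [← Subtype.coe_inj]
    change E.toH a i ⟨_, mem_cocyc_of_SubG hkA E a e i z⟩ = 0 ↔ _
    rw [Submodule.mkQ_apply, Submodule.Quotient.mk_eq_zero, Submodule.mem_comap]
    rfl
  rw [h1]
  cases i with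
  | zero =>
    change ((z : (SubG hkA E a.toIdeal e).P 0) : (E.X 0).carrier) ∈ (⊥ : Submodule R _) ↔
      (z : (SubG hkA E a.toIdeal e).P 0) ∈ (⊥ : Submodule k _)
    rw [Submodule.mem_bot, Submodule.mem_bot, ← Subtype.coe_inj]
    rfl
  | succ i =>
    constructor
    · rintro ⟨y, hy, hyz⟩
      refine ⟨⟨proj (E.X i).gr e y, proj_mem _ _ _, proj_mem_gam 𝒜 (E.X i).gr a e y hy⟩, ?_⟩
      apply Subtype.ext
      change E.d i (proj (E.X i).gr e y) = _
      rw [← proj_hom (E.X i).gr (E.X (i + 1)).gr (E.d i) (E.d_grHom i) e y, hyz]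
      exact proj_of_mem_same _ (z : (SubG hkA E a.toIdeal e).P (i + 1)).2.1
    · rintro ⟨y, hy⟩
      exact ⟨y.1, y.2.2, congrArg Subtype.val hy⟩

theorem clsG_smul (a : HomogeneousIdeal 𝒜) (e : ℤ) (i : ℕ) (c : k)
    (z : ↥((SubG hkA E a.toIdeal e).cx.cocyc i)) :
    clsG hkA E a e i (c • z) = i0 hkA c • clsG hkA E a e i z := by
  apply Subtype.ext
  change E.toH a i ⟨_, mem_cocyc_of_SubG hkA E a e i (c • z)⟩ =
    (algebraMap k R c) • E.toH a i ⟨_, mem_cocyc_of_SubG hkA E a e i z⟩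
  rw [← map_smul]
  congr 1
  apply Subtype.ext
  change c • ((z : (SubG hkA E a.toIdeal e).P i) : (E.X i).carrier) = algebraMap k R c • _
  rw [algebraMap_smul]

/-- **The pieces of graded local cohomology are the cohomology of the torsion subcomplex.** -/
theorem finrank_H_SubG (hi : Function.Bijective (i0 (k := k) hkA)) (a : HomogeneousIdeal 𝒜)
    (e : ℤ) (i : ℕ) :
    Module.finrank k ((SubG hkA E a.toIdeal e).cx.H i) =
      Module.finrank (GrLC.deg0 𝒜) (E.Hcomp a i e) :=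
  finrank_SQ_eq (i0 hkA) hi _ _ (clsG hkA E a e i) (clsG_surjective hkA E a e i)
    (clsG_eq_zero_iff hkA E a e i) (clsG_smul hkA E a e i)

theorem finite_H_SubG [Nontrivial R] (hi : Function.Bijective (i0 (k := k) hkA))
    (a : HomogeneousIdeal 𝒜) (e : ℤ) (i : ℕ) [Module.Finite (GrLC.deg0 𝒜) (E.Hcomp a i e)] :
    Module.Finite k ((SubG hkA E a.toIdeal e).cx.H i) :=
  finite_SQ (i0 hkA) hi _ _ (clsG hkA E a e i) (clsG_surjective hkA E a e i)
    (clsG_eq_zero_iff hkA E a e i) (clsG_smul hkA E a e i)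

/-- the degree `e` piece of `M` to the degree `0` cocycles of the degree `e` subcomplex -/
noncomputable def epsE0 (e : ℤ) :
    ↥(GrLC.comp 𝒜 ℳ e) →+ ↥((SubE hkA E e).cx.cocyc 0) where
  toFun := fun m => ⟨⟨E.ε m.1, E.ε_grHom e m.1 m.2⟩, Subtype.ext (by
    change E.d 0 (E.ε m.1) = 0
    have : E.ε m.1 ∈ LinearMap.ker (E.d 0) := by
      rw [E.exact_zero]; exact ⟨m.1, rfl⟩
    exact this)⟩
  map_zero' := Subtype.ext (Subtype.ext (map_zero E.ε))
  map_add' := fun a b => Subtype.ext (Subtype.ext (map_add E.ε a.1 b.1))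

theorem epsE0_bijective (e : ℤ) : Function.Bijective (epsE0 hkA E e) :=
  ⟨fun a b h => Subtype.ext (E.ε_injective
      (congrArg (fun z => ((z : ↥((SubE hkA E e).cx.cocyc 0)) : (SubE hkA E e).P 0).1) h)),
    fun z => by
      obtain ⟨m, hm, hmz⟩ := exists_of_d_zero_eq_zero E e
        ((z : (SubE hkA E e).P 0) : (E.X 0).carrier) (z : (SubE hkA E e).P 0).2
        (congrArg Subtype.val z.2)
      exact ⟨⟨m, hm⟩, Subtype.ext (Subtype.ext hmz)⟩⟩

/-- the degree `e` piece of `M` as the degree `0` cocycles of the degree `e` subcomplex -/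
noncomputable def epsE (e : ℤ) :
    ↥(GrLC.comp 𝒜 ℳ e) ≃+ ↥((SubE hkA E e).cx.cocyc 0) :=
  AddEquiv.ofBijective (epsE0 hkA E e) (epsE0_bijective hkA E e)

theorem epsE_coe (e : ℤ) (m : ↥(GrLC.comp 𝒜 ℳ e)) :
    (((epsE hkA E e m : ↥((SubE hkA E e).cx.cocyc 0)) : (SubE hkA E e).P 0) : (E.X 0).carrier) =
      E.ε m.1 := rfl

theorem epsE_smul (e : ℤ) (c : k) (m : ↥(GrLC.comp 𝒜 ℳ e)) :
    epsE hkA E e (i0 hkA c • m) = c • epsE hkA E e m := by
  apply Subtype.ext
  apply Subtype.ext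
  change E.ε ((algebraMap k R c) • m.1) = c • E.ε m.1
  rw [map_smul, algebraMap_smul]

/-- **The degree `0` cohomology of the degree `e` subcomplex is `M_e`.** -/
theorem finrank_H_SubE_zero (hi : Function.Bijective (i0 (k := k) hkA)) (e : ℤ) :
    Module.finrank k ((SubE hkA E e).cx.H 0) =
      Module.finrank (GrLC.deg0 𝒜) (GrLC.comp 𝒜 ℳ e) := by
  refine finrank_SQ_eq (i0 hkA) hi _ _ (epsE hkA E e).symm.toAddMonoidHom
    (epsE hkA E e).symm.surjective ?_ ?_
  · intro z
    change (epsE hkA E e).symm z = 0 ↔ (z : (SubE hkA E e).P 0) ∈ (⊥ : Submodule k _)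
    rw [Submodule.mem_bot, AddEquiv.map_eq_zero_iff]
    exact Subtype.coe_inj.symm
  · intro c z
    change (epsE hkA E e).symm (c • z) = i0 hkA c • (epsE hkA E e).symm z
    apply (epsE hkA E e).injective
    rw [epsE_smul, AddEquiv.apply_symm_apply, AddEquiv.apply_symm_apply]

theorem finite_H_SubE_zero [Nontrivial R] (hi : Function.Bijective (i0 (k := k) hkA)) (e : ℤ)
    [Module.Finite (GrLC.deg0 𝒜) (GrLC.comp 𝒜 ℳ e)] :
    Module.Finite k ((SubE hkA E e).cx.H 0) := by
  refine finite_SQ (i0 hkA) hi _ _ (epsE hkA E e).symm.toAddMonoidHom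
    (epsE hkA E e).symm.surjective ?_ ?_
  · intro z
    change (epsE hkA E e).symm z = 0 ↔ (z : (SubE hkA E e).P 0) ∈ (⊥ : Submodule k _)
    rw [Submodule.mem_bot, AddEquiv.map_eq_zero_iff]
    exact Subtype.coe_inj.symm
  · intro c z
    change (epsE hkA E e).symm (c • z) = i0 hkA c • (epsE hkA E e).symm z
    apply (epsE hkA E e).injective
    rw [epsE_smul, AddEquiv.apply_symm_apply, AddEquiv.apply_symm_apply]

theorem finite_H_SubE [Nontrivial R] (hi : Function.Bijective (i0 (k := k) hkA)) (e : ℤ)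
    [Module.Finite (GrLC.deg0 𝒜) (GrLC.comp 𝒜 ℳ e)] (i : ℕ) :
    Module.Finite k ((SubE hkA E e).cx.H i) := by
  cases i with
  | zero => exact finite_H_SubE_zero hkA E hi e
  | succ i =>
    haveI := subsingleton_H_SubE hkA E e i
    infer_instance

theorem finrank_H_SubE_succ (e : ℤ) (i : ℕ) :
    Module.finrank k ((SubE hkA E e).cx.H (i + 1)) = 0 := by
  haveI := subsingleton_H_SubE hkA E e i
  exact Module.finrank_zero_of_subsingleton

end One

end Groth.Agent.Lib.Helper20.SegTot
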