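import Mathlib
import Groth.Agent.Lib.Helper20.SegTot7

/-!
# The pieces of the cohomology of `Γ_{T_+}` of the total Segre complex
-/

set_option autoImplicit false
set_option linter.unusedSectionVars false
set_option linter.unusedVariables false
set_option linter.style.haveILetI false

universe u

open TensorProduct DirectSum

namespace Groth.Agent.Lib.Helper20.SegTot

open Groth.Agent.Lib.Helper26.GrProj Groth.Agent.Lib.Helper20.SegAc Groth.Agent.Lib.Helper20.GrKit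
  Groth.Agent.Lib.Helper20.Ku

variable {k : Type u} [Field k] {R S T : Type u} [CommRing R] [CommRing S] [CommRing T]
  [Algebra k R] [Algebra k S] [Algebra k T]
  {𝒜 : ℤ → AddSubgroup R} [GradedRing 𝒜] (hkA : ∀ c : k, algebraMap k R c ∈ 𝒜 0)
  {ℬ : ℤ → AddSubgroup S} [GradedRing ℬ] (hkB : ∀ c : k, algebraMap k S c ∈ ℬ 0)
  {𝒯 : ℤ → AddSubgroup T} [GradedRing 𝒯]
  (ψ : T →ₐ[k] R ⊗[k] S) (hψ : ∀ n t, t ∈ 𝒯 n → ψ t ∈ GrSeg.segrePiece k 𝒜 ℬ n)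
  {M : Type u} [AddCommGroup M] [Module R M] [Module k M] [IsScalarTower k R M]
  {ℳ : ℤ → AddSubgroup M}
  [DirectSum.Decomposition ℳ] [SetLike.GradedSMul 𝒜 ℳ]
  (E : GrLC.StarInjRes 𝒜 ℳ) [∀ i, Module k (E.X i).carrier]
  [∀ i, IsScalarTower k R (E.X i).carrier]
  {N : Type u} [AddCommGroup N] [Module S N] [Module k N] [IsScalarTower k S N]
  {𝒩 : ℤ → AddSubgroup N}
  [DirectSum.Decomposition 𝒩] [SetLike.GradedSMul ℬ 𝒩]
  (F : GrLC.StarInjRes ℬ 𝒩) [∀ j, Module k (F.X j).carrier]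
  [∀ j, IsScalarTower k S (F.X j).carrier]

local notation "AA" => cxOf (k := k) E
local notation "BB" => cxOf (k := k) F

section Pre

theorem proj_XG (q : ℕ) (e : ℤ) (y : ↥(XQ hkA hkB ψ hψ E F q)) :
    proj (XGgr hkA hkB ψ hψ E F q) e y = XGproj hkA hkB ψ hψ E F q e y := by
  refine proj_eq_of_proj (XGgr hkA hkB ψ hψ E F q) (XGproj hkA hkB ψ hψ E F q) ?_ ?_ ?_ e y
  · intro g z
    exact pp_pp_same 𝒜 hkA ℬ hkB (totGr E) (totGr F) g z.1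
  · intro g h z hz hne
    apply Subtype.ext
    change ppE hkA hkB E F g z.1 = 0
    have hz' : ppE hkA hkB E F h z.1 = z.1 := hz
    rw [← hz']
    exact pp_pp_ne 𝒜 hkA ℬ hkB (totGr E) (totGr F) hne z.1
  · intro z
    obtain ⟨s, hs⟩ := exists_finset_of_P0 𝒜 hkA ℬ hkB (totGr E) (totGr F) z.1 z.2.1
    refine ⟨s, Subtype.ext ?_⟩
    rw [AddSubmonoidClass.coe_finset_sum]
    exact hs

theorem gam_XQ_iff (aT : Ideal T) (q : ℕ) (w : ↥(XQ hkA hkB ψ hψ E F q)) :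
    w ∈ GrLC.gam aT ↥(XQ hkA hkB ψ hψ E F q) ↔ IsTors ψ E F aT w.1 := by
  constructor
  · rintro ⟨n, hn⟩
    exact ⟨n, fun r hr => congrArg Subtype.val (hn r hr)⟩
  · rintro ⟨n, hn⟩
    exact ⟨n, fun r hr => Subtype.ext (hn r hr)⟩

theorem XGproj_mem_gam (aT : HomogeneousIdeal 𝒯) (q : ℕ) (e : ℤ)
    (y : ↥(XQ hkA hkB ψ hψ E F q)) (hy : y ∈ GrLC.gam aT.toIdeal ↥(XQ hkA hkB ψ hψ E F q)) :
    XGproj hkA hkB ψ hψ E F q e y ∈ GrLC.gam aT.toIdeal ↥(XQ hkA hkB ψ hψ E F q) := by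
  rw [← proj_XG]
  exact proj_mem_gam 𝒯 (XGgr hkA hkB ψ hψ E F q) aT e y hy

end Pre

section Main

variable (aR : HomogeneousIdeal 𝒜) (aS : HomogeneousIdeal ℬ) (aT : HomogeneousIdeal 𝒯)

local notation "SGA" => SubG hkA E aR.toIdeal
local notation "SEA" => SubE hkA E
local notation "SGB" => SubG hkB F aS.toIdeal
local notation "SEB" => SubE hkB F

/-- the torsion part of the degree `(e, q)` piece -/
noncomputable def Wq (e : ℤ) (q : ℕ) : Submodule k (TT AA BB) :=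
  TPq (SGA e) (SEB e) q ⊔ TPq (SEA e) (SGB e) q

theorem Wq_le (e : ℤ) (q : ℕ) : Wq hkA hkB E F aR aS e q ≤ TPq (SEA e) (SEB e) q :=
  sup_le (TPq_mono (SubG_le hkA E _ e) (fun i => le_rfl) q)
    (TPq_mono (fun i => le_rfl) (SubG_le hkB F _ e) q)

theorem mem_XQ_of_mem_Wq {e : ℤ} {q : ℕ} {z : TT AA BB} (hz : z ∈ Wq hkA hkB E F aR aS e q) :
    (z : TP ψ (AA).T (BB).T) ∈ XQ hkA hkB ψ hψ E F q :=
  mem_XQ_of_mem_TPq hkA hkB ψ hψ E F (Wq_le hkA hkB E F aR aS e q hz)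

variable (hyp : TorsHyp ψ E F aR aS aT.toIdeal)

include hyp in
theorem mem_gam_of_mem_Wq {e : ℤ} {q : ℕ} {z : TT AA BB} (hz : z ∈ Wq hkA hkB E F aR aS e q) :
    (⟨z, mem_XQ_of_mem_Wq hkA hkB ψ hψ E F aR aS hz⟩ : ↥(XQ hkA hkB ψ hψ E F q)) ∈
      GrLC.gam aT.toIdeal ↥(XQ hkA hkB ψ hψ E F q) :=
  (gam_XQ_iff hkA hkB ψ hψ E F aT.toIdeal q _).2
    ((isTors_piece_iff hkA hkB ψ E F aR aS aT.toIdeal hyp e q z
      (Wq_le hkA hkB E F aR aS e q hz)).2 hz)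

include hyp in
theorem mem_Wq_of_mem_gam {e : ℤ} {q : ℕ} (w : ↥(XQ hkA hkB ψ hψ E F q))
    (hw : w ∈ GrLC.gam aT.toIdeal ↥(XQ hkA hkB ψ hψ E F q))
    (he : ppE hkA hkB E F e w.1 = w.1) : (w.1 : TT AA BB) ∈ Wq hkA hkB E F aR aS e q :=
  (isTors_piece_iff hkA hkB ψ E F aR aS aT.toIdeal hyp e q w.1
    ((mem_TPq_iff hkA hkB E F e q w.1).2 ⟨he, w.2.2⟩)).1
    ((gam_XQ_iff hkA hkB ψ hψ E F aT.toIdeal q w).1 hw)

variable {P : Type u} [AddCommGroup P] [Module T P] [Module k P] [IsScalarTower k T P]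
  {𝒬 : ℤ → AddSubgroup P} [DirectSum.Decomposition 𝒬] [SetLike.GradedSMul 𝒯 𝒬]
  (φ : P →ₗ[k] M ⊗[k] N) (hφi : Function.Injective φ)
  (hφp : ∀ n : ℤ, φ '' (𝒬 n : Set P) = (GrSeg.segrePiece k ℳ 𝒩 n : Set (M ⊗[k] N)))
  (hφs : ∀ (t : T) (p : P), φ (t • p) = GrSeg.act k R S M N (ψ t) (φ p))

local notation "SEG" => segRes hkA hkB ψ hψ E F φ hφi hφp hφs

include hyp in
theorem mem_cocyc_of_mem {e : ℤ} {q : ℕ} (z : TT AA BB) (hD : D AA BB z = 0)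
    (hz : z ∈ Wq hkA hkB E F aR aS e q) :
    (⟨z, mem_XQ_of_mem_Wq hkA hkB ψ hψ E F aR aS hz⟩ : ↥(XQ hkA hkB ψ hψ E F q)) ∈
      (SEG).cocyc aT q :=
  ⟨mem_gam_of_mem_Wq hkA hkB ψ hψ E F aR aS aT hyp hz, Subtype.ext hD⟩

/-- the class of a torsion cocycle of degree `(e, q)` -/
noncomputable def clsT (e : ℤ) (q : ℕ) :
    ↥(LinearMap.ker (D AA BB) ⊓ Wq hkA hkB E F aR aS e q) →+ (SEG).H aT q where
  toFun z := (SEG).toH aT q
    ⟨_, mem_cocyc_of_mem hkA hkB ψ hψ E F aR aS aT hyp φ hφi hφp hφs z.1 z.2.1 z.2.2⟩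
  map_zero' := by
    rw [← map_zero ((SEG).toH aT q)]
    exact congrArg _ (Subtype.ext (Subtype.ext rfl))
  map_add' a b := by
    rw [← map_add ((SEG).toH aT q)]
    exact congrArg _ (Subtype.ext (Subtype.ext rfl))

theorem clsT_mem (e : ℤ) (q : ℕ) (z : ↥(LinearMap.ker (D AA BB) ⊓ Wq hkA hkB E F aR aS e q)) :
    clsT hkA hkB ψ hψ E F aR aS aT hyp φ hφi hφp hφs e q z ∈ (SEG).Hgr aT q e :=
  ⟨⟨_, mem_cocyc_of_mem hkA hkB ψ hψ E F aR aS aT hyp φ hφi hφp hφs z.1 z.2.1 z.2.2⟩,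
    ((mem_TPq_iff hkA hkB E F e q z.1).1 (Wq_le hkA hkB E F aR aS e q z.2.2)).1, rfl⟩

theorem clsT_surj (e : ℤ) (q : ℕ) (x : (SEG).H aT q) (hx : x ∈ (SEG).Hgr aT q e) :
    ∃ z, clsT hkA hkB ψ hψ E F aR aS aT hyp φ hφi hφp hφs e q z = x := by
  obtain ⟨w, hw, rfl⟩ := hx
  have hw' : ppE hkA hkB E F e (w.1 : ↥(XQ hkA hkB ψ hψ E F q)).1 =
      (w.1 : ↥(XQ hkA hkB ψ hψ E F q)).1 := hw
  refine ⟨⟨(w.1 : ↥(XQ hkA hkB ψ hψ E F q)).1, ⟨congrArg Subtype.val w.2.2,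
    mem_Wq_of_mem_gam hkA hkB ψ hψ E F aR aS aT hyp w.1 w.2.1 hw'⟩⟩, ?_⟩
  exact congrArg ((SEG).toH aT q) (Subtype.ext (Subtype.ext rfl))

theorem clsT_smul (e : ℤ) (q : ℕ) (c : k)
    (z : ↥(LinearMap.ker (D AA BB) ⊓ Wq hkA hkB E F aR aS e q)) :
    clsT hkA hkB ψ hψ E F aR aS aT hyp φ hφi hφp hφs e q (c • z) =
      algebraMap k T c • clsT hkA hkB ψ hψ E F aR aS aT hyp φ hφi hφp hφs e q z := by
  change (SEG).toH aT q _ = algebraMap k T c • (SEG).toH aT q _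
  rw [← map_smul]
  refine congrArg ((SEG).toH aT q) (Subtype.ext (Subtype.ext ?_))
  change (c • z.1 : TT AA BB) = GrSeg.act k R S (AA).T (BB).T (ψ (algebraMap k T c)) z.1
  rw [AlgHom.commutes, Algebra.algebraMap_eq_smul_one, map_smul, LinearMap.smul_apply, act_one]

theorem clsT_eq_zero_iff (e : ℤ) (q : ℕ)
    (z : ↥(LinearMap.ker (D AA BB) ⊓ Wq hkA hkB E F aR aS e q)) :
    clsT hkA hkB ψ hψ E F aR aS aT hyp φ hφi hφp hφs e q z = 0 ↔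
      (z : TT AA BB) ∈ BPq (SGA e) (SEB e) q ⊔ BPq (SEA e) (SGB e) q := by
  change (SEG).toH aT q _ = 0 ↔ _
  rw [GrAcyc.GrRes.toH_eq_zero_iff]
  cases q with
  | zero =>
    rw [BPq_zero, BPq_zero, bot_sup_eq, Submodule.mem_bot]
    rw [GrAcyc.GrRes.mem_cobdy_zero]
    constructor
    · intro h
      exact congrArg Subtype.val h
    · intro h
      exact Subtype.ext h
  | succ n =>
    rw [BPq_succ, BPq_succ, ← Submodule.map_sup]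
    constructor
    · rintro ⟨y, hy, hyz⟩
      have hDy : D AA BB y.1 = z.1 := congrArg Subtype.val hyz
      have hz1 : ppE hkA hkB E F e z.1 = z.1 :=
        ((mem_TPq_iff hkA hkB E F e (n + 1) z.1).1
          (Wq_le hkA hkB E F aR aS e (n + 1) z.2.2)).1
      refine ⟨ppE hkA hkB E F e y.1, ?_, ?_⟩
      · exact mem_Wq_of_mem_gam hkA hkB ψ hψ E F aR aS aT hyp
          (XGproj hkA hkB ψ hψ E F n e y) (XGproj_mem_gam hkA hkB ψ hψ E F aT n e y hy)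
          (pp_pp_same 𝒜 hkA ℬ hkB (totGr E) (totGr F) e y.1)
      · rw [← D_ppE, hDy]
        exact hz1
    · rintro ⟨y, hy, hyz⟩
      exact ⟨⟨y, mem_XQ_of_mem_Wq hkA hkB ψ hψ E F aR aS hy⟩,
        mem_gam_of_mem_Wq hkA hkB ψ hψ E F aR aS aT hyp hy, Subtype.ext hyz⟩

end Main

end Groth.Agent.Lib.Helper20.SegTot
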