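import Mathlib
import Groth.Agent.Lib.Helper20.SegTot8
import Groth.Agent.Lib.Helper20.GrAcyc3

/-!
# The Künneth formula for the local cohomology of Segre products (additive-subgroup gradings)
-/

set_option autoImplicit false
set_option linter.unusedSectionVars false
set_option linter.unusedVariables false
set_option linter.style.haveILetI false

universe u

open TensorProduct DirectSum

namespace Groth.Agent.Lib.Helper20.SegTot

open Groth.Agent.Lib.Helper26.GrProj Groth.Agent.Lib.Helper20.SegAc Groth.Agent.Lib.Helper20.GrKit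
  Groth.Agent.Lib.Helper20.Ku

variable {k : Type u} [Field k] {R S T : Type u} [CommRing R] [CommRing S] [CommRing T]
  [Algebra k R] [Algebra k S] [Algebra k T]
  {𝒜 : ℤ → AddSubgroup R} [GradedRing 𝒜] (hkA : ∀ c : k, algebraMap k R c ∈ 𝒜 0)
  {ℬ : ℤ → AddSubgroup S} [GradedRing ℬ] (hkB : ∀ c : k, algebraMap k S c ∈ ℬ 0)
  {𝒯 : ℤ → AddSubgroup T} [GradedRing 𝒯] (hkT : ∀ c : k, algebraMap k T c ∈ 𝒯 0)
  (ψ : T →ₐ[k] R ⊗[k] S) (hψ : ∀ n t, t ∈ 𝒯 n → ψ t ∈ GrSeg.segrePiece k 𝒜 ℬ n)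
  {M : Type u} [AddCommGroup M] [Module R M] [Module k M] [IsScalarTower k R M]
  {ℳ : ℤ → AddSubgroup M}
  [DirectSum.Decomposition ℳ] [SetLike.GradedSMul 𝒜 ℳ]
  (E : GrLC.StarInjRes 𝒜 ℳ) [∀ i, Module k (E.X i).carrier]
  [∀ i, IsScalarTower k R (E.X i).carrier]
  {N : Type u} [AddCommGroup N] [Module S N] [Module k N] [IsScalarTower k S N]
  {𝒩 : ℤ → AddSubgroup N}
  [DirectSum.Decomposition 𝒩] [SetLike.GradedSMul ℬ 𝒩]
  (F : GrLC.StarInjRes ℬ 𝒩) [∀ j, Module k (F.X j).carrier]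
  [∀ j, IsScalarTower k S (F.X j).carrier]
  (aR : HomogeneousIdeal 𝒜) (aS : HomogeneousIdeal ℬ) (aT : HomogeneousIdeal 𝒯)
  {P : Type u} [AddCommGroup P] [Module T P] [Module k P] [IsScalarTower k T P]
  {𝒬 : ℤ → AddSubgroup P} [DirectSum.Decomposition 𝒬] [SetLike.GradedSMul 𝒯 𝒬]
  (φ : P →ₗ[k] M ⊗[k] N) (hφi : Function.Injective φ)
  (hφp : ∀ n : ℤ, φ '' (𝒬 n : Set P) = (GrSeg.segrePiece k ℳ 𝒩 n : Set (M ⊗[k] N)))
  (hφs : ∀ (t : T) (p : P), φ (t • p) = GrSeg.act k R S M N (ψ t) (φ p))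
  (EP : GrLC.StarInjRes 𝒯 𝒬)

local notation "AA" => cxOf (k := k) E
local notation "BB" => cxOf (k := k) F
local notation "SGA" => SubG hkA E aR.toIdeal
local notation "SEA" => SubE hkA E
local notation "SGB" => SubG hkB F aS.toIdeal
local notation "SEB" => SubE hkB F

include hψ hφi hφp hφs in
/-- the pieces of `H^q_{T_+}(M # N)` as a subquotient of the big tensor product -/
theorem finrank_Hcomp_eq_SQ [IsNoetherianRing T]
    (hiT : Function.Bijective (i0 (k := k) hkT))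
    (hyp : TorsHyp ψ E F aR aS aT.toIdeal)
    (hacyc : ∀ j, 1 ≤ j → Subsingleton (LocCoh.H aT.toIdeal j (TP ψ (AA).T (BB).T)))
    (q : ℕ) (d : ℤ) :
    Module.finrank k (SQ (LinearMap.ker (D AA BB) ⊓ Wq hkA hkB E F aR aS d q)
      (BPq (SGA d) (SEB d) q ⊔ BPq (SEA d) (SGB d) q)) =
      Module.finrank (GrLC.deg0 𝒯) (EP.Hcomp aT q d) := by
  obtain ⟨Ψ, hΨ1, hΨ2⟩ := GrAcyc.acyclic_computes aT q P 𝒬
    (segRes hkA hkB ψ hψ E F φ hφi hφp hφs)
    (fun n => isAcyc_XG hkA hkB ψ hψ E F aT n hacyc) EP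
  let f : ↥(LinearMap.ker (D AA BB) ⊓ Wq hkA hkB E F aR aS d q) →+ ↥(EP.Hcomp aT q d) :=
    { toFun := fun z => ⟨Ψ (clsT hkA hkB ψ hψ E F aR aS aT hyp φ hφi hφp hφs d q z),
        hΨ1 d _ (clsT_mem hkA hkB ψ hψ E F aR aS aT hyp φ hφi hφp hφs d q z)⟩
      map_zero' := Subtype.ext ((congrArg Ψ (map_zero
        (clsT hkA hkB ψ hψ E F aR aS aT hyp φ hφi hφp hφs d q))).trans (map_zero Ψ))
      map_add' := fun a b => Subtype.ext ((congrArg Ψ (map_add
        (clsT hkA hkB ψ hψ E F aR aS aT hyp φ hφi hφp hφs d q) a b)).trans (map_add Ψ _ _)) }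
  refine finrank_SQ_eq (i0 hkT) hiT _ _ f ?_ ?_ ?_
  · rintro ⟨y, hy⟩
    have h1 : Ψ.symm y ∈ (segRes hkA hkB ψ hψ E F φ hφi hφp hφs).Hgr aT q d := hΨ2 d y hy
    obtain ⟨z, hz⟩ := clsT_surj hkA hkB ψ hψ E F aR aS aT hyp φ hφi hφp hφs d q _ h1
    refine ⟨z, Subtype.ext ?_⟩
    change Ψ (clsT hkA hkB ψ hψ E F aR aS aT hyp φ hφi hφp hφs d q z) = y
    rw [hz, LinearEquiv.apply_symm_apply]
  · intro z
    rw [← clsT_eq_zero_iff hkA hkB ψ hψ E F aR aS aT hyp φ hφi hφp hφs d q z,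
      ← Subtype.coe_inj]
    change Ψ (clsT hkA hkB ψ hψ E F aR aS aT hyp φ hφi hφp hφs d q z) = 0 ↔ _
    exact LinearEquiv.map_eq_zero_iff Ψ
  · intro c z
    apply Subtype.ext
    change Ψ (clsT hkA hkB ψ hψ E F aR aS aT hyp φ hφi hφp hφs d q (c • z)) =
      algebraMap k T c • Ψ (clsT hkA hkB ψ hψ E F aR aS aT hyp φ hφi hφp hφs d q z)
    rw [clsT_smul, map_smul]

theorem sum_collapse_last (a b : ℕ → ℕ) (q : ℕ) (hb : ∀ j, b (j + 1) = 0) :
    ∑ i ∈ Finset.range (q + 1), a i * b (q - i) = a q * b 0 := by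
  rw [Finset.sum_range_succ, Nat.sub_self]
  have : ∑ i ∈ Finset.range q, a i * b (q - i) = 0 := by
    refine Finset.sum_eq_zero fun i hi => ?_
    have hi' : i < q := Finset.mem_range.1 hi
    have : q - i = (q - i - 1) + 1 := by omega
    rw [this, hb, mul_zero]
  rw [this, zero_add]

theorem sum_collapse_first (a b : ℕ → ℕ) (q : ℕ) (ha : ∀ j, a (j + 1) = 0) :
    ∑ i ∈ Finset.range (q + 1), a i * b (q - i) = a 0 * b q := by
  rw [Finset.sum_range_succ', Nat.sub_zero]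
  have : ∑ i ∈ Finset.range q, a (i + 1) * b (q - (i + 1)) = 0 :=
    Finset.sum_eq_zero fun i hi => by rw [ha, zero_mul]
  rw [this, zero_add]

include hψ hφi hφp hφs in
/-- **Künneth formula for the graded local cohomology of a Segre product** (for gradings by
additive subgroups, with the torsion and acyclicity inputs as hypotheses). -/
theorem kunneth_AS [Nontrivial R] [Nontrivial S] [IsNoetherianRing T]
    (hiA : Function.Bijective (i0 (k := k) hkA)) (hiB : Function.Bijective (i0 (k := k) hkB))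
    (hiT : Function.Bijective (i0 (k := k) hkT))
    (hyp : TorsHyp ψ E F aR aS aT.toIdeal)
    (hacyc : ∀ j, 1 ≤ j → Subsingleton (LocCoh.H aT.toIdeal j (TP ψ (AA).T (BB).T)))
    (h0M : ∀ e, E.Hcomp aR 0 e = ⊥) (h0N : ∀ e, F.Hcomp aS 0 e = ⊥)
    [hfM : ∀ i e, Module.Finite (GrLC.deg0 𝒜) (E.Hcomp aR i e)]
    [hfM0 : ∀ e, Module.Finite (GrLC.deg0 𝒜) (GrLC.comp 𝒜 ℳ e)]
    [hfN : ∀ i e, Module.Finite (GrLC.deg0 ℬ) (F.Hcomp aS i e)]
    [hfN0 : ∀ e, Module.Finite (GrLC.deg0 ℬ) (GrLC.comp ℬ 𝒩 e)]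
    (q : ℕ) (d : ℤ) :
    Module.finrank (GrLC.deg0 𝒯) (EP.Hcomp aT q d) =
      Module.finrank (GrLC.deg0 𝒜) (GrLC.comp 𝒜 ℳ d) *
          Module.finrank (GrLC.deg0 ℬ) (F.Hcomp aS q d) +
        Module.finrank (GrLC.deg0 𝒜) (E.Hcomp aR q d) *
          Module.finrank (GrLC.deg0 ℬ) (GrLC.comp ℬ 𝒩 d) +
        (Finset.range (q + 2)).sum (fun i => Module.finrank (GrLC.deg0 𝒜) (E.Hcomp aR i d) *
          Module.finrank (GrLC.deg0 ℬ) (F.Hcomp aS (q + 1 - i) d)) := by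
  rw [← finrank_Hcomp_eq_SQ hkA hkB hkT ψ hψ E F aR aS aT φ hφi hφp hφs EP hiT hyp hacyc q d]
  haveI i1 : ∀ i, Module.Finite k ((SGA d).cx.H i) := fun i => finite_H_SubG hkA E hiA aR d i
  haveI i2 : ∀ i, Module.Finite k ((SEA d).cx.H i) := fun i => finite_H_SubE hkA E hiA d i
  haveI i3 : ∀ i, Module.Finite k ((SGB d).cx.H i) := fun i => finite_H_SubG hkB F hiB aS d i
  haveI i4 : ∀ i, Module.Finite k ((SEB d).cx.H i) := fun i => finite_H_SubE hkB F hiB d i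
  have key := finrank_sum (SubG_le hkA E aR.toIdeal d) (SubG_le hkB F aS.toIdeal d)
    (isCobdy_SubE hkA E aR d (h0M d)) (isCobdy_SubE hkB F aS d (h0N d)) q
  have e1 : ∑ i ∈ Finset.range (q + 1), Module.finrank k ((SGA d).cx.H i) *
      Module.finrank k ((SEB d).cx.H (q - i)) =
      Module.finrank k ((SGA d).cx.H q) * Module.finrank k ((SEB d).cx.H 0) :=
    sum_collapse_last (fun i => Module.finrank k ((SGA d).cx.H i))
      (fun j => Module.finrank k ((SEB d).cx.H j)) q (fun j => finrank_H_SubE_succ hkB F d j)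
  have e2 : ∑ i ∈ Finset.range (q + 1), Module.finrank k ((SEA d).cx.H i) *
      Module.finrank k ((SGB d).cx.H (q - i)) =
      Module.finrank k ((SEA d).cx.H 0) * Module.finrank k ((SGB d).cx.H q) :=
    sum_collapse_first (fun i => Module.finrank k ((SEA d).cx.H i))
      (fun j => Module.finrank k ((SGB d).cx.H j)) q (fun j => finrank_H_SubE_succ hkA E d j)
  unfold Wq
  rw [key, finrank_HP, finrank_HP, finrank_HP, e1, e2,
    finrank_H_SubE_zero hkA E hiA d, finrank_H_SubE_zero hkB F hiB d,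
    finrank_H_SubG hkA E hiA aR d q, finrank_H_SubG hkB F hiB aS d q]
  rw [add_comm (Module.finrank (GrLC.deg0 𝒜) (E.Hcomp aR q d) *
    Module.finrank (GrLC.deg0 ℬ) (GrLC.comp ℬ 𝒩 d))]
  congr 1
  refine Finset.sum_congr rfl fun i _ => ?_
  rw [finrank_H_SubG hkA E hiA aR d i, finrank_H_SubG hkB F hiB aS d (q + 1 - i)]

end Groth.Agent.Lib.Helper20.SegTot
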