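import Mathlib

/-!
# A finite module with zero-dimensional support over a Noetherian ring is Artinian
-/

set_option autoImplicit false
universe u

namespace Groth.Agent.Lib.Helper20.SegArt

theorem isArtinian_of_supportDim_le_zero {R M : Type u} [CommRing R] [IsNoetherianRing R]
    [AddCommGroup M] [Module R M] [Module.Finite R M] (h : Module.supportDim R M ≤ 0) :
    IsArtinian R M := by
  rw [Module.supportDim_eq_ringKrullDim_quotient_annihilator] at h
  haveI : Ring.KrullDimLE 0 (R ⧸ Module.annihilator R M) := (Ring.krullDimLE_iff).2 h
  haveI : IsArtinianRing (R ⧸ Module.annihilator R M) :=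
    isArtinianRing_iff_isNoetherianRing_krullDimLE_zero.2 ⟨inferInstance, inferInstance⟩
  letI : Module (R ⧸ Module.annihilator R M) M := Module.quotientAnnihilator
  haveI : IsScalarTower R (R ⧸ Module.annihilator R M) M := inferInstance
  haveI : Module.Finite (R ⧸ Module.annihilator R M) M :=
    Module.Finite.of_restrictScalars_finite R _ M
  haveI : IsArtinian (R ⧸ Module.annihilator R M) M := inferInstance
  exact isArtinian_of_surjective_algebraMap (R := R ⧸ Module.annihilator R M)
    Ideal.Quotient.mk_surjective

end Groth.Agent.Lib.Helper20.SegArt
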