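import Mathlib
import Groth.Prelude.Def_GrSeg
import Groth.Agent.Lib.Helper20.SegMod
import Groth.Agent.Lib.Helper20.SegGr
import Groth.Agent.Lib.Helper20.SegArt
import Groth.Agent.Lib.Helper20.SegUnmixed

/-!
# The dimension of a Segre product of modules
-/

set_option autoImplicit false
universe u
open scoped TensorProduct

namespace Groth.Agent.Lib.Helper20.SegModMain

open Groth.Agent.Lib.Helper20.SegDim Groth.Agent.Lib.Helper20.SegMod
  Groth.Agent.Lib.Helper20.SegGr Groth.Agent.Lib.Helper20.SegWeight GrSeg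

section elt

variable {k : Type u} [Field k] {R : Type u} [CommRing R] [Algebra k R]
  (𝒜 : ℤ → Submodule k R) [GradedAlgebra 𝒜]
  {M : Type u} [AddCommGroup M] [Module R M] (ℳ : ℤ → AddSubgroup M)
  [DirectSum.Decomposition ℳ] [SetLike.GradedSMul 𝒜 ℳ]

/-- the dimension of `R ⧸ ann a` is squeezed between those of `R ⧸ 𝔭` and `R ⧸ ann M` -/
theorem dim_quotient_ker_eq [Module.Finite R M] (d : ℕ) (hd : Module.supportDim R M = d)
    (𝔭 : Ideal R) (h𝔭 : ringKrullDim (R ⧸ 𝔭) = d) (a : M)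
    (ha : LinearMap.ker (LinearMap.toSpanSingleton R M a) ≤ 𝔭) :
    ringKrullDim (R ⧸ LinearMap.ker (LinearMap.toSpanSingleton R M a)) = d := by
  apply le_antisymm
  · rw [← hd, Module.supportDim_eq_ringKrullDim_quotient_annihilator]
    apply helper11.DimChain.ringKrullDim_quotient_mono
    intro r hr
    rw [LinearMap.mem_ker, LinearMap.toSpanSingleton_apply]
    exact Module.mem_annihilator.1 hr a
  · rw [← h𝔭]
    exact helper11.DimChain.ringKrullDim_quotient_mono ha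

/-- In a finite graded module of positive dimension over a standard graded ring there are
homogeneous elements of every large degree whose annihilator has the dimension of the module. -/
theorem exists_elt_dim (hposR : ∀ n : ℤ, n < 0 → 𝒜 n = ⊥)
    (h0R : 𝒜 0 = Submodule.span k {(1 : R)})
    (hstd : Ideal.span (⋃ n ∈ Set.Ioi (0 : ℤ), (𝒜 n : Set R)) =
      Ideal.span ((𝒜 1 : Submodule k R) : Set R)) [Module.Finite R M] (d : ℕ) (hd1 : 1 ≤ d)
    (hd : Module.supportDim R M = d) :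
    ∃ i₀ : ℤ, ∀ n : ℤ, i₀ ≤ n → ∃ a ∈ ℳ n,
      ringKrullDim (R ⧸ LinearMap.ker (LinearMap.toSpanSingleton R M a)) = d := by
  have hd' : ringKrullDim (R ⧸ Module.annihilator R M) = d := by
    rw [← Module.supportDim_eq_ringKrullDim_quotient_annihilator, hd]
  obtain ⟨𝔭, h𝔭min, h𝔭d⟩ := helper11.DimChain.exists_minimalPrimes_dim_eq _ d hd'
  haveI h𝔭p : 𝔭.IsPrime := h𝔭min.1.1
  obtain ⟨i₀, a, ha, hale⟩ := exists_homogeneous_ker_le ℳ 𝔭 h𝔭min.1.2
  have hnz : ¬ ringKrullDim (R ⧸ 𝔭) ≤ 0 := by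
    rw [h𝔭d]
    intro h
    have : d ≤ 0 := by exact_mod_cast h
    omega
  obtain ⟨x, hx, hx𝔭⟩ := exists_deg_one_notMem 𝒜 hposR h0R hstd 𝔭 hnz
  refine ⟨i₀, fun n hn => ?_⟩
  obtain ⟨e, he⟩ := Int.eq_ofNat_of_zero_le (sub_nonneg.2 hn)
  refine ⟨x ^ e • a, ?_, ?_⟩
  · have h1 : x ^ e ∈ 𝒜 (e • (1 : ℤ)) := SetLike.pow_mem_graded e hx
    have h2 := SetLike.GradedSMul.smul_mem (A := 𝒜) (B := ℳ) h1 ha
    have : (e • (1 : ℤ)) +ᵥ i₀ = n := by
      rw [nsmul_eq_mul, mul_one, vadd_eq_add]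
      omega
    rwa [this] at h2
  · apply dim_quotient_ker_eq d hd 𝔭 h𝔭d
    intro r hr
    rw [LinearMap.mem_ker, LinearMap.toSpanSingleton_apply, smul_smul] at hr
    have : r * x ^ e ∈ 𝔭 := hale (by
      rw [LinearMap.mem_ker, LinearMap.toSpanSingleton_apply]
      exact hr)
    rcases h𝔭p.mem_or_mem this with h | h
    · exact h
    · exact absurd (h𝔭p.mem_of_pow_mem _ h) hx𝔭

end elt


section main

variable {k : Type u} [Field k] {R : Type u} [CommRing R] [Algebra k R]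
  (𝒜 : ℤ → Submodule k R) [GradedAlgebra 𝒜] [Algebra.FiniteType k R]
  {S : Type u} [CommRing S] [Algebra k S]
  (ℬ : ℤ → Submodule k S) [GradedAlgebra ℬ] [Algebra.FiniteType k S]
  {T : Type u} [CommRing T] [Algebra k T] (𝒯 : ℤ → Submodule k T) [GradedAlgebra 𝒯]
  (ψ : T →ₐ[k] R ⊗[k] S)
  {M : Type u} [AddCommGroup M] [Module R M] [Module k M] [IsScalarTower k R M]
  (ℳ : ℤ → AddSubgroup M) [DirectSum.Decomposition ℳ] [SetLike.GradedSMul 𝒜 ℳ]
  {N : Type u} [AddCommGroup N] [Module S N] [Module k N] [IsScalarTower k S N]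
  (𝒩 : ℤ → AddSubgroup N) [DirectSum.Decomposition 𝒩] [SetLike.GradedSMul ℬ 𝒩]
  {P : Type u} [AddCommGroup P] [Module T P] [Module k P] [IsScalarTower k T P]
  (𝒬 : ℤ → AddSubgroup P) [DirectSum.Decomposition 𝒬] (φ : P →ₗ[k] M ⊗[k] N)

/-- upper bound for the dimension of a Segre product of finite graded modules -/
theorem supportDim_segreMod_le (hposR : ∀ n : ℤ, n < 0 → 𝒜 n = ⊥)
    (h0R : 𝒜 0 = Submodule.span k {(1 : R)}) (hposS : ∀ n : ℤ, n < 0 → ℬ n = ⊥)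
    (h0S : ℬ 0 = Submodule.span k {(1 : S)}) (hT : IsSegreRing 𝒜 ℬ 𝒯 ψ)
    [Module.Finite R M] [Module.Finite S N] (hP : IsSegreMod ψ ℳ 𝒩 𝒬 φ) (dM dN : ℕ)
    (hdM : Module.supportDim R M = dM) (hdN : Module.supportDim S N = dN) (h1M : 1 ≤ dM)
    (h1N : 1 ≤ dN) : Module.supportDim T P ≤ ((dM + dN - 1 : ℕ) : WithBot ℕ∞) := by
  have hI : ringKrullDim (R ⧸ Module.annihilator R M) = dM := by
    rw [← Module.supportDim_eq_ringKrullDim_quotient_annihilator, hdM]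
  have hJ : ringKrullDim (S ⧸ Module.annihilator S N) = dN := by
    rw [← Module.supportDim_eq_ringKrullDim_quotient_annihilator, hdN]
  have h := supportDim_le (ψ := ψ) (φ := φ) hP.injective hP.map_smul (Module.annihilator R M)
    (fun r hr m => Module.mem_annihilator.1 hr m) (Module.annihilator S N)
    (fun s hs n => Module.mem_annihilator.1 hs n)
  rwa [segre_dim 𝒜 ℬ 𝒯 ψ hposR h0R hposS h0S hT.1 hT.2 _ (annihilator_isHomogeneous 𝒜 ℳ) _
    (annihilator_isHomogeneous ℬ 𝒩) dM dN hI hJ h1M h1N] at h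

/-- lower bound, from a pair of homogeneous elements of the same degree -/
theorem le_supportDim_segreMod (hposR : ∀ n : ℤ, n < 0 → 𝒜 n = ⊥)
    (h0R : 𝒜 0 = Submodule.span k {(1 : R)}) (hposS : ∀ n : ℤ, n < 0 → ℬ n = ⊥)
    (h0S : ℬ 0 = Submodule.span k {(1 : S)}) (hT : IsSegreRing 𝒜 ℬ 𝒯 ψ)
    (hP : IsSegreMod ψ ℳ 𝒩 𝒬 φ) (dM dN : ℕ) (h1M : 1 ≤ dM) (h1N : 1 ≤ dN) (n : ℤ) (a : M)
    (ha : a ∈ ℳ n) (b : N) (hb : b ∈ 𝒩 n)
    (hda : ringKrullDim (R ⧸ LinearMap.ker (LinearMap.toSpanSingleton R M a)) = dM)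
    (hdb : ringKrullDim (S ⧸ LinearMap.ker (LinearMap.toSpanSingleton S N b)) = dN) :
    ((dM + dN - 1 : ℕ) : WithBot ℕ∞) ≤ Module.supportDim T P := by
  have hmem : a ⊗ₜ[k] b ∈ (segrePiece k ℳ 𝒩 n : Set (M ⊗[k] N)) :=
    Submodule.subset_span ⟨a, ha, b, hb, rfl⟩
  rw [← hP.image_piece n] at hmem
  obtain ⟨p, -, hp⟩ := hmem
  have h := le_supportDim (ψ := ψ) (φ := φ) hP.map_smul a b p hp
  rwa [segre_dim 𝒜 ℬ 𝒯 ψ hposR h0R hposS h0S hT.1 hT.2 _
    (ker_toSpanSingleton_isHomogeneous 𝒜 ℳ ha) _ (ker_toSpanSingleton_isHomogeneous ℬ 𝒩 hb)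
    dM dN hda hdb h1M h1N] at h

/-- **The dimension of a Segre product of non-Artinian modules over standard graded rings.** -/
theorem supportDim_segreMod_std (hposR : ∀ n : ℤ, n < 0 → 𝒜 n = ⊥)
    (h0R : 𝒜 0 = Submodule.span k {(1 : R)}) (hposS : ∀ n : ℤ, n < 0 → ℬ n = ⊥)
    (h0S : ℬ 0 = Submodule.span k {(1 : S)}) (hT : IsSegreRing 𝒜 ℬ 𝒯 ψ)
    (hstdR : Ideal.span (⋃ n ∈ Set.Ioi (0 : ℤ), (𝒜 n : Set R)) =
      Ideal.span ((𝒜 1 : Submodule k R) : Set R))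
    (hstdS : Ideal.span (⋃ n ∈ Set.Ioi (0 : ℤ), (ℬ n : Set S)) =
      Ideal.span ((ℬ 1 : Submodule k S) : Set S))
    [Module.Finite R M] [Module.Finite S N] (hP : IsSegreMod ψ ℳ 𝒩 𝒬 φ) (dM dN : ℕ)
    (hdM : Module.supportDim R M = dM) (hdN : Module.supportDim S N = dN)
    (hMA : ¬ IsArtinian R M) (hNA : ¬ IsArtinian S N) :
    Module.supportDim T P = ((dM + dN - 1 : ℕ) : WithBot ℕ∞) := by
  haveI : IsNoetherianRing R := Algebra.FiniteType.isNoetherianRing k R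
  haveI : IsNoetherianRing S := Algebra.FiniteType.isNoetherianRing k S
  have h1M : 1 ≤ dM := by
    by_contra h
    apply hMA
    apply SegArt.isArtinian_of_supportDim_le_zero
    rw [hdM]
    have : dM = 0 := by omega
    rw [this]
    rfl
  have h1N : 1 ≤ dN := by
    by_contra h
    apply hNA
    apply SegArt.isArtinian_of_supportDim_le_zero
    rw [hdN]
    have : dN = 0 := by omega
    rw [this]
    rfl
  apply le_antisymm
  · exact supportDim_segreMod_le 𝒜 ℬ 𝒯 ψ ℳ 𝒩 𝒬 φ hposR h0R hposS h0S hT hP dM dN hdM hdN h1M h1N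
  · obtain ⟨i₀, hi⟩ := exists_elt_dim 𝒜 ℳ hposR h0R hstdR dM h1M hdM
    obtain ⟨j₀, hj⟩ := exists_elt_dim ℬ 𝒩 hposS h0S hstdS dN h1N hdN
    obtain ⟨a, ha, hda⟩ := hi (max i₀ j₀) (le_max_left _ _)
    obtain ⟨b, hb, hdb⟩ := hj (max i₀ j₀) (le_max_right _ _)
    exact le_supportDim_segreMod 𝒜 ℬ 𝒯 ψ ℳ 𝒩 𝒬 φ hposR h0R hposS h0S hT hP dM dN h1M h1N _ a ha
      b hb hda hdb

end main


section cm

variable {k : Type u} [Field k] {R : Type u} [CommRing R] [Algebra k R]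
  (𝒜 : ℤ → Submodule k R) [GradedAlgebra 𝒜] [Algebra.FiniteType k R]
  {S : Type u} [CommRing S] [Algebra k S]
  (ℬ : ℤ → Submodule k S) [GradedAlgebra ℬ] [Algebra.FiniteType k S]
  {T : Type u} [CommRing T] [Algebra k T] (𝒯 : ℤ → Submodule k T) [GradedAlgebra 𝒯]
  (ψ : T →ₐ[k] R ⊗[k] S)
  {M : Type u} [AddCommGroup M] [Module R M] [Module k M] [IsScalarTower k R M]
  (ℳ : ℤ → AddSubgroup M) [DirectSum.Decomposition ℳ] [SetLike.GradedSMul 𝒜 ℳ]
  {N : Type u} [AddCommGroup N] [Module S N] [Module k N] [IsScalarTower k S N]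
  (𝒩 : ℤ → AddSubgroup N) [DirectSum.Decomposition 𝒩] [SetLike.GradedSMul ℬ 𝒩]
  {P : Type u} [AddCommGroup P] [Module T P] [Module k P] [IsScalarTower k T P]
  (𝒬 : ℤ → AddSubgroup P) [DirectSum.Decomposition 𝒬] (φ : P →ₗ[k] M ⊗[k] N)

/-- a nonzero Segre product has nonzero homogeneous factors in some common degree -/
theorem exists_ne_zero_of_nontrivial (hP : IsSegreMod ψ ℳ 𝒩 𝒬 φ) [Nontrivial P] :
    ∃ (n : ℤ) (a : M) (b : N), a ∈ ℳ n ∧ b ∈ 𝒩 n ∧ a ≠ 0 ∧ b ≠ 0 := by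
  classical
  obtain ⟨p, hp⟩ := exists_ne (0 : P)
  have hex : ∃ n : ℤ, (DirectSum.decompose 𝒬 p n : P) ≠ 0 := by
    by_contra hno
    push Not at hno
    apply hp
    rw [← DirectSum.sum_support_decompose 𝒬 p]
    exact Finset.sum_eq_zero fun i _ => hno i
  obtain ⟨n, hn⟩ := hex
  by_contra hno
  push Not at hno
  apply hn
  apply hP.injective
  rw [map_zero]
  have hmem : φ (DirectSum.decompose 𝒬 p n : P) ∈ (segrePiece k ℳ 𝒩 n : Set (M ⊗[k] N)) := by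
    rw [← hP.image_piece n]
    exact ⟨_, SetLike.coe_mem _, rfl⟩
  have hbot : segrePiece k ℳ 𝒩 n = ⊥ := by
    rw [eq_bot_iff]
    refine Submodule.span_le.2 ?_
    rintro _ ⟨a, ha, b, hb, rfl⟩
    by_cases ha0 : a = 0
    · rw [ha0, TensorProduct.zero_tmul]
      exact Submodule.zero_mem _
    · rw [hno n a b ha hb ha0, TensorProduct.tmul_zero]
      exact Submodule.zero_mem _
  rw [hbot] at hmem
  exact hmem

/-- **The dimension of a Segre product of Cohen–Macaulay graded modules.** -/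
theorem supportDim_segreMod_cm (hposR : ∀ n : ℤ, n < 0 → 𝒜 n = ⊥)
    (h0R : 𝒜 0 = Submodule.span k {(1 : R)}) (hposS : ∀ n : ℤ, n < 0 → ℬ n = ⊥)
    (h0S : ℬ 0 = Submodule.span k {(1 : S)}) (hT : IsSegreRing 𝒜 ℬ 𝒯 ψ)
    [Module.Finite R M] [Module.Finite S N] (hP : IsSegreMod ψ ℳ 𝒩 𝒬 φ) (r s : ℕ)
    (h1r : 1 ≤ r) (h1s : 1 ≤ s) (hdM : Module.supportDim R M = r)
    (hdN : Module.supportDim S N = s)
    (hMcm : ∀ (q : Ideal R) [q.IsPrime], Subsingleton (LocalizedModule q.primeCompl M) ∨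
      LocCoh.IsCohenMacaulayModule (Localization.AtPrime q) (LocalizedModule q.primeCompl M))
    (hNcm : ∀ (q : Ideal S) [q.IsPrime], Subsingleton (LocalizedModule q.primeCompl N) ∨
      LocCoh.IsCohenMacaulayModule (Localization.AtPrime q) (LocalizedModule q.primeCompl N)) :
    Module.supportDim T P = ((r + s - 1 : ℕ) : WithBot ℕ∞) ∨ Subsingleton P := by
  haveI : IsNoetherianRing R := Algebra.FiniteType.isNoetherianRing k R
  haveI : IsNoetherianRing S := Algebra.FiniteType.isNoetherianRing k S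
  by_cases hsub : Subsingleton P
  · exact Or.inr hsub
  · left
    haveI : Nontrivial P := not_subsingleton_iff_nontrivial.1 hsub
    obtain ⟨n, a, b, ha, hb, ha0, hb0⟩ := exists_ne_zero_of_nontrivial ψ ℳ 𝒩 𝒬 φ hP
    apply le_antisymm
    · exact supportDim_segreMod_le 𝒜 ℬ 𝒯 ψ ℳ 𝒩 𝒬 φ hposR h0R hposS h0S hT hP r s hdM hdN h1r h1s
    · exact le_supportDim_segreMod 𝒜 ℬ 𝒯 ψ ℳ 𝒩 𝒬 φ hposR h0R hposS h0S hT hP r s h1r h1s n a ha
        b hb (SegUnmixed.dim_quotient_ker_eq_of_cm 𝒜 ℳ hposR h0R hMcm r hdM ha ha0)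
        (SegUnmixed.dim_quotient_ker_eq_of_cm ℬ 𝒩 hposS h0S hNcm s hdN hb hb0)

end cm

end Groth.Agent.Lib.Helper20.SegModMain
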