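import Mathlib
import Groth.Agent.Lib.Helper20.SegCM3
import Groth.Agent.Lib.Helper20.SegKun
import Groth.Agent.Lib.Helper20.SegModMain
import Groth.Agent.Lib.Helper20.GrKit8

/-!
# Cohen–Macaulayness of Segre products of graded modules
-/

set_option autoImplicit false
set_option linter.unusedSectionVars false
set_option linter.unusedVariables false
set_option linter.style.haveILetI false

universe u

open TensorProduct

namespace Groth.Agent.Lib.Helper20.SegCM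

open Groth.Agent.Lib.Helper20.GrConv Groth.Agent.Lib.Helper20.GrKit

section Conv

variable {ι : Type} [AddCommGroup ι] [DecidableEq ι] {R : Type u} [CommRing R]
  {σ : Type u} [SetLike σ R] [AddSubgroupClass σ R] {𝒜 : ι → σ} [GradedRing 𝒜]
  {M : Type u} [AddCommGroup M] [Module R M] {τ : Type u} [SetLike τ M] [AddSubgroupClass τ M]
  {ℳ : ι → τ} [DirectSum.Decomposition ℳ] [SetLike.GradedSMul 𝒜 ℳ]

/-- conversion of *injective resolutions, backwards -/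
noncomputable def resOfAS (E : GrLC.StarInjRes (asGr 𝒜) (asGrM ℳ)) : GrLC.StarInjRes 𝒜 ℳ where
  X n := ofAS 𝒜 (E.X n)
  d := E.d
  ε := E.ε
  d_grHom := E.d_grHom
  ε_grHom := E.ε_grHom
  ε_injective := E.ε_injective
  exact_zero := E.exact_zero
  exact_succ := E.exact_succ
  starInj n := by
    have := E.starInj n
    intro A B f hf hinj g hg
    exact this (toAS 𝒜 A) (toAS 𝒜 B) f hf hinj g hg

theorem nonempty_starInjRes' : Nonempty (GrLC.StarInjRes 𝒜 ℳ) :=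
  ⟨resOfAS (starInjRes (asGr 𝒜) (asGrM ℳ))⟩

end Conv

section Numeric

theorem sum_eq_zero_of_lt (a b : ℕ → ℕ) (r s : ℕ) (ha : ∀ i, i ≠ r → a i = 0)
    (hb : ∀ j, j ≠ s → b j = 0) (q : ℕ) (hq : q + 1 ≠ r + s) :
    ∑ i ∈ Finset.range (q + 2), a i * b (q + 1 - i) = 0 := by
  refine Finset.sum_eq_zero fun i hi => ?_
  have hi' : i < q + 2 := Finset.mem_range.1 hi
  by_cases h1 : i = r
  · have : q + 1 - i ≠ s := by omega
    rw [hb _ this, mul_zero]
  · rw [ha _ h1, zero_mul]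

theorem numeric_A (a b : ℕ → ℕ) (mm nn r s : ℕ) (ha : ∀ i, i ≠ r → a i = 0)
    (hb : ∀ j, j ≠ s → b j = 0) (h2r : 2 ≤ r) (h2s : 2 ≤ s) :
    (∀ q, q < r + s - 1 → mm * b q + a q * nn +
      ∑ i ∈ Finset.range (q + 2), a i * b (q + 1 - i) = 0) ↔ mm * b s = 0 ∧ a r * nn = 0 := by
  constructor
  · intro h
    have h1 := h s (by omega)
    have h2 := h r (by omega)
    rw [sum_eq_zero_of_lt a b r s ha hb _ (by omega), add_zero] at h1 h2
    exact ⟨(Nat.add_eq_zero_iff.1 h1).1, (Nat.add_eq_zero_iff.1 h2).2⟩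
  · rintro ⟨h1, h2⟩ q hq
    rw [sum_eq_zero_of_lt a b r s ha hb _ (by omega), add_zero]
    have e1 : mm * b q = 0 := by
      by_cases hqs : q = s
      · rw [hqs]; exact h1
      · rw [hb _ hqs, mul_zero]
    have e2 : a q * nn = 0 := by
      by_cases hqr : q = r
      · rw [hqr]; exact h2
      · rw [ha _ hqr, zero_mul]
    rw [e1, e2]

theorem numeric_B (a b : ℕ → ℕ) (mm nn s : ℕ) (ha : ∀ i, i ≠ 1 → a i = 0)
    (hb : ∀ j, j ≠ s → b j = 0) (h2s : 2 ≤ s) :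
    (∀ q, q < 1 + s - 1 → mm * b q + a q * nn +
      ∑ i ∈ Finset.range (q + 2), a i * b (q + 1 - i) = 0) ↔ a 1 * nn = 0 := by
  constructor
  · intro h
    have h2 := h 1 (by omega)
    rw [sum_eq_zero_of_lt a b 1 s ha hb _ (by omega), add_zero] at h2
    exact (Nat.add_eq_zero_iff.1 h2).2
  · intro h2 q hq
    rw [sum_eq_zero_of_lt a b 1 s ha hb _ (by omega), add_zero]
    have e1 : mm * b q = 0 := by
      rw [hb _ (by omega), mul_zero]
    have e2 : a q * nn = 0 := by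
      by_cases hqr : q = 1
      · rw [hqr]; exact h2
      · rw [ha _ hqr, zero_mul]
    rw [e1, e2]

theorem numeric_C (a b : ℕ → ℕ) (mm nn : ℕ) (ha : ∀ i, i ≠ 1 → a i = 0)
    (hb : ∀ j, j ≠ 1 → b j = 0) :
    ∀ q, q < 1 + 1 - 1 → mm * b q + a q * nn +
      ∑ i ∈ Finset.range (q + 2), a i * b (q + 1 - i) = 0 := by
  intro q hq
  have hq0 : q = 0 := by omega
  subst hq0
  rw [sum_eq_zero_of_lt a b 1 1 ha hb _ (by omega), add_zero, hb 0 (by omega), ha 0 (by omega),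
    mul_zero, zero_mul, add_zero]

end Numeric

section Irr

variable {R : Type u} [CommRing R] {σ : Type u} [SetLike σ R] [AddSubgroupClass σ R]
  (𝒜 : ℤ → σ) [GradedRing 𝒜]

/-- the irrelevant ideal, as a homogeneous ideal -/
def irrH : HomogeneousIdeal 𝒜 :=
  ⟨Ideal.span (⋃ n ∈ Set.Ioi (0 : ℤ), (𝒜 n : Set R)), Ideal.homogeneous_span 𝒜 _ (by
    intro x hx
    simp only [Set.mem_iUnion, Set.mem_Ioi, SetLike.mem_coe] at hx
    obtain ⟨n, -, hxn⟩ := hx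
    exact ⟨n, hxn⟩)⟩

theorem irrH_toIdeal :
    (irrH 𝒜).toIdeal = Ideal.span (⋃ n ∈ Set.Ioi (0 : ℤ), (𝒜 n : Set R)) := rfl

end Irr

section SegreSMul

variable {k : Type u} [Field k] {R S T : Type u} [CommRing R] [CommRing S] [CommRing T]
  [Algebra k R] [Algebra k S] [Algebra k T]
  (𝒜 : ℤ → Submodule k R) [GradedAlgebra 𝒜] (ℬ : ℤ → Submodule k S) [GradedAlgebra ℬ]
  (𝒯 : ℤ → Submodule k T) [GradedAlgebra 𝒯] (ψ : T →ₐ[k] R ⊗[k] S)
  {M : Type u} [AddCommGroup M] [Module R M] [Module k M] [IsScalarTower k R M]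
  {τM : Type u} [SetLike τM M] [AddSubgroupClass τM M]
  (ℳ : ℤ → τM) [SetLike.GradedSMul 𝒜 ℳ]
  {N : Type u} [AddCommGroup N] [Module S N] [Module k N] [IsScalarTower k S N]
  {τN : Type u} [SetLike τN N] [AddSubgroupClass τN N]
  (𝒩 : ℤ → τN) [SetLike.GradedSMul ℬ 𝒩]
  {P : Type u} [AddCommGroup P] [Module T P] [Module k P] [IsScalarTower k T P]
  {τQ : Type u} [SetLike τQ P] [AddSubgroupClass τQ P]
  (𝒬 : ℤ → τQ) [DirectSum.Decomposition 𝒬] (φ : P →ₗ[k] M ⊗[k] N)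

theorem act_mem_segrePiece {a b : ℤ} {u : R ⊗[k] S} (hu : u ∈ GrSeg.segrePiece k 𝒜 ℬ a)
    {z : M ⊗[k] N} (hz : z ∈ GrSeg.segrePiece k ℳ 𝒩 b) :
    GrSeg.act k R S M N u z ∈ GrSeg.segrePiece k ℳ 𝒩 (a + b) := by
  refine Submodule.span_induction (p := fun u _ => GrSeg.act k R S M N u z ∈
    GrSeg.segrePiece k ℳ 𝒩 (a + b)) ?_ ?_ ?_ ?_ hu
  · rintro _ ⟨x, hx, y, hy, rfl⟩
    refine Submodule.span_induction (p := fun z _ => GrSeg.act k R S M N (x ⊗ₜ[k] y) z ∈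
      GrSeg.segrePiece k ℳ 𝒩 (a + b)) ?_ ?_ ?_ ?_ hz
    · rintro _ ⟨m, hm, n, hn, rfl⟩
      rw [GrSeg.act_tmul]
      exact Submodule.subset_span ⟨x • m, SetLike.GradedSMul.smul_mem hx hm, y • n,
        SetLike.GradedSMul.smul_mem hy hn, rfl⟩
    · rw [map_zero]; exact zero_mem _
    · intro z z' _ _ h h'
      rw [map_add]; exact add_mem h h'
    · intro c z _ h
      rw [map_smul]; exact Submodule.smul_mem _ c h
  · rw [map_zero, LinearMap.zero_apply]; exact zero_mem _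
  · intro u u' _ _ h h'
    rw [map_add, LinearMap.add_apply]; exact add_mem h h'
  · intro c u _ h
    rw [map_smul, LinearMap.smul_apply]; exact Submodule.smul_mem _ c h

theorem smul_mem_of_isSegreMod (hT : GrSeg.IsSegreRing 𝒜 ℬ 𝒯 ψ)
    (hP : GrSeg.IsSegreMod ψ ℳ 𝒩 𝒬 φ) {a b : ℤ} {t : T} {p : P} (ht : t ∈ 𝒯 a)
    (hp : p ∈ 𝒬 b) : t • p ∈ 𝒬 (a + b) := by
  have h1 : ψ t ∈ GrSeg.segrePiece k 𝒜 ℬ a := by
    rw [← hT.2 a]
    exact ⟨t, ht, rfl⟩
  have h2 : φ p ∈ GrSeg.segrePiece k ℳ 𝒩 b := by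
    have h := hP.image_piece b
    have h' : φ p ∈ φ '' (𝒬 b : Set P) := ⟨p, hp, rfl⟩
    rw [h] at h'
    exact h'
  have h3 := act_mem_segrePiece 𝒜 ℬ ℳ 𝒩 h1 h2
  rw [← hP.map_smul] at h3
  have h4 : φ (t • p) ∈ φ '' (𝒬 (a + b) : Set P) := by
    rw [hP.image_piece (a + b)]
    exact h3
  obtain ⟨p', hp', e⟩ := h4
  rw [← hP.injective e]
  exact hp'

/-- the Segre product of graded modules is a graded module over the Segre product of rings -/
theorem gradedSMul_of_isSegreMod (hT : GrSeg.IsSegreRing 𝒜 ℬ 𝒯 ψ)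
    (hP : GrSeg.IsSegreMod ψ ℳ 𝒩 𝒬 φ) : SetLike.GradedSMul 𝒯 𝒬 :=
  ⟨fun {a b t p} ht hp => smul_mem_of_isSegreMod 𝒜 ℬ 𝒯 ψ ℳ 𝒩 𝒬 φ hT hP ht hp⟩

end SegreSMul

end Groth.Agent.Lib.Helper20.SegCM
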