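import Mathlib
import Groth.Agent.Lib.Helper20.SegCM4

/-!
# Cohen–Macaulayness of Segre products of graded modules: the main criterion
-/

set_option autoImplicit false
set_option linter.unusedSectionVars false
set_option linter.unusedVariables false
set_option linter.style.haveILetI false

universe u

open TensorProduct

namespace Groth.Agent.Lib.Helper20.SegCM

open Groth.Agent.Lib.Helper20.GrConv Groth.Agent.Lib.Helper20.GrKit
  Groth.Agent.Lib.Helper20.SegKun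

section Main

variable (k : Type u) [Field k] (R : Type u) [CommRing R] [Nontrivial R] [Algebra k R]
  (𝒜 : ℤ → Submodule k R) [GradedAlgebra 𝒜] (hposR : ∀ n : ℤ, n < 0 → 𝒜 n = ⊥)
  (h0R : 𝒜 0 = Submodule.span k {(1 : R)}) [Algebra.FiniteType k R]
  (S : Type u) [CommRing S] [Nontrivial S] [Algebra k S]
  (ℬ : ℤ → Submodule k S) [GradedAlgebra ℬ] (hposS : ∀ n : ℤ, n < 0 → ℬ n = ⊥)
  (h0S : ℬ 0 = Submodule.span k {(1 : S)}) [Algebra.FiniteType k S]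
  (T : Type u) [CommRing T] [Algebra k T] (𝒯 : ℤ → Submodule k T) [GradedAlgebra 𝒯]
  (ψ : T →ₐ[k] R ⊗[k] S) (hT : GrSeg.IsSegreRing 𝒜 ℬ 𝒯 ψ)
  (mR : HomogeneousIdeal 𝒜)
  (hmR : mR.toIdeal = Ideal.span (⋃ n ∈ Set.Ioi (0 : ℤ), (𝒜 n : Set R)))
  (mS : HomogeneousIdeal ℬ)
  (hmS : mS.toIdeal = Ideal.span (⋃ n ∈ Set.Ioi (0 : ℤ), (ℬ n : Set S)))
  (M : Type u) [AddCommGroup M] [Module R M] [Module k M] [IsScalarTower k R M]
  {τM : Type u} [SetLike τM M] [AddSubgroupClass τM M]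
  (ℳ : ℤ → τM) [DirectSum.Decomposition ℳ] [SetLike.GradedSMul 𝒜 ℳ]
  [Module.Finite R M] (EM : GrLC.StarInjRes 𝒜 ℳ)
  (N : Type u) [AddCommGroup N] [Module S N] [Module k N] [IsScalarTower k S N]
  {τN : Type u} [SetLike τN N] [AddSubgroupClass τN N]
  (𝒩 : ℤ → τN) [DirectSum.Decomposition 𝒩] [SetLike.GradedSMul ℬ 𝒩]
  [Module.Finite S N] (EN : GrLC.StarInjRes ℬ 𝒩)
  (P : Type u) [AddCommGroup P] [Module T P] [Module k P] [IsScalarTower k T P]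
  {τQ : Type u} [SetLike τQ P] [AddSubgroupClass τQ P]
  (𝒬 : ℤ → τQ) [DirectSum.Decomposition 𝒬] [SetLike.GradedSMul 𝒯 𝒬] [Module.Finite T P]
  (φ : P →ₗ[k] M ⊗[k] N) (hP : GrSeg.IsSegreMod ψ ℳ 𝒩 𝒬 φ)

include hposR h0R hposS h0S hT hmR hmS hP in
/-- **Criterion for the Segre product of two locally Cohen–Macaulay graded modules to be locally
Cohen–Macaulay**, in numerical form. -/
theorem cm_segreMod_iff (r s : ℕ) (h1r : 1 ≤ r) (h1s : 1 ≤ s)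
    (hdM : Module.supportDim R M = r) (hdN : Module.supportDim S N = s)
    (hdP : Module.supportDim T P = ((r + s - 1 : ℕ) : WithBot ℕ∞))
    (hMcm : ∀ (q : Ideal R) [q.IsPrime], Subsingleton (LocalizedModule q.primeCompl M) ∨
      LocCoh.IsCohenMacaulayModule (Localization.AtPrime q) (LocalizedModule q.primeCompl M))
    (hNcm : ∀ (q : Ideal S) [q.IsPrime], Subsingleton (LocalizedModule q.primeCompl N) ∨
      LocCoh.IsCohenMacaulayModule (Localization.AtPrime q) (LocalizedModule q.primeCompl N)) :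
    (∀ (q : Ideal T) [q.IsPrime], Subsingleton (LocalizedModule q.primeCompl P) ∨
      LocCoh.IsCohenMacaulayModule (Localization.AtPrime q) (LocalizedModule q.primeCompl P)) ↔
      ∀ q : ℕ, q < r + s - 1 → ∀ d : ℤ,
        Module.finrank (GrLC.deg0 𝒜) (GrLC.comp 𝒜 ℳ d) *
            Module.finrank (GrLC.deg0 ℬ) (EN.Hcomp mS q d) +
          Module.finrank (GrLC.deg0 𝒜) (EM.Hcomp mR q d) *
            Module.finrank (GrLC.deg0 ℬ) (GrLC.comp ℬ 𝒩 d) +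
          (Finset.range (q + 2)).sum (fun i =>
            Module.finrank (GrLC.deg0 𝒜) (EM.Hcomp mR i d) *
              Module.finrank (GrLC.deg0 ℬ) (EN.Hcomp mS (q + 1 - i) d)) = 0 := by
  haveI : IsNoetherianRing R := Algebra.FiniteType.isNoetherianRing k R
  haveI : IsNoetherianRing S := Algebra.FiniteType.isNoetherianRing k S
  haveI : IsNoetherianRing T :=
    Groth.Agent.S18646.result k R 𝒜 hposR h0R S ℬ hposS h0S T 𝒯 ψ hT.1 hT.2
  haveI : Nontrivial (R ⊗[k] S) :=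
    Algebra.TensorProduct.nontrivial_of_algebraMap_injective_of_flat_left k R S
      (algebraMap k S).injective
  haveI : Nontrivial T := ⟨0, 1, fun h => zero_ne_one (α := R ⊗[k] S)
    (by rw [← map_zero ψ, ← map_one ψ, h])⟩
  have h0T : 𝒯 0 = Submodule.span k {(1 : T)} :=
    Groth.Agent.Lib.Helper20.SegDim.piece_zero_eq hT.1 hT.2 h0R h0S
  have hposT : ∀ n : ℤ, n < 0 → 𝒯 n = ⊥ := fun n hn =>
    Groth.Agent.Lib.Helper20.SegDim.piece_eq_bot_of_neg hT.1 hT.2 (hposR n hn)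
  obtain ⟨EP⟩ := nonempty_starInjRes' (𝒜 := 𝒯) (ℳ := 𝒬)
  rw [cm_iff_Hcomp 𝒯 hposT h0T (irrH 𝒯) (irrH_toIdeal 𝒯) 𝒬 EP (r + s - 1) hdP]
  have h0M : ∀ d : ℤ, EM.Hcomp mR 0 d = ⊥ := fun d =>
    Hcomp_eq_bot_of_cm 𝒜 hposR h0R mR hmR ℳ EM r hdM hMcm 0 (by omega) d
  have h0N : ∀ d : ℤ, EN.Hcomp mS 0 d = ⊥ := fun d =>
    Hcomp_eq_bot_of_cm ℬ hposS h0S mS hmS 𝒩 EN s hdN hNcm 0 (by omega) d
  have key := fun q d => kunneth k R 𝒜 hposR h0R S ℬ hposS h0S T 𝒯 ψ hT mR hmR mS hmS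
    (irrH 𝒯) (irrH_toIdeal 𝒯) M ℳ EM N 𝒩 EN P 𝒬 φ hP EP h0M h0N q d
  constructor
  · intro h q hq d
    rw [← key q d, finrank_Hcomp_eq_zero_iff 𝒯 h0T (irrH 𝒯) (irrH_toIdeal 𝒯) 𝒬 EP q d]
    exact h q hq d
  · intro h q hq d
    rw [← finrank_Hcomp_eq_zero_iff 𝒯 h0T (irrH 𝒯) (irrH_toIdeal 𝒯) 𝒬 EP q d, key q d]
    exact h q hq d

include hposR h0R hmR in
theorem finrank_Hcomp_eq_zero_of_ne (r : ℕ) (hdM : Module.supportDim R M = r)
    (hMcm : ∀ (q : Ideal R) [q.IsPrime], Subsingleton (LocalizedModule q.primeCompl M) ∨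
      LocCoh.IsCohenMacaulayModule (Localization.AtPrime q) (LocalizedModule q.primeCompl M))
    (d : ℤ) (i : ℕ) (hi : i ≠ r) :
    Module.finrank (GrLC.deg0 𝒜) (EM.Hcomp mR i d) = 0 := by
  haveI : IsNoetherianRing R := Algebra.FiniteType.isNoetherianRing k R
  rw [finrank_Hcomp_eq_zero_iff 𝒜 h0R mR hmR ℳ EM i d]
  exact Hcomp_eq_bot_of_cm 𝒜 hposR h0R mR hmR ℳ EM r hdM hMcm i hi d

include hposR h0R hposS h0S hT hmR hmS hP in
/-- both factors of dimension at least two -/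
theorem cm_segreMod_iff_A (r s : ℕ) (h2r : 2 ≤ r) (h2s : 2 ≤ s)
    (hdM : Module.supportDim R M = r) (hdN : Module.supportDim S N = s)
    (hdP : Module.supportDim T P = ((r + s - 1 : ℕ) : WithBot ℕ∞))
    (hMcm : ∀ (q : Ideal R) [q.IsPrime], Subsingleton (LocalizedModule q.primeCompl M) ∨
      LocCoh.IsCohenMacaulayModule (Localization.AtPrime q) (LocalizedModule q.primeCompl M))
    (hNcm : ∀ (q : Ideal S) [q.IsPrime], Subsingleton (LocalizedModule q.primeCompl N) ∨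
      LocCoh.IsCohenMacaulayModule (Localization.AtPrime q) (LocalizedModule q.primeCompl N)) :
    (∀ (q : Ideal T) [q.IsPrime], Subsingleton (LocalizedModule q.primeCompl P) ∨
      LocCoh.IsCohenMacaulayModule (Localization.AtPrime q) (LocalizedModule q.primeCompl P)) ↔
      (∀ d : ℤ, (∀ x ∈ ℳ d, x = 0) ∨ EN.Hcomp mS s d = ⊥) ∧
        (∀ d : ℤ, EM.Hcomp mR r d = ⊥ ∨ ∀ y ∈ 𝒩 d, y = 0) := by
  haveI : IsNoetherianRing R := Algebra.FiniteType.isNoetherianRing k R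
  haveI : IsNoetherianRing S := Algebra.FiniteType.isNoetherianRing k S
  rw [cm_segreMod_iff k R 𝒜 hposR h0R S ℬ hposS h0S T 𝒯 ψ hT mR hmR mS hmS M ℳ EM N 𝒩 EN P 𝒬 φ hP
    r s (by omega) (by omega) hdM hdN hdP hMcm hNcm]
  have hnum := fun d : ℤ => numeric_A
    (fun i => Module.finrank (GrLC.deg0 𝒜) (EM.Hcomp mR i d))
    (fun j => Module.finrank (GrLC.deg0 ℬ) (EN.Hcomp mS j d))
    (Module.finrank (GrLC.deg0 𝒜) (GrLC.comp 𝒜 ℳ d))
    (Module.finrank (GrLC.deg0 ℬ) (GrLC.comp ℬ 𝒩 d)) r s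
    (fun i hi => finrank_Hcomp_eq_zero_of_ne k R 𝒜 hposR h0R mR hmR M ℳ EM r hdM hMcm d i hi)
    (fun j hj => finrank_Hcomp_eq_zero_of_ne k S ℬ hposS h0S mS hmS N 𝒩 EN s hdN hNcm d j hj)
    h2r h2s
  have hconv : ∀ d : ℤ,
      (Module.finrank (GrLC.deg0 𝒜) (GrLC.comp 𝒜 ℳ d) *
        Module.finrank (GrLC.deg0 ℬ) (EN.Hcomp mS s d) = 0 ∧
      Module.finrank (GrLC.deg0 𝒜) (EM.Hcomp mR r d) *
        Module.finrank (GrLC.deg0 ℬ) (GrLC.comp ℬ 𝒩 d) = 0) ↔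
      (((∀ x ∈ ℳ d, x = 0) ∨ EN.Hcomp mS s d = ⊥) ∧
        (EM.Hcomp mR r d = ⊥ ∨ ∀ y ∈ 𝒩 d, y = 0)) := by
    intro d
    rw [Nat.mul_eq_zero, Nat.mul_eq_zero, finrank_comp_eq_zero_iff 𝒜 h0R ℳ d,
      finrank_comp_eq_zero_iff ℬ h0S 𝒩 d, finrank_Hcomp_eq_zero_iff 𝒜 h0R mR hmR ℳ EM r d,
      finrank_Hcomp_eq_zero_iff ℬ h0S mS hmS 𝒩 EN s d]
  constructor
  · intro h
    have h' : ∀ d : ℤ, _ := fun d => (hconv d).1 ((hnum d).1 (fun q hq => h q hq d))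
    exact ⟨fun d => (h' d).1, fun d => (h' d).2⟩
  · rintro ⟨h1, h2⟩ q hq d
    exact (hnum d).2 ((hconv d).2 ⟨h1 d, h2 d⟩) q hq

include hposR h0R hposS h0S hT hmR hmS hP in
/-- one factor of dimension one, the other of dimension at least two -/
theorem cm_segreMod_iff_B (s : ℕ) (h2s : 2 ≤ s)
    (hdM : Module.supportDim R M = (1 : ℕ)) (hdN : Module.supportDim S N = s)
    (hdP : Module.supportDim T P = ((1 + s - 1 : ℕ) : WithBot ℕ∞))
    (hMcm : ∀ (q : Ideal R) [q.IsPrime], Subsingleton (LocalizedModule q.primeCompl M) ∨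
      LocCoh.IsCohenMacaulayModule (Localization.AtPrime q) (LocalizedModule q.primeCompl M))
    (hNcm : ∀ (q : Ideal S) [q.IsPrime], Subsingleton (LocalizedModule q.primeCompl N) ∨
      LocCoh.IsCohenMacaulayModule (Localization.AtPrime q) (LocalizedModule q.primeCompl N)) :
    (∀ (q : Ideal T) [q.IsPrime], Subsingleton (LocalizedModule q.primeCompl P) ∨
      LocCoh.IsCohenMacaulayModule (Localization.AtPrime q) (LocalizedModule q.primeCompl P)) ↔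
      (∀ d : ℤ, EM.Hcomp mR 1 d = ⊥ ∨ ∀ y ∈ 𝒩 d, y = 0) := by
  haveI : IsNoetherianRing R := Algebra.FiniteType.isNoetherianRing k R
  haveI : IsNoetherianRing S := Algebra.FiniteType.isNoetherianRing k S
  obtain ⟨EN⟩ := nonempty_starInjRes' (𝒜 := ℬ) (ℳ := 𝒩)
  rw [cm_segreMod_iff k R 𝒜 hposR h0R S ℬ hposS h0S T 𝒯 ψ hT mR hmR mS hmS M ℳ EM N 𝒩 EN P 𝒬 φ hP
    1 s le_rfl (by omega) hdM hdN hdP hMcm hNcm]
  have hnum := fun d : ℤ => numeric_B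
    (fun i => Module.finrank (GrLC.deg0 𝒜) (EM.Hcomp mR i d))
    (fun j => Module.finrank (GrLC.deg0 ℬ) (EN.Hcomp mS j d))
    (Module.finrank (GrLC.deg0 𝒜) (GrLC.comp 𝒜 ℳ d))
    (Module.finrank (GrLC.deg0 ℬ) (GrLC.comp ℬ 𝒩 d)) s
    (fun i hi => finrank_Hcomp_eq_zero_of_ne k R 𝒜 hposR h0R mR hmR M ℳ EM 1 hdM hMcm d i hi)
    (fun j hj => finrank_Hcomp_eq_zero_of_ne k S ℬ hposS h0S mS hmS N 𝒩 EN s hdN hNcm d j hj)
    h2s
  have hconv : ∀ d : ℤ,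
      (Module.finrank (GrLC.deg0 𝒜) (EM.Hcomp mR 1 d) *
        Module.finrank (GrLC.deg0 ℬ) (GrLC.comp ℬ 𝒩 d) = 0) ↔
      (EM.Hcomp mR 1 d = ⊥ ∨ ∀ y ∈ 𝒩 d, y = 0) := by
    intro d
    rw [Nat.mul_eq_zero, finrank_comp_eq_zero_iff ℬ h0S 𝒩 d,
      finrank_Hcomp_eq_zero_iff 𝒜 h0R mR hmR ℳ EM 1 d]
  constructor
  · intro h d
    exact (hconv d).1 ((hnum d).1 (fun q hq => h q hq d))
  · intro h q hq d
    exact (hnum d).2 ((hconv d).2 (h d)) q hq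

include hposR h0R hposS h0S hT hmR hmS hP in
/-- both factors of dimension one -/
theorem cm_segreMod_C
    (hdM : Module.supportDim R M = (1 : ℕ)) (hdN : Module.supportDim S N = (1 : ℕ))
    (hdP : Module.supportDim T P = ((1 + 1 - 1 : ℕ) : WithBot ℕ∞))
    (hMcm : ∀ (q : Ideal R) [q.IsPrime], Subsingleton (LocalizedModule q.primeCompl M) ∨
      LocCoh.IsCohenMacaulayModule (Localization.AtPrime q) (LocalizedModule q.primeCompl M))
    (hNcm : ∀ (q : Ideal S) [q.IsPrime], Subsingleton (LocalizedModule q.primeCompl N) ∨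
      LocCoh.IsCohenMacaulayModule (Localization.AtPrime q) (LocalizedModule q.primeCompl N)) :
    ∀ (q : Ideal T) [q.IsPrime], Subsingleton (LocalizedModule q.primeCompl P) ∨
      LocCoh.IsCohenMacaulayModule (Localization.AtPrime q) (LocalizedModule q.primeCompl P) := by
  haveI : IsNoetherianRing R := Algebra.FiniteType.isNoetherianRing k R
  haveI : IsNoetherianRing S := Algebra.FiniteType.isNoetherianRing k S
  obtain ⟨EM⟩ := nonempty_starInjRes' (𝒜 := 𝒜) (ℳ := ℳ)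
  obtain ⟨EN⟩ := nonempty_starInjRes' (𝒜 := ℬ) (ℳ := 𝒩)
  rw [cm_segreMod_iff k R 𝒜 hposR h0R S ℬ hposS h0S T 𝒯 ψ hT mR hmR mS hmS M ℳ EM N 𝒩 EN P 𝒬 φ hP
    1 1 le_rfl le_rfl hdM hdN hdP hMcm hNcm]
  intro q hq d
  exact numeric_C
    (fun i => Module.finrank (GrLC.deg0 𝒜) (EM.Hcomp mR i d))
    (fun j => Module.finrank (GrLC.deg0 ℬ) (EN.Hcomp mS j d))
    (Module.finrank (GrLC.deg0 𝒜) (GrLC.comp 𝒜 ℳ d))
    (Module.finrank (GrLC.deg0 ℬ) (GrLC.comp ℬ 𝒩 d))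
    (fun i hi => finrank_Hcomp_eq_zero_of_ne k R 𝒜 hposR h0R mR hmR M ℳ EM 1 hdM hMcm d i hi)
    (fun j hj => finrank_Hcomp_eq_zero_of_ne k S ℬ hposS h0S mS hmS N 𝒩 EN 1 hdN hNcm d j hj)
    q hq

end Main

end Groth.Agent.Lib.Helper20.SegCM
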