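import Mathlib
import Groth.Agent.Lib.Helper20.SegCM5

/-!
# Cohen–Macaulayness of Segre products of graded rings
-/

set_option autoImplicit false
set_option linter.unusedSectionVars false
set_option linter.unusedVariables false
set_option linter.style.haveILetI false

universe u

open TensorProduct

namespace Groth.Agent.Lib.Helper20.SegCM

open Groth.Agent.Lib.Helper20.GrConv Groth.Agent.Lib.Helper20.GrKit
  Groth.Agent.Lib.Helper20.SegKun Groth.Agent.Lib.Helper21.GrCMVertex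
  Groth.Agent.Lib.Helper21.FlatLocal

section RingMod

variable {T : Type u} [CommRing T] [IsNoetherianRing T]

theorem isCMRing_iff_module :
    LocCoh.IsCohenMacaulayRing T ↔
      ∀ (q : Ideal T) [q.IsPrime], Subsingleton (LocalizedModule q.primeCompl T) ∨
        LocCoh.IsCohenMacaulayModule (Localization.AtPrime q)
          (LocalizedModule q.primeCompl T) := by
  constructor
  · intro h q hq
    right
    exact (cmloc_iff q).2 (h.isCohenMacaulayLocalRing_localization q)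
  · intro h
    refine { isCohenMacaulayLocalRing_localization := fun q hq => ?_ }
    rcases h q with hsub | hcm
    · exfalso
      haveI : Nontrivial (LocalizedModule q.primeCompl T) :=
        (localizedSelfEquiv q).toEquiv.nontrivial
      exact not_subsingleton _ hsub
    · exact (cmloc_iff q).1 hcm

theorem nontrivial_of_dim {R : Type u} [CommRing R] (r : ℕ) (hr : ringKrullDim R = r) :
    Nontrivial R := by
  by_contra h
  rw [not_nontrivial_iff_subsingleton] at h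
  rw [ringKrullDim_eq_bot_of_subsingleton] at hr
  exact absurd hr (by simp)

end RingMod

section Ring

variable (k : Type u) [Field k] (R : Type u) [CommRing R] [Algebra k R]
  (𝒜 : ℤ → Submodule k R) [GradedAlgebra 𝒜] (hposR : ∀ n : ℤ, n < 0 → 𝒜 n = ⊥)
  (h0R : 𝒜 0 = Submodule.span k {(1 : R)}) [Algebra.FiniteType k R]
  (S : Type u) [CommRing S] [Algebra k S]
  (ℬ : ℤ → Submodule k S) [GradedAlgebra ℬ] (hposS : ∀ n : ℤ, n < 0 → ℬ n = ⊥)
  (h0S : ℬ 0 = Submodule.span k {(1 : S)}) [Algebra.FiniteType k S]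
  (T : Type u) [CommRing T] [Algebra k T] (𝒯 : ℤ → Submodule k T) [GradedAlgebra 𝒯]
  (ψ : T →ₐ[k] R ⊗[k] S) (hψ : Function.Injective ψ)
  (hdegT : ∀ n : ℤ, (𝒯 n).map ψ.toLinearMap =
    Submodule.span k {x : R ⊗[k] S | ∃ a ∈ 𝒜 n, ∃ b ∈ ℬ n, x = a ⊗ₜ[k] b})
  [LocCoh.IsCohenMacaulayRing R] [LocCoh.IsCohenMacaulayRing S]
  (mR : HomogeneousIdeal 𝒜)
  (hmR : mR.toIdeal = Ideal.span (⋃ n ∈ Set.Ioi (0 : ℤ), (𝒜 n : Set R)))
  (I : GrLC.StarInjRes 𝒜 𝒜)
  (mS : HomogeneousIdeal ℬ)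
  (hmS : mS.toIdeal = Ideal.span (⋃ n ∈ Set.Ioi (0 : ℤ), (ℬ n : Set S)))
  (J : GrLC.StarInjRes ℬ ℬ)

include hposR h0R hposS h0S hψ hdegT hmR hmS in
theorem cm_segreRing_iff_A (r s : ℕ) (hr : ringKrullDim R = r) (hs : ringKrullDim S = s)
    (h2r : 2 ≤ r) (h2s : 2 ≤ s) :
    LocCoh.IsCohenMacaulayRing T ↔
      (∀ n : ℤ, 𝒜 n = ⊥ ∨ J.Hcomp mS s n = ⊥) ∧ (∀ n : ℤ, I.Hcomp mR r n = ⊥ ∨ ℬ n = ⊥) := by
  haveI : Nontrivial R := nontrivial_of_dim r hr
  haveI : Nontrivial S := nontrivial_of_dim s hs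
  have hT : GrSeg.IsSegreRing 𝒜 ℬ 𝒯 ψ := ⟨hψ, hdegT⟩
  haveI : IsNoetherianRing T :=
    Groth.Agent.S18646.result k R 𝒜 hposR h0R S ℬ hposS h0S T 𝒯 ψ hψ hdegT
  have hP := isSegreMod_self k R 𝒜 S ℬ T 𝒯 ψ hψ hdegT
  have hdM : Module.supportDim R R = r := by
    rw [Module.supportDim_self_eq_ringKrullDim, hr]
  have hdN : Module.supportDim S S = s := by
    rw [Module.supportDim_self_eq_ringKrullDim, hs]
  have hdP : Module.supportDim T T = ((r + s - 1 : ℕ) : WithBot ℕ∞) := by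
    rw [Module.supportDim_self_eq_ringKrullDim]
    exact Groth.Agent.Lib.Helper20.SegDim.ringKrullDim_segre 𝒜 ℬ 𝒯 ψ hposR h0R hposS h0S hψ hdegT
      r s hr hs (by omega) (by omega)
  rw [isCMRing_iff_module, cm_segreMod_iff_A k R 𝒜 hposR h0R S ℬ hposS h0S T 𝒯 ψ hT
    mR hmR mS hmS R 𝒜 I S ℬ J T 𝒯 ψ.toLinearMap hP r s h2r h2s hdM hdN hdP
    (isCMRing_iff_module.1 inferInstance) (isCMRing_iff_module.1 inferInstance)]
  simp only [Submodule.eq_bot_iff]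

include hposR h0R hposS h0S hψ hdegT hmR in
theorem cm_segreRing_iff_B (s : ℕ) (hr : ringKrullDim R = 1) (hs : ringKrullDim S = s)
    (h2s : 2 ≤ s) :
    LocCoh.IsCohenMacaulayRing T ↔ (∀ n : ℤ, I.Hcomp mR 1 n = ⊥ ∨ ℬ n = ⊥) := by
  have hr' : ringKrullDim R = ((1 : ℕ) : WithBot ℕ∞) := by exact_mod_cast hr
  haveI : Nontrivial R := nontrivial_of_dim 1 hr'
  haveI : Nontrivial S := nontrivial_of_dim s hs
  have hT : GrSeg.IsSegreRing 𝒜 ℬ 𝒯 ψ := ⟨hψ, hdegT⟩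
  haveI : IsNoetherianRing T :=
    Groth.Agent.S18646.result k R 𝒜 hposR h0R S ℬ hposS h0S T 𝒯 ψ hψ hdegT
  have hP := isSegreMod_self k R 𝒜 S ℬ T 𝒯 ψ hψ hdegT
  have hdM : Module.supportDim R R = ((1 : ℕ) : WithBot ℕ∞) := by
    rw [Module.supportDim_self_eq_ringKrullDim, hr']
  have hdN : Module.supportDim S S = s := by
    rw [Module.supportDim_self_eq_ringKrullDim, hs]
  have hdP : Module.supportDim T T = ((1 + s - 1 : ℕ) : WithBot ℕ∞) := by
    rw [Module.supportDim_self_eq_ringKrullDim]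
    exact Groth.Agent.Lib.Helper20.SegDim.ringKrullDim_segre 𝒜 ℬ 𝒯 ψ hposR h0R hposS h0S hψ hdegT
      1 s hr' hs le_rfl (by omega)
  rw [isCMRing_iff_module, cm_segreMod_iff_B k R 𝒜 hposR h0R S ℬ hposS h0S T 𝒯 ψ hT
    mR hmR (irrH ℬ) (irrH_toIdeal ℬ) R 𝒜 I S ℬ T 𝒯 ψ.toLinearMap hP s h2s hdM hdN hdP
    (isCMRing_iff_module.1 inferInstance) (isCMRing_iff_module.1 inferInstance)]
  simp only [Submodule.eq_bot_iff]

include hposR h0R hposS h0S hψ hdegT in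
theorem cm_segreRing_C (hr : ringKrullDim R = 1) (hs : ringKrullDim S = 1) :
    LocCoh.IsCohenMacaulayRing T := by
  have hr' : ringKrullDim R = ((1 : ℕ) : WithBot ℕ∞) := by exact_mod_cast hr
  have hs' : ringKrullDim S = ((1 : ℕ) : WithBot ℕ∞) := by exact_mod_cast hs
  haveI : Nontrivial R := nontrivial_of_dim 1 hr'
  haveI : Nontrivial S := nontrivial_of_dim 1 hs'
  have hT : GrSeg.IsSegreRing 𝒜 ℬ 𝒯 ψ := ⟨hψ, hdegT⟩
  haveI : IsNoetherianRing T :=
    Groth.Agent.S18646.result k R 𝒜 hposR h0R S ℬ hposS h0S T 𝒯 ψ hψ hdegT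
  have hP := isSegreMod_self k R 𝒜 S ℬ T 𝒯 ψ hψ hdegT
  have hdM : Module.supportDim R R = ((1 : ℕ) : WithBot ℕ∞) := by
    rw [Module.supportDim_self_eq_ringKrullDim, hr']
  have hdN : Module.supportDim S S = ((1 : ℕ) : WithBot ℕ∞) := by
    rw [Module.supportDim_self_eq_ringKrullDim, hs']
  have hdP : Module.supportDim T T = ((1 + 1 - 1 : ℕ) : WithBot ℕ∞) := by
    rw [Module.supportDim_self_eq_ringKrullDim]
    exact Groth.Agent.Lib.Helper20.SegDim.ringKrullDim_segre 𝒜 ℬ 𝒯 ψ hposR h0R hposS h0S hψ hdegT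
      1 1 hr' hs' le_rfl le_rfl
  rw [isCMRing_iff_module]
  exact cm_segreMod_C k R 𝒜 hposR h0R S ℬ hposS h0S T 𝒯 ψ hT
    (irrH 𝒜) (irrH_toIdeal 𝒜) (irrH ℬ) (irrH_toIdeal ℬ) R 𝒜 S ℬ T 𝒯 ψ.toLinearMap hP hdM hdN hdP
    (isCMRing_iff_module.1 inferInstance) (isCMRing_iff_module.1 inferInstance)

end Ring

end Groth.Agent.Lib.Helper20.SegCM
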