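import Mathlib
import Groth.Agent.Lib.Helper20.Ku7

/-!
# The cohomology of `A'⊗B + A⊗B'` inside `A⊗B`: the count with general vanishing conditions
-/

set_option autoImplicit false
set_option linter.unusedSectionVars false
set_option linter.unusedVariables false
set_option linter.style.haveILetI false

namespace Groth.Agent.Lib.Helper20.Ku

open DirectSum TensorProduct

universe u

variable {k : Type u} [Field k]

theorem le_of_finrank_SQ_eq_zero {V : Type u} [AddCommGroup V] [Module k V]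
    {Z B : Submodule k V} [Module.Finite k (SQ Z B)] (h : Module.finrank k (SQ Z B) = 0) :
    Z ≤ B := by
  haveI : Subsingleton (SQ Z B) := Module.finrank_zero_iff.1 h
  intro z hz
  have : (Submodule.Quotient.mk (⟨z, hz⟩ : Z) : SQ Z B) = 0 := Subsingleton.elim _ _
  exact (SQ_mk_eq_zero (⟨z, hz⟩ : Z)).1 this

variable {A B : Cx k}

/-- **The main count**, with the vanishing of the connecting maps as hypotheses. -/
theorem finrank_sum' {S₁ S : A.Sub} {S₁' S' : B.Sub} (h : S₁.le S) (h' : S₁'.le S')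
    [∀ i, Module.Finite k (S₁.cx.H i)] [∀ i, Module.Finite k (S.cx.H i)]
    [∀ j, Module.Finite k (S₁'.cx.H j)] [∀ j, Module.Finite k (S'.cx.H j)] (q : ℕ)
    (v₂ : LinearMap.ker (D A B) ⊓ TPq S₁ S₁' q ≤ BPq S₁ S' q)
    (v₃ : LinearMap.ker (D A B) ⊓ TPq S₁ S₁' q ≤ BPq S S₁' q)
    (w₂ : LinearMap.ker (D A B) ⊓ TPq S₁ S₁' (q + 1) ≤ BPq S₁ S' (q + 1))
    (w₃ : LinearMap.ker (D A B) ⊓ TPq S₁ S₁' (q + 1) ≤ BPq S S₁' (q + 1)) :
    Module.finrank k (SQ (LinearMap.ker (D A B) ⊓ (TPq S₁ S' q ⊔ TPq S S₁' q))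
      (BPq S₁ S' q ⊔ BPq S S₁' q)) =
      Module.finrank k (HP S₁ S' q) + Module.finrank k (HP S S₁' q) +
        Module.finrank k (HP S₁ S₁' (q + 1)) := by
  have e1 := TPq_inf h h' q
  have e2 := TPq_inf h h' (q + 1)
  haveI i1 : Module.Finite k (SQ (LinearMap.ker (D A B) ⊓ TPq S₁ S' q)
      ((TPprev S₁ S' q).map (D A B))) := by
    rw [← BPq_eq]; exact finite_HP S₁ S' q
  haveI i2 : Module.Finite k (SQ (LinearMap.ker (D A B) ⊓ TPq S S₁' q)
      ((TPprev S S₁' q).map (D A B))) := by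
    rw [← BPq_eq]; exact finite_HP S S₁' q
  haveI i3 : Module.Finite k (SQ (LinearMap.ker (D A B) ⊓ (TPq S₁ S' (q + 1) ⊓ TPq S S₁' (q + 1)))
      ((TPq S₁ S' q ⊓ TPq S S₁' q).map (D A B))) := by
    rw [e1, e2, ← BPq_succ]; exact finite_HP S₁ S₁' (q + 1)
  have key := mv_finrank (D A B) (D_D A B) (TPprev S₁ S' q) (TPprev S S₁' q)
    (TPq S₁ S' q) (TPq S S₁' q) (TPq S₁ S' (q + 1)) (TPq S S₁' (q + 1))
    (TPprev_map_le S₁ S' q) (TPprev_map_le S S₁' q)
    (by rintro _ ⟨x, hx, rfl⟩; exact D_mem_TPq S₁ S' hx)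
    (by rintro _ ⟨x, hx, rfl⟩; exact D_mem_TPq S S₁' hx)
    (by rw [e1, ← BPq_eq]; exact v₂)
    (by rw [e1, ← BPq_eq]; exact v₃)
    (by rw [e2, ← BPq_succ]; exact w₂)
    (by rw [e2, ← BPq_succ]; exact w₃)
  rw [e1, e2, ← BPq_eq, ← BPq_eq, ← BPq_succ] at key
  exact key

/-- the count when the cohomology of the two summands vanishes in degrees `q`, `q + 1` -/
theorem finrank_sum_top {S₁ S : A.Sub} {S₁' S' : B.Sub} (h : S₁.le S) (h' : S₁'.le S')
    [∀ i, Module.Finite k (S₁.cx.H i)] [∀ i, Module.Finite k (S.cx.H i)]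
    [∀ j, Module.Finite k (S₁'.cx.H j)] [∀ j, Module.Finite k (S'.cx.H j)] (q : ℕ)
    (z₁ : Module.finrank k (HP S₁ S' q) = 0) (z₂ : Module.finrank k (HP S S₁' q) = 0)
    (z₃ : Module.finrank k (HP S₁ S' (q + 1)) = 0)
    (z₄ : Module.finrank k (HP S S₁' (q + 1)) = 0) :
    Module.finrank k (SQ (LinearMap.ker (D A B) ⊓ (TPq S₁ S' q ⊔ TPq S S₁' q))
      (BPq S₁ S' q ⊔ BPq S S₁' q)) = Module.finrank k (HP S₁ S₁' (q + 1)) := by
  have e1 := TPq_inf h h' q
  have e2 := TPq_inf h h' (q + 1)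
  haveI := finite_HP S₁ S' q
  haveI := finite_HP S S₁' q
  haveI := finite_HP S₁ S' (q + 1)
  haveI := finite_HP S S₁' (q + 1)
  have l₁ := le_of_finrank_SQ_eq_zero z₁
  have l₂ := le_of_finrank_SQ_eq_zero z₂
  have l₃ := le_of_finrank_SQ_eq_zero z₃
  have l₄ := le_of_finrank_SQ_eq_zero z₄
  rw [finrank_sum' h h' q
    (le_trans (inf_le_inf_left _ (by rw [← e1]; exact inf_le_left)) l₁)
    (le_trans (inf_le_inf_left _ (by rw [← e1]; exact inf_le_right)) l₂)
    (le_trans (inf_le_inf_left _ (by rw [← e2]; exact inf_le_left)) l₃)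
    (le_trans (inf_le_inf_left _ (by rw [← e2]; exact inf_le_right)) l₄), z₁, z₂, zero_add,
    zero_add]

end Groth.Agent.Lib.Helper20.Ku
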