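import Mathlib
import Groth.Agent.Lib.Helper20.SegTot9
import Groth.Agent.Lib.Helper20.Ku8

/-!
# The Künneth formula for Segre products in high cohomological degrees
-/

set_option autoImplicit false
set_option linter.unusedSectionVars false
set_option linter.unusedVariables false
set_option linter.style.haveILetI false

universe u

open TensorProduct DirectSum

namespace Groth.Agent.Lib.Helper20.SegTot

open Groth.Agent.Lib.Helper26.GrProj Groth.Agent.Lib.Helper20.SegAc Groth.Agent.Lib.Helper20.GrKit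
  Groth.Agent.Lib.Helper20.Ku

variable {k : Type u} [Field k] {R S T : Type u} [CommRing R] [CommRing S] [CommRing T]
  [Algebra k R] [Algebra k S] [Algebra k T]
  {𝒜 : ℤ → AddSubgroup R} [GradedRing 𝒜] (hkA : ∀ c : k, algebraMap k R c ∈ 𝒜 0)
  {ℬ : ℤ → AddSubgroup S} [GradedRing ℬ] (hkB : ∀ c : k, algebraMap k S c ∈ ℬ 0)
  {𝒯 : ℤ → AddSubgroup T} [GradedRing 𝒯] (hkT : ∀ c : k, algebraMap k T c ∈ 𝒯 0)
  (ψ : T →ₐ[k] R ⊗[k] S) (hψ : ∀ n t, t ∈ 𝒯 n → ψ t ∈ GrSeg.segrePiece k 𝒜 ℬ n)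
  {M : Type u} [AddCommGroup M] [Module R M] [Module k M] [IsScalarTower k R M]
  {ℳ : ℤ → AddSubgroup M}
  [DirectSum.Decomposition ℳ] [SetLike.GradedSMul 𝒜 ℳ]
  (E : GrLC.StarInjRes 𝒜 ℳ) [∀ i, Module k (E.X i).carrier]
  [∀ i, IsScalarTower k R (E.X i).carrier]
  {N : Type u} [AddCommGroup N] [Module S N] [Module k N] [IsScalarTower k S N]
  {𝒩 : ℤ → AddSubgroup N}
  [DirectSum.Decomposition 𝒩] [SetLike.GradedSMul ℬ 𝒩]
  (F : GrLC.StarInjRes ℬ 𝒩) [∀ j, Module k (F.X j).carrier]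
  [∀ j, IsScalarTower k S (F.X j).carrier]
  (aR : HomogeneousIdeal 𝒜) (aS : HomogeneousIdeal ℬ) (aT : HomogeneousIdeal 𝒯)
  {P : Type u} [AddCommGroup P] [Module T P] [Module k P] [IsScalarTower k T P]
  {𝒬 : ℤ → AddSubgroup P} [DirectSum.Decomposition 𝒬] [SetLike.GradedSMul 𝒯 𝒬]
  (φ : P →ₗ[k] M ⊗[k] N) (hφi : Function.Injective φ)
  (hφp : ∀ n : ℤ, φ '' (𝒬 n : Set P) = (GrSeg.segrePiece k ℳ 𝒩 n : Set (M ⊗[k] N)))
  (hφs : ∀ (t : T) (p : P), φ (t • p) = GrSeg.act k R S M N (ψ t) (φ p))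
  (EP : GrLC.StarInjRes 𝒯 𝒬)

local notation "AA" => cxOf (k := k) E
local notation "BB" => cxOf (k := k) F
local notation "SGA" => SubG hkA E aR.toIdeal
local notation "SEA" => SubE hkA E
local notation "SGB" => SubG hkB F aS.toIdeal
local notation "SEB" => SubE hkB F

theorem finrank_eq_zero_of_eq_bot {K V : Type u} [Ring K] [Nontrivial K] [AddCommGroup V] [Module K V]
    {W : Submodule K V} (h : W = ⊥) : Module.finrank K W = 0 := by
  subst h
  exact Module.finrank_zero_of_subsingleton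

include hψ hφi hφp hφs in
/-- **Künneth formula in high degrees**: when the local cohomology of both factors vanishes in the
degrees `q` and `q + 1`, no depth hypothesis is needed. -/
theorem kunneth_AS_top [Nontrivial R] [Nontrivial S] [IsNoetherianRing T]
    (hiA : Function.Bijective (i0 (k := k) hkA)) (hiB : Function.Bijective (i0 (k := k) hkB))
    (hiT : Function.Bijective (i0 (k := k) hkT))
    (hyp : TorsHyp ψ E F aR aS aT.toIdeal)
    (hacyc : ∀ j, 1 ≤ j → Subsingleton (LocCoh.H aT.toIdeal j (TP ψ (AA).T (BB).T)))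
    [hfM : ∀ i e, Module.Finite (GrLC.deg0 𝒜) (E.Hcomp aR i e)]
    [hfM0 : ∀ e, Module.Finite (GrLC.deg0 𝒜) (GrLC.comp 𝒜 ℳ e)]
    [hfN : ∀ i e, Module.Finite (GrLC.deg0 ℬ) (F.Hcomp aS i e)]
    [hfN0 : ∀ e, Module.Finite (GrLC.deg0 ℬ) (GrLC.comp ℬ 𝒩 e)]
    (q : ℕ) (d : ℤ)
    (hq1 : E.Hcomp aR q d = ⊥) (hq2 : F.Hcomp aS q d = ⊥)
    (hq3 : E.Hcomp aR (q + 1) d = ⊥) (hq4 : F.Hcomp aS (q + 1) d = ⊥) :
    Module.finrank (GrLC.deg0 𝒯) (EP.Hcomp aT q d) =
      (Finset.range (q + 2)).sum (fun i => Module.finrank (GrLC.deg0 𝒜) (E.Hcomp aR i d) *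
        Module.finrank (GrLC.deg0 ℬ) (F.Hcomp aS (q + 1 - i) d)) := by
  rw [← finrank_Hcomp_eq_SQ hkA hkB hkT ψ hψ E F aR aS aT φ hφi hφp hφs EP hiT hyp hacyc q d]
  haveI i1 : ∀ i, Module.Finite k ((SGA d).cx.H i) := fun i => finite_H_SubG hkA E hiA aR d i
  haveI i2 : ∀ i, Module.Finite k ((SEA d).cx.H i) := fun i => finite_H_SubE hkA E hiA d i
  haveI i3 : ∀ i, Module.Finite k ((SGB d).cx.H i) := fun i => finite_H_SubG hkB F hiB aS d i
  haveI i4 : ∀ i, Module.Finite k ((SEB d).cx.H i) := fun i => finite_H_SubE hkB F hiB d i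
  have e1 : ∀ q' : ℕ, ∑ i ∈ Finset.range (q' + 1), Module.finrank k ((SGA d).cx.H i) *
      Module.finrank k ((SEB d).cx.H (q' - i)) =
      Module.finrank k ((SGA d).cx.H q') * Module.finrank k ((SEB d).cx.H 0) := fun q' =>
    sum_collapse_last (fun i => Module.finrank k ((SGA d).cx.H i))
      (fun j => Module.finrank k ((SEB d).cx.H j)) q' (fun j => finrank_H_SubE_succ hkB F d j)
  have e2 : ∀ q' : ℕ, ∑ i ∈ Finset.range (q' + 1), Module.finrank k ((SEA d).cx.H i) *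
      Module.finrank k ((SGB d).cx.H (q' - i)) =
      Module.finrank k ((SEA d).cx.H 0) * Module.finrank k ((SGB d).cx.H q') := fun q' =>
    sum_collapse_first (fun i => Module.finrank k ((SEA d).cx.H i))
      (fun j => Module.finrank k ((SGB d).cx.H j)) q' (fun j => finrank_H_SubE_succ hkA E d j)
  have z₁ : Module.finrank k (HP (SGA d) (SEB d) q) = 0 := by
    rw [finrank_HP, e1 q, finrank_H_SubG hkA E hiA aR d q, finrank_eq_zero_of_eq_bot hq1,
      zero_mul]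
  have z₂ : Module.finrank k (HP (SEA d) (SGB d) q) = 0 := by
    rw [finrank_HP, e2 q, finrank_H_SubG hkB F hiB aS d q, finrank_eq_zero_of_eq_bot hq2,
      mul_zero]
  have z₃ : Module.finrank k (HP (SGA d) (SEB d) (q + 1)) = 0 := by
    rw [finrank_HP, e1 (q + 1), finrank_H_SubG hkA E hiA aR d (q + 1),
      finrank_eq_zero_of_eq_bot hq3, zero_mul]
  have z₄ : Module.finrank k (HP (SEA d) (SGB d) (q + 1)) = 0 := by
    rw [finrank_HP, e2 (q + 1), finrank_H_SubG hkB F hiB aS d (q + 1),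
      finrank_eq_zero_of_eq_bot hq4, mul_zero]
  have key := finrank_sum_top (SubG_le hkA E aR.toIdeal d) (SubG_le hkB F aS.toIdeal d) q
    z₁ z₂ z₃ z₄
  unfold Wq
  rw [key, finrank_HP]
  refine Finset.sum_congr rfl fun i _ => ?_
  rw [finrank_H_SubG hkA E hiA aR d i, finrank_H_SubG hkB F hiB aS d (q + 1 - i)]

end Groth.Agent.Lib.Helper20.SegTot
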