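import Mathlib
import Groth.Agent.Lib.Helper20.SegKun
import Groth.Agent.Lib.Helper20.SegTot10

/-!
# The Künneth formula of Goto–Watanabe in high cohomological degrees (no depth hypotheses)
-/

set_option autoImplicit false
set_option linter.unusedSectionVars false
set_option linter.unusedVariables false
set_option linter.style.haveILetI false

universe u

open TensorProduct DirectSum

namespace Groth.Agent.Lib.Helper20.SegKun

open Groth.Agent.Lib.Helper26.GrProj Groth.Agent.Lib.Helper20.SegAc Groth.Agent.Lib.Helper20.GrKit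
  Groth.Agent.Lib.Helper20.Ku Groth.Agent.Lib.Helper20.SegTot Groth.Agent.Lib.Helper20.GrConv

section MainTop

variable (k : Type u) [Field k] (R : Type u) [CommRing R] [Nontrivial R] [Algebra k R]
  (𝒜 : ℤ → Submodule k R) [GradedAlgebra 𝒜] (hposR : ∀ n : ℤ, n < 0 → 𝒜 n = ⊥)
  (h0R : 𝒜 0 = Submodule.span k {(1 : R)}) [Algebra.FiniteType k R]
  (S : Type u) [CommRing S] [Nontrivial S] [Algebra k S]
  (ℬ : ℤ → Submodule k S) [GradedAlgebra ℬ] (hposS : ∀ n : ℤ, n < 0 → ℬ n = ⊥)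
  (h0S : ℬ 0 = Submodule.span k {(1 : S)}) [Algebra.FiniteType k S]
  (T : Type u) [CommRing T] [Algebra k T] (𝒯 : ℤ → Submodule k T) [GradedAlgebra 𝒯]
  (ψ : T →ₐ[k] R ⊗[k] S) (hT : GrSeg.IsSegreRing 𝒜 ℬ 𝒯 ψ)
  (mR : HomogeneousIdeal 𝒜)
  (hmR : mR.toIdeal = Ideal.span (⋃ n ∈ Set.Ioi (0 : ℤ), (𝒜 n : Set R)))
  (mS : HomogeneousIdeal ℬ)
  (hmS : mS.toIdeal = Ideal.span (⋃ n ∈ Set.Ioi (0 : ℤ), (ℬ n : Set S)))
  (mT : HomogeneousIdeal 𝒯)
  (hmT : mT.toIdeal = Ideal.span (⋃ n ∈ Set.Ioi (0 : ℤ), (𝒯 n : Set T)))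
  (M : Type u) [AddCommGroup M] [Module R M] [Module k M] [IsScalarTower k R M]
  {τM : Type u} [SetLike τM M] [AddSubgroupClass τM M]
  (ℳ : ℤ → τM) [DirectSum.Decomposition ℳ] [SetLike.GradedSMul 𝒜 ℳ]
  [Module.Finite R M] (EM : GrLC.StarInjRes 𝒜 ℳ)
  (N : Type u) [AddCommGroup N] [Module S N] [Module k N] [IsScalarTower k S N]
  {τN : Type u} [SetLike τN N] [AddSubgroupClass τN N]
  (𝒩 : ℤ → τN) [DirectSum.Decomposition 𝒩] [SetLike.GradedSMul ℬ 𝒩]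
  [Module.Finite S N] (EN : GrLC.StarInjRes ℬ 𝒩)
  (P : Type u) [AddCommGroup P] [Module T P] [Module k P] [IsScalarTower k T P]
  {τQ : Type u} [SetLike τQ P] [AddSubgroupClass τQ P]
  (𝒬 : ℤ → τQ) [DirectSum.Decomposition 𝒬] [SetLike.GradedSMul 𝒯 𝒬]
  (φ : P →ₗ[k] M ⊗[k] N) (hP : GrSeg.IsSegreMod ψ ℳ 𝒩 𝒬 φ) (EP : GrLC.StarInjRes 𝒯 𝒬)

include hposR h0R hposS h0S hT hmR hmS hmT hP in
/-- **Goto–Watanabe's Künneth formula in high degrees**: if the local cohomology of `M` and `N`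
vanishes in the cohomological degrees `q` and `q + 1` (in the internal degree `d`), then
`H^q(M # N)_d` has dimension `Σ_{i+j=q+1} dim H^i(M)_d · dim H^j(N)_d`. -/
theorem kunneth_top (q : ℕ) (d : ℤ)
    (hq1 : EM.Hcomp mR q d = ⊥) (hq2 : EN.Hcomp mS q d = ⊥)
    (hq3 : EM.Hcomp mR (q + 1) d = ⊥) (hq4 : EN.Hcomp mS (q + 1) d = ⊥) :
    Module.finrank (GrLC.deg0 𝒯) (EP.Hcomp mT q d) =
      (Finset.range (q + 2)).sum (fun i => Module.finrank (GrLC.deg0 𝒜) (EM.Hcomp mR i d) *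
        Module.finrank (GrLC.deg0 ℬ) (EN.Hcomp mS (q + 1 - i) d)) := by
  haveI : IsNoetherianRing R := Algebra.FiniteType.isNoetherianRing k R
  haveI : IsNoetherianRing S := Algebra.FiniteType.isNoetherianRing k S
  haveI : IsNoetherianRing (R ⊗[k] S) := Algebra.FiniteType.isNoetherianRing k _
  haveI : IsNoetherianRing T :=
    Groth.Agent.S18646.result k R 𝒜 hposR h0R S ℬ hposS h0S T 𝒯 ψ hT.1 hT.2
  haveI : Nontrivial (R ⊗[k] S) :=
    Algebra.TensorProduct.nontrivial_of_algebraMap_injective_of_flat_left k R S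
      (algebraMap k S).injective
  haveI : Nontrivial T := ⟨0, 1, fun h => zero_ne_one (α := R ⊗[k] S)
    (by rw [← map_zero ψ, ← map_one ψ, h])⟩
  have h0T : 𝒯 0 = Submodule.span k {(1 : T)} :=
    Groth.Agent.Lib.Helper20.SegDim.piece_zero_eq hT.1 hT.2 h0R h0S
  letI : ∀ i, Module k ((resToAS EM).X i).carrier :=
    fun i => Module.compHom ((resToAS EM).X i).carrier (algebraMap k R)
  haveI : ∀ i, IsScalarTower k R ((resToAS EM).X i).carrier := fun i => ⟨fun c r x => by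
    change (c • r) • x = algebraMap k R c • (r • x)
    rw [Algebra.smul_def, mul_smul]⟩
  letI : ∀ i, Module k ((resToAS EN).X i).carrier :=
    fun i => Module.compHom ((resToAS EN).X i).carrier (algebraMap k S)
  haveI : ∀ i, IsScalarTower k S ((resToAS EN).X i).carrier := fun i => ⟨fun c r x => by
    change (c • r) • x = algebraMap k S c • (r • x)
    rw [Algebra.smul_def, mul_smul]⟩
  have hψ' : ∀ n t, t ∈ asGr 𝒯 n → ψ t ∈ GrSeg.segrePiece k (asGr 𝒜) (asGr ℬ) n := by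
    intro n t ht
    have h1 : ψ t ∈ (𝒯 n).map ψ.toLinearMap := ⟨t, ht, rfl⟩
    rw [hT.2 n] at h1
    exact h1
  have hφp' : ∀ n : ℤ, φ '' (asGrM 𝒬 n : Set P) =
      (GrSeg.segrePiece k (asGrM ℳ) (asGrM 𝒩) n : Set (M ⊗[k] N)) := hP.image_piece
  have hyp : TorsHyp ψ (resToAS EM) (resToAS EN) (idealToAS 𝒜 mR) (idealToAS ℬ mS)
      (idealToAS 𝒯 mT).toIdeal := fun z =>
    mem_gam_TP_iff 𝒜 ℬ 𝒯 ψ hT mR hmR mS hmS mT hmT
      (cxOf (k := k) (resToAS EM)).T (cxOf (k := k) (resToAS EN)).T z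
  have hacyc : ∀ j, 1 ≤ j → Subsingleton (LocCoh.H (idealToAS 𝒯 mT).toIdeal j
      (TP ψ (cxOf (k := k) (resToAS EM)).T (cxOf (k := k) (resToAS EN)).T)) :=
    subsingleton_TP 𝒜 ℬ 𝒯 ψ hT mR hmR mS hmS mT hmT
      (cxOf (k := k) (resToAS EM)).T (cxOf (k := k) (resToAS EN)).T
      (fun j hj => subsingleton_tot (resToAS EM) (idealToAS 𝒜 mR) j hj)
      (fun j hj => subsingleton_tot (resToAS EN) (idealToAS ℬ mS) j hj)
  haveI : IsNoetherian R M := isNoetherian_of_isNoetherianRing_of_finite R M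
  haveI : IsNoetherian S N := isNoetherian_of_isNoetherianRing_of_finite S N
  haveI hfM : ∀ i e, Module.Finite (GrLC.deg0 (asGr 𝒜))
      ((resToAS EM).Hcomp (idealToAS 𝒜 mR) i e) := fun i e =>
    Groth.Agent.Lib.Helper20.GrFin.s13226 (asGr 𝒜) (idealToAS 𝒜 mR) hmR (asGrM ℳ)
      (resToAS EM) i e
  haveI hfN : ∀ i e, Module.Finite (GrLC.deg0 (asGr ℬ))
      ((resToAS EN).Hcomp (idealToAS ℬ mS) i e) := fun i e =>
    Groth.Agent.Lib.Helper20.GrFin.s13226 (asGr ℬ) (idealToAS ℬ mS) hmS (asGrM 𝒩)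
      (resToAS EN) i e
  haveI hfM0 : ∀ e, Module.Finite (GrLC.deg0 (asGr 𝒜)) (GrLC.comp (asGr 𝒜) (asGrM ℳ) e) :=
    fun e => by
      haveI := Groth.Agent.Lib.Helper20.GrArt.isNoetherian_comp (asGr 𝒜) (asGrM ℳ) e
      infer_instance
  haveI hfN0 : ∀ e, Module.Finite (GrLC.deg0 (asGr ℬ)) (GrLC.comp (asGr ℬ) (asGrM 𝒩) e) :=
    fun e => by
      haveI := Groth.Agent.Lib.Helper20.GrArt.isNoetherian_comp (asGr ℬ) (asGrM 𝒩) e
      infer_instance
  have key := kunneth_AS_top (algebraMap_mem_asGr 𝒜) (algebraMap_mem_asGr ℬ)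
    (algebraMap_mem_asGr 𝒯) ψ hψ' (resToAS EM) (resToAS EN) (idealToAS 𝒜 mR) (idealToAS ℬ mS)
    (idealToAS 𝒯 mT) φ hP.injective hφp' hP.map_smul (resToAS EP)
    (i0_bijective 𝒜 h0R) (i0_bijective ℬ h0S) (i0_bijective 𝒯 h0T) hyp hacyc q d
    (Hcomp_conv_eq_bot EM mR q d hq1) (Hcomp_conv_eq_bot EN mS q d hq2)
    (Hcomp_conv_eq_bot EM mR (q + 1) d hq3) (Hcomp_conv_eq_bot EN mS (q + 1) d hq4)
  exact key

end MainTop

end Groth.Agent.Lib.Helper20.SegKun
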