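import Mathlib
import Groth.Agent.Lib.Helper20.CanDual
import Groth.Agent.Lib.Helper20.SegKun2
import Groth.Agent.Lib.Helper20.SegCM6

/-!
# The canonical module of a Segre product, numerically
-/

set_option autoImplicit false
set_option linter.unusedSectionVars false
set_option linter.unusedVariables false
set_option linter.style.haveILetI false

universe u

open TensorProduct

namespace Groth.Agent.Lib.Helper20.CanSeg

open Groth.Agent.Lib.Helper20.GrConv Groth.Agent.Lib.Helper20.GrKit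
  Groth.Agent.Lib.Helper20.SegKun Groth.Agent.Lib.Helper20.SegCM
  Groth.Agent.Lib.Helper20.GrCanW Groth.Agent.Lib.Helper20.HilbMono
  Groth.Agent.Lib.Helper20.CanDual

section Dual

variable {k : Type u} [Field k] {R : Type u} [CommRing R] [Algebra k R]
  (𝒜 : ℤ → Submodule k R) [GradedAlgebra 𝒜] [IsNoetherianRing R] [Nontrivial R]
  (hposR : ∀ n : ℤ, n < 0 → 𝒜 n = ⊥) (h0R : 𝒜 0 = Submodule.span k {(1 : R)})
  (mR : HomogeneousIdeal 𝒜)
  (hmR : mR.toIdeal = Ideal.span (⋃ n ∈ Set.Ioi (0 : ℤ), (𝒜 n : Set R)))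
  (I : GrLC.StarInjRes 𝒜 𝒜)
  {E' : Type u} [AddCommGroup E'] [Module R E'] (𝓔 : ℤ → AddSubgroup E')
  [DirectSum.Decomposition 𝓔] [SetLike.GradedSMul 𝒜 𝓔] (e : (R ⧸ mR.toIdeal) →ₗ[R] E')
  (he : GrLC.IsStarInjHull 𝒜 (GrLC.quotGr 𝒜 mR) 𝓔 e)
  {C : Type u} [AddCommGroup C] [Module R C] (𝒞 : ℤ → AddSubgroup C)
  [DirectSum.Decomposition 𝒞] [SetLike.GradedSMul 𝒜 𝒞] (n : ℕ)

include hposR h0R hmR he in
/-- numerical graded local duality for a *canonical module -/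
theorem finrank_canonical (hC : GrLC.IsStarCanonical 𝒜 𝒞 𝓔 mR n I) (i : ℤ) :
    Module.finrank (GrLC.deg0 𝒜) (GrLC.comp 𝒜 𝒞 i) =
      Module.finrank (GrLC.deg0 𝒜) (I.Hcomp mR n (-i)) := by
  haveI gsE : SetLike.GradedSMul (asGr 𝒜) 𝓔 :=
    ⟨fun {i j} {r x} hr hx => SetLike.GradedSMul.smul_mem (A := 𝒜) (B := 𝓔) hr hx⟩
  haveI gsC : SetLike.GradedSMul (asGr 𝒜) 𝒞 :=
    ⟨fun {i j} {r x} hr hx => SetLike.GradedSMul.smul_mem (A := 𝒜) (B := 𝒞) hr hx⟩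
  have hpos' : ∀ n : ℤ, n < 0 → asGr 𝒜 n = ⊥ := by
    intro n hn
    rw [AddSubgroup.eq_bot_iff_forall]
    intro x hx
    have hx' : x ∈ 𝒜 n := hx
    rw [hposR n hn, Submodule.mem_bot] at hx'
    exact hx'
  have h0' : IsField (GrLC.deg0 (asGr 𝒜)) := Groth.Agent.Lib.Helper20.SegCM.isField_deg0 𝒜 h0R
  have hmeq : idealToAS 𝒜 mR = irr (asGr 𝒜) := by
    apply HomogeneousIdeal.toIdeal_injective
    rw [irr_toIdeal]
    exact hmR
  have hm' : GrLC.IsStarLocal (asGr 𝒜) (idealToAS 𝒜 mR) := by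
    rw [hmeq]
    exact isStarLocal_irr (asGr 𝒜) hpos' h0'
  have he' := isStarInjHull_toAS 𝒜 mR 𝓔 e he
  have hC' := isStarCanonical_toAS 𝒜 mR 𝓔 𝒞 n I hC
  exact finrank_canonical_AS (asGr 𝒜) hpos' h0' (idealToAS 𝒜 mR) hm' 𝓔 e he' 𝒞 n (resToAS I) hC' i

end Dual

end Groth.Agent.Lib.Helper20.CanSeg
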