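import Mathlib
import Groth.Agent.Lib.Helper20.BassRes3
import Groth.Agent.Lib.helper11.InjDimKappa

/-!
# Injective dimension from vanishing of `Ext(κ, -)`; vanishing at a smaller prime
-/

set_option autoImplicit false
set_option linter.unusedSectionVars false
set_option linter.unusedVariables false
set_option linter.style.haveILetI false

namespace Groth.Agent.Lib.Helper20.CanonInj

open IsLocalRing CategoryTheory Abelian TensorProduct Groth.Agent.Lib.helper11.InjDimKappa
  Groth.Agent.Lib.Helper20.BassCount

universe u

theorem hasInjDimLT_of_ext_residue {A : Type u} [CommRing A] [IsLocalRing A] [IsNoetherianRing A]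
    (M : Type u) [AddCommGroup M] [Module A M] [Module.Finite A M] (N : ℕ)
    (hN : ∀ i : ℕ, N ≤ i → Subsingleton
      (Ext.{u} (ModuleCat.of A (IsLocalRing.ResidueField A)) (ModuleCat.of A M) i)) :
    HasInjectiveDimensionLT (ModuleCat.of A M) (N + 1) := by
  refine hasInjectiveDimensionLT_of_ext_quotient N (ModuleCat.of A M) fun I => ?_
  refine ext_subsingleton_of_primes ⊥ (ModuleCat.of A M) (N + 1) ?_ (A ⧸ I) ?_
  · intro q hq _
    exact ext_quotient_prime_subsingleton M N hN q hq (N + 1) (Nat.le_succ N)
  · intro a ha y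
    rw [(Submodule.mem_bot A).mp ha, zero_smul]

section Loc

variable {R : Type u} [CommRing R] [IsNoetherianRing R] (C : Type u) [AddCommGroup C] [Module R C]

/-- from `R_p ⊗ Ext^i_R(R/p, C) = 0` to `Ext^i_{R_p}(κ(p), C_p) = 0` -/
theorem ext_residue_subsingleton_of_tensor (p : Ideal R) [p.IsPrime] (i : ℕ)
    (h1 : Subsingleton (Localization.AtPrime p ⊗[R]
      Ext.{u} (ModuleCat.of R (R ⧸ p)) (ModuleCat.of R C) i)) :
    Subsingleton (Ext.{u} (ModuleCat.of (Localization.AtPrime p)
        (ResidueField (Localization.AtPrime p)))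
      (ModuleCat.of (Localization.AtPrime p) (LocalizedModule p.primeCompl C)) i) := by
  obtain ⟨e⟩ := Groth.Agent.Lib.helper11.ExtBC.ext_baseChange R (Localization.AtPrime p) C
    i (R ⧸ p)
  have h2 := e.symm.toEquiv.subsingleton
  let e1 := Groth.Agent.Lib.helper11.GorHull.extCongr
    (ModuleCat.of (Localization.AtPrime p) (Localization.AtPrime p ⊗[R] C)) i
    (tensorQuotEquivResidue p).toModuleIso
  let e2 := Groth.Agent.Lib.helper11.ExtLocEquiv.extCongrRight
    (ModuleCat.of (Localization.AtPrime p) (ResidueField (Localization.AtPrime p)))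
    i (LocalizedModule.equivTensorProduct p.primeCompl C).symm.toModuleIso
  exact (e1.trans e2).symm.toEquiv.subsingleton

/-- vanishing of `Ext^i(κ(p), C_p)` for `p ≤ m` when `C_m` has injective dimension `< i`. -/
theorem ext_residue_subsingleton_of_le (m p : Ideal R) [m.IsPrime] [p.IsPrime] (hpm : p ≤ m)
    (i : ℕ) (hinj : HasInjectiveDimensionLT (ModuleCat.of (Localization.AtPrime m)
      (LocalizedModule m.primeCompl C)) i) :
    Subsingleton (Ext.{u} (ModuleCat.of (Localization.AtPrime p)
        (ResidueField (Localization.AtPrime p)))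
      (ModuleCat.of (Localization.AtPrime p) (LocalizedModule p.primeCompl C)) i) := by
  apply ext_residue_subsingleton_of_tensor C p i
  set X := Ext.{u} (ModuleCat.of R (R ⧸ p)) (ModuleCat.of R C) i with hX
  -- vanishing at `m`
  obtain ⟨e⟩ := Groth.Agent.Lib.helper11.ExtBC.ext_baseChange R (Localization.AtPrime m) C
    i (R ⧸ p)
  let e2 := Groth.Agent.Lib.helper11.ExtLocEquiv.extCongrRight
    (ModuleCat.of (Localization.AtPrime m) (Localization.AtPrime m ⊗[R] (R ⧸ p)))
    i (LocalizedModule.equivTensorProduct m.primeCompl C).symm.toModuleIso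
  have h3 : Subsingleton (Ext.{u}
      (ModuleCat.of (Localization.AtPrime m) (Localization.AtPrime m ⊗[R] (R ⧸ p)))
      (ModuleCat.of (Localization.AtPrime m) (LocalizedModule m.primeCompl C)) i) :=
    HasInjectiveDimensionLT.subsingleton _ i i le_rfl _
  have h4 : Subsingleton (Localization.AtPrime m ⊗[R] X) := (e.trans e2).toEquiv.subsingleton
  have h5 : Subsingleton (LocalizedModule m.primeCompl X) :=
    (LocalizedModule.equivTensorProduct m.primeCompl X).toEquiv.subsingleton
  have h6 : (⟨m, inferInstance⟩ : PrimeSpectrum R) ∉ Module.support R X := by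
    rw [Module.notMem_support_iff]
    exact h5
  have h7 : (⟨p, inferInstance⟩ : PrimeSpectrum R) ∉ Module.support R X := by
    intro hp
    exact h6 (Module.mem_support_mono (p := ⟨p, inferInstance⟩) (q := ⟨m, inferInstance⟩)
      hpm hp)
  rw [Module.notMem_support_iff] at h7
  exact (LocalizedModule.equivTensorProduct p.primeCompl X).symm.toEquiv.subsingleton

end Loc

end Groth.Agent.Lib.Helper20.CanonInj
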