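import Mathlib
import Groth.Agent.Lib.Helper20.GorGr5
import Groth.Agent.Lib.Helper20.CanonLoc4
import Groth.Agent.Lib.Helper20.CanonShift4
import Groth.Agent.S7701
import Groth.Agent.S0299

/-!
# A graded CM ring over a field is Gorenstein iff its *canonical module is a shift of the ring
-/

set_option autoImplicit false
set_option linter.unusedSectionVars false
set_option linter.unusedVariables false
set_option linter.style.haveILetI false

namespace Groth.Agent.Lib.Helper20.GorGr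

open Groth.Agent.Lib.Helper20.CanonShift Groth.Agent.Lib.Helper26.GrProj IsLocalRing
  Groth.Agent.Lib.Helper21.FlatLocal

universe u

section

variable {R : Type u} [CommRing R] [LocCoh.IsCohenMacaulayRing R]
  (𝒜 : ℤ → AddSubgroup R) [GradedRing 𝒜]
  (hpos : ∀ n : ℤ, n < 0 → 𝒜 n = ⊥) (h0 : IsField (GrLC.deg0 𝒜))
  (m : HomogeneousIdeal 𝒜) (hm : GrLC.IsStarLocal 𝒜 m)
  (hmsp : m.toIdeal = Ideal.span (⋃ n ∈ Set.Ioi (0 : ℤ), (𝒜 n : Set R)))
  (n : ℕ) (hn : ringKrullDim R = n) (I : GrLC.StarInjRes 𝒜 𝒜)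
  {E' : Type u} [AddCommGroup E'] [Module R E'] (𝓔 : ℤ → AddSubgroup E')
  [DirectSum.Decomposition 𝓔] [SetLike.GradedSMul 𝒜 𝓔]
  (e : (R ⧸ m.toIdeal) →ₗ[R] E') (he : GrLC.IsStarInjHull 𝒜 (GrLC.quotGr 𝒜 m) 𝓔 e)
  {C : Type u} [AddCommGroup C] [Module R C] (𝒞 : ℤ → AddSubgroup C)
  [DirectSum.Decomposition 𝒞] [SetLike.GradedSMul 𝒜 𝒞]
  (hC : GrLC.IsStarCanonical 𝒜 𝒞 𝓔 m n I)

include hpos h0 hm hmsp hn he hC in
/-- the local criterion at the irrelevant ideal -/
theorem gorenstein_at_irrelevant_iff [m.toIdeal.IsPrime] :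
    LocCoh.IsGorensteinLocalRing (Localization.AtPrime m.toIdeal) ↔
      Nonempty (LocalizedModule m.toIdeal.primeCompl C ≃ₗ[Localization.AtPrime m.toIdeal]
        Localization.AtPrime m.toIdeal) := by
  haveI : Module.Finite R C := hC.1
  obtain ⟨φ, -⟩ := hC.2
  haveI : LocCoh.IsCohenMacaulayLocalRing (Localization.AtPrime m.toIdeal) :=
    LocCoh.IsCohenMacaulayRing.isCohenMacaulayLocalRing_localization m.toIdeal
  have hdim : ringKrullDim (Localization.AtPrime m.toIdeal) = n := by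
    rw [ringKrullDim_localization_irrelevant 𝒜 hpos h0 m hm hmsp, hn]
  obtain ⟨E₀, _, _, f₀, hf₀⟩ := Groth.Agent.S0299.result (Localization.AtPrime m.toIdeal)
    (ResidueField (Localization.AtPrime m.toIdeal))
  obtain ⟨eK⟩ := Groth.Agent.Lib.Helper20.CanonLoc.main 𝒜 m 𝓔 e he n I C φ E₀ f₀ hf₀
  exact Groth.Agent.S7701.result (Localization.AtPrime m.toIdeal) n hdim E₀ f₀ hf₀
    (LocalizedModule m.toIdeal.primeCompl C) eK

include hpos h0 hm hmsp hn he hC in
theorem main : LocCoh.IsGorensteinRing R ↔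
    ∃ (a : ℤ) (f : R →ₗ[R] C), Function.Bijective f ∧ GrLC.IsGrHomDeg 𝒜 𝒞 f a := by
  haveI hmax : m.toIdeal.IsMaximal := isMaximal_irrelevant 𝒜 hpos h0 m hm hmsp
  haveI hprime : m.toIdeal.IsPrime := hmax.isPrime
  haveI : Module.Finite R C := hC.1
  have hloc := gorenstein_at_irrelevant_iff 𝒜 hpos h0 m hm hmsp n hn I 𝓔 e he 𝒞 hC
  constructor
  · intro hG
    have hGm : LocCoh.IsGorensteinLocalRing (Localization.AtPrime m.toIdeal) :=
      hG.isGorensteinLocalRing_localization m.toIdeal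
    obtain ⟨ψ⟩ := hloc.1 hGm
    let lse := localizedSelfEquiv m.toIdeal
    let ψ₀ : LocalizedModule m.toIdeal.primeCompl R ≃ₗ[Localization.AtPrime m.toIdeal]
        LocalizedModule m.toIdeal.primeCompl C := lse.trans ψ.symm
    let u : LocalizedModule m.toIdeal.primeCompl R := lse.symm 1
    have hu : ∀ x : LocalizedModule m.toIdeal.primeCompl R, x = lse x • u := by
      intro x
      apply lse.injective
      rw [map_smul, LinearEquiv.apply_symm_apply, smul_eq_mul, mul_one]
    have H1 : ∀ χ : LocalizedModule m.toIdeal.primeCompl R →ₗ[Localization.AtPrime m.toIdeal]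
        LocalizedModule m.toIdeal.primeCompl C,
        ∃ a : Localization.AtPrime m.toIdeal, χ = a • ψ₀.toLinearMap := by
      intro χ
      refine ⟨lse (ψ₀.symm (χ u)), ?_⟩
      apply LinearMap.ext
      intro x
      have h1 : lse (ψ₀.symm (χ u)) • ψ₀ u = χ u := by
        rw [← map_smul, ← hu, LinearEquiv.apply_symm_apply]
      rw [LinearMap.smul_apply, LinearEquiv.coe_coe]
      conv_lhs => rw [hu x, map_smul]
      conv_rhs => rw [hu x, map_smul, smul_comm, h1]
    have H2 : ∀ a : Localization.AtPrime m.toIdeal, a • ψ₀.toLinearMap = 0 → a = 0 := by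
      intro a ha
      have h1 : (a • ψ₀.toLinearMap) u = 0 := by rw [ha]; rfl
      rw [LinearMap.smul_apply, LinearEquiv.coe_coe, ← map_smul] at h1
      have h2 : a • u = 0 := ψ₀.injective (by rw [h1, map_zero])
      have h3 := congrArg lse h2
      rw [map_smul, LinearEquiv.apply_symm_apply, smul_eq_mul, mul_one, map_zero] at h3
      exact h3
    obtain ⟨g, φ, hφ⟩ := exists_graded_equiv 𝒜 m hm 𝒜 𝒞 ψ₀ H1 H2
    exact ⟨g, φ.toLinearMap, φ.bijective, hφ⟩
  · rintro ⟨a, f, hf, -⟩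
    let φ : R ≃ₗ[R] C := LinearEquiv.ofBijective f hf
    let e1 : LocalizedModule m.toIdeal.primeCompl C ≃ₗ[Localization.AtPrime m.toIdeal]
        LocalizedModule m.toIdeal.primeCompl R :=
      IsLocalizedModule.mapEquiv m.toIdeal.primeCompl
        (LocalizedModule.mkLinearMap m.toIdeal.primeCompl C)
        (LocalizedModule.mkLinearMap m.toIdeal.primeCompl R) (Localization.AtPrime m.toIdeal)
        φ.symm
    have hGm := hloc.2 ⟨e1.trans (localizedSelfEquiv m.toIdeal)⟩
    exact isGorensteinRing_of_starLocal_int 𝒜 m hm hGm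

end

end Groth.Agent.Lib.Helper20.GorGr
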