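import Mathlib
import Groth.Agent.Lib.Helper20.CanonInj1
import Groth.Agent.Lib.Helper20.BassTorus2
import Groth.Agent.Lib.Helper20.GorGr6
import Groth.Agent.S7700
import Groth.Agent.S5790

/-!
# The *canonical module of a CM graded ring over a field: CM at `m`, finite injective dimension
-/

set_option autoImplicit false
set_option linter.unusedSectionVars false
set_option linter.unusedVariables false
set_option linter.style.haveILetI false

namespace Groth.Agent.Lib.Helper20.CanonInj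

open IsLocalRing CategoryTheory Abelian TensorProduct Groth.Agent.Lib.Helper20.CanonShift
  Groth.Agent.Lib.Helper20.GorGr Groth.Agent.Lib.Helper20.BassTorus

universe u

section

variable {R : Type u} [CommRing R] [LocCoh.IsCohenMacaulayRing R]
  (𝒜 : ℤ → AddSubgroup R) [GradedRing 𝒜]
  (hpos : ∀ n : ℤ, n < 0 → 𝒜 n = ⊥) (h0 : IsField (GrLC.deg0 𝒜))
  (m : HomogeneousIdeal 𝒜) (hm : GrLC.IsStarLocal 𝒜 m)
  (hmsp : m.toIdeal = Ideal.span (⋃ n ∈ Set.Ioi (0 : ℤ), (𝒜 n : Set R)))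
  (n : ℕ) (hn : ringKrullDim R = n) (I : GrLC.StarInjRes 𝒜 𝒜)
  {E' : Type u} [AddCommGroup E'] [Module R E'] (𝓔 : ℤ → AddSubgroup E')
  [DirectSum.Decomposition 𝓔] [SetLike.GradedSMul 𝒜 𝓔]
  (e : (R ⧸ m.toIdeal) →ₗ[R] E') (he : GrLC.IsStarInjHull 𝒜 (GrLC.quotGr 𝒜 m) 𝓔 e)
  {C : Type u} [AddCommGroup C] [Module R C] (𝒞 : ℤ → AddSubgroup C)
  [DirectSum.Decomposition 𝒞] [SetLike.GradedSMul 𝒜 𝒞]
  (hC : GrLC.IsStarCanonical 𝒜 𝒞 𝓔 m n I)

include hpos h0 hm hmsp hn he hC in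
theorem local_properties [m.toIdeal.IsPrime] :
    HasInjectiveDimensionLT (ModuleCat.of (Localization.AtPrime m.toIdeal)
      (LocalizedModule m.toIdeal.primeCompl C)) (n + 1) ∧
    LocCoh.IsCohenMacaulayModule (Localization.AtPrime m.toIdeal)
      (LocalizedModule m.toIdeal.primeCompl C) := by
  haveI : Module.Finite R C := hC.1
  obtain ⟨φ, -⟩ := hC.2
  haveI : LocCoh.IsCohenMacaulayLocalRing (Localization.AtPrime m.toIdeal) :=
    LocCoh.IsCohenMacaulayRing.isCohenMacaulayLocalRing_localization m.toIdeal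
  have hdim : ringKrullDim (Localization.AtPrime m.toIdeal) = n := by
    rw [ringKrullDim_localization_irrelevant 𝒜 hpos h0 m hm hmsp, hn]
  obtain ⟨E₀, _, _, f₀, hf₀⟩ := Groth.Agent.S0299.result (Localization.AtPrime m.toIdeal)
    (ResidueField (Localization.AtPrime m.toIdeal))
  obtain ⟨eK⟩ := Groth.Agent.Lib.Helper20.CanonLoc.main 𝒜 m 𝓔 e he n I C φ E₀ f₀ hf₀
  obtain ⟨h1, -, h3, -⟩ := Groth.Agent.S7700.result (Localization.AtPrime m.toIdeal) n hdim E₀ f₀
    hf₀ (LocalizedModule m.toIdeal.primeCompl C) eK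
  exact ⟨h1, h3⟩

include hm 𝒞 in
/-- the vanishing of Bass numbers at all primes from finite injective dimension at `m` -/
theorem bassNum_eq_zero [m.toIdeal.IsPrime]
    (hinj : HasInjectiveDimensionLT (ModuleCat.of (Localization.AtPrime m.toIdeal)
      (LocalizedModule m.toIdeal.primeCompl C)) (n + 1))
    (p : Ideal R) [p.IsPrime] (i : ℕ) (hi : n + 2 ≤ i) : GrLC.bassNum p C i = 0 := by
  haveI hcore : (Ideal.homogeneousCore 𝒜 p).toIdeal.IsPrime := Ideal.IsPrime.homogeneousCore ‹_›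
  have hcm : (Ideal.homogeneousCore 𝒜 p).toIdeal ≤ m.toIdeal :=
    le_of_isStarLocal 𝒜 m hm (Ideal.homogeneousCore 𝒜 p) hcore.ne_top
  have key : ∀ j, n + 1 ≤ j → GrLC.bassNum (Ideal.homogeneousCore 𝒜 p).toIdeal C j = 0 := by
    intro j hj
    unfold GrLC.bassNum GrLC.bassNumLocal
    rw [Module.length_eq_zero_iff]
    exact ext_residue_subsingleton_of_le C m.toIdeal _ hcm j
      (hasInjectiveDimensionLT_of_ge _ (n + 1) j hj)
  by_cases hp : Ideal.IsHomogeneous 𝒜 p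
  · have heq : (Ideal.homogeneousCore 𝒜 p).toIdeal = p := hp.toIdeal_homogeneousCore_eq_self
    rw [← Groth.Agent.Lib.Helper20.BassFlat.bassNum_transport C _ p heq i]
    exact key i (by omega)
  · have hd := height_map_mk_core_eq_one 𝒜 p hp
    obtain ⟨-, h2⟩ := bassNum_core 𝒜 𝒞 p 1 (by rw [hd]; rfl)
    obtain ⟨j, rfl⟩ : ∃ j, i = j + 1 := ⟨i - 1, by omega⟩
    rw [h2 j]
    exact key j (by omega)

include hpos h0 hm hmsp hn he hC in
theorem main [m.toIdeal.IsPrime] :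
    LocCoh.IsCohenMacaulayModule (Localization.AtPrime m.toIdeal)
      (LocalizedModule m.toIdeal.primeCompl C) ∧
    ∃ N : ℕ, HasInjectiveDimensionLT (ModuleCat.of R C) N := by
  haveI : Module.Finite R C := hC.1
  obtain ⟨h1, h2⟩ := local_properties 𝒜 hpos h0 m hm hmsp n hn I 𝓔 e he 𝒞 hC
  refine ⟨h2, n + 2 + 1, ?_⟩
  rw [Groth.Agent.S5790.result R C (n + 2)]
  intro p
  apply hasInjDimLT_of_ext_residue
  intro i hi
  have h3 := bassNum_eq_zero 𝒜 m hm n 𝒞 h1 p.asIdeal i hi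
  unfold GrLC.bassNum GrLC.bassNumLocal at h3
  rwa [Module.length_eq_zero_iff] at h3

end

end Groth.Agent.Lib.Helper20.CanonInj
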