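import Mathlib
import Groth.Agent.Lib.helper11.CanonEndo
import Groth.Agent.Lib.helper11.ExtFinite
import Groth.Agent.Lib.helper11.ExtRegular
import Groth.Agent.Lib.Helper26.Matlis

/-!
# The type of a canonical module is one
-/

set_option autoImplicit false
set_option linter.unusedSectionVars false
set_option linter.unusedVariables false
set_option linter.style.haveILetI false

namespace Groth.Agent.Lib.Helper20.CanonType

open CategoryTheory Abelian IsLocalRing
open Groth.Agent.Lib.helper11.LCKit Groth.Agent.Lib.helper11.ExtRep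
  Groth.Agent.Lib.helper11.LocalDuality Groth.Agent.Lib.helper11.GorHull

universe u

variable {R : Type u} [CommRing R] [IsNoetherianRing R] [IsLocalRing R]

/-- `Ext^i(k, G)` has finite length for finite `G`. -/
theorem tf_ext_residue (G : ModuleCat.{u} R) [Module.Finite R G] (i : ℕ) :
    TF (maximalIdeal R) (Ext (ModuleCat.of R (R ⧸ maximalIdeal R)) G i) := by
  refine ⟨Groth.Agent.Lib.helper11.ExtFinite.ext_finite G i (R ⧸ maximalIdeal R), 1, ?_⟩
  intro a ha x
  rw [pow_one] at ha
  apply Groth.Agent.Lib.helper11.ExtRegular.smul_ext_eq_zero R a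
  intro y
  obtain ⟨r, rfl⟩ := Ideal.Quotient.mk_surjective y
  change a • (Ideal.Quotient.mk (maximalIdeal R) r) = 0
  rw [Algebra.smul_def, Ideal.Quotient.algebraMap_eq, ← map_mul, Ideal.Quotient.eq_zero_iff_mem]
  exact Ideal.mul_mem_right _ _ ha

theorem length_residue : Module.length R (R ⧸ maximalIdeal R) = 1 := by
  haveI : IsSimpleModule R (R ⧸ maximalIdeal R) :=
    isSimpleModule_iff_quot_maximal.mpr ⟨maximalIdeal R, inferInstance, ⟨LinearEquiv.refl _ _⟩⟩
  exact Module.length_eq_one R (R ⧸ maximalIdeal R)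

variable {E : Type u} [AddCommGroup E] [Module R E] {f : ResidueField R →ₗ[R] E}
  (hf : InjHull.IsInjectiveHull f) (n : ℕ) (hn : ringKrullDim R = n)
  (hdepth : LocCoh.depth R R = n)
  (K : Type u) [AddCommGroup K] [Module R K] [Module.Finite R K]
  (eK : (K →ₗ[R] E) ≃ₗ[R] LocCoh.H (maximalIdeal R) n R)

include hf hn hdepth eK in
/-- the type of a canonical module is one -/
theorem length_ext_residue_canon :
    Module.length R (Ext (ModuleCat.of R (R ⧸ maximalIdeal R)) (ModuleCat.of R K) n) = 1 := by
  haveI : Module.Injective R E := hf.isInjective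
  obtain ⟨N⟩ : Nonempty (NatIso (maximalIdeal R) E (ModuleCat.of R K) 0 n) := by
    have := nonempty_natIso_of_depth n hn hdepth E K eK n le_rfl
    rwa [Nat.sub_self] at this
  haveI hfink : Module.Finite R (ModuleCat.of R (R ⧸ maximalIdeal R)) :=
    inferInstanceAs (Module.Finite R (R ⧸ maximalIdeal R))
  haveI : Module.Finite R (ModuleCat.of R K) := inferInstanceAs (Module.Finite R K)
  have θ := N.θ (ModuleCat.of R (R ⧸ maximalIdeal R))
  have ev := evEquivOfTors (maximalIdeal R) (ModuleCat.of R (R ⧸ maximalIdeal R))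
    Groth.Agent.Lib.helper11.LocalDuality.isTors_residue
  have h1 : Module.length R
      (Ext (ModuleCat.of R (R ⧸ maximalIdeal R)) (ModuleCat.of R K) n →ₗ[R] E) = 1 := by
    rw [← θ.length_eq, ev.length_eq]
    exact length_residue
  have htf := tf_ext_residue (ModuleCat.of R K) n
  have hfl : IsFiniteLength R (Ext (ModuleCat.of R (R ⧸ maximalIdeal R)) (ModuleCat.of R K) n) :=
    Module.length_ne_top_iff.1 (length_ne_top_of_tf _ htf)
  rw [← Groth.Agent.Lib.Helper26.Matlis.length_linearMap hf _ hfl]
  exact h1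

end Groth.Agent.Lib.Helper20.CanonType
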