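import Mathlib
import Groth.Agent.Lib.Helper20.CanonType1

/-!
# The type of a CM local ring is the minimal number of generators of its canonical module
-/

set_option autoImplicit false
set_option linter.unusedSectionVars false
set_option linter.unusedVariables false
set_option linter.style.haveILetI false

namespace Groth.Agent.Lib.Helper20.CanonType

open CategoryTheory Abelian IsLocalRing TensorProduct RingTheory.Sequence
open Groth.Agent.Lib.helper11.LCKit Groth.Agent.Lib.helper11.ExtRep
  Groth.Agent.Lib.helper11.LocalDuality Groth.Agent.Lib.helper11.GorHull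
  Groth.Agent.Lib.helper11 Groth.Agent.Lib.Helper21.DepthKit

universe u

variable {R : Type u} [CommRing R] [IsNoetherianRing R] [IsLocalRing R]

theorem tf_residue_tensor (K : Type u) [AddCommGroup K] [Module R K] [Module.Finite R K] :
    TF (maximalIdeal R) ((R ⧸ maximalIdeal R) ⊗[R] K) := by
  refine ⟨inferInstance, 1, ?_⟩
  intro a ha x
  rw [pow_one] at ha
  induction x using TensorProduct.induction_on with
  | zero => exact smul_zero _
  | tmul y z =>
    obtain ⟨r, rfl⟩ := Ideal.Quotient.mk_surjective y
    rw [TensorProduct.smul_tmul']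
    have : a • (Ideal.Quotient.mk (maximalIdeal R) r) = 0 := by
      rw [Algebra.smul_def, Ideal.Quotient.algebraMap_eq, ← map_mul,
        Ideal.Quotient.eq_zero_iff_mem]
      exact Ideal.mul_mem_right _ _ ha
    rw [this, TensorProduct.zero_tmul]
  | add x y hx hy => rw [smul_add, hx, hy, add_zero]

theorem tf_residue : TF (maximalIdeal R) (R ⧸ maximalIdeal R) := by
  have := tf_Q (maximalIdeal R) 1
  rwa [pow_one] at this

variable (n : ℕ) (hdepth : LocCoh.depth R R = n)

include hdepth in
theorem ring_ext_vanishing (F : ModuleCat.{u} R) (hF : Module.length R F ≠ ⊤) (i : ℕ)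
    (hi : i < n) : Subsingleton (Ext F (ModuleCat.of R R) i) := by
  haveI := finite_of_length_ne_top F hF
  obtain ⟨rs, hlen, hmem, hreg⟩ :=
    (natCast_le_depth_iff (A := R) (M := R) n).mp (by rw [hdepth])
  have hreg' : IsRegular R rs := IsRegular.of_isWeaklyRegular_of_mem_maximalIdeal R hmem hreg
  exact Ischebeck.ext_subsingleton_of_regular R F rs hmem hreg' 0 i
    (by simpa using supportDim_le_zero_of_length_ne_top F hF) (by omega)

variable {E : Type u} [AddCommGroup E] [Module R E] {f : ResidueField R →ₗ[R] E}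
  (hf : InjHull.IsInjectiveHull f)
  (K : Type u) [AddCommGroup K] [Module R K] [Module.Finite R K]
  (eK : (K →ₗ[R] E) ≃ₗ[R] LocCoh.H (maximalIdeal R) n R)

include hf hdepth eK in
/-- the type of the ring is the number of generators of the canonical module -/
theorem length_ext_residue_ring :
    Module.length R (Ext (ModuleCat.of R (R ⧸ maximalIdeal R)) (ModuleCat.of R R) n) =
      Module.length R ((R ⧸ maximalIdeal R) ⊗[R] K) := by
  have hLE : LE (maximalIdeal R) (ModuleCat.of R R) n :=
    LE_of_vanishing _ _ _ (fun F' hF' i hi =>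
      ring_ext_vanishing n hdepth F' (length_ne_top_of_tf F' hF') i (by omega))
  obtain ⟨Φ', -⟩ := exists_natural_equiv hLE
  have e1 := Φ' (ModuleCat.of R (R ⧸ maximalIdeal R)) tf_residue
  have e2 : ((R ⧸ maximalIdeal R) →ₗ[R] LocCoh.H (maximalIdeal R) n R) ≃ₗ[R]
      ((R ⧸ maximalIdeal R) →ₗ[R] (K →ₗ[R] E)) := LinearEquiv.congrRight eK.symm
  have e3 : ((R ⧸ maximalIdeal R) →ₗ[R] (K →ₗ[R] E)) ≃ₗ[R]
      (((R ⧸ maximalIdeal R) ⊗[R] K) →ₗ[R] E) := TensorProduct.lift.equiv (RingHom.id R) _ _ _
  have hfl : IsFiniteLength R ((R ⧸ maximalIdeal R) ⊗[R] K) :=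
    Module.length_ne_top_iff.1 (length_ne_top_of_tf _ (tf_residue_tensor K))
  rw [← Groth.Agent.Lib.Helper26.Matlis.length_linearMap hf _ hfl, ← e3.length_eq, ← e2.length_eq]
  exact e1.length_eq

end Groth.Agent.Lib.Helper20.CanonType
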