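import Mathlib
import Groth.Agent.Lib.Helper20.CanonType2
import Groth.Agent.Lib.Helper20.BassRes3

/-!
# `k(m) ⊗ C_m` has length `dim_{R/m} (R/m ⊗ C)` for a maximal ideal `m`
-/

set_option autoImplicit false
set_option linter.unusedSectionVars false
set_option linter.unusedVariables false
set_option linter.style.haveILetI false

namespace Groth.Agent.Lib.Helper20.CanonType

open CategoryTheory Abelian IsLocalRing TensorProduct Groth.Agent.Lib.Helper20.BassCount

universe u

section

variable {R : Type u} [CommRing R] [IsNoetherianRing R] (m : Ideal R) [hmax : m.IsMaximal]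
  (C : Type u) [AddCommGroup C] [Module R C] [Module.Finite R C]

theorem length_residue_tensor_localized :
    Module.length (Localization.AtPrime m)
      ((Localization.AtPrime m ⧸ maximalIdeal (Localization.AtPrime m)) ⊗[Localization.AtPrime m]
        LocalizedModule m.primeCompl C) =
      (Module.finrank (R ⧸ m) ((R ⧸ m) ⊗[R] C) : ℕ∞) := by
  classical
  haveI : IsNoetherianRing (Localization.AtPrime m) :=
    IsLocalization.isNoetherianRing m.primeCompl (Localization.AtPrime m) inferInstance
  letI : Field (R ⧸ m) := Ideal.Quotient.field m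
  let b := Module.finBasis (R ⧸ m) ((R ⧸ m) ⊗[R] C)
  let ea : ((Localization.AtPrime m ⧸ maximalIdeal (Localization.AtPrime m))
        ⊗[Localization.AtPrime m] LocalizedModule m.primeCompl C) ≃ₗ[Localization.AtPrime m]
      ((Localization.AtPrime m ⧸ maximalIdeal (Localization.AtPrime m))
        ⊗[Localization.AtPrime m] (Localization.AtPrime m ⊗[R] C)) :=
    TensorProduct.congr (LinearEquiv.refl _ _) (LocalizedModule.equivTensorProduct m.primeCompl C)
  let eb : ((Localization.AtPrime m ⧸ maximalIdeal (Localization.AtPrime m))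
        ⊗[Localization.AtPrime m] (Localization.AtPrime m ⊗[R] C)) ≃ₗ[Localization.AtPrime m]
      ((Localization.AtPrime m ⧸ maximalIdeal (Localization.AtPrime m)) ⊗[R] C) :=
    TensorProduct.AlgebraTensorModule.cancelBaseChange R (Localization.AtPrime m)
      (Localization.AtPrime m) _ C
  let ec : ((Localization.AtPrime m ⧸ maximalIdeal (Localization.AtPrime m)) ⊗[R] C)
      ≃ₗ[Localization.AtPrime m] ((Localization.AtPrime m ⊗[R] (R ⧸ m)) ⊗[R] C) :=
    TensorProduct.AlgebraTensorModule.congr (tensorQuotEquivResidue m).symm (LinearEquiv.refl R C)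
  let ed : ((Localization.AtPrime m ⊗[R] (R ⧸ m)) ⊗[R] C) ≃ₗ[Localization.AtPrime m]
      (Localization.AtPrime m ⊗[R] ((R ⧸ m) ⊗[R] C)) :=
    TensorProduct.AlgebraTensorModule.assoc R R (Localization.AtPrime m)
      (Localization.AtPrime m) (R ⧸ m) C
  let ee : (Localization.AtPrime m ⊗[R] ((R ⧸ m) ⊗[R] C)) ≃ₗ[Localization.AtPrime m]
      (Localization.AtPrime m ⊗[R] (Fin (Module.finrank (R ⧸ m) ((R ⧸ m) ⊗[R] C)) → R ⧸ m)) :=
    TensorProduct.AlgebraTensorModule.congr (LinearEquiv.refl _ _) (b.equivFun.restrictScalars R)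
  let ef : (Localization.AtPrime m ⊗[R]
        (Fin (Module.finrank (R ⧸ m) ((R ⧸ m) ⊗[R] C)) → R ⧸ m)) ≃ₗ[Localization.AtPrime m]
      (Fin (Module.finrank (R ⧸ m) ((R ⧸ m) ⊗[R] C)) → Localization.AtPrime m ⊗[R] (R ⧸ m)) :=
    TensorProduct.piRight R (Localization.AtPrime m) (Localization.AtPrime m) (fun _ => R ⧸ m)
  let eg : (Fin (Module.finrank (R ⧸ m) ((R ⧸ m) ⊗[R] C)) →
        Localization.AtPrime m ⊗[R] (R ⧸ m)) ≃ₗ[Localization.AtPrime m]
      (Fin (Module.finrank (R ⧸ m) ((R ⧸ m) ⊗[R] C)) →
        (Localization.AtPrime m ⧸ maximalIdeal (Localization.AtPrime m))) :=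
    LinearEquiv.piCongrRight (fun _ => tensorQuotEquivResidue m)
  rw [(ea.trans (eb.trans (ec.trans (ed.trans (ee.trans (ef.trans eg)))))).length_eq,
    Module.length_pi_of_fintype]
  simp only [Finset.sum_const, Finset.card_univ, Fintype.card_fin, nsmul_eq_mul]
  rw [length_residue (R := Localization.AtPrime m), mul_one]

end

end Groth.Agent.Lib.Helper20.CanonType
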