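import Mathlib
import Groth.Agent.Lib.Helper20.CanonType3
import Groth.Agent.Lib.Helper20.GorGr6
import Groth.Prelude.Def_GrLC2

/-!
# Bass numbers of the *canonical module and of the ring at the irrelevant ideal
-/

set_option autoImplicit false
set_option linter.unusedSectionVars false
set_option linter.unusedVariables false
set_option linter.style.haveILetI false

namespace Groth.Agent.Lib.Helper20.CanonType

open CategoryTheory Abelian IsLocalRing TensorProduct Groth.Agent.Lib.Helper20.GorGr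
  Groth.Agent.Lib.Helper21.FlatLocal

universe u

section

variable {R : Type u} [CommRing R] [LocCoh.IsCohenMacaulayRing R]
  (𝒜 : ℤ → AddSubgroup R) [GradedRing 𝒜]
  (hpos : ∀ n : ℤ, n < 0 → 𝒜 n = ⊥) (h0 : IsField (GrLC.deg0 𝒜))
  (m : HomogeneousIdeal 𝒜) (hm : GrLC.IsStarLocal 𝒜 m)
  (hmsp : m.toIdeal = Ideal.span (⋃ n ∈ Set.Ioi (0 : ℤ), (𝒜 n : Set R)))
  [hmax : m.toIdeal.IsMaximal]
  (n : ℕ) (hn : ringKrullDim R = n) (I : GrLC.StarInjRes 𝒜 𝒜)
  {E' : Type u} [AddCommGroup E'] [Module R E'] (𝓔 : ℤ → AddSubgroup E')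
  [DirectSum.Decomposition 𝓔] [SetLike.GradedSMul 𝒜 𝓔]
  (e : (R ⧸ m.toIdeal) →ₗ[R] E') (he : GrLC.IsStarInjHull 𝒜 (GrLC.quotGr 𝒜 m) 𝓔 e)
  {C : Type u} [AddCommGroup C] [Module R C] (𝒞 : ℤ → AddSubgroup C)
  [DirectSum.Decomposition 𝒞] [SetLike.GradedSMul 𝒜 𝒞]
  (hC : GrLC.IsStarCanonical 𝒜 𝒞 𝓔 m n I)

include hpos h0 hm hmsp hn he hC in
theorem bass_main :
    GrLC.bassNum m.toIdeal C n = 1 ∧
      GrLC.bassNum m.toIdeal R n =
        (Module.finrank (R ⧸ m.toIdeal) ((R ⧸ m.toIdeal) ⊗[R] C) : ℕ∞) := by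
  haveI : Module.Finite R C := hC.1
  obtain ⟨φ, -⟩ := hC.2
  haveI : LocCoh.IsCohenMacaulayLocalRing (Localization.AtPrime m.toIdeal) :=
    LocCoh.IsCohenMacaulayRing.isCohenMacaulayLocalRing_localization m.toIdeal
  have hdim : ringKrullDim (Localization.AtPrime m.toIdeal) = n := by
    rw [ringKrullDim_localization_irrelevant 𝒜 hpos h0 m hm hmsp, hn]
  have hdepth := Groth.Agent.Lib.helper11.LocalDuality.depth_eq_of_CM
    (Localization.AtPrime m.toIdeal) n hdim
  obtain ⟨E₀, _, _, f₀, hf₀⟩ := Groth.Agent.S0299.result (Localization.AtPrime m.toIdeal)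
    (ResidueField (Localization.AtPrime m.toIdeal))
  obtain ⟨eK⟩ := Groth.Agent.Lib.Helper20.CanonLoc.main 𝒜 m 𝓔 e he n I C φ E₀ f₀ hf₀
  constructor
  · exact length_ext_residue_canon hf₀ n hdim hdepth (LocalizedModule m.toIdeal.primeCompl C) eK
  · have e1 := Groth.Agent.Lib.helper11.ExtLocEquiv.extCongrRight
      (ModuleCat.of (Localization.AtPrime m.toIdeal)
        (Localization.AtPrime m.toIdeal ⧸ maximalIdeal (Localization.AtPrime m.toIdeal))) n
      (localizedSelfEquiv m.toIdeal).toModuleIso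
    have h1 : GrLC.bassNum m.toIdeal R n = Module.length (Localization.AtPrime m.toIdeal)
        (Ext (ModuleCat.of (Localization.AtPrime m.toIdeal)
          (Localization.AtPrime m.toIdeal ⧸ maximalIdeal (Localization.AtPrime m.toIdeal)))
          (ModuleCat.of (Localization.AtPrime m.toIdeal) (Localization.AtPrime m.toIdeal)) n) :=
      e1.length_eq
    rw [h1, length_ext_residue_ring n hdepth hf₀ (LocalizedModule m.toIdeal.primeCompl C) eK]
    exact length_residue_tensor_localized m.toIdeal C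

end

end Groth.Agent.Lib.Helper20.CanonType
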