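import Mathlib
import Groth.Agent.Lib.lead.ComplFin

set_option autoImplicit false
set_option linter.unusedSectionVars false
set_option linter.style.haveILetI false

namespace Groth.Agent.Lib.Helper20.ChevLemma

open IsLocalRing

variable {R : Type*} [CommRing R] [IsNoetherianRing R] [IsLocalRing R]
  {N : Type*} [AddCommGroup N] [Module R N] [Module.Finite R N]

/-- `𝔫^c N` -/
abbrev T (R : Type*) [CommRing R] [IsLocalRing R] (N : Type*) [AddCommGroup N] [Module R N]
    (c : ℕ) : Submodule R N := (maximalIdeal R ^ c) • (⊤ : Submodule R N)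

lemma T_antitone : Antitone (T R N) := by
  intro a b hab
  exact Submodule.smul_mono_left (Ideal.pow_le_pow_right hab)

/-- the quotient by `𝔫^(c+1) N` is Artinian -/
lemma isArtinian_quot (c : ℕ) : IsArtinian R (N ⧸ T R N (c + 1)) := by
  have hmin : maximalIdeal R ∈ (maximalIdeal R ^ (c + 1)).minimalPrimes := by
    refine ⟨⟨inferInstance, Ideal.pow_le_self (Nat.succ_ne_zero c)⟩, ?_⟩
    rintro P ⟨hP, hle⟩ _
    exact hP.le_of_pow_le hle
  haveI : IsArtinianRing (R ⧸ maximalIdeal R ^ (c + 1)) :=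
    IsLocalRing.quotient_artinian_of_mem_minimalPrimes_of_isLocalRing _ hmin
  haveI : IsArtinian (R ⧸ maximalIdeal R ^ (c + 1)) (N ⧸ T R N (c + 1)) :=
    isArtinian_of_fg_of_artinian'
  exact isArtinian_of_surjective_algebraMap (R := R ⧸ maximalIdeal R ^ (c + 1))
    Ideal.Quotient.mk_surjective

/-- submodules of a finite module over a Noetherian local ring are closed -/
lemma mem_of_forall_mem_sup (F : Submodule R N) (x : N) (h : ∀ c, x ∈ F ⊔ T R N c) : x ∈ F := by
  have hK := Ideal.iInf_pow_smul_eq_bot_of_isLocalRing (M := N ⧸ F) (maximalIdeal R)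
    (Ideal.IsPrime.ne_top inferInstance)
  have h1 : F.mkQ x ∈ (⨅ i : ℕ, maximalIdeal R ^ i • (⊤ : Submodule R (N ⧸ F))) := by
    rw [Submodule.mem_iInf]
    intro c
    obtain ⟨f, hf, t, ht, rfl⟩ := Submodule.mem_sup.mp (h c)
    rw [map_add, Submodule.mkQ_apply, Submodule.mkQ_apply, (Submodule.Quotient.mk_eq_zero F).mpr hf, zero_add, ← Submodule.mkQ_apply]
    have : (T R N c).map F.mkQ = maximalIdeal R ^ c • (⊤ : Submodule R (N ⧸ F)) := by
      rw [Submodule.map_smul'', Submodule.map_top, LinearMap.range_eq_top.mpr F.mkQ_surjective]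
    rw [← this]
    exact Submodule.mem_map_of_mem ht
  rw [hK] at h1
  exact (Submodule.Quotient.mk_eq_zero F).mp h1

/-- stabilisation of `F n ⊔ 𝔫^(c+1) N` -/
lemma exists_stable (F : ℕ → Submodule R N) (hF : Antitone F) (c : ℕ) :
    ∃ n₀, ∀ n, n₀ ≤ n → F n ⊔ T R N (c + 1) = F n₀ ⊔ T R N (c + 1) := by
  haveI := isArtinian_quot (R := R) (N := N) c
  let f : ℕ →o (Submodule R (N ⧸ T R N (c + 1)))ᵒᵈ :=
    ⟨fun n => OrderDual.toDual ((F n).map (T R N (c + 1)).mkQ), by
      intro a b hab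
      exact Submodule.map_mono (hF hab)⟩
  obtain ⟨n₀, hn₀⟩ := IsArtinian.monotone_stabilizes f
  refine ⟨n₀, fun n hn => ?_⟩
  have h1 : (F n₀).map (T R N (c + 1)).mkQ = (F n).map (T R N (c + 1)).mkQ := hn₀ n hn
  have h2 := congrArg (Submodule.comap (T R N (c + 1)).mkQ) h1
  rw [Submodule.comap_map_mkQ, Submodule.comap_map_mkQ] at h2
  rw [sup_comm, ← h2, sup_comm]

/-- **Chevalley's lemma** -/
theorem chevalley [IsAdicComplete (maximalIdeal R) R] (F : ℕ → Submodule R N) (hF : Antitone F)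
    (hbot : ⨅ n, F n = ⊥) (c : ℕ) : ∃ n, F n ≤ T R N c := by
  classical
  by_contra hcon
  push Not at hcon
  rcases Nat.eq_zero_or_pos c with rfl | hcpos
  · exact hcon 0 (by simp [T])
  obtain ⟨c₀, rfl⟩ : ∃ c₀, c = c₀ + 1 := ⟨c - 1, by omega⟩
  haveI : IsAdicComplete (maximalIdeal R) N :=
    Groth.Agent.Lib.Lead.ComplFin.isAdicComplete_of_finite (maximalIdeal R) N
  -- stable values
  choose ν hν using fun j : ℕ => exists_stable (R := R) (N := N) F hF (c₀ + j)
  let G : ℕ → Submodule R N := fun j => F (ν j) ⊔ T R N (c₀ + j + 1)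
  have hG_le : ∀ j n, G j ≤ F n ⊔ T R N (c₀ + j + 1) := by
    intro j n
    rcases le_total (ν j) n with h | h
    · rw [hν j n h]
    · exact sup_le_sup_right (hF h) _
  have hG_eq : ∀ j n, ν j ≤ n → G j = F n ⊔ T R N (c₀ + j + 1) := fun j n h => (hν j n h).symm
  -- surjectivity of the transition maps
  have hsurj : ∀ j, ∀ y ∈ G j, ∃ y' ∈ G (j + 1), y - y' ∈ T R N (c₀ + j + 1) := by
    intro j y hy
    set n := max (ν j) (ν (j + 1)) with hn
    rw [hG_eq j n (le_max_left _ _)] at hy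
    obtain ⟨f, hf, t, ht, rfl⟩ := Submodule.mem_sup.mp hy
    refine ⟨f, ?_, by simpa using ht⟩
    rw [hG_eq (j + 1) n (le_max_right _ _)]
    exact Submodule.mem_sup_left hf
  -- the starting element
  have h0 : ¬ G 0 ≤ T R N (c₀ + 1) := by
    intro h
    exact hcon (ν 0) (le_trans le_sup_left h)
  obtain ⟨x₀, hx₀G, hx₀T⟩ := Set.not_subset.mp h0
  -- the compatible sequence
  choose! next hnextG hnextT using hsurj
  let s : (j : ℕ) → {y : N // y ∈ G j} := fun j =>
    Nat.rec (motive := fun j => {y : N // y ∈ G j}) ⟨x₀, hx₀G⟩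
      (fun j y => ⟨next j y.1, hnextG j y.1 y.2⟩) j
  have hs0 : (s 0).1 = x₀ := rfl
  have hsucc : ∀ j, (s j).1 - (s (j + 1)).1 ∈ T R N (c₀ + j + 1) := by
    intro j
    exact hnextT j (s j).1 (s j).2
  have htel : ∀ i d, (s i).1 - (s (i + d)).1 ∈ T R N (c₀ + i + 1) := by
    intro i d
    induction d with
    | zero => simp
    | succ d ih =>
      have h1 := hsucc (i + d)
      have h2 : T R N (c₀ + (i + d) + 1) ≤ T R N (c₀ + i + 1) := T_antitone (by omega)
      have h3 : (s i).1 - (s (i + (d + 1))).1 =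
          ((s i).1 - (s (i + d)).1) + ((s (i + d)).1 - (s (i + d + 1)).1) := by
        rw [← add_assoc]; abel
      rw [h3]
      exact add_mem ih (h2 h1)
  -- the limit
  let f : ℕ → N := fun n => (s (n - (c₀ + 1))).1
  have hcauchy : ∀ {m n}, m ≤ n → f m ≡ f n [SMOD (maximalIdeal R ^ m • ⊤ : Submodule R N)] := by
    intro m n hmn
    rw [SModEq.sub_mem]
    obtain ⟨d, hd⟩ : ∃ d, n - (c₀ + 1) = (m - (c₀ + 1)) + d := ⟨(n - (c₀ + 1)) - (m - (c₀ + 1)), by omega⟩
    have h1 := htel (m - (c₀ + 1)) d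
    have h2 : T R N (c₀ + (m - (c₀ + 1)) + 1) ≤ T R N m := T_antitone (by omega)
    change (s (m - (c₀ + 1))).1 - (s (n - (c₀ + 1))).1 ∈ _
    rw [hd]
    exact h2 h1
  obtain ⟨L, hL⟩ := IsPrecomplete.prec (I := maximalIdeal R) (M := N) inferInstance (f := f) hcauchy
  have hLj : ∀ j, (s j).1 - L ∈ T R N (c₀ + j + 1) := by
    intro j
    have := hL (c₀ + j + 1)
    rw [SModEq.sub_mem] at this
    have h2 : c₀ + j + 1 - (c₀ + 1) = j := by omega
    change (s (c₀ + j + 1 - (c₀ + 1))).1 - L ∈ _ at this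
    rwa [h2] at this
  -- `L ≠ 0`
  have hLne : L ∉ T R N (c₀ + 1) := by
    intro hLT
    apply hx₀T
    have h1 := hLj 0
    rw [hs0] at h1
    have : x₀ = (x₀ - L) + L := by abel
    rw [this]
    exact add_mem (by simpa using h1) hLT
  -- `L ∈ F n` for all `n`
  have hLF : ∀ n, L ∈ F n := by
    intro n
    apply mem_of_forall_mem_sup
    intro c
    have key : ∀ j, L ∈ F n ⊔ T R N (c₀ + j + 1) := by
      intro j
      have h1 : (s j).1 ∈ F n ⊔ T R N (c₀ + j + 1) := hG_le j n (s j).2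
      have h2 : L = (s j).1 - ((s j).1 - L) := by abel
      rw [h2]
      exact sub_mem h1 (Submodule.mem_sup_right (hLj j))
    have h3 : T R N (c₀ + c + 1) ≤ T R N c := T_antitone (by omega)
    exact sup_le_sup_left h3 _ (key c)
  have hL0 : L = 0 := by
    have : L ∈ ⨅ n, F n := by
      rw [Submodule.mem_iInf]; exact hLF
    rwa [hbot, Submodule.mem_bot] at this
  exact hLne (by rw [hL0]; exact zero_mem _)

end Groth.Agent.Lib.Helper20.ChevLemma
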