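import Mathlib

namespace Groth.Agent.Lib.Helper20.ColimCrit

open CategoryTheory CategoryTheory.Limits

universe u

variable {A : Type u} [CommRing A] {J : Type u} [SmallCategory J] [IsFiltered J]

/-- Recognising filtered colimits of rings under `A`. -/
theorem isColimit_of_surj_inj
    (D : J ⥤ Under (CommRingCat.of A)) (c : Cocone D)
    (hsurj : ∀ b : c.pt.right, ∃ (j : J) (x : (D.obj j).right), (c.ι.app j).right.hom x = b)
    (hinj : ∀ (j : J) (x y : (D.obj j).right),
      (c.ι.app j).right.hom x = (c.ι.app j).right.hom y →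
      ∃ (j' : J) (a : j ⟶ j'), (D.map a).right.hom x = (D.map a).right.hom y) :
    Nonempty (IsColimit c) := by
  haveI : IsConnected J := IsFiltered.isConnected J
  let F := Under.forget (CommRingCat.of A) ⋙ forget CommRingCat
  have h1 : IsColimit (F.mapCocone c) := by
    apply Types.FilteredColimit.isColimitOf'
    · intro b
      obtain ⟨j, x, hx⟩ := hsurj b
      exact ⟨j, x, hx.symm⟩
    · intro j x y h
      obtain ⟨j', a, ha⟩ := hinj j x y h
      exact ⟨j', a, ha⟩
  haveI : ReflectsColimit (D ⋙ Under.forget (CommRingCat.of A)) (forget CommRingCat) :=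
    reflectsColimit_of_reflectsIsomorphisms _ _
  have h2 : IsColimit ((Under.forget (CommRingCat.of A)).mapCocone c) :=
    isColimitOfReflects (forget CommRingCat) h1
  exact ⟨isColimitOfReflects (Under.forget (CommRingCat.of A)) h2⟩

end Groth.Agent.Lib.Helper20.ColimCrit
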