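import Groth.Prelude.Def_HopfRep
import Mathlib.LinearAlgebra.TensorProduct.Basis

/-!
# Helper library (helper20): comodules over a coalgebra with a basis; group-like bases
-/

set_option autoImplicit false
universe u v w
open TensorProduct

namespace Groth.Agent.Lib.Helper20.CB

section
variable {k : Type u} {C : Type v} [CommRing k] [AddCommGroup C] [Module k C] [Coalgebra k C]
  {V : Type w} [AddCommGroup V] [Module k V] [HopfRep.Comod k C V]
  {I : Type*} [DecidableEq I] (b : Module.Basis I k C)

local notation "ρ" => HopfRep.Comod.coact (k := k) (A := C) (V := V)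

/-- the coefficient extraction `V ⊗ C → V` -/
noncomputable def coef (l : I) : V ⊗[k] C →ₗ[k] V :=
  (TensorProduct.rid k V).toLinearMap ∘ₗ LinearMap.lTensor V (b.coord l)

omit [Coalgebra k C] [HopfRep.Comod k C V] [DecidableEq I] in
lemma coef_tmul (l : I) (x : V) (c : C) : coef b l (x ⊗ₜ[k] c) = b.repr c l • x := by
  simp [coef]

omit [Coalgebra k C] [HopfRep.Comod k C V] in
lemma equiv_apply (t : V ⊗[k] C) (l : I) :
    TensorProduct.equivFinsuppOfBasisRight b t l = coef b l t := by
  induction t using TensorProduct.induction_on with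
  | zero => simp
  | tmul x c => rw [TensorProduct.equivFinsuppOfBasisRight_apply_tmul_apply, coef_tmul]
  | add x y hx hy => rw [map_add, map_add, Finsupp.add_apply, hx, hy]

omit [Coalgebra k C] [HopfRep.Comod k C V] in
lemma expand (t : V ⊗[k] C) :
    t = ∑ l ∈ (TensorProduct.equivFinsuppOfBasisRight b t).support, coef b l t ⊗ₜ[k] b l := by
  conv_lhs => rw [← (TensorProduct.equivFinsuppOfBasisRight b).symm_apply_apply t]
  rw [TensorProduct.equivFinsuppOfBasisRight_symm_apply, Finsupp.sum]
  apply Finset.sum_congr rfl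
  intro l _
  rw [equiv_apply]

/-- `c ↦ (id ⊗ φ_l)(Δ c)` -/
noncomputable def gmap (l : I) : C →ₗ[k] C :=
  (TensorProduct.rid k C).toLinearMap ∘ₗ LinearMap.lTensor C (b.coord l) ∘ₗ
    (CoalgebraStruct.comul (R := k) (A := C))

omit [DecidableEq I] in
lemma key (l : I) (v : V) : ρ (coef b l (ρ v)) = LinearMap.lTensor V (gmap b l) (ρ v) := by
  have hco := LinearMap.congr_fun (HopfRep.Comod.coassoc (k := k) (A := C) (V := V)) v
  simp only [LinearMap.comp_apply, LinearEquiv.coe_coe] at hco
  let Φ : V ⊗[k] (C ⊗[k] C) →ₗ[k] V ⊗[k] C :=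
    LinearMap.lTensor V ((TensorProduct.rid k C).toLinearMap ∘ₗ LinearMap.lTensor C (b.coord l))
  have hR : Φ ((CoalgebraStruct.comul (R := k) (A := C)).lTensor V (ρ v)) =
      LinearMap.lTensor V (gmap b l) (ρ v) := by
    rw [← LinearMap.comp_apply, ← LinearMap.lTensor_comp]
    rfl
  have hL : ∀ t : V ⊗[k] C, Φ ((TensorProduct.assoc k V C C) ((ρ).rTensor C t)) = ρ (coef b l t) := by
    intro t
    induction t using TensorProduct.induction_on with
    | zero => simp
    | tmul x c =>
      rw [LinearMap.rTensor_tmul, coef_tmul, map_smul]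
      generalize ρ x = z
      induction z using TensorProduct.induction_on with
      | zero => simp
      | tmul y c' =>
        rw [TensorProduct.assoc_tmul]
        change y ⊗ₜ[k] ((TensorProduct.rid k C) ((LinearMap.lTensor C (b.coord l)) (c' ⊗ₜ[k] c))) = _
        rw [LinearMap.lTensor_tmul, TensorProduct.rid_tmul, TensorProduct.tmul_smul,
          Module.Basis.coord_apply]
      | add z₁ z₂ h₁ h₂ =>
        rw [TensorProduct.add_tmul, map_add, map_add, h₁, h₂, smul_add]
    | add t₁ t₂ h₁ h₂ => rw [map_add, map_add, map_add, h₁, h₂, map_add, map_add]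
  rw [← hL, hco, hR]

/-- the `l`-th isotypic projector -/
noncomputable def proj (l : I) : V →ₗ[k] V := coef b l ∘ₗ ρ

omit [DecidableEq I] in
lemma proj_apply (l : I) (v : V) : proj b l v = coef b l (ρ v) := rfl

section grouplike
variable (hb : ∀ i, CoalgebraStruct.comul (R := k) (b i) = b i ⊗ₜ[k] b i)
  (hε : ∀ i, CoalgebraStruct.counit (R := k) (b i) = 1)
include hb

omit [HopfRep.Comod k C V] in
lemma gmap_basis (l l' : I) : gmap b l (b l') = if l' = l then b l' else 0 := by
  unfold gmap
  rw [LinearMap.comp_apply, LinearMap.comp_apply, hb, LinearMap.lTensor_tmul, LinearEquiv.coe_coe,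
    TensorProduct.rid_tmul, Module.Basis.coord_apply, Module.Basis.repr_self, Finsupp.single_apply]
  split_ifs <;> simp

lemma coact_proj (l : I) (v : V) : ρ (proj b l v) = proj b l v ⊗ₜ[k] b l := by
  rw [proj_apply, key]
  conv_lhs => rw [expand b (ρ v)]
  rw [map_sum]
  simp only [LinearMap.lTensor_tmul, gmap_basis b hb]
  by_cases hl : l ∈ (TensorProduct.equivFinsuppOfBasisRight b (ρ v)).support
  · rw [Finset.sum_eq_single l]
    · rw [if_pos rfl]
    · intro l' _ hne
      rw [if_neg hne, TensorProduct.tmul_zero]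
    · intro h; exact absurd hl h
  · rw [Finset.sum_eq_zero]
    · rw [Finsupp.notMem_support_iff, equiv_apply] at hl
      rw [hl, TensorProduct.zero_tmul]
    · intro l' hl'
      have : l' ≠ l := fun h => hl (h ▸ hl')
      rw [if_neg this, TensorProduct.tmul_zero]

lemma proj_proj (l l' : I) (v : V) : proj b l' (proj b l v) = if l = l' then proj b l v else 0 := by
  rw [proj_apply b l', coact_proj b hb, coef_tmul, Module.Basis.repr_self, Finsupp.single_apply]
  split_ifs <;> simp

include hε

lemma sum_proj (v : V) :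
    v = ∑ l ∈ (TensorProduct.equivFinsuppOfBasisRight b (ρ v)).support, proj b l v := by
  have hcounit := LinearMap.congr_fun (HopfRep.Comod.counit_comp (k := k) (A := C) (V := V)) v
  simp only [LinearMap.comp_apply, LinearMap.flip_apply, TensorProduct.mk_apply] at hcounit
  have hv : v = (TensorProduct.rid k V) ((CoalgebraStruct.counit (R := k) (A := C)).lTensor V (ρ v)) := by
    rw [hcounit, TensorProduct.rid_tmul, one_smul]
  conv_lhs => rw [hv, expand b (ρ v)]
  rw [map_sum, map_sum]
  apply Finset.sum_congr rfl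
  intro l _
  rw [LinearMap.lTensor_tmul, TensorProduct.rid_tmul, hε, one_smul, proj_apply]

lemma ext_proj {x y : V} (h : ∀ l, proj b l x = proj b l y) : x = y := by
  have hz : ∀ z : V, (∀ l, proj b l z = 0) → z = 0 := by
    intro z hz
    rw [sum_proj b hb hε z]
    exact Finset.sum_eq_zero (fun l _ => hz l)
  have := hz (x - y) (fun l => by rw [map_sub, h l, sub_self])
  exact sub_eq_zero.mp this

end grouplike

omit [DecidableEq I] in
/-- projectors preserve subcomodules -/
lemma proj_mem_of_isSubcomod (W : Submodule k V) (hW : HopfRep.IsSubcomod (k := k) (A := C) W)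
    (l : I) {w : V} (hw : w ∈ W) : proj b l w ∈ W := by
  obtain ⟨t, ht⟩ := hW w hw
  rw [proj_apply, ← ht]
  clear ht
  induction t using TensorProduct.induction_on with
  | zero => simp
  | tmul x c =>
    rw [LinearMap.rTensor_tmul, coef_tmul]
    exact W.smul_mem _ x.2
  | add t₁ t₂ h₁ h₂ => rw [map_add, map_add]; exact W.add_mem h₁ h₂

end

end Groth.Agent.Lib.Helper20.CB
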