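import Groth.Agent.Lib.Helper20.ComodBasis

/-!
# Helper library (helper20): action of functionals on a comodule
-/

set_option autoImplicit false
universe u v w
open TensorProduct

namespace Groth.Agent.Lib.Helper20.CB

section
variable {k : Type u} {C : Type v} [CommRing k] [AddCommGroup C] [Module k C] [Coalgebra k C]
  {V : Type w} [AddCommGroup V] [Module k V] [HopfRep.Comod k C V]

local notation "ρ" => HopfRep.Comod.coact (k := k) (A := C) (V := V)

/-- action of a functional `φ : C → k` on a comodule: `v ↦ (id ⊗ φ)(ρ v)` -/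
noncomputable def act (φ : C →ₗ[k] k) : V →ₗ[k] V :=
  (TensorProduct.rid k V).toLinearMap ∘ₗ LinearMap.lTensor V φ ∘ₗ ρ

lemma act_apply (φ : C →ₗ[k] k) (v : V) :
    act φ v = (TensorProduct.rid k V) (LinearMap.lTensor V φ (ρ v)) := rfl

lemma isSubcomod_of_act_stable {I : Type*} [DecidableEq I] (b : Module.Basis I k C)
    (W : Submodule k V) (h : ∀ φ : C →ₗ[k] k, ∀ w ∈ W, act φ w ∈ W) :
    HopfRep.IsSubcomod (k := k) (A := C) W := by
  intro w hw
  rw [expand b (ρ w)]
  apply Submodule.sum_mem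
  intro l _
  exact ⟨(⟨coef b l (ρ w), h (b.coord l) w hw⟩ : W) ⊗ₜ[k] b l, rfl⟩

/-- convolution of functionals -/
noncomputable def conv (φ ψ : C →ₗ[k] k) : C →ₗ[k] k :=
  LinearMap.mul' k k ∘ₗ TensorProduct.map φ ψ ∘ₗ (CoalgebraStruct.comul (R := k) (A := C))

omit [HopfRep.Comod k C V] in
lemma conv_comm [Coalgebra.IsCocomm k C] (φ ψ : C →ₗ[k] k) : conv φ ψ = conv ψ φ := by
  unfold conv
  conv_lhs => rw [← Coalgebra.comm_comp_comul k C]
  rw [← LinearMap.comp_assoc, ← LinearMap.comp_assoc, ← LinearMap.comp_assoc]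
  congr 1
  ext c c'
  simp [mul_comm]

lemma act_act (φ ψ : C →ₗ[k] k) (v : V) :
    act ψ (act φ v) = (TensorProduct.rid k V) (LinearMap.lTensor V (conv ψ φ) (ρ v)) := by
  have hco := LinearMap.congr_fun (HopfRep.Comod.coassoc (k := k) (A := C) (V := V)) v
  simp only [LinearMap.comp_apply, LinearEquiv.coe_coe] at hco
  let Θ : V ⊗[k] (C ⊗[k] C) →ₗ[k] V :=
    (TensorProduct.rid k V).toLinearMap ∘ₗ
      LinearMap.lTensor V (LinearMap.mul' k k ∘ₗ TensorProduct.map ψ φ)
  have hR : Θ ((CoalgebraStruct.comul (R := k) (A := C)).lTensor V (ρ v)) =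
      (TensorProduct.rid k V) (LinearMap.lTensor V (conv ψ φ) (ρ v)) := by
    change (TensorProduct.rid k V) ((LinearMap.lTensor V (LinearMap.mul' k k ∘ₗ TensorProduct.map ψ φ))
      ((CoalgebraStruct.comul (R := k) (A := C)).lTensor V (ρ v))) = _
    rw [← LinearMap.comp_apply, ← LinearMap.lTensor_comp]
    rfl
  have hL : ∀ t : V ⊗[k] C, Θ ((TensorProduct.assoc k V C C) ((ρ).rTensor C t)) =
      act ψ ((TensorProduct.rid k V) (LinearMap.lTensor V φ t)) := by
    intro t
    induction t using TensorProduct.induction_on with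
    | zero => simp
    | tmul x c =>
      rw [LinearMap.rTensor_tmul, LinearMap.lTensor_tmul, TensorProduct.rid_tmul, map_smul, act_apply]
      generalize ρ x = z
      induction z using TensorProduct.induction_on with
      | zero => simp
      | tmul y c' =>
        rw [TensorProduct.assoc_tmul]
        change (TensorProduct.rid k V) (y ⊗ₜ[k] ((LinearMap.mul' k k) ((TensorProduct.map ψ φ) (c' ⊗ₜ[k] c)))) = _
        rw [TensorProduct.map_tmul, LinearMap.mul'_apply, TensorProduct.rid_tmul,
          LinearMap.lTensor_tmul, TensorProduct.rid_tmul, smul_smul, mul_comm]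
      | add z₁ z₂ h₁ h₂ =>
        rw [TensorProduct.add_tmul, map_add, map_add, h₁, h₂, map_add, map_add, smul_add]
    | add t₁ t₂ h₁ h₂ => rw [map_add, map_add, map_add, h₁, h₂, map_add, map_add, map_add]
  rw [act_apply (V := V) φ v, ← hL, hco, hR]

lemma act_comm [Coalgebra.IsCocomm k C] (φ ψ : C →ₗ[k] k) (v : V) :
    act ψ (act φ v) = act φ (act ψ v) := by
  rw [act_act, act_act, conv_comm]

end

end Groth.Agent.Lib.Helper20.CB
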