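import Mathlib
import Groth.Prelude.Def_CAlg
import Groth.Prelude.Def_EGA4b
import Groth.Agent.Lib.Helper21.FlatLocal12
import Groth.Agent.Lib.helper19.CompletionNoetherian

/-!
# Helper20 — ComplDepth1: the `I`-adic completion `R'` of a localization `A_r` of a Noetherian ring:
Noetherian, flat over `A`, `R' ⊗_A M ≃ (M_r)^`, primes of `R'`.
-/

namespace Groth.Agent.Lib.Helper20.ComplDepth

open TensorProduct IsLocalRing

universe u

variable (A : Type u) [CommRing A] [IsNoetherianRing A] (I : Ideal A)
  (r : Ideal A) [r.IsPrime]

/-- the ideal `I A_r`. -/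
abbrev J : Ideal (Localization.AtPrime r) := I.map (algebraMap A (Localization.AtPrime r))

/-- the `I`-adic completion of `A_r`. -/
abbrev R' : Type u := AdicCompletion (J A I r) (Localization.AtPrime r)

instance : IsNoetherianRing (Localization.AtPrime r) :=
  IsLocalization.isNoetherianRing r.primeCompl _ inferInstance

instance : IsNoetherianRing (R' A I r) :=
  Groth.Agent.Lib.helper19.isNoetherianRing_adicCompletion _ _

instance : IsScalarTower A (Localization.AtPrime r) (R' A I r) := inferInstance

instance : Module.Flat A (R' A I r) :=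
  Module.Flat.trans A (Localization.AtPrime r) (R' A I r)

variable (M : Type u) [AddCommGroup M] [Module A M] [Module.Finite A M]

/-- `R' ⊗_A M ≃ (M_r)^`. -/
noncomputable def tensorEquiv :
    (R' A I r) ⊗[A] M ≃ₗ[R' A I r]
      AdicCompletion (J A I r) (LocalizedModule r.primeCompl M) :=
  (AlgebraTensorModule.cancelBaseChange A (Localization.AtPrime r) (R' A I r) (R' A I r) M).symm ≪≫ₗ
    (AlgebraTensorModule.congr (LinearEquiv.refl (R' A I r) (R' A I r))
      ((IsLocalizedModule.isBaseChange r.primeCompl (Localization.AtPrime r)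
        (LocalizedModule.mkLinearMap r.primeCompl M)).equiv)) ≪≫ₗ
    AdicCompletion.ofTensorProductEquivOfFiniteNoetherian (J A I r)
      (LocalizedModule r.primeCompl M)

end Groth.Agent.Lib.Helper20.ComplDepth
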