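import Mathlib
import Groth.Prelude.Def_CAlg
import Groth.Prelude.Def_EGA4b
import Groth.Agent.Lib.Helper21.FlatLocal12
import Groth.Agent.Lib.Helper20.ComplDepth1

/-!
# Helper20 — ComplDepth2: primes of the `I`-adic completion `R'` of `A_r`, depth at primes of `R'`
minimal over `p R'`.
-/

namespace Groth.Agent.Lib.Helper20.ComplDepth

open TensorProduct IsLocalRing Groth.Agent.Lib.Helper21.FlatLocal

universe u

variable {A : Type u} [CommRing A] [IsNoetherianRing A] {I : Ideal A}
  {r : Ideal A} [r.IsPrime]

theorem J_le_maximalIdeal (hI : I ≤ r) : J A I r ≤ maximalIdeal (Localization.AtPrime r) := by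
  rw [← Localization.AtPrime.map_eq_maximalIdeal]
  exact Ideal.map_mono hI

/-- `m_R R'` is a maximal ideal of `R'`. -/
theorem isMaximal_map (hI : I ≤ r) :
    ((maximalIdeal (Localization.AtPrime r)).map
      (algebraMap (Localization.AtPrime r) (R' A I r))).IsMaximal :=
  AdicCompletion.isMaximal_map_of_le _ _ (J_le_maximalIdeal hI) (IsNoetherian.noetherian _)

theorem faithfullyFlat (hI : I ≤ r) : Module.FaithfullyFlat (Localization.AtPrime r) (R' A I r) := by
  refine ⟨fun m hm h => ?_⟩
  have hm' : m = maximalIdeal (Localization.AtPrime r) := IsLocalRing.eq_maximalIdeal hm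
  subst hm'
  rw [Ideal.smul_top_eq_map] at h
  have h2 : (maximalIdeal (Localization.AtPrime r)).map
      (algebraMap (Localization.AtPrime r) (R' A I r)) = ⊤ := by
    apply Submodule.restrictScalars_injective (Localization.AtPrime r)
    rw [h]
    rfl
  exact (isMaximal_map hI).ne_top h2

theorem exists_prime_under (hI : I ≤ r) (p : Ideal A) [hp : p.IsPrime] (hpr : p ≤ r) :
    ∃ (r0 : Ideal (R' A I r)) (_ : r0.IsPrime), r0.under A = p := by
  have hdisj : Disjoint (r.primeCompl : Set A) (p : Set A) := by
    rw [Set.disjoint_left]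
    intro x hx hxp
    exact hx (hpr hxp)
  haveI hP : (p.map (algebraMap A (Localization.AtPrime r))).IsPrime :=
    IsLocalization.isPrime_of_isPrime_disjoint r.primeCompl _ p hp hdisj
  haveI := faithfullyFlat (A := A) (I := I) (r := r) hI
  obtain ⟨r0, hr0, hlo⟩ := Ideal.exists_isPrime_liesOver_of_faithfullyFlat (B := R' A I r)
    (p.map (algebraMap A (Localization.AtPrime r)))
  refine ⟨r0, hr0, ?_⟩
  rw [← Ideal.under_under (B := Localization.AtPrime r), ← hlo.over]
  exact IsLocalization.comap_map_of_isPrime_disjoint r.primeCompl _ hp hdisj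

theorem under_le (Q : Ideal (Localization.AtPrime r)) [Q.IsPrime] : Q.under A ≤ r := by
  calc Q.under A ≤ (maximalIdeal (Localization.AtPrime r)).under A :=
        Ideal.comap_mono (IsLocalRing.le_maximalIdeal Ideal.IsPrime.ne_top')
    _ = r := Localization.AtPrime.under_maximalIdeal

/-- a prime of `R'` containing `p R'` and `I R'` is maximal when `r` is minimal over `p + I`. -/
theorem isMaximal_of_le (hI : I ≤ r) (p : Ideal A) (hr : r ∈ (p ⊔ I).minimalPrimes)
    (q' : Ideal (R' A I r)) [hq' : q'.IsPrime] (h1 : p ≤ q'.under A) (h2 : I ≤ q'.under A) :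
    q'.IsMaximal := by
  have h3 : q'.under A ≤ r := by
    rw [← Ideal.under_under (B := Localization.AtPrime r)]
    exact under_le _
  have h4 : r ≤ q'.under A := hr.2 ⟨inferInstance, sup_le h1 h2⟩ h3
  have h5 : maximalIdeal (Localization.AtPrime r) ≤ q'.under (Localization.AtPrime r) := by
    rw [← Localization.AtPrime.map_eq_maximalIdeal, Ideal.map_le_iff_le_comap]
    intro x hx
    have := h4 hx
    rw [← Ideal.under_under (B := Localization.AtPrime r)] at this
    exact this
  have h6 : (maximalIdeal (Localization.AtPrime r)).map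
      (algebraMap (Localization.AtPrime r) (R' A I r)) ≤ q' := Ideal.map_le_iff_le_comap.2 h5
  have h7 := (isMaximal_map (A := A) (I := I) (r := r) hI).eq_of_le hq'.ne_top h6
  rw [← h7]
  exact isMaximal_map hI

variable (M : Type u) [AddCommGroup M] [Module A M] [Module.Finite A M]

/-- depth at a prime of `R'` minimal over `p R'`. -/
theorem depth_eq (p' : Ideal (R' A I r)) [p'.IsPrime]
    (hmin : p' ∈ ((p'.under A).map (algebraMap A (R' A I r))).minimalPrimes) :
    LocCoh.depth (Localization.AtPrime p') (LocalizedModule p'.primeCompl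
      (AdicCompletion (J A I r) (LocalizedModule r.primeCompl M))) =
    LocCoh.depth (Localization.AtPrime (p'.under A))
      (LocalizedModule (p'.under A).primeCompl M) := by
  have h1 := depth_loc_tensor (p'.under A) p' (R' A I r) M
  have h2 := depth_fibLocMod_eq_zero (B := A) (C := R' A I r) p' hmin
  have e : LocalizedModule p'.primeCompl ((R' A I r) ⊗[A] M) ≃ₗ[Localization.AtPrime p']
      LocalizedModule p'.primeCompl (AdicCompletion (J A I r) (LocalizedModule r.primeCompl M)) :=
    IsLocalizedModule.mapEquiv p'.primeCompl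
      (LocalizedModule.mkLinearMap p'.primeCompl ((R' A I r) ⊗[A] M))
      (LocalizedModule.mkLinearMap p'.primeCompl _) (Localization.AtPrime p')
      (tensorEquiv A I r M)
  have h0 : LocCoh.depth (Localization.AtPrime p') (LocalizedModule p'.primeCompl
      (AdicCompletion (J A I r) (LocalizedModule r.primeCompl M))) =
      LocCoh.depth (Localization.AtPrime p')
        (LocalizedModule p'.primeCompl ((R' A I r) ⊗[A] M)) :=
    (Groth.Agent.Lib.Helper21.DepthKit.idealDepth_congr _ e).symm
  rw [h0, h1]
  have h3 : LocCoh.depth (Localization.AtPrime p')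
      (LocalizedModule p'.primeCompl (R' A I r) ⧸
        ((p'.under A).map (algebraMap A (Localization.AtPrime p')) •
          (⊤ : Submodule (Localization.AtPrime p') (LocalizedModule p'.primeCompl (R' A I r))))) = 0 :=
    h2
  rw [h3, add_zero]

end Groth.Agent.Lib.Helper20.ComplDepth
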