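import Mathlib
import Groth.Prelude.Def_CAlg
import Groth.Prelude.Def_EGA4b
import Groth.Agent.Lib.Helper21.FlatLocal12
import Groth.Agent.Lib.Helper20.ComplDepth2

/-!
# Helper20 — ComplDepth3: depth bound at a prime `p ∉ V(I)` from the depth condition on the
completions at primes of `T` (Stacks, Algebraic and Formal Geometry, bootstrap situation).
-/

namespace Groth.Agent.Lib.Helper20.ComplDepth

open TensorProduct IsLocalRing Groth.Agent.Lib.Helper21.FlatLocal

universe u

theorem depth_congr_ideal {A : Type u} [CommRing A] (M : Type u) [AddCommGroup M] [Module A M]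
    (P Q : Ideal A) [P.IsPrime] [Q.IsPrime] (h : P = Q) :
    LocCoh.depth (Localization.AtPrime P) (LocalizedModule P.primeCompl M) =
      LocCoh.depth (Localization.AtPrime Q) (LocalizedModule Q.primeCompl M) := by
  subst h
  rfl

theorem main (A : Type u) [CommRing A] [IsNoetherianRing A] (I : Ideal A)
    (M : Type u) [AddCommGroup M] [Module A M] [Module.Finite A M] (T : Set (PrimeSpectrum A))
    (hTI : T ⊆ PrimeSpectrum.zeroLocus (I : Set A)) (s : ℕ)
    (h6 : ∀ q : PrimeSpectrum A, q ∈ T → ∀ p' : PrimeSpectrum (AdicCompletion (I.map (algebraMap A (Localization.AtPrime q.asIdeal))) (Localization.AtPrime q.asIdeal)), ¬ (I.map (algebraMap A (AdicCompletion (I.map (algebraMap A (Localization.AtPrime q.asIdeal))) (Localization.AtPrime q.asIdeal)))) ≤ p'.asIdeal → (∀ q' : PrimeSpectrum (AdicCompletion (I.map (algebraMap A (Localization.AtPrime q.asIdeal))) (Localization.AtPrime q.asIdeal)), p' ≤ q' → (I.map (algebraMap A (AdicCompletion (I.map (algebraMap A (Localization.AtPrime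 q.asIdeal))) (Localization.AtPrime q.asIdeal)))) ≤ q'.asIdeal → q'.asIdeal.IsMaximal) → (s : ℕ∞) < LocCoh.depth (Localization.AtPrime p'.asIdeal) (LocalizedModule p'.asIdeal.primeCompl (AdicCompletion (I.map (algebraMap A (Localization.AtPrime q.asIdeal))) (LocalizedModule q.asIdeal.primeCompl M))))
    (p q : PrimeSpectrum A) (hpq : p ≤ q) (hp : ¬ I ≤ p.asIdeal) (hq : q ∈ T)
    (hr : ∀ r : PrimeSpectrum A, p ≤ r → r ≤ q → I ≤ r.asIdeal → r ∈ T) :
    (s : ℕ∞) < LocCoh.depth (Localization.AtPrime p.asIdeal)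
      (LocalizedModule p.asIdeal.primeCompl M) := by
  have hIq : I ≤ q.asIdeal := by
    have := hTI hq
    rw [PrimeSpectrum.mem_zeroLocus] at this
    exact this
  have hle : p.asIdeal ⊔ I ≤ q.asIdeal := sup_le hpq hIq
  obtain ⟨r, hrmin, hrq⟩ := Ideal.exists_minimalPrimes_le hle
  haveI hrp : r.IsPrime := hrmin.1.1
  have hpr : p.asIdeal ≤ r := le_sup_left.trans hrmin.1.2
  have hIr : I ≤ r := le_sup_right.trans hrmin.1.2
  have hrT : (⟨r, hrp⟩ : PrimeSpectrum A) ∈ T := hr ⟨r, hrp⟩ hpr hrq hIr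
  obtain ⟨r0, hr0, hr0p⟩ := exists_prime_under (I := I) (r := r) hIr p.asIdeal hpr
  obtain ⟨p', hp', hp'u, hp'min⟩ := exists_good_prime_of_liesOver p.asIdeal r0 hr0p
  haveI := hp'
  have hmin' : p' ∈ ((p'.under A).map (algebraMap A (R' A I r))).minimalPrimes := by
    rw [hp'u]
    exact hp'min
  have key := h6 ⟨r, hrp⟩ hrT ⟨p', hp'⟩ ?_ ?_
  · have h1 := depth_eq (I := I) (r := r) M p' hmin'
    have h2 := depth_congr_ideal M (p'.under A) p.asIdeal hp'u
    exact lt_of_lt_of_eq key (h1.trans h2)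
  · intro h
    apply hp
    have h3 := Ideal.map_le_iff_le_comap.1 h
    intro x hx
    have h4 := h3 hx
    have h5 : x ∈ p'.under A := h4
    rw [hp'u] at h5
    exact h5
  · intro q' hq' hIq'
    haveI := q'.isPrime
    refine isMaximal_of_le (I := I) (r := r) hIr p.asIdeal hrmin q'.asIdeal ?_ ?_
    · rw [← hp'u]
      exact Ideal.comap_mono hq'
    · exact Ideal.map_le_iff_le_comap.1 hIq'

end Groth.Agent.Lib.Helper20.ComplDepth
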