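import Mathlib

set_option autoImplicit false

namespace Groth.Agent.Lib.Helper20.ConnCompl

open Set Topology TopologicalSpace

universe u

variable {X : Type u} [TopologicalSpace X]

/-- In a locally Noetherian quasi-sober space, a point in the closure of an open set has a
generization in that open set. -/
theorem exists_generization_mem_of_mem_closure [QuasiSober X]
    (hloc : ∀ x : X, ∃ U ∈ nhds x, NoetherianSpace ↥U) {U : Set X} (hU : IsOpen U) {x : X}
    (hx : x ∈ closure U) : ∃ y ∈ U, y ⤳ x := by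
  obtain ⟨N, hN, hNn⟩ := hloc x
  set W : Set X := U ∩ interior N with hW
  have hWo : IsOpen W := hU.inter isOpen_interior
  have hxW : x ∈ closure W := by
    rw [mem_closure_iff]
    intro O hO hxO
    obtain ⟨z, hz, hzU⟩ := mem_closure_iff.mp hx (O ∩ interior N) (hO.inter isOpen_interior)
      ⟨hxO, mem_interior_iff_mem_nhds.mpr hN⟩
    exact ⟨z, hz.1, hzU, hz.2⟩
  have hWN : W ⊆ N := fun z hz => interior_subset hz.2
  have hnoeth : NoetherianSpace ↥W := (IsEmbedding.inclusion hWN).isInducing.noetherianSpace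
  obtain ⟨S, hSf, _, hSi, hSU⟩ :=
    NoetherianSpace.exists_finite_set_isClosed_irreducible (isClosed_univ (X := ↥W))
  have hWeq : W = ⋃ t ∈ S, (Subtype.val '' t : Set X) := by
    ext z
    simp only [mem_iUnion, mem_image]
    constructor
    · intro hz
      have : (⟨z, hz⟩ : ↥W) ∈ ⋃₀ S := hSU ▸ mem_univ _
      obtain ⟨t, ht, hzt⟩ := this
      exact ⟨t, ht, ⟨z, hz⟩, hzt, rfl⟩
    · rintro ⟨t, _, w, _, rfl⟩
      exact w.2
  rw [hWeq, hSf.closure_biUnion] at hxW
  simp only [mem_iUnion] at hxW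
  obtain ⟨t, ht, hxt⟩ := hxW
  have hirr : IsIrreducible (closure (Subtype.val '' t : Set X)) :=
    ((hSi t ht).image _ continuous_subtype_val.continuousOn).closure
  obtain ⟨y, hy⟩ := QuasiSober.sober hirr isClosed_closure
  refine ⟨y, ?_, ?_⟩
  · have : y ∈ W := by
      rw [hy.mem_open_set_iff hWo]
      obtain ⟨w, hw⟩ := (hSi t ht).nonempty
      exact ⟨w.1, subset_closure ⟨w, hw, rfl⟩, w.2⟩
    exact this.1
  · rw [specializes_iff_mem_closure, hy.def]
    exact hxt

/-- A nonempty closed subset of a sober T0 space has a maximal point. -/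
theorem exists_maximal_point [QuasiSober X] [T0Space X] {F : Set X} (hF : IsClosed F) {x₀ : X}
    (hx₀ : x₀ ∈ F) : ∃ x ∈ F, ∀ x' ∈ F, x' ⤳ x → x' = x := by
  set C : Set ↥F := irreducibleComponent (⟨x₀, hx₀⟩ : ↥F) with hC
  have hCirr : IsIrreducible C := isIrreducible_irreducibleComponent
  have hCcl : IsClosed C := isClosed_irreducibleComponent
  have hDcl : IsClosed (Subtype.val '' C : Set X) :=
    hF.isClosedEmbedding_subtypeVal.isClosedMap _ hCcl
  have hDirr : IsIrreducible (Subtype.val '' C : Set X) :=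
    hCirr.image _ continuous_subtype_val.continuousOn
  obtain ⟨x, hx⟩ := QuasiSober.sober hDirr hDcl
  have hxD : x ∈ (Subtype.val '' C : Set X) := hx.mem
  have hxF : x ∈ F := by
    obtain ⟨c, _, rfl⟩ := hxD
    exact c.2
  refine ⟨x, hxF, ?_⟩
  intro x' hx'F hx'x
  have hu : IsPreirreducible (closure ({⟨x', hx'F⟩} : Set ↥F)) :=
    isPreirreducible_singleton.closure
  have hsub : C ⊆ closure ({⟨x', hx'F⟩} : Set ↥F) := by
    intro c hc
    rw [closure_subtype, image_singleton]
    have h1 : (c : X) ∈ closure ({x} : Set X) := by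
      rw [hx.def]
      exact ⟨c, hc, rfl⟩
    have h2 : closure ({x} : Set X) ⊆ closure {x'} :=
      closure_minimal (singleton_subset_iff.mpr (specializes_iff_mem_closure.mp hx'x))
        isClosed_closure
    exact h2 h1
  have heq := eq_irreducibleComponent hu hsub
  have hx'C : (⟨x', hx'F⟩ : ↥F) ∈ C := by
    rw [hC, ← heq]
    exact subset_closure rfl
  have hx'D : x' ∈ closure ({x} : Set X) := by
    rw [hx.def]
    exact ⟨⟨x', hx'F⟩, hx'C, rfl⟩
  exact (hx'x.antisymm (specializes_iff_mem_closure.mpr hx'D)).eq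

theorem isConnected_compl [QuasiSober X] [T0Space X]
    (hloc : ∀ x : X, ∃ U ∈ nhds x, NoetherianSpace ↥U) [ConnectedSpace X]
    (Z : Set X) (hZ : IsClosed Z) (hZn : IsNowhereDense Z)
    (hgen : ∀ x ∈ Z, IsPreconnected ({x' : X | x' ⤳ x} \ {x})) :
    IsConnected Zᶜ := by
  have hdense : Dense Zᶜ := by
    have h : interior (closure Z) = ∅ := hZn
    rw [hZ.closure_eq] at h
    exact interior_eq_empty_iff_dense_compl.mp h
  refine ⟨hdense.nonempty, ?_⟩
  intro u v hu hv hcov ⟨a, haZ, hau⟩ ⟨b, hbZ, hbv⟩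
  by_contra hempty
  rw [not_nonempty_iff_eq_empty] at hempty
  set U₁ : Set X := Zᶜ ∩ u with hU₁
  set U₂ : Set X := Zᶜ ∩ v with hU₂
  have hU₁o : IsOpen U₁ := hZ.isOpen_compl.inter hu
  have hU₂o : IsOpen U₂ := hZ.isOpen_compl.inter hv
  have hdisj : U₁ ∩ U₂ = ∅ := by
    rw [← hempty]
    ext z
    simp only [hU₁, hU₂, mem_inter_iff]
    tauto
  have hunion : U₁ ∪ U₂ = Zᶜ := by
    ext z
    simp only [hU₁, hU₂, mem_union, mem_inter_iff]
    constructor
    · rintro (h | h)
      · exact h.1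
      · exact h.1
    · intro hz
      rcases hcov hz with h | h
      · exact Or.inl ⟨hz, h⟩
      · exact Or.inr ⟨hz, h⟩
  have hcl : closure U₁ ∪ closure U₂ = univ := by
    rw [← closure_union, hunion]
    exact hdense.closure_eq
  -- U₁ is disjoint from closure U₂ and vice versa
  have h12 : U₁ ∩ closure U₂ = ∅ := by
    rw [← disjoint_iff_inter_eq_empty]
    rw [← disjoint_iff_inter_eq_empty] at hdisj
    exact hdisj.closure_right hU₁o
  have h21 : U₂ ∩ closure U₁ = ∅ := by
    rw [← disjoint_iff_inter_eq_empty]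
    rw [← disjoint_iff_inter_eq_empty, disjoint_comm] at hdisj
    exact hdisj.closure_right hU₂o
  -- F = closure U₁ ∩ closure U₂ is nonempty by connectedness of X
  have hFne : (closure U₁ ∩ closure U₂).Nonempty := by
    have hpre : IsPreconnected (univ : Set X) := isPreconnected_univ
    rw [isPreconnected_closed_iff] at hpre
    have := hpre (closure U₁) (closure U₂) isClosed_closure isClosed_closure (by rw [hcl])
      ⟨a, mem_univ _, subset_closure ⟨haZ, hau⟩⟩ ⟨b, mem_univ _, subset_closure ⟨hbZ, hbv⟩⟩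
    obtain ⟨z, _, hz⟩ := this
    exact ⟨z, hz⟩
  have hFZ : closure U₁ ∩ closure U₂ ⊆ Z := by
    intro z hz
    by_contra hzZ
    have hz' : z ∈ U₁ ∪ U₂ := by
      rw [hunion]
      exact hzZ
    rcases hz' with h | h
    · have : z ∈ U₁ ∩ closure U₂ := ⟨h, hz.2⟩
      rw [h12] at this
      exact this
    · have : z ∈ U₂ ∩ closure U₁ := ⟨h, hz.1⟩
      rw [h21] at this
      exact this
  obtain ⟨x₀, hx₀⟩ := hFne
  obtain ⟨x, hxF, hxmax⟩ :=
    exists_maximal_point (isClosed_closure.inter isClosed_closure) hx₀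
  have hxZ : x ∈ Z := hFZ hxF
  have hG := hgen x hxZ
  obtain ⟨y₁, hy₁U, hy₁x⟩ := exists_generization_mem_of_mem_closure hloc hU₁o hxF.1
  obtain ⟨y₂, hy₂U, hy₂x⟩ := exists_generization_mem_of_mem_closure hloc hU₂o hxF.2
  have hy₁ne : y₁ ≠ x := fun h => hy₁U.1 (h ▸ hxZ)
  have hy₂ne : y₂ ≠ x := fun h => hy₂U.1 (h ▸ hxZ)
  -- the two open sets
  have hGcov : ({x' : X | x' ⤳ x} \ {x}) ⊆ (closure U₂)ᶜ ∪ (closure U₁)ᶜ := by
    rintro z ⟨hzx, hzne⟩
    by_contra hz
    simp only [mem_union, mem_compl_iff, not_or, not_not] at hz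
    exact hzne (hxmax z ⟨hz.2, hz.1⟩ hzx)
  have := hG (closure U₂)ᶜ (closure U₁)ᶜ isClosed_closure.isOpen_compl
    isClosed_closure.isOpen_compl hGcov
    ⟨y₁, ⟨hy₁x, hy₁ne⟩, fun h => by
      have : y₁ ∈ U₁ ∩ closure U₂ := ⟨hy₁U, h⟩
      rw [h12] at this
      exact this⟩
    ⟨y₂, ⟨hy₂x, hy₂ne⟩, fun h => by
      have : y₂ ∈ U₂ ∩ closure U₁ := ⟨hy₂U, h⟩
      rw [h21] at this
      exact this⟩
  obtain ⟨z, _, hz2, hz1⟩ := this
  have hzu : z ∈ closure U₁ ∪ closure U₂ := by
    rw [hcl]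
    exact mem_univ z
  rcases hzu with h | h
  · exact hz1 h
  · exact hz2 h

end Groth.Agent.Lib.Helper20.ConnCompl
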