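import Mathlib

/-!
# Cotangent module of an ideal generated by a weakly regular sequence is free (helper20)
-/

set_option autoImplicit false
universe u

namespace Groth.Agent.Lib.Helper20.CotReg

open RingTheory.Sequence

variable {P : Type u} [CommRing P] {r : ℕ} (F : Fin r → P)

/-- the ideal generated by the first `k` elements -/
def Ik (k : ℕ) : Ideal P := Ideal.span (F '' {j | j.val < k})

lemma Ik_mono {k k' : ℕ} (h : k ≤ k') : Ik F k ≤ Ik F k' :=
  Ideal.span_mono (Set.image_mono (fun j (hj : j.val < k) => lt_of_lt_of_le hj h))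

lemma Ik_le (k : ℕ) : Ik F k ≤ Ideal.span (Set.range F) :=
  Ideal.span_mono (Set.image_subset_range _ _)

lemma F_mem_Ik {k : ℕ} (j : Fin r) (hj : j.val < k) : F j ∈ Ik F k :=
  Ideal.subset_span ⟨j, hj, rfl⟩

lemma ofList_take (k : ℕ) :
    (Ideal.ofList ((List.ofFn F).take k) • ⊤ : Submodule P P) = Ik F k := by
  rw [smul_eq_mul, Ideal.mul_top]
  unfold Ik Ideal.ofList
  congr 1
  ext x
  simp only [Set.mem_setOf_eq, Set.mem_image]
  rw [List.mem_take_iff_getElem]
  constructor
  · rintro ⟨i, hi, rfl⟩
    rw [List.length_ofFn] at hi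
    have hi' : i < r := lt_of_lt_of_le hi (min_le_right _ _)
    refine ⟨⟨i, hi'⟩, lt_of_lt_of_le hi (min_le_left _ _), ?_⟩
    simp
  · rintro ⟨j, hj, rfl⟩
    refine ⟨j.val, ?_, ?_⟩
    · rw [List.length_ofFn]; exact lt_min hj j.2
    · simp

lemma regular_step (hreg : IsWeaklyRegular P (List.ofFn F)) (k : Fin r) (a : P)
    (ha : a * F k ∈ Ik F k.val) : a ∈ Ik F k.val := by
  have hk : k.val < (List.ofFn F).length := by rw [List.length_ofFn]; exact k.2
  have h := hreg.regular_mod_prev k.val hk
  rw [ofList_take] at h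
  have hget : (List.ofFn F)[k.val] = F k := by simp
  rw [hget] at h
  have h0 : F k • (Submodule.Quotient.mk a : P ⧸ (Ik F k.val : Submodule P P)) =
      F k • (Submodule.Quotient.mk 0 : P ⧸ (Ik F k.val : Submodule P P)) := by
    rw [← Submodule.Quotient.mk_smul, ← Submodule.Quotient.mk_smul, smul_zero,
      Submodule.Quotient.mk_zero, Submodule.Quotient.mk_eq_zero, smul_eq_mul, mul_comm]
    exact ha
  have h1 := h h0
  rwa [Submodule.Quotient.mk_zero, Submodule.Quotient.mk_eq_zero] at h1

/-- syzygies of a weakly regular sequence have coefficients in the ideal. -/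
theorem syz_mem (hreg : IsWeaklyRegular P (List.ofFn F)) :
    ∀ (k : ℕ), k ≤ r → ∀ (a : Fin r → P), (∀ i : Fin r, k ≤ i.val → a i = 0) →
      ∑ i, a i * F i = 0 → ∀ i, a i ∈ Ik F k := by
  intro k
  induction k with
  | zero =>
    intro _ a ha _ i
    rw [ha i (Nat.zero_le _)]
    exact Submodule.zero_mem _
  | succ k ih =>
    intro hk a ha hsum
    have hkr : k < r := hk
    set kk : Fin r := ⟨k, hkr⟩ with hkk
    -- a kk * F kk ∈ Ik k
    have h1 : a kk * F kk ∈ Ik F k := by
      have hs : a kk * F kk = - ∑ i ∈ Finset.univ.erase kk, a i * F i := by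
        rw [← Finset.add_sum_erase _ _ (Finset.mem_univ kk)] at hsum
        exact eq_neg_of_add_eq_zero_left hsum
      rw [hs]
      refine Submodule.neg_mem _ (Submodule.sum_mem _ fun i hi => ?_)
      have hik : i ≠ kk := Finset.ne_of_mem_erase hi
      by_cases hlt : i.val < k
      · exact Ideal.mul_mem_left _ _ (F_mem_Ik F i hlt)
      · have hge : k + 1 ≤ i.val := by
          have : i.val ≠ k := fun h => hik (Fin.ext h)
          omega
        rw [ha i hge, zero_mul]
        exact Submodule.zero_mem _
    have h2 : a kk ∈ Ik F k := regular_step F hreg kk (a kk) h1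
    -- write a kk = Σ b j F j with b supported below k
    obtain ⟨b, hb0, hb⟩ : ∃ b : Fin r → P, (∀ i : Fin r, k ≤ i.val → b i = 0) ∧
        a kk = ∑ i, b i * F i := by
      unfold Ik at h2
      rw [Ideal.span, Finsupp.mem_span_image_iff_linearCombination] at h2
      obtain ⟨l, hl, hl2⟩ := h2
      refine ⟨fun i => l i, fun i hi => ?_, ?_⟩
      · by_contra hne
        have : i ∈ l.support := Finsupp.mem_support_iff.mpr hne
        have := hl this
        simp only [Set.mem_ofPred_eq] at this
        omega
      · rw [← hl2, Finsupp.linearCombination_apply, Finsupp.sum_fintype]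
        · simp [smul_eq_mul]
        · intro i; exact zero_smul _ _
    have hbkk : b kk = 0 := hb0 kk le_rfl
    -- new coefficients
    set a' : Fin r → P := fun i => if i = kk then 0 else a i + b i * F kk with ha'
    have ha'0 : ∀ i : Fin r, k ≤ i.val → a' i = 0 := by
      intro i hi
      simp only [ha']
      by_cases hik : i = kk
      · simp [hik]
      · have hge : k + 1 ≤ i.val := by
          have : i.val ≠ k := fun h => hik (Fin.ext h)
          omega
        simp [hik, ha i hge, hb0 i hi]
    have hsum' : ∑ i, a' i * F i = 0 := by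
      have e1 : ∑ i, a' i * F i = ∑ i ∈ Finset.univ.erase kk, (a i * F i + F kk * (b i * F i)) := by
        rw [← Finset.add_sum_erase _ _ (Finset.mem_univ kk)]
        simp only [ha', if_true, zero_mul, zero_add]
        refine Finset.sum_congr rfl fun i hi => ?_
        have hik : i ≠ kk := Finset.ne_of_mem_erase hi
        simp only [hik, if_false]
        ring
      rw [e1, Finset.sum_add_distrib, ← Finset.mul_sum]
      have e2 : ∑ i ∈ Finset.univ.erase kk, b i * F i = a kk := by
        rw [hb, ← Finset.add_sum_erase _ _ (Finset.mem_univ kk), hbkk, zero_mul, zero_add]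
      rw [e2]
      rw [← Finset.add_sum_erase _ _ (Finset.mem_univ kk)] at hsum
      rw [← hsum]
      ring
    have hIH := ih (le_of_lt hkr) a' ha'0 hsum'
    intro i
    by_cases hik : i = kk
    · rw [hik]
      exact Ik_mono F (Nat.le_succ k) h2
    · have h3 := hIH i
      simp only [ha', hik, if_false] at h3
      have h4 : a i = (a i + b i * F kk) - b i * F kk := by ring
      rw [h4]
      refine Submodule.sub_mem _ (Ik_mono F (Nat.le_succ k) h3) ?_
      exact Ideal.mul_mem_left _ _ (F_mem_Ik F kk (Nat.lt_succ_self k))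

/-- if `Σ c_i F_i ∈ I²` then all `c_i ∈ I`. -/
theorem coeff_mem (hreg : IsWeaklyRegular P (List.ofFn F)) (c : Fin r → P)
    (hc : ∑ i, c i * F i ∈ Ideal.span (Set.range F) ^ 2) (i : Fin r) :
    c i ∈ Ideal.span (Set.range F) := by
  rw [pow_two] at hc
  nth_rewrite 2 [Ideal.span] at hc
  rw [← smul_eq_mul, Submodule.mem_ideal_smul_span_iff_exists_sum] at hc
  obtain ⟨d, hd, hd2⟩ := hc
  rw [Finsupp.sum_fintype _ _ (by intro i; exact zero_smul _ _)] at hd2
  have hsum : ∑ i, (c i - d i) * F i = 0 := by
    simp only [sub_mul, Finset.sum_sub_distrib]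
    rw [sub_eq_zero]
    simp only [smul_eq_mul] at hd2
    exact hd2.symm
  have h := syz_mem F hreg r le_rfl (fun i => c i - d i)
    (fun i hi => absurd i.2 (not_lt.mpr hi)) hsum i
  have h' := Ik_le F r h
  have : c i = (c i - d i) + d i := by ring
  rw [this]
  exact Submodule.add_mem _ h' (hd i)

/-- the classes of the generators in the cotangent module -/
noncomputable def gens (i : Fin r) : (Ideal.span (Set.range F)).Cotangent :=
  (Ideal.span (Set.range F)).toCotangent ⟨F i, Ideal.subset_span ⟨i, rfl⟩⟩

lemma mk_smul_cot (c : P) (x : (Ideal.span (Set.range F)).Cotangent) :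
    (Ideal.Quotient.mk (Ideal.span (Set.range F)) c) • x = c • x := by
  rw [← Ideal.Quotient.algebraMap_eq, algebraMap_smul]

lemma sum_smul_gens (c : Fin r → P) :
    ∑ i, (Ideal.Quotient.mk (Ideal.span (Set.range F)) (c i)) • gens F i =
      (Ideal.span (Set.range F)).toCotangent
        ⟨∑ i, c i * F i, Submodule.sum_mem _ fun i _ =>
          Ideal.mul_mem_left _ _ (Ideal.subset_span ⟨i, rfl⟩)⟩ := by
  have h : (⟨∑ i, c i * F i, Submodule.sum_mem _ fun i _ =>
          Ideal.mul_mem_left _ _ (Ideal.subset_span ⟨i, rfl⟩)⟩ : Ideal.span (Set.range F)) =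
      ∑ i, c i • (⟨F i, Ideal.subset_span ⟨i, rfl⟩⟩ : Ideal.span (Set.range F)) := by
    apply Subtype.ext
    simp [Submodule.coe_sum]
  rw [h, map_sum]
  refine Finset.sum_congr rfl fun i _ => ?_
  rw [mk_smul_cot, map_smul]
  rfl

theorem linearIndependent_gens (hreg : IsWeaklyRegular P (List.ofFn F)) :
    LinearIndependent (P ⧸ Ideal.span (Set.range F)) (gens F) := by
  rw [Fintype.linearIndependent_iff]
  intro g hg i
  choose c hc using fun i => Ideal.Quotient.mk_surjective (g i)
  have hg' : ∑ i, (Ideal.Quotient.mk (Ideal.span (Set.range F)) (c i)) • gens F i = 0 := by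
    simp only [hc]; exact hg
  rw [sum_smul_gens, Ideal.toCotangent_eq_zero] at hg'
  have := coeff_mem F hreg c hg' i
  rw [← hc i]
  exact Ideal.Quotient.eq_zero_iff_mem.mpr this

theorem span_gens : ⊤ ≤ Submodule.span (P ⧸ Ideal.span (Set.range F)) (Set.range (gens F)) := by
  intro x _
  obtain ⟨⟨y, hy⟩, rfl⟩ := Ideal.toCotangent_surjective _ x
  obtain ⟨c, rfl⟩ := (Ideal.mem_span_range_iff_exists_fun).mp hy
  have := sum_smul_gens F c
  rw [← this]
  exact Submodule.sum_mem _ fun i _ => Submodule.smul_mem _ _ (Submodule.subset_span ⟨i, rfl⟩)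

/-- the cotangent module of an ideal generated by a weakly regular sequence is free on the
classes of the generators. -/
noncomputable def cotBasis (hreg : IsWeaklyRegular P (List.ofFn F)) :
    Module.Basis (Fin r) (P ⧸ Ideal.span (Set.range F)) (Ideal.span (Set.range F)).Cotangent :=
  Module.Basis.mk (linearIndependent_gens F hreg) (span_gens F)

end Groth.Agent.Lib.Helper20.CotReg
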