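import Mathlib

/-!
# Exterior powers of `N × R` and top exterior powers of stably free modules (helper20)

`E(N × R) = E(N) ⊕ u·E(N)` via contraction with the second projection; consequently, if
`N × R^r` is free of rank `m + r` then `⋀^m N ≃ R` and `⋀^(m+1) N = 0`.
-/

set_option autoImplicit false
universe u

namespace Groth.Agent.Lib.Helper20.ExtProd

open ExteriorAlgebra

section Decomp

variable {R : Type u} [CommRing R] {N : Type u} [AddCommGroup N] [Module R N]

/-- `E(N) → E(N × R)` induced by `inl`. -/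
noncomputable def I : ExteriorAlgebra R N →ₐ[R] ExteriorAlgebra R (N × R) :=
  ExteriorAlgebra.map (LinearMap.inl R N R)

/-- `E(N × R) → E(N)` induced by `fst`. -/
noncomputable def Pm : ExteriorAlgebra R (N × R) →ₐ[R] ExteriorAlgebra R N :=
  ExteriorAlgebra.map (LinearMap.fst R N R)

/-- the second projection as a linear form -/
def φ : Module.Dual R (N × R) := LinearMap.snd R N R

/-- the extra basis vector -/
def uu : N × R := (0, 1)

/-- contraction with `φ` -/
noncomputable def cφ : ExteriorAlgebra R (N × R) →ₗ[R] ExteriorAlgebra R (N × R) :=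
  CliffordAlgebra.contractLeft (Q := (0 : QuadraticForm R (N × R))) (φ (R := R) (N := N))

/-- `b ↦ u ∧ I b` -/
noncomputable def W : ExteriorAlgebra R N →ₗ[R] ExteriorAlgebra R (N × R) :=
  (LinearMap.mulLeft R (ι R (uu (R := R) (N := N)))) ∘ₗ (I (R := R) (N := N)).toLinearMap

/-- `x ↦ Pm (φ ⌋ x)` -/
noncomputable def V : ExteriorAlgebra R (N × R) →ₗ[R] ExteriorAlgebra R N :=
  (Pm (R := R) (N := N)).toLinearMap ∘ₗ cφ

lemma W_apply (b : ExteriorAlgebra R N) : W b = ι R (uu (R := R) (N := N)) * I b := rfl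

lemma V_apply (x : ExteriorAlgebra R (N × R)) : V x = Pm (cφ x) := rfl

lemma Pm_I (a : ExteriorAlgebra R N) : Pm (I a) = a := by
  unfold Pm I
  have := ExteriorAlgebra.map_comp_map (LinearMap.inl R N R) (LinearMap.fst R N R)
  have h2 : (LinearMap.fst R N R) ∘ₗ (LinearMap.inl R N R) = LinearMap.id := by
    ext; simp
  rw [h2, ExteriorAlgebra.map_id] at this
  exact DFunLike.congr_fun this a

lemma cφ_ι_mul (v : N × R) (y : ExteriorAlgebra R (N × R)) :
    cφ (ι R v * y) = v.2 • y - ι R v * cφ y := by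
  unfold cφ
  exact CliffordAlgebra.contractLeft_ι_mul _ _ _

lemma cφ_algebraMap (r : R) : cφ (algebraMap R (ExteriorAlgebra R (N × R)) r) = 0 := by
  unfold cφ
  exact CliffordAlgebra.contractLeft_algebraMap _ _ _

lemma cφ_I (a : ExteriorAlgebra R N) : cφ (I a) = 0 := by
  induction a using CliffordAlgebra.left_induction with
  | algebraMap r =>
    rw [AlgHom.commutes]
    exact cφ_algebraMap r
  | add x y hx hy => rw [map_add, map_add, hx, hy, add_zero]
  | ι_mul x n hx =>
    have h1 : I (CliffordAlgebra.ι (0 : QuadraticForm R N) n * x) =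
        ι R ((n, 0) : N × R) * I x := by
      rw [map_mul]
      congr 1
      exact ExteriorAlgebra.map_apply_ι _ _
    rw [h1, cφ_ι_mul, hx]
    simp

lemma Pm_ι (v : N × R) : Pm (ι R v) = ι R v.1 := by
  unfold Pm
  rw [ExteriorAlgebra.map_apply_ι]
  rfl

lemma I_ι (n : N) : I (ι R n) = ι R ((n, 0) : N × R) := by
  unfold I
  rw [ExteriorAlgebra.map_apply_ι]
  rfl

lemma Pm_W (b : ExteriorAlgebra R N) : Pm (W b) = 0 := by
  rw [W_apply, map_mul, Pm_ι]
  simp [uu]

lemma V_W (b : ExteriorAlgebra R N) : V (W b) = b := by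
  rw [V_apply, W_apply, cφ_ι_mul, cφ_I, mul_zero, sub_zero]
  simp only [uu, one_smul]
  exact Pm_I b

lemma V_I (a : ExteriorAlgebra R N) : V (I a) = 0 := by
  rw [V_apply, cφ_I, map_zero]

/-- the decomposition `x = I (Pm x) + u ∧ I (Pm (φ ⌋ x))`. -/
theorem decomp (x : ExteriorAlgebra R (N × R)) : x = I (Pm x) + W (V x) := by
  induction x using CliffordAlgebra.left_induction with
  | algebraMap r =>
    rw [AlgHom.commutes, AlgHom.commutes, V_apply, cφ_algebraMap, map_zero, map_zero, add_zero]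
  | add x y hx hy =>
    rw [map_add, map_add, map_add, map_add]
    nth_rewrite 1 [hx, hy]
    abel
  | ι_mul y v hy =>
    change ι R v * y = I (Pm (ι R v * y)) + W (V (ι R v * y))
    set a := Pm y with ha
    set b := V y with hb
    have hv : ι R v = ι R ((v.1, 0) : N × R) + v.2 • ι R (uu (R := R) (N := N)) := by
      rw [← map_smul, ← map_add]
      congr 1
      ext <;> simp [uu]
    have e1 : Pm (ι R v * y) = ι R v.1 * a := by rw [map_mul, Pm_ι]
    have e2 : V (ι R v * y) = v.2 • a - ι R v.1 * b := by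
      rw [V_apply, cφ_ι_mul, map_sub, map_smul, map_mul, Pm_ι]
      rfl
    rw [e1, e2, map_mul, I_ι, W_apply, map_sub, map_smul, map_mul, I_ι]
    nth_rewrite 1 [hy]
    rw [W_apply, hv]
    set X := ι R ((v.1, 0) : N × R) with hX
    set U := ι R (uu (R := R) (N := N)) with hU
    have h1 : X * U = -(U * X) := eq_neg_of_add_eq_zero_left (ι_add_mul_swap _ _)
    have h2 : U * U = 0 := ι_sq_zero _
    have h1' : X * U * I b = -(U * X * I b) := by rw [h1, neg_mul]
    have h2' : U * U * I b = 0 := by rw [h2, zero_mul]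
    simp only [add_mul, mul_add, smul_mul_assoc, ← mul_assoc, mul_sub, mul_smul_comm]
    rw [h1', h2', smul_zero, add_zero]
    abel

end Decomp

section Graded

variable {R : Type u} [CommRing R]

/-- `ExteriorAlgebra.map` preserves degrees. -/
lemma map_mem {M M' : Type u} [AddCommGroup M] [Module R M] [AddCommGroup M'] [Module R M']
    (f : M →ₗ[R] M') {k : ℕ} {x : ExteriorAlgebra R M} (hx : x ∈ ⋀[R]^k M) :
    ExteriorAlgebra.map f x ∈ ⋀[R]^k M' := by
  have h : Submodule.map (ExteriorAlgebra.map f).toLinearMap (⋀[R]^k M) ≤ ⋀[R]^k M' := by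
    rw [ExteriorAlgebra.exteriorPower, ExteriorAlgebra.exteriorPower, Submodule.map_pow,
      ExteriorAlgebra.ι_range_map_map]
    exact pow_le_pow_left' LinearMap.map_le_range k
  exact h (Submodule.mem_map_of_mem hx)

lemma ι_mul_mem {M : Type u} [AddCommGroup M] [Module R M] (v : M) {k : ℕ}
    {x : ExteriorAlgebra R M} (hx : x ∈ ⋀[R]^k M) : ι R v * x ∈ ⋀[R]^(k + 1) M := by
  rw [ExteriorAlgebra.exteriorPower, pow_succ']
  exact Submodule.mul_mem_mul (LinearMap.mem_range_self _ v) hx

lemma contract_mem {M : Type u} [AddCommGroup M] [Module R M] (d : Module.Dual R M) :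
    ∀ (k : ℕ) {x : ExteriorAlgebra R M}, x ∈ ⋀[R]^(k + 1) M →
      CliffordAlgebra.contractLeft (Q := (0 : QuadraticForm R M)) d x ∈ ⋀[R]^k M := by
  intro k
  induction k with
  | zero =>
    intro x hx
    rw [ExteriorAlgebra.exteriorPower, zero_add, pow_one] at hx
    obtain ⟨v, rfl⟩ := hx
    change CliffordAlgebra.contractLeft d (CliffordAlgebra.ι (0 : QuadraticForm R M) v) ∈ _
    rw [CliffordAlgebra.contractLeft_ι, ExteriorAlgebra.exteriorPower, pow_zero,
      Submodule.one_eq_range]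
    exact LinearMap.mem_range_self _ _
  | succ k ih =>
    intro x hx
    rw [ExteriorAlgebra.exteriorPower, pow_succ'] at hx
    induction hx using Submodule.mul_induction_on' with
    | mem_mul_mem m hm y hy =>
      obtain ⟨v, rfl⟩ := hm
      change CliffordAlgebra.contractLeft d (CliffordAlgebra.ι (0 : QuadraticForm R M) v * y) ∈ _
      rw [CliffordAlgebra.contractLeft_ι_mul]
      refine Submodule.sub_mem _ (Submodule.smul_mem _ _ hy) ?_
      exact ι_mul_mem v (ih hy)
    | add x hx y hy h1 h2 =>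
      rw [map_add]
      exact Submodule.add_mem _ h1 h2

end Graded

section Step

variable {R : Type u} [CommRing R] {N : Type u} [AddCommGroup N] [Module R N]

lemma W_mem {k : ℕ} {b : ExteriorAlgebra R N} (hb : b ∈ ⋀[R]^k N) :
    W b ∈ ⋀[R]^(k + 1) (N × R) := by
  rw [W_apply]
  exact ι_mul_mem _ (map_mem _ hb)

lemma V_mem {k : ℕ} {x : ExteriorAlgebra R (N × R)} (hx : x ∈ ⋀[R]^(k + 1) (N × R)) :
    V x ∈ ⋀[R]^k N := by
  rw [V_apply]
  exact map_mem _ (contract_mem _ k hx)

lemma Pm_mem {k : ℕ} {x : ExteriorAlgebra R (N × R)} (hx : x ∈ ⋀[R]^k (N × R)) :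
    Pm x ∈ ⋀[R]^k N := map_mem _ hx

/-- if `⋀^(k+1) (N × R) = 0` then `⋀^k N = 0`. -/
theorem subsingleton_of_prod (k : ℕ) (h : Subsingleton (⋀[R]^(k + 1) (N × R))) :
    Subsingleton (⋀[R]^k N) := by
  refine ⟨fun x y => ?_⟩
  have key : ∀ z : ⋀[R]^k N, (z : ExteriorAlgebra R N) = 0 := by
    intro z
    have h1 : (⟨W (z : ExteriorAlgebra R N), W_mem z.2⟩ : ⋀[R]^(k + 1) (N × R)) = 0 :=
      Subsingleton.elim _ _
    have h2 : W (z : ExteriorAlgebra R N) = 0 := congrArg Subtype.val h1
    rw [← V_W (z : ExteriorAlgebra R N), h2, map_zero]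
  exact Subtype.ext ((key x).trans (key y).symm)

/-- the map `⋀^k N → ⋀^(k+1) (N × R)`, `b ↦ u ∧ b`. -/
noncomputable def Wk (k : ℕ) : ⋀[R]^k N →ₗ[R] ⋀[R]^(k + 1) (N × R) :=
  LinearMap.codRestrict _ ((W (R := R) (N := N)) ∘ₗ (⋀[R]^k N).subtype) (fun z => W_mem z.2)

lemma Wk_injective (k : ℕ) : Function.Injective (Wk (R := R) (N := N) k) := by
  intro x y hxy
  have h1 : W (x : ExteriorAlgebra R N) = W (y : ExteriorAlgebra R N) := congrArg Subtype.val hxy
  apply Subtype.ext
  rw [← V_W (x : ExteriorAlgebra R N), h1, V_W]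

lemma Wk_surjective (k : ℕ) (h : Subsingleton (⋀[R]^(k + 1) N)) :
    Function.Surjective (Wk (R := R) (N := N) k) := by
  intro x
  refine ⟨⟨V (x : ExteriorAlgebra R (N × R)), V_mem x.2⟩, ?_⟩
  apply Subtype.ext
  change W (V (x : ExteriorAlgebra R (N × R))) = x
  have h0 : (⟨Pm (x : ExteriorAlgebra R (N × R)), Pm_mem x.2⟩ : ⋀[R]^(k + 1) N) = 0 :=
    Subsingleton.elim _ _
  have h1 : Pm (x : ExteriorAlgebra R (N × R)) = 0 := congrArg Subtype.val h0
  have := decomp (x : ExteriorAlgebra R (N × R))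
  rw [h1, map_zero, zero_add] at this
  exact this.symm

/-- The property: `⋀^m M ≃ R` and `⋀^(m+1) M = 0`. -/
def Q (R : Type u) [CommRing R] (M : Type u) [AddCommGroup M] [Module R M] (m : ℕ) : Prop :=
  Nonempty (⋀[R]^m M ≃ₗ[R] R) ∧ Subsingleton (⋀[R]^(m + 1) M)

theorem Q_step (m : ℕ) (h : Q R (N × R) (m + 1)) : Q R N m := by
  obtain ⟨⟨e⟩, h2⟩ := h
  have hs : Subsingleton (⋀[R]^(m + 1) N) := subsingleton_of_prod (m + 1) h2
  refine ⟨⟨?_⟩, hs⟩
  exact (LinearEquiv.ofBijective (Wk m) ⟨Wk_injective m, Wk_surjective m hs⟩).trans e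

end Step

section Iterate

variable {R : Type u} [CommRing R]

/-- exterior powers of isomorphic modules -/
noncomputable def mapEquiv {M M' : Type u} [AddCommGroup M] [Module R M] [AddCommGroup M']
    [Module R M'] (k : ℕ) (e : M ≃ₗ[R] M') : ⋀[R]^k M ≃ₗ[R] ⋀[R]^k M' :=
  LinearEquiv.ofLinear (exteriorPower.map k e.toLinearMap) (exteriorPower.map k e.symm.toLinearMap)
    (by rw [← exteriorPower.map_comp]; simp [exteriorPower.map_id])
    (by rw [← exteriorPower.map_comp]; simp [exteriorPower.map_id])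

theorem Q_congr {M M' : Type u} [AddCommGroup M] [Module R M] [AddCommGroup M'] [Module R M']
    (e : M ≃ₗ[R] M') (m : ℕ) (h : Q R M m) : Q R M' m := by
  obtain ⟨⟨f⟩, h2⟩ := h
  refine ⟨⟨(mapEquiv m e).symm.trans f⟩, ?_⟩
  exact (mapEquiv (m + 1) e).symm.toEquiv.subsingleton

theorem Q_base (n : ℕ) {M : Type u} [AddCommGroup M] [Module R M] (b : Module.Basis (Fin n) R M) :
    Q R M n := by
  constructor
  · have hc : Nat.card (Set.powersetCard (Fin n) n) = 1 := by
      rw [Set.powersetCard.card]; simp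
    obtain ⟨hs, hn⟩ := Nat.card_eq_one_iff_unique.mp hc
    obtain ⟨d⟩ := hn
    letI : Unique (Set.powersetCard (Fin n) n) := ⟨⟨d⟩, fun x => Subsingleton.elim _ _⟩
    exact ⟨(b.exteriorPower n).repr.trans (Finsupp.LinearEquiv.finsuppUnique R R _)⟩
  · have hc : Nat.card (Set.powersetCard (Fin n) (n + 1)) = 0 := by
      rw [Set.powersetCard.card]; simp
    have hemp : IsEmpty (Set.powersetCard (Fin n) (n + 1)) := by
      rcases Nat.card_eq_zero.mp hc with h | h
      · exact h
      · exact absurd (inferInstance : Finite (Set.powersetCard (Fin n) (n + 1))) (not_finite_iff_infinite.mpr h)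
    exact (b.exteriorPower (n + 1)).repr.toEquiv.subsingleton

theorem Q_iter (r : ℕ) : ∀ (N : Type u) [AddCommGroup N] [Module R N] (m : ℕ),
    Q R (N × (Fin r → R)) (m + r) → Q R N m := by
  induction r with
  | zero =>
    intro N _ _ m h
    exact Q_congr (LinearEquiv.prodUnique (R := R) (M := N) (M₂ := Fin 0 → R)) m h
  | succ r ih =>
    intro N _ _ m h
    apply Q_step
    apply ih (N × R) (m + 1)
    have e : (N × (Fin (r + 1) → R)) ≃ₗ[R] ((N × R) × (Fin r → R)) :=
      (LinearEquiv.prodCongr (LinearEquiv.refl R N)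
        (Fin.consLinearEquiv R (fun _ : Fin (r + 1) => R)).symm).trans
        (LinearEquiv.prodAssoc R N R (Fin r → R)).symm
    have h' := Q_congr e _ h
    have hm : m + (r + 1) = m + 1 + r := by omega
    rw [hm] at h'
    exact h'

/-- **Top exterior power of a stably free module.** If `L × N` is free of rank `n`, `L` free of
rank `r ≤ n`, then `⋀^(n-r) N ≃ R` (and `⋀^(n-r+1) N = 0`). -/
theorem main {N L M : Type u} [AddCommGroup N] [Module R N] [AddCommGroup L] [Module R L]
    [AddCommGroup M] [Module R M] (n r : ℕ) (hrn : r ≤ n)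
    (bL : Module.Basis (Fin r) R L) (bM : Module.Basis (Fin n) R M) (e : M ≃ₗ[R] L × N) :
    Q R N (n - r) := by
  apply Q_iter r
  have e' : M ≃ₗ[R] N × (Fin r → R) :=
    e.trans ((LinearEquiv.prodComm R L N).trans
      (LinearEquiv.prodCongr (LinearEquiv.refl R N) bL.equivFun))
  have h := Q_congr e' n (Q_base n bM)
  have hn : n - r + r = n := Nat.sub_add_cancel hrn
  rw [hn]
  exact h

end Iterate

end Groth.Agent.Lib.Helper20.ExtProd
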