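import Mathlib
import Groth.Agent.Lib.Helper20.ExtProd
import Groth.Agent.Lib.Helper20.CotReg

/-!
# Canonical module of a smooth complete intersection via the conormal sequence (helper20)
-/

set_option autoImplicit false
universe u

open TensorProduct

namespace Groth.Agent.Lib.Helper20.ConormalDet

/-- cotangent modules of equal ideals -/
noncomputable def cotCongr {P : Type u} [CommRing P] {K I : Ideal P} (h : K = I) :
    K.Cotangent ≃ₗ[P] I.Cotangent := by
  subst h
  exact LinearEquiv.refl _ _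

section Split

variable (A : Type u) [CommRing A] (n : ℕ) (I : Ideal (MvPolynomial (Fin n) A))
  [Algebra.FormallySmooth A (MvPolynomial (Fin n) A ⧸ I)]

theorem exists_split :
    Nonempty (((MvPolynomial (Fin n) A ⧸ I) ⊗[MvPolynomial (Fin n) A] Ω[MvPolynomial (Fin n) A⁄A])
      ≃ₗ[MvPolynomial (Fin n) A ⧸ I] (I.Cotangent × Ω[(MvPolynomial (Fin n) A ⧸ I)⁄A])) := by
  have hsurj : Function.Surjective
      (algebraMap (MvPolynomial (Fin n) A) (MvPolynomial (Fin n) A ⧸ I)) :=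
    Ideal.Quotient.mk_surjective
  obtain ⟨l, hl⟩ := (Algebra.FormallySmooth.iff_split_injection (R := A)
    (P := MvPolynomial (Fin n) A) (A := MvPolynomial (Fin n) A ⧸ I) hsurj).mp inferInstance
  have hex := KaehlerDifferential.exact_kerCotangentToTensor_mapBaseChange A
    (MvPolynomial (Fin n) A) (MvPolynomial (Fin n) A ⧸ I) hsurj
  have hg := KaehlerDifferential.mapBaseChange_surjective A
    (MvPolynomial (Fin n) A) (MvPolynomial (Fin n) A ⧸ I) hsurj
  have e := (Function.Exact.splitInjectiveEquiv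
    (f := KaehlerDifferential.kerCotangentToTensor A (MvPolynomial (Fin n) A)
      (MvPolynomial (Fin n) A ⧸ I))
    (g := (KaehlerDifferential.mapBaseChange A (MvPolynomial (Fin n) A)
      (MvPolynomial (Fin n) A ⧸ I)).restrictScalars (MvPolynomial (Fin n) A)) hex hg ⟨l, hl⟩).1
  have hK : RingHom.ker (algebraMap (MvPolynomial (Fin n) A) (MvPolynomial (Fin n) A ⧸ I)) = I := by
    rw [Ideal.Quotient.algebraMap_eq]; exact Ideal.mk_ker
  have e2 := e.trans (LinearEquiv.prodCongr (cotCongr hK)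
    (LinearEquiv.refl (MvPolynomial (Fin n) A) (Ω[(MvPolynomial (Fin n) A ⧸ I)⁄A])))
  exact ⟨e2.extendScalarsOfSurjective hsurj⟩

end Split

section Main

open ExtProd

theorem main (A : Type u) [CommRing A] (n r : ℕ) (hrn : r ≤ n)
    (F : Fin r → MvPolynomial (Fin n) A)
    (hreg : RingTheory.Sequence.IsWeaklyRegular (MvPolynomial (Fin n) A) (List.ofFn F))
    [Algebra.FormallySmooth A (MvPolynomial (Fin n) A ⧸ Ideal.span (Set.range F))] :
    Nonempty ((Module.Dual (MvPolynomial (Fin n) A ⧸ Ideal.span (Set.range F))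
        (⋀[MvPolynomial (Fin n) A ⧸ Ideal.span (Set.range F)]^r
          (Ideal.span (Set.range F)).Cotangent))
        ⊗[MvPolynomial (Fin n) A ⧸ Ideal.span (Set.range F)]
        ((MvPolynomial (Fin n) A ⧸ Ideal.span (Set.range F)) ⊗[MvPolynomial (Fin n) A]
          (⋀[MvPolynomial (Fin n) A]^n (Ω[MvPolynomial (Fin n) A⁄A])))
      ≃ₗ[MvPolynomial (Fin n) A ⧸ Ideal.span (Set.range F)]
        (⋀[MvPolynomial (Fin n) A ⧸ Ideal.span (Set.range F)]^(n - r)
          (Ω[(MvPolynomial (Fin n) A ⧸ Ideal.span (Set.range F))⁄A]))) := by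
  set I : Ideal (MvPolynomial (Fin n) A) := Ideal.span (Set.range F) with hI
  -- bases
  have bC : Module.Basis (Fin r) (MvPolynomial (Fin n) A ⧸ I) I.Cotangent := CotReg.cotBasis F hreg
  have bΩP : Module.Basis (Fin n) (MvPolynomial (Fin n) A) (Ω[MvPolynomial (Fin n) A⁄A]) :=
    KaehlerDifferential.mvPolynomialBasis A (Fin n)
  have bT : Module.Basis (Fin n) (MvPolynomial (Fin n) A ⧸ I)
      ((MvPolynomial (Fin n) A ⧸ I) ⊗[MvPolynomial (Fin n) A] Ω[MvPolynomial (Fin n) A⁄A]) :=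
    bΩP.baseChange (MvPolynomial (Fin n) A ⧸ I)
  obtain ⟨e⟩ := exists_split A n I
  obtain ⟨⟨eN⟩, -⟩ := ExtProd.main (R := MvPolynomial (Fin n) A ⧸ I) n r hrn bC bT e
  obtain ⟨⟨e1⟩, -⟩ := ExtProd.Q_base (R := MvPolynomial (Fin n) A ⧸ I) r bC
  obtain ⟨⟨e2⟩, -⟩ := ExtProd.Q_base (R := MvPolynomial (Fin n) A) n bΩP
  -- the dual factor
  have d1 : Module.Dual (MvPolynomial (Fin n) A ⧸ I) (⋀[MvPolynomial (Fin n) A ⧸ I]^r I.Cotangent)
      ≃ₗ[MvPolynomial (Fin n) A ⧸ I] (MvPolynomial (Fin n) A ⧸ I) :=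
    (e1.symm.dualMap).trans (LinearMap.ringLmapEquivSelf (MvPolynomial (Fin n) A ⧸ I)
      (MvPolynomial (Fin n) A ⧸ I) (MvPolynomial (Fin n) A ⧸ I))
  have d2 : ((MvPolynomial (Fin n) A ⧸ I) ⊗[MvPolynomial (Fin n) A]
      (⋀[MvPolynomial (Fin n) A]^n (Ω[MvPolynomial (Fin n) A⁄A])))
      ≃ₗ[MvPolynomial (Fin n) A ⧸ I] (MvPolynomial (Fin n) A ⧸ I) :=
    (TensorProduct.AlgebraTensorModule.congr
      (LinearEquiv.refl (MvPolynomial (Fin n) A ⧸ I) (MvPolynomial (Fin n) A ⧸ I)) e2).trans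
      (TensorProduct.AlgebraTensorModule.rid (MvPolynomial (Fin n) A) (MvPolynomial (Fin n) A ⧸ I)
        (MvPolynomial (Fin n) A ⧸ I))
  exact ⟨((TensorProduct.congr d1 d2).trans (TensorProduct.lid _ _)).trans eN.symm⟩

end Main

end Groth.Agent.Lib.Helper20.ConormalDet
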