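import Mathlib

set_option autoImplicit false

namespace Groth.Agent.Lib.Helper20.Spectral

open TopologicalSpace Topology Set

variable {X : Type*} [TopologicalSpace X]

theorem isOpen_cons_of_isOpen [PrespectralSpace X] {U : Set X} (hU : IsOpen U) :
    IsOpen[constructibleTopology X] U := by
  obtain ⟨S, hS, rfl⟩ := (PrespectralSpace.isTopologicalBasis (X := X)).open_eq_sUnion hU
  apply @isOpen_sUnion _ (constructibleTopology X)
  intro s hs
  exact (hS hs).2.isOpen_constructibleTopology_of_isOpen (hS hs).1

theorem isClosed_cons_of_isClosed [PrespectralSpace X] {C : Set X} (hC : IsClosed C) :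
    IsClosed[constructibleTopology X] C := by
  rw [← @isOpen_compl_iff _ _ (constructibleTopology X)]
  exact isOpen_cons_of_isOpen hC.isOpen_compl

theorem isClosed_cons_of_isCompact_isOpen {U : Set X} (hc : IsCompact U) (ho : IsOpen U) :
    IsClosed[constructibleTopology X] U := by
  rw [← @isOpen_compl_iff _ _ (constructibleTopology X)]
  exact IsCompact.isOpen_constructibleTopology_of_isClosed (by rwa [compl_compl])
    ho.isClosed_compl

theorem compactSpace_cons [SpectralSpace X] : @CompactSpace X (constructibleTopology X) :=
  @Function.Surjective.compactSpace (WithConstructibleTopology X) X _ (constructibleTopology X)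
    _ (WithTopology.continuous_ofTopology _)
    (inferInstance : CompactSpace (WithConstructibleTopology X))
    (WithTopology.ofTopology_surjective _)

theorem isCompact_cons_of_isClosed_cons [SpectralSpace X] {E : Set X}
    (hE : IsClosed[constructibleTopology X] E) : @IsCompact X (constructibleTopology X) E :=
  @IsClosed.isCompact X (constructibleTopology X) E compactSpace_cons hE

theorem isCompact_of_isClosed_cons [SpectralSpace X] {E : Set X}
    (hE : IsClosed[constructibleTopology X] E) : IsCompact E := by
  have h1 := isCompact_cons_of_isClosed_cons hE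
  have hc : @Continuous X X (constructibleTopology X) ‹TopologicalSpace X› id :=
    continuous_id_of_le (fun _ hU => isOpen_cons_of_isOpen hU)
  have := @IsCompact.image X X (constructibleTopology X) ‹TopologicalSpace X› E id h1 hc
  simpa using this

/-- the inclusion of a constructibly closed subset is a spectral map -/
theorem isCompact_preimage_val [SpectralSpace X] {E : Set X}
    (hE : IsClosed[constructibleTopology X] E) {U : Set X} (hUo : IsOpen U) (hUc : IsCompact U) :
    IsCompact ((Subtype.val : E → X) ⁻¹' U) := by
  rw [Subtype.isCompact_iff, Subtype.image_preimage_coe]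
  apply isCompact_of_isClosed_cons
  exact @IsClosed.inter X E U (constructibleTopology X) hE
    (isClosed_cons_of_isCompact_isOpen hUc hUo)

theorem isSpectralMap_val [SpectralSpace X] {E : Set X}
    (hE : IsClosed[constructibleTopology X] E) : IsSpectralMap (Subtype.val : E → X) :=
  ⟨continuous_subtype_val, fun _ hUo hUc => isCompact_preimage_val hE hUo hUc⟩

/-- compact opens of a subspace of a prespectral space come from compact opens -/
theorem exists_compact_open_of_subtype [PrespectralSpace X] (E : Set X) (U : Set E)
    (hUo : IsOpen U) (hUc : IsCompact U) :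
    ∃ U' : Set X, IsOpen U' ∧ IsCompact U' ∧ U = Subtype.val ⁻¹' U' := by
  obtain ⟨O, hO, rfl⟩ := isOpen_induced_iff.mp hUo
  obtain ⟨S, hS, rfl⟩ := (PrespectralSpace.isTopologicalBasis (X := X)).open_eq_sUnion hO
  obtain ⟨t, ht⟩ := hUc.elim_finite_subcover (fun s : S => (Subtype.val : E → X) ⁻¹' s.1)
    (fun s => (hS s.2).1.preimage continuous_subtype_val) (by
      intro x hx
      obtain ⟨s, hs, hxs⟩ := hx
      exact mem_iUnion.mpr ⟨⟨s, hs⟩, hxs⟩)
  refine ⟨⋃ i ∈ t, (i : Set X), isOpen_biUnion fun i _ => (hS i.2).1,
    t.isCompact_biUnion fun i _ => (hS i.2).2, ?_⟩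
  apply Subset.antisymm
  · intro x hx
    have := ht hx
    simp only [mem_iUnion, mem_preimage] at this ⊢
    exact this
  · intro x hx
    simp only [mem_preimage, mem_iUnion] at hx
    obtain ⟨i, _, hxi⟩ := hx
    exact ⟨i.1, i.2, hxi⟩

theorem quasiSeparatedSpace_subtype [SpectralSpace X] {E : Set X}
    (hE : IsClosed[constructibleTopology X] E) : QuasiSeparatedSpace E := by
  constructor
  intro U V hUo hUc hVo hVc
  obtain ⟨U', hU'o, hU'c, rfl⟩ := exists_compact_open_of_subtype E U hUo hUc
  obtain ⟨V', hV'o, hV'c, rfl⟩ := exists_compact_open_of_subtype E V hVo hVc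
  rw [← preimage_inter]
  exact isCompact_preimage_val hE (hU'o.inter hV'o)
    (QuasiSeparatedSpace.inter_isCompact U' V' hU'o hU'c hV'o hV'c)

theorem quasiSober_subtype [SpectralSpace X] {E : Set X}
    (hE : IsClosed[constructibleTopology X] E) : QuasiSober E := by
  constructor
  intro T hT hTc
  -- the image of T in X
  set T' : Set X := Subtype.val '' T with hT'
  have hT'irr : IsIrreducible T' := hT.image _ continuous_subtype_val.continuousOn
  have hT'cl : IsClosed[constructibleTopology X] T' := by
    obtain ⟨C, hC, hCT⟩ := isClosed_induced_iff.mp hTc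
    have : T' = E ∩ C := by
      rw [hT', ← hCT, Subtype.image_preimage_coe]
    rw [this]
    exact @IsClosed.inter X E C (constructibleTopology X) hE (isClosed_cons_of_isClosed hC)
  have hT'c := isCompact_cons_of_isClosed_cons hT'cl
  let ι := {U : Set X // IsOpen U ∧ IsCompact U ∧ (T' ∩ U).Nonempty}
  have key := @IsCompact.inter_iInter_nonempty X (constructibleTopology X) T' ι hT'c
    (fun U => U.1) (fun U => isClosed_cons_of_isCompact_isOpen U.2.2.1 U.2.1) (by
      intro u
      classical
      have := isIrreducible_iff_sInter.mp hT'irr (u.image (fun U : ι => U.1))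
        (by
          intro v hv
          obtain ⟨i, _, rfl⟩ := Finset.mem_image.mp hv
          exact i.2.1)
        (by
          intro v hv
          obtain ⟨i, _, rfl⟩ := Finset.mem_image.mp hv
          exact i.2.2.2)
      obtain ⟨y, hy1, hy2⟩ := this
      refine ⟨y, hy1, ?_⟩
      simp only [mem_iInter]
      intro i hi
      exact mem_sInter.mp hy2 i.1 (by
        simp only [Finset.coe_image, mem_image, Finset.mem_coe]
        exact ⟨i, hi, rfl⟩))
  obtain ⟨η, hηT, hη⟩ := key
  obtain ⟨t₀, ht₀, rfl⟩ := hηT
  refine ⟨t₀, ?_⟩
  show closure {t₀} = T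
  apply Subset.antisymm
  · exact closure_minimal (singleton_subset_iff.mpr ht₀) hTc
  · intro t ht
    rw [mem_closure_iff]
    intro O hO htO
    obtain ⟨O', hO', rfl⟩ := isOpen_induced_iff.mp hO
    obtain ⟨V, ⟨hVo, hVc⟩, htV, hVO⟩ :=
      (PrespectralSpace.isTopologicalBasis (X := X)).exists_subset_of_mem_open htO hO'
    have hmem := mem_iInter.mp hη ⟨V, hVo, hVc, ⟨t.1, ⟨t, ht, rfl⟩, htV⟩⟩
    exact ⟨t₀, hVO hmem, rfl⟩

/-- A constructibly closed subset of a spectral space is spectral. -/
theorem spectralSpace_of_isClosed_cons [SpectralSpace X] (E : Set X)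
    (hE : IsClosed[constructibleTopology X] E) : SpectralSpace E := by
  have h1 : CompactSpace E := isCompact_iff_compactSpace.mp (isCompact_of_isClosed_cons hE)
  have h2 : QuasiSober E := quasiSober_subtype hE
  have h3 : QuasiSeparatedSpace E := quasiSeparatedSpace_subtype hE
  have h4 : PrespectralSpace E :=
    PrespectralSpace.of_isInducing Subtype.val IsInducing.subtypeVal (isSpectralMap_val hE)
  exact { }

/-- constructible subsets of a spectral space are clopen in the constructible topology -/
theorem isClopen_cons_of_isConstructible [SpectralSpace X] {E : Set X}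
    (hE : IsConstructible E) : @IsClopen X (constructibleTopology X) E := by
  induction hE using IsConstructible.empty_union_induction with
  | open_retrocompact U hUo hUc =>
    have hc : IsCompact U := by
      have := hUc isCompact_univ isOpen_univ
      rwa [inter_univ] at this
    exact ⟨isClosed_cons_of_isCompact_isOpen hc hUo,
      hc.isOpen_constructibleTopology_of_isOpen hUo⟩
  | union s _ t _ hs ht => exact @IsClopen.union X (constructibleTopology X) s t hs ht
  | compl s _ hs => exact @IsClopen.compl X (constructibleTopology X) s hs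

/-- the set of generizations of a constructibly closed set is constructibly closed -/
theorem isClosed_cons_generizations [SpectralSpace X] {E : Set X}
    (hE : IsClosed[constructibleTopology X] E) :
    IsClosed[constructibleTopology X] {x : X | ∃ e ∈ E, x ⤳ e} := by
  have hEc : IsCompact E := isCompact_of_isClosed_cons hE
  have : {x : X | ∃ e ∈ E, x ⤳ e} = ⋂₀ {U : Set X | IsOpen U ∧ IsCompact U ∧ E ⊆ U} := by
    apply Subset.antisymm
    · rintro x ⟨e, he, hxe⟩ U ⟨hUo, _, hEU⟩
      exact hxe.mem_open hUo (hEU he)
    · intro x hx
      by_contra hcon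
      simp only [Set.mem_ofPred_eq, not_exists, not_and] at hcon
      -- E ⊆ (closure {x})ᶜ
      have hsub : E ⊆ (closure {x})ᶜ := by
        intro e he hmem
        exact hcon e he (specializes_iff_mem_closure.mpr hmem)
      have hopen : IsOpen (closure ({x} : Set X))ᶜ := isClosed_closure.isOpen_compl
      obtain ⟨S, hS, hSeq⟩ :=
        (PrespectralSpace.isTopologicalBasis (X := X)).open_eq_sUnion hopen
      obtain ⟨t, ht⟩ := hEc.elim_finite_subcover (fun s : S => s.1)
        (fun s => (hS s.2).1) (by
          intro e he
          have := hsub he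
          rw [hSeq] at this
          obtain ⟨s, hs, hes⟩ := this
          exact mem_iUnion.mpr ⟨⟨s, hs⟩, hes⟩)
      have hxU := hx (⋃ i ∈ t, (i : Set X)) ⟨isOpen_biUnion fun i _ => (hS i.2).1,
        t.isCompact_biUnion fun i _ => (hS i.2).2, ht⟩
      simp only [mem_iUnion] at hxU
      obtain ⟨i, _, hxi⟩ := hxU
      have : x ∈ (closure ({x} : Set X))ᶜ := by
        rw [hSeq]
        exact ⟨i.1, i.2, hxi⟩
      exact this (subset_closure rfl)
  rw [this]
  apply @isClosed_sInter X (constructibleTopology X)
  rintro U ⟨hUo, hUc, _⟩
  exact isClosed_cons_of_isCompact_isOpen hUc hUo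

theorem spectralSpace_generizations_diff [SpectralSpace X] (E : Set X)
    (hE : IsConstructible E) : SpectralSpace ↥({x : X | ∃ e ∈ E, x ⤳ e} \ E) := by
  apply spectralSpace_of_isClosed_cons
  have hcl := isClopen_cons_of_isConstructible hE
  rw [Set.sdiff_eq]
  exact @IsClosed.inter X _ _ (constructibleTopology X) (isClosed_cons_generizations hcl.1)
    (@IsClopen.compl X (constructibleTopology X) E hcl).1

end Groth.Agent.Lib.Helper20.Spectral
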