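import Mathlib
import Groth.Agent.Lib.Helper20.Spectral

set_option autoImplicit false

namespace Groth.Agent.Lib.Helper20.SpecLim

open TopologicalSpace Topology Set CategoryTheory CategoryTheory.Limits
open Groth.Agent.Lib.Helper20.Spectral

universe u

section WCT

variable {X Y : Type*} [TopologicalSpace X] [TopologicalSpace Y]

theorem continuous_cons_of_isSpectralMap {f : X → Y} (hf : IsSpectralMap f) :
    @Continuous X Y (constructibleTopology X) (constructibleTopology Y) f := by
  apply (continuous_generateFrom_iff (t := constructibleTopology X)).mpr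
  rintro s (⟨hso, hsc⟩ | ⟨hscl, hsc⟩)
  · exact (hf.isCompact_preimage_of_isOpen hso hsc).isOpen_constructibleTopology_of_isOpen
      (hso.preimage hf.toContinuous)
  · refine IsCompact.isOpen_constructibleTopology_of_isClosed ?_ (hscl.preimage hf.toContinuous)
    rw [← Set.preimage_compl]
    exact hf.isCompact_preimage_of_isOpen hscl.isOpen_compl hsc

theorem t2Space_cons [T0Space X] [PrespectralSpace X] :
    @T2Space X (constructibleTopology X) := by
  refine @T2Space.mk X (constructibleTopology X) ?_
  intro x y hxy
  obtain ⟨U, hU, hUxy⟩ := exists_isOpen_xor_mem hxy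
  rcases hUxy with ⟨hx, hy⟩ | ⟨hy, hx⟩
  · obtain ⟨V, ⟨hVo, hVc⟩, hxV, hVU⟩ :=
      (PrespectralSpace.isTopologicalBasis (X := X)).exists_subset_of_mem_open hx hU
    refine ⟨V, Vᶜ, hVc.isOpen_constructibleTopology_of_isOpen hVo, ?_, hxV,
      fun h => hy (hVU h), disjoint_compl_right⟩
    exact IsCompact.isOpen_constructibleTopology_of_isClosed (by rwa [compl_compl])
      hVo.isClosed_compl
  · obtain ⟨V, ⟨hVo, hVc⟩, hyV, hVU⟩ :=
      (PrespectralSpace.isTopologicalBasis (X := X)).exists_subset_of_mem_open hy hU
    refine ⟨Vᶜ, V, ?_, hVc.isOpen_constructibleTopology_of_isOpen hVo,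
      fun h => hx (hVU h), hyV, disjoint_compl_left⟩
    exact IsCompact.isOpen_constructibleTopology_of_isClosed (by rwa [compl_compl])
      hVo.isClosed_compl

theorem t2Space_wct [T0Space X] [PrespectralSpace X] : T2Space (WithConstructibleTopology X) :=
  @T2Space.of_injective_continuous (WithConstructibleTopology X) X _ (constructibleTopology X)
    t2Space_cons WithTopology.ofTopology (WithTopology.ofTopology_injective _)
    (WithTopology.continuous_ofTopology _)

/-- the map induced on constructible topologies -/
def consMap (f : X → Y) : WithConstructibleTopology X → WithConstructibleTopology Y :=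
  fun x => WithTopology.toTopology _ (f x.ofTopology)

theorem continuous_consMap {f : X → Y} (hf : IsSpectralMap f) : Continuous (consMap f) := by
  refine continuous_def.mpr fun s hs => ?_
  exact @Continuous.isOpen_preimage X Y (constructibleTopology X) (constructibleTopology Y) f
    (continuous_cons_of_isSpectralMap hf) _ hs

theorem continuous_ofTopology' [PrespectralSpace X] :
    Continuous (WithTopology.ofTopology : WithConstructibleTopology X → X) :=
  continuous_def.mpr fun _ hs => isOpen_cons_of_isOpen hs

theorem isClosed_preimage_ofTopology {Z : Set X} (hZ : IsClosed[constructibleTopology X] Z) :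
    IsClosed ((WithTopology.ofTopology : WithConstructibleTopology X → X) ⁻¹' Z) := by
  rw [WithTopology.isClosed_iff]
  exact hZ

end WCT

section Lim

variable {J : Type u} [SmallCategory J] (F : J ⥤ TopCat.{u})

/-- compatible families -/
def Compat : Set (∀ j, F.obj j) := {u | ∀ {i j : J} (a : i ⟶ j), F.map a (u i) = u j}

variable {F} (c : Cone F)

/-- the canonical map from the cone point to the product -/
def psi : c.pt → ∀ j, F.obj j := fun x j => c.π.app j x

theorem cone_naturality {i j : J} (a : i ⟶ j) (x : c.pt) :
    F.map a (c.π.app i x) = c.π.app j x := by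
  have := ConcreteCategory.congr_hom (c.w a) x
  rwa [ConcreteCategory.comp_apply] at this

theorem psi_mem_compat (x : c.pt) : psi c x ∈ Compat F := by
  intro i j a
  exact cone_naturality c a x

theorem psi_isInducing (hc : IsLimit c) : IsInducing (psi c) := by
  constructor
  rw [TopCat.induced_of_isLimit c hc]
  simp only [Pi.topologicalSpace, induced_iInf, induced_compose]
  rfl

theorem psi_injective (hc : IsLimit c) : Function.Injective (psi c) :=
  fun x y h => Concrete.isLimit_ext F hc x y (fun j => congrFun h j)

theorem exists_of_compat (hc : IsLimit c) (u : ∀ j, F.obj j) (hu : u ∈ Compat F) :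
    ∃ x : c.pt, psi c x = u := by
  let e := (TopCat.limitConeIsLimit.{u, u} F).conePointUniqueUpToIso hc
  refine ⟨e.hom ⟨u, hu⟩, ?_⟩
  funext j
  have := IsLimit.conePointUniqueUpToIso_hom_comp (TopCat.limitConeIsLimit.{u, u} F) hc j
  have h2 := ConcreteCategory.congr_hom this ⟨u, hu⟩
  exact h2

theorem range_psi (hc : IsLimit c) : range (psi c) = Compat F := by
  apply Subset.antisymm
  · rintro _ ⟨x, rfl⟩
    exact psi_mem_compat c x
  · intro u hu
    exact exists_of_compat c hc u hu

variable (F)

theorem isCompact_sections (hF : ∀ j, SpectralSpace (F.obj j))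
    (hFm : ∀ {i j : J} (a : i ⟶ j), IsSpectralMap (F.map a : F.obj i → F.obj j))
    (Z : ∀ j, Set (F.obj j))
    (hZ : ∀ j, IsClosed[constructibleTopology (F.obj j)] (Z j)) :
    IsCompact (Compat F ∩ {u | ∀ j, u j ∈ Z j}) := by
  let P' := ∀ j, WithConstructibleTopology (F.obj j)
  let φ : P' → (∀ j, F.obj j) := fun u j => (u j).ofTopology
  have hφ : Continuous φ :=
    continuous_pi fun j => continuous_ofTopology'.comp (continuous_apply j)
  have hφs : Function.Surjective φ := fun u => ⟨fun j => WithTopology.toTopology _ (u j), rfl⟩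
  have : ∀ j, T2Space (WithConstructibleTopology (F.obj j)) := fun j => t2Space_wct
  have hcl : IsClosed (φ ⁻¹' (Compat F ∩ {u | ∀ j, u j ∈ Z j})) := by
    have : φ ⁻¹' (Compat F ∩ {u | ∀ j, u j ∈ Z j}) =
        (⋂ (i : J) (j : J) (a : i ⟶ j),
          {u : P' | consMap (F.map a : F.obj i → F.obj j) (u i) = u j}) ∩
        ⋂ j, {u : P' | (u j).ofTopology ∈ Z j} := by
      ext u
      simp only [mem_preimage, mem_inter_iff, mem_iInter, Set.mem_ofPred_eq]
      constructor
      · rintro ⟨h1, h2⟩
        exact ⟨fun i j a => WithTopology.ofTopology_injective _ (h1 a), h2⟩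
      · rintro ⟨h1, h2⟩
        exact ⟨fun {i j} a => congrArg WithTopology.ofTopology (h1 i j a), h2⟩
    rw [this]
    apply IsClosed.inter
    · exact isClosed_iInter fun i => isClosed_iInter fun j => isClosed_iInter fun a =>
        isClosed_eq ((continuous_consMap (hFm a)).comp (continuous_apply i)) (continuous_apply j)
    · refine isClosed_iInter fun j => ?_
      have h := isClosed_preimage_ofTopology (hZ j)
      exact h.preimage (continuous_apply (A := fun j => WithConstructibleTopology (F.obj j)) j)
  have := (hcl.isCompact).image hφ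
  rwa [image_preimage_eq _ hφs] at this

variable {F}

theorem isCompact_lim (hF : ∀ j, SpectralSpace (F.obj j))
    (hFm : ∀ {i j : J} (a : i ⟶ j), IsSpectralMap (F.map a : F.obj i → F.obj j))
    (hc : IsLimit c) (Z : ∀ j, Set (F.obj j))
    (hZ : ∀ j, IsClosed[constructibleTopology (F.obj j)] (Z j)) :
    IsCompact {x : c.pt | ∀ j, c.π.app j x ∈ Z j} := by
  have h := isCompact_sections F hF hFm Z hZ
  have hsub : Compat F ∩ {u | ∀ j, u j ∈ Z j} ⊆ range (psi c) := by
    rw [range_psi c hc]
    exact inter_subset_left
  have := ((psi_isInducing c hc).isCompact_preimage_iff hsub).mpr h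
  convert this using 1
  ext x
  simp only [Set.mem_ofPred_eq, mem_preimage, mem_inter_iff]
  constructor
  · intro hx
    exact ⟨psi_mem_compat c x, hx⟩
  · rintro ⟨_, hx⟩
    exact hx

theorem compactSpace_lim (hF : ∀ j, SpectralSpace (F.obj j))
    (hFm : ∀ {i j : J} (a : i ⟶ j), IsSpectralMap (F.map a : F.obj i → F.obj j))
    (hc : IsLimit c) : CompactSpace c.pt := by
  rw [← isCompact_univ_iff]
  have := isCompact_lim c hF hFm hc (fun _ => univ)
    (fun j => @isClosed_univ _ (constructibleTopology (F.obj j)))
  convert this using 1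
  ext x
  simp

end Lim

end Groth.Agent.Lib.Helper20.SpecLim
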