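import Mathlib
import Groth.Agent.Lib.Helper20.Spectral
import Groth.Agent.Lib.Helper20.SpecLim

/-! Quasi-compact = proper in the constructible topology (locally spectral quasi-separated). -/

set_option autoImplicit false

namespace Groth.Agent.Lib.Helper20.ConsProper

open Set Filter TopologicalSpace Topology
open Groth.Agent.Lib.Helper20.Spectral Groth.Agent.Lib.Helper20.SpecLim

/-- A continuous map to a Hausdorff space such that every point of the target has a neighbourhood
with compact preimage is proper. -/
theorem isProperMap_of_local {X Y : Type*} [TopologicalSpace X] [TopologicalSpace Y] [T2Space Y]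
    {f : X → Y} (hf : Continuous f) (h : ∀ y, ∃ V ∈ 𝓝 y, IsCompact (f ⁻¹' V)) :
    IsProperMap f := by
  rw [isProperMap_iff_ultrafilter_of_t2]
  refine ⟨hf, ?_⟩
  intro 𝒰 y hy
  obtain ⟨V, hV, hVc⟩ := h y
  have hmem : f ⁻¹' V ∈ 𝒰 := hy hV
  obtain ⟨x, _, hx⟩ := hVc.ultrafilter_le_nhds 𝒰 (le_principal_iff.mpr hmem)
  exact ⟨x, hx⟩

variable {X Y : Type*} [TopologicalSpace X] [TopologicalSpace Y]

theorem isSpectralMap_val_of_isCompact_isOpen [QuasiSeparatedSpace X] {W : Set X}
    (hWo : IsOpen W) (hWc : IsCompact W) : IsSpectralMap (Subtype.val : W → X) := by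
  refine ⟨continuous_subtype_val, fun s hso hsc => ?_⟩
  rw [Subtype.isCompact_iff, Subtype.image_preimage_coe]
  exact QuasiSeparatedSpace.inter_isCompact _ _ hWo hWc hso hsc

theorem isCompact_cons_of_isCompact_isOpen [QuasiSeparatedSpace X] [PrespectralSpace X]
    [QuasiSober X] [T0Space X] {W : Set X} (hWo : IsOpen W) (hWc : IsCompact W) :
    @IsCompact X (constructibleTopology X) W := by
  have h1 : CompactSpace W := isCompact_iff_compactSpace.mp hWc
  have h2 : QuasiSober W := hWo.isOpenEmbedding_subtypeVal.quasiSober
  have h3 : QuasiSeparatedSpace W := hWo.isOpenEmbedding_subtypeVal.quasiSeparatedSpace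
  have h4 : PrespectralSpace W :=
    PrespectralSpace.of_isInducing Subtype.val IsInducing.subtypeVal
      (isSpectralMap_val_of_isCompact_isOpen hWo hWc)
  have h5 : SpectralSpace W := { }
  have hc : @Continuous W X (constructibleTopology W) (constructibleTopology X) Subtype.val :=
    continuous_cons_of_isSpectralMap (isSpectralMap_val_of_isCompact_isOpen hWo hWc)
  have := @isCompact_range W X (constructibleTopology W) (constructibleTopology X)
    compactSpace_cons Subtype.val hc
  rwa [Subtype.range_coe] at this

theorem isCompact_of_isCompact_cons [PrespectralSpace X] {K : Set X}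
    (h : @IsCompact X (constructibleTopology X) K) : IsCompact K := by
  have hc : @Continuous X X (constructibleTopology X) ‹TopologicalSpace X› id :=
    continuous_id_of_le (fun _ hU => isOpen_cons_of_isOpen hU)
  have := @IsCompact.image X X (constructibleTopology X) ‹TopologicalSpace X› K id h hc
  simpa using this

theorem isSpectralMap_iff_isProperMap_cons [QuasiSeparatedSpace X] [PrespectralSpace X]
    [QuasiSober X] [T0Space X] [QuasiSeparatedSpace Y] [PrespectralSpace Y]
    [QuasiSober Y] [T0Space Y] {f : X → Y} (hf : Continuous f) :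
    IsSpectralMap f ↔
      @IsProperMap X Y (constructibleTopology X) (constructibleTopology Y) f := by
  constructor
  · intro hs
    refine @isProperMap_of_local X Y (constructibleTopology X) (constructibleTopology Y)
      t2Space_cons f (continuous_cons_of_isSpectralMap hs) ?_
    intro y
    obtain ⟨V, ⟨hVo, hVc⟩, hyV, -⟩ :=
      (PrespectralSpace.isTopologicalBasis (X := Y)).exists_subset_of_mem_open
        (mem_univ y) isOpen_univ
    have hVcons : IsOpen[constructibleTopology Y] V :=
      hVc.isOpen_constructibleTopology_of_isOpen hVo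
    refine ⟨V, ?_, ?_⟩
    · exact @IsOpen.mem_nhds Y (constructibleTopology Y) y V hVcons hyV
    · exact isCompact_cons_of_isCompact_isOpen (hVo.preimage hf)
        (hs.isCompact_preimage_of_isOpen hVo hVc)
  · intro hp
    refine ⟨hf, fun s hso hsc => ?_⟩
    have hK := isCompact_cons_of_isCompact_isOpen hso hsc
    exact isCompact_of_isCompact_cons
      (@IsProperMap.isCompact_preimage X Y (constructibleTopology X) (constructibleTopology Y)
        f hp s hK)

universe u in
open AlgebraicGeometry in
theorem scheme_main {X Y : Scheme.{u}} [QuasiSeparatedSpace X] [QuasiSeparatedSpace Y]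
    (f : X ⟶ Y) :
    QuasiCompact f ↔
      @IsProperMap X Y (constructibleTopology X) (constructibleTopology Y) f := by
  rw [quasiCompact_iff_isSpectralMap]
  exact isSpectralMap_iff_isProperMap_cons f.continuous

end Groth.Agent.Lib.Helper20.ConsProper
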