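import Mathlib
import Groth.Agent.Lib.Helper20.Spectral
import Groth.Agent.Lib.Helper20.SpecLim
import Groth.Agent.Lib.Helper20.ConsProper

/-! Locally constructible = clopen in the constructible topology (quasi-separated, locally
spectral). -/

set_option autoImplicit false

namespace Groth.Agent.Lib.Helper20.ConsLoc

open Set Filter TopologicalSpace Topology
open Groth.Agent.Lib.Helper20.Spectral Groth.Agent.Lib.Helper20.SpecLim
open Groth.Agent.Lib.Helper20.ConsProper

variable {X : Type*} [TopologicalSpace X]

/-- Retrocompact opens are clopen in the constructible topology of a prespectral space. -/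
theorem isClopen_cons_of_isRetrocompact [PrespectralSpace X] {U : Set X} (hUo : IsOpen U)
    (hUr : IsRetrocompact U) : @IsClopen X (constructibleTopology X) U := by
  refine ⟨?_, isOpen_cons_of_isOpen hUo⟩
  rw [← @isOpen_compl_iff X U (constructibleTopology X)]
  have heq : Uᶜ = ⋃ V : {V : Set X // IsOpen V ∧ IsCompact V}, (V.1 ∩ (U ∩ V.1)ᶜ) := by
    ext x
    simp only [mem_compl_iff, mem_iUnion, mem_inter_iff, not_and]
    constructor
    · intro hx
      obtain ⟨V, hV, hxV, -⟩ :=
        (PrespectralSpace.isTopologicalBasis (X := X)).exists_subset_of_mem_open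
          (mem_univ x) isOpen_univ
      exact ⟨⟨V, hV⟩, hxV, fun h => absurd h hx⟩
    · rintro ⟨V, hxV, h⟩ hxU
      exact h hxU hxV
  rw [heq]
  apply @isOpen_iUnion X _ (constructibleTopology X)
  rintro ⟨V, hVo, hVc⟩
  apply @IsOpen.inter X (constructibleTopology X)
  · exact hVc.isOpen_constructibleTopology_of_isOpen hVo
  · apply IsCompact.isOpen_constructibleTopology_of_isClosed
    · rw [compl_compl]
      exact hUr hVc hVo
    · exact (hUo.inter hVo).isClosed_compl

theorem isClopen_cons_of_isConstructible [PrespectralSpace X] {E : Set X}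
    (hE : IsConstructible E) : @IsClopen X (constructibleTopology X) E := by
  induction hE using IsConstructible.empty_union_induction with
  | open_retrocompact U hUo hUr => exact isClopen_cons_of_isRetrocompact hUo hUr
  | union s _ t _ hs ht => exact @IsClopen.union X (constructibleTopology X) s t hs ht
  | compl s _ hs => exact @IsClopen.compl X (constructibleTopology X) s hs

theorem isConstructible_of_mem_subbasis [QuasiSeparatedSpace X] {s : Set X}
    (hs : s ∈ constructibleTopologySubbasis X) : IsConstructible s := by
  rcases hs with ⟨ho, hc⟩ | ⟨hcl, hc⟩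
  · exact hc.isConstructible ho
  · have := (hc.isConstructible hcl.isOpen_compl).compl
    rwa [compl_compl] at this

/-- A cons-open, cons-compact set is constructible. -/
theorem isConstructible_of_isOpen_cons_of_isCompact_cons [QuasiSeparatedSpace X] {E : Set X}
    (ho : IsOpen[constructibleTopology X] E) (hc : @IsCompact X (constructibleTopology X) E) :
    IsConstructible E := by
  have hB := @isTopologicalBasis_of_subbasis X (constructibleTopology X)
    (constructibleTopologySubbasis X) rfl
  obtain ⟨S, hSB, rfl⟩ := @IsTopologicalBasis.open_eq_sUnion X (constructibleTopology X) _ hB E ho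
  have hScons : ∀ s ∈ S, IsConstructible s := by
    intro s hs
    obtain ⟨f, ⟨hf, hfs⟩, rfl⟩ := hSB hs
    exact IsConstructible.sInter hf (fun t ht => isConstructible_of_mem_subbasis (hfs ht))
  have hSopen : ∀ s : S, IsOpen[constructibleTopology X] (s : Set X) := by
    intro s
    exact @IsTopologicalBasis.isOpen X (constructibleTopology X) _ _ hB (hSB s.2)
  obtain ⟨t, ht⟩ := @IsCompact.elim_finite_subcover X (constructibleTopology X) _ S hc
    (fun s => (s : Set X)) hSopen (by rw [sUnion_eq_iUnion])
  have heq : ⋃₀ S = ⋃ i ∈ t, (i : Set X) := by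
    apply Subset.antisymm ht
    intro x hx
    obtain ⟨i, _, hxi⟩ := mem_iUnion₂.mp hx
    exact ⟨i.1, i.2, hxi⟩
  rw [heq]
  exact IsConstructible.biUnion t.finite_toSet (fun i _ => hScons i.1 i.2)

theorem isLocallyConstructible_iff [QuasiSeparatedSpace X] [PrespectralSpace X] [QuasiSober X]
    [T0Space X] (E : Set X) :
    IsLocallyConstructible E ↔
      (IsOpen[constructibleTopology X] E ∧ IsClosed[constructibleTopology X] E) := by
  constructor
  · intro hE
    have hV : ∀ V : {V : Set X // IsOpen V ∧ IsCompact V},
        @IsClopen X (constructibleTopology X) (E ∩ V.1) := fun V =>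
      isClopen_cons_of_isConstructible (hE.inter_of_isOpen_isCompact V.2.1 V.2.2)
    have hcov : ∀ x : X, ∃ V : {V : Set X // IsOpen V ∧ IsCompact V}, x ∈ V.1 := by
      intro x
      obtain ⟨V, hV, hxV, -⟩ :=
        (PrespectralSpace.isTopologicalBasis (X := X)).exists_subset_of_mem_open
          (mem_univ x) isOpen_univ
      exact ⟨⟨V, hV⟩, hxV⟩
    constructor
    · have heq : E = ⋃ V : {V : Set X // IsOpen V ∧ IsCompact V}, (E ∩ V.1) := by
        ext x
        simp only [mem_iUnion, mem_inter_iff]
        constructor
        · intro hx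
          obtain ⟨V, hxV⟩ := hcov x
          exact ⟨V, hx, hxV⟩
        · rintro ⟨V, hx, -⟩
          exact hx
      rw [heq]
      exact @isOpen_iUnion X _ (constructibleTopology X) _ (fun V => (hV V).2)
    · rw [← @isOpen_compl_iff X E (constructibleTopology X)]
      have heq : Eᶜ = ⋃ V : {V : Set X // IsOpen V ∧ IsCompact V}, (V.1 ∩ (E ∩ V.1)ᶜ) := by
        ext x
        simp only [mem_compl_iff, mem_iUnion, mem_inter_iff, not_and]
        constructor
        · intro hx
          obtain ⟨V, hxV⟩ := hcov x
          exact ⟨V, hxV, fun h => absurd h hx⟩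
        · rintro ⟨V, hxV, h⟩ hxE
          exact h hxE hxV
      rw [heq]
      apply @isOpen_iUnion X _ (constructibleTopology X)
      intro V
      apply @IsOpen.inter X (constructibleTopology X)
      · exact V.2.2.isOpen_constructibleTopology_of_isOpen V.2.1
      · exact (@IsClopen.compl X (constructibleTopology X) _ (hV V)).2
  · rintro ⟨ho, hc⟩ x
    obtain ⟨V, ⟨hVo, hVc⟩, hxV, -⟩ :=
      (PrespectralSpace.isTopologicalBasis (X := X)).exists_subset_of_mem_open
        (mem_univ x) isOpen_univ
    refine ⟨V, hVo.mem_nhds hxV, hVo, ?_⟩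
    have h1 : IsOpen[constructibleTopology X] (E ∩ V) :=
      @IsOpen.inter X (constructibleTopology X) _ _ ho
        (hVc.isOpen_constructibleTopology_of_isOpen hVo)
    have h2 : @IsCompact X (constructibleTopology X) (E ∩ V) :=
      @IsCompact.inter_left X (constructibleTopology X) _ _
        (isCompact_cons_of_isCompact_isOpen hVo hVc) hc
    have h3 : IsConstructible (E ∩ V) := isConstructible_of_isOpen_cons_of_isCompact_cons h1 h2
    have h4 := h3.preimage_of_isOpenEmbedding hVo.isOpenEmbedding_subtypeVal
    have heq : (Subtype.val : V → X) ⁻¹' (E ∩ V) = (Subtype.val : V → X) ⁻¹' E := by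
      ext y
      simp
    rw [heq] at h4
    exact h4

universe u in
open AlgebraicGeometry in
theorem scheme_main (X : Scheme.{u}) [QuasiSeparatedSpace X] (E : Set X) :
    Topology.IsLocallyConstructible E ↔
      (IsOpen[constructibleTopology X] E ∧ IsClosed[constructibleTopology X] E) :=
  isLocallyConstructible_iff E

end Groth.Agent.Lib.Helper20.ConsLoc
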