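import Mathlib
import Groth.Agent.Lib.Helper20.Spectral
import Groth.Agent.Lib.Helper20.SpecLim
import Groth.Agent.Lib.Helper20.ConsProper

/-! The constructible topology of a quasi-separated locally spectral space is Hausdorff,
locally compact and totally disconnected. -/

set_option autoImplicit false

namespace Groth.Agent.Lib.Helper20.ConsTop

open Set Filter TopologicalSpace Topology
open Groth.Agent.Lib.Helper20.Spectral Groth.Agent.Lib.Helper20.SpecLim
open Groth.Agent.Lib.Helper20.ConsProper

variable {X : Type*} [TopologicalSpace X]

theorem isOpen_image_toTopology {s : Set X} (hs : IsOpen[constructibleTopology X] s) :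
    IsOpen (WithTopology.toTopology (constructibleTopology X) '' s) := by
  rw [WithConstructibleTopology.isOpen_iff,
    (WithTopology.toTopology_injective _).preimage_image]
  exact hs

theorem isClosed_image_toTopology {s : Set X} (hs : IsClosed[constructibleTopology X] s) :
    IsClosed (WithTopology.toTopology (constructibleTopology X) '' s) := by
  rw [WithConstructibleTopology.isClosed_iff,
    (WithTopology.toTopology_injective _).preimage_image]
  exact hs

theorem isCompact_image_toTopology {s : Set X}
    (hs : @IsCompact X (constructibleTopology X) s) :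
    IsCompact (WithTopology.toTopology (constructibleTopology X) '' s) :=
  @IsCompact.image X (WithConstructibleTopology X) (constructibleTopology X) _ s
    (WithTopology.toTopology _) hs (WithTopology.continuous_toTopology _)

theorem weaklyLocallyCompactSpace_wct [QuasiSeparatedSpace X] [PrespectralSpace X]
    [QuasiSober X] [T0Space X] : WeaklyLocallyCompactSpace (WithConstructibleTopology X) := by
  constructor
  intro x
  obtain ⟨V, ⟨hVo, hVc⟩, hxV, -⟩ :=
    (PrespectralSpace.isTopologicalBasis (X := X)).exists_subset_of_mem_open
      (mem_univ x.ofTopology) isOpen_univ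
  refine ⟨WithTopology.toTopology _ '' V,
    isCompact_image_toTopology (isCompact_cons_of_isCompact_isOpen hVo hVc), ?_⟩
  apply (isOpen_image_toTopology (hVc.isOpen_constructibleTopology_of_isOpen hVo)).mem_nhds
  exact ⟨x.ofTopology, hxV, rfl⟩

theorem totallySeparatedSpace_wct [PrespectralSpace X] [T0Space X] :
    TotallySeparatedSpace (WithConstructibleTopology X) := by
  rw [totallySeparatedSpace_iff_exists_isClopen]
  intro x y hxy
  have hne : x.ofTopology ≠ y.ofTopology := fun h => hxy (WithTopology.ofTopology_injective _ h)
  obtain ⟨U, hU, hUxy⟩ := exists_isOpen_xor_mem hne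
  rcases hUxy with ⟨hx, hy⟩ | ⟨hy, hx⟩
  · obtain ⟨V, ⟨hVo, hVc⟩, hxV, hVU⟩ :=
      (PrespectralSpace.isTopologicalBasis (X := X)).exists_subset_of_mem_open hx hU
    refine ⟨WithTopology.toTopology _ '' V,
      ⟨isClosed_image_toTopology (isClosed_cons_of_isCompact_isOpen hVc hVo),
        isOpen_image_toTopology (hVc.isOpen_constructibleTopology_of_isOpen hVo)⟩,
      ⟨x.ofTopology, hxV, rfl⟩, ?_⟩
    rintro ⟨z, hz, hzy⟩
    have : z = y.ofTopology := by rw [← hzy]
    exact hy (hVU (this ▸ hz))
  · obtain ⟨V, ⟨hVo, hVc⟩, hyV, hVU⟩ :=
      (PrespectralSpace.isTopologicalBasis (X := X)).exists_subset_of_mem_open hy hU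
    have hclopen : IsClopen (WithTopology.toTopology (constructibleTopology X) '' V) :=
      ⟨isClosed_image_toTopology (isClosed_cons_of_isCompact_isOpen hVc hVo),
        isOpen_image_toTopology (hVc.isOpen_constructibleTopology_of_isOpen hVo)⟩
    refine ⟨(WithTopology.toTopology _ '' V)ᶜ, hclopen.compl, ?_, ?_⟩
    · rintro ⟨z, hz, hzx⟩
      have : z = x.ofTopology := by rw [← hzx]
      exact hx (hVU (this ▸ hz))
    · rw [compl_compl]
      exact ⟨y.ofTopology, hyV, rfl⟩

theorem main [QuasiSeparatedSpace X] [PrespectralSpace X] [QuasiSober X] [T0Space X] :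
    T2Space (WithConstructibleTopology X) ∧ LocallyCompactSpace (WithConstructibleTopology X) ∧
      TotallyDisconnectedSpace (WithConstructibleTopology X) := by
  haveI : T2Space (WithConstructibleTopology X) := t2Space_wct
  haveI : WeaklyLocallyCompactSpace (WithConstructibleTopology X) := weaklyLocallyCompactSpace_wct
  haveI : TotallySeparatedSpace (WithConstructibleTopology X) := totallySeparatedSpace_wct
  exact ⟨inferInstance, inferInstance, inferInstance⟩

end Groth.Agent.Lib.Helper20.ConsTop
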