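import Mathlib
import Groth.Agent.Lib.Helper20.Spectral

set_option autoImplicit false

namespace Groth.Agent.Lib.Helper20.Constr

open TopologicalSpace Topology Set
open Groth.Agent.Lib.Helper20.Spectral

variable {X : Type*} [TopologicalSpace X]

/-- normal form of constructible sets: finite unions of `U ∩ Vᶜ` -/
inductive NF : Set X → Prop
  | basic (U V : Set X) (hUo : IsOpen U) (hUr : IsRetrocompact U) (hVo : IsOpen V)
      (hVr : IsRetrocompact V) : NF (U ∩ Vᶜ)
  | union (s t : Set X) : NF s → NF t → NF (s ∪ t)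

theorem NF.inter {s t : Set X} (hs : NF s) (ht : NF t) : NF (s ∩ t) := by
  induction hs with
  | basic U V hUo hUr hVo hVr =>
    induction ht with
    | basic U' V' hUo' hUr' hVo' hVr' =>
      have : U ∩ Vᶜ ∩ (U' ∩ V'ᶜ) = (U ∩ U') ∩ (V ∪ V')ᶜ := by
        ext x
        simp only [mem_inter_iff, mem_compl_iff, mem_union]
        tauto
      rw [this]
      exact NF.basic _ _ (hUo.inter hUo') (hUr.inter_isOpen hUr' hUo') (hVo.union hVo')
        (hVr.union hVr')
    | union s t _ _ ihs iht =>
      rw [inter_union_distrib_left]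
      exact NF.union _ _ ihs iht
  | union s' t' _ _ ihs iht =>
    rw [union_inter_distrib_right]
    exact NF.union _ _ ihs iht

theorem NF.compl {s : Set X} (hs : NF s) : NF sᶜ := by
  induction hs with
  | basic U V hUo hUr hVo hVr =>
    have : (U ∩ Vᶜ)ᶜ = (univ ∩ Uᶜ) ∪ (V ∩ ∅ᶜ) := by
      ext x
      simp only [mem_inter_iff, mem_compl_iff, mem_union, mem_univ, true_and, mem_empty_iff_false,
        not_false_eq_true, and_true]
      tauto
    rw [this]
    exact NF.union _ _ (NF.basic _ _ isOpen_univ .univ hUo hUr)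
      (NF.basic _ _ hVo hVr isOpen_empty .empty)
  | union s t _ _ ihs iht =>
    rw [compl_union]
    exact ihs.inter iht

theorem NF.of_isConstructible {s : Set X} (hs : IsConstructible s) : NF s := by
  induction hs using IsConstructible.empty_union_induction with
  | open_retrocompact U hUo hUr =>
    have : U = U ∩ ∅ᶜ := by simp
    rw [this]
    exact NF.basic _ _ hUo hUr isOpen_empty .empty
  | union s _ t _ hs ht => exact NF.union _ _ hs ht
  | compl s _ hs => exact hs.compl

theorem NF.isConstructible {s : Set X} (hs : NF s) : IsConstructible s := by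
  induction hs with
  | basic U V hUo hUr hVo hVr =>
    exact (hUr.isConstructible hUo).inter (hVr.isConstructible hVo).compl
  | union s t _ _ ihs iht => exact ihs.union iht

theorem NF.isRetrocompact_inter {S T : Set X} (hS : IsRetrocompact S) (hT : NF T) :
    IsRetrocompact (S ∩ T) := by
  induction hT with
  | basic U V hUo hUr hVo hVr =>
    intro K hKc hKo
    have h1 : IsCompact (S ∩ (U ∩ K)) := hS (hUr hKc hKo) (hUo.inter hKo)
    have : S ∩ (U ∩ Vᶜ) ∩ K = S ∩ (U ∩ K) ∩ Vᶜ := by
      ext x
      simp only [mem_inter_iff, mem_compl_iff]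
      tauto
    rw [this]
    exact h1.inter_right hVo.isClosed_compl
  | union s t _ _ ihs iht =>
    rw [inter_union_distrib_left]
    exact ihs.union iht

theorem NF.isRetrocompact {T : Set X} (hT : NF T) : IsRetrocompact T := by
  have := NF.isRetrocompact_inter IsRetrocompact.univ hT
  rwa [univ_inter] at this

theorem isRetrocompact_image_val {E : Set X} (hE : IsRetrocompact E) {O : Set E}
    (hO : IsRetrocompact O) : IsRetrocompact (Subtype.val '' O) :=
  hO.image_of_isEmbedding IsEmbedding.subtypeVal (by rwa [Subtype.range_coe])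

theorem isConstructible_preimage_inclusion [PrespectralSpace X] {E' E : Set X} (h : E' ⊆ E)
    (hE : IsRetrocompact E) (hE' : NF E') {F : Set E} (hF : IsConstructible F) :
    IsConstructible (Set.inclusion h ⁻¹' F) := by
  refine hF.preimage (continuous_inclusion h) ?_
  intro O hOo hOr W hWc hWo
  obtain ⟨K, hKo, hKc, rfl⟩ := exists_compact_open_of_subtype E' W hWo hWc
  rw [Subtype.isCompact_iff]
  have : Subtype.val '' (Set.inclusion h ⁻¹' O ∩ Subtype.val ⁻¹' K) =
      (Subtype.val '' O ∩ E') ∩ K := by
    ext x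
    constructor
    · rintro ⟨⟨y, hy⟩, ⟨hyO, hyK⟩, rfl⟩
      exact ⟨⟨⟨⟨y, h hy⟩, hyO, rfl⟩, hy⟩, hyK⟩
    · rintro ⟨⟨⟨⟨y, hyE⟩, hyO, rfl⟩, hy'⟩, hyK⟩
      exact ⟨⟨y, hy'⟩, ⟨hyO, hyK⟩, rfl⟩
  rw [this]
  exact NF.isRetrocompact_inter (isRetrocompact_image_val hE hOr) hE' hKc hKo

theorem isConstructible_image_val_basic [PrespectralSpace X] {U V : Set X} (hUo : IsOpen U)
    (hUr : IsRetrocompact U) (hVo : IsOpen V) (hVr : IsRetrocompact V)
    {F : Set ↥(U ∩ Vᶜ)} (hF : IsConstructible F) :
    IsConstructible (Subtype.val '' F) := by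
  have hEnf : NF (U ∩ Vᶜ) := NF.basic U V hUo hUr hVo hVr
  have hEr := hEnf.isRetrocompact
  induction hF using IsConstructible.empty_union_induction with
  | open_retrocompact O hOo hOr =>
    obtain ⟨O', hO'o, rfl⟩ := isOpen_induced_iff.mp hOo
    have himg : Subtype.val '' (Subtype.val ⁻¹' O' : Set ↥(U ∩ Vᶜ)) = (U ∩ Vᶜ) ∩ O' :=
      Subtype.image_preimage_coe _ _
    have hOt_open : IsOpen (O' ∩ U ∪ U ∩ V) := (hO'o.inter hUo).union (hUo.inter hVo)
    have hOt_retro : IsRetrocompact (O' ∩ U ∪ U ∩ V) := by
      intro K hKc hKo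
      have h1 : IsCompact (Subtype.val '' (Subtype.val ⁻¹' O' : Set ↥(U ∩ Vᶜ)) ∩ K) :=
        isRetrocompact_image_val hEr hOr hKc hKo
      have h2 : IsCompact (U ∩ V ∩ K) := (hUr.inter_isOpen hVr hVo) hKc hKo
      have : (O' ∩ U ∪ U ∩ V) ∩ K =
          (Subtype.val '' (Subtype.val ⁻¹' O' : Set ↥(U ∩ Vᶜ)) ∩ K) ∪ (U ∩ V ∩ K) := by
        rw [himg]
        ext x
        simp only [mem_inter_iff, mem_union, mem_compl_iff]
        by_cases hxV : x ∈ V <;> tauto
      rw [this]
      exact h1.union h2
    have : Subtype.val '' (Subtype.val ⁻¹' O' : Set ↥(U ∩ Vᶜ)) =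
        (U ∩ Vᶜ) ∩ (O' ∩ U ∪ U ∩ V) := by
      rw [himg]
      ext x
      simp only [mem_inter_iff, mem_union, mem_compl_iff]
      tauto
    rw [this]
    exact hEnf.isConstructible.inter (hOt_retro.isConstructible hOt_open)
  | union s _ t _ hs ht =>
    rw [image_union]
    exact hs.union ht
  | compl s _ hs =>
    rw [← range_sdiff_image Subtype.val_injective, Subtype.range_coe]
    exact hEnf.isConstructible.sdiff hs

theorem isConstructible_image_val_of_NF [PrespectralSpace X] {E : Set X} (hE : NF E) :
    ∀ F : Set E, IsConstructible F → IsConstructible (Subtype.val '' F) := by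
  induction hE with
  | basic U V hUo hUr hVo hVr =>
    intro F hF
    exact isConstructible_image_val_basic hUo hUr hVo hVr hF
  | union s t hs ht ihs iht =>
    intro F hF
    have hEr : IsRetrocompact (s ∪ t) := (NF.union s t hs ht).isRetrocompact
    have h1 := ihs _ (isConstructible_preimage_inclusion subset_union_left hEr hs hF)
    have h2 := iht _ (isConstructible_preimage_inclusion subset_union_right hEr ht hF)
    have : Subtype.val '' F =
        Subtype.val '' (inclusion (subset_union_left (s := s) (t := t)) ⁻¹' F) ∪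
        Subtype.val '' (inclusion (subset_union_right (s := s) (t := t)) ⁻¹' F) := by
      ext x
      constructor
      · rintro ⟨⟨y, hy | hy⟩, hyF, rfl⟩
        · left
          exact ⟨⟨y, hy⟩, hyF, rfl⟩
        · right
          exact ⟨⟨y, hy⟩, hyF, rfl⟩
      · rintro (⟨⟨y, hy⟩, hyF, rfl⟩ | ⟨⟨y, hy⟩, hyF, rfl⟩)
        · exact ⟨_, hyF, rfl⟩
        · exact ⟨_, hyF, rfl⟩
    rw [this]
    exact h1.union h2

theorem isConstructible_image_val [PrespectralSpace X] (E : Set X) (hE : IsConstructible E)
    (F : Set E) (hF : IsConstructible F) : IsConstructible ((Subtype.val : E → X) '' F) :=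
  isConstructible_image_val_of_NF (NF.of_isConstructible hE) F hF

theorem isConstructible_iff_cover [PrespectralSpace X] {m : ℕ} (C : Fin m → Set X)
    (hC : ∀ j, IsConstructible (C j)) (hcov : ⋃ j, C j = univ) (E : Set X) :
    IsConstructible E ↔ ∀ j, IsConstructible ((Subtype.val : C j → X) ⁻¹' E) := by
  constructor
  · intro hE j
    have hCr := (NF.of_isConstructible (hC j)).isRetrocompact
    refine hE.preimage continuous_subtype_val ?_
    intro V hVo hVr W hWc hWo
    obtain ⟨K, hKo, hKc, rfl⟩ := exists_compact_open_of_subtype (C j) W hWo hWc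
    rw [← preimage_inter, Subtype.isCompact_iff, Subtype.image_preimage_coe]
    exact hCr (hVr hKc hKo) (hVo.inter hKo)
  · intro h
    have : E = ⋃ j, Subtype.val '' ((Subtype.val : C j → X) ⁻¹' E) := by
      ext x
      simp only [mem_iUnion, Subtype.image_preimage_coe, mem_inter_iff]
      constructor
      · intro hx
        have : x ∈ ⋃ j, C j := hcov ▸ mem_univ x
        obtain ⟨j, hj⟩ := mem_iUnion.mp this
        exact ⟨j, hj, hx⟩
      · rintro ⟨j, _, hx⟩
        exact hx
    rw [this]
    exact IsConstructible.iUnion fun j =>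
      isConstructible_image_val_of_NF (NF.of_isConstructible (hC j)) _ (h j)

end Groth.Agent.Lib.Helper20.Constr
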