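import Mathlib

namespace Groth.Agent.Lib.Helper20.CycInv

open MvPolynomial

section general

variable {σ R : Type*} [CommRing R] (c : σ → R)

/-- diagonal substitution -/
noncomputable def ψ : MvPolynomial σ R →ₐ[R] MvPolynomial σ R :=
  aeval (fun i => C (c i) * X i)

theorem ψ_monomial (s : σ →₀ ℕ) (b : R) :
    ψ c (monomial s b) = monomial s (b * s.prod fun i e => c i ^ e) := by
  unfold ψ
  rw [aeval_monomial]
  have h1 : (s.prod fun i k => (C (c i) * X i : MvPolynomial σ R) ^ k) =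
      C (s.prod fun i e => c i ^ e) * monomial s 1 := by
    rw [monomial_eq (a := (1 : R)), C_1, one_mul, map_finsuppProd, ← Finsupp.prod_mul]
    refine Finsupp.prod_congr fun i _ => ?_
    rw [mul_pow, C_pow]
  rw [h1, MvPolynomial.algebraMap_eq, ← mul_assoc, ← C_mul, C_mul_monomial, mul_one]

theorem coeff_ψ (p : MvPolynomial σ R) (m : σ →₀ ℕ) :
    coeff m (ψ c p) = (m.prod fun i e => c i ^ e) * coeff m p := by
  classical
  induction p using MvPolynomial.induction_on' with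
  | monomial s b =>
    rw [ψ_monomial, coeff_monomial, coeff_monomial]
    by_cases h : s = m
    · rw [if_pos h, if_pos h, h, mul_comm]
    · rw [if_neg h, if_neg h, mul_zero]
  | add p q hp hq =>
    rw [map_add, coeff_add, coeff_add, hp, hq, mul_add]

theorem ψ_eq_self_iff [IsDomain R] (p : MvPolynomial σ R) :
    ψ c p = p ↔ ∀ m ∈ p.support, (m.prod fun i e => c i ^ e) = 1 := by
  constructor
  · intro h m hm
    have h1 := coeff_ψ c p m
    rw [h] at h1
    have h2 : coeff m p ≠ 0 := by rwa [mem_support_iff] at hm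
    have h3 : ((m.prod fun i e => c i ^ e) - 1) * coeff m p = 0 := by
      rw [sub_mul, one_mul, ← h1, sub_self]
    rcases mul_eq_zero.1 h3 with h4 | h4
    · exact sub_eq_zero.1 h4
    · exact absurd h4 h2
  · intro h
    ext m
    rw [coeff_ψ]
    by_cases hm : m ∈ p.support
    · rw [h m hm, one_mul]
    · rw [notMem_support_iff.1 hm, mul_zero]

end general

section two

variable {k : Type*} [Field k] (r a : ℕ) (ζ : k)

/-- the generating set -/
def gens : Set (MvPolynomial (Fin 2) k) :=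
  {q : MvPolynomial (Fin 2) k | ∃ i j : ℕ, i ≤ r ∧ j ≤ r ∧ ¬ (i = r ∧ j = r) ∧
        r ∣ i + a * j ∧ q = MvPolynomial.X 0 ^ i * MvPolynomial.X 1 ^ j}

/-- the weights -/
noncomputable def cc : Fin 2 → k := fun i => if i = 0 then ζ⁻¹ else ζ⁻¹ ^ a

theorem prod_cc (m : Fin 2 →₀ ℕ) :
    (m.prod fun i e => cc a ζ i ^ e) = ζ⁻¹ ^ (m 0 + a * m 1) := by
  rw [Finsupp.prod_fintype _ _ (fun i => pow_zero _), Fin.prod_univ_two]
  simp only [cc, if_true]
  rw [if_neg (by decide), ← pow_mul, ← pow_add]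

theorem prod_cc_eq_one_iff (hζ : IsPrimitiveRoot ζ r) (m : Fin 2 →₀ ℕ) :
    (m.prod fun i e => cc a ζ i ^ e) = 1 ↔ r ∣ m 0 + a * m 1 := by
  rw [prod_cc, inv_pow, inv_eq_one, hζ.pow_eq_one_iff_dvd]

theorem mono_mem (hr : 0 < r) : ∀ (N i j : ℕ), i + j = N → r ∣ i + a * j →
    (X 0 ^ i * X 1 ^ j : MvPolynomial (Fin 2) k) ∈ Algebra.adjoin k (gens (k := k) r a) := by
  intro N
  induction N using Nat.strong_induction_on with
  | _ N ih =>
    intro i j hN hdvd
    rcases Nat.lt_or_ge i r with hi | hi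
    · rcases Nat.lt_or_ge j r with hj | hj
      · refine Algebra.subset_adjoin ⟨i, j, hi.le, hj.le, fun h => ?_, hdvd, rfl⟩
        omega
      · have h1 : (X 0 ^ i * X 1 ^ j : MvPolynomial (Fin 2) k) =
            (X 0 ^ 0 * X 1 ^ r) * (X 0 ^ i * X 1 ^ (j - r)) := by
          rw [pow_zero, one_mul, mul_left_comm, ← pow_add, Nat.add_sub_cancel' hj]
        rw [h1]
        refine mul_mem (Algebra.subset_adjoin ⟨0, r, Nat.zero_le r, le_rfl, fun h => ?_, ?_, rfl⟩)
          (ih (i + (j - r)) (by omega) i (j - r) rfl ?_)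
        · omega
        · rw [Nat.zero_add]
          exact Dvd.intro_left a rfl
        · have h2 : i + a * (j - r) = i + a * j - a * r := by
            rw [Nat.mul_sub]
            have : a * r ≤ a * j := Nat.mul_le_mul_left a hj
            omega
          rw [h2]
          exact Nat.dvd_sub hdvd (Dvd.intro_left a rfl)
    · have h1 : (X 0 ^ i * X 1 ^ j : MvPolynomial (Fin 2) k) =
          (X 0 ^ r * X 1 ^ 0) * (X 0 ^ (i - r) * X 1 ^ j) := by
        rw [pow_zero, mul_one, ← mul_assoc, ← pow_add, Nat.add_sub_cancel' hi]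
      rw [h1]
      refine mul_mem (Algebra.subset_adjoin ⟨r, 0, le_rfl, Nat.zero_le r, fun h => ?_, ?_, rfl⟩)
        (ih ((i - r) + j) (by omega) (i - r) j rfl ?_)
      · omega
      · rw [Nat.mul_zero, Nat.add_zero]
      · have h2 : i - r + a * j = i + a * j - r := by omega
        rw [h2]
        exact Nat.dvd_sub hdvd (dvd_refl r)

theorem gens_fixed (hζ : IsPrimitiveRoot ζ r) (q : MvPolynomial (Fin 2) k)
    (hq : q ∈ gens (k := k) r a) : ψ (cc a ζ) q = q := by
  obtain ⟨i, j, _, _, _, hdvd, rfl⟩ := hq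
  have h1 : (ζ⁻¹) ^ (i + a * j) = 1 := by
    rw [inv_pow, inv_eq_one, hζ.pow_eq_one_iff_dvd]
    exact hdvd
  unfold ψ
  rw [map_mul, map_pow, map_pow, aeval_X, aeval_X]
  simp only [cc, if_true]
  rw [if_neg (by decide), mul_pow, mul_pow, ← C_pow, ← C_pow, ← pow_mul]
  calc C (ζ⁻¹ ^ i) * X 0 ^ i * (C (ζ⁻¹ ^ (a * j)) * X 1 ^ j)
      = C (ζ⁻¹ ^ (i + a * j)) * (X 0 ^ i * X 1 ^ j : MvPolynomial (Fin 2) k) := by
        rw [pow_add, C_mul]; ring
    _ = X 0 ^ i * X 1 ^ j := by rw [h1, C_1, one_mul]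

theorem result' (ha : 0 < a) (har : a < r) (hζ : IsPrimitiveRoot ζ r)
    (p : MvPolynomial (Fin 2) k) :
    MvPolynomial.aeval (fun i : Fin 2 => if i = 0 then MvPolynomial.C ζ⁻¹ * MvPolynomial.X 0
        else MvPolynomial.C (ζ⁻¹ ^ a) * (MvPolynomial.X 1 : MvPolynomial (Fin 2) k)) p = p ↔
      p ∈ Algebra.adjoin k {q : MvPolynomial (Fin 2) k | ∃ i j : ℕ, i ≤ r ∧ j ≤ r ∧ ¬ (i = r ∧ j = r) ∧
        r ∣ i + a * j ∧ q = MvPolynomial.X 0 ^ i * MvPolynomial.X 1 ^ j} := by
  have hfun : (fun i : Fin 2 => if i = 0 then MvPolynomial.C ζ⁻¹ * MvPolynomial.X 0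
        else MvPolynomial.C (ζ⁻¹ ^ a) * (MvPolynomial.X 1 : MvPolynomial (Fin 2) k)) =
      fun i => C (cc a ζ i) * X i := by
    funext i
    fin_cases i
    · simp [cc]
    · simp [cc]
  rw [hfun]
  change ψ (cc a ζ) p = p ↔ p ∈ Algebra.adjoin k (gens (k := k) r a)
  have hr : 0 < r := by omega
  constructor
  · intro h
    rw [ψ_eq_self_iff] at h
    rw [← MvPolynomial.support_sum_monomial_coeff p]
    refine Subalgebra.sum_mem _ fun m hm => ?_
    have hdvd : r ∣ m 0 + a * m 1 := (prod_cc_eq_one_iff r a ζ hζ m).1 (h m hm)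
    rw [monomial_eq, Finsupp.prod_fintype _ _ (fun i => pow_zero _), Fin.prod_univ_two]
    refine mul_mem ?_ (mono_mem r a hr _ (m 0) (m 1) rfl hdvd)
    rw [← MvPolynomial.algebraMap_eq]
    exact Subalgebra.algebraMap_mem _ _
  · intro h
    have hle : Algebra.adjoin k (gens (k := k) r a) ≤
        AlgHom.equalizer (ψ (cc a ζ)) (AlgHom.id k _) := by
      refine Algebra.adjoin_le fun q hq => ?_
      rw [SetLike.mem_coe, AlgHom.mem_equalizer]
      exact gens_fixed r a ζ hζ q hq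
    have := hle h
    rw [AlgHom.mem_equalizer] at this
    exact this

end two

end Groth.Agent.Lib.Helper20.CycInv
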