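import Mathlib

/-! `df = 0` in `Ω_{R[t]/R}` iff `f` is a polynomial in the `p`-th powers (char `p`). -/

set_option autoImplicit false

namespace Groth.Agent.Lib.Helper20.DExpand

open MvPolynomial

universe u v

variable (p : ℕ) [Fact p.Prime] (R : Type u) [CommRing R] [CharP R p] (σ : Type v)

theorem D_eq_zero_iff (f : MvPolynomial σ R) :
    KaehlerDifferential.D R (MvPolynomial σ R) f = 0 ↔ ∀ i, pderiv i f = 0 := by
  rw [← (KaehlerDifferential.mvPolynomialBasis R σ).repr.map_eq_zero_iff]
  constructor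
  · intro h i
    rw [← KaehlerDifferential.mvPolynomialBasis_repr_apply, h]
    rfl
  · intro h
    ext i
    rw [KaehlerDifferential.mvPolynomialBasis_repr_apply, h i]
    rfl

theorem expand_monomial' (d : σ →₀ ℕ) (r : R) :
    expand p (monomial d r) = monomial (p • d) r := by
  have hp : p ≠ 0 := (Fact.out : p.Prime).ne_zero
  rw [expand_monomial, monomial_eq, Finsupp.prod, Finsupp.support_smul_eq hp]

theorem pderiv_expand (g : MvPolynomial σ R) (i : σ) : pderiv i (expand p g) = 0 := by
  ext m
  rw [coeff_pderiv, coeff_zero]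
  by_cases h : p ∣ m i + 1
  · have : ((m i : R) + 1) = ((m i + 1 : ℕ) : R) := by push_cast; rfl
    rw [this, (CharP.cast_eq_zero_iff R p (m i + 1)).mpr h, mul_zero]
  · rw [coeff_expand_of_not_dvd (i := i), zero_mul]
    simpa using h

theorem dvd_of_pderiv_eq_zero (f : MvPolynomial σ R) (hf : ∀ i, pderiv i f = 0)
    (m : σ →₀ ℕ) (hm : m ∈ f.support) (i : σ) : p ∣ m i := by
  by_contra hnd
  have hmi : m i ≠ 0 := by
    intro h0; apply hnd; rw [h0]; exact dvd_zero p
  have hunit : IsUnit ((m i : ℕ) : R) := by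
    have hp : p.Prime := Fact.out
    rw [CharP.isUnit_natCast_iff hp]
    exact hnd
  have h1 := congrArg (coeff (m - Finsupp.single i 1)) (hf i)
  rw [coeff_pderiv, coeff_zero] at h1
  have e1 : m - Finsupp.single i 1 + Finsupp.single i 1 = m := by
    ext j
    by_cases hj : j = i
    · subst hj
      simp only [Finsupp.coe_add, Finsupp.coe_tsub, Pi.add_apply, Pi.sub_apply,
        Finsupp.single_eq_same]
      omega
    · simp [Finsupp.single_apply, Ne.symm hj]
  have e2 : ((((m - Finsupp.single i 1 : σ →₀ ℕ) i : ℕ)) : R) + 1 = ((m i : ℕ) : R) := by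
    have : (m - Finsupp.single i 1 : σ →₀ ℕ) i + 1 = m i := by
      simp only [Finsupp.coe_tsub, Pi.sub_apply, Finsupp.single_eq_same]
      omega
    rw [← this]; push_cast; rfl
  rw [e1, e2] at h1
  have h2 : coeff m f = 0 := by
    rcases hunit with ⟨u, hu⟩
    rw [← hu] at h1
    exact (Units.mul_left_eq_zero u).mp h1
  exact (mem_support_iff.mp hm) h2

theorem main (f : MvPolynomial σ R) :
    KaehlerDifferential.D R (MvPolynomial σ R) f = 0 ↔
      ∃ g : MvPolynomial σ R, f = MvPolynomial.expand p g := by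
  rw [D_eq_zero_iff]
  constructor
  · intro hf
    refine ⟨∑ m ∈ f.support, monomial (m.mapRange (· / p) (Nat.zero_div p)) (coeff m f), ?_⟩
    rw [map_sum]
    conv_lhs => rw [f.as_sum]
    apply Finset.sum_congr rfl
    intro m hm
    rw [expand_monomial']
    have e : p • (m.mapRange (· / p) (Nat.zero_div p)) = m := by
      ext i
      rw [Finsupp.smul_apply, Finsupp.mapRange_apply, smul_eq_mul]
      exact Nat.mul_div_cancel' (dvd_of_pderiv_eq_zero p R σ f hf m hm i)
    rw [e]
  · rintro ⟨g, rfl⟩ i
    exact pderiv_expand p R σ g i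

end Groth.Agent.Lib.Helper20.DExpand
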