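import Mathlib

/-! A degree-raising derivation on a non-positively graded algebra hits `1`. -/

set_option autoImplicit false

namespace Groth.Agent.Lib.Helper20.DerOne

universe u v

variable (k : Type u) [Field k]
    (A : Type v) [CommRing A] [Algebra k A] (𝒜 : ℤ → Submodule k A) [GradedAlgebra 𝒜]

theorem eq_zero_of_pos (hpos : ∀ i : ℤ, 0 < i → 𝒜 i = ⊥) (j : ℤ) (hj : 0 < j) (x : A)
    (hx : x ∈ 𝒜 j) : x = 0 := by
  rw [hpos j hj] at hx
  exact (Submodule.mem_bot k).mp hx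

theorem comp_zero_mul_D (hpos : ∀ i : ℤ, 0 < i → 𝒜 i = ⊥)
    (D : Derivation k A A) (l : ℤ)
    (hD : ∀ (i : ℤ) (a : A), a ∈ 𝒜 i → D a ∈ 𝒜 (i + l)) (c e : A) :
    ((DirectSum.decompose 𝒜 (c * D e) 0 : 𝒜 0) : A) =
      ((DirectSum.decompose 𝒜 c 0 : 𝒜 0) : A) * D ((DirectSum.decompose 𝒜 e (-l) : 𝒜 (-l)) : A) := by
  classical
  have he : D e = ∑ i ∈ (DirectSum.decompose 𝒜 e).support,
      D ((DirectSum.decompose 𝒜 e i : 𝒜 i) : A) := by
    conv_lhs => rw [← DirectSum.sum_support_decompose 𝒜 e]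
    rw [map_sum]
  rw [he, Finset.mul_sum, DirectSum.decompose_sum, DFinsupp.finsetSum_apply,
    AddSubmonoidClass.coe_finsetSum]
  have hterm : ∀ i : ℤ, ((DirectSum.decompose 𝒜
      (c * D ((DirectSum.decompose 𝒜 e i : 𝒜 i) : A)) 0 : 𝒜 0) : A) =
      ((DirectSum.decompose 𝒜 c (-(i + l)) : 𝒜 (-(i + l))) : A) *
        D ((DirectSum.decompose 𝒜 e i : 𝒜 i) : A) := by
    intro i
    have h1 := DirectSum.coe_decompose_mul_add_of_right_mem 𝒜 (i := -(i + l)) (a := c)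
      (hD i _ (SetLike.coe_mem (DirectSum.decompose 𝒜 e i)))
    rw [neg_add_cancel] at h1
    exact h1
  simp_rw [hterm]
  rw [Finset.sum_eq_single (-l)]
  · have : -(-l + l) = (0 : ℤ) := by ring
    rw [this]
  · intro i _ hi
    rcases lt_or_gt_of_ne hi with h | h
    · -- i < -l : -(i+l) > 0
      have h2 := eq_zero_of_pos k A 𝒜 hpos (-(i + l)) (by omega) _
        (SetLike.coe_mem (DirectSum.decompose 𝒜 c (-(i + l))))
      rw [h2, zero_mul]
    · have h2 := eq_zero_of_pos k A 𝒜 hpos (i + l) (by omega) _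
        (hD i _ (SetLike.coe_mem (DirectSum.decompose 𝒜 e i)))
      rw [h2, mul_zero]
  · intro hl
    have h0 : DirectSum.decompose 𝒜 e (-l) = 0 := DFinsupp.notMem_support_iff.mp hl
    rw [h0]; simp

theorem exists_D_eq_one (hpos : ∀ i : ℤ, 0 < i → 𝒜 i = ⊥)
    (D : Derivation k A A) (l : ℤ) (hl : 0 < l)
    (hD : ∀ (i : ℤ) (a : A), a ∈ 𝒜 i → D a ∈ 𝒜 (i + l))
    (hfree : ∀ m : Ideal A, m.IsMaximal → (∀ i : ℤ, i < 0 → (𝒜 i : Set A) ⊆ m) → ∃ a : A, D a ∉ m) :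
    ∃ f : A, D f = 1 := by
  classical
  set J : Ideal A := Ideal.span ({x | ∃ i : ℤ, i < 0 ∧ x ∈ 𝒜 i} ∪ Set.range D) with hJ
  have hJtop : J = ⊤ := by
    by_contra hne
    obtain ⟨m, hm, hJm⟩ := Ideal.exists_le_maximal J hne
    obtain ⟨a, ha⟩ := hfree m hm (by
      intro i hi x hx
      exact hJm (Ideal.subset_span (Or.inl ⟨i, hi, hx⟩)))
    exact ha (hJm (Ideal.subset_span (Or.inr ⟨a, rfl⟩)))
  have key : ∀ y ∈ J, ∀ c : A, ∃ f : A, D f = ((DirectSum.decompose 𝒜 (c * y) 0 : 𝒜 0) : A) := by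
    intro y hy
    induction hy using Submodule.span_induction with
    | mem y hy =>
      intro c
      rcases hy with ⟨i, hi, hx⟩ | ⟨e, rfl⟩
      · refine ⟨0, ?_⟩
        have h1 := DirectSum.coe_decompose_mul_add_of_right_mem 𝒜 (i := -i) (a := c) hx
        rw [neg_add_cancel] at h1
        have h2 := eq_zero_of_pos k A 𝒜 hpos (-i) (by omega) _
          (SetLike.coe_mem (DirectSum.decompose 𝒜 c (-i)))
        rw [h1, h2, zero_mul, map_zero]
      · refine ⟨((DirectSum.decompose 𝒜 c 0 : 𝒜 0) : A) *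
          ((DirectSum.decompose 𝒜 e (-l) : 𝒜 (-l)) : A), ?_⟩
        rw [comp_zero_mul_D k A 𝒜 hpos D l hD c e, Derivation.leibniz, smul_eq_mul, smul_eq_mul]
        have h2 := eq_zero_of_pos k A 𝒜 hpos (0 + l) (by omega) _
          (hD 0 _ (SetLike.coe_mem (DirectSum.decompose 𝒜 c 0)))
        rw [h2, mul_zero, add_zero]
    | zero =>
      intro c
      exact ⟨0, by rw [mul_zero, DirectSum.decompose_zero]; simp⟩
    | add u v _ _ hu hv =>
      intro c
      obtain ⟨f1, hf1⟩ := hu c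
      obtain ⟨f2, hf2⟩ := hv c
      refine ⟨f1 + f2, ?_⟩
      rw [map_add, hf1, hf2, mul_add, DirectSum.decompose_add, DirectSum.add_apply,
        Submodule.coe_add]
    | smul a u _ hu =>
      intro c
      obtain ⟨f, hf⟩ := hu (c * a)
      exact ⟨f, by rw [hf, smul_eq_mul, mul_assoc]⟩
  obtain ⟨f, hf⟩ := key 1 (by rw [hJtop]; trivial) 1
  refine ⟨f, ?_⟩
  rw [hf, mul_one]
  exact DirectSum.decompose_of_mem_same 𝒜 (SetLike.one_mem_graded 𝒜)

end Groth.Agent.Lib.Helper20.DerOne
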