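import Groth.Agent.Lib.Helper20.TestRing
import Groth.Agent.Lib.Helper20.GammaFil

/-!
# Helper library (helper20): products of λ-rings and the sub-λ-algebra generated by a family
-/

set_option autoImplicit false
universe u v w

open Finset

namespace Groth.Agent.Lib.Helper20.DL

open LambdaRing MvPolynomial

section mapAeval
variable {R : Type*} {S : Type*} [CommRing R] [CommRing S] {τ : Type*}

lemma map_aeval_int (φ : R →+* S) (f : τ → R) (P : MvPolynomial τ ℤ) :
    φ (aeval f P) = aeval (fun i => φ (f i)) P := by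
  have e1 : φ (aeval f P) = φ.toIntAlgHom (aeval f P) := rfl
  rw [e1, comp_aeval_apply]
  rfl

end mapAeval

section prod
variable {A : Type v} {B : Type w} [CommRing A] [CommRing B] [LambdaOps A] [LambdaOps B]

/-- componentwise λ-operations on a product -/
@[instance_reducible]
noncomputable def prodLam : LambdaOps (A × B) where
  lam n p := (LambdaOps.lam n p.1, LambdaOps.lam n p.2)
  lam_zero p := by ext <;> simp [LambdaOps.lam_zero]
  lam_one p := by ext <;> simp [LambdaOps.lam_one]
  lam_add k x y := by ext <;> simp [LambdaOps.lam_add, Prod.fst_sum, Prod.snd_sum]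

noncomputable scoped instance instProdLam : LambdaOps (A × B) := prodLam

lemma lam_fst (n : ℕ) (p : A × B) : (LambdaOps.lam n p).1 = LambdaOps.lam n p.1 := rfl
lemma lam_snd (n : ℕ) (p : A × B) : (LambdaOps.lam n p).2 = LambdaOps.lam n p.2 := rfl

lemma isSpecial_prod (hA : IsSpecial A) (hB : IsSpecial B) : IsSpecial (A × B) where
  lam_one_eq_zero n hn := by
    ext
    · rw [lam_fst]; exact hA.lam_one_eq_zero n hn
    · rw [lam_snd]; exact hB.lam_one_eq_zero n hn
  lam_mul n P hP x y := by
    ext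
    · rw [lam_fst]
      have := map_aeval_int (RingHom.fst A B) (Sum.elim (fun k : Fin n => LambdaOps.lam ((k : ℕ) + 1) x)
        (fun k : Fin n => LambdaOps.lam ((k : ℕ) + 1) y)) P
      rw [RingHom.coe_fst] at this
      rw [this, Prod.fst_mul, hA.lam_mul n P hP]
      refine congrArg (fun f => aeval f P) ?_
      funext k
      rcases k with k | k <;> rfl
    · rw [lam_snd]
      have := map_aeval_int (RingHom.snd A B) (Sum.elim (fun k : Fin n => LambdaOps.lam ((k : ℕ) + 1) x)
        (fun k : Fin n => LambdaOps.lam ((k : ℕ) + 1) y)) P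
      rw [RingHom.coe_snd] at this
      rw [this, Prod.snd_mul, hB.lam_mul n P hP]
      refine congrArg (fun f => aeval f P) ?_
      funext k
      rcases k with k | k <;> rfl
  lam_lam i j Q hQ x := by
    ext
    · rw [lam_fst, lam_fst]
      have := map_aeval_int (RingHom.fst A B)
        (fun k : Fin (i * j) => LambdaOps.lam ((k : ℕ) + 1) x) Q
      rw [RingHom.coe_fst] at this
      rw [this, hA.lam_lam i j Q hQ]
      rfl
    · rw [lam_snd, lam_snd]
      have := map_aeval_int (RingHom.snd A B)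
        (fun k : Fin (i * j) => LambdaOps.lam ((k : ℕ) + 1) x) Q
      rw [RingHom.coe_snd] at this
      rw [this, hB.lam_lam i j Q hQ]
      rfl

end prod

section pi
variable {I : Type*} {B : I → Type w} [∀ i, CommRing (B i)] [∀ i, LambdaOps (B i)]

/-- componentwise λ-operations on a product of a family -/
@[instance_reducible]
noncomputable def piLam : LambdaOps (∀ i, B i) where
  lam n p := fun i => LambdaOps.lam n (p i)
  lam_zero p := funext fun i => LambdaOps.lam_zero _
  lam_one p := funext fun i => LambdaOps.lam_one _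
  lam_add k x y := by
    funext i
    simp [LambdaOps.lam_add, Finset.sum_apply]

noncomputable scoped instance instPiLam : LambdaOps (∀ i, B i) := piLam

lemma lam_apply (n : ℕ) (p : ∀ i, B i) (i : I) : (LambdaOps.lam n p) i = LambdaOps.lam n (p i) := rfl

lemma isSpecial_pi (hB : ∀ i, IsSpecial (B i)) : IsSpecial (∀ i, B i) where
  lam_one_eq_zero n hn := by
    funext i
    rw [lam_apply]
    exact (hB i).lam_one_eq_zero n hn
  lam_mul n P hP x y := by
    funext i
    rw [lam_apply]
    have := map_aeval_int (Pi.evalRingHom B i)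
      (Sum.elim (fun k : Fin n => LambdaOps.lam ((k : ℕ) + 1) x)
        (fun k : Fin n => LambdaOps.lam ((k : ℕ) + 1) y)) P
    rw [Pi.evalRingHom_apply] at this
    rw [this, Pi.mul_apply, (hB i).lam_mul n P hP]
    refine congrArg (fun f => aeval f P) ?_
    funext k
    rcases k with k | k <;> rfl
  lam_lam i j Q hQ x := by
    funext a
    rw [lam_apply, lam_apply]
    have := map_aeval_int (Pi.evalRingHom B a)
      (fun k : Fin (i * j) => LambdaOps.lam ((k : ℕ) + 1) x) Q
    rw [Pi.evalRingHom_apply] at this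
    rw [this, (hB a).lam_lam i j Q hQ]
    rfl

end pi

section closure
variable {K : Type u} [CommRing K] [LambdaOps K]
  {R : Type w} [CommRing R] [LambdaOps R] [Algebra K R]
  {ι : Type*} (ξ : ι → R)

lemma aeval_int_mem (S : Subalgebra K R) {τ : Type*} (f : τ → R) (hf : ∀ i, f i ∈ S)
    (Q : MvPolynomial τ ℤ) : aeval f Q ∈ S := by
  induction Q using MvPolynomial.induction_on with
  | C a =>
    rw [aeval_C]
    have : (algebraMap ℤ R) a = algebraMap K R (a : K) := by simp
    rw [this]
    exact S.algebraMap_mem _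
  | add p q hp hq => rw [map_add]; exact S.add_mem hp hq
  | mul_X p i hp => rw [map_mul, aeval_X]; exact S.mul_mem hp (hf i)

variable (K) in
/-- the `K`-subalgebra generated by the `λ^j(ξ_s)`, `j ≥ 1` -/
def Adj : Subalgebra K R :=
  Algebra.adjoin K (Set.range fun p : ι × ℕ => LambdaOps.lam (p.2 + 1) (ξ p.1))

variable (K) in
/-- the `K`-subalgebra generated by the `γ^j(ξ_s)`, `j ≥ 1` -/
def Adjγ : Subalgebra K R :=
  Algebra.adjoin K (Set.range fun p : ι × ℕ => gamma (p.2 + 1) (ξ p.1))

lemma lam_gen_mem (s : ι) (j : ℕ) : LambdaOps.lam (j + 1) (ξ s) ∈ Adj K ξ :=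
  Algebra.subset_adjoin ⟨(s, j), rfl⟩

lemma gen_mem (s : ι) : ξ s ∈ Adj K ξ := by
  have := lam_gen_mem (K := K) ξ s 0
  rwa [zero_add, LambdaOps.lam_one] at this

variable (hR : IsSpecial R) (hKR : IsLambdaAlg K R)
  (hP : ∀ n : ℕ, ∃ P : MvPolynomial (Fin n ⊕ Fin n) ℤ, IsMulPoly n P)
  (hQ : ∀ i j : ℕ, ∃ Q : MvPolynomial (Fin (i * j)) ℤ, IsCompPoly i j Q)
include hR hKR hP hQ

/-- the generated subalgebra is stable under the λ-operations -/
theorem lam_mem_Adj (r : R) (hr : r ∈ Adj K ξ) : ∀ n : ℕ, LambdaOps.lam n r ∈ Adj K ξ := by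
  unfold Adj at hr
  induction hr using Algebra.adjoin_induction with
  | mem x hx =>
    obtain ⟨⟨s, j⟩, rfl⟩ := hx
    intro n
    obtain ⟨Q, hQ'⟩ := hQ (j + 1) n
    change LambdaOps.lam n (LambdaOps.lam (j + 1) (ξ s)) ∈ _
    rw [hR.lam_lam (j + 1) n Q hQ']
    apply aeval_int_mem
    intro k
    exact lam_gen_mem ξ s _
  | algebraMap c =>
    intro n
    rw [← hKR n c]
    exact Subalgebra.algebraMap_mem _ _
  | add x y _ _ hx hy =>
    intro n
    rw [LambdaOps.lam_add]
    apply Subalgebra.sum_mem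
    intro i _
    exact Subalgebra.mul_mem _ (hx i) (hy (n - i))
  | mul x y _ _ hx hy =>
    intro n
    obtain ⟨P, hP'⟩ := hP n
    rw [hR.lam_mul n P hP']
    apply aeval_int_mem
    rintro (k | k)
    · exact hx _
    · exact hy _

omit hR hKR hP hQ in
lemma gamma_mem_of_lam_mem (S : Subalgebra K R) (r : R) (h : ∀ n : ℕ, 1 ≤ n → LambdaOps.lam n r ∈ S)
    (n : ℕ) : gamma n r ∈ S := by
  unfold gamma
  split_ifs with hn
  · exact S.one_mem
  · apply Subalgebra.sum_mem
    intro j _
    have : ((Nat.choose (n - 1) (j - 1) : ℕ) : R) = algebraMap K R ((Nat.choose (n - 1) (j - 1) : ℕ) : K) := by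
      simp
    rw [this]
    apply S.mul_mem (S.algebraMap_mem _)
    split_ifs with hj
    · exact S.zero_mem
    · exact h j (by omega)

theorem gamma_mem_Adj (r : R) (hr : r ∈ Adj K ξ) (n : ℕ) : gamma n r ∈ Adj K ξ :=
  gamma_mem_of_lam_mem _ r (fun k _ => lam_mem_Adj ξ hR hKR hP hQ r hr k) n

omit hR hKR hP hQ in
lemma lam_mem_Adjγ (s : ι) : ∀ n : ℕ, 1 ≤ n → LambdaOps.lam n (ξ s) ∈ Adjγ K ξ := by
  intro n
  induction n using Nat.strong_induction_on with
  | _ n ih =>
    intro hn
    have hg : gamma n (ξ s) ∈ Adjγ K ξ := by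
      obtain ⟨m, rfl⟩ : ∃ m, n = m + 1 := ⟨n - 1, by omega⟩
      exact Algebra.subset_adjoin ⟨(s, m), rfl⟩
    have h1 : gamma n (ξ s) = LambdaOps.lam n (ξ s) +
        ∑ j ∈ range n, ((Nat.choose (n - 1) (j - 1) : ℕ) : R) *
          (if j = 0 then 0 else LambdaOps.lam j (ξ s)) := by
      unfold gamma
      rw [if_neg (by omega), Finset.sum_range_succ, if_neg (by omega), Nat.choose_self, Nat.cast_one,
        one_mul, add_comm]
    have h2 : LambdaOps.lam n (ξ s) = gamma n (ξ s) -
        ∑ j ∈ range n, ((Nat.choose (n - 1) (j - 1) : ℕ) : R) *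
          (if j = 0 then 0 else LambdaOps.lam j (ξ s)) := by
      rw [h1]; ring
    rw [h2]
    apply Subalgebra.sub_mem _ hg
    apply Subalgebra.sum_mem
    intro j hj
    have hj' := Finset.mem_range.mp hj
    have : ((Nat.choose (n - 1) (j - 1) : ℕ) : R) = algebraMap K R ((Nat.choose (n - 1) (j - 1) : ℕ) : K) := by
      simp
    rw [this]
    apply Subalgebra.mul_mem _ (Subalgebra.algebraMap_mem _ _)
    split_ifs with hj0
    · exact Subalgebra.zero_mem _
    · exact ih j hj' (by omega)

omit hR hKR hP hQ in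
lemma Adj_eq_Adjγ : Adj K ξ = Adjγ K ξ := by
  apply le_antisymm
  · apply Algebra.adjoin_le
    rintro _ ⟨⟨s, j⟩, rfl⟩
    exact lam_mem_Adjγ ξ s (j + 1) (by omega)
  · apply Algebra.adjoin_le
    rintro _ ⟨⟨s, j⟩, rfl⟩
    apply gamma_mem_of_lam_mem
    intro n hn
    obtain ⟨m, rfl⟩ : ∃ m, n = m + 1 := ⟨n - 1, by omega⟩
    exact lam_gen_mem ξ s m

omit hR hKR hP hQ in
/-- every element of the generated subalgebra is a polynomial in the `γ^j(ξ_s)` -/
theorem exists_rep (r : R) (hr : r ∈ Adj K ξ) :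
    ∃ G : MvPolynomial (ι × ℕ) K, r = aeval (fun p : ι × ℕ => gamma (p.2 + 1) (ξ p.1)) G := by
  rw [Adj_eq_Adjγ] at hr
  unfold Adjγ at hr
  rw [Algebra.adjoin_range_eq_range_aeval] at hr
  obtain ⟨G, hG⟩ := hr
  exact ⟨G, hG.symm⟩

end closure

end Groth.Agent.Lib.Helper20.DL
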