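import Mathlib

/-!
# `k`-linear maps out of the Kähler differentials

A `k`-linear map `F : A ⊗[k] A → Q` with `F (a ⊗ xy) = F (ax ⊗ y) + F (ay ⊗ x)` factors through
`A ⊗[k] A → Ω[A⁄k]`, `a ⊗ b ↦ a • d b`.
-/

namespace Groth.Agent.Lib.Helper20.KerPi

open scoped TensorProduct

universe u v w

variable (k : Type u) [CommRing k] (A : Type v) [CommRing A] [Algebra k A]

/-- `Σ aᵢ [bᵢ] ↦ Σ aᵢ ⊗ bᵢ` -/
noncomputable def rho : (A →₀ A) →ₗ[A] A ⊗[k] A :=
  Finsupp.linearCombination A (fun b : A => (1 : A) ⊗ₜ[k] b)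

theorem rho_single (a b : A) : rho k A (Finsupp.single b a) = a ⊗ₜ[k] b := by
  unfold rho
  rw [Finsupp.linearCombination_single, TensorProduct.smul_tmul', smul_eq_mul, mul_one]

theorem rho_surjective : Function.Surjective (rho k A) := by
  intro t
  induction t using TensorProduct.induction_on with
  | zero => exact ⟨0, map_zero _⟩
  | tmul a b => exact ⟨Finsupp.single b a, rho_single k A a b⟩
  | add x y hx hy =>
    obtain ⟨ξ, rfl⟩ := hx
    obtain ⟨η, rfl⟩ := hy
    exact ⟨ξ + η, map_add _ _ _⟩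

theorem pi_rho (ξ : A →₀ A) :
    (KaehlerDifferential.D k A).tensorProductTo (rho k A ξ) =
      Finsupp.linearCombination A (KaehlerDifferential.D k A) ξ := by
  induction ξ using Finsupp.induction_linear with
  | zero => simp
  | add x y hx hy => rw [map_add, map_add, map_add, hx, hy]
  | single b a =>
    rw [rho_single, Derivation.tensorProductTo_tmul, Finsupp.linearCombination_single]

variable {k A}
variable {Q : Type w} [AddCommGroup Q] [Module k Q]

theorem F_tmul_one (F : A ⊗[k] A →ₗ[k] Q)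
    (h1 : ∀ a x y : A, F (a ⊗ₜ[k] (x * y)) = F ((a * x) ⊗ₜ[k] y) + F ((a * y) ⊗ₜ[k] x))
    (a : A) : F (a ⊗ₜ[k] (1 : A)) = 0 := by
  have := h1 a 1 1
  rw [mul_one, mul_one] at this
  have h2 : F (a ⊗ₜ[k] (1 : A)) + 0 = F (a ⊗ₜ[k] (1 : A)) + F (a ⊗ₜ[k] (1 : A)) := by
    rw [add_zero]; exact this
  exact (add_left_cancel h2).symm

theorem F_smul_rho_eq_zero (F : A ⊗[k] A →ₗ[k] Q)
    (h1 : ∀ a x y : A, F (a ⊗ₜ[k] (x * y)) = F ((a * x) ⊗ₜ[k] y) + F ((a * y) ⊗ₜ[k] x))
    (ξ : A →₀ A) (hξ : ξ ∈ KaehlerDifferential.kerTotal k A) :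
    ∀ a : A, F (a • rho k A ξ) = 0 := by
  unfold KaehlerDifferential.kerTotal at hξ
  induction hξ using Submodule.span_induction with
  | mem g hg =>
    intro a
    rcases hg with (⟨⟨x, y⟩, rfl⟩ | ⟨⟨x, y⟩, rfl⟩) | ⟨c, rfl⟩
    · simp only [map_add, map_sub, rho_single]
      rw [TensorProduct.tmul_add]
      simp
    · simp only [map_add, map_sub, rho_single, smul_add, smul_sub, TensorProduct.smul_tmul',
        smul_eq_mul, mul_one]
      rw [h1 a x y]
      abel
    · simp only [rho_single, TensorProduct.smul_tmul', smul_eq_mul, mul_one]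
      rw [Algebra.algebraMap_eq_smul_one, TensorProduct.tmul_smul, map_smul, F_tmul_one F h1,
        smul_zero]
  | zero => intro a; simp
  | add x y _ _ hx hy => intro a; rw [map_add, smul_add, map_add, hx a, hy a, add_zero]
  | smul b x _ hx => intro a; rw [(rho k A).map_smul, smul_smul]; exact hx (a * b)

/-- **a `k`-linear map on `A ⊗ A` satisfying the Leibniz relation kills the kernel of
`a ⊗ b ↦ a • d b`** -/
theorem F_eq_zero_of_pi_eq_zero (F : A ⊗[k] A →ₗ[k] Q)
    (h1 : ∀ a x y : A, F (a ⊗ₜ[k] (x * y)) = F ((a * x) ⊗ₜ[k] y) + F ((a * y) ⊗ₜ[k] x))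
    (t : A ⊗[k] A) (ht : (KaehlerDifferential.D k A).tensorProductTo t = 0) : F t = 0 := by
  obtain ⟨ξ, rfl⟩ := rho_surjective k A t
  rw [pi_rho] at ht
  have hξ : ξ ∈ KaehlerDifferential.kerTotal k A := by
    rw [← KaehlerDifferential.kerTotal_eq]
    exact ht
  have := F_smul_rho_eq_zero F h1 ξ hξ 1
  rwa [one_smul] at this

end Groth.Agent.Lib.Helper20.KerPi
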