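import Mathlib
import Groth.Agent.Lib.Helper20.KerPi

/-!
# The restriction of `S₃`-invariant functions on `X³` to a diagonal
-/

namespace Groth.Agent.Lib.Helper20.DiagSym3

open scoped TensorProduct

universe u v

variable (k : Type u) [Field k] (A : Type v) [CommRing A] [Algebra k A]

theorem T3_induction {P : A ⊗[k] (A ⊗[k] A) → Prop} (h0 : P 0)
    (hadd : ∀ x y, P x → P y → P (x + y)) (hpure : ∀ a b c : A, P (a ⊗ₜ[k] (b ⊗ₜ[k] c))) :
    ∀ z, P z := by
  intro z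
  induction z using TensorProduct.induction_on with
  | zero => exact h0
  | tmul a w =>
    induction w using TensorProduct.induction_on with
    | zero => rw [TensorProduct.tmul_zero]; exact h0
    | tmul b c => exact hpure a b c
    | add x y hx hy => rw [TensorProduct.tmul_add]; exact hadd _ _ hx hy
  | add x y hx hy => exact hadd _ _ hx hy

/-- swap of the first two factors -/
noncomputable def s₁ : A ⊗[k] (A ⊗[k] A) →ₗ[k] A ⊗[k] (A ⊗[k] A) :=
  (TensorProduct.leftComm k A A A).toLinearMap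

/-- swap of the last two factors -/
noncomputable def s₂ : A ⊗[k] (A ⊗[k] A) →ₗ[k] A ⊗[k] (A ⊗[k] A) :=
  LinearMap.lTensor A (TensorProduct.comm k A A).toLinearMap

@[simp] theorem s₁_tmul (a b c : A) :
    s₁ k A (a ⊗ₜ[k] (b ⊗ₜ[k] c)) = b ⊗ₜ[k] (a ⊗ₜ[k] c) := rfl

@[simp] theorem s₂_tmul (a b c : A) :
    s₂ k A (a ⊗ₜ[k] (b ⊗ₜ[k] c)) = a ⊗ₜ[k] (c ⊗ₜ[k] b) := rfl

/-- the sum over the symmetric group -/
noncomputable def Sig : A ⊗[k] (A ⊗[k] A) →ₗ[k] A ⊗[k] (A ⊗[k] A) :=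
  LinearMap.id + s₁ k A + s₂ k A + s₁ k A ∘ₗ s₂ k A + s₂ k A ∘ₗ s₁ k A +
    s₁ k A ∘ₗ s₂ k A ∘ₗ s₁ k A

theorem Sig_apply (z : A ⊗[k] (A ⊗[k] A)) :
    Sig k A z = z + s₁ k A z + s₂ k A z + s₁ k A (s₂ k A z) + s₂ k A (s₁ k A z) +
      s₁ k A (s₂ k A (s₁ k A z)) := rfl

theorem Sig_tmul (a b c : A) :
    Sig k A (a ⊗ₜ[k] (b ⊗ₜ[k] c)) =
      a ⊗ₜ[k] (b ⊗ₜ[k] c) + b ⊗ₜ[k] (a ⊗ₜ[k] c) + a ⊗ₜ[k] (c ⊗ₜ[k] b) + c ⊗ₜ[k] (a ⊗ₜ[k] b) +
        b ⊗ₜ[k] (c ⊗ₜ[k] a) + c ⊗ₜ[k] (b ⊗ₜ[k] a) := by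
  rw [Sig_apply]
  simp only [s₁_tmul, s₂_tmul]

theorem s₁_Sig (z : A ⊗[k] (A ⊗[k] A)) : s₁ k A (Sig k A z) = Sig k A z := by
  refine T3_induction k A (P := fun z => s₁ k A (Sig k A z) = Sig k A z) (by simp) ?_ ?_ z
  · intro x y hx hy
    simp only [map_add] at hx hy ⊢
    rw [hx, hy]
  · intro a b c
    rw [Sig_tmul]
    simp only [map_add, s₁_tmul]
    abel

theorem s₂_Sig (z : A ⊗[k] (A ⊗[k] A)) : s₂ k A (Sig k A z) = Sig k A z := by
  refine T3_induction k A (P := fun z => s₂ k A (Sig k A z) = Sig k A z) (by simp) ?_ ?_ z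
  · intro x y hx hy
    simp only [map_add] at hx hy ⊢
    rw [hx, hy]
  · intro a b c
    rw [Sig_tmul]
    simp only [map_add, s₂_tmul]
    abel

theorem Sig_of_inv (x : A ⊗[k] (A ⊗[k] A)) (h1 : s₁ k A x = x) (h2 : s₂ k A x = x) :
    Sig k A x = (6 : k) • x := by
  simp only [Sig_apply, h1, h2]
  module

variable {k A}
variable (r : A ⊗[k] (A ⊗[k] A) →ₗ[k] A ⊗[k] A)
  (hr : ∀ a b c : A, r (a ⊗ₜ[k] (b ⊗ₜ[k] c)) = (a * b) ⊗ₜ[k] c)
  (Dm : A ⊗[k] A →ₗ[k] Ω[A⁄k])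
  (hD : ∀ a b : A, Dm (a ⊗ₜ[k] b) =
    (2 : A) • (a • KaehlerDifferential.D k A b) - b • KaehlerDifferential.D k A a)

include hr in
theorem r_Sig_tmul (a b c : A) :
    r (Sig k A (a ⊗ₜ[k] (b ⊗ₜ[k] c))) =
      (2 : k) • ((a * b) ⊗ₜ[k] c + (a * c) ⊗ₜ[k] b + (b * c) ⊗ₜ[k] a) := by
  rw [Sig_tmul]
  simp only [map_add, hr]
  rw [mul_comm b a, mul_comm c a, mul_comm c b]
  module

include hr hD in
theorem Dm_r_Sig (z : A ⊗[k] (A ⊗[k] A)) : Dm (r (Sig k A z)) = 0 := by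
  refine T3_induction k A (P := fun z => Dm (r (Sig k A z)) = 0) (by simp) ?_ ?_ z
  · intro x y hx hy
    simp only [map_add] at hx hy ⊢
    rw [hx, hy, add_zero]
  · intro a b c
    rw [r_Sig_tmul r hr]
    simp only [map_smul, map_add, hD, Derivation.leibniz]
    have : (2 : A) • ((a * b) • KaehlerDifferential.D k A c) -
          c • (a • KaehlerDifferential.D k A b + b • KaehlerDifferential.D k A a) +
        ((2 : A) • ((a * c) • KaehlerDifferential.D k A b) -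
          b • (a • KaehlerDifferential.D k A c + c • KaehlerDifferential.D k A a)) +
        ((2 : A) • ((b * c) • KaehlerDifferential.D k A a) -
          a • (b • KaehlerDifferential.D k A c + c • KaehlerDifferential.D k A b)) = 0 := by
      module
    rw [this, smul_zero]

section Quot

variable [CharZero k]

/-- the image of the invariants -/
noncomputable def V : Submodule k (A ⊗[k] A) := LinearMap.range (r ∘ₗ Sig k A)

include hr in
theorem R0 (a b c : A) :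
    (V r).mkQ ((a * b) ⊗ₜ[k] c) + (V r).mkQ ((a * c) ⊗ₜ[k] b) + (V r).mkQ ((b * c) ⊗ₜ[k] a) =
      0 := by
  have h : r (Sig k A (a ⊗ₜ[k] (b ⊗ₜ[k] c))) ∈ V r := ⟨_, rfl⟩
  rw [r_Sig_tmul r hr] at h
  have h2 := (Submodule.Quotient.mk_eq_zero _).mpr h
  rw [← Submodule.mkQ_apply, map_smul, map_add, map_add] at h2
  exact (smul_eq_zero.mp h2).resolve_left two_ne_zero

/-- `a ⊗ b ↦ 2 a ⊗ b + b ⊗ a` -/
noncomputable def Psi : A ⊗[k] A →ₗ[k] A ⊗[k] A :=
  LinearMap.id + LinearMap.id + (TensorProduct.comm k A A).toLinearMap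

theorem Psi_tmul (a b : A) :
    Psi (k := k) (a ⊗ₜ[k] b) = a ⊗ₜ[k] b + a ⊗ₜ[k] b + b ⊗ₜ[k] a := rfl

/-- `a ⊗ b ↦ 2 a ⊗ b - b ⊗ a` -/
noncomputable def Psi' : A ⊗[k] A →ₗ[k] A ⊗[k] A :=
  LinearMap.id + LinearMap.id - (TensorProduct.comm k A A).toLinearMap

theorem Psi'_tmul (a b : A) :
    Psi' (k := k) (a ⊗ₜ[k] b) = a ⊗ₜ[k] b + a ⊗ₜ[k] b - b ⊗ₜ[k] a := rfl

/-- the candidate inverse, composed with `a ⊗ b ↦ a db` -/
noncomputable def F' : A ⊗[k] A →ₗ[k] (A ⊗[k] A) ⧸ V r := (V r).mkQ ∘ₗ Psi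

include hr in
theorem F'_leibniz (a x y : A) :
    F' r (a ⊗ₜ[k] (x * y)) = F' r ((a * x) ⊗ₜ[k] y) + F' r ((a * y) ⊗ₜ[k] x) := by
  have e1 := R0 r hr a (x * y) 1
  have e2 := R0 r hr (a * x) y 1
  have e3 := R0 r hr (a * y) x 1
  have e4 := R0 r hr a x y
  simp only [mul_one] at e1 e2 e3
  have hxy1 : (a * x) * y = a * (x * y) := mul_assoc _ _ _
  have hxy2 : (a * y) * x = a * (x * y) := by ring
  rw [hxy1] at e2
  rw [hxy2] at e3
  unfold F'
  simp only [LinearMap.comp_apply, Psi_tmul, map_add]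
  linear_combination (norm := module) (2 : k) • e1 - e2 - e3 - e4

include hr hD in
theorem mem_V_of_Dm_eq_zero (y : A ⊗[k] A) (hy : Dm y = 0) : y ∈ V r := by
  have hpi : ∀ y, (KaehlerDifferential.D k A).tensorProductTo (Psi' (k := k) y) = Dm y := by
    intro y
    induction y using TensorProduct.induction_on with
    | zero => simp
    | tmul a b =>
      rw [Psi'_tmul, map_sub, map_add, Derivation.tensorProductTo_tmul,
        Derivation.tensorProductTo_tmul, hD, two_smul]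
    | add x y hx hy => rw [map_add, map_add, map_add, hx, hy]
  have hF : ∀ y, F' r (Psi' (k := k) y) = (3 : k) • (V r).mkQ y := by
    intro y
    induction y using TensorProduct.induction_on with
    | zero => simp
    | tmul a b =>
      unfold F'
      simp only [LinearMap.comp_apply, Psi'_tmul, map_add, map_sub, Psi_tmul]
      module
    | add x y hx hy => rw [map_add, map_add, map_add, hx, hy, smul_add]
  have h0 : F' r (Psi' (k := k) y) = 0 :=
    KerPi.F_eq_zero_of_pi_eq_zero (F' r) (F'_leibniz r hr) _ (by rw [hpi, hy])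
  rw [hF] at h0
  have := (smul_eq_zero.mp h0).resolve_left three_ne_zero
  exact (Submodule.Quotient.mk_eq_zero _).mp this

include hD in
theorem Dm_surjective : Function.Surjective Dm := by
  intro ω
  obtain ⟨t, rfl⟩ := KaehlerDifferential.tensorProductTo_surjective k A ω
  have h : ∀ t, Dm (Psi (k := k) t) = 3 • (KaehlerDifferential.D k A).tensorProductTo t := by
    intro t
    induction t using TensorProduct.induction_on with
    | zero => simp
    | tmul a b =>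
      rw [Psi_tmul, map_add, map_add, hD, hD, Derivation.tensorProductTo_tmul]
      module
    | add x y hx hy => rw [map_add, map_add, map_add, hx, hy, smul_add]
  refine ⟨(3 : k)⁻¹ • Psi (k := k) t, ?_⟩
  rw [map_smul, h, ← Nat.cast_smul_eq_nsmul k, smul_smul]
  have : (3 : k)⁻¹ * ((3 : ℕ) : k) = 1 := by
    rw [Nat.cast_ofNat]
    exact inv_mul_cancel₀ three_ne_zero
  rw [this, one_smul]

include hr hD in
theorem main :
    (∀ y : A ⊗[k] A, Dm y = 0 ↔ ∃ x : A ⊗[k] (A ⊗[k] A),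
        TensorProduct.leftComm k A A A x = x ∧
        LinearMap.lTensor A (TensorProduct.comm k A A).toLinearMap x = x ∧ r x = y) ∧
    Function.Surjective Dm := by
  refine ⟨fun y => ⟨fun hy => ?_, ?_⟩, Dm_surjective Dm hD⟩
  · obtain ⟨z, hz⟩ := mem_V_of_Dm_eq_zero r hr Dm hD y hy
    exact ⟨Sig k A z, s₁_Sig k A z, s₂_Sig k A z, hz⟩
  · rintro ⟨x, h1, h2, rfl⟩
    have h6 := Sig_of_inv k A x h1 h2
    have h := Dm_r_Sig r hr Dm hD x
    rw [h6, map_smul, map_smul] at h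
    exact (smul_eq_zero.mp h).resolve_left (by norm_num)

end Quot

end Groth.Agent.Lib.Helper20.DiagSym3
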