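import Mathlib
import Groth.Agent.Lib.Helper20.KerPi
import Groth.Agent.Lib.Helper20.DiagSym3

/-!
# The restrictions of `(2 3)`-invariant functions on `X³` to two diagonals
-/

namespace Groth.Agent.Lib.Helper20.DiagSym3b

open scoped TensorProduct
open Groth.Agent.Lib.Helper20.DiagSym3

universe u v

variable {k : Type u} [Field k] [CharZero k] {A : Type v} [CommRing A] [Algebra k A]
variable (r₁₂ r₂₃ : A ⊗[k] (A ⊗[k] A) →ₗ[k] A ⊗[k] A)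
  (h₁₂ : ∀ a u v : A, r₁₂ (a ⊗ₜ[k] (u ⊗ₜ[k] v)) = (a * u) ⊗ₜ[k] v)
  (h₂₃ : ∀ a u v : A, r₂₃ (a ⊗ₜ[k] (u ⊗ₜ[k] v)) = (u * v) ⊗ₜ[k] a)
  (ψ : (A ⊗[k] A) × (A ⊗[k] A) →ₗ[k] Ω[A⁄k])
  (hψ : ∀ a u b v : A, ψ (a ⊗ₜ[k] u, b ⊗ₜ[k] v) =
    (2 : A) • (a • KaehlerDifferential.D k A u) - v • KaehlerDifferential.D k A b)

/-- symmetrization in the last two factors -/
noncomputable def Sym23 : A ⊗[k] (A ⊗[k] A) →ₗ[k] A ⊗[k] (A ⊗[k] A) :=
  LinearMap.id + s₂ k A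

theorem Sym23_tmul (a u v : A) :
    Sym23 (k := k) (a ⊗ₜ[k] (u ⊗ₜ[k] v)) = a ⊗ₜ[k] (u ⊗ₜ[k] v) + a ⊗ₜ[k] (v ⊗ₜ[k] u) := rfl

theorem s₂_Sym23 (z : A ⊗[k] (A ⊗[k] A)) : s₂ k A (Sym23 z) = Sym23 z := by
  refine T3_induction k A (P := fun z => s₂ k A (Sym23 z) = Sym23 z) (by simp) ?_ ?_ z
  · intro x y hx hy
    simp only [map_add] at hx hy ⊢
    rw [hx, hy]
  · intro a u v
    rw [Sym23_tmul, map_add, s₂_tmul, s₂_tmul, add_comm]

theorem Sym23_of_inv (x : A ⊗[k] (A ⊗[k] A)) (h : s₂ k A x = x) : Sym23 x = (2 : k) • x := by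
  change x + s₂ k A x = _
  rw [h]
  module

/-- the pair of restrictions of the symmetrization -/
noncomputable def Rm : A ⊗[k] (A ⊗[k] A) →ₗ[k] (A ⊗[k] A) × (A ⊗[k] A) :=
  (r₁₂.prod r₂₃) ∘ₗ Sym23

include h₁₂ h₂₃ in
theorem Rm_tmul (a u v : A) :
    Rm r₁₂ r₂₃ (a ⊗ₜ[k] (u ⊗ₜ[k] v)) =
      ((a * u) ⊗ₜ[k] v + (a * v) ⊗ₜ[k] u, (u * v) ⊗ₜ[k] a + (u * v) ⊗ₜ[k] a) := by
  unfold Rm
  rw [LinearMap.comp_apply, Sym23_tmul, map_add]
  simp only [LinearMap.prod_apply, Function.prod, h₁₂, h₂₃, Prod.mk_add_mk]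
  rw [mul_comm v u]

/-- `ψ` through `a ⊗ b ↦ a db` -/
noncomputable def pi : A ⊗[k] A →ₗ[k] Ω[A⁄k] :=
  ((KaehlerDifferential.D k A).tensorProductTo).restrictScalars k

theorem pi_tmul (a b : A) : pi (k := k) (a ⊗ₜ[k] b) = a • KaehlerDifferential.D k A b := rfl

include hψ in
theorem psi_eq (p q : A ⊗[k] A) :
    ψ (p, q) = pi p + pi p - pi (TensorProduct.comm k A A q) := by
  have h1 : ∀ p : A ⊗[k] A, ψ (p, 0) = pi p + pi p := by
    intro p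
    induction p using TensorProduct.induction_on with
    | zero =>
      rw [show (((0 : A ⊗[k] A), (0 : A ⊗[k] A)) : (A ⊗[k] A) × (A ⊗[k] A)) = 0 from rfl, map_zero,
        map_zero, add_zero]
    | tmul a u =>
      have := hψ a u 0 0
      rw [TensorProduct.zero_tmul] at this
      rw [this, pi_tmul, map_zero, smul_zero, sub_zero, two_smul]
    | add x y hx hy =>
      have : ((x + y, 0) : (A ⊗[k] A) × (A ⊗[k] A)) = (x, 0) + (y, 0) := by simp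
      rw [this, map_add, hx, hy, map_add]
      abel
  have h2 : ∀ q : A ⊗[k] A, ψ (0, q) = - pi (TensorProduct.comm k A A q) := by
    intro q
    induction q using TensorProduct.induction_on with
    | zero =>
      rw [show (((0 : A ⊗[k] A), (0 : A ⊗[k] A)) : (A ⊗[k] A) × (A ⊗[k] A)) = 0 from rfl, map_zero,
        map_zero, map_zero, neg_zero]
    | tmul b v =>
      have := hψ 0 0 b v
      rw [TensorProduct.zero_tmul] at this
      rw [this, TensorProduct.comm_tmul, pi_tmul, zero_smul, smul_zero, zero_sub]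
    | add x y hx hy =>
      have : ((0, x + y) : (A ⊗[k] A) × (A ⊗[k] A)) = (0, x) + (0, y) := by simp
      rw [this, map_add, hx, hy, map_add, map_add]
      abel
  have : ((p, q) : (A ⊗[k] A) × (A ⊗[k] A)) = (p, 0) + (0, q) := by simp
  rw [this, map_add, h1, h2]
  abel

include h₁₂ h₂₃ hψ in
theorem psi_Rm (z : A ⊗[k] (A ⊗[k] A)) : ψ (Rm r₁₂ r₂₃ z) = 0 := by
  refine T3_induction k A (P := fun z => ψ (Rm r₁₂ r₂₃ z) = 0) (by simp) ?_ ?_ z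
  · intro x y hx hy
    simp only [map_add] at hx hy ⊢
    rw [hx, hy, add_zero]
  · intro a u v
    rw [Rm_tmul r₁₂ r₂₃ h₁₂ h₂₃, psi_eq ψ hψ]
    simp only [map_add, TensorProduct.comm_tmul, pi_tmul, Derivation.leibniz]
    module

/-- `q ↦ m(q) ⊗ 1 + swap q` -/
noncomputable def Lq : A ⊗[k] A →ₗ[k] A ⊗[k] A :=
  (TensorProduct.mk k A A).flip 1 ∘ₗ LinearMap.mul' k A + (TensorProduct.comm k A A).toLinearMap

theorem Lq_apply (q : A ⊗[k] A) :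
    Lq (k := k) q = (LinearMap.mul' k A q) ⊗ₜ[k] (1 : A) + TensorProduct.comm k A A q := rfl

theorem Lq_tmul (u a : A) :
    Lq (k := k) (u ⊗ₜ[k] a) = (u * a) ⊗ₜ[k] (1 : A) + a ⊗ₜ[k] u := by
  rw [Lq_apply, LinearMap.mul'_apply, TensorProduct.comm_tmul]

/-- the image -/
noncomputable def W : Submodule k ((A ⊗[k] A) × (A ⊗[k] A)) := LinearMap.range (Rm r₁₂ r₂₃)

include h₁₂ h₂₃ in
theorem Lq_mem (q : A ⊗[k] A) : (Lq (k := k) q, q + q) ∈ W r₁₂ r₂₃ := by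
  induction q using TensorProduct.induction_on with
  | zero =>
    rw [map_zero, add_zero]
    exact zero_mem _
  | tmul u a =>
    refine ⟨a ⊗ₜ[k] (u ⊗ₜ[k] 1), ?_⟩
    rw [Rm_tmul r₁₂ r₂₃ h₁₂ h₂₃, Lq_tmul, mul_one, mul_one, mul_comm a u]
  | add x y hx hy =>
    have : ((Lq (k := k) (x + y), x + y + (x + y)) : (A ⊗[k] A) × (A ⊗[k] A)) =
        (Lq (k := k) x, x + x) + (Lq (k := k) y, y + y) := by
      rw [map_add, Prod.mk_add_mk]
      congr 1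
      abel
    rw [this]
    exact add_mem hx hy

/-- `t ↦ [(t - m(t) ⊗ 1, 0)]` -/
noncomputable def F'' : A ⊗[k] A →ₗ[k] ((A ⊗[k] A) × (A ⊗[k] A)) ⧸ W r₁₂ r₂₃ :=
  (W r₁₂ r₂₃).mkQ ∘ₗ LinearMap.inl k (A ⊗[k] A) (A ⊗[k] A) ∘ₗ
    (LinearMap.id - (TensorProduct.mk k A A).flip 1 ∘ₗ LinearMap.mul' k A)

theorem F''_apply (t : A ⊗[k] A) :
    F'' r₁₂ r₂₃ t = (W r₁₂ r₂₃).mkQ (t - (LinearMap.mul' k A t) ⊗ₜ[k] (1 : A), 0) := rfl

include h₁₂ h₂₃ in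
theorem F''_leibniz (a x y : A) :
    F'' r₁₂ r₂₃ (a ⊗ₜ[k] (x * y)) =
      F'' r₁₂ r₂₃ ((a * x) ⊗ₜ[k] y) + F'' r₁₂ r₂₃ ((a * y) ⊗ₜ[k] x) := by
  rw [F''_apply, F''_apply, F''_apply, ← map_add, ← sub_eq_zero, ← map_sub,
    Submodule.mkQ_apply, Submodule.Quotient.mk_eq_zero]
  simp only [LinearMap.mul'_apply, Prod.mk_add_mk, Prod.mk_sub_mk, add_zero, sub_zero]
  -- the element is `-(Rm (a ⊗ x ⊗ y) - (Lq (xy ⊗ a), 2 xy ⊗ a))`
  have h1 : Rm r₁₂ r₂₃ (a ⊗ₜ[k] (x ⊗ₜ[k] y)) ∈ W r₁₂ r₂₃ := ⟨_, rfl⟩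
  have h2 := Lq_mem r₁₂ r₂₃ h₁₂ h₂₃ ((x * y) ⊗ₜ[k] a)
  rw [Rm_tmul r₁₂ r₂₃ h₁₂ h₂₃] at h1
  rw [Lq_tmul] at h2
  have h3 := sub_mem h2 h1
  rw [Prod.mk_sub_mk, sub_self] at h3
  convert h3 using 2
  have e1 : a * (x * y) = x * y * a := by ring
  have e2 : a * x * y = x * y * a := by ring
  have e3 : a * y * x = x * y * a := by ring
  rw [e1, e2, e3]
  abel

include h₁₂ h₂₃ hψ in
theorem mem_W (p q : A ⊗[k] A) (hm : LinearMap.mul' k A p = LinearMap.mul' k A q)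
    (h : ψ (p, q) = 0) : (p, q) ∈ W r₁₂ r₂₃ := by
  -- `t = p - L q / 2`
  obtain ⟨t, ht⟩ : ∃ t : A ⊗[k] A, t = p - (2 : k)⁻¹ • Lq (k := k) q := ⟨_, rfl⟩
  have hL2 : (2 : k)⁻¹ • (Lq (k := k) q, q + q) = ((2 : k)⁻¹ • Lq (k := k) q, q) := by
    rw [Prod.smul_mk]
    congr 1
    rw [← two_smul k q, smul_smul, inv_mul_cancel₀ two_ne_zero, one_smul]
  have hsplit : ((p, q) : (A ⊗[k] A) × (A ⊗[k] A)) = (t, 0) + ((2 : k)⁻¹ • Lq (k := k) q, q) := by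
    rw [ht, Prod.mk_add_mk, sub_add_cancel, zero_add]
  rw [hsplit]
  refine add_mem ?_ (hL2 ▸ Submodule.smul_mem _ _ (Lq_mem r₁₂ r₂₃ h₁₂ h₂₃ q))
  -- `π t = 0` and `m t = 0`
  have hcomm : ∀ q : A ⊗[k] A,
      LinearMap.mul' k A (TensorProduct.comm k A A q) = LinearMap.mul' k A q := by
    intro q
    induction q using TensorProduct.induction_on with
    | zero => simp
    | tmul u a => rw [TensorProduct.comm_tmul, LinearMap.mul'_apply, LinearMap.mul'_apply, mul_comm]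
    | add x y hx hy => rw [map_add, map_add, map_add, hx, hy]
  have hmL : LinearMap.mul' k A (Lq (k := k) q) = LinearMap.mul' k A q + LinearMap.mul' k A q := by
    rw [Lq_apply, map_add, LinearMap.mul'_apply, mul_one, hcomm]
  have hmt : LinearMap.mul' k A t = 0 := by
    rw [ht, map_sub, map_smul, hmL, hm, ← two_smul k (LinearMap.mul' k A q), smul_smul,
      inv_mul_cancel₀ two_ne_zero, one_smul, sub_self]
  have hpiL : pi (k := k) (Lq (k := k) q) = pi (k := k) (TensorProduct.comm k A A q) := by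
    rw [Lq_apply, map_add, pi_tmul]
    simp
  have hpit : (KaehlerDifferential.D k A).tensorProductTo t = 0 := by
    change pi (k := k) t = 0
    have h' := psi_eq ψ hψ p q
    rw [h] at h'
    rw [ht, map_sub, map_smul, hpiL]
    have h2 : pi (k := k) (TensorProduct.comm k A A q) = (2 : k) • pi (k := k) p := by
      rw [two_smul]
      exact (sub_eq_zero.mp h'.symm).symm
    rw [h2, smul_smul, inv_mul_cancel₀ two_ne_zero, one_smul, sub_self]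
  have h0 := KerPi.F_eq_zero_of_pi_eq_zero (F'' r₁₂ r₂₃) (F''_leibniz r₁₂ r₂₃ h₁₂ h₂₃) t hpit
  rw [F''_apply, hmt, TensorProduct.zero_tmul, sub_zero, Submodule.mkQ_apply,
    Submodule.Quotient.mk_eq_zero] at h0
  exact h0

include h₁₂ h₂₃ hψ in
theorem main :
    (∀ p q : A ⊗[k] A, LinearMap.mul' k A p = LinearMap.mul' k A q →
      (ψ (p, q) = 0 ↔ ∃ x : A ⊗[k] (A ⊗[k] A),
        LinearMap.lTensor A (TensorProduct.comm k A A).toLinearMap x = x ∧ r₁₂ x = p ∧ r₂₃ x = q)) ∧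
    (∀ ω : Ω[A⁄k], ∃ p q : A ⊗[k] A, LinearMap.mul' k A p = LinearMap.mul' k A q ∧ ψ (p, q) = ω) := by
  refine ⟨fun p q hm => ⟨fun h => ?_, ?_⟩, fun ω => ?_⟩
  · obtain ⟨z, hz⟩ := mem_W r₁₂ r₂₃ h₁₂ h₂₃ ψ hψ p q hm h
    refine ⟨Sym23 z, s₂_Sym23 z, ?_, ?_⟩
    · exact congrArg Prod.fst hz
    · exact congrArg Prod.snd hz
  · rintro ⟨x, hx, rfl, rfl⟩
    have h2 := Sym23_of_inv x hx
    have h := psi_Rm r₁₂ r₂₃ h₁₂ h₂₃ ψ hψ x
    unfold Rm at h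
    rw [LinearMap.comp_apply, h2, map_smul, map_smul] at h
    exact (smul_eq_zero.mp h).resolve_left two_ne_zero
  · obtain ⟨t, rfl⟩ := KaehlerDifferential.tensorProductTo_surjective k A ω
    refine ⟨(2 : k)⁻¹ • (t - (LinearMap.mul' k A t) ⊗ₜ[k] (1 : A)), 0, ?_, ?_⟩
    · rw [map_smul, map_sub, LinearMap.mul'_apply, mul_one, sub_self, smul_zero, map_zero]
    · rw [psi_eq ψ hψ, map_zero, map_zero, sub_zero, ← two_smul k, ← map_smul, smul_smul,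
        mul_inv_cancel₀ two_ne_zero, one_smul, map_sub, pi_tmul]
      simp
      rfl

end Groth.Agent.Lib.Helper20.DiagSym3b
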