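import Mathlib

/-!
# Eisenbud–Evans basic elements, part 1: fibres and ranks
-/

open TensorProduct

namespace Groth.Agent.Lib.Helper20.EE

universe u

variable {A : Type u} [CommRing A] {M : Type u} [AddCommGroup M] [Module A M]

/-- The residue field at a point of the spectrum. -/
abbrev Kp (p : PrimeSpectrum A) := p.asIdeal.ResidueField

/-- The fibre map `M → κ(p) ⊗ M`. -/
noncomputable abbrev phi (p : PrimeSpectrum A) : M →ₗ[A] (Kp p ⊗[A] M) :=
  TensorProduct.mk A (Kp p) M 1

/-- The comparison of the fibre with `κ^r` given a local trivialisation. -/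
noncomputable def fibEquiv (p : PrimeSpectrum A) {r : ℕ}
    (e : LocalizedModule p.asIdeal.primeCompl M ≃ₗ[Localization.AtPrime p.asIdeal]
      (Fin r → Localization.AtPrime p.asIdeal)) :
    (Kp p ⊗[A] M) ≃ₗ[Kp p] (Fin r → Kp p) :=
  (AlgebraTensorModule.cancelBaseChange A (Localization.AtPrime p.asIdeal) (Kp p) (Kp p) M).symm
    ≪≫ₗ (AlgebraTensorModule.congr (LinearEquiv.refl (Kp p) (Kp p))
      ((LocalizedModule.equivTensorProduct p.asIdeal.primeCompl M).symm ≪≫ₗ e))
    ≪≫ₗ TensorProduct.piScalarRight (Localization.AtPrime p.asIdeal) (Kp p) (Kp p) (Fin r)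

lemma fibEquiv_phi (p : PrimeSpectrum A) {r : ℕ}
    (e : LocalizedModule p.asIdeal.primeCompl M ≃ₗ[Localization.AtPrime p.asIdeal]
      (Fin r → Localization.AtPrime p.asIdeal)) (m : M) (j : Fin r) :
    fibEquiv p e (phi p m) j =
      algebraMap (Localization.AtPrime p.asIdeal) (Kp p)
        (e (LocalizedModule.mkLinearMap p.asIdeal.primeCompl M m) j) := by
  simp [fibEquiv, phi, TensorProduct.piScalarRight_apply, TensorProduct.piScalarRightHom_tmul,
    Algebra.smul_def]

lemma finrank_fib (p : PrimeSpectrum A) {r : ℕ}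
    (e : LocalizedModule p.asIdeal.primeCompl M ≃ₗ[Localization.AtPrime p.asIdeal]
      (Fin r → Localization.AtPrime p.asIdeal)) :
    Module.finrank (Kp p) (Kp p ⊗[A] M) = r := by
  rw [(fibEquiv p e).finrank_eq]; simp

/-- The rank of a family of elements of `M` in the fibre at `p`. -/
noncomputable def rk (p : PrimeSpectrum A) {ι : Type*} (m : ι → M) : ℕ :=
  Module.finrank (Kp p) (Submodule.span (Kp p) (Set.range (phi p ∘ m)))

lemma phi_mem_span_of_mem (p : PrimeSpectrum A) {ι : Type*} (y : ι → M) {n : M}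
    (hn : n ∈ Submodule.span A (Set.range y)) :
    phi p n ∈ Submodule.span (Kp p) (Set.range (phi p ∘ y)) := by
  have : Submodule.span A (Set.range y) ≤
      ((Submodule.span (Kp p) (Set.range (phi p ∘ y))).restrictScalars A).comap (phi p) := by
    rw [Submodule.span_le]
    rintro _ ⟨i, rfl⟩
    exact Submodule.subset_span ⟨i, rfl⟩
  exact this hn

lemma span_phi_eq_top_iff [Module.Finite A M] (p : PrimeSpectrum A) {ι : Type*} (y : ι → M) :
    Submodule.span (Kp p) (Set.range (phi p ∘ y)) = ⊤ ↔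
      p ∉ Module.support A (M ⧸ Submodule.span A (Set.range y)) := by
  set N := Submodule.span A (Set.range y) with hN
  rw [Module.mem_support_iff_nontrivial_residueField_tensorProduct, not_nontrivial_iff_subsingleton]
  constructor
  · intro h
    have hsurj : Function.Surjective (LinearMap.baseChange (Kp p) N.mkQ) := by
      have := LinearMap.lTensor_surjective (Kp p) (Submodule.mkQ_surjective N)
      exact this
    have hker : LinearMap.ker (LinearMap.baseChange (Kp p) N.mkQ) = ⊤ := by
      rw [eq_top_iff, ← h, Submodule.span_le]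
      rintro _ ⟨i, rfl⟩
      simp only [Function.comp_apply, SetLike.mem_coe, LinearMap.mem_ker, phi,
        TensorProduct.mk_apply, LinearMap.baseChange_tmul, Submodule.mkQ_apply]
      have : (Submodule.Quotient.mk (y i) : M ⧸ N) = 0 := by
        rw [Submodule.Quotient.mk_eq_zero]
        exact Submodule.subset_span ⟨i, rfl⟩
      rw [this, TensorProduct.tmul_zero]
    refine ⟨fun a b => ?_⟩
    obtain ⟨a', rfl⟩ := hsurj a
    obtain ⟨b', rfl⟩ := hsurj b
    have ha : a' ∈ LinearMap.ker (LinearMap.baseChange (Kp p) N.mkQ) := by rw [hker]; trivial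
    have hb : b' ∈ LinearMap.ker (LinearMap.baseChange (Kp p) N.mkQ) := by rw [hker]; trivial
    rw [LinearMap.mem_ker.mp ha, LinearMap.mem_ker.mp hb]
  · intro hsub
    rw [eq_top_iff]
    have key : ∀ t : Kp p ⊗[A] N, (LinearMap.lTensor (Kp p) N.subtype) t ∈
        Submodule.span (Kp p) (Set.range (phi p ∘ y)) := by
      intro t
      induction t using TensorProduct.induction_on with
      | zero => simp
      | tmul c n =>
        have : (LinearMap.lTensor (Kp p) N.subtype) (c ⊗ₜ[A] n) = c • phi p (n : M) := by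
          simp [phi, TensorProduct.smul_tmul']
        rw [this]
        exact Submodule.smul_mem _ _ (phi_mem_span_of_mem p y n.2)
      | add a b ha hb =>
        rw [map_add]
        exact Submodule.add_mem _ ha hb
    intro z _
    have hex := lTensor_exact (Kp p) (LinearMap.exact_subtype_mkQ N) (Submodule.mkQ_surjective N)
    have hz : (LinearMap.lTensor (Kp p) N.mkQ) z = 0 := Subsingleton.elim _ _
    obtain ⟨t, rfl⟩ := (hex z).mp hz
    exact key t

lemma span_range_phi_eq_top (p : PrimeSpectrum A) :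
    Submodule.span (Kp p) (Set.range (phi p : M → Kp p ⊗[A] M)) = ⊤ := by
  rw [eq_top_iff]
  intro z _
  induction z using TensorProduct.induction_on with
  | zero => simp
  | tmul c n =>
    have : c ⊗ₜ[A] n = c • phi p n := by simp [phi, TensorProduct.smul_tmul']
    rw [this]
    exact Submodule.smul_mem _ _ (Submodule.subset_span ⟨n, rfl⟩)
  | add a b ha hb => exact Submodule.add_mem _ (ha trivial) (hb trivial)

lemma rk_mono (p : PrimeSpectrum A) {ι ι' : Type*} (m : ι → M) (m' : ι' → M)
    (h : ∀ i, ∃ j, m' j = m i) [Module.Finite A M] : rk p m ≤ rk p m' := by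
  unfold rk
  apply Submodule.finrank_mono
  apply Submodule.span_mono
  rintro _ ⟨i, rfl⟩
  obtain ⟨j, hj⟩ := h i
  exact ⟨j, by simp [hj]⟩

/-- Local openness of the rank of a family on a locus where the fibres have constant dimension. -/
lemma rk_local_open [Module.Finite A M] (X : Set (PrimeSpectrum A)) (r : ℕ)
    (hr : ∀ q ∈ X, Module.finrank (Kp q) (Kp q ⊗[A] M) = r) {ι : Type*} (m : ι → M) (w : ℕ)
    (p : PrimeSpectrum A) (hp : p ∈ X) (hw : w ≤ rk p m) :
    ∃ f : A, f ∉ p.asIdeal ∧ ∀ q ∈ X, f ∉ q.asIdeal → w ≤ rk q m := by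
  classical
  set S : Set (Kp p ⊗[A] M) := Set.range (phi p ∘ m) with hS
  set T : Set (Kp p ⊗[A] M) := Set.range (phi p) with hT
  have hST : S ⊆ T := by rintro _ ⟨i, rfl⟩; exact ⟨m i, rfl⟩
  obtain ⟨B₁, hB₁S, hspan₁, hli₁⟩ := exists_linearIndependent (Kp p) S
  obtain ⟨B, hBT, hB₁B, hTB, hli⟩ := exists_linearIndepOn_id_extension hli₁ (hB₁S.trans hST)
  have hBtop : Submodule.span (Kp p) B = ⊤ := by
    rw [eq_top_iff, ← span_range_phi_eq_top p, Submodule.span_le]
    exact hTB
  have hBfin : B.Finite := LinearIndependent.setFinite hli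
  have hB₁fin : B₁.Finite := hBfin.subset hB₁B
  letI : Fintype B := hBfin.fintype
  letI : Fintype B₁ := hB₁fin.fintype
  have hcardB : Fintype.card B = r := by
    have h1 := finrank_span_set_eq_card (R := Kp p) (s := B) hli
    rw [hBtop, finrank_top, hr p hp, Set.toFinset_card] at h1
    exact h1.symm
  have hcardB₁ : w ≤ Fintype.card B₁ := by
    have h1 := finrank_span_set_eq_card (R := Kp p) (s := B₁) hli₁
    rw [hspan₁, Set.toFinset_card] at h1
    rw [← h1]
    exact hw
  -- choose lifts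
  have hσ : ∀ b : B₁, ∃ i, phi p (m i) = (b : Kp p ⊗[A] M) := by
    intro b
    obtain ⟨i, hi⟩ := hB₁S b.2
    exact ⟨i, hi⟩
  choose σ hσ' using hσ
  have hτ : ∀ b : B, ∃ x : M, phi p x = (b : Kp p ⊗[A] M) := by
    intro b
    obtain ⟨x, hx⟩ := hBT b.2
    exact ⟨x, hx⟩
  choose τ hτ' using hτ
  let y : B → M := fun b => if h : (b : Kp p ⊗[A] M) ∈ B₁ then m (σ ⟨b, h⟩) else τ b
  have hy : ∀ b : B, phi p (y b) = (b : Kp p ⊗[A] M) := by
    intro b
    by_cases h : (b : Kp p ⊗[A] M) ∈ B₁
    · simp only [y, dif_pos h]; exact hσ' ⟨b, h⟩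
    · simp only [y, dif_neg h]; exact hτ' b
  have hrange : Set.range (phi p ∘ y) = B := by
    ext z
    constructor
    · rintro ⟨b, rfl⟩
      simp only [Function.comp_apply, hy]
      exact b.2
    · intro hz
      exact ⟨⟨z, hz⟩, by simp [hy]⟩
  have hpsupp : p ∉ Module.support A (M ⧸ Submodule.span A (Set.range y)) := by
    rw [← span_phi_eq_top_iff, hrange, hBtop]
  rw [Module.support_eq_zeroLocus, PrimeSpectrum.mem_zeroLocus, Set.not_subset] at hpsupp
  obtain ⟨f, hfann, hfp⟩ := hpsupp
  refine ⟨f, hfp, fun q hq hfq => ?_⟩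
  have hqsupp : q ∉ Module.support A (M ⧸ Submodule.span A (Set.range y)) := by
    rw [Module.support_eq_zeroLocus, PrimeSpectrum.mem_zeroLocus, Set.not_subset]
    exact ⟨f, hfann, hfq⟩
  rw [← span_phi_eq_top_iff] at hqsupp
  have hliq : LinearIndependent (Kp q) (phi q ∘ y) :=
    linearIndependent_of_top_le_span_of_card_eq_finrank hqsupp.ge (by rw [hcardB, hr q hq])
  have hliq₁ : LinearIndependent (Kp q) ((phi q ∘ y) ∘ (Set.inclusion hB₁B)) :=
    hliq.comp _ (Set.inclusion_injective hB₁B)
  have h2 := finrank_span_eq_card hliq₁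
  have h3 : Submodule.span (Kp q) (Set.range ((phi q ∘ y) ∘ (Set.inclusion hB₁B))) ≤
      Submodule.span (Kp q) (Set.range (phi q ∘ m)) := by
    apply Submodule.span_mono
    rintro _ ⟨b, rfl⟩
    refine ⟨σ b, ?_⟩
    have hb : ((Set.inclusion hB₁B b : B) : Kp p ⊗[A] M) ∈ B₁ := b.2
    simp only [Function.comp_apply, y, dif_pos hb]
  have h4 := Submodule.finrank_mono h3
  rw [h2] at h4
  exact hcardB₁.trans h4

/-- The primes of `X` where the rank of the family drops below `w` all lie over finitely many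
such primes. -/
lemma exists_finite_min_bad [IsNoetherianRing A] [Module.Finite A M] (X : Set (PrimeSpectrum A))
    (hXgen : ∀ p ∈ X, ∀ q : PrimeSpectrum A, q ≤ p → q ∈ X) (r : ℕ)
    (hr : ∀ q ∈ X, Module.finrank (Kp q) (Kp q ⊗[A] M) = r) {ι : Type*} (m : ι → M) (w : ℕ) :
    ∃ F : Set (PrimeSpectrum A), F.Finite ∧ ∀ p ∈ X, rk p m < w →
      ∃ q ∈ F, q ≤ p ∧ q ∈ X ∧ rk q m < w := by
  set I : Ideal A := Ideal.span {f | ∀ q ∈ X, f ∉ q.asIdeal → w ≤ rk q m} with hI
  refine ⟨{q | q.asIdeal ∈ I.minimalPrimes}, ?_, ?_⟩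
  · have := (Ideal.finite_minimalPrimes_of_isNoetherianRing A I).preimage
      (f := PrimeSpectrum.asIdeal) (fun a _ b _ h => PrimeSpectrum.ext h)
    exact this
  · intro p hp hlt
    have hIp : I ≤ p.asIdeal := by
      rw [hI, Ideal.span_le]
      intro f hf
      by_contra hfp
      exact absurd (hf p hp hfp) (not_le.mpr hlt)
    obtain ⟨q', hq'min, hq'p⟩ := Ideal.exists_minimalPrimes_le hIp
    have hq'prime : q'.IsPrime := hq'min.1.1
    let q : PrimeSpectrum A := ⟨q', hq'prime⟩
    have hqp : q ≤ p := hq'p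
    have hqX : q ∈ X := hXgen p hp q hqp
    refine ⟨q, hq'min, hqp, hqX, ?_⟩
    by_contra hcon
    rw [not_lt] at hcon
    obtain ⟨f, hfq, hf⟩ := rk_local_open X r hr m w q hqX hcon
    have : f ∈ I := Ideal.subset_span hf
    exact hfq (hq'min.1.2 this)

end Groth.Agent.Lib.Helper20.EE
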