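import Groth.Agent.Lib.Helper20.EE1

/-!
# Eisenbud–Evans basic elements, part 2: generic position and basic elements
-/

open TensorProduct

namespace Groth.Agent.Lib.Helper20.EE

universe u

variable {A : Type u} [CommRing A] {M : Type u} [AddCommGroup M] [Module A M]

/-- Shear the first `n` elements of a family by multiples of the last one. -/
def shear {n : ℕ} (m : Fin (n + 1) → M) (a : Fin n → A) : Fin n → M :=
  fun i => m i.castSucc + a i • m (Fin.last n)

lemma phi_smul (p : PrimeSpectrum A) (c : A) (x : M) :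
    phi p (c • x) = algebraMap A (Kp p) c • phi p x := by
  rw [map_smul, algebraMap_smul]

lemma phi_smul_of_mem (p : PrimeSpectrum A) {c : A} (hc : c ∈ p.asIdeal) (x : M) :
    phi p (c • x) = 0 := by
  rw [phi_smul, (Ideal.algebraMap_residueField_eq_zero).mpr hc, zero_smul]

lemma phi_shear_congr (p : PrimeSpectrum A) {n : ℕ} (m : Fin (n + 1) → M) (a a' : Fin n → A)
    (h : ∀ i, a i - a' i ∈ p.asIdeal) : phi p ∘ shear m a = phi p ∘ shear m a' := by
  funext i
  simp only [Function.comp_apply, shear, map_add]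
  congr 1
  rw [← sub_eq_zero, ← map_sub, ← sub_smul]
  exact phi_smul_of_mem p (h i) _

lemma rk_shear_congr (p : PrimeSpectrum A) {n : ℕ} (m : Fin (n + 1) → M) (a a' : Fin n → A)
    (h : ∀ i, a i - a' i ∈ p.asIdeal) : rk p (shear m a) = rk p (shear m a') := by
  unfold rk
  rw [phi_shear_congr p m a a' h]

lemma rk_le_rk_shear_add_one [Module.Finite A M] (p : PrimeSpectrum A) {n : ℕ}
    (m : Fin (n + 1) → M) (a : Fin n → A) : rk p m ≤ rk p (shear m a) + 1 := by
  unfold rk
  set U := Submodule.span (Kp p) (Set.range (phi p ∘ shear m a)) with hU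
  set v := phi p (m (Fin.last n)) with hv
  have hle : Submodule.span (Kp p) (Set.range (phi p ∘ m)) ≤ U ⊔ Submodule.span (Kp p) {v} := by
    rw [Submodule.span_le]
    rintro _ ⟨i, rfl⟩
    have hvmem : v ∈ U ⊔ Submodule.span (Kp p) {v} :=
      (le_sup_right : Submodule.span (Kp p) {v} ≤ _) (Submodule.mem_span_singleton_self v)
    refine Fin.lastCases ?_ (fun j => ?_) i
    · exact hvmem
    · have hu : phi p (shear m a j) ∈ U ⊔ Submodule.span (Kp p) {v} :=
        (le_sup_left : U ≤ _) (Submodule.subset_span ⟨j, rfl⟩)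
      have : (phi p ∘ m) j.castSucc = phi p (shear m a j) - algebraMap A (Kp p) (a j) • v := by
        simp only [Function.comp_apply, shear, map_add, phi_smul, hv]
        abel
      rw [SetLike.mem_coe, this]
      exact Submodule.sub_mem _ hu (Submodule.smul_mem _ _ hvmem)
  calc Module.finrank (Kp p) (Submodule.span (Kp p) (Set.range (phi p ∘ m)))
      ≤ Module.finrank (Kp p) ↥(U ⊔ Submodule.span (Kp p) {v}) := Submodule.finrank_mono hle
    _ ≤ Module.finrank (Kp p) U + Module.finrank (Kp p) (Submodule.span (Kp p) {v}) :=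
        Submodule.finrank_add_le_finrank_add_finrank _ _
    _ ≤ Module.finrank (Kp p) U + 1 := by
        gcongr
        have := finrank_span_le_card (R := Kp p) ({v} : Set (Kp p ⊗[A] M))
        simpa using this

lemma rk_shear_step [Module.Finite A M] (p : PrimeSpectrum A) {n : ℕ}
    (m : Fin (n + 1) → M) (a : Fin n → A) (hlt : rk p (shear m a) < n) {c : A}
    (hc : c ∉ p.asIdeal) : ∃ t, rk p m ≤ rk p (shear m (a + Pi.single t c)) := by
  classical
  have hdep : ¬ LinearIndependent (Kp p) (phi p ∘ shear m a) := by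
    intro hli
    have := finrank_span_eq_card hli
    unfold rk at hlt
    rw [this, Fintype.card_fin] at hlt
    exact lt_irrefl _ hlt
  rw [Fintype.not_linearIndependent_iff] at hdep
  obtain ⟨g, hg0, t, hgt⟩ := hdep
  refine ⟨t, ?_⟩
  set v := phi p (m (Fin.last n)) with hv
  set a' := a + Pi.single t c with ha'
  set U := Submodule.span (Kp p) (Set.range (phi p ∘ shear m a')) with hU
  have hu' : ∀ i, (phi p ∘ shear m a') i =
      (phi p ∘ shear m a) i + (if i = t then algebraMap A (Kp p) c • v else 0) := by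
    intro i
    simp only [Function.comp_apply, shear, ha', Pi.add_apply, add_smul, map_add, phi_smul, hv]
    by_cases hit : i = t
    · subst hit; simp [add_assoc]
    · simp [hit]
  have hsum : ∑ i, g i • (phi p ∘ shear m a') i = g t • (algebraMap A (Kp p) c • v) := by
    simp_rw [hu', smul_add, Finset.sum_add_distrib, hg0, zero_add, smul_ite, smul_zero]
    rw [Finset.sum_ite_eq' Finset.univ t]
    simp
  have hvU : v ∈ U := by
    have h1 : g t • (algebraMap A (Kp p) c • v) ∈ U := by
      rw [← hsum]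
      exact Submodule.sum_mem _ (fun i _ => Submodule.smul_mem _ _ (Submodule.subset_span ⟨i, rfl⟩))
    have hc' : algebraMap A (Kp p) c ≠ 0 := by
      rw [Ne, Ideal.algebraMap_residueField_eq_zero]; exact hc
    rw [smul_smul] at h1
    exact (Submodule.smul_mem_iff _ (mul_ne_zero hgt hc')).mp h1
  unfold rk
  apply Submodule.finrank_mono
  rw [Submodule.span_le]
  rintro _ ⟨i, rfl⟩
  refine Fin.lastCases ?_ (fun j => ?_) i
  · exact hvU
  · have hu : phi p (shear m a' j) ∈ U := Submodule.subset_span ⟨j, rfl⟩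
    have : (phi p ∘ m) j.castSucc = phi p (shear m a' j) - algebraMap A (Kp p) (a' j) • v := by
      simp only [Function.comp_apply, shear, map_add, phi_smul, hv]
      abel
    rw [SetLike.mem_coe, this]
    exact Submodule.sub_mem _ hu (Submodule.smul_mem _ _ hvU)

/-- Prime avoidance over a finite set of primes, processed from minimal primes up. -/
lemma avoid {n : ℕ} (E : Finset (PrimeSpectrum A)) (C : PrimeSpectrum A → (Fin n → A) → Prop)
    (hcongr : ∀ p ∈ E, ∀ a a' : Fin n → A, (∀ i, a i - a' i ∈ p.asIdeal) → C p a → C p a')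
    (hstep : ∀ p ∈ E, ∀ a : Fin n → A, ∀ c : A, c ∉ p.asIdeal →
      C p a ∨ ∃ t, C p (a + Pi.single t c)) :
    ∃ a : Fin n → A, ∀ p ∈ E, C p a := by
  classical
  induction E using Finset.strongInduction with
  | H E ih =>
    rcases E.eq_empty_or_nonempty with hE | hE
    · exact ⟨0, by simp [hE]⟩
    obtain ⟨p, hpmin⟩ := E.exists_minimal hE
    have hpE : p ∈ E := hpmin.1
    obtain ⟨a, ha⟩ := ih (E.erase p) (Finset.erase_ssubset hpE)
      (fun q hq => hcongr q (Finset.mem_of_mem_erase hq))
      (fun q hq => hstep q (Finset.mem_of_mem_erase hq))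
    -- an element of all other primes, outside p
    have hex : ∀ q ∈ E.erase p, ∃ c : A, c ∈ q.asIdeal ∧ c ∉ p.asIdeal := by
      intro q hq
      have hqE := Finset.mem_of_mem_erase hq
      have hne : q ≠ p := Finset.ne_of_mem_erase hq
      have hnle : ¬ q ≤ p := fun hle => hne (le_antisymm hle (hpmin.2 hqE hle))
      exact Set.not_subset.mp hnle
    choose! cq hcq using hex
    set c := ∏ q ∈ E.erase p, cq q with hc
    have hcp : c ∉ p.asIdeal := by
      rw [hc, Ideal.IsPrime.prod_mem_iff]
      push Not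
      exact fun q hq => (hcq q hq).2
    have hcmem : ∀ q ∈ E.erase p, c ∈ q.asIdeal := by
      intro q hq
      rw [hc, ← Finset.mul_prod_erase _ _ hq]
      exact Ideal.mul_mem_right _ _ (hcq q hq).1
    rcases hstep p hpE a c hcp with h | ⟨t, h⟩
    · refine ⟨a, fun q hq => ?_⟩
      by_cases hqp : q = p
      · rw [hqp]; exact h
      · exact ha q (Finset.mem_erase.mpr ⟨hqp, hq⟩)
    · refine ⟨a + Pi.single t c, fun q hq => ?_⟩
      by_cases hqp : q = p
      · rw [hqp]; exact h
      · have hq' : q ∈ E.erase p := Finset.mem_erase.mpr ⟨hqp, hq⟩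
        refine hcongr q hq a _ (fun i => ?_) (ha q hq')
        simp only [Pi.add_apply, sub_add_cancel_left]
        by_cases hit : i = t
        · subst hit; simpa using hcmem q hq'
        · simp [hit]

section generic

variable [IsNoetherianRing A] [Module.Finite A M] (X : Set (PrimeSpectrum A))
  (hXgen : ∀ p ∈ X, ∀ q : PrimeSpectrum A, q ≤ p → q ∈ X) (d : PrimeSpectrum A → ℕ)
  (hd : ∀ p ∈ X, ∀ q : PrimeSpectrum A, q < p → d p + 1 ≤ d q) (r : ℕ)
  (hr : ∀ q ∈ X, Module.finrank (Kp q) (Kp q ⊗[A] M) = r)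

include hXgen hd hr in
lemma generic_position {n : ℕ} (m : Fin (n + 1) → M)
    (H : ∀ p ∈ X, min (n + 1) (d p + 1) ≤ rk p m) :
    ∃ a : Fin n → A, ∀ p ∈ X, min n (d p + 1) ≤ rk p (shear m a) := by
  classical
  choose F hFfin hF using fun w : ℕ => exists_finite_min_bad X hXgen r hr m w
  set E : Set (PrimeSpectrum A) := {p | p ∈ X ∧ rk p m < min (n + 1) (d p + 2)} with hE
  have hEsub : E ⊆ ⋃ w ∈ Finset.range (n + 2), F w := by
    rintro p ⟨hpX, hplt⟩
    obtain ⟨q, hqF, hqp, hqX, hqlt⟩ := hF (min (n + 1) (d p + 2)) p hpX hplt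
    have hqeq : q = p := by
      by_contra hne
      have hlt : q < p := lt_of_le_of_ne hqp hne
      have h1 := hd p hpX q hlt
      have h2 := H q hqX
      omega
    simp only [Set.mem_iUnion, Finset.mem_range]
    exact ⟨min (n + 1) (d p + 2), by omega, hqeq ▸ hqF⟩
  have hEfin : E.Finite :=
    (Set.Finite.biUnion (Finset.finite_toSet _) (fun w _ => hFfin w)).subset hEsub
  obtain ⟨a, ha⟩ := avoid hEfin.toFinset (fun p a => min n (rk p m) ≤ rk p (shear m a))
    (fun p _ a a' h hC => by rw [← rk_shear_congr p m a a' h]; exact hC)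
    (fun p _ a c hc => by
      by_cases hC : min n (rk p m) ≤ rk p (shear m a)
      · exact Or.inl hC
      · right
        rw [not_le] at hC
        obtain ⟨t, ht⟩ := rk_shear_step p m a (lt_of_lt_of_le hC (min_le_left _ _)) hc
        exact ⟨t, le_trans (min_le_right _ _) ht⟩)
  refine ⟨a, fun p hpX => ?_⟩
  by_cases hpE : p ∈ E
  · have h1 := ha p (hEfin.mem_toFinset.mpr hpE)
    have h2 := H p hpX
    omega
  · have h1 : ¬ rk p m < min (n + 1) (d p + 2) := fun h => hpE ⟨hpX, h⟩
    have h2 := rk_le_rk_shear_add_one p m a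
    omega

include hXgen hd hr in
lemma exists_basic_of_family {n : ℕ} (m : Fin (n + 1) → M)
    (H : ∀ p ∈ X, min (n + 1) (d p + 1) ≤ rk p m) :
    ∃ x : M, ∀ p ∈ X, 1 ≤ rk p (fun _ : Fin 1 => x) := by
  induction n with
  | zero =>
    refine ⟨m 0, fun p hp => ?_⟩
    have h := H p hp
    have hm : m = fun _ : Fin 1 => m 0 := by
      funext i; rw [Fin.fin_one_eq_zero i]
    rw [← hm]
    omega
  | succ n ih =>
    obtain ⟨a, ha⟩ := generic_position X hXgen d hd r hr m H
    exact ih (shear m a) ha

omit [IsNoetherianRing A] [Module.Finite A M] in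
lemma phi_ne_zero_of_rk (p : PrimeSpectrum A) (x : M)
    (h : 1 ≤ rk p (fun _ : Fin 1 => x)) : phi p x ≠ 0 := by
  intro h0
  unfold rk at h
  have : Set.range (phi p ∘ fun _ : Fin 1 => x) = {0} := by
    ext z; simp [h0, eq_comm]
  rw [this, Submodule.span_zero_singleton, finrank_bot] at h
  exact absurd h (by norm_num)

include hXgen hd hr in
/-- Existence of an element of `M` which is nonzero in every fibre over `X`. -/
theorem exists_basic_element (hdr : ∀ p ∈ X, d p + 1 ≤ r) :
    ∃ x : M, ∀ p ∈ X, phi p x ≠ 0 := by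
  obtain ⟨n, s, hs⟩ := Module.Finite.exists_fin (R := A) (M := M)
  let g : Fin (n + 1) → M := Fin.cons 0 s
  have hg : Submodule.span A (Set.range g) = ⊤ := by
    rw [eq_top_iff, ← hs]
    apply Submodule.span_mono
    rintro _ ⟨i, rfl⟩
    exact ⟨i.succ, by simp [g]⟩
  have hrk : ∀ p ∈ X, rk p g = r := by
    intro p hp
    unfold rk
    have : Submodule.span (Kp p) (Set.range (phi p ∘ g)) = ⊤ := by
      rw [eq_top_iff, ← span_range_phi_eq_top p, Submodule.span_le]
      rintro _ ⟨x, rfl⟩
      exact phi_mem_span_of_mem p g (by rw [hg]; trivial)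
    rw [this, finrank_top, hr p hp]
  obtain ⟨x, hx⟩ := exists_basic_of_family X hXgen d hd r hr g (fun p hp => by
    rw [hrk p hp]
    exact le_trans (min_le_right _ _) (hdr p hp))
  exact ⟨x, fun p hp => phi_ne_zero_of_rk p x (hx p hp)⟩

end generic

end Groth.Agent.Lib.Helper20.EE
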