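import Groth.Agent.Lib.Helper20.EE2

/-!
# Eisenbud–Evans basic elements, part 3: splitting off free submodules
-/

open TensorProduct

namespace Groth.Agent.Lib.Helper20.EE

universe u

variable {A : Type u} [CommRing A] {M : Type u} [AddCommGroup M] [Module A M]

/-- Localising a linear equivalence. -/
noncomputable def locCongr (S : Submonoid A) {Q Q' : Type u} [AddCommGroup Q] [Module A Q]
    [AddCommGroup Q'] [Module A Q'] (f : Q ≃ₗ[A] Q') :
    LocalizedModule S Q ≃ₗ[Localization S] LocalizedModule S Q' :=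
  (IsLocalizedModule.linearEquiv S (LocalizedModule.mkLinearMap S Q)
    ((LocalizedModule.mkLinearMap S Q') ∘ₗ f.toLinearMap)).extendScalarsOfIsLocalization S
      (Localization S)

/-- A coordinate of a basic element is a unit. -/
lemma exists_isUnit_coord (p : PrimeSpectrum A) {r : ℕ}
    (e : LocalizedModule p.asIdeal.primeCompl M ≃ₗ[Localization.AtPrime p.asIdeal]
      (Fin r → Localization.AtPrime p.asIdeal)) (x : M) (hx : phi p x ≠ 0) :
    ∃ j, IsUnit (e (LocalizedModule.mkLinearMap p.asIdeal.primeCompl M x) j) := by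
  have h1 : fibEquiv p e (phi p x) ≠ 0 := by
    rwa [Ne, LinearEquiv.map_eq_zero_iff]
  obtain ⟨j, hj⟩ := Function.ne_iff.mp h1
  refine ⟨j, ?_⟩
  rw [fibEquiv_phi, Pi.zero_apply, IsLocalRing.ResidueField.algebraMap_eq, Ne,
    IsLocalRing.residue_eq_zero_iff] at hj
  exact IsLocalRing.notMem_maximalIdeal.mp hj

/-- Quotient of a free module by a vector with a unit coordinate. -/
lemma nonempty_quot_equiv {R : Type*} [CommRing R] {s : ℕ} (x : Fin (s + 1) → R) (j : Fin (s + 1))
    (hu : IsUnit (x j)) :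
    Nonempty (((Fin (s + 1) → R) ⧸ Submodule.span R {x}) ≃ₗ[R] (Fin s → R)) := by
  obtain ⟨u, hu⟩ := hu
  let g : (Fin (s + 1) → R) →ₗ[R] (Fin s → R) :=
    LinearMap.pi (fun i => LinearMap.proj (j.succAbove i) -
      (x (j.succAbove i) * ↑u⁻¹) • LinearMap.proj j)
  have hg : ∀ y i, g y i = y (j.succAbove i) - x (j.succAbove i) * ↑u⁻¹ * y j := by
    intro y i
    simp [g]
  have hsurj : Function.Surjective g := by
    intro z
    refine ⟨j.insertNth 0 z, ?_⟩
    funext i
    rw [hg]
    simp
  have hker : LinearMap.ker g = Submodule.span R {x} := by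
    apply le_antisymm
    · intro y hy
      rw [LinearMap.mem_ker] at hy
      rw [Submodule.mem_span_singleton]
      refine ⟨↑u⁻¹ * y j, ?_⟩
      funext i
      refine Fin.succAboveCases j ?_ (fun i => ?_) i
      · simp only [Pi.smul_apply, smul_eq_mul, ← hu]
        rw [mul_comm (↑u⁻¹ : R), mul_assoc, Units.inv_mul, mul_one]
      · have := congrFun hy i
        rw [hg, Pi.zero_apply, sub_eq_zero] at this
        rw [this]
        simp only [Pi.smul_apply, smul_eq_mul]
        ring
    · rw [Submodule.span_le, Set.singleton_subset_iff, SetLike.mem_coe, LinearMap.mem_ker]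
      funext i
      rw [hg, Pi.zero_apply, ← hu, mul_assoc, Units.inv_mul, mul_one, sub_self]
  exact ⟨(Submodule.quotEquivOfEq _ _ hker.symm).trans (g.quotKerEquivOfSurjective hsurj)⟩

/-- The quotient by a basic element is locally free of rank one less. -/
lemma nonempty_loc_quot_equiv (p : PrimeSpectrum A) {s : ℕ}
    (e : LocalizedModule p.asIdeal.primeCompl M ≃ₗ[Localization.AtPrime p.asIdeal]
      (Fin (s + 1) → Localization.AtPrime p.asIdeal)) (x : M) (hx : phi p x ≠ 0) :
    Nonempty (LocalizedModule p.asIdeal.primeCompl (M ⧸ Submodule.span A {x}) ≃ₗ[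
      Localization.AtPrime p.asIdeal] (Fin s → Localization.AtPrime p.asIdeal)) := by
  obtain ⟨j, hj⟩ := exists_isUnit_coord p e x hx
  obtain ⟨e₂⟩ := nonempty_quot_equiv _ j hj
  have e₀ := (localizedQuotientEquiv p.asIdeal.primeCompl (Submodule.span A {x})).symm
  have hloc : (Submodule.span A {x}).localized p.asIdeal.primeCompl =
      Submodule.span (Localization.AtPrime p.asIdeal)
        {LocalizedModule.mkLinearMap p.asIdeal.primeCompl M x} := by
    rw [Submodule.localized, Submodule.localized'_span, Set.image_singleton]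
  have e₁ : (LocalizedModule p.asIdeal.primeCompl M ⧸
      (Submodule.span A {x}).localized p.asIdeal.primeCompl) ≃ₗ[Localization.AtPrime p.asIdeal]
      ((Fin (s + 1) → Localization.AtPrime p.asIdeal) ⧸
        Submodule.span (Localization.AtPrime p.asIdeal)
          {e (LocalizedModule.mkLinearMap p.asIdeal.primeCompl M x)}) :=
    Submodule.Quotient.equiv _ _ e (by
      rw [hloc, Submodule.map_span, Set.image_singleton]; rfl)
  exact ⟨e₀.trans (e₁.trans e₂)⟩

/-- A basic element on a locus containing the associated primes has zero annihilator. -/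
lemma smul_eq_zero_of_basic [IsNoetherianRing A] (X : Set (PrimeSpectrum A)) {r : ℕ}
    (hAss : ∀ P (hP : P ∈ associatedPrimes A A), (⟨P, hP.isPrime⟩ : PrimeSpectrum A) ∈ X)
    (hM : ∀ p ∈ X, Nonempty (LocalizedModule p.asIdeal.primeCompl M ≃ₗ[
      Localization.AtPrime p.asIdeal] (Fin r → Localization.AtPrime p.asIdeal)))
    (x : M) (hx : ∀ p ∈ X, phi p x ≠ 0) (a : A) (ha : a • x = 0) : a = 0 := by
  by_contra hne
  obtain ⟨P, hP, hle⟩ := exists_le_isAssociatedPrime_of_isNoetherianRing A a hne
  have hPmem : P ∈ associatedPrimes A A := hP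
  obtain ⟨p, hpP, hpX⟩ : ∃ p : PrimeSpectrum A, p.asIdeal = P ∧ p ∈ X :=
    ⟨⟨P, hP.isPrime⟩, rfl, hAss P hPmem⟩
  obtain ⟨e⟩ := hM p hpX
  obtain ⟨j, hj⟩ := exists_isUnit_coord p e x (hx p hpX)
  have h1 : a • e (LocalizedModule.mkLinearMap p.asIdeal.primeCompl M x) = 0 := by
    rw [← algebraMap_smul (Localization.AtPrime p.asIdeal) a, ← map_smul, algebraMap_smul,
      ← LinearMap.map_smul, ha, map_zero, map_zero]
  have h2 := congrFun h1 j
  rw [Pi.smul_apply, Pi.zero_apply, Algebra.smul_def] at h2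
  have h3 : algebraMap A (Localization.AtPrime p.asIdeal) a = 0 :=
    (hj.mul_left_eq_zero).mp h2
  rw [IsLocalization.map_eq_zero_iff p.asIdeal.primeCompl] at h3
  obtain ⟨c, hc⟩ := h3
  have : (c : A) ∈ (⊥ : Submodule A A).colon {a} := by
    rw [Submodule.mem_colon]
    intro y hy
    rw [Set.mem_singleton_iff] at hy
    rw [hy, Submodule.mem_bot, smul_eq_mul]
    exact hc
  have hcP : (c : A) ∈ P := hle this
  rw [← hpP] at hcP
  exact c.2 hcP

/-- Splicing a free submodule of the quotient by a torsion-free element. -/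
lemma nonempty_comap_equiv (x : M) (hx : ∀ a : A, a • x = 0 → a = 0)
    (S : Submodule A M) (hS : S = Submodule.span A {x})
    (N' : Submodule A (M ⧸ S)) {d : ℕ} (e' : N' ≃ₗ[A] (Fin d → A)) :
    Nonempty ((N'.comap S.mkQ) ≃ₗ[A] (Fin (d + 1) → A)) := by
  classical
  let B : Module.Basis (Fin d) A N' := Module.Basis.ofEquivFun e'
  have hn : ∀ i, ∃ n : M, S.mkQ n = (B i : M ⧸ S) := fun i => S.mkQ_surjective _
  choose n hn using hn
  let v : Fin (d + 1) → M := Fin.cons x n
  let Λ : (Fin (d + 1) → A) →ₗ[A] M := Fintype.linearCombination A v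
  have hΛ : ∀ f, Λ f = f 0 • x + ∑ i, f i.succ • n i := by
    intro f
    simp only [Λ, Fintype.linearCombination_apply, Fin.sum_univ_succ, v, Fin.cons_zero,
      Fin.cons_succ]
  have hxS : S.mkQ x = 0 := by
    rw [Submodule.mkQ_apply, Submodule.Quotient.mk_eq_zero, hS]
    exact Submodule.mem_span_singleton_self x
  have hπΛ : ∀ f, S.mkQ (Λ f) = ((∑ i, f i.succ • B i : N') : M ⧸ S) := by
    intro f
    rw [hΛ, map_add, map_smul, hxS, smul_zero, zero_add, map_sum,
      AddSubmonoidClass.coe_finsetSum]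
    refine Finset.sum_congr rfl (fun i _ => ?_)
    rw [map_smul, hn, Submodule.coe_smul]
  have hrange : LinearMap.range Λ = N'.comap S.mkQ := by
    apply le_antisymm
    · rintro _ ⟨f, rfl⟩
      rw [Submodule.mem_comap, hπΛ]
      exact Submodule.coe_mem _
    · intro y hy
      rw [Submodule.mem_comap] at hy
      set c := B.equivFun ⟨S.mkQ y, hy⟩ with hc
      have h1 : (∑ i, c i • B i : N') = ⟨S.mkQ y, hy⟩ := B.sum_equivFun _
      have h2 : S.mkQ (y - ∑ i, c i • n i) = 0 := by
        rw [map_sub, sub_eq_zero]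
        have := congrArg (Subtype.val) h1
        simp only [AddSubmonoidClass.coe_finsetSum, Submodule.coe_smul] at this
        rw [← this, map_sum]
        refine Finset.sum_congr rfl (fun i _ => ?_)
        rw [map_smul, hn]
      rw [Submodule.mkQ_apply, Submodule.Quotient.mk_eq_zero, hS,
        Submodule.mem_span_singleton] at h2
      obtain ⟨c₀, hc₀⟩ := h2
      refine ⟨Fin.cons c₀ c, ?_⟩
      rw [hΛ]
      simp only [Fin.cons_zero, Fin.cons_succ]
      rw [hc₀]
      abel
  have hinj : Function.Injective Λ := by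
    rw [injective_iff_map_eq_zero]
    intro f hf
    have h1 := hπΛ f
    rw [hf, map_zero] at h1
    have h2 : (∑ i, f i.succ • B i : N') = 0 := Subtype.ext h1.symm
    have h3 := Fintype.linearIndependent_iff.mp B.linearIndependent _ h2
    have h4 : f 0 = 0 := by
      apply hx
      have := hΛ f
      rw [hf] at this
      simp only [h3, zero_smul, Finset.sum_const_zero, add_zero] at this
      exact this.symm
    funext i
    refine Fin.cases h4 (fun i => h3 i) i
  exact ⟨((LinearEquiv.ofInjective Λ hinj).trans (LinearEquiv.ofEq _ _ hrange)).symm⟩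

lemma d_lt {a b : ℕ∞} {k : ℕ} (h1 : b + 1 ≤ a) (h2 : a ≤ k) :
    k - a.toNat + 1 ≤ k - b.toNat := by
  have ha : a ≠ ⊤ := ne_top_of_le_ne_top (ENat.natCast_ne_top k) h2
  have hb : b ≠ ⊤ := ne_top_of_le_ne_top ha (le_trans le_self_add h1)
  lift a to ℕ using ha
  lift b to ℕ using hb
  simp only [ENat.toNat_natCast]
  norm_cast at h1 h2
  omega

theorem main (A : Type u) [CommRing A] [IsNoetherianRing A] (k : ℕ)
    (hAss : ∀ p ∈ associatedPrimes A A, p.height ≤ k) :
    ∀ (dd : ℕ) (M : Type u) [AddCommGroup M] [Module A M] [Module.Finite A M] (r : ℕ)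
      (_ : k ≤ r) (_ : r - k = dd)
      (_ : ∀ p : PrimeSpectrum A, p.asIdeal.height ≤ k →
        Nonempty (LocalizedModule p.asIdeal.primeCompl M ≃ₗ[Localization.AtPrime p.asIdeal]
          (Fin r → Localization.AtPrime p.asIdeal))),
      ∃ N : Submodule A M, Nonempty (N ≃ₗ[A] (Fin (r - k) → A)) ∧
        ∀ p : PrimeSpectrum A, p.asIdeal.height ≤ k →
          Nonempty (LocalizedModule p.asIdeal.primeCompl (M ⧸ N) ≃ₗ[Localization.AtPrime p.asIdeal]
            (Fin k → Localization.AtPrime p.asIdeal)) := by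
  intro dd
  induction dd with
  | zero =>
    intro M _ _ _ r hkr hdd hM
    have hrk : r = k := by omega
    subst hrk
    refine ⟨⊥, ?_, fun p hp => ?_⟩
    · rw [Nat.sub_self]
      exact ⟨LinearEquiv.ofSubsingleton _ _⟩
    · obtain ⟨e⟩ := hM p hp
      exact ⟨(locCongr p.asIdeal.primeCompl (Submodule.quotEquivOfEqBot ⊥ rfl)).trans e⟩
  | succ dd ih =>
    intro M _ _ _ r hkr hdd hM
    obtain ⟨s, rfl⟩ : ∃ s, r = s + 1 := ⟨r - 1, by omega⟩
    set X : Set (PrimeSpectrum A) := {p | p.asIdeal.height ≤ k} with hX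
    have hXgen : ∀ p ∈ X, ∀ q : PrimeSpectrum A, q ≤ p → q ∈ X := by
      intro p hp q hqp
      exact le_trans (Ideal.height_mono hqp) hp
    have hd : ∀ p ∈ X, ∀ q : PrimeSpectrum A, q < p →
        (k - p.asIdeal.height.toNat) + 1 ≤ k - q.asIdeal.height.toNat := by
      intro p hp q hqp
      have hlt : q.asIdeal < p.asIdeal := hqp
      exact d_lt (Ideal.height_add_one_le_of_lt_of_isPrime hlt) hp
    have hr : ∀ q ∈ X, Module.finrank (Kp q) (Kp q ⊗[A] M) = s + 1 := by
      intro q hq
      obtain ⟨e⟩ := hM q hq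
      exact finrank_fib q e
    obtain ⟨x, hx⟩ := exists_basic_element X hXgen (fun p => k - p.asIdeal.height.toNat) hd
      (s + 1) hr (fun p _ => by
        have : k - p.asIdeal.height.toNat ≤ k := Nat.sub_le _ _
        omega)
    have hann : ∀ a : A, a • x = 0 → a = 0 :=
      smul_eq_zero_of_basic X (fun P hP => hAss P hP) hM x hx
    have hM₁ : ∀ p : PrimeSpectrum A, p.asIdeal.height ≤ k →
        Nonempty (LocalizedModule p.asIdeal.primeCompl (M ⧸ Submodule.span A {x}) ≃ₗ[
          Localization.AtPrime p.asIdeal] (Fin s → Localization.AtPrime p.asIdeal)) := by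
      intro p hp
      obtain ⟨e⟩ := hM p hp
      exact nonempty_loc_quot_equiv p e x (hx p hp)
    obtain ⟨N', ⟨e'⟩, hN'⟩ := ih (M ⧸ Submodule.span A {x}) s (by omega) (by omega) hM₁
    refine ⟨N'.comap (Submodule.span A {x}).mkQ, ?_, fun p hp => ?_⟩
    · have hsk : s + 1 - k = (s - k) + 1 := by omega
      rw [hsk]
      exact nonempty_comap_equiv x hann _ rfl N' e'
    · obtain ⟨e₂⟩ := hN' p hp
      have hle : Submodule.span A {x} ≤ N'.comap (Submodule.span A {x}).mkQ := by
        intro y hy
        rw [Submodule.mem_comap, Submodule.mkQ_apply,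
          (Submodule.Quotient.mk_eq_zero _).mpr hy]
        exact Submodule.zero_mem _
      have hmap : (N'.comap (Submodule.span A {x}).mkQ).map (Submodule.span A {x}).mkQ = N' :=
        Submodule.map_comap_eq_of_surjective (Submodule.mkQ_surjective _) _
      have e₀ : (M ⧸ N'.comap (Submodule.span A {x}).mkQ) ≃ₗ[A]
          ((M ⧸ Submodule.span A {x}) ⧸ N') :=
        (Submodule.quotientQuotientEquivQuotient _ _ hle).symm.trans
          (Submodule.quotEquivOfEq _ _ hmap)
      exact ⟨(locCongr p.asIdeal.primeCompl e₀).trans e₂⟩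

end Groth.Agent.Lib.Helper20.EE
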