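import Mathlib

/-!
# The Eakin–Nagata theorem (Formanek's proof)  (helper20)

* `EakinNagata.isNoetherian_of_acc` : a finitely generated `B`-module `M` such that the
  submodules `I • ⊤` satisfy ACC is Noetherian.
* `EakinNagata.isNoetherianRing_of_finite` : if `B → A` is injective, `A` is a Noetherian ring and
  a finite `B`-module, then `B` is Noetherian.
-/

set_option autoImplicit false

namespace Groth.Agent.Lib.Helper20.EakinNagata

open Submodule

variable {B : Type*} [CommRing B]

section lemmaB

variable {M : Type*} [AddCommGroup M] [Module B M]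

/-- If `M / N₀` is Noetherian and `M`, `M / N₀` have the same annihilator, `M` finitely
generated, then `M` is Noetherian. -/
theorem isNoetherian_of_quotient (s : Finset M) (hs : span B (s : Set M) = ⊤) (N₀ : Submodule B M)
    [IsNoetherian B (M ⧸ N₀)]
    (hN₀ : ∀ a : B, (∀ m : M, a • m ∈ N₀) → ∀ m : M, a • m = 0) : IsNoetherian B M := by
  classical
  -- ψ : B → (s → M/N₀)
  let ψ : B →ₗ[B] (s → M ⧸ N₀) :=
    LinearMap.pi fun g => (N₀.mkQ).comp (LinearMap.toSpanSingleton B M g.1)
  have hker : ∀ b ∈ LinearMap.ker ψ, ∀ m : M, b • m = 0 := by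
    intro b hb
    apply hN₀
    have hb' : ∀ g : s, b • (g : M) ∈ N₀ := by
      intro g
      have := congrFun (LinearMap.mem_ker.mp hb) g
      simp only [ψ, LinearMap.pi_apply, LinearMap.comp_apply, LinearMap.toSpanSingleton_apply,
        Submodule.mkQ_apply, Pi.zero_apply] at this
      exact (Submodule.Quotient.mk_eq_zero N₀).mp this
    intro m
    have hm : m ∈ span B (s : Set M) := hs ▸ mem_top
    refine Submodule.span_induction (p := fun x _ => b • x ∈ N₀) ?_ ?_ ?_ ?_ hm
    · intro x hx; exact hb' ⟨x, hx⟩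
    · simp
    · intro x y _ _ hx hy; rw [smul_add]; exact N₀.add_mem hx hy
    · intro c x _ hx; rw [smul_comm]; exact N₀.smul_mem c hx
  have h1 : IsNoetherian B (B ⧸ LinearMap.ker ψ) :=
    isNoetherian_of_linearEquiv (LinearMap.quotKerEquivRange ψ).symm
  -- the maps ℓ_g
  let ℓ : s → ((B ⧸ LinearMap.ker ψ) →ₗ[B] M) := fun g =>
    (LinearMap.ker ψ).liftQ (LinearMap.toSpanSingleton B M g.1) (by
      intro b hb
      rw [LinearMap.mem_ker, LinearMap.toSpanSingleton_apply]
      exact hker b hb _)
  let Φ : (s → B ⧸ LinearMap.ker ψ) →ₗ[B] M := LinearMap.lsum B (fun _ : s => B ⧸ LinearMap.ker ψ) B ℓ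
  have hΦ : LinearMap.range Φ = ⊤ := by
    rw [eq_top_iff, ← hs, span_le]
    intro g hg
    refine ⟨Pi.single ⟨g, hg⟩ (Submodule.Quotient.mk 1), ?_⟩
    simp only [Φ, LinearMap.lsum_apply, LinearMap.sum_apply, LinearMap.comp_apply,
      LinearMap.proj_apply]
    rw [Finset.sum_eq_single ⟨g, hg⟩]
    · rw [Pi.single_eq_same]
      exact (Submodule.liftQ_apply _ _ _).trans (by simp [LinearMap.toSpanSingleton_apply])
    · intro g' _ hne
      rw [Pi.single_eq_of_ne hne]; simp
    · intro h; exact absurd (Finset.mem_univ _) h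
  exact isNoetherian_of_surjective Φ hΦ

/-- **Lemma B**: if `M` is finitely generated and `M / aM` is Noetherian whenever `aM ≠ 0`, then
`M` is Noetherian. -/
theorem isNoetherian_of_forall_quotient [Module.Finite B M]
    (h : ∀ a : B, (∃ m : M, a • m ≠ 0) →
      IsNoetherian B (M ⧸ (Ideal.span {a} • (⊤ : Submodule B M)))) : IsNoetherian B M := by
  classical
  obtain ⟨s, hs⟩ := (Module.finite_def (R := B) (M := M)).mp inferInstance
  -- the set Γ
  let Γ : Set (Submodule B M) := {N | ∀ a : B, (∀ m : M, a • m ∈ N) → ∀ m : M, a • m = 0}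
  have hbot : (⊥ : Submodule B M) ∈ Γ := fun a ha m => by simpa using ha m
  have key : ∀ (N : Submodule B M) (a : B), (∀ g ∈ s, a • g ∈ N) → ∀ m : M, a • m ∈ N := by
    intro N a hg m
    have hm : m ∈ span B (s : Set M) := hs ▸ mem_top
    refine Submodule.span_induction (p := fun x _ => a • x ∈ N) ?_ ?_ ?_ ?_ hm
    · intro x hx; exact hg x hx
    · simp
    · intro x y _ _ hx hy; rw [smul_add]; exact N.add_mem hx hy
    · intro c x _ hx; rw [smul_comm]; exact N.smul_mem c hx
  obtain ⟨N₀, -, hN₀max⟩ := zorn_le_nonempty₀ Γ (by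
    intro c hcΓ hc y hy
    refine ⟨sSup c, ?_, fun z hz => le_sSup hz⟩
    intro a ha
    have hdir : DirectedOn (· ≤ ·) c := hc.directedOn
    have hne : c.Nonempty := ⟨y, hy⟩
    -- find a common member for the generators
    have : ∀ t : Finset M, t ⊆ s → ∃ N ∈ c, ∀ g ∈ t, a • g ∈ N := by
      intro t
      induction t using Finset.induction_on with
      | empty => intro _; exact ⟨y, hy, by simp⟩
      | insert g t hgt ih =>
        intro hts
        obtain ⟨N, hN, hNt⟩ := ih (fun x hx => hts (Finset.mem_insert_of_mem hx))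
        obtain ⟨N', hN', hgN'⟩ := (Submodule.mem_sSup_of_directed hne hdir).mp (ha g)
        obtain ⟨N'', hN'', h1, h2⟩ := hdir N hN N' hN'
        refine ⟨N'', hN'', ?_⟩
        intro x hx
        rcases Finset.mem_insert.mp hx with rfl | hx
        · exact h2 hgN'
        · exact h1 (hNt x hx)
    obtain ⟨N, hN, hNs⟩ := this s (Finset.Subset.refl _)
    exact hcΓ hN a (key N a hNs)) ⊥ hbot
  have hN₀Γ : N₀ ∈ Γ := hN₀max.1
  -- M / N₀ is Noetherian
  have hquot : IsNoetherian B (M ⧸ N₀) := by
    rw [isNoetherian_def]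
    intro S
    set N' : Submodule B M := S.comap N₀.mkQ with hN'
    have hS : S = N'.map N₀.mkQ := by
      rw [hN', Submodule.map_comap_eq_of_surjective (Submodule.mkQ_surjective N₀)]
    have hle : N₀ ≤ N' := by
      intro x hx
      rw [hN', Submodule.mem_comap, Submodule.mkQ_apply, (Submodule.Quotient.mk_eq_zero N₀).mpr hx]
      exact S.zero_mem
    by_cases hΓ : N' ∈ Γ
    · have : N' = N₀ := le_antisymm (hN₀max.2 hΓ hle) hle
      rw [hS, this]
      have : N₀.map N₀.mkQ = ⊥ := by
        exact Submodule.mkQ_map_self N₀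
      rw [this]
      exact Submodule.fg_bot
    · -- N' ∉ Γ
      simp only [Γ, Set.mem_ofPred_eq, not_forall] at hΓ
      obtain ⟨a, haN', m₀, hm₀⟩ := hΓ
      have hnoeth := h a ⟨m₀, hm₀⟩
      set K : Submodule B M := Ideal.span {a} • (⊤ : Submodule B M) with hK
      have hKle : K ≤ N' := by
        rw [hK, Submodule.smul_le]
        intro r hr n _
        obtain ⟨c, rfl⟩ := Ideal.mem_span_singleton'.mp hr
        rw [mul_smul]
        exact N'.smul_mem c (haN' n)
      have hKfg : K.FG := by
        have : K = (⊤ : Submodule B M).map (LinearMap.lsmul B M a) := by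
          rw [hK, Submodule.ideal_span_singleton_smul]
          rfl
        rw [this]
        exact Submodule.FG.map _ (Module.finite_def.mp inferInstance)
      have hN'fg : N'.FG := by
        refine Submodule.fg_of_fg_map_of_fg_inf_ker K.mkQ ?_ ?_
        · exact IsNoetherian.noetherian _
        · rw [Submodule.ker_mkQ, inf_eq_right.mpr hKle]; exact hKfg
      rw [hS]
      exact Submodule.FG.map _ hN'fg
  exact isNoetherian_of_quotient s hs N₀ hN₀Γ

end lemmaB

section main

variable {M : Type*} [AddCommGroup M] [Module B M]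

/-- **Formanek's theorem.**  A finitely generated module on which the submodules `I • ⊤`
satisfy the ascending chain condition is Noetherian. -/
theorem isNoetherian_of_acc [Module.Finite B M]
    (hacc : WellFoundedGT {N : Submodule B M // ∃ I : Ideal B, N = I • (⊤ : Submodule B M)}) :
    IsNoetherian B M := by
  classical
  by_contra hM
  let S : Set {N : Submodule B M // ∃ I : Ideal B, N = I • (⊤ : Submodule B M)} :=
    {N | ¬ IsNoetherian B (M ⧸ N.1)}
  have hne : S.Nonempty := by
    refine ⟨⟨⊥, ⊥, by simp⟩, ?_⟩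
    intro h
    apply hM
    have : IsNoetherian B (M ⧸ (⊥ : Submodule B M)) := h
    exact isNoetherian_of_linearEquiv (Submodule.quotEquivOfEqBot (⊥ : Submodule B M) rfl)
  obtain ⟨N₁, hN₁S, hN₁max⟩ := hacc.wf.has_min S hne
  obtain ⟨N₁, I₁, rfl⟩ := N₁
  apply hN₁S
  show IsNoetherian B (M ⧸ (I₁ • (⊤ : Submodule B M)))
  set N₁ : Submodule B M := I₁ • (⊤ : Submodule B M) with hN₁
  apply isNoetherian_of_forall_quotient
  intro a ⟨m₁, hm₁⟩
  set T : Submodule B M := (I₁ ⊔ Ideal.span {a}) • (⊤ : Submodule B M) with hT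
  have hle : N₁ ≤ T := Submodule.smul_mono_left le_sup_left
  have hneT : T ≠ N₁ := by
    intro heq
    apply hm₁
    obtain ⟨m, hm⟩ := Submodule.mkQ_surjective _ m₁
    rw [← hm, Submodule.mkQ_apply, ← Submodule.Quotient.mk_smul, Submodule.Quotient.mk_eq_zero,
      ← heq, hT]
    exact Submodule.smul_mem_smul (Ideal.mem_sup_right (Ideal.mem_span_singleton_self a)) mem_top
  have hTnoeth : IsNoetherian B (M ⧸ T) := by
    by_contra hcon
    exact hN₁max ⟨T, _, rfl⟩ hcon (Subtype.mk_lt_mk.mpr (lt_of_le_of_ne hle (Ne.symm hneT)))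
  set K : Submodule B (M ⧸ N₁) := Ideal.span {a} • (⊤ : Submodule B (M ⧸ N₁)) with hK
  let f : M →ₗ[B] ((M ⧸ N₁) ⧸ K) := K.mkQ.comp N₁.mkQ
  have hTker : T ≤ LinearMap.ker f := by
    rw [hT, Submodule.smul_le]
    intro r hr n _
    obtain ⟨r₁, hr₁, r₂, hr₂, rfl⟩ := Submodule.mem_sup.mp hr
    obtain ⟨c, rfl⟩ := Ideal.mem_span_singleton'.mp hr₂
    rw [LinearMap.mem_ker, add_smul, map_add]
    have h1 : f (r₁ • n) = 0 := by
      simp only [f, LinearMap.comp_apply, Submodule.mkQ_apply]
      rw [(Submodule.Quotient.mk_eq_zero N₁).mpr (Submodule.smul_mem_smul hr₁ mem_top)]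
      simp
    have h2 : f ((c * a) • n) = 0 := by
      simp only [f, LinearMap.comp_apply, Submodule.mkQ_apply]
      rw [Submodule.Quotient.mk_eq_zero, Submodule.Quotient.mk_smul]
      exact Submodule.smul_mem_smul (Ideal.mem_span_singleton'.mpr ⟨c, rfl⟩) mem_top
    rw [h1, h2, add_zero]
  have hsurj : LinearMap.range (T.liftQ f hTker) = ⊤ := by
    rw [Submodule.range_liftQ, LinearMap.range_eq_top]
    exact (Submodule.mkQ_surjective K).comp (Submodule.mkQ_surjective N₁)
  exact isNoetherian_of_surjective (T.liftQ f hTker) hsurj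

end main

section ring

/-- **Eakin–Nagata.** -/
theorem isNoetherianRing_of_finite (B A : Type*) [CommRing B] [CommRing A] [Algebra B A]
    [Module.Finite B A] [IsNoetherianRing A] (hinj : Function.Injective (algebraMap B A)) :
    IsNoetherianRing B := by
  have hmod : IsNoetherian B A := by
    apply isNoetherian_of_acc
    -- order embedding into ideals of A
    let ι : {N : Submodule B A // ∃ I : Ideal B, N = I • (⊤ : Submodule B A)} → Ideal A :=
      fun N => Ideal.span (N.1 : Set A)
    have hcoe : ∀ N : {N : Submodule B A // ∃ I : Ideal B, N = I • (⊤ : Submodule B A)},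
        ((ι N : Ideal A) : Set A) = (N.1 : Set A) := by
      rintro ⟨N, I, rfl⟩
      apply Set.Subset.antisymm
      · intro x hx
        refine Submodule.span_induction (p := fun x _ => x ∈ I • (⊤ : Submodule B A))
          ?_ ?_ ?_ ?_ hx
        · intro y hy; exact hy
        · exact Submodule.zero_mem _
        · intro y z _ _ hy hz; exact Submodule.add_mem _ hy hz
        · intro c y _ hy
          refine Submodule.smul_induction_on hy ?_ ?_
          · intro r hr n _
            have : c • (r • n) = r • (c * n) := by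
              rw [smul_eq_mul, Algebra.smul_def, Algebra.smul_def]; ring
            rw [this]
            exact Submodule.smul_mem_smul hr mem_top
          · intro y z hy hz; rw [smul_add]; exact Submodule.add_mem _ hy hz
      · exact Ideal.subset_span
    have hmono : StrictMono ι := by
      intro N N' hlt
      have h1 : (N.1 : Set A) ⊂ (N'.1 : Set A) := by
        have : N.1 < N'.1 := hlt
        exact SetLike.coe_ssubset_coe.mpr this
      rw [← hcoe N, ← hcoe N'] at h1
      exact SetLike.coe_ssubset_coe.mp h1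
    exact hmono.wellFoundedGT
  exact isNoetherian_of_injective (Algebra.linearMap B A) hinj

end ring

end Groth.Agent.Lib.Helper20.EakinNagata
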