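import Groth.Agent.Lib.Helper20.AdamsFilt
import Mathlib.LinearAlgebra.Eigenspace.Basic
import Mathlib.LinearAlgebra.TensorProduct.Basic

/-!
# Helper library (helper20): eigenspace decomposition from a filtration shifted by `T - a_n`
-/

set_option autoImplicit false
universe u

open Finset

namespace Groth.Agent.Lib.Helper20.EF

section abstract
variable {k V : Type*} [Field k] [AddCommGroup V] [Module k V]

/-- a finite filtration `QF` on which `T - a n` maps `QF n` into `QF (n+1)`, the `a n` distinct -/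
structure Hyp (T : V →ₗ[k] V) (QF : ℕ → Submodule k V) (a : ℕ → k) (d : ℕ) : Prop where
  anti : ∀ m n, m ≤ n → QF n ≤ QF m
  zero : QF 0 = ⊤
  top : QF (d + 1) = ⊥
  inj : Function.Injective a
  shift : ∀ n, ∀ v ∈ QF n, T v - a n • v ∈ QF (n + 1)

variable {T S : V →ₗ[k] V} {QF : ℕ → Submodule k V} {a b : ℕ → k} {d : ℕ}

lemma Hyp.eq_bot (h : Hyp T QF a d) {n : ℕ} (hn : d + 1 ≤ n) : QF n = ⊥ := by
  rw [eq_bot_iff, ← h.top]
  exact h.anti _ _ hn

lemma Hyp.step (h : Hyp T QF a d) {m n : ℕ} (hmn : m ≠ n) {v : V} (hv : T v = a m • v)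
    (hvn : v ∈ QF n) : v ∈ QF (n + 1) := by
  have h1 := h.shift n v hvn
  rw [hv, ← sub_smul] at h1
  have hne : a m - a n ≠ 0 := sub_ne_zero.mpr (fun e => hmn (h.inj e))
  have := (QF (n + 1)).smul_mem (a m - a n)⁻¹ h1
  rwa [smul_smul, inv_mul_cancel₀ hne, one_smul] at this

lemma Hyp.eigen_le (h : Hyp T QF a d) (m : ℕ) : Module.End.eigenspace T (a m) ≤ QF m := by
  intro v hv
  rw [Module.End.mem_eigenspace_iff] at hv
  have : ∀ n, n ≤ m → v ∈ QF n := by
    intro n
    induction n with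
    | zero => intro _; rw [h.zero]; trivial
    | succ n ih =>
      intro hn
      exact h.step (by omega) hv (ih (by omega))
  exact this m le_rfl

lemma Hyp.eigen_inf (h : Hyp T QF a d) (m : ℕ) :
    Module.End.eigenspace T (a m) ⊓ QF (m + 1) = ⊥ := by
  rw [eq_bot_iff]
  rintro v ⟨hv, hv'⟩
  rw [SetLike.mem_coe, Module.End.mem_eigenspace_iff] at hv
  have : ∀ n, m + 1 ≤ n → v ∈ QF n := by
    intro n hn
    induction n, hn using Nat.le_induction with
    | base => exact hv'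
    | succ n hn ih => exact h.step (by omega) hv ih
  have h2 := this (max (m + 1) (d + 1)) (le_max_left _ _)
  rw [h.eq_bot (le_max_right _ _)] at h2
  exact h2

lemma Hyp.surj (h : Hyp T QF a d) (m : ℕ) :
    ∀ r n, d + 1 ≤ n + r → m < n → ∀ u ∈ QF n, ∃ v ∈ QF n, T v - a m • v = u := by
  intro r
  induction r with
  | zero =>
    intro n hn _ u hu
    rw [h.eq_bot (by omega), Submodule.mem_bot] at hu
    exact ⟨0, zero_mem _, by rw [hu, map_zero, smul_zero, sub_zero]⟩
  | succ r ih =>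
    intro n hn hmn u hu
    have hne : a n - a m ≠ 0 := sub_ne_zero.mpr (fun e => by have := h.inj e; omega)
    obtain ⟨v'', hv'', e⟩ := ih (n + 1) (by omega) (by omega)
      ((a n - a m)⁻¹ • (T u - a n • u)) (Submodule.smul_mem _ _ (h.shift n u hu))
    refine ⟨(a n - a m)⁻¹ • u - v'',
      sub_mem (Submodule.smul_mem _ _ hu) (h.anti _ _ (Nat.le_succ n) hv''), ?_⟩
    calc T ((a n - a m)⁻¹ • u - v'') - a m • ((a n - a m)⁻¹ • u - v'')
        = (a n - a m)⁻¹ • T u - a m • ((a n - a m)⁻¹ • u) - (T v'' - a m • v'') := by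
          rw [map_sub, map_smul]; module
      _ = (a n - a m)⁻¹ • T u - a m • ((a n - a m)⁻¹ • u) -
            (a n - a m)⁻¹ • (T u - a n • u) := by rw [e]
      _ = ((a n - a m)⁻¹ * (a n - a m)) • u := by module
      _ = u := by rw [inv_mul_cancel₀ hne, one_smul]

lemma Hyp.eigen_sup (h : Hyp T QF a d) (m : ℕ) :
    Module.End.eigenspace T (a m) ⊔ QF (m + 1) = QF m := by
  apply le_antisymm
  · exact sup_le (h.eigen_le m) (h.anti _ _ (Nat.le_succ m))
  · intro v hv
    obtain ⟨v', hv', e⟩ := h.surj m (d + 1) (m + 1) (by omega) (Nat.lt_succ_self m) _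
      (h.shift m v hv)
    rw [Submodule.mem_sup]
    refine ⟨v - v', ?_, v', hv', sub_add_cancel _ _⟩
    rw [Module.End.mem_eigenspace_iff, map_sub, smul_sub]
    have : T v - T v' - (a m • v - a m • v') = (T v - a m • v) - (T v' - a m • v') := by abel
    rw [← sub_eq_zero, this, e, sub_self]

lemma Hyp.iSup_eq_top (h : Hyp T QF a d) :
    (⨆ m ∈ Finset.range (d + 1), Module.End.eigenspace T (a m)) = ⊤ := by
  have key : ∀ r n, d + 1 ≤ n + r →
      QF n ≤ ⨆ m ∈ Finset.range (d + 1), Module.End.eigenspace T (a m) := by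
    intro r
    induction r with
    | zero => intro n hn; rw [h.eq_bot (by omega)]; exact bot_le
    | succ r ih =>
      intro n hn
      by_cases hnd : d + 1 ≤ n
      · rw [h.eq_bot hnd]; exact bot_le
      · rw [← h.eigen_sup n]
        apply sup_le
        · exact le_biSup (fun m => Module.End.eigenspace T (a m))
            (Finset.mem_range.mpr (by omega))
        · exact ih (n + 1) (by omega)
  rw [eq_top_iff, ← h.zero]
  exact key (d + 1) 0 (by omega)

lemma eigen_le_of_comm (hT : Hyp T QF a d) (hS : Hyp S QF b d)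
    (hcomm : ∀ v, T (S v) = S (T v)) (m : ℕ) :
    Module.End.eigenspace T (a m) ≤ Module.End.eigenspace S (b m) := by
  intro v hv
  have hv' := Module.End.mem_eigenspace_iff.mp hv
  have hw1 : S v - b m • v ∈ Module.End.eigenspace T (a m) := by
    rw [Module.End.mem_eigenspace_iff, map_sub, map_smul, hcomm, hv', map_smul, smul_sub,
      smul_comm]
  have hw2 : S v - b m • v ∈ QF (m + 1) := hS.shift m v (hT.eigen_le m hv)
  have : S v - b m • v ∈ Module.End.eigenspace T (a m) ⊓ QF (m + 1) := ⟨hw1, hw2⟩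
  rw [hT.eigen_inf m, Submodule.mem_bot, sub_eq_zero] at this
  exact Module.End.mem_eigenspace_iff.mpr this

end abstract

section concrete
open TensorProduct LambdaRing Groth.Agent.Lib.Helper20.LR
variable {K : Type u} [CommRing K] [LambdaOps K] (P : PosStructure K)

/-- `ℚF^n` -/
noncomputable def QF (n : ℕ) : Submodule ℚ (ℚ ⊗[ℤ] K) :=
  Submodule.span ℚ ((fun x : K => (1 : ℚ) ⊗ₜ[ℤ] x) '' (gammaFiltration P n : Set K))

omit [LambdaOps K] in
lemma span_one_tmul : Submodule.span ℚ (Set.range fun x : K => (1 : ℚ) ⊗ₜ[ℤ] x) = ⊤ := by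
  rw [eq_top_iff]
  intro v _
  clear * -
  induction v using TensorProduct.induction_on with
  | zero => exact zero_mem _
  | tmul q x =>
    have : q ⊗ₜ[ℤ] x = q • ((1 : ℚ) ⊗ₜ[ℤ] x) := by
      rw [TensorProduct.smul_tmul', smul_eq_mul, mul_one]
    rw [this]
    exact Submodule.smul_mem _ _ (Submodule.subset_span ⟨x, rfl⟩)
  | add a b ha hb => exact add_mem ha hb

omit [LambdaOps K] in
lemma natpow_smul_one_tmul (j n : ℕ) (x : K) :
    ((j : ℚ) ^ n) • ((1 : ℚ) ⊗ₜ[ℤ] x) = (1 : ℚ) ⊗ₜ[ℤ] ((j : K) ^ n * x) := by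
  have h1 : ((j : K) ^ n * x) = ((j : ℤ) ^ n) • x := by
    rw [zsmul_eq_mul]; push_cast; rfl
  rw [h1, ← TensorProduct.smul_tmul, TensorProduct.smul_tmul', zsmul_eq_mul, mul_one,
    smul_eq_mul, mul_one]
  push_cast
  rfl

lemma hyp (hK : HasSplitting K P) (d : ℕ) (hd : gammaFiltration P (d + 1) = ⊥) (j : ℕ)
    (hj : 2 ≤ j) (Ψ : ℚ ⊗[ℤ] K →ₗ[ℚ] ℚ ⊗[ℤ] K)
    (hΨ : ∀ x : K, Ψ (1 ⊗ₜ[ℤ] x) = 1 ⊗ₜ[ℤ] adams P j x) :
    Hyp Ψ (QF P) (fun m => (j : ℚ) ^ m) d where
  anti := by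
    intro m n hmn
    apply Submodule.span_mono
    apply Set.image_mono
    exact GFP.filt_anti P hmn
  zero := by
    unfold QF
    rw [GFP.filt_zero, AddSubgroup.coe_top, Set.image_univ]
    exact span_one_tmul
  top := by
    unfold QF
    rw [hd, AddSubgroup.coe_bot, Set.image_singleton, TensorProduct.tmul_zero,
      Submodule.span_zero_singleton]
  inj := by
    intro m n h
    have h' : ((j ^ m : ℕ) : ℚ) = ((j ^ n : ℕ) : ℚ) := by push_cast; exact h
    exact Nat.pow_right_injective hj (Nat.cast_injective h')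
  shift := by
    intro n v hv
    unfold QF at hv
    induction hv using Submodule.span_induction with
    | mem v hv =>
      obtain ⟨x, hx, rfl⟩ := hv
      rw [hΨ]
      change (1 : ℚ) ⊗ₜ[ℤ] adams P j x - ((j : ℚ) ^ n) • ((1 : ℚ) ⊗ₜ[ℤ] x) ∈ _
      rw [natpow_smul_one_tmul, ← TensorProduct.tmul_sub]
      exact Submodule.subset_span ⟨_, AF.adams_sub_mem P hK j n x hx, rfl⟩
    | zero => rw [map_zero, smul_zero, sub_zero]; exact zero_mem _
    | add x y _ _ hx hy =>
      have : Ψ (x + y) - (fun m => (j : ℚ) ^ m) n • (x + y) =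
          (Ψ x - (fun m => (j : ℚ) ^ m) n • x) + (Ψ y - (fun m => (j : ℚ) ^ m) n • y) := by
        rw [map_add, smul_add]; abel
      rw [this]
      exact add_mem hx hy
    | smul c x _ hx =>
      have : Ψ (c • x) - (fun m => (j : ℚ) ^ m) n • (c • x) =
          c • (Ψ x - (fun m => (j : ℚ) ^ m) n • x) := by
        rw [map_smul, smul_sub, smul_comm]
      rw [this]
      exact Submodule.smul_mem _ _ hx

lemma comm (hK : HasSplitting K P) (j l : ℕ) (Ψj Ψl : ℚ ⊗[ℤ] K →ₗ[ℚ] ℚ ⊗[ℤ] K)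
    (hΨj : ∀ x : K, Ψj (1 ⊗ₜ[ℤ] x) = 1 ⊗ₜ[ℤ] adams P j x)
    (hΨl : ∀ x : K, Ψl (1 ⊗ₜ[ℤ] x) = 1 ⊗ₜ[ℤ] adams P l x) (v : ℚ ⊗[ℤ] K) :
    Ψj (Ψl v) = Ψl (Ψj v) := by
  obtain ⟨C, hKC, hC⟩ := hK
  have h : Ψj ∘ₗ Ψl = Ψl ∘ₗ Ψj := by
    apply LinearMap.ext_on (span_one_tmul (K := K))
    rintro _ ⟨x, rfl⟩
    simp only [LinearMap.comp_apply]
    rw [hΨl, hΨj, hΨj, hΨl, adams_adams C hC ⟨K, P⟩ hKC j l x, adams_adams C hC ⟨K, P⟩ hKC l j x,
      mul_comm]
  exact LinearMap.congr_fun h v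

end concrete

end Groth.Agent.Lib.Helper20.EF
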