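import Mathlib

namespace Groth.Agent.Lib.Helper20.EtProd

universe u v

section Prod
variable (R : Type v) (E F : Type u) [CommRing R] [CommRing E] [CommRing F] [Algebra R E] [Algebra R F]

/-- two-element family of types -/
def Fam : Bool → Type u := fun b => cond b E F

instance instCommRingFam (b : Bool) : CommRing (Fam E F b) := by
  cases b
  · exact (inferInstance : CommRing F)
  · exact (inferInstance : CommRing E)

instance instAlgebraFam (b : Bool) : Algebra R (Fam E F b) := by
  cases b
  · exact (inferInstance : Algebra R F)
  · exact (inferInstance : Algebra R E)

instance instEtaleFam [Algebra.Etale R E] [Algebra.Etale R F] (b : Bool) :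
    Algebra.Etale R (Fam E F b) := by
  cases b
  · exact (inferInstance : Algebra.Etale R F)
  · exact (inferInstance : Algebra.Etale R E)

/-- the product as a pi type -/
def piEquiv : (Π b, Fam E F b) ≃ₐ[R] E × F where
  toFun x := (x true, x false)
  invFun p := fun b => match b with
    | true => p.1
    | false => p.2
  left_inv x := by
    funext b
    cases b <;> rfl
  right_inv p := rfl
  map_mul' x y := rfl
  map_add' x y := rfl
  commutes' r := rfl

theorem etale_prod [Algebra.Etale R E] [Algebra.Etale R F] : Algebra.Etale R (E × F) :=
  Algebra.Etale.of_equiv (piEquiv R E F)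

end Prod

end Groth.Agent.Lib.Helper20.EtProd
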