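import Mathlib
import Groth.Prelude.Def_ProEtW
import Groth.Agent.Lib.Helper20.EtProd

namespace Groth.Agent.Lib.Helper20.EtRetr

universe u

variable {A : Type u} [CommRing A]

/-- the image of an étale algebra with a point over the maximal ideal `m` together with some
`D(g)`, `g ∈ m`, covers `Spec A` -/
theorem exists_cover (m : Ideal A) [m.IsMaximal] (E : Type u) [CommRing E] [Algebra A E]
    [Algebra.Etale A E] (q : Ideal E) [q.IsPrime] (hq : q.comap (algebraMap A E) = m) :
    ∃ g ∈ m, Function.Surjective
      (PrimeSpectrum.comap (algebraMap A (E × Localization.Away g))) := by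
  have hopen : IsOpen (Set.range (PrimeSpectrum.comap (algebraMap A E))) :=
    (PrimeSpectrum.isOpenMap_comap_of_hasGoingDown_of_finitePresentation).isOpen_range
  set U := Set.range (PrimeSpectrum.comap (algebraMap A E)) with hU
  let K : Ideal A := PrimeSpectrum.vanishingIdeal Uᶜ
  have hK : PrimeSpectrum.zeroLocus (K : Set A) = Uᶜ := by
    rw [PrimeSpectrum.zeroLocus_vanishingIdeal_eq_closure, hopen.isClosed_compl.closure_eq]
  have hmU : (⟨m, inferInstance⟩ : PrimeSpectrum A) ∈ U :=
    ⟨⟨q, inferInstance⟩, PrimeSpectrum.ext hq⟩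
  have hKm : ¬ K ≤ m := by
    intro hle
    have : (⟨m, inferInstance⟩ : PrimeSpectrum A) ∈ PrimeSpectrum.zeroLocus (K : Set A) := by
      rw [PrimeSpectrum.mem_zeroLocus]
      exact hle
    rw [hK] at this
    exact this hmU
  have htop : K ⊔ m = ⊤ := by
    by_contra hne
    have := (‹m.IsMaximal›.eq_of_le hne le_sup_right)
    exact hKm (this ▸ le_sup_left)
  have h1 : (1 : A) ∈ K ⊔ m := by rw [htop]; trivial
  obtain ⟨k, hk, g, hg, hkg⟩ := Submodule.mem_sup.mp h1
  refine ⟨g, hg, ?_⟩
  intro p
  by_cases hp : p ∈ U
  · obtain ⟨q', hq'⟩ := hp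
    refine ⟨PrimeSpectrum.comap (RingHom.fst E (Localization.Away g)) q', ?_⟩
    rw [← hq']
    rfl
  · have hpK : p ∈ PrimeSpectrum.zeroLocus (K : Set A) := by rw [hK]; exact hp
    have hgp : g ∉ p.asIdeal := by
      intro hgp
      have hkp : k ∈ p.asIdeal := hpK hk
      have : (1 : A) ∈ p.asIdeal := by rw [← hkg]; exact add_mem hkp hgp
      exact p.2.ne_top ((Ideal.eq_top_iff_one _).mpr this)
    have : p ∈ Set.range (PrimeSpectrum.comap (algebraMap A (Localization.Away g))) := by
      rw [PrimeSpectrum.localization_away_comap_range (Localization.Away g) g]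
      exact hgp
    obtain ⟨q', hq'⟩ := this
    refine ⟨PrimeSpectrum.comap (RingHom.snd E (Localization.Away g)) q', ?_⟩
    rw [← hq']
    rfl

/-- Key lemma: if all faithfully flat étale `A`-algebras have retractions, then every étale
`A`-algebra with a point over the maximal ideal `m` maps to `A_m`. -/
theorem exists_algHom (h : ProEtW.HasEtaleRetractions A) (m : Ideal A) [m.IsMaximal]
    (E : Type u) [CommRing E] [Algebra A E]
    [Algebra.Etale A E] (q : Ideal E) [q.IsPrime] (hq : q.comap (algebraMap A E) = m) :
    Nonempty (E →ₐ[A] Localization.AtPrime m) := by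
  obtain ⟨g, hg, hsurj⟩ := exists_cover m E q hq
  haveI : Algebra.Etale A (E × Localization.Away g) := EtProd.etale_prod A E _
  haveI : Module.Flat A (E × Localization.Away g) := inferInstance
  have hff : Module.FaithfullyFlat A (E × Localization.Away g) :=
    Module.FaithfullyFlat.of_comap_surjective hsurj
  obtain ⟨σ⟩ := h (E × Localization.Away g) hff inferInstance
  let τ : (E × Localization.Away g) →ₐ[A] Localization.AtPrime m :=
    (Algebra.ofId A (Localization.AtPrime m)).comp σ
  set u := τ (0, 1) with hu
  have hidem : u * u = u := by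
    rw [hu, ← map_mul]
    congr 1
    ext <;> simp
  have hu0 : u = 0 := by
    rcases IsLocalRing.isUnit_or_isUnit_one_sub_self u with h1 | h1
    · exfalso
      have hu1 : u = 1 := by
        have := h1.mul_left_cancel (a := u) (b := u) (c := 1) (by rw [hidem, mul_one])
        exact this
      have h2 : τ (0, algebraMap A _ g) = algebraMap A (Localization.AtPrime m) g := by
        have : ((0 : E), algebraMap A (Localization.Away g) g) = g • ((0 : E), (1 : Localization.Away g)) := by
          ext
          · simp
          · simp [Algebra.smul_def]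
        rw [this, map_smul, ← hu, hu1, Algebra.smul_def, mul_one]
      have h3 : algebraMap A (Localization.AtPrime m) g *
          τ (0, IsLocalization.Away.invSelf g) = 1 := by
        rw [← h2, ← map_mul, ← hu1, hu]
        congr 1
        ext
        · simp
        · simp only [Prod.mk_mul_mk, mul_zero]
          exact IsLocalization.Away.mul_invSelf g
      have h4 : IsUnit (algebraMap A (Localization.AtPrime m) g) := IsUnit.of_mul_eq_one _ h3
      rw [IsLocalization.AtPrime.isUnit_to_map_iff (Localization.AtPrime m) m] at h4
      exact h4 hg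
    · have : (1 - u) * u = (1 - u) * 0 := by
        rw [mul_zero, sub_mul, one_mul, hidem, sub_self]
      exact h1.mul_left_cancel this
  have h10 : τ (1, 0) = 1 := by
    have : ((1 : E), (0 : Localization.Away g)) = 1 - (0, 1) := by
      ext <;> simp
    rw [this, map_sub, map_one, ← hu, hu0, sub_zero]
  refine ⟨AlgHom.ofLinearMap (τ.toLinearMap ∘ₗ LinearMap.inl A E (Localization.Away g)) ?_ ?_⟩
  · simpa using h10
  · intro x y
    simp only [LinearMap.coe_comp, Function.comp_apply, LinearMap.coe_inl, AlgHom.toLinearMap_apply]
    rw [← map_mul]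
    congr 1
    ext <;> simp

end Groth.Agent.Lib.Helper20.EtRetr
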