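import Mathlib
import Groth.Prelude.Def_ProEtW
import Groth.Prelude.Def_EtBase
import Groth.Agent.Lib.Helper20.EtRetr

namespace Groth.Agent.Lib.Helper20.EtHens

open Polynomial IsLocalRing

universe u

section Crit

variable {A : Type u} [CommRing A] (m : Ideal A) [m.IsMaximal]

local notation "R" => Localization.AtPrime m
local notation "κ" => IsLocalRing.ResidueField (Localization.AtPrime m)

theorem algebraMap_residueField_surjective : Function.Surjective (algebraMap A κ) := by
  intro y
  obtain ⟨x, hx⟩ := (IsLocalization.AtPrime.equivQuotMaximalIdeal m R).surjective y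
  obtain ⟨a, rfl⟩ := Ideal.Quotient.mk_surjective x
  refine ⟨a, ?_⟩
  rw [← hx, IsLocalization.AtPrime.equivQuotMaximalIdeal_apply_mk]
  rfl

theorem ker_algebraMap_residueField : RingHom.ker (algebraMap A κ) = m := by
  ext a
  rw [RingHom.mem_ker, IsScalarTower.algebraMap_apply A R κ,
    IsLocalRing.ResidueField.algebraMap_eq, IsLocalRing.residue_eq_zero_iff,
    IsLocalization.AtPrime.to_map_mem_maximal_iff R m]

/-- Criterion for `A_m` henselian in terms of polynomials over `A`. -/
theorem henselian_of_forall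
    (H : ∀ (F : A[X]), F.Monic → ∀ (b₀ : κ) (Hb : κ[X]),
      F.map (algebraMap A κ) = (X - C b₀) * Hb → Hb.eval b₀ ≠ 0 →
      ∃ b : R, aeval b F = 0 ∧ residue R b = b₀) :
    HenselianLocalRing R := by
  refine ((HenselianLocalRing.TFAE R).out 0 1).mpr ?_
  intro f hf a₀ h₁ h₂
  obtain ⟨s, hs⟩ := IsLocalization.exist_integer_multiples_of_finset m.primeCompl f.coeffs
  set sR : R := algebraMap A R s with hsR
  have hsu : IsUnit sR := IsLocalization.map_units R s
  set n := f.natDegree with hn
  set F := f.scaleRoots sR with hF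
  have hFm : F.Monic := (monic_scaleRoots_iff sR).mpr hf
  have hFl : F ∈ lifts (algebraMap A R) := by
    rw [lifts_iff_coeff_lifts]
    intro i
    rw [hF, coeff_scaleRoots]
    by_cases hc : f.coeff i = 0
    · rw [hc, zero_mul]
      exact ⟨0, map_zero _⟩
    · have hi : i ≤ n := le_natDegree_of_ne_zero hc
      rcases hi.eq_or_lt with rfl | hlt
      · rw [← hn, Nat.sub_self, pow_zero, mul_one, hn, hf.coeff_natDegree]
        exact ⟨1, map_one _⟩
      · obtain ⟨c, hc'⟩ := hs (f.coeff i) (coeff_mem_coeffs hc)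
        obtain ⟨k, hk⟩ : ∃ k, f.natDegree - i = k + 1 := ⟨n - i - 1, by omega⟩
        refine ⟨c * (s : A) ^ k, ?_⟩
        rw [hk, map_mul, map_pow, hc', Algebra.smul_def, pow_succ]
        ring
  obtain ⟨FA, hmap, -, hFA⟩ := lifts_and_natDegree_eq_and_monic hFl hFm
  -- work in the residue field
  set fb : κ[X] := f.map (residue R) with hfb
  have hroot : fb.IsRoot a₀ := by
    rw [IsRoot, hfb, eval_map, ← IsLocalRing.ResidueField.algebraMap_eq, ← aeval_def]
    exact h₁
  obtain ⟨hb, hfh⟩ := dvd_iff_isRoot.mpr hroot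
  have hder : hb.eval a₀ ≠ 0 := by
    have : (derivative fb).eval a₀ = hb.eval a₀ := by
      rw [hfh, derivative_mul]
      simp
    rw [← this, hfb, derivative_map, eval_map, ← IsLocalRing.ResidueField.algebraMap_eq,
      ← aeval_def]
    exact h₂
  set sb : κ := residue R sR with hsb
  have hsb0 : sb ≠ 0 := (hsu.map (residue R)).ne_zero
  have hFb : F.map (residue R) = (X - C (a₀ * sb)) * hb.scaleRoots sb := by
    rw [hF, map_scaleRoots _ _ _ (by rw [hf.leadingCoeff, map_one]; exact one_ne_zero), ← hfb,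
      hfh, mul_scaleRoots_of_noZeroDivisors, X_sub_C_scaleRoots]
  have hHb : (hb.scaleRoots sb).eval (a₀ * sb) ≠ 0 := by
    rw [mul_comm a₀ sb, scaleRoots_eval_mul]
    exact mul_ne_zero (pow_ne_zero _ hsb0) hder
  have hFAmap : FA.map (algebraMap A κ) = (X - C (a₀ * sb)) * hb.scaleRoots sb := by
    rw [IsScalarTower.algebraMap_eq A R κ, ← Polynomial.map_map, hmap,
      IsLocalRing.ResidueField.algebraMap_eq, hFb]
  obtain ⟨b, hb1, hb2⟩ := H FA hFA _ _ hFAmap hHb
  have hb1' : F.eval b = 0 := by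
    rw [← hmap, eval_map, ← aeval_def]
    exact hb1
  obtain ⟨us, hus⟩ := hsu
  refine ⟨b * ↑us⁻¹, ?_, ?_⟩
  · have h3 : F.eval (sR * (b * ↑us⁻¹)) = sR ^ f.natDegree * f.eval (b * ↑us⁻¹) :=
      scaleRoots_eval_mul f _ sR
    have h4 : sR * (b * ↑us⁻¹) = b := by
      rw [← hus]
      rw [mul_comm b, ← mul_assoc, Units.mul_inv, one_mul]
    rw [h4, hb1'] at h3
    have h5 : IsUnit (sR ^ f.natDegree) := (hus ▸ us.isUnit).pow _
    exact (h5.mul_right_eq_zero.mp h3.symm)
  · rw [map_mul, hb2]
    have : residue R (↑us⁻¹) * sb = 1 := by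
      rw [hsb, ← map_mul, ← hus, Units.inv_mul, map_one]
    rw [mul_assoc, mul_comm sb, this, mul_one]

end Crit

end Groth.Agent.Lib.Helper20.EtHens
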