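import Mathlib
import Groth.Prelude.Def_ProEtW
import Groth.Prelude.Def_EtBase
import Groth.Agent.Lib.Helper20.EtHens

namespace Groth.Agent.Lib.Helper20.EtHens

open Polynomial IsLocalRing

universe u

section Main

variable {A : Type u} [CommRing A] (h : ProEtW.HasEtaleRetractions A) (m : Ideal A) [m.IsMaximal]

local notation "R" => Localization.AtPrime m
local notation "κ" => IsLocalRing.ResidueField (Localization.AtPrime m)

include h in
/-- a standard étale algebra with a map to a field `L` over `A` whose structure map has kernel `m`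
maps to `A_m` -/
theorem exists_algHom_of_hasMap (P : StandardEtalePair A) (L : Type*) [Field L] [Algebra A L]
    (hL : RingHom.ker (algebraMap A L) = m) (x : L) (hx : P.HasMap x) :
    Nonempty (P.Ring →ₐ[A] R) := by
  let ψ : P.Ring →ₐ[A] L := P.lift x hx
  let q : Ideal P.Ring := RingHom.ker ψ.toRingHom
  haveI : q.IsPrime := RingHom.ker_isPrime _
  have hq : q.comap (algebraMap A P.Ring) = m := by
    rw [← hL]
    ext a
    simp only [q, Ideal.mem_comap, RingHom.mem_ker]
    show ψ (algebraMap A P.Ring a) = 0 ↔ _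
    rw [ψ.commutes]
  exact EtRetr.exists_algHom h m P.Ring q hq

include h in
theorem exists_root (F : A[X]) (hF : F.Monic) (b₀ : κ) (Hb : κ[X])
    (hfac : F.map (algebraMap A κ) = (X - C b₀) * Hb) (hH : Hb.eval b₀ ≠ 0) :
    ∃ b : R, aeval b F = 0 ∧ residue R b = b₀ := by
  obtain ⟨HA, hHA⟩ := Polynomial.map_surjective (algebraMap A κ)
    (algebraMap_residueField_surjective m) Hb
  let P : StandardEtalePair A :=
    { f := F
      monic_f := hF
      g := derivative F * HA
      cond := ⟨HA, 0, 1, by simp⟩ }
  have hev : ∀ (p : A[X]) (c : κ), aeval c p = (p.map (algebraMap A κ)).eval c := by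
    intro p c
    rw [aeval_def, eval_map]
  have hmapx : P.HasMap b₀ := by
    refine ⟨?_, ?_⟩
    · show aeval b₀ F = 0
      rw [hev, hfac]
      simp
    · show IsUnit (aeval b₀ (derivative F * HA))
      rw [map_mul, hev, hev, hHA, ← derivative_map, hfac, derivative_mul]
      simp only [derivative_sub, derivative_X, derivative_C, sub_zero, one_mul, eval_add, eval_mul,
        eval_sub, eval_X, eval_C, sub_self, zero_mul, add_zero]
      exact (mul_ne_zero hH hH).isUnit
  obtain ⟨φ⟩ := exists_algHom_of_hasMap h m P κ (ker_algebraMap_residueField m) b₀ hmapx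
  have hmap2 : P.HasMap (φ P.X) := P.hasMap_X.map φ
  refine ⟨φ P.X, hmap2.1, ?_⟩
  have h1 : aeval (residue R (φ P.X)) F = 0 := by
    have := Polynomial.aeval_algebraMap_apply (A := R) κ (φ P.X) F
    rw [IsLocalRing.ResidueField.algebraMap_eq] at this
    rw [this]
    have h0 : aeval (φ P.X) F = 0 := hmap2.1
    rw [h0, map_zero]
  have h2 : IsUnit (aeval (residue R (φ P.X)) HA) := by
    have := Polynomial.aeval_algebraMap_apply (A := R) κ (φ P.X) HA
    rw [IsLocalRing.ResidueField.algebraMap_eq] at this
    rw [this]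
    have h0 : IsUnit (aeval (φ P.X) (derivative F * HA)) := hmap2.2
    rw [map_mul] at h0
    exact (isUnit_of_mul_isUnit_right h0).map (residue R)
  rw [hev, hfac] at h1
  rw [hev, hHA] at h2
  simp only [eval_mul, eval_sub, eval_X, eval_C] at h1
  rcases mul_eq_zero.mp h1 with h3 | h3
  · exact sub_eq_zero.mp h3
  · exact absurd h3 h2.ne_zero

include h in
theorem henselian : HenselianLocalRing R :=
  henselian_of_forall m (exists_root h m)

include h in
theorem isSepClosed : IsSepClosed κ := by
  refine IsSepClosed.of_exists_root κ ?_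
  intro p hpm hpi hps
  have hlift : p ∈ lifts (algebraMap A κ) :=
    (mem_lifts _).mpr (Polynomial.map_surjective _ (algebraMap_residueField_surjective m) p)
  obtain ⟨pA, hpA, -, hpAm⟩ := lifts_and_natDegree_eq_and_monic hlift hpm
  let P : StandardEtalePair A :=
    { f := pA
      monic_f := hpAm
      g := derivative pA
      cond := ⟨1, 0, 1, by simp⟩ }
  haveI : Fact (Irreducible p) := ⟨hpi⟩
  let L := AdjoinRoot p
  have hev : ∀ (r : A[X]), aeval (AdjoinRoot.root p) r =
      eval₂ (AdjoinRoot.of p) (AdjoinRoot.root p) (r.map (algebraMap A κ)) := by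
    intro r
    rw [aeval_def, eval₂_map]
    congr 1
  have hmapx : P.HasMap (AdjoinRoot.root p) := by
    refine ⟨?_, ?_⟩
    · show aeval (AdjoinRoot.root p) pA = 0
      rw [hev, hpA, AdjoinRoot.eval₂_root]
    · show IsUnit (aeval (AdjoinRoot.root p) (derivative pA))
      rw [hev, ← derivative_map, hpA]
      obtain ⟨a, b, hab⟩ := hps
      have := congrArg (eval₂ (AdjoinRoot.of p) (AdjoinRoot.root p)) hab
      rw [eval₂_add, eval₂_mul, eval₂_mul, AdjoinRoot.eval₂_root, mul_zero, zero_add,
        eval₂_one] at this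
      exact IsUnit.of_mul_eq_one _ (by rw [mul_comm]; exact this)
  have hL : RingHom.ker (algebraMap A (AdjoinRoot p)) = m := by
    have h0 := ker_algebraMap_residueField m
    ext a
    have h1 : a ∈ m ↔ a ∈ RingHom.ker (algebraMap A κ) := by rw [h0]
    rw [h1, RingHom.mem_ker, RingHom.mem_ker, IsScalarTower.algebraMap_apply A κ (AdjoinRoot p)]
    exact map_eq_zero_iff _ (algebraMap κ (AdjoinRoot p)).injective
  obtain ⟨φ⟩ := exists_algHom_of_hasMap h m P (AdjoinRoot p) hL _ hmapx
  have hmap2 : P.HasMap (φ P.X) := P.hasMap_X.map φ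
  refine ⟨residue R (φ P.X), ?_⟩
  have := Polynomial.aeval_algebraMap_apply (A := R) κ (φ P.X) pA
  rw [IsLocalRing.ResidueField.algebraMap_eq] at this
  have h0 : aeval (φ P.X) pA = 0 := hmap2.1
  rw [h0, map_zero, aeval_def, ← eval_map, hpA] at this
  exact this

include h in
theorem main : EtCoh.IsStrictlyHenselianLocalRing R :=
  ⟨henselian h m, isSepClosed h m⟩

end Main

end Groth.Agent.Lib.Helper20.EtHens
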