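import Mathlib
import Groth.Prelude.Def_ProEtW
import Groth.Agent.Lib.Helper20.EtProd

namespace Groth.Agent.Lib.Helper20.EtQuot

open Polynomial

universe u

variable {A : Type u} [CommRing A] (I : Ideal A)

/-- lifting a standard étale chart from `A/I` to `A` -/
theorem exists_lift_pair (L : Type u) [CommRing L] [Algebra A L] [Algebra (A ⧸ I) L]
    [IsScalarTower A (A ⧸ I) L] [Algebra.IsStandardEtale (A ⧸ I) L] :
    ∃ P : StandardEtalePair A, Nonempty (P.Ring →ₐ[A] L) ∧
      Nonempty (L →ₐ[A ⧸ I] (P.Ring ⧸ I.map (algebraMap A P.Ring))) := by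
  obtain ⟨PP⟩ := Algebra.IsStandardEtale.nonempty_standardEtalePresentation (R := A ⧸ I) (S := L)
  have hπ : Function.Surjective (Ideal.Quotient.mk I) := Ideal.Quotient.mk_surjective
  obtain ⟨pb₁, pb₂, n, e⟩ := PP.cond
  obtain ⟨f, hf, -, hfm⟩ := lifts_and_natDegree_eq_and_monic
    ((mem_lifts _).mpr (Polynomial.map_surjective _ hπ PP.f)) PP.monic_f
  obtain ⟨p₁, hp₁⟩ := Polynomial.map_surjective _ hπ (pb₁ * PP.g)
  obtain ⟨p₂, hp₂⟩ := Polynomial.map_surjective _ hπ (pb₂ * PP.g)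
  let P : StandardEtalePair A :=
    { f := f
      monic_f := hfm
      g := derivative f * p₁ + f * p₂
      cond := ⟨p₁, p₂, 1, by simp⟩ }
  have hg : P.g.map (Ideal.Quotient.mk I) = PP.g ^ (n + 1) := by
    show (derivative f * p₁ + f * p₂).map (Ideal.Quotient.mk I) = _
    rw [Polynomial.map_add, Polynomial.map_mul, Polynomial.map_mul, ← derivative_map, hf, hp₁, hp₂,
      pow_succ, ← e]
    ring
  have hPf : P.f.map (Ideal.Quotient.mk I) = PP.f := hf
  refine ⟨P, ⟨P.lift PP.x ⟨?_, ?_⟩⟩, ?_⟩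
  · rw [← Polynomial.aeval_map_algebraMap (A ⧸ I) PP.x P.f, Ideal.Quotient.algebraMap_eq, hPf]
    exact PP.hasMap.1
  · rw [← Polynomial.aeval_map_algebraMap (A ⧸ I) PP.x P.g, Ideal.Quotient.algebraMap_eq, hg,
      map_pow]
    exact PP.hasMap.2.pow _
  · set Q := P.Ring ⧸ I.map (algebraMap A P.Ring) with hQ
    let y : Q := Ideal.Quotient.mk _ P.X
    have hy : ∀ p : A[X], aeval y (p.map (Ideal.Quotient.mk I)) =
        Ideal.Quotient.mk _ (aeval P.X p) := by
      intro p
      have h1 := Polynomial.aeval_map_algebraMap (A ⧸ I) y p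
      rw [Ideal.Quotient.algebraMap_eq] at h1
      rw [h1]
      exact Polynomial.aeval_algHom_apply (Ideal.Quotient.mkₐ A (I.map (algebraMap A P.Ring))) P.X p
    have hmap : PP.HasMap y := by
      refine ⟨?_, ?_⟩
      · rw [← hPf, hy, P.hasMap_X.1, map_zero]
      · have h2 : IsUnit ((aeval y PP.g) ^ (n + 1)) := by
          rw [← map_pow, ← hg, hy]
          exact P.hasMap_X.2.map _
        exact (isUnit_pow_succ_iff).mp h2
    exact ⟨(PP.lift y hmap).comp PP.equivRing.toAlgHom⟩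

end Groth.Agent.Lib.Helper20.EtQuot
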