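import Mathlib
import Groth.Prelude.Def_ProEtW
import Groth.Agent.Lib.Helper20.EtProd
import Groth.Agent.Lib.Helper20.EtQuot

namespace Groth.Agent.Lib.Helper20.EtQuot

open Polynomial

universe u

variable {A : Type u} [CommRing A] (I : Ideal A)

/-- an étale algebra whose image contains `V(I)` can be completed to a faithfully flat étale
algebra by adding some `A_g`, `g ∈ I` -/
theorem exists_cover (E : Type u) [CommRing E] [Algebra A E] [Algebra.Etale A E]
    (hI : PrimeSpectrum.zeroLocus (I : Set A) ⊆ Set.range (PrimeSpectrum.comap (algebraMap A E))) :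
    ∃ g ∈ I, Function.Surjective
      (PrimeSpectrum.comap (algebraMap A (E × Localization.Away g))) := by
  have hopen : IsOpen (Set.range (PrimeSpectrum.comap (algebraMap A E))) :=
    (PrimeSpectrum.isOpenMap_comap_of_hasGoingDown_of_finitePresentation).isOpen_range
  set U := Set.range (PrimeSpectrum.comap (algebraMap A E)) with hU
  let K : Ideal A := PrimeSpectrum.vanishingIdeal Uᶜ
  have hK : PrimeSpectrum.zeroLocus (K : Set A) = Uᶜ := by
    rw [PrimeSpectrum.zeroLocus_vanishingIdeal_eq_closure, hopen.isClosed_compl.closure_eq]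
  have htop : K ⊔ I = ⊤ := by
    by_contra hne
    obtain ⟨M, hM, hle⟩ := Ideal.exists_le_maximal _ hne
    have h1 : (⟨M, hM.isPrime⟩ : PrimeSpectrum A) ∈ PrimeSpectrum.zeroLocus (K : Set A) := by
      rw [PrimeSpectrum.mem_zeroLocus, SetLike.coe_subset_coe]
      exact le_sup_left.trans hle
    have h2 : (⟨M, hM.isPrime⟩ : PrimeSpectrum A) ∈ PrimeSpectrum.zeroLocus (I : Set A) := by
      rw [PrimeSpectrum.mem_zeroLocus, SetLike.coe_subset_coe]
      exact le_sup_right.trans hle
    rw [hK] at h1
    exact h1 (hI h2)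
  have h1 : (1 : A) ∈ K ⊔ I := by rw [htop]; trivial
  obtain ⟨k, hk, g, hg, hkg⟩ := Submodule.mem_sup.mp h1
  refine ⟨g, hg, ?_⟩
  intro p
  by_cases hp : p ∈ U
  · obtain ⟨q', hq'⟩ := hp
    refine ⟨PrimeSpectrum.comap (RingHom.fst E (Localization.Away g)) q', ?_⟩
    rw [← hq']
    rfl
  · have hpK : p ∈ PrimeSpectrum.zeroLocus (K : Set A) := by rw [hK]; exact hp
    have hgp : g ∉ p.asIdeal := by
      intro hgp
      have hkp : k ∈ p.asIdeal := hpK hk
      have : (1 : A) ∈ p.asIdeal := by rw [← hkg]; exact add_mem hkp hgp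
      exact p.2.ne_top ((Ideal.eq_top_iff_one _).mpr this)
    have : p ∈ Set.range (PrimeSpectrum.comap (algebraMap A (Localization.Away g))) := by
      rw [PrimeSpectrum.localization_away_comap_range (Localization.Away g) g]
      exact hgp
    obtain ⟨q', hq'⟩ := this
    refine ⟨PrimeSpectrum.comap (RingHom.snd E (Localization.Away g)) q', ?_⟩
    rw [← hq']
    rfl

/-- a retraction of `E × A_g` with `g ∈ I` kills `I E` and `0 × A_g` modulo `I` -/
theorem exists_retraction (h : ProEtW.HasEtaleRetractions A) (E : Type u) [CommRing E]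
    [Algebra A E] [Algebra.Etale A E]
    (hI : PrimeSpectrum.zeroLocus (I : Set A) ⊆ Set.range (PrimeSpectrum.comap (algebraMap A E))) :
    ∃ (F : Type u) (_ : CommRing F) (_ : Algebra A F) (τ : (E × F) →ₐ[A] (A ⧸ I)),
      ∀ y : F, τ (0, y) = 0 := by
  obtain ⟨g, hg, hsurj⟩ := exists_cover I E hI
  haveI : Algebra.Etale A (E × Localization.Away g) := EtProd.etale_prod A E _
  have hff : Module.FaithfullyFlat A (E × Localization.Away g) :=
    Module.FaithfullyFlat.of_comap_surjective hsurj
  obtain ⟨σ⟩ := h (E × Localization.Away g) hff inferInstance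
  refine ⟨Localization.Away g, inferInstance, inferInstance,
    (Ideal.Quotient.mkₐ A I).comp σ, ?_⟩
  intro y
  have h1 : ((0 : E), y) = g • ((0 : E), y * IsLocalization.Away.invSelf g) := by
    ext
    · simp
    · show y = g • (y * IsLocalization.Away.invSelf g)
      rw [Algebra.smul_def, mul_comm y, ← mul_assoc, IsLocalization.Away.mul_invSelf, one_mul]
  rw [h1, map_smul, Algebra.smul_def, Ideal.Quotient.algebraMap_eq,
    Ideal.Quotient.eq_zero_iff_mem.mpr hg, zero_mul]

end Groth.Agent.Lib.Helper20.EtQuot
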