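import Mathlib
import Groth.Prelude.Def_ProEtW
import Groth.Agent.Lib.Helper20.EtQuot2

namespace Groth.Agent.Lib.Helper20.EtQuot

universe u

variable {A : Type u} [CommRing A] (I : Ideal A)

section Kill

variable {ι : Type u} [Fintype ι] [DecidableEq ι] (R : ι → Type u) [∀ i, CommRing (R i)]
  [∀ i, Algebra A (R i)] (F : Type u) [CommRing F] [Algebra A F]
  (τ : ((Π i, R i) × F) →ₐ[A] (A ⧸ I)) (hτ : ∀ y : F, τ (0, y) = 0)

theorem kill_single (i : ι) (w : R i) (hw : w ∈ I.map (algebraMap A (R i))) :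
    τ (Pi.single i w, 0) = 0 := by
  induction hw using Submodule.span_induction with
  | mem w hw =>
    obtain ⟨a, ha, rfl⟩ := hw
    have : ((Pi.single i (algebraMap A (R i) a) : Π i, R i), (0 : F)) =
        a • ((Pi.single i 1 : Π i, R i), (0 : F)) := by
      rw [Prod.smul_mk, smul_zero, ← Pi.single_smul, Algebra.algebraMap_eq_smul_one]
    rw [this, map_smul, Algebra.smul_def, Ideal.Quotient.algebraMap_eq,
      Ideal.Quotient.eq_zero_iff_mem.mpr ha, zero_mul]
  | zero =>
    rw [Pi.single_zero]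
    exact map_zero τ
  | add u v _ _ hu hv =>
    have : ((Pi.single i (u + v) : Π i, R i), (0 : F)) =
        (Pi.single i u, 0) + (Pi.single i v, 0) := by
      rw [Prod.mk_add_mk, add_zero, Pi.single_add]
    rw [this, map_add, hu, hv, add_zero]
  | smul r w _ hw =>
    have : ((Pi.single i (r • w) : Π i, R i), (0 : F)) =
        (Pi.single i r, 0) * (Pi.single i w, 0) := by
      rw [Prod.mk_mul_mk, mul_zero, ← Pi.single_mul, smul_eq_mul]
    rw [this, map_mul, hw, mul_zero]

include hτ in
theorem kill (z : Π i, R i) (hz : ∀ i, z i ∈ I.map (algebraMap A (R i))) (y : F) :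
    τ (z, y) = 0 := by
  have h1 : (z, y) = (z, (0 : F)) + ((0 : Π i, R i), y) := by
    rw [Prod.mk_add_mk, add_zero, zero_add]
  have h2 : (z, (0 : F)) = ∑ i, ((Pi.single i (z i) : Π i, R i), (0 : F)) := by
    ext : 1
    · rw [Prod.fst_sum]
      exact (Finset.univ_sum_single z).symm
    · rw [Prod.snd_sum]
      simp
  rw [h1, map_add, hτ, add_zero, h2, map_sum]
  exact Finset.sum_eq_zero (fun i _ => kill_single I R F τ i (z i) (hz i))

end Kill

end Groth.Agent.Lib.Helper20.EtQuot
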