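import Mathlib
import Groth.Prelude.Def_ProEtW
import Groth.Agent.Lib.Helper20.EtQuot3

namespace Groth.Agent.Lib.Helper20.EtQuot

universe u

variable {A : Type u} [CommRing A] (I : Ideal A)

section Main

variable (B : Type u) [CommRing B] [Algebra A B]
  [Algebra (A ⧸ I) B] [IsScalarTower A (A ⧸ I) B] [Module.FaithfullyFlat (A ⧸ I) B]
  [Algebra.Etale (A ⧸ I) B]

theorem exists_chart (x : PrimeSpectrum (A ⧸ I)) :
    ∃ fx : B, x ∈ Set.range (PrimeSpectrum.comap (algebraMap (A ⧸ I) (Localization.Away fx))) ∧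
      Algebra.IsStandardEtale (A ⧸ I) (Localization.Away fx) := by
  obtain ⟨q, hq⟩ := PrimeSpectrum.comap_surjective_of_faithfullyFlat (A := A ⧸ I) (B := B) x
  obtain ⟨fx, hfq, hst⟩ := Algebra.IsEtaleAt.exists_isStandardEtale (R := A ⧸ I) q.asIdeal
  refine ⟨fx, ?_, hst⟩
  have : q ∈ Set.range (PrimeSpectrum.comap (algebraMap B (Localization.Away fx))) := by
    rw [PrimeSpectrum.localization_away_comap_range (Localization.Away fx) fx]
    exact hfq
  obtain ⟨q', hq'⟩ := this
  refine ⟨q', ?_⟩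
  rw [← hq, ← hq', IsScalarTower.algebraMap_eq (A ⧸ I) B (Localization.Away fx)]
  rfl

variable (h : ProEtW.HasEtaleRetractions A)

include h in
theorem main : Nonempty (B →ₐ[A ⧸ I] A ⧸ I) := by
  classical
  choose fx hfx hst using exists_chart I B
  have hopen : ∀ x, IsOpen (Set.range
      (PrimeSpectrum.comap (algebraMap (A ⧸ I) (Localization.Away (fx x))))) := by
    intro x
    haveI := hst x
    exact (PrimeSpectrum.isOpenMap_comap_of_hasGoingDown_of_finitePresentation).isOpen_range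
  obtain ⟨t, ht⟩ := isCompact_univ.elim_finite_subcover _ hopen
    (fun x _ => Set.mem_iUnion.mpr ⟨x, hfx x⟩)
  have hP : ∀ x, ∃ P : StandardEtalePair A,
      Nonempty (P.Ring →ₐ[A] Localization.Away (fx x)) ∧
      Nonempty (Localization.Away (fx x) →ₐ[A ⧸ I] (P.Ring ⧸ I.map (algebraMap A P.Ring))) := by
    intro x
    haveI := hst x
    exact exists_lift_pair I (Localization.Away (fx x))
  choose P ha hb using hP
  let R : t → Type u := fun x => (P x.1).Ring
  let E₁ := Π x : t, R x
  -- the image of `Spec E₁` contains `V(I)`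
  have hV : PrimeSpectrum.zeroLocus (I : Set A) ⊆
      Set.range (PrimeSpectrum.comap (algebraMap A E₁)) := by
    intro p hp
    have hp' : p ∈ Set.range (PrimeSpectrum.comap (Ideal.Quotient.mk I)) := by
      rw [_root_.range_comap_of_surjective _ _ Ideal.Quotient.mk_surjective, Ideal.mk_ker]
      exact hp
    obtain ⟨pb, hpb⟩ := hp'
    have := ht (Set.mem_univ pb)
    simp only [Set.mem_iUnion] at this
    obtain ⟨x, hx, q', hq'⟩ := this
    obtain ⟨a⟩ := ha x
    refine ⟨PrimeSpectrum.comap (Pi.evalRingHom R ⟨x, hx⟩) (PrimeSpectrum.comap a.toRingHom q'), ?_⟩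
    apply PrimeSpectrum.ext
    ext r
    rw [← hpb, ← hq']
    simp only [PrimeSpectrum.comap_asIdeal, Ideal.mem_comap]
    show a (algebraMap A (P x).Ring r) ∈ q'.asIdeal ↔ _
    rw [a.commutes, IsScalarTower.algebraMap_apply A (A ⧸ I) (Localization.Away (fx x))]
    rfl
  obtain ⟨F, _, _, τ, hτ⟩ := exists_retraction I h E₁ hV
  -- the quotients
  let Q : t → Type u := fun x => (P x.1).Ring ⧸ I.map (algebraMap A (P x.1).Ring)
  let Θ : (E₁ × F) →+* (Π x : t, Q x) :=
    (Pi.ringHom fun x => (Ideal.Quotient.mk _).comp (Pi.evalRingHom R x)).comp (RingHom.fst E₁ F)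
  have hΘ : Function.Surjective Θ := by
    intro w
    choose z hz using fun x => Ideal.Quotient.mk_surjective (w x)
    refine ⟨(z, 0), ?_⟩
    funext x
    exact hz x
  have hker : RingHom.ker Θ ≤ RingHom.ker τ.toRingHom := by
    rintro ⟨z, y⟩ hzy
    rw [RingHom.mem_ker] at hzy ⊢
    refine kill I R F τ hτ z (fun x => ?_) y
    have := congrFun hzy x
    exact Ideal.Quotient.eq_zero_iff_mem.mp this
  let ρ' : (Π x : t, Q x) →+* (A ⧸ I) := Θ.liftOfSurjective hΘ ⟨τ.toRingHom, hker⟩
  have hρ' : ∀ e, ρ' (Θ e) = τ e := fun e =>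
    Θ.liftOfRightInverse_comp_apply _ _ ⟨τ.toRingHom, hker⟩ e
  let β : B →+* (Π x : t, Q x) :=
    Pi.ringHom fun x => (hb x.1).some.toRingHom.comp (algebraMap B (Localization.Away (fx x.1)))
  refine ⟨{ ρ'.comp β with commutes' := ?_ }⟩
  intro ab
  obtain ⟨a, rfl⟩ := Ideal.Quotient.mk_surjective ab
  show ρ' (β (algebraMap (A ⧸ I) B (Ideal.Quotient.mk I a))) = _
  have h1 : β (algebraMap (A ⧸ I) B (Ideal.Quotient.mk I a)) = Θ (algebraMap A (E₁ × F) a) := by
    funext x
    show (hb x.1).some (algebraMap B (Localization.Away (fx x.1))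
      (algebraMap (A ⧸ I) B (Ideal.Quotient.mk I a))) = _
    rw [← IsScalarTower.algebraMap_apply (A ⧸ I) B (Localization.Away (fx x.1)),
      AlgHom.commutes]
    rfl
  rw [h1, hρ', AlgHom.commutes]
  rfl

end Main

theorem hasEtaleRetractions_quotient (h : ProEtW.HasEtaleRetractions A) :
    ProEtW.HasEtaleRetractions (A ⧸ I) := by
  intro B _ _ hff het
  letI : Algebra A B := Algebra.compHom B (Ideal.Quotient.mk I)
  haveI : IsScalarTower A (A ⧸ I) B := IsScalarTower.of_algebraMap_eq (fun _ => rfl)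
  exact main I B h

end Groth.Agent.Lib.Helper20.EtQuot
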