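import Mathlib

/-!
# The Galois map trick for a Hopf algebra over a Hopf subalgebra

For a bialgebra map `ψ : C → A` of commutative Hopf algebras over a field with `A ⧸ ψ(C⁺)A` a local
ring (and `A` of finite type), the diagonal ideal of `A ⊗[C] A` is nil.
-/

set_option autoImplicit false
universe u
noncomputable section
namespace Groth.Agent.Lib.Helper20.HopfGalois

open TensorProduct Coalgebra

section general
variable {k A : Type*} [CommRing k] [CommRing A] [HopfAlgebra k A]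

/-- `x ⊗ y ↦ Σ x S(y₁) ⊗ y₂`. -/
def psi1 : A ⊗[k] A →ₐ[k] A ⊗[k] A :=
  Algebra.TensorProduct.lift (Algebra.TensorProduct.includeLeft : A →ₐ[k] A ⊗[k] A)
    ((Algebra.TensorProduct.map (HopfAlgebra.antipodeAlgHom k A) (AlgHom.id k A)).comp
      (Bialgebra.comulAlgHom k A)) (fun _ _ => Commute.all _ _)

theorem psi1_tmul (x y : A) : psi1 (k := k) (x ⊗ₜ[k] y) =
    (x ⊗ₜ[k] 1) * Algebra.TensorProduct.map (HopfAlgebra.antipodeAlgHom k A) (AlgHom.id k A)
      (comul y) := by
  simp [psi1]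

/-- auxiliary linear map `u ⊗ (v ⊗ w) ↦ u S(v) ⊗ w` -/
def G : A ⊗[k] (A ⊗[k] A) →ₗ[k] A ⊗[k] A :=
  (LinearMap.rTensor A (LinearMap.mul' k A ∘ₗ LinearMap.lTensor A (HopfAlgebra.antipode k))) ∘ₗ
    (TensorProduct.assoc k A A A).symm.toLinearMap

theorem G_tmul (u v w : A) : G (k := k) (u ⊗ₜ[k] (v ⊗ₜ[k] w)) =
    (u * HopfAlgebra.antipode k v) ⊗ₜ[k] w := by
  simp [G]

theorem mul_T_eq_G (x : A) (z : A ⊗[k] A) :
    (x ⊗ₜ[k] 1) * Algebra.TensorProduct.map (HopfAlgebra.antipodeAlgHom k A) (AlgHom.id k A) z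
      = G (k := k) (x ⊗ₜ[k] z) := by
  induction z using TensorProduct.induction_on with
  | zero => simp
  | tmul v w =>
    rw [G_tmul, Algebra.TensorProduct.map_tmul, Algebra.TensorProduct.tmul_mul_tmul, one_mul]
    rfl
  | add z₁ z₂ h₁ h₂ => rw [map_add, mul_add, h₁, h₂, tmul_add, map_add]

theorem psi1_eq_G (w : A ⊗[k] A) :
    psi1 (k := k) w = G (k := k) (LinearMap.lTensor A (comul (R := k) (A := A)) w) := by
  induction w using TensorProduct.induction_on with
  | zero => simp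
  | tmul x y => rw [psi1_tmul, mul_T_eq_G, LinearMap.lTensor_tmul]
  | add z₁ z₂ h₁ h₂ => rw [map_add, h₁, h₂, map_add, map_add]

theorem psi1_comul (a : A) : psi1 (k := k) (comul a) = 1 ⊗ₜ[k] a := by
  rw [psi1_eq_G, G, LinearMap.comp_apply, LinearEquiv.coe_coe, coassoc_symm_apply,
    ← LinearMap.rTensor_comp_apply]
  have h1 : (LinearMap.mul' k A ∘ₗ LinearMap.lTensor A (HopfAlgebra.antipode k)) ∘ₗ
      (comul (R := k) (A := A)) = Algebra.linearMap k A ∘ₗ counit := by
    ext a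
    simp
  rw [h1, LinearMap.rTensor_comp_apply, rTensor_counit_comul]
  simp

end general

section relative
variable {k A C : Type*} [CommRing k] [CommRing A] [HopfAlgebra k A] [CommRing C]
  [HopfAlgebra k C] (ψ : C →ₐc[k] A) [Algebra C A] [IsScalarTower k C A]

/-- the canonical surjection `A ⊗[k] A → A ⊗[C] A` -/
def q : A ⊗[k] A →ₐ[k] A ⊗[C] A := Algebra.TensorProduct.mapOfCompatibleSMul C k k A A

@[simp] theorem q_tmul (x y : A) : q (k := k) (C := C) (x ⊗ₜ[k] y) = x ⊗ₜ[C] y := rfl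

/-- `x ⊗ y ↦ Σ x S(y₁) ⊗_C y₂` -/
def Psi0 : A ⊗[k] A →ₐ[k] A ⊗[C] A := (q (k := k) (C := C)).comp psi1

theorem Psi0_tmul_one (a : A) : Psi0 (k := k) (C := C) (a ⊗ₜ[k] 1) = a ⊗ₜ[C] 1 := by
  rw [Psi0, AlgHom.comp_apply, psi1_tmul]
  have : comul (R := k) (1 : A) = 1 := Bialgebra.comul_one
  rw [this, map_one, mul_one, q_tmul]

theorem Psi0_comul (a : A) : Psi0 (k := k) (C := C) (comul a) = 1 ⊗ₜ[C] a := by
  rw [Psi0, AlgHom.comp_apply, psi1_comul, q_tmul]

variable (hψ : ∀ c, algebraMap C A c = ψ c)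
include hψ

theorem q_T_map (w : C ⊗[k] C) :
    q (k := k) (C := C) (Algebra.TensorProduct.map (HopfAlgebra.antipodeAlgHom k A) (AlgHom.id k A)
      (TensorProduct.map (ψ : C →ₗ[k] A) (ψ : C →ₗ[k] A) w)) =
    (LinearMap.mul' k A (LinearMap.rTensor A (HopfAlgebra.antipode k)
      (TensorProduct.map (ψ : C →ₗ[k] A) (ψ : C →ₗ[k] A) w))) ⊗ₜ[C] 1 := by
  induction w using TensorProduct.induction_on with
  | zero => simp
  | tmul c₁ c₂ =>
    simp only [TensorProduct.map_tmul, Algebra.TensorProduct.map_tmul, q_tmul,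
      LinearMap.rTensor_tmul, LinearMap.mul'_apply, AlgHom.coe_id, id_eq]
    have h1 : ((ψ : C →ₗ[k] A) c₂) = c₂ • (1 : A) := by
      rw [Algebra.smul_def, mul_one, hψ]; rfl
    rw [h1, TensorProduct.tmul_smul, TensorProduct.smul_tmul', mul_smul_comm, mul_one]
    rfl
  | add z₁ z₂ h₁ h₂ =>
    simp only [map_add, add_tmul, h₁, h₂]

theorem Psi0_one_tmul (c : C) :
    Psi0 (k := k) (C := C) (1 ⊗ₜ[k] ψ c) = algebraMap k (A ⊗[C] A) (counit (R := k) c) := by
  rw [Psi0, AlgHom.comp_apply, psi1_tmul, ← Algebra.TensorProduct.one_def, one_mul]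
  have h1 : comul (R := k) (ψ c) = TensorProduct.map (ψ : C →ₗ[k] A) (ψ : C →ₗ[k] A)
      (comul (R := k) c) := (CoalgHomClass.map_comp_comul_apply ψ c).symm
  rw [h1, q_T_map ψ hψ, ← h1, HopfAlgebra.mul_antipode_rTensor_comul_apply]
  have h2 : counit (R := k) (ψ c) = counit (R := k) c := CoalgHomClass.counit_comp_apply ψ c
  rw [h2]
  rw [Algebra.TensorProduct.algebraMap_apply]

end relative

section main
variable {k A C : Type u} [Field k] [CommRing A] [HopfAlgebra k A] [Algebra.FiniteType k A]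
  [CommRing C] [HopfAlgebra k C] (ψ : C →ₐc[k] A) [Algebra C A] [IsScalarTower k C A]
  (hψ : ∀ c, algebraMap C A c = ψ c)
  (J : Ideal A) (hJ : J = Ideal.map (ψ : C →+* A) (RingHom.ker (Bialgebra.counitAlgHom k C)))
  [IsLocalRing (A ⧸ J)]

include hψ hJ in
theorem diag_nilpotent (a : A) : IsNilpotent (a ⊗ₜ[C] (1 : A) - (1 : A) ⊗ₜ[C] a) := by
  have hJε : ∀ x ∈ J, Bialgebra.counitAlgHom k A x = 0 := by
    intro x hx
    have hle : J ≤ RingHom.ker (Bialgebra.counitAlgHom k A) := by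
      rw [hJ, Ideal.map_le_iff_le_comap]
      intro c hc
      rw [Ideal.mem_comap, RingHom.mem_ker]
      have h2 : counit (R := k) (ψ c) = counit (R := k) c := CoalgHomClass.counit_comp_apply ψ c
      rw [RingHom.mem_ker] at hc
      change counit (R := k) (ψ c) = 0
      rw [h2]; exact hc
    exact hle hx
  set π : A →ₐ[k] A ⧸ J := Ideal.Quotient.mkₐ k J with hπ
  set εb : A ⧸ J →ₐ[k] k := Ideal.Quotient.liftₐ J (Bialgebra.counitAlgHom k A) hJε with hεb
  have hεb_surj : Function.Surjective εb := fun t => ⟨algebraMap k _ t, by simp⟩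
  have hmax : (RingHom.ker εb).IsMaximal := RingHom.ker_isMaximal_of_surjective _ hεb_surj
  have hker_eq : RingHom.ker εb = IsLocalRing.maximalIdeal (A ⧸ J) :=
    IsLocalRing.eq_maximalIdeal hmax
  have : IsJacobsonRing (A ⧸ J) := isJacobsonRing_of_finiteType (A := k)
  have : IsNoetherianRing (A ⧸ J) := Algebra.FiniteType.isNoetherianRing k _
  have hnil : IsLocalRing.maximalIdeal (A ⧸ J) = nilradical (A ⧸ J) := by
    have h1 := IsLocalRing.jacobson_eq_maximalIdeal (nilradical (A ⧸ J))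
      (by
        intro h
        have : (1 : A ⧸ J) ∈ nilradical (A ⧸ J) := h ▸ Submodule.mem_top
        obtain ⟨n, hn⟩ := mem_nilradical.mp this
        rw [one_pow] at hn
        exact one_ne_zero hn)
    rw [← h1]
    exact IsJacobsonRing.out' _ (show ((0 : Ideal (A ⧸ J)).radical).IsRadical from Ideal.radical_isRadical _)
  obtain ⟨n, hn⟩ := IsNoetherianRing.isNilpotent_nilradical (A ⧸ J)
  have hpow : RingHom.ker εb ^ n = ⊥ := by rw [hker_eq, hnil]; exact hn
  -- the element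
  set z : A ⊗[k] (A ⧸ J) := Algebra.TensorProduct.map (AlgHom.id k A) π
    (comul (R := k) a - a ⊗ₜ[k] 1) with hz
  have hz0 : Algebra.TensorProduct.map (AlgHom.id k A) εb z = 0 := by
    have hcomp : ∀ w : A ⊗[k] A, Algebra.TensorProduct.map (AlgHom.id k A) εb
        (Algebra.TensorProduct.map (AlgHom.id k A) π w) =
        LinearMap.lTensor A (counit (R := k) (A := A)) w := by
      intro w
      induction w using TensorProduct.induction_on with
      | zero => simp
      | tmul x y =>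
        simp only [hπ, hεb, Algebra.TensorProduct.map_tmul, AlgHom.coe_id, id_eq,
          LinearMap.lTensor_tmul]
        rfl
      | add z₁ z₂ h₁ h₂ => simp only [map_add, h₁, h₂]
    rw [hz, hcomp, map_sub, lTensor_counit_comul]
    simp
  have hzmem : z ∈ Ideal.map (Algebra.TensorProduct.includeRight : A ⧸ J →ₐ[k] A ⊗[k] (A ⧸ J))
      (RingHom.ker εb) := by
    rw [← Algebra.TensorProduct.lTensor_ker εb hεb_surj]
    exact hz0
  have hzn : z ^ n = 0 := by
    have h1 := Ideal.pow_mem_pow hzmem n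
    rw [← Ideal.map_pow, hpow, Ideal.map_bot] at h1
    exact h1
  have hmemJ : (comul (R := k) a - a ⊗ₜ[k] 1) ^ n ∈
      Ideal.map (Algebra.TensorProduct.includeRight : A →ₐ[k] A ⊗[k] A) J := by
    have hπsurj : Function.Surjective π := Ideal.Quotient.mkₐ_surjective k J
    have hkerπ : RingHom.ker π = J := by
      ext x; simp [hπ, RingHom.mem_ker, Ideal.Quotient.eq_zero_iff_mem]
    rw [← hkerπ, ← Algebra.TensorProduct.lTensor_ker π hπsurj, RingHom.mem_ker, map_pow]
    exact hzn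
  have hkill : Ideal.map (Algebra.TensorProduct.includeRight : A →ₐ[k] A ⊗[k] A) J ≤
      RingHom.ker (Psi0 (k := k) (C := C) (A := A)) := by
    rw [hJ, Ideal.map_le_iff_le_comap, Ideal.map_le_iff_le_comap]
    intro c hc
    rw [Ideal.mem_comap, Ideal.mem_comap, RingHom.mem_ker]
    rw [RingHom.mem_ker] at hc
    have := Psi0_one_tmul ψ hψ c
    change Psi0 (k := k) (C := C) (1 ⊗ₜ[k] ψ c) = 0
    rw [this]
    change algebraMap k (A ⊗[C] A) (Bialgebra.counitAlgHom k C c) = 0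
    rw [hc, map_zero]
  have h3 := hkill hmemJ
  rw [RingHom.mem_ker, map_pow, map_sub, Psi0_comul, Psi0_tmul_one] at h3
  have h4 : IsNilpotent ((1 : A) ⊗ₜ[C] a - a ⊗ₜ[C] (1 : A)) := ⟨n, h3⟩
  have h5 := h4.neg
  rwa [neg_sub] at h5

end main

end Groth.Agent.Lib.Helper20.HopfGalois
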