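import Mathlib

/-!
# Radiciel algebras over an étale algebra over a perfect field

If `C` is finite over a perfect field `k`, `A` is a `C`-algebra of finite type over `k` and the
diagonal ideal of `A ⊗[C] A` is nil, then `A = C + nil(A)`.
-/

set_option autoImplicit false
set_option linter.style.haveILetI false
universe u
noncomputable section
namespace Groth.Agent.Lib.Helper20.RadicielLift

open TensorProduct

variable (k : Type u) {C A : Type u} [Field k] [PerfectField k] [CommRing C] [CommRing A]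
  [Algebra k C] [Algebra k A] [Algebra C A] [IsScalarTower k C A] [Module.Finite k C]
  [Algebra.FiniteType k A]
include k

omit [Module.Finite k C] in
theorem exists_c_of_max
    (hnil : ∀ a : A, IsNilpotent (a ⊗ₜ[C] (1 : A) - (1 : A) ⊗ₜ[C] a))
    (n : Ideal C) [n.IsMaximal] (m₁ : Ideal A) [m₁.IsMaximal]
    (h₁ : m₁.comap (algebraMap C A) = n) (a : A) :
    ∃ c : C, ∀ m₂ : Ideal A, m₂.IsMaximal → m₂.comap (algebraMap C A) = n →
      a - algebraMap C A c ∈ m₂ := by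
  letI : Field (A ⧸ m₁) := Ideal.Quotient.field m₁
  letI : Field (C ⧸ n) := Ideal.Quotient.field n
  have hn₁ : ∀ c ∈ n, algebraMap C (A ⧸ m₁) c = 0 := by
    intro c hc
    rw [IsScalarTower.algebraMap_apply C A (A ⧸ m₁), Ideal.Quotient.algebraMap_eq,
      Ideal.Quotient.eq_zero_iff_mem]
    rw [← h₁] at hc; exact hc
  letI alg₁ : Algebra (C ⧸ n) (A ⧸ m₁) :=
    (Ideal.Quotient.lift n (algebraMap C (A ⧸ m₁)) hn₁).toAlgebra
  haveI : IsScalarTower C (C ⧸ n) (A ⧸ m₁) := IsScalarTower.of_algebraMap_eq (fun c => rfl)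
  obtain ⟨φ, hφ⟩ := LinearMap.exists_leftInverse_of_injective
    (Algebra.linearMap (C ⧸ n) (A ⧸ m₁))
    (LinearMap.ker_eq_bot.mpr (algebraMap (C ⧸ n) (A ⧸ m₁)).injective)
  have hφ1 : φ 1 = 1 := by
    have := LinearMap.congr_fun hφ 1
    simpa using this
  obtain ⟨c, hc⟩ := Ideal.Quotient.mk_surjective (φ (Ideal.Quotient.mk m₁ a))
  refine ⟨c, fun m₂ hm₂ h₂ => ?_⟩
  haveI := hm₂
  letI : Field (A ⧸ m₂) := Ideal.Quotient.field m₂
  have hn₂ : ∀ c ∈ n, algebraMap C (A ⧸ m₂) c = 0 := by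
    intro c hc
    rw [IsScalarTower.algebraMap_apply C A (A ⧸ m₂), Ideal.Quotient.algebraMap_eq,
      Ideal.Quotient.eq_zero_iff_mem]
    rw [← h₂] at hc; exact hc
  letI alg₂ : Algebra (C ⧸ n) (A ⧸ m₂) :=
    (Ideal.Quotient.lift n (algebraMap C (A ⧸ m₂)) hn₂).toAlgebra
  haveI : IsScalarTower C (C ⧸ n) (A ⧸ m₂) := IsScalarTower.of_algebraMap_eq (fun c => rfl)
  haveI : Module.Finite k (A ⧸ m₁) := finite_of_finite_type_of_isJacobsonRing k (A ⧸ m₁)
  haveI : Algebra.IsSeparable k (A ⧸ m₁) := Algebra.IsAlgebraic.isSeparable_of_perfectField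
  haveI : Algebra.FormallyUnramified k (A ⧸ m₁) := Algebra.FormallyUnramified.of_isSeparable k _
  haveI : Algebra.FormallyUnramified C (A ⧸ m₁) :=
    Algebra.FormallyUnramified.of_restrictScalars (R := k) (A := C) (B := A ⧸ m₁)
  haveI : Module.Finite C (A ⧸ m₁) := Module.Finite.of_restrictScalars_finite k C _
  haveI : IsReduced ((A ⧸ m₂) ⊗[C] (A ⧸ m₁)) :=
    Algebra.FormallyUnramified.isReduced_of_field (A ⧸ m₂) _
  set f : A ⊗[C] A →ₐ[C] (A ⧸ m₂) ⊗[C] (A ⧸ m₁) :=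
    Algebra.TensorProduct.map (Ideal.Quotient.mkₐ C m₂) (Ideal.Quotient.mkₐ C m₁) with hf
  have h0 : (Ideal.Quotient.mk m₂ a) ⊗ₜ[C] (1 : A ⧸ m₁) -
      (1 : A ⧸ m₂) ⊗ₜ[C] (Ideal.Quotient.mk m₁ a) = 0 := by
    have h := ((hnil a).map f).eq_zero
    rw [map_sub] at h
    simpa [hf] using h
  let B : (A ⧸ m₂) →ₗ[C] (A ⧸ m₁) →ₗ[C] (A ⧸ m₂) :=
    LinearMap.mk₂ C (fun l x => φ x • l)
      (fun l₁ l₂ x => smul_add _ _ _)
      (fun c l x => smul_comm _ _ _)
      (fun l x y => by rw [map_add, add_smul])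
      (fun c l x => by rw [LinearMap.map_smul_of_tower, smul_assoc])
  have h3 := congrArg (TensorProduct.lift B) h0
  rw [map_sub, map_zero, TensorProduct.lift.tmul, TensorProduct.lift.tmul] at h3
  simp only [B, LinearMap.mk₂_apply, hφ1, one_smul, ← hc] at h3
  rw [← Ideal.Quotient.mk_eq_mk_iff_sub_mem] 
  rw [sub_eq_zero] at h3
  rw [h3, Algebra.smul_def, mul_one]
  rfl

theorem exists_sub_nilpotent
    (hnil : ∀ a : A, IsNilpotent (a ⊗ₜ[C] (1 : A) - (1 : A) ⊗ₜ[C] a)) (a : A) :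
    ∃ c : C, IsNilpotent (a - algebraMap C A c) := by
  haveI : IsArtinianRing C := IsArtinianRing.of_finite k C
  haveI : IsJacobsonRing A := isJacobsonRing_of_finiteType (A := k)
  have key : ∀ n : MaximalSpectrum C, ∃ c : C, ∀ m₂ : Ideal A, m₂.IsMaximal →
      m₂.comap (algebraMap C A) = n.asIdeal → a - algebraMap C A c ∈ m₂ := by
    intro n
    by_cases h : ∃ m₁ : Ideal A, m₁.IsMaximal ∧ m₁.comap (algebraMap C A) = n.asIdeal
    · obtain ⟨m₁, hm₁, h₁⟩ := h
      haveI := hm₁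
      haveI := n.isMaximal
      exact exists_c_of_max k hnil n.asIdeal m₁ h₁ a
    · exact ⟨0, fun m₂ hm₂ h₂ => absurd ⟨m₂, hm₂, h₂⟩ h⟩
  choose cn hcn using key
  have hcop : Pairwise (Function.onFun IsCoprime fun n : MaximalSpectrum C => n.asIdeal) := by
    intro n n' hne
    exact Ideal.isCoprime_iff_sup_eq.mpr (Ideal.IsMaximal.coprime_of_ne n.isMaximal n'.isMaximal
      (fun h => hne (MaximalSpectrum.ext h)))
  obtain ⟨c, hc⟩ := Ideal.exists_forall_sub_mem_ideal hcop cn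
  refine ⟨c, ?_⟩
  rw [← mem_nilradical]
  have hrad : ((0 : Ideal A).radical).IsRadical := Ideal.radical_isRadical _
  have hj : (nilradical A).jacobson = nilradical A := IsJacobsonRing.out' _ hrad
  rw [← hj, Ideal.jacobson, Ideal.mem_sInf]
  rintro m ⟨-, hm⟩
  haveI := hm
  haveI hprime : (m.comap (algebraMap C A)).IsPrime := Ideal.comap_isPrime _ _
  have hmaxn : (m.comap (algebraMap C A)).IsMaximal := IsArtinianRing.isMaximal_of_isPrime _
  have h1 := hcn ⟨_, hmaxn⟩ m hm rfl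
  have h2 : algebraMap C A (c - cn ⟨_, hmaxn⟩) ∈ m := hc ⟨_, hmaxn⟩
  have h3 : a - algebraMap C A c =
      (a - algebraMap C A (cn ⟨_, hmaxn⟩)) - algebraMap C A (c - cn ⟨_, hmaxn⟩) := by
    rw [map_sub]; ring
  rw [h3]; exact m.sub_mem h1 h2

end Groth.Agent.Lib.Helper20.RadicielLift
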