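import Mathlib
import Groth.Agent.Lib.Helper20.HopfGalois
import Groth.Agent.Lib.Helper20.RadicielLift

/-!
# Lifting an étale quotient of an algebraic group with radiciel kernel over a perfect field
-/

set_option autoImplicit false
set_option linter.style.haveILetI false
universe u
noncomputable section
namespace Groth.Agent.Lib.Helper20.EtaleLift

open TensorProduct

theorem main (k : Type u) [Field k] [PerfectField k] (A C : Type u) [CommRing A] [HopfAlgebra k A]
    [Algebra.FiniteType k A] [CommRing C] [HopfAlgebra k C] [Algebra.Etale k C] (ψ : C →ₐc[k] A)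
    (hψ : Function.Injective ψ) (J : Ideal A)
    (hJ : J = Ideal.map (ψ : C →+* A) (RingHom.ker (Bialgebra.counitAlgHom k C)))
    [IsLocalRing (A ⧸ J)] :
    (∃! r : A →ₐc[k] C, r.comp ψ = BialgHom.id k C) ∧
    ∀ r : A →ₐc[k] C, r.comp ψ = BialgHom.id k C →
      RingHom.ker (r : A →+* C) = nilradical A := by
  letI algCA : Algebra C A := (ψ : C →+* A).toAlgebra
  haveI : IsScalarTower k C A :=
    IsScalarTower.of_algebraMap_eq (fun t => (AlgHomClass.commutes ψ t).symm)
  have hψa : ∀ c, algebraMap C A c = ψ c := fun c => rfl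
  haveI : Module.Finite k C := Algebra.FormallyUnramified.finite_of_free k C
  haveI : IsReduced C := Algebra.FormallyUnramified.isReduced_of_field k C
  have hdiag := HopfGalois.diag_nilpotent ψ hψa J hJ
  have hex : ∀ a : A, ∃ c : C, a - ψ c ∈ nilradical A := fun a => by
    obtain ⟨c, hc⟩ := RadicielLift.exists_sub_nilpotent k hdiag a
    exact ⟨c, mem_nilradical.mpr hc⟩
  have D1 : ∀ (B : Type u) [CommRing B] [Algebra k B] [IsReduced B] (f g : A →ₐ[k] B),
      (∀ c, f (ψ c) = g (ψ c)) → f = g := by
    intro B _ _ _ f g hfg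
    ext a
    obtain ⟨c, hc⟩ := hex a
    have h1 : f (a - ψ c) = 0 := ((mem_nilradical.mp hc).map f).eq_zero
    have h2 : g (a - ψ c) = 0 := ((mem_nilradical.mp hc).map g).eq_zero
    rw [map_sub, sub_eq_zero] at h1 h2
    rw [h1, h2, hfg]
  have huniq : ∀ a : A, ∀ c c' : C, a - ψ c ∈ nilradical A → a - ψ c' ∈ nilradical A →
      c = c' := by
    intro a c c' h h'
    have h3 : ψ (c - c') ∈ nilradical A := by
      have : ψ (c - c') = (a - ψ c') - (a - ψ c) := by rw [map_sub]; ring
      rw [this]; exact (nilradical A).sub_mem h' h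
    obtain ⟨n, hn⟩ := mem_nilradical.mp h3
    rw [← map_pow] at hn
    have h4 : (c - c') ^ n = 0 := hψ (by rw [hn, map_zero])
    exact sub_eq_zero.mp (IsNilpotent.eq_zero ⟨n, h4⟩)
  choose r0 hr0 using hex
  have hr0ψ : ∀ c, r0 (ψ c) = c := fun c => huniq (ψ c) _ _ (hr0 _) (by simp)
  let r : A →ₐ[k] C :=
    { toFun := r0
      map_one' := by have := hr0ψ 1; rwa [map_one] at this
      map_mul' := fun a b => huniq (a * b) _ _ (hr0 _) (by
        have : a * b - ψ (r0 a * r0 b) = (a - ψ (r0 a)) * b + ψ (r0 a) * (b - ψ (r0 b)) := by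
          rw [map_mul]; ring
        rw [this]
        exact (nilradical A).add_mem ((nilradical A).mul_mem_right _ (hr0 a))
          ((nilradical A).mul_mem_left _ (hr0 b)))
      map_zero' := by have := hr0ψ 0; rwa [map_zero] at this
      map_add' := fun a b => huniq (a + b) _ _ (hr0 _) (by
        have : a + b - ψ (r0 a + r0 b) = (a - ψ (r0 a)) + (b - ψ (r0 b)) := by
          rw [map_add]; ring
        rw [this]
        exact (nilradical A).add_mem (hr0 a) (hr0 b))
      commutes' := fun t => by
        have := hr0ψ (algebraMap k C t)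
        rwa [AlgHomClass.commutes] at this }
  have hrapp : ∀ a, r a = r0 a := fun _ => rfl
  have hεr : (Bialgebra.counitAlgHom k C).comp r = Bialgebra.counitAlgHom k A := by
    apply D1 k
    intro c
    rw [AlgHom.comp_apply, hrapp, hr0ψ]
    exact (CoalgHomClass.counit_comp_apply ψ c).symm
  have hΔr : (Algebra.TensorProduct.map r r).comp (Bialgebra.comulAlgHom k A) =
      (Bialgebra.comulAlgHom k C).comp r := by
    haveI : IsReduced (C ⊗[k] C) := by
      haveI : Algebra.FormallyUnramified k (C ⊗[k] C) :=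
        Algebra.FormallyUnramified.comp k C (C ⊗[k] C)
      exact Algebra.FormallyUnramified.isReduced_of_field k _
    apply D1 (C ⊗[k] C)
    intro c
    rw [AlgHom.comp_apply, AlgHom.comp_apply, hrapp, hr0ψ]
    have h1 : Coalgebra.comul (R := k) (ψ c) = TensorProduct.map (ψ : C →ₗ[k] A)
        (ψ : C →ₗ[k] A) (Coalgebra.comul (R := k) c) :=
      (CoalgHomClass.map_comp_comul_apply ψ c).symm
    change Algebra.TensorProduct.map r r (Coalgebra.comul (R := k) (ψ c)) =
      Coalgebra.comul (R := k) c
    rw [h1]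
    generalize Coalgebra.comul (R := k) c = w
    induction w using TensorProduct.induction_on with
    | zero => simp
    | tmul x y =>
      rw [TensorProduct.map_tmul, Algebra.TensorProduct.map_tmul]
      change r0 (ψ x) ⊗ₜ[k] r0 (ψ y) = _
      rw [hr0ψ, hr0ψ]
    | add _ _ h1 h2 => simp only [map_add, h1, h2]
  let rb : A →ₐc[k] C := BialgHom.ofAlgHom r hεr hΔr
  have hrbψ : rb.comp ψ = BialgHom.id k C := by
    ext c
    exact hr0ψ c
  have hr'ψ : ∀ r' : A →ₐc[k] C, r'.comp ψ = BialgHom.id k C → ∀ c, r' (ψ c) = c := by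
    intro r' hr' c
    have := DFunLike.congr_fun hr' c
    simpa using this
  refine ⟨⟨rb, hrbψ, fun r' hr' => ?_⟩, fun r' hr' => ?_⟩
  · have h1 : (r' : A →ₐ[k] C) = r := D1 C _ _ (fun c => by
      change r' (ψ c) = r0 (ψ c)
      rw [hr'ψ r' hr' c, hr0ψ])
    ext a
    exact AlgHom.congr_fun h1 a
  · ext a
    rw [RingHom.mem_ker, mem_nilradical]
    constructor
    · intro h0
      have h1 := hr0 a
      have h2 : r' (a - ψ (r0 a)) = 0 := ((mem_nilradical.mp h1).map r').eq_zero
      rw [map_sub, hr'ψ r' hr'] at h2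
      have h3 : r' a = 0 := h0
      rw [h3, zero_sub, neg_eq_zero] at h2
      rw [h2, map_zero, sub_zero] at h1
      exact mem_nilradical.mp h1
    · intro hnil
      exact (hnil.map r').eq_zero

end Groth.Agent.Lib.Helper20.EtaleLift
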