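import Mathlib
import Groth.Agent.Lib.Helper20.ExtProd

/-!
# `⋀^m N ≃ ⋀^(m+r) (N × R^r)` when `⋀^(m+1) N = 0` (helper20)
-/

set_option autoImplicit false
universe u
open ExteriorAlgebra

namespace Groth.Agent.Lib.Helper20.ExtProd

section Gen

variable {R : Type u} [CommRing R] {N : Type u} [AddCommGroup N] [Module R N]

/-- if `⋀^k N = 0` then `⋀^(k+1) N = 0`. -/
theorem subsingleton_succ_of (k : ℕ) (h : Subsingleton (⋀[R]^k N)) :
    Subsingleton (⋀[R]^(k + 1) N) := by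
  suffices hx : ∀ x ∈ ⋀[R]^(k + 1) N, x = 0 from
    ⟨fun x y => Subtype.ext ((hx x x.2).trans (hx y y.2).symm)⟩
  intro x hx
  rw [← ExteriorAlgebra.ιMulti_span_fixedDegree] at hx
  refine Submodule.span_induction (p := fun x _ => x = 0) ?_ rfl ?_ ?_ hx
  · rintro _ ⟨v, rfl⟩
    rw [ExteriorAlgebra.ιMulti_succ_apply]
    have h0 : (⟨ExteriorAlgebra.ιMulti R k (Matrix.vecTail v),
        ExteriorAlgebra.ιMulti_range R k (Set.mem_range_self _)⟩ : ⋀[R]^k N) = 0 :=
      Subsingleton.elim _ _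
    have h1 : ExteriorAlgebra.ιMulti R k (Matrix.vecTail v) = 0 := congrArg Subtype.val h0
    rw [h1, mul_zero]
  · intro a b _ _ ha hb
    rw [ha, hb, add_zero]
  · intro r a _ ha
    rw [ha, smul_zero]

/-- if `⋀^(k+1) N = 0` then `⋀^(k+2) (N × R) = 0`. -/
theorem subsingleton_prod (k : ℕ) (h : Subsingleton (⋀[R]^(k + 1) N)) :
    Subsingleton (⋀[R]^(k + 1 + 1) (N × R)) := by
  have h' : Subsingleton (⋀[R]^(k + 1 + 1) N) := subsingleton_succ_of (k + 1) h
  refine ⟨fun x y => ?_⟩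
  have key : ∀ z : ⋀[R]^(k + 1 + 1) (N × R), (z : ExteriorAlgebra R (N × R)) = 0 := by
    intro z
    have h0 : (⟨Pm (z : ExteriorAlgebra R (N × R)), Pm_mem z.2⟩ : ⋀[R]^(k + 1 + 1) N) = 0 :=
      Subsingleton.elim _ _
    have h1 : Pm (z : ExteriorAlgebra R (N × R)) = 0 := congrArg Subtype.val h0
    have h2 : (⟨V (z : ExteriorAlgebra R (N × R)), V_mem z.2⟩ : ⋀[R]^(k + 1) N) = 0 :=
      Subsingleton.elim _ _
    have h3 : V (z : ExteriorAlgebra R (N × R)) = 0 := congrArg Subtype.val h2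
    have := decomp (z : ExteriorAlgebra R (N × R))
    rw [h1, h3, map_zero, map_zero, add_zero] at this
    exact this
  exact Subtype.ext ((key x).trans (key y).symm)

/-- `⋀^m N ≃ ⋀^(m+1) (N × R)` when `⋀^(m+1) N = 0`. -/
noncomputable def stepEquiv (m : ℕ) (h : Subsingleton (⋀[R]^(m + 1) N)) :
    ⋀[R]^m N ≃ₗ[R] ⋀[R]^(m + 1) (N × R) :=
  LinearEquiv.ofBijective (Wk m) ⟨Wk_injective m, Wk_surjective m h⟩

end Gen

section GenIter

variable {R : Type u} [CommRing R]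

theorem iterEquiv (r : ℕ) : ∀ (N : Type u) [AddCommGroup N] [Module R N] (m : ℕ),
    Subsingleton (⋀[R]^(m + 1) N) →
      Nonempty (⋀[R]^m N ≃ₗ[R] ⋀[R]^(m + r) (N × (Fin r → R))) := by
  induction r with
  | zero =>
    intro N _ _ m _
    exact ⟨mapEquiv m (LinearEquiv.prodUnique (R := R) (M := N) (M₂ := Fin 0 → R)).symm⟩
  | succ r ih =>
    intro N _ _ m h
    obtain ⟨e1⟩ := ih (N × R) (m + 1) (subsingleton_prod m h)
    have e : ((N × R) × (Fin r → R)) ≃ₗ[R] (N × (Fin (r + 1) → R)) :=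
      ((LinearEquiv.prodCongr (LinearEquiv.refl R N)
        (Fin.consLinearEquiv R (fun _ : Fin (r + 1) => R)).symm).trans
        (LinearEquiv.prodAssoc R N R (Fin r → R)).symm).symm
    have hm : m + 1 + r = m + (r + 1) := by omega
    have e2 : ⋀[R]^(m + 1 + r) ((N × R) × (Fin r → R)) ≃ₗ[R]
        ⋀[R]^(m + (r + 1)) (N × (Fin (r + 1) → R)) := by
      rw [hm]
      exact mapEquiv _ e
    exact ⟨(stepEquiv m h).trans (e1.trans e2)⟩

end GenIter

end Groth.Agent.Lib.Helper20.ExtProd
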