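import Mathlib
import Groth.Prelude.Def_Rees2
import Groth.Prelude.Def_CAlg

/-!
# The extended Rees algebra of a filtration: constant-coefficient map and the vertex
-/

set_option autoImplicit false
set_option linter.unusedSectionVars false
set_option linter.unusedVariables false
set_option linter.style.haveILetI false

universe u

namespace Groth.Agent.Lib.Helper20.ExtRees

open Polynomial LaurentPolynomial

variable {A : Type u} [CommRing A] (𝓕 : FiltBl.IdealFiltration A)

theorem F_le_one {n : ℕ} (hn : 1 ≤ n) : 𝓕.F n ≤ 𝓕.F 1 := 𝓕.antitone hn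

section C0

variable (m : Ideal A) (hm : 𝓕.F 1 ≤ m)

include hm in
theorem coeff_zero_mul (f g : 𝓕.extRees) :
    Ideal.Quotient.mk m (((f : A[T;T⁻¹]) * (g : A[T;T⁻¹])).coeff 0) =
      Ideal.Quotient.mk m ((f : A[T;T⁻¹]).coeff 0) *
        Ideal.Quotient.mk m ((g : A[T;T⁻¹]).coeff 0) := by
  classical
  rw [AddMonoidAlgebra.coeff_mul]
  simp only [Finsupp.sum, map_sum]
  rw [Finset.sum_eq_single 0]
  · rw [Finset.sum_eq_single 0]
    · simp
    · intro j _ hj
      rw [if_neg (by omega)]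
      simp
    · intro h0
      simp [Finsupp.notMem_support_iff.1 h0]
  · intro i _ hi
    apply Finset.sum_eq_zero
    intro j _
    split_ifs with h
    · rw [Ideal.Quotient.eq_zero_iff_mem]
      rcases lt_or_gt_of_ne hi with hneg | hpos
      · exact m.mul_mem_left _ (hm (F_le_one 𝓕 (by omega) (g.2 j)))
      · exact m.mul_mem_right _ (hm (F_le_one 𝓕 (by omega) (f.2 i)))
    · simp
  · intro h0
    simp [Finsupp.notMem_support_iff.1 h0]

/-- the constant coefficient modulo `m ⊇ F 1`, a ring homomorphism -/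
noncomputable def c0 : 𝓕.extRees →+* A ⧸ m where
  toFun f := Ideal.Quotient.mk m ((f : A[T;T⁻¹]).coeff 0)
  map_one' := by
    rw [Subalgebra.coe_one, ← LaurentPolynomial.T_zero, LaurentPolynomial.T_apply]
    simp
  map_mul' f g := by
    rw [Subalgebra.coe_mul]
    exact coeff_zero_mul 𝓕 m hm f g
  map_zero' := by simp
  map_add' f g := by
    rw [Subalgebra.coe_add, AddMonoidAlgebra.coeff_add, Finsupp.add_apply, map_add]

theorem c0_apply (f : 𝓕.extRees) :
    c0 𝓕 m hm f = Ideal.Quotient.mk m ((f : A[T;T⁻¹]).coeff 0) := rfl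

theorem c0_algebraMap (a : A) : c0 𝓕 m hm (algebraMap A 𝓕.extRees a) = Ideal.Quotient.mk m a := by
  rw [c0_apply]
  congr 1
  change ((algebraMap A A[T;T⁻¹] a)).coeff 0 = a
  rw [LaurentPolynomial.algebraMap_apply, Algebra.algebraMap_self, RingHom.id_apply,
    LaurentPolynomial.C_apply, if_pos rfl]

theorem c0_surjective : Function.Surjective (c0 𝓕 m hm) := by
  intro x
  obtain ⟨a, rfl⟩ := Ideal.Quotient.mk_surjective x
  exact ⟨algebraMap A 𝓕.extRees a, c0_algebraMap 𝓕 m hm a⟩

/-- the vertex: elements with constant coefficient in `m` -/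
noncomputable def vertex : Ideal 𝓕.extRees := RingHom.ker (c0 𝓕 m hm)

theorem mem_vertex_iff (f : 𝓕.extRees) :
    f ∈ vertex 𝓕 m hm ↔ (f : A[T;T⁻¹]).coeff 0 ∈ m := by
  unfold vertex
  rw [RingHom.mem_ker, c0_apply, Ideal.Quotient.eq_zero_iff_mem]

theorem vertex_isMaximal [hmm : m.IsMaximal] : (vertex 𝓕 m hm).IsMaximal := by
  letI : Field (A ⧸ m) := Ideal.Quotient.field m
  exact RingHom.ker_isMaximal_of_surjective _ (c0_surjective 𝓕 m hm)

theorem u_mem_vertex : 𝓕.u ∈ vertex 𝓕 m hm := by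
  rw [mem_vertex_iff]
  change (T (-1) : A[T;T⁻¹]).coeff 0 ∈ m
  rw [LaurentPolynomial.T_apply, if_neg (by omega)]
  exact m.zero_mem

end C0

theorem u_regular : IsSMulRegular 𝓕.extRees 𝓕.u := by
  intro f g hfg
  apply Subtype.ext
  have h : (T (-1) : A[T;T⁻¹]) * (f : A[T;T⁻¹]) = T (-1) * (g : A[T;T⁻¹]) := by
    have := congrArg (fun x : 𝓕.extRees => (x : A[T;T⁻¹])) hfg
    simp only [smul_eq_mul, Subalgebra.coe_mul] at this
    exact this
  exact (LaurentPolynomial.isUnit_T (-1)).mul_left_cancel h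

end Groth.Agent.Lib.Helper20.ExtRees
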