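import Mathlib
import Groth.Agent.Lib.Helper20.ExtRees1

/-!
# The extended Rees algebra: Noetherianity and homogeneous non-units
-/

set_option autoImplicit false
set_option linter.unusedSectionVars false
set_option linter.unusedVariables false
set_option linter.style.haveILetI false

universe u

namespace Groth.Agent.Lib.Helper20.ExtRees

open Polynomial LaurentPolynomial

variable {A : Type u} [CommRing A] (𝓕 : FiltBl.IdealFiltration A)

theorem coeff_toLaurent_natCast (f : A[X]) (k : ℕ) :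
    (toLaurent f).coeff (k : ℤ) = f.coeff k := by
  rw [coeff_toLaurent]
  exact Finsupp.mapDomain_apply Nat.castEmbedding.injective _ _

theorem coeff_toLaurent_of_neg (f : A[X]) (n : ℤ) (hn : n < 0) : (toLaurent f).coeff n = 0 := by
  rw [coeff_toLaurent]
  apply Finsupp.mapDomain_notin_range
  rintro ⟨k, hk⟩
  have : (k : ℤ) = n := hk
  omega

theorem toLaurent_mem (f : 𝓕.rees) : toLaurent (f : A[X]) ∈ 𝓕.extRees := by
  intro n
  rcases lt_or_ge n 0 with hn | hn
  · rw [coeff_toLaurent_of_neg _ _ hn]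
    exact Ideal.zero_mem _
  · obtain ⟨k, rfl⟩ := Int.eq_ofNat_of_zero_le hn
    rw [coeff_toLaurent_natCast, Int.toNat_natCast]
    exact f.2 k

/-- the inclusion of the Rees algebra into the extended Rees algebra -/
noncomputable def rho : 𝓕.rees →+* 𝓕.extRees :=
  ((Polynomial.toLaurent (R := A)).comp 𝓕.rees.val.toRingHom).codRestrict 𝓕.extRees
    (fun f => toLaurent_mem 𝓕 f)

theorem coe_rho (f : 𝓕.rees) : ((rho 𝓕 f : 𝓕.extRees) : A[T;T⁻¹]) = toLaurent (f : A[X]) := rfl

/-- homogeneous elements are monomials -/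
theorem coe_eq_of_mem_ldeg {n : ℤ} {g : 𝓕.extRees} (hg : g ∈ Rees.ldeg 𝓕.extRees n) :
    (g : A[T;T⁻¹]) = LaurentPolynomial.C ((g : A[T;T⁻¹]).coeff n) * T n := by
  rw [← LaurentPolynomial.single_eq_C_mul_T]
  apply LaurentPolynomial.ext
  intro k
  rw [AddMonoidAlgebra.coeff_single]
  by_cases hk : k = n
  · subst hk
    rw [Finsupp.single_eq_same]
  · rw [Finsupp.single_eq_of_ne hk]
    exact (Rees.mem_ldeg_iff' 𝓕.extRees n g).1 hg k hk

/-- the evaluation `rees[X] → extRees`, `X ↦ u` -/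
noncomputable def Phi : (𝓕.rees)[X] →+* 𝓕.extRees := Polynomial.eval₂RingHom (rho 𝓕) 𝓕.u

theorem Phi_C (r : 𝓕.rees) : Phi 𝓕 (Polynomial.C r) = rho 𝓕 r := by simp [Phi]

theorem Phi_X : Phi 𝓕 Polynomial.X = 𝓕.u := by simp [Phi]

theorem Phi_surjective : Function.Surjective (Phi 𝓕) := by
  classical
  intro g
  induction g using DirectSum.Decomposition.inductionOn (Rees.ldeg 𝓕.extRees) with
  | zero => exact ⟨0, map_zero _⟩
  | add a b ha hb =>
    obtain ⟨p, hp⟩ := ha
    obtain ⟨q, hq⟩ := hb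
    exact ⟨p + q, by rw [map_add, hp, hq]⟩
  | homogeneous g =>
    rename_i n
    obtain ⟨g, hg⟩ := g
    have hcoe := coe_eq_of_mem_ldeg 𝓕 hg
    set a := (g : A[T;T⁻¹]).coeff n with ha
    rcases lt_or_ge n 0 with hn | hn
    · obtain ⟨k, rfl⟩ : ∃ k : ℕ, n = -(k : ℤ) := ⟨n.natAbs, by omega⟩
      have hgeq : g = rho 𝓕 (algebraMap A 𝓕.rees a) * 𝓕.u ^ k := by
        apply Subtype.ext
        rw [Subalgebra.coe_mul, Subalgebra.coe_pow, coe_rho, hcoe]
        change _ = toLaurent (algebraMap A A[X] a) * (T (-1) : A[T;T⁻¹]) ^ k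
        rw [Polynomial.algebraMap_apply, Algebra.algebraMap_self, RingHom.id_apply,
          Polynomial.toLaurent_C, LaurentPolynomial.T_pow]
        congr 2
        ring
      refine ⟨Polynomial.C (algebraMap A 𝓕.rees a) * Polynomial.X ^ k, ?_⟩
      change Phi 𝓕 _ = g
      rw [map_mul, map_pow, Phi_C, Phi_X, ← hgeq]
    · obtain ⟨k, rfl⟩ := Int.eq_ofNat_of_zero_le hn
      have hak : a ∈ 𝓕.F k := by
        have := g.2 (k : ℤ)
        rwa [Int.toNat_natCast] at this
      have hmem : (Polynomial.monomial k a : A[X]) ∈ 𝓕.rees := by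
        intro j
        rw [Polynomial.coeff_monomial]
        split_ifs with h
        · subst h; exact hak
        · exact Ideal.zero_mem _
      have hgeq : g = rho 𝓕 ⟨Polynomial.monomial k a, hmem⟩ := by
        apply Subtype.ext
        rw [coe_rho, hcoe]
        change _ = toLaurent (Polynomial.monomial k a)
        rw [Polynomial.toLaurent_C_mul_T]
      refine ⟨Polynomial.C ⟨Polynomial.monomial k a, hmem⟩, ?_⟩
      change Phi 𝓕 _ = g
      rw [Phi_C, ← hgeq]

theorem isNoetherianRing_extRees [IsNoetherianRing A] (hfg : Algebra.FiniteType A 𝓕.rees) :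
    IsNoetherianRing 𝓕.extRees := by
  haveI : IsNoetherianRing 𝓕.rees := Algebra.FiniteType.isNoetherianRing A 𝓕.rees
  exact isNoetherianRing_of_surjective (𝓕.rees)[X] 𝓕.extRees (Phi 𝓕) (Phi_surjective 𝓕)

section Vertex

variable [IsLocalRing A] (hm : 𝓕.F 1 ≤ IsLocalRing.maximalIdeal A)

theorem mem_vertex_of_homogeneous (n : ℤ) (y : 𝓕.extRees) (hy : y ∈ Rees.ldeg 𝓕.extRees n)
    (hu : ¬ IsUnit y) : y ∈ vertex 𝓕 (IsLocalRing.maximalIdeal A) hm := by
  rw [mem_vertex_iff]
  by_cases hn : n = 0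
  · subst hn
    by_contra hnot
    have ha : IsUnit ((y : A[T;T⁻¹]).coeff 0) := by
      by_contra h
      exact hnot ((IsLocalRing.mem_maximalIdeal _).2 h)
    apply hu
    have hy' : y = algebraMap A 𝓕.extRees ((y : A[T;T⁻¹]).coeff 0) := by
      apply Subtype.ext
      have := coe_eq_of_mem_ldeg 𝓕 hy
      rw [LaurentPolynomial.T_zero, mul_one] at this
      rw [this]
      change _ = algebraMap A A[T;T⁻¹] _
      rw [LaurentPolynomial.algebraMap_apply, Algebra.algebraMap_self, RingHom.id_apply]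
      simp
    rw [hy']
    exact ha.map (algebraMap A 𝓕.extRees)
  · rw [(Rees.mem_ldeg_iff' 𝓕.extRees n y).1 hy 0 (Ne.symm hn)]
    exact Ideal.zero_mem _

end Vertex

theorem F_one_le_maximalIdeal [IsLocalRing A] (hsep : ⨅ n, 𝓕.F n = ⊥) :
    𝓕.F 1 ≤ IsLocalRing.maximalIdeal A := by
  apply IsLocalRing.le_maximalIdeal
  intro htop
  have hall : ∀ n, 𝓕.F n = ⊤ := by
    intro n
    induction n with
    | zero => exact 𝓕.zero_eq
    | succ n ih =>
      have := 𝓕.mul_le n 1
      rw [ih, htop, Ideal.top_mul] at this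
      exact top_le_iff.1 this
  have : (⨅ n, 𝓕.F n) = ⊤ := by simp [hall]
  rw [hsep] at this
  exact bot_ne_top this

end Groth.Agent.Lib.Helper20.ExtRees
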