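import Mathlib
import Groth.Agent.S0343
import Groth.Agent.Lib.helper11.CIGor
import Groth.Agent.Lib.Helper5.GorIso

/-!
# Plumbing for the Gorenstein property: quotients by a regular element and localization
-/

set_option autoImplicit false
set_option linter.unusedSectionVars false
set_option linter.unusedVariables false
set_option linter.style.haveILetI false

namespace Groth.Agent.Lib.Helper20.Sym

open IsLocalRing

universe u

theorem gor_iff_of_ringEquiv {A B : Type u} [CommRing A] [CommRing B] (e : A ≃+* B) :
    LocCoh.IsGorensteinLocalRing A ↔ LocCoh.IsGorensteinLocalRing B :=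
  ⟨fun _ => Groth.Agent.Lib.Helper5.GorIso.isGorensteinLocalRing_of_ringEquiv e,
    fun _ => Groth.Agent.Lib.Helper5.GorIso.isGorensteinLocalRing_of_ringEquiv e.symm⟩

/-- localizations at corresponding primes under a ring equivalence -/
noncomputable def locEquiv {A B : Type u} [CommRing A] [CommRing B] (e : A ≃+* B)
    (q : Ideal B) [q.IsPrime] :
    Localization.AtPrime (q.comap (e : A →+* B)) ≃+* Localization.AtPrime q := by
  have H : (q.comap (e : A →+* B)).primeCompl.map e.toMonoidHom = q.primeCompl := by
    ext x
    constructor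
    · rintro ⟨y, hy, rfl⟩
      exact hy
    · intro hx
      refine ⟨e.symm x, ?_, e.apply_symm_apply x⟩
      change e.symm x ∉ q.comap (e : A →+* B)
      rw [Ideal.mem_comap]
      change e (e.symm x) ∉ q
      rw [e.apply_symm_apply]
      exact hx
  exact IsLocalization.ringEquivOfRingEquiv (Localization.AtPrime (q.comap (e : A →+* B)))
      (Localization.AtPrime q) e H

theorem gor_congr_ideal {A : Type u} [CommRing A] (p p' : Ideal A) [p.IsPrime] [p'.IsPrime]
    (h : p = p') :
    LocCoh.IsGorensteinLocalRing (Localization.AtPrime p) ↔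
      LocCoh.IsGorensteinLocalRing (Localization.AtPrime p') := by
  subst h
  exact Iff.rfl

/-- quotient by a nonzero element of a Noetherian domain -/
theorem gor_quot_iff {S : Type u} [CommRing S] [IsNoetherianRing S] [IsDomain S] (x : S)
    (hx0 : x ≠ 0) (Q : Ideal (S ⧸ Ideal.span {x})) [Q.IsPrime] :
    LocCoh.IsGorensteinLocalRing
        (Localization.AtPrime (Q.comap (Ideal.Quotient.mk (Ideal.span {x})))) ↔
      LocCoh.IsGorensteinLocalRing (Localization.AtPrime Q) := by
  set q := Q.comap (Ideal.Quotient.mk (Ideal.span {x})) with hq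
  have hxq : x ∈ q := by
    rw [hq, Ideal.mem_comap, Ideal.Quotient.eq_zero_iff_mem.2 (Ideal.mem_span_singleton_self x)]
    exact Q.zero_mem
  have hle : q.primeCompl ≤ nonZeroDivisors S := by
    intro y hy
    apply mem_nonZeroDivisors_of_ne_zero
    rintro rfl
    exact hy q.zero_mem
  haveI : IsDomain (Localization.AtPrime q) :=
    IsLocalization.isDomain_localization hle
  set f := algebraMap S (Localization.AtPrime q) x with hf
  have hf0 : f ≠ 0 := by
    intro h
    apply hx0
    apply IsLocalization.injective (Localization.AtPrime q) hle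
    rw [← hf, h, map_zero]
  have hfm : f ∈ maximalIdeal (Localization.AtPrime q) :=
    (IsLocalization.AtPrime.to_map_mem_maximal_iff _ q x).2 hxq
  have hreg : IsSMulRegular (Localization.AtPrime q) f := by
    intro a b h
    exact mul_left_cancel₀ hf0 h
  have h1 := Groth.Agent.S0343.result (Localization.AtPrime q) f hfm hreg
  have hmap : (Ideal.span {x}).map (algebraMap S (Localization.AtPrime q)) = Ideal.span {f} := by
    rw [Ideal.map_span, Set.image_singleton]
  have e := Groth.Agent.Lib.helper11.CIGor.locQuotRingEquiv (Ideal.span {x}) Q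
  have e2 : (Localization.AtPrime q ⧸
      (Ideal.span {x}).map (algebraMap S (Localization.AtPrime q))) ≃+*
      (Localization.AtPrime q ⧸ Ideal.span {f}) := Ideal.quotEquivOfEq hmap
  exact h1.trans (gor_iff_of_ringEquiv (e.trans e2)).symm

/-- surjection with principal kernel from a Noetherian domain -/
theorem gor_surj_iff {S S' : Type u} [CommRing S] [CommRing S'] [IsNoetherianRing S] [IsDomain S]
    (φ : S →+* S') (hφ : Function.Surjective φ) (x : S) (hx0 : x ≠ 0)
    (hker : RingHom.ker φ = Ideal.span {x}) (Q : Ideal S') [Q.IsPrime] :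
    LocCoh.IsGorensteinLocalRing (Localization.AtPrime (Q.comap φ)) ↔
      LocCoh.IsGorensteinLocalRing (Localization.AtPrime Q) := by
  let e : (S ⧸ Ideal.span {x}) ≃+* S' :=
    (Ideal.quotEquivOfEq hker.symm).trans (RingHom.quotientKerEquivOfSurjective hφ)
  have he : ∀ s : S, e (Ideal.Quotient.mk (Ideal.span {x}) s) = φ s := by
    intro s
    rfl
  set Q₁ : Ideal (S ⧸ Ideal.span {x}) := Q.comap (e : (S ⧸ Ideal.span {x}) →+* S') with hQ₁
  have heq : Q.comap φ = Q₁.comap (Ideal.Quotient.mk (Ideal.span {x})) := by
    ext s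
    rw [Ideal.mem_comap, Ideal.mem_comap, hQ₁, Ideal.mem_comap]
    change φ s ∈ Q ↔ e (Ideal.Quotient.mk (Ideal.span {x}) s) ∈ Q
    rw [he]
  exact (gor_congr_ideal _ _ heq).trans
    ((gor_quot_iff x hx0 Q₁).trans (gor_iff_of_ringEquiv (locEquiv e Q)))

/-- a local ring is its own localization at the maximal ideal -/
theorem gor_atMax_iff {A : Type u} [CommRing A] [IsLocalRing A] (Q : Ideal A) [Q.IsPrime]
    (hQ : Q = maximalIdeal A) :
    LocCoh.IsGorensteinLocalRing (Localization.AtPrime Q) ↔ LocCoh.IsGorensteinLocalRing A := by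
  have H : Q.primeCompl ≤ IsUnit.submonoid A := by
    intro y hy
    rw [IsUnit.mem_submonoid_iff]
    by_contra hn
    apply hy
    rw [hQ]
    exact (IsLocalRing.mem_maximalIdeal y).2 hn
  exact (gor_iff_of_ringEquiv
    (IsLocalization.atUnits A Q.primeCompl (S := Localization.AtPrime Q) H).toRingEquiv).symm

end Groth.Agent.Lib.Helper20.Sym
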