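import Mathlib
import Groth.Agent.Lib.Helper20.Sym1
import Groth.Agent.Lib.Helper7.CMClosedPoint

/-!
# Quotient by a regular element: Gorenstein and Cohen–Macaulay transfer at corresponding primes
-/

set_option autoImplicit false
set_option linter.unusedSectionVars false
set_option linter.unusedVariables false
set_option linter.style.haveILetI false

universe u

namespace Groth.Agent.Lib.Helper20.ExtRees

open IsLocalRing Pointwise Groth.Agent.Lib.helper11.CMLocus Groth.Agent.Lib.helper11
open Groth.Agent.Lib.Helper21.DepthKit Groth.Agent.Lib.Helper2.R0S1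
open Groth.Agent.Lib.Helper20.Sym

/-- quotient by a regular element of a Noetherian ring -/
theorem gor_quot_iff' {S : Type u} [CommRing S] [IsNoetherianRing S] (x : S)
    (hx : IsSMulRegular S x) (Q : Ideal (S ⧸ Ideal.span {x})) [Q.IsPrime] :
    LocCoh.IsGorensteinLocalRing
        (Localization.AtPrime (Q.comap (Ideal.Quotient.mk (Ideal.span {x})))) ↔
      LocCoh.IsGorensteinLocalRing (Localization.AtPrime Q) := by
  set q := Q.comap (Ideal.Quotient.mk (Ideal.span {x})) with hq
  have hxq : x ∈ q := by
    rw [hq, Ideal.mem_comap, Ideal.Quotient.eq_zero_iff_mem.2 (Ideal.mem_span_singleton_self x)]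
    exact Q.zero_mem
  set f := algebraMap S (Localization.AtPrime q) x with hf
  have hfm : f ∈ maximalIdeal (Localization.AtPrime q) :=
    (IsLocalization.AtPrime.to_map_mem_maximal_iff _ q x).2 hxq
  have hreg : IsSMulRegular (Localization.AtPrime q) f := by
    haveI : Module.Flat S (Localization.AtPrime q) := IsLocalization.flat _ q.primeCompl
    exact hx.of_flat
  have h1 := Groth.Agent.S0343.result (Localization.AtPrime q) f hfm hreg
  have hmap : (Ideal.span {x}).map (algebraMap S (Localization.AtPrime q)) = Ideal.span {f} := by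
    rw [Ideal.map_span, Set.image_singleton]
  have e := Groth.Agent.Lib.helper11.CIGor.locQuotRingEquiv (Ideal.span {x}) Q
  have e2 : (Localization.AtPrime q ⧸
      (Ideal.span {x}).map (algebraMap S (Localization.AtPrime q))) ≃+*
      (Localization.AtPrime q ⧸ Ideal.span {f}) := Ideal.quotEquivOfEq hmap
  exact h1.trans (gor_iff_of_ringEquiv (e.trans e2)).symm

section CM

variable {B : Type u} [CommRing B] [IsNoetherianRing B]

/-- if `B_p` is Cohen–Macaulay and `b ∈ p` is a non-zero-divisor then `(B/b)_q` is
Cohen–Macaulay, `p` the preimage of `q` -/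
theorem isCM_quotient_of_localization (b : B) (hb : IsSMulRegular B b)
    (q : Ideal (B ⧸ Ideal.span {b})) [q.IsPrime]
    (h : LocCoh.IsCohenMacaulayLocalRing
      (Localization.AtPrime (q.comap (algebraMap B (B ⧸ Ideal.span {b}))))) :
    LocCoh.IsCohenMacaulayLocalRing (Localization.AtPrime q) := by
  have hs : Function.Surjective (algebraMap B (B ⧸ Ideal.span {b})) :=
    Ideal.Quotient.mk_surjective
  rw [isCMLocalRing_iff_module B (q.comap (algebraMap B (B ⧸ Ideal.span {b})))] at h
  have hbp : b ∈ q.comap (algebraMap B (B ⧸ Ideal.span {b})) := by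
    rw [Ideal.mem_comap]
    have : algebraMap B (B ⧸ Ideal.span {b}) b = 0 :=
      Ideal.Quotient.eq_zero_iff_mem.2 (Ideal.mem_span_singleton_self b)
    rw [this]; exact q.zero_mem
  have e1 : (Ideal.span {b} : Submodule B B) = b • (⊤ : Submodule B B) := by
    rw [← Submodule.ideal_span_singleton_smul, smul_eq_mul, Ideal.mul_top]
  let E1 : (B ⧸ Ideal.span {b}) ≃ₗ[B] QuotSMulTop b B := Submodule.quotEquivOfEq _ _ e1
  let E2 := IsLocalizedModule.mapEquiv (q.comap (algebraMap B (B ⧸ Ideal.span {b}))).primeCompl
    (LocalizedModule.mkLinearMap (q.comap (algebraMap B (B ⧸ Ideal.span {b}))).primeCompl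
      (B ⧸ Ideal.span {b}))
    (LocalizedModule.mkLinearMap (q.comap (algebraMap B (B ⧸ Ideal.span {b}))).primeCompl
      (QuotSMulTop b B))
    (Localization.AtPrime (q.comap (algebraMap B (B ⧸ Ideal.span {b})))) E1
  let E3 := Groth.Agent.Lib.Helper7.IntegralModule.quotSMulTopLocEquiv (M := B)
    (q.comap (algebraMap B (B ⧸ Ideal.span {b}))) b
  have hreg : IsSMulRegular
      (LocalizedModule (q.comap (algebraMap B (B ⧸ Ideal.span {b}))).primeCompl B)
      (algebraMap B (Localization.AtPrime (q.comap (algebraMap B (B ⧸ Ideal.span {b})))) b) := by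
    haveI : Module.Flat B (Localization.AtPrime (q.comap (algebraMap B (B ⧸ Ideal.span {b})))) :=
      IsLocalization.flat _ (q.comap (algebraMap B (B ⧸ Ideal.span {b}))).primeCompl
    exact hb.of_flat_of_isBaseChange (IsLocalizedModule.isBaseChange
      (q.comap (algebraMap B (B ⧸ Ideal.span {b}))).primeCompl _
      (LocalizedModule.mkLinearMap (q.comap (algebraMap B (B ⧸ Ideal.span {b}))).primeCompl B))
  have h3 := isCM_quotSMulTop h
    (algebraMap B (Localization.AtPrime (q.comap (algebraMap B (B ⧸ Ideal.span {b})))) b)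
    ((IsLocalization.AtPrime.to_map_mem_maximal_iff _
      (q.comap (algebraMap B (B ⧸ Ideal.span {b}))) b).2 hbp) hreg
  have h'' := isCM_congr (E2 ≪≫ₗ E3.symm).symm h3
  rw [isCMLocalRing_iff_module (B ⧸ Ideal.span {b}) q]
  unfold LocCoh.IsCohenMacaulayModule at h'' ⊢
  rw [← depth_localization_of_surjective (N := B ⧸ Ideal.span {b}) hs q,
    ← supportDim_localization_of_surjective (N := B ⧸ Ideal.span {b}) hs q]
  exact h''

theorem cm_quot_iff (b : B) (hb : IsSMulRegular B b)
    (q : Ideal (B ⧸ Ideal.span {b})) [q.IsPrime] :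
    LocCoh.IsCohenMacaulayLocalRing
        (Localization.AtPrime (q.comap (Ideal.Quotient.mk (Ideal.span {b})))) ↔
      LocCoh.IsCohenMacaulayLocalRing (Localization.AtPrime q) :=
  ⟨fun h => isCM_quotient_of_localization b hb q h,
    fun h => Groth.Agent.Lib.Helper7.CMClosedPoint.isCM_localization_of_quotient b hb q h⟩

end CM

end Groth.Agent.Lib.Helper20.ExtRees
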