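import Mathlib
import Groth.Agent.Lib.Helper20.ExtRees2
import Groth.Agent.Lib.Helper20.ExtRees3
import Groth.Agent.Lib.Helper20.GorGr3
import Groth.Agent.Lib.Helper20.GrConv
import Groth.Agent.Lib.Helper21.GrCMVertex

/-!
# The extended Rees algebra is Gorenstein / Cohen–Macaulay iff the associated graded ring is
-/

set_option autoImplicit false
set_option linter.unusedSectionVars false
set_option linter.unusedVariables false
set_option linter.style.haveILetI false

universe u

namespace Groth.Agent.Lib.Helper20.ExtRees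

open Polynomial LaurentPolynomial IsLocalRing Groth.Agent.Lib.Helper20.GrConv
  Groth.Agent.Lib.Helper20.Sym Groth.Agent.Lib.Helper21.GrCMVertex

/-- a ℤ-graded Noetherian ring which is Gorenstein at a prime containing all homogeneous
non-units is Gorenstein -/
theorem cm_congr_ideal {R : Type u} [CommRing R] (p p' : Ideal R) [p.IsPrime] [p'.IsPrime]
    (h : p = p') :
    LocCoh.IsCohenMacaulayLocalRing (Localization.AtPrime p) ↔
      LocCoh.IsCohenMacaulayLocalRing (Localization.AtPrime p') := by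
  subst h
  exact Iff.rfl

theorem isGorensteinRing_of_vertex {R : Type u} [CommRing R] [IsNoetherianRing R]
    (𝒜 : ℤ → AddSubgroup R) [GradedRing 𝒜] (m : Ideal R) [m.IsPrime]
    (hmm : ∀ (n : ℤ) (y : R), y ∈ 𝒜 n → ¬ IsUnit y → y ∈ m)
    (hG : LocCoh.IsGorensteinLocalRing (Localization.AtPrime m)) :
    LocCoh.IsGorensteinRing R := by
  refine { isGorensteinLocalRing_localization := fun p hp => ?_ }
  haveI : (Ideal.homogeneousCore 𝒜 p).toIdeal.IsPrime := Ideal.IsPrime.homogeneousCore hp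
  rw [Groth.Agent.Lib.Helper20.GorGr.gorenstein_iff_core 𝒜 p]
  have hle : (Ideal.homogeneousCore 𝒜 p).toIdeal ≤ m := core_le_of_homogeneous_mem 𝒜 p m hmm
  exact Groth.Agent.Lib.Helper20.GorGr.gorenstein_of_le m _ hle hG

section Main

variable {A : Type u} [CommRing A] [IsNoetherianRing A] [IsLocalRing A]
  (𝓕 : FiltBl.IdealFiltration A) (hsep : ⨅ n, 𝓕.F n = ⊥) (hfg : Algebra.FiniteType A 𝓕.rees)

/-- the image of the vertex in the associated graded ring -/
noncomputable def vbar (hm : 𝓕.F 1 ≤ maximalIdeal A) : Ideal 𝓕.Gr :=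
  (vertex 𝓕 (maximalIdeal A) hm).map (Ideal.Quotient.mk (Ideal.span {𝓕.u}))

theorem comap_vbar (hm : 𝓕.F 1 ≤ maximalIdeal A) :
    (vbar 𝓕 hm).comap (Ideal.Quotient.mk (Ideal.span {𝓕.u})) =
      vertex 𝓕 (maximalIdeal A) hm := by
  unfold vbar
  rw [Ideal.comap_map_of_surjective _ Ideal.Quotient.mk_surjective, ← RingHom.ker_eq_comap_bot,
    Ideal.mk_ker, sup_eq_left, Ideal.span_le, Set.singleton_subset_iff]
  exact u_mem_vertex 𝓕 _ hm

theorem vbar_isPrime (hm : 𝓕.F 1 ≤ maximalIdeal A) : (vbar 𝓕 hm).IsPrime := by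
  haveI := (vertex_isMaximal 𝓕 (maximalIdeal A) hm).isPrime
  apply Ideal.map_isPrime_of_surjective Ideal.Quotient.mk_surjective
  rw [Ideal.mk_ker, Ideal.span_le, Set.singleton_subset_iff]
  exact u_mem_vertex 𝓕 _ hm

include hsep hfg in
theorem gor_iff : LocCoh.IsGorensteinRing 𝓕.extRees ↔ LocCoh.IsGorensteinRing 𝓕.Gr := by
  haveI := isNoetherianRing_extRees 𝓕 hfg
  have hm := F_one_le_maximalIdeal 𝓕 hsep
  haveI hMp : (vertex 𝓕 (maximalIdeal A) hm).IsPrime :=
    (vertex_isMaximal 𝓕 (maximalIdeal A) hm).isPrime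
  haveI := vbar_isPrime 𝓕 hm
  constructor
  · intro hG
    refine { isGorensteinLocalRing_localization := fun Q hQ => ?_ }
    exact (gor_quot_iff' 𝓕.u (u_regular 𝓕) Q).1 (hG.isGorensteinLocalRing_localization _)
  · intro hG
    have h1 := (gor_quot_iff' 𝓕.u (u_regular 𝓕) (vbar 𝓕 hm)).2
      (hG.isGorensteinLocalRing_localization _)
    have h2 := (gor_congr_ideal _ _ (comap_vbar 𝓕 hm)).1 h1
    exact isGorensteinRing_of_vertex (asGr (Rees.ldeg 𝓕.extRees)) _
      (fun n y hy hu => mem_vertex_of_homogeneous 𝓕 hm n y hy hu) h2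

include hsep hfg in
theorem cm_iff : LocCoh.IsCohenMacaulayRing 𝓕.extRees ↔ LocCoh.IsCohenMacaulayRing 𝓕.Gr := by
  haveI := isNoetherianRing_extRees 𝓕 hfg
  have hm := F_one_le_maximalIdeal 𝓕 hsep
  haveI hMp : (vertex 𝓕 (maximalIdeal A) hm).IsPrime :=
    (vertex_isMaximal 𝓕 (maximalIdeal A) hm).isPrime
  haveI := vbar_isPrime 𝓕 hm
  constructor
  · intro hG
    refine { isCohenMacaulayLocalRing_localization := fun Q hQ => ?_ }
    exact (cm_quot_iff 𝓕.u (u_regular 𝓕) Q).1 (hG.isCohenMacaulayLocalRing_localization _)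
  · intro hG
    have h1 := (cm_quot_iff 𝓕.u (u_regular 𝓕) (vbar 𝓕 hm)).2
      (hG.isCohenMacaulayLocalRing_localization _)
    have h2 := (cm_congr_ideal _ _ (comap_vbar 𝓕 hm)).1 h1
    exact (isCM_iff_vertex (asGr (Rees.ldeg 𝓕.extRees)) _
      (fun n y hy hu => mem_vertex_of_homogeneous 𝓕 hm n y hy hu)).2 h2

end Main

end Groth.Agent.Lib.Helper20.ExtRees
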