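import Mathlib
import Groth.Agent.Lib.Helper20.ExtRees2

/-!
# The Laurent polynomial ring is the localization of the extended Rees algebra at `u = T⁻¹`
-/

set_option autoImplicit false
set_option linter.unusedSectionVars false
set_option linter.unusedVariables false
set_option linter.style.haveILetI false

universe u

namespace Groth.Agent.Lib.Helper20.ExtRees

open Polynomial LaurentPolynomial

variable {A : Type u} [CommRing A] (𝓕 : FiltBl.IdealFiltration A)

theorem algebraMap_extRees_apply (f : 𝓕.extRees) :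
    algebraMap 𝓕.extRees A[T;T⁻¹] f = (f : A[T;T⁻¹]) := rfl

theorem coeff_mul_T (z : A[T;T⁻¹]) (m n : ℤ) : (z * T m).coeff n = z.coeff (n - m) := by
  have : (T m : A[T;T⁻¹]) = AddMonoidAlgebra.single m 1 := rfl
  rw [this, AddMonoidAlgebra.coeff_mul_single_apply, mul_one, sub_eq_add_neg]

theorem exists_mul_T_mem (z : A[T;T⁻¹]) : ∃ N : ℕ, z * T (-(N : ℤ)) ∈ 𝓕.extRees := by
  refine ⟨z.coeff.support.sup Int.toNat, fun n => ?_⟩
  rw [coeff_mul_T]
  by_cases h0 : z.coeff (n - -((z.coeff.support.sup Int.toNat : ℕ) : ℤ)) = 0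
  · rw [h0]
    exact Ideal.zero_mem _
  · have hmem : n - -((z.coeff.support.sup Int.toNat : ℕ) : ℤ) ∈ z.coeff.support :=
      Finsupp.mem_support_iff.2 h0
    have hle := Finset.le_sup (f := Int.toNat) hmem
    have hn : n.toNat = 0 := by omega
    rw [hn, 𝓕.zero_eq]
    exact Submodule.mem_top

instance isLocalization_laurent : IsLocalization (Submonoid.powers 𝓕.u) A[T;T⁻¹] := by
  rw [isLocalization_iff]
  refine ⟨?_, ?_, ?_⟩
  · rintro ⟨_, k, rfl⟩
    change IsUnit ((𝓕.u ^ k : 𝓕.extRees) : A[T;T⁻¹])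
    rw [Subalgebra.coe_pow]
    exact (LaurentPolynomial.isUnit_T (-1)).pow k
  · intro z
    obtain ⟨N, hN⟩ := exists_mul_T_mem 𝓕 z
    refine ⟨(⟨z * T (-(N : ℤ)), hN⟩, ⟨𝓕.u ^ N, N, rfl⟩), ?_⟩
    change z * ((𝓕.u ^ N : 𝓕.extRees) : A[T;T⁻¹]) = z * T (-(N : ℤ))
    rw [Subalgebra.coe_pow]
    change z * (T (-1) : A[T;T⁻¹]) ^ N = _
    rw [LaurentPolynomial.T_pow]
    congr 2
    ring
  · intro x y h
    exact ⟨1, by rw [Subtype.ext h]⟩

theorem isNoetherianRing_laurent [IsNoetherianRing A] (hfg : Algebra.FiniteType A 𝓕.rees) :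
    IsNoetherianRing A[T;T⁻¹] := by
  haveI := isNoetherianRing_extRees 𝓕 hfg
  exact IsLocalization.isNoetherianRing (Submonoid.powers 𝓕.u) A[T;T⁻¹] inferInstance

/-- a prime of the extended Rees algebra not containing `u` is contracted from the Laurent ring -/
theorem exists_prime_laurent (P : Ideal 𝓕.extRees) [P.IsPrime] (hu : 𝓕.u ∉ P) :
    ∃ (P' : Ideal A[T;T⁻¹]) (_ : P'.IsPrime), P'.comap (algebraMap 𝓕.extRees A[T;T⁻¹]) = P := by
  have hdisj : Disjoint (Submonoid.powers 𝓕.u : Set 𝓕.extRees) (P : Set 𝓕.extRees) := by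
    rw [Set.disjoint_left]
    rintro _ ⟨k, rfl⟩ hk
    exact hu (Ideal.IsPrime.mem_of_pow_mem inferInstance k hk)
  exact ⟨P.map (algebraMap 𝓕.extRees A[T;T⁻¹]),
    IsLocalization.isPrime_of_isPrime_disjoint (Submonoid.powers 𝓕.u) _ P inferInstance hdisj,
    IsLocalization.comap_map_of_isPrime_disjoint (Submonoid.powers 𝓕.u) _ inferInstance hdisj⟩

theorem u_notMem_comap (P' : Ideal A[T;T⁻¹]) [hP' : P'.IsPrime] :
    𝓕.u ∉ P'.comap (algebraMap 𝓕.extRees A[T;T⁻¹]) := by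
  intro h
  rw [Ideal.mem_comap] at h
  apply hP'.ne_top
  apply Ideal.eq_top_of_isUnit_mem _ h
  change IsUnit (T (-1) : A[T;T⁻¹])
  exact LaurentPolynomial.isUnit_T (-1)

end Groth.Agent.Lib.Helper20.ExtRees
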