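import Mathlib
import Groth.Agent.Lib.Helper20.ExtRees3
import Groth.Agent.Lib.Helper21.DepthKit13

/-!
# Serre's conditions and quotients by a regular element
-/

set_option autoImplicit false
set_option linter.unusedSectionVars false
set_option linter.unusedVariables false
set_option linter.style.haveILetI false

universe u

namespace Groth.Agent.Lib.Helper20.ExtRees

open IsLocalRing Pointwise Groth.Agent.Lib.helper11.CMLocus Groth.Agent.Lib.helper11
open Groth.Agent.Lib.Helper21.DepthKit Groth.Agent.Lib.Helper2.R0S1 Module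

/-- the `(S_k)` inequality at a prime -/
def SkIneq (k : ℕ) (R : Type u) [CommRing R] (M : Type u) [AddCommGroup M] [Module R M]
    (p : Ideal R) [p.IsPrime] : Prop :=
  min (k : WithBot ℕ∞)
      (Module.supportDim (Localization.AtPrime p) (LocalizedModule p.primeCompl M)) ≤
    ((LocCoh.depth (Localization.AtPrime p) (LocalizedModule p.primeCompl M) : ℕ∞) : WithBot ℕ∞)

theorem hasSk_iff_skIneq (k : ℕ) (R : Type u) [CommRing R] (M : Type u) [AddCommGroup M]
    [Module R M] : LocCoh.HasSk k R M ↔ ∀ (p : Ideal R) [p.IsPrime], SkIneq k R M p := Iff.rfl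

theorem skIneq_congr_ideal (k : ℕ) {R : Type u} [CommRing R] (M : Type u) [AddCommGroup M]
    [Module R M] (p p' : Ideal R) [p.IsPrime] [p'.IsPrime] (h : p = p') :
    SkIneq k R M p ↔ SkIneq k R M p' := by
  subst h
  exact Iff.rfl

section Quot

variable {B : Type u} [CommRing B] [IsNoetherianRing B]

/-- dimension and depth drop by one in passing to the quotient by a regular element -/
theorem dims_quot (b : B) (hb : IsSMulRegular B b)
    (q : Ideal (B ⧸ Ideal.span {b})) [q.IsPrime] :
    ∃ n d : ℕ,
      Module.supportDim (Localization.AtPrime (q.comap (algebraMap B (B ⧸ Ideal.span {b}))))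
        (LocalizedModule (q.comap (algebraMap B (B ⧸ Ideal.span {b}))).primeCompl B) =
          ((n + 1 : ℕ) : WithBot ℕ∞) ∧
      LocCoh.depth (Localization.AtPrime (q.comap (algebraMap B (B ⧸ Ideal.span {b}))))
        (LocalizedModule (q.comap (algebraMap B (B ⧸ Ideal.span {b}))).primeCompl B) =
          ((d + 1 : ℕ) : ℕ∞) ∧
      Module.supportDim (Localization.AtPrime q)
        (LocalizedModule q.primeCompl (B ⧸ Ideal.span {b})) = (n : WithBot ℕ∞) ∧
      LocCoh.depth (Localization.AtPrime q)
        (LocalizedModule q.primeCompl (B ⧸ Ideal.span {b})) = (d : ℕ∞) := by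
  have hs : Function.Surjective (algebraMap B (B ⧸ Ideal.span {b})) :=
    Ideal.Quotient.mk_surjective
  set p := q.comap (algebraMap B (B ⧸ Ideal.span {b})) with hp
  have hbp : b ∈ p := by
    rw [hp, Ideal.mem_comap]
    have : algebraMap B (B ⧸ Ideal.span {b}) b = 0 :=
      Ideal.Quotient.eq_zero_iff_mem.2 (Ideal.mem_span_singleton_self b)
    rw [this]; exact q.zero_mem
  have e1 : (Ideal.span {b} : Submodule B B) = b • (⊤ : Submodule B B) := by
    rw [← Submodule.ideal_span_singleton_smul, smul_eq_mul, Ideal.mul_top]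
  let E1 : (B ⧸ Ideal.span {b}) ≃ₗ[B] QuotSMulTop b B := Submodule.quotEquivOfEq _ _ e1
  let E2 := IsLocalizedModule.mapEquiv p.primeCompl
    (LocalizedModule.mkLinearMap p.primeCompl (B ⧸ Ideal.span {b}))
    (LocalizedModule.mkLinearMap p.primeCompl (QuotSMulTop b B))
    (Localization.AtPrime p) E1
  let E3 := Groth.Agent.Lib.Helper7.IntegralModule.quotSMulTopLocEquiv (M := B) p b
  haveI : Nontrivial (LocalizedModule p.primeCompl B) := (locEquiv p).toEquiv.nontrivial
  have hreg : IsSMulRegular (LocalizedModule p.primeCompl B)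
      (algebraMap B (Localization.AtPrime p) b) := by
    haveI : Module.Flat B (Localization.AtPrime p) := IsLocalization.flat _ p.primeCompl
    exact hb.of_flat_of_isBaseChange (IsLocalizedModule.isBaseChange p.primeCompl _
      (LocalizedModule.mkLinearMap p.primeCompl B))
  have hmem : algebraMap B (Localization.AtPrime p) b ∈ maximalIdeal (Localization.AtPrime p) :=
    (IsLocalization.AtPrime.to_map_mem_maximal_iff _ p b).2 hbp
  obtain ⟨n, hn⟩ := exists_nat_supportDim (A := Localization.AtPrime p)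
    (M := LocalizedModule p.primeCompl B)
  obtain ⟨d, hd⟩ := exists_nat_depth (A := Localization.AtPrime p)
    (M := LocalizedModule p.primeCompl B)
  obtain ⟨hn1, h1⟩ := supportDim_quotSMulTop_nat hn _ hmem hreg
  obtain ⟨hd1, h2⟩ := depth_quotSMulTop_nat hd _ hmem hreg
  have e := (E2 ≪≫ₗ E3.symm)
  refine ⟨n - 1, d - 1, ?_, ?_, ?_, ?_⟩
  · rw [hn]
    congr 1
    omega
  · rw [hd]
    congr 1
    omega
  · rw [← supportDim_localization_of_surjective (N := B ⧸ Ideal.span {b}) hs q,
      supportDim_eq_of_equiv e, h1]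
  · rw [← depth_localization_of_surjective (N := B ⧸ Ideal.span {b}) hs q]
    have hde : LocCoh.depth (Localization.AtPrime p)
        (LocalizedModule p.primeCompl (B ⧸ Ideal.span {b})) =
        LocCoh.depth (Localization.AtPrime p)
          (QuotSMulTop (algebraMap B (Localization.AtPrime p) b)
            (LocalizedModule p.primeCompl B)) := idealDepth_congr _ e
    exact hde.trans h2

theorem sk_quot_iff (k : ℕ) (b : B) (hb : IsSMulRegular B b)
    (q : Ideal (B ⧸ Ideal.span {b})) [q.IsPrime] :
    SkIneq (k + 1) B B (q.comap (Ideal.Quotient.mk (Ideal.span {b}))) ↔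
      SkIneq k (B ⧸ Ideal.span {b}) (B ⧸ Ideal.span {b}) q := by
  obtain ⟨n, d, h1, h2, h3, h4⟩ := dims_quot b hb q
  unfold SkIneq
  change min _ (Module.supportDim (Localization.AtPrime
      (q.comap (algebraMap B (B ⧸ Ideal.span {b}))))
    (LocalizedModule (q.comap (algebraMap B (B ⧸ Ideal.span {b}))).primeCompl B)) ≤
    ((LocCoh.depth (Localization.AtPrime (q.comap (algebraMap B (B ⧸ Ideal.span {b}))))
      (LocalizedModule (q.comap (algebraMap B (B ⧸ Ideal.span {b}))).primeCompl B) : ℕ∞) :
        WithBot ℕ∞) ↔ _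
  rw [h1, h2, h3, h4]
  have e0 : ∀ a c : ℕ, min ((a : ℕ) : WithBot ℕ∞) ((c : ℕ) : WithBot ℕ∞) =
      ((((min a c : ℕ) : ℕ∞)) : WithBot ℕ∞) := by
    intro a c
    rcases le_total a c with h | h
    · rw [min_eq_left h, min_eq_left]
      · rfl
      · change (((a : ℕ) : ℕ∞) : WithBot ℕ∞) ≤ (((c : ℕ) : ℕ∞) : WithBot ℕ∞)
        rw [WithBot.coe_le_coe, Nat.cast_le]
        exact h
    · rw [min_eq_right h, min_eq_right]
      · rfl
      · change (((c : ℕ) : ℕ∞) : WithBot ℕ∞) ≤ (((a : ℕ) : ℕ∞) : WithBot ℕ∞)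
        rw [WithBot.coe_le_coe, Nat.cast_le]
        exact h
  rw [e0, e0, WithBot.coe_le_coe, WithBot.coe_le_coe, Nat.cast_le, Nat.cast_le]
  omega

end Quot

end Groth.Agent.Lib.Helper20.ExtRees
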