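import Mathlib
import Groth.Agent.Lib.Helper20.ExtRees4
import Groth.Agent.Lib.Helper20.ExtRees5
import Groth.Agent.Lib.Helper20.ExtRees6
import Groth.Agent.Lib.Helper20.GorGr1
import Groth.Agent.Lib.Helper12.CMCatB

/-!
# Serre's condition `(S_2)` for the extended Rees algebra
-/

set_option autoImplicit false
set_option linter.unusedSectionVars false
set_option linter.unusedVariables false
set_option linter.style.haveILetI false

universe u

namespace Groth.Agent.Lib.Helper20.ExtRees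

open Polynomial LaurentPolynomial IsLocalRing
open Groth.Agent.Lib.Helper21 Groth.Agent.Lib.Helper21.CMKit Groth.Agent.Lib.Helper21.CMFibKit
open Groth.Agent.Lib.Helper21.FlatLocal Groth.Agent.Lib.Helper21.FibreBCAlg
open Groth.Agent.Lib.Helper21.DepthKit

section Laurent

variable {A : Type u} [CommRing A] [IsNoetherianRing A] [hL : IsNoetherianRing A[T;T⁻¹]]

theorem isCM_fiber_laurent (p : Ideal A) [p.IsPrime] :
    LocCoh.IsCohenMacaulayRing (p.Fiber A[T;T⁻¹]) := by
  haveI : IsRegularRing (p.Fiber A[T;T⁻¹]) :=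
    Groth.Agent.Lib.Helper20.GorGr.isRegularRing_fiber_std (ι := ℤ) p
  exact isCM_of_isRegularRing _

theorem fibLoc_cm_laurent (r : Ideal A[T;T⁻¹]) [r.IsPrime] :
    LocCoh.IsCohenMacaulayModule (Localization.AtPrime r)
      (EGA4.FibLocMod A A[T;T⁻¹] r A[T;T⁻¹]) := by
  obtain ⟨Q, hQ, hr'⟩ := exists_fiber_prime (r.under A) r rfl
  exact (isCM_fiber_loc_iff (r.under A) Q r hr').1
    ((isCM_fiber_laurent (r.under A)).isCohenMacaulayLocalRing_localization Q)

theorem hasSk_laurent_iff [Nontrivial A] (k : ℕ) :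
    LocCoh.HasSk k A[T;T⁻¹] A[T;T⁻¹] ↔ LocCoh.HasSk k A A := by
  constructor
  · exact hasSk_descent k
  · intro h r hr
    exact skIneq_ascent k r (fibLoc_cm_laurent r) (h (r.under A))

theorem cm_laurent_iff (r : Ideal A[T;T⁻¹]) [r.IsPrime] :
    LocCoh.IsCohenMacaulayLocalRing (Localization.AtPrime r) ↔
      LocCoh.IsCohenMacaulayLocalRing (Localization.AtPrime (r.under A)) := by
  have hcd := codepth_eq_of_CM_fibres (A := A) (B := A[T;T⁻¹]) r (fibLoc_cm_laurent r)
  exact isCMLocal_iff_of_codepth_eq hcd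

end Laurent

section Main

variable {A : Type u} [CommRing A] [IsNoetherianRing A] [IsLocalRing A]
  (𝓕 : FiltBl.IdealFiltration A) (hfg : Algebra.FiniteType A 𝓕.rees)

include hfg in
theorem s2_iff : LocCoh.HasSk 2 𝓕.extRees 𝓕.extRees ↔
    (LocCoh.HasSk 1 𝓕.Gr 𝓕.Gr ∧ LocCoh.HasSk 2 A A) := by
  haveI := isNoetherianRing_extRees 𝓕 hfg
  haveI := isNoetherianRing_laurent 𝓕 hfg
  haveI : IsLocalizedModule (Submonoid.powers 𝓕.u) (Algebra.linearMap 𝓕.extRees A[T;T⁻¹]) :=
    isLocalizedModule_iff_isLocalization.2 inferInstance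
  constructor
  · intro h
    refine ⟨fun Q hQ => (sk_quot_iff 1 𝓕.u (u_regular 𝓕) Q).1 (h _), ?_⟩
    have hLs : LocCoh.HasSk 2 A[T;T⁻¹] A[T;T⁻¹] :=
      hasSk_of_isLocalization 2 (Submonoid.powers 𝓕.u)
        (Algebra.linearMap 𝓕.extRees A[T;T⁻¹]) h
    exact (hasSk_laurent_iff 2).1 hLs
  · rintro ⟨hG, hA⟩ P hP
    by_cases hu : 𝓕.u ∈ P
    · have hker : RingHom.ker (Ideal.Quotient.mk (Ideal.span {𝓕.u})) ≤ P := by
        rw [Ideal.mk_ker, Ideal.span_le, Set.singleton_subset_iff]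
        exact hu
      haveI hQ : (P.map (Ideal.Quotient.mk (Ideal.span {𝓕.u}))).IsPrime :=
        Ideal.map_isPrime_of_surjective Ideal.Quotient.mk_surjective hker
      have hcomap : (P.map (Ideal.Quotient.mk (Ideal.span {𝓕.u}))).comap
          (Ideal.Quotient.mk (Ideal.span {𝓕.u})) = P := by
        rw [Ideal.comap_map_of_surjective _ Ideal.Quotient.mk_surjective,
          ← RingHom.ker_eq_comap_bot, sup_eq_left]
        exact hker
      exact (skIneq_congr_ideal 2 _ _ _ hcomap).1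
        ((sk_quot_iff 1 𝓕.u (u_regular 𝓕) _).2 (hG _))
    · obtain ⟨P', hP', hcomap⟩ := exists_prime_laurent 𝓕 P hu
      have hLs := (hasSk_laurent_iff 2).2 hA P'
      rw [← depth_localization_of_isLocalization' (Submonoid.powers 𝓕.u)
          (Algebra.linearMap 𝓕.extRees A[T;T⁻¹]) P' P hcomap.symm,
        ← supportDim_localization_of_isLocalization' (Submonoid.powers 𝓕.u)
          (Algebra.linearMap 𝓕.extRees A[T;T⁻¹]) P' P hcomap.symm] at hLs
      exact hLs

end Main

end Groth.Agent.Lib.Helper20.ExtRees
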