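import Mathlib
import Groth.Agent.Lib.Helper20.ExtRees7

/-!
# Cohen–Macaulayness of the extended Rees algebra off the positive part
-/

set_option autoImplicit false
set_option linter.unusedSectionVars false
set_option linter.unusedVariables false
set_option linter.style.haveILetI false

universe u

namespace Groth.Agent.Lib.Helper20.ExtRees

open Polynomial LaurentPolynomial IsLocalRing
open Groth.Agent.Lib.Helper21 Groth.Agent.Lib.Helper21.DepthKit Groth.Agent.Lib.helper11.CMLocus
open Groth.Agent.Lib.Helper20.Sym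

/-- surjection with kernel generated by a regular element: Cohen–Macaulay transfer -/
theorem cm_surj_iff {S S' : Type u} [CommRing S] [CommRing S'] [IsNoetherianRing S]
    (φ : S →+* S') (hφ : Function.Surjective φ) (x : S) (hx : IsSMulRegular S x)
    (hker : RingHom.ker φ = Ideal.span {x}) (Q : Ideal S') [Q.IsPrime] :
    LocCoh.IsCohenMacaulayLocalRing (Localization.AtPrime (Q.comap φ)) ↔
      LocCoh.IsCohenMacaulayLocalRing (Localization.AtPrime Q) := by
  let e : (S ⧸ Ideal.span {x}) ≃+* S' :=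
    (Ideal.quotEquivOfEq hker.symm).trans (RingHom.quotientKerEquivOfSurjective hφ)
  have he : ∀ s : S, e (Ideal.Quotient.mk (Ideal.span {x}) s) = φ s := by
    intro s
    rfl
  set Q₁ : Ideal (S ⧸ Ideal.span {x}) := Q.comap (e : (S ⧸ Ideal.span {x}) →+* S') with hQ₁
  have heq : Q.comap φ = Q₁.comap (Ideal.Quotient.mk (Ideal.span {x})) := by
    ext s
    rw [Ideal.mem_comap, Ideal.mem_comap, hQ₁, Ideal.mem_comap]
    change φ s ∈ Q ↔ e (Ideal.Quotient.mk (Ideal.span {x}) s) ∈ Q
    rw [he]
  exact (cm_congr_ideal _ _ heq).trans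
    ((cm_quot_iff x hx Q₁).trans
      (Groth.Agent.Lib.Helper7.FibreCM.isCM_iff_of_ringEquiv (locEquiv e Q)))

section Main

variable {A : Type u} [CommRing A] [IsNoetherianRing A] [IsLocalRing A]
  (𝓕 : FiltBl.IdealFiltration A) (hfg : Algebra.FiniteType A 𝓕.rees)

include hfg in
/-- Cohen–Macaulayness at a prime of the Laurent ring and at its contraction to `extRees` -/
theorem cm_contract_iff (P' : Ideal A[T;T⁻¹]) [P'.IsPrime] (P : Ideal 𝓕.extRees) [P.IsPrime]
    (hcomap : P'.comap (algebraMap 𝓕.extRees A[T;T⁻¹]) = P) :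
    LocCoh.IsCohenMacaulayLocalRing (Localization.AtPrime P) ↔
      LocCoh.IsCohenMacaulayLocalRing (Localization.AtPrime P') := by
  haveI := isNoetherianRing_extRees 𝓕 hfg
  haveI := isNoetherianRing_laurent 𝓕 hfg
  haveI : IsLocalizedModule (Submonoid.powers 𝓕.u) (Algebra.linearMap 𝓕.extRees A[T;T⁻¹]) :=
    isLocalizedModule_iff_isLocalization.2 inferInstance
  rw [isCMLocalRing_iff_module 𝓕.extRees P, isCMLocalRing_iff_module A[T;T⁻¹] P']
  unfold LocCoh.IsCohenMacaulayModule
  rw [depth_localization_of_isLocalization' (Submonoid.powers 𝓕.u)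
      (Algebra.linearMap 𝓕.extRees A[T;T⁻¹]) P' P hcomap.symm,
    supportDim_localization_of_isLocalization' (Submonoid.powers 𝓕.u)
      (Algebra.linearMap 𝓕.extRees A[T;T⁻¹]) P' P hcomap.symm]

variable (G : Type u) [CommRing G] (φ : 𝓕.extRees →+* G) (hφ : Function.Surjective φ)
  (hker : RingHom.ker φ = Ideal.span {𝓕.u}) (Rp : Ideal 𝓕.extRees)
  (hRp : Rp = Ideal.span {x : 𝓕.extRees | ∃ n : ℕ, 0 < n ∧ ∃ a ∈ 𝓕.F n,
      (x : LaurentPolynomial A) = LaurentPolynomial.C a * LaurentPolynomial.T (n : ℤ)})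

theorem C_mul_T_mem {n : ℕ} {a : A} (ha : a ∈ 𝓕.F n) :
    LaurentPolynomial.C a * LaurentPolynomial.T (n : ℤ) ∈ 𝓕.extRees := by
  intro k
  rw [← LaurentPolynomial.single_eq_C_mul_T, AddMonoidAlgebra.coeff_single]
  by_cases hk : k = (n : ℤ)
  · subst hk
    rw [Finsupp.single_eq_same, Int.toNat_natCast]
    exact ha
  · rw [Finsupp.single_eq_of_ne hk]
    exact Ideal.zero_mem _

include hfg hφ hker hRp in
theorem cm_off_iff :
    (∀ (P : Ideal 𝓕.extRees) [P.IsPrime], ¬ Rp ≤ P →
        LocCoh.IsCohenMacaulayLocalRing (Localization.AtPrime P)) ↔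
      ((∀ (p : Ideal G) [p.IsPrime], ¬ Ideal.map φ Rp ≤ p →
          LocCoh.IsCohenMacaulayLocalRing (Localization.AtPrime p)) ∧
        (∀ (q : Ideal A) [q.IsPrime], ¬ 𝓕.F 1 ≤ q →
            LocCoh.IsCohenMacaulayLocalRing (Localization.AtPrime q))) := by
  haveI := isNoetherianRing_extRees 𝓕 hfg
  haveI := isNoetherianRing_laurent 𝓕 hfg
  constructor
  · intro h
    refine ⟨fun p hp hnp => ?_, fun q hq hnq => ?_⟩
    · refine (cm_surj_iff φ hφ 𝓕.u (u_regular 𝓕) hker p).1 (h _ fun hle => hnp ?_)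
      exact (Ideal.map_mono hle).trans Ideal.map_comap_le
    · obtain ⟨⟨P', hP'⟩, hP'q⟩ :=
        PrimeSpectrum.comap_surjective_of_faithfullyFlat (A := A) (B := A[T;T⁻¹])
          ⟨q, hq⟩
      have hunder : P'.under A = q := congrArg PrimeSpectrum.asIdeal hP'q
      haveI := hP'
      set P := P'.comap (algebraMap 𝓕.extRees A[T;T⁻¹]) with hP
      have hnRp : ¬ Rp ≤ P := by
        intro hle
        apply hnq
        intro a ha
        have hx : (⟨LaurentPolynomial.C a * LaurentPolynomial.T ((1 : ℕ) : ℤ),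
            C_mul_T_mem 𝓕 ha⟩ : 𝓕.extRees) ∈ Rp := by
          rw [hRp]
          exact Ideal.subset_span ⟨1, Nat.one_pos, a, ha, rfl⟩
        have hxP := hle hx
        rw [hP, Ideal.mem_comap] at hxP
        change LaurentPolynomial.C a * LaurentPolynomial.T ((1 : ℕ) : ℤ) ∈ P' at hxP
        have hCa : LaurentPolynomial.C a ∈ P' := by
          have := P'.mul_mem_right (LaurentPolynomial.T (-((1 : ℕ) : ℤ))) hxP
          rwa [mul_assoc, ← LaurentPolynomial.T_add, add_neg_cancel, LaurentPolynomial.T_zero,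
            mul_one] at this
        rw [← hunder, Ideal.under, Ideal.mem_comap, ← LaurentPolynomial.C_eq_algebraMap]
        exact hCa
      have h1 := (cm_contract_iff 𝓕 hfg P' P rfl).1 (h P hnRp)
      have h2 := (cm_laurent_iff P').1 h1
      exact (cm_congr_ideal _ _ hunder).1 h2
  · rintro ⟨hG, hA⟩ P hP hnP
    by_cases hu : 𝓕.u ∈ P
    · have hkerP : RingHom.ker φ ≤ P := by
        rw [hker, Ideal.span_le, Set.singleton_subset_iff]
        exact hu
      haveI hQ : (P.map φ).IsPrime := Ideal.map_isPrime_of_surjective hφ hkerP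
      have hcomap : (P.map φ).comap φ = P := by
        rw [Ideal.comap_map_of_surjective _ hφ, ← RingHom.ker_eq_comap_bot, sup_eq_left]
        exact hkerP
      have hn : ¬ Ideal.map φ Rp ≤ P.map φ := by
        intro hle
        apply hnP
        have := Ideal.comap_mono (f := φ) hle
        rw [hcomap] at this
        exact Ideal.le_comap_map.trans this
      exact (cm_congr_ideal _ _ hcomap).1
        ((cm_surj_iff φ hφ 𝓕.u (u_regular 𝓕) hker (P.map φ)).2 (hG _ hn))
    · obtain ⟨P', hP', hcomap⟩ := exists_prime_laurent 𝓕 P hu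
      have hnq : ¬ 𝓕.F 1 ≤ P'.under A := by
        intro hle
        apply hnP
        rw [hRp, Ideal.span_le]
        rintro x ⟨n, hn, a, ha, hx⟩
        rw [SetLike.mem_coe, ← hcomap, Ideal.mem_comap]
        change (x : A[T;T⁻¹]) ∈ P'
        rw [hx]
        apply P'.mul_mem_right
        have haq : a ∈ P'.under A := hle (F_le_one 𝓕 hn ha)
        rw [Ideal.under, Ideal.mem_comap, ← LaurentPolynomial.C_eq_algebraMap] at haq
        exact haq
      exact (cm_contract_iff 𝓕 hfg P' P hcomap).2 ((cm_laurent_iff P').2 (hA _ hnq))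

end Main

end Groth.Agent.Lib.Helper20.ExtRees
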