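import Mathlib

/-!
# Unique factorization: localizations, and monomial factors in Laurent polynomial rings
-/

set_option autoImplicit false
set_option linter.unusedSectionVars false
set_option linter.unusedVariables false
set_option linter.style.haveILetI false

universe u

namespace Groth.Agent.Lib.Helper20.ExtRees

open Polynomial LaurentPolynomial

/-- a localization of a UFD is a UFD -/
theorem ufd_of_isLocalization {R B : Type*} [CommRing R] [IsDomain R]
    [UniqueFactorizationMonoid R] (S : Submonoid R) [CommRing B] [IsDomain B] [Algebra R B]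
    [IsLocalization S B] : UniqueFactorizationMonoid B := by
  have h0 : (0 : R) ∉ S := by
    intro h
    have := IsLocalization.map_units B ⟨0, h⟩
    rw [map_zero] at this
    exact not_isUnit_zero this
  have hS : S ≤ nonZeroDivisors R := le_nonZeroDivisors_of_noZeroDivisors h0
  rw [UniqueFactorizationMonoid.iff_exists_prime_mem_of_isPrime]
  intro Q hQ0 hQ
  have hP0 : Q.comap (algebraMap R B) ≠ ⊥ := by
    intro h
    apply hQ0
    have h' : Ideal.under R Q = ⊥ := h
    rw [← IsLocalization.map_comap S B Q, h', Ideal.map_bot]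
  obtain ⟨p, hpP, hp⟩ := (UniqueFactorizationMonoid.iff_exists_prime_mem_of_isPrime.1
    inferInstance) (Q.comap (algebraMap R B)) hP0 inferInstance
  refine ⟨algebraMap R B p, hpP, ?_⟩
  have hdisj : Disjoint (S : Set R) (Ideal.span {p} : Set R) := by
    rw [Set.disjoint_left]
    intro s hs hsp
    have hsQ : algebraMap R B s ∈ Q :=
      ((Ideal.span_singleton_le_iff_mem (I := Q.comap (algebraMap R B))).2 hpP) hsp
    exact hQ.ne_top (Ideal.eq_top_of_isUnit_mem _ hsQ (IsLocalization.map_units B ⟨s, hs⟩))
  have hprime : (Ideal.span {p}).IsPrime := (Ideal.span_singleton_prime hp.ne_zero).2 hp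
  have h2 := IsLocalization.isPrime_of_isPrime_disjoint S B (Ideal.span {p}) hprime hdisj
  rw [Ideal.map_span, Set.image_singleton] at h2
  have hne : algebraMap R B p ≠ 0 := by
    intro h
    apply hp.ne_zero
    apply IsLocalization.injective B hS
    rw [h, map_zero]
  exact (Ideal.span_singleton_prime hne).1 h2

section Mono

variable {A : Type u} [CommRing A] [IsDomain A]

/-- a polynomial factor of a monomial over a domain is a monomial -/
theorem poly_eq_monomial_of_mul {p q : A[X]} {a : A} (ha : a ≠ 0) {k : ℕ}
    (h : p * q = Polynomial.C a * Polynomial.X ^ k) :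
    ∃ (c : A) (d : ℕ), p = Polynomial.C c * Polynomial.X ^ d := by
  refine ⟨p.coeff p.natDegree, p.natDegree, ?_⟩
  have hne : (Polynomial.C a * Polynomial.X ^ k : A[X]) ≠ 0 := by
    rw [Ne, Polynomial.C_mul_X_pow_eq_monomial, Polynomial.monomial_eq_zero_iff]
    exact ha
  have hp0 : p ≠ 0 := by
    rintro rfl
    rw [zero_mul] at h
    exact hne h.symm
  have hq0 : q ≠ 0 := by
    rintro rfl
    rw [mul_zero] at h
    exact hne h.symm
  have h1 : (p * q).natDegree = k := by
    rw [h, Polynomial.natDegree_C_mul_X_pow k a ha]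
  have h2 : (p * q).natTrailingDegree = k := by
    rw [h, Polynomial.C_mul_X_pow_eq_monomial, Polynomial.natTrailingDegree_monomial ha]
  rw [Polynomial.natDegree_mul hp0 hq0] at h1
  rw [Polynomial.natTrailingDegree_mul hp0 hq0] at h2
  have h3 := Polynomial.natTrailingDegree_le_natDegree (p := p)
  have h4 := Polynomial.natTrailingDegree_le_natDegree (p := q)
  have h5 : p.natTrailingDegree = p.natDegree := by omega
  ext j
  rw [Polynomial.C_mul_X_pow_eq_monomial, Polynomial.coeff_monomial]
  split_ifs with hj
  · rw [hj]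
  · rcases lt_or_gt_of_ne hj with hlt | hgt
    · exact Polynomial.coeff_eq_zero_of_natDegree_lt hlt
    · exact Polynomial.coeff_eq_zero_of_lt_natTrailingDegree (by omega)

/-- a factor of a nonzero monomial in a Laurent polynomial ring over a domain is a monomial -/
theorem laurent_eq_monomial_of_mul {f g : A[T;T⁻¹]} {a : A} (ha : a ≠ 0) {n : ℤ}
    (h : f * g = LaurentPolynomial.C a * T n) :
    ∃ (c : A) (m : ℤ), f = LaurentPolynomial.C c * T m := by
  obtain ⟨N, p, hp⟩ := LaurentPolynomial.exists_T_pow f
  obtain ⟨M, q, hq⟩ := LaurentPolynomial.exists_T_pow g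
  have hpq : toLaurent (p * q) = LaurentPolynomial.C a * T (n + N + M) := by
    rw [map_mul, hp, hq]
    calc f * T N * (g * T M) = (f * g) * (T N * T M) := by ring
      _ = LaurentPolynomial.C a * T (n + N + M) := by
        rw [h, ← LaurentPolynomial.T_add, mul_assoc, ← LaurentPolynomial.T_add]
        congr 2
        ring
  have hk : 0 ≤ n + N + M := by
    by_contra hneg
    rw [not_le] at hneg
    have h1 : (toLaurent (p * q)).coeff (n + N + M) =
        (LaurentPolynomial.C a * T (n + N + M)).coeff (n + N + M) := by rw [hpq]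
    rw [← LaurentPolynomial.single_eq_C_mul_T, AddMonoidAlgebra.coeff_single,
      Finsupp.single_eq_same, coeff_toLaurent] at h1
    rw [Finsupp.mapDomain_notin_range] at h1
    · exact ha h1.symm
    · rintro ⟨j, hj⟩
      have : (j : ℤ) = n + N + M := hj
      omega
  obtain ⟨k, hk'⟩ := Int.eq_ofNat_of_zero_le hk
  rw [hk'] at hpq
  have hpq' : p * q = Polynomial.C a * Polynomial.X ^ k := by
    apply Polynomial.toLaurent_injective
    rw [hpq, Polynomial.C_mul_X_pow_eq_monomial, Polynomial.toLaurent_C_mul_T]
  obtain ⟨c, d, hmono⟩ := poly_eq_monomial_of_mul ha hpq'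
  refine ⟨c, (d : ℤ) - N, ?_⟩
  have : f = toLaurent p * T (-(N : ℤ)) := by
    rw [hp, mul_assoc, ← LaurentPolynomial.T_add, add_neg_cancel, LaurentPolynomial.T_zero,
      mul_one]
  rw [this, hmono, Polynomial.C_mul_X_pow_eq_monomial, Polynomial.toLaurent_C_mul_T,
    mul_assoc, ← LaurentPolynomial.T_add, sub_eq_add_neg]

end Mono

end Groth.Agent.Lib.Helper20.ExtRees
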