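import Mathlib
import Groth.Agent.Lib.Helper20.ExtReesUfd1
import Groth.Agent.Lib.Helper20.ExtRees5
import Groth.Agent.S2119

/-!
# The extended Rees algebra is a UFD iff the base is and the associated graded ring is a domain
-/

set_option autoImplicit false
set_option linter.unusedSectionVars false
set_option linter.unusedVariables false
set_option linter.style.haveILetI false

universe u

namespace Groth.Agent.Lib.Helper20.ExtRees

open Polynomial LaurentPolynomial

section Mono

variable {A : Type u} [CommRing A] [IsDomain A]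

theorem coeff_C_mul (c : A) (w : A[T;T⁻¹]) (n : ℤ) :
    (LaurentPolynomial.C c * w).coeff n = c * w.coeff n := by
  rw [← LaurentPolynomial.smul_eq_C_mul]
  rfl

theorem coeff_C_mul_T (c : A) (m n : ℤ) :
    (LaurentPolynomial.C c * T m : A[T;T⁻¹]).coeff n = if m = n then c else 0 := by
  rw [← LaurentPolynomial.single_eq_C_mul_T, AddMonoidAlgebra.coeff_single,
    Finsupp.single_apply]

/-- multiplying two monomials -/
theorem monomial_mul_monomial (c c' : A) (m m' : ℤ) :
    (LaurentPolynomial.C c * T m : A[T;T⁻¹]) * (LaurentPolynomial.C c' * T m') =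
      LaurentPolynomial.C (c * c') * T (m + m') := by
  rw [map_mul, LaurentPolynomial.T_add]
  ring

/-- if a product of two monomials is a nonzero monomial, coefficients and exponents match -/
theorem monomial_mul_eq {c c' a : A} {m m' n : ℤ} (ha : a ≠ 0)
    (h : (LaurentPolynomial.C c * T m : A[T;T⁻¹]) * (LaurentPolynomial.C c' * T m') =
      LaurentPolynomial.C a * T n) : c * c' = a ∧ m + m' = n := by
  rw [monomial_mul_monomial] at h
  have h1 := congrArg (fun z : A[T;T⁻¹] => z.coeff n) h
  simp only [coeff_C_mul_T, if_pos rfl] at h1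
  by_cases hmn : m + m' = n
  · rw [if_pos hmn] at h1
    exact ⟨h1, hmn⟩
  · rw [if_neg hmn] at h1
    exact absurd h1.symm ha

/-- both factors of a nonzero monomial are monomials, with matching data -/
theorem exists_monomials_of_mul {f g : A[T;T⁻¹]} {a : A} (ha : a ≠ 0) {n : ℤ}
    (h : f * g = LaurentPolynomial.C a * T n) :
    ∃ (c c' : A) (m m' : ℤ), f = LaurentPolynomial.C c * T m ∧
      g = LaurentPolynomial.C c' * T m' ∧ c * c' = a ∧ m + m' = n := by
  obtain ⟨c, m, hf⟩ := laurent_eq_monomial_of_mul (f := f) (g := g) ha h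
  obtain ⟨c', m', hg⟩ := laurent_eq_monomial_of_mul (f := g) (g := f) ha
    ((mul_comm g f).trans h)
  subst hf hg
  obtain ⟨h1, h2⟩ := monomial_mul_eq (c := c) (c' := c') (m := m) (m' := m') ha h
  exact ⟨c, c', m, m', rfl, rfl, h1, h2⟩

theorem isUnit_of_isUnit_C {c : A} (h : IsUnit (LaurentPolynomial.C c : A[T;T⁻¹])) : IsUnit c := by
  obtain ⟨w, hw⟩ := h.exists_right_inv
  have h1 := congrArg (fun z : A[T;T⁻¹] => z.coeff 0) hw
  simp only [coeff_C_mul] at h1
  rw [← LaurentPolynomial.T_zero, LaurentPolynomial.T_apply, if_pos rfl] at h1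
  exact IsUnit.of_mul_eq_one _ h1

theorem dvd_of_C_dvd_C {c x : A} (h : (LaurentPolynomial.C c : A[T;T⁻¹]) ∣ LaurentPolynomial.C x) :
    c ∣ x := by
  obtain ⟨w, hw⟩ := h
  have h1 := congrArg (fun z : A[T;T⁻¹] => z.coeff 0) hw
  simp only [coeff_C_mul, LaurentPolynomial.C_apply, if_pos] at h1
  exact ⟨w.coeff 0, h1⟩

theorem prime_of_prime_C {c : A} (h : Prime (LaurentPolynomial.C c : A[T;T⁻¹])) : Prime c := by
  refine ⟨?_, ?_, ?_⟩
  · rintro rfl
    exact h.ne_zero (map_zero _)
  · intro hu
    exact h.not_isUnit (hu.map (LaurentPolynomial.C : A →+* A[T;T⁻¹]))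
  · intro x y hxy
    have : (LaurentPolynomial.C c : A[T;T⁻¹]) ∣ LaurentPolynomial.C x * LaurentPolynomial.C y := by
      rw [← map_mul]
      exact map_dvd (LaurentPolynomial.C : A →+* A[T;T⁻¹]) hxy
    rcases h.dvd_or_dvd this with h1 | h1
    · exact Or.inl (dvd_of_C_dvd_C h1)
    · exact Or.inr (dvd_of_C_dvd_C h1)

/-- descent of unique factorization from the Laurent polynomial ring -/
theorem ufd_of_ufd_laurent [UniqueFactorizationMonoid A[T;T⁻¹]] : UniqueFactorizationMonoid A := by
  rw [UniqueFactorizationMonoid.iff_exists_prime_mem_of_isPrime]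
  intro q hq0 hq
  have key : ∀ (s : Multiset A[T;T⁻¹]) (v : A[T;T⁻¹]) (a : A), IsUnit v → a ≠ 0 → a ∈ q →
      (∀ b ∈ s, Prime b) → s.prod * v = LaurentPolynomial.C a → ∃ x ∈ q, Prime x := by
    intro s
    induction s using Multiset.induction_on with
    | empty =>
      intro v a hv ha haq _ h
      rw [Multiset.prod_zero, one_mul] at h
      rw [h] at hv
      exact absurd (Ideal.eq_top_of_isUnit_mem _ haq (isUnit_of_isUnit_C hv)) hq.ne_top
    | cons b s ih =>
      intro v a hv ha haq hs h
      rw [Multiset.prod_cons, mul_assoc] at h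
      have h' : b * (s.prod * v) = LaurentPolynomial.C a * T 0 := by
        rw [h, LaurentPolynomial.T_zero, mul_one]
      obtain ⟨c, c', m, m', hb, hrest, hcc, hmm⟩ := exists_monomials_of_mul ha h'
      have hbprime : Prime b := hs b (Multiset.mem_cons_self b s)
      have hc0 : c ≠ 0 := by
        rintro rfl
        rw [zero_mul] at hcc
        exact ha hcc.symm
      have hc'0 : c' ≠ 0 := by
        rintro rfl
        rw [mul_zero] at hcc
        exact ha hcc.symm
      rw [← hcc] at haq
      rcases hq.mem_or_mem haq with hcq | hcq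
      · refine ⟨c, hcq, prime_of_prime_C ?_⟩
        have hassoc : Associated b (LaurentPolynomial.C c : A[T;T⁻¹]) := by
          rw [hb]
          exact associated_mul_unit_left _ _ (LaurentPolynomial.isUnit_T m)
        exact hassoc.prime hbprime
      · refine ih (v * T (-m')) c' (hv.mul (LaurentPolynomial.isUnit_T _)) hc'0 hcq
          (fun x hx => hs x (Multiset.mem_cons_of_mem hx)) ?_
        rw [← mul_assoc, hrest, mul_assoc, ← LaurentPolynomial.T_add, add_neg_cancel,
          LaurentPolynomial.T_zero, mul_one]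
  obtain ⟨a, haq, ha0⟩ : ∃ a ∈ q, a ≠ 0 := by
    by_contra hcon
    apply hq0
    rw [eq_bot_iff]
    intro x hx
    by_contra hx0
    exact hcon ⟨x, hx, hx0⟩
  have hCa : (LaurentPolynomial.C a : A[T;T⁻¹]) ≠ 0 := by
    intro h
    apply ha0
    have := congrArg (fun z : A[T;T⁻¹] => z.coeff 0) h
    simpa using this
  obtain ⟨s, hs, u, hu⟩ := UniqueFactorizationMonoid.exists_prime_factors _ hCa
  exact key s u a u.isUnit ha0 haq hs hu

end Mono

end Groth.Agent.Lib.Helper20.ExtRees
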