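import Mathlib
import Groth.Agent.Lib.Helper20.ExtReesUfd2

/-!
# The extended Rees algebra is a UFD iff the base is and the associated graded ring is a domain
-/

set_option autoImplicit false
set_option linter.unusedSectionVars false
set_option linter.unusedVariables false
set_option linter.style.haveILetI false

universe u

namespace Groth.Agent.Lib.Helper20.ExtRees

open Polynomial LaurentPolynomial IsLocalRing

section Main

variable {A : Type u} [CommRing A] [IsNoetherianRing A] [IsLocalRing A] [IsDomain A]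
  (𝓕 : FiltBl.IdealFiltration A) (hsep : ⨅ n, 𝓕.F n = ⊥) (hfg : Algebra.FiniteType A 𝓕.rees)

theorem u_ne_zero : 𝓕.u ≠ 0 := by
  intro h
  have h1 : ((𝓕.u : 𝓕.extRees) : A[T;T⁻¹]) = 0 := by rw [h]; rfl
  exact (LaurentPolynomial.isUnit_T (-1)).ne_zero h1

theorem coe_algebraMap (c : A) :
    ((algebraMap A 𝓕.extRees c : 𝓕.extRees) : A[T;T⁻¹]) = LaurentPolynomial.C c := by
  change algebraMap A A[T;T⁻¹] c = _
  rw [LaurentPolynomial.algebraMap_apply, Algebra.algebraMap_self, RingHom.id_apply]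

theorem isUnit_of_coe_eq_C {a : 𝓕.extRees} {c : A} (hc : IsUnit c)
    (ha : (a : A[T;T⁻¹]) = LaurentPolynomial.C c * T 0) : IsUnit a := by
  have : a = algebraMap A 𝓕.extRees c := by
    apply Subtype.ext
    rw [ha, coe_algebraMap, LaurentPolynomial.T_zero, mul_one]
  rw [this]
  exact hc.map _

theorem nonpos_of_unit_coeff (hm : 𝓕.F 1 ≤ maximalIdeal A) {a : 𝓕.extRees} {c : A} {i : ℤ}
    (hc : IsUnit c) (ha : (a : A[T;T⁻¹]) = LaurentPolynomial.C c * T i) : i ≤ 0 := by
  by_contra hi
  rw [not_le] at hi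
  have hmem := a.2 i
  rw [ha, coeff_C_mul_T, if_pos rfl] at hmem
  have : c ∈ maximalIdeal A := hm (F_le_one 𝓕 (by omega) hmem)
  exact (IsLocalRing.mem_maximalIdeal c).1 this hc

theorem u_irreducible (hm : 𝓕.F 1 ≤ maximalIdeal A) : Irreducible 𝓕.u := by
  refine ⟨?_, ?_⟩
  · intro hu
    have := u_mem_vertex 𝓕 _ hm
    exact (vertex_isMaximal 𝓕 _ hm).ne_top (Ideal.eq_top_of_isUnit_mem _ this hu)
  · intro a b hab
    have hab' : (a : A[T;T⁻¹]) * (b : A[T;T⁻¹]) = LaurentPolynomial.C 1 * T (-1) := by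
      rw [map_one, one_mul, ← Subalgebra.coe_mul, ← hab]
      rfl
    obtain ⟨c, c', i, j, ha, hb, hcc, hij⟩ := exists_monomials_of_mul one_ne_zero hab'
    have hcu : IsUnit c := IsUnit.of_mul_eq_one _ hcc
    have hc'u : IsUnit c' := IsUnit.of_mul_eq_one _ (by rw [mul_comm]; exact hcc)
    have hi := nonpos_of_unit_coeff 𝓕 hm hcu ha
    have hj := nonpos_of_unit_coeff 𝓕 hm hc'u hb
    have h0 : i = 0 ∨ j = 0 := by omega
    rcases h0 with h0 | h0
    · left
      rw [h0] at ha
      exact isUnit_of_coe_eq_C 𝓕 hcu ha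
    · right
      rw [h0] at hb
      exact isUnit_of_coe_eq_C 𝓕 hc'u hb

include hsep hfg in
theorem ufd_iff [IsDomain 𝓕.extRees] :
    UniqueFactorizationMonoid 𝓕.extRees ↔ (UniqueFactorizationMonoid A ∧ IsDomain 𝓕.Gr) := by
  haveI := isNoetherianRing_extRees 𝓕 hfg
  have hm := F_one_le_maximalIdeal 𝓕 hsep
  have hu0 := u_ne_zero 𝓕
  constructor
  · intro hU
    haveI := hU
    haveI : UniqueFactorizationMonoid A[T;T⁻¹] :=
      ufd_of_isLocalization (R := 𝓕.extRees) (Submonoid.powers 𝓕.u)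
    refine ⟨ufd_of_ufd_laurent, ?_⟩
    rw [Ideal.Quotient.isDomain_iff_prime, Ideal.span_singleton_prime hu0]
    exact UniqueFactorizationMonoid.irreducible_iff_prime.1 (u_irreducible 𝓕 hm)
  · rintro ⟨hA, hG⟩
    haveI := hA
    have hprime : Prime 𝓕.u := by
      rw [← Ideal.span_singleton_prime hu0, ← Ideal.Quotient.isDomain_iff_prime]
      exact hG
    haveI : UniqueFactorizationMonoid A[T;T⁻¹] :=
      ufd_of_isLocalization (R := A[X]) (Submonoid.powers (Polynomial.X : A[X]))
    have hfac : ∀ a : 𝓕.extRees, a ≠ 0 → ¬ IsUnit a →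
        ∃ f : Multiset 𝓕.extRees, (∀ b ∈ f, Irreducible b) ∧ Associated f.prod a :=
      fun a ha _ => WfDvdMonoid.exists_factors a ha
    have hle : Submonoid.closure {𝓕.u} ≤ nonZeroDivisors 𝓕.extRees := by
      rw [Submonoid.closure_le]
      intro x hx
      rw [Set.mem_singleton_iff] at hx
      subst hx
      exact mem_nonZeroDivisors_of_ne_zero hu0
    haveI : IsDomain (Localization (Submonoid.closure {𝓕.u})) :=
      IsLocalization.isDomain_localization hle
    haveI : IsLocalization (Submonoid.closure {𝓕.u}) A[T;T⁻¹] := by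
      rw [← Submonoid.powers_eq_closure]
      infer_instance
    let e := IsLocalization.algEquiv (Submonoid.closure {𝓕.u}) A[T;T⁻¹]
      (Localization (Submonoid.closure {𝓕.u}))
    have hS : UniqueFactorizationMonoid (Localization (Submonoid.closure {𝓕.u})) :=
      e.toMulEquiv.uniqueFactorizationMonoid inferInstance
    exact Groth.Agent.S2119.result hfac {𝓕.u} (by rintro p rfl; exact hprime) hS

end Main

end Groth.Agent.Lib.Helper20.ExtRees
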