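import Mathlib
import Groth.Agent.S12080
import Groth.Agent.Lib.Helper24.ExtPow.BaseChange
import Groth.Agent.Lib.Helper20.ExtProd

/-!
# Exterior powers of finite projective modules of constant rank (helper20)

For `P` finite projective of constant rank `n` over `R`: `⋀^n P` is invertible and
`⋀^(n+1) P = 0`.
-/

set_option autoImplicit false
universe u
open TensorProduct

namespace Groth.Agent.Lib.Helper20.LocRank

variable (R : Type u) [CommRing R] (P : Type u) [AddCommGroup P] [Module R P]
  [Module.Finite R P] [Module.Projective R P] (n : ℕ)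

/-- the elements `a` with `P_a` free of rank `n`. -/
def cov : Set R :=
  {a | Nonempty (Module.Basis (Fin n) (Localization.Away a) (Localization.Away a ⊗[R] P))}

theorem span_cov (h : ∀ q : PrimeSpectrum R, Module.rankAtStalk P q = n) :
    Ideal.span (cov R P n) = ⊤ := by
  by_contra hne
  obtain ⟨m, hm, hle⟩ := Ideal.exists_le_maximal _ hne
  have := hm.isPrime
  obtain ⟨a, ham, hfree⟩ :=
    Module.Free.away_of_finite_of_flat_of_rankAtStalk_constant P m (fun m' _ => by rw [h, h])
  apply ham
  apply hle
  apply Ideal.subset_span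
  have hfree' : Module.Free (Localization.Away a) (Localization.Away a ⊗[R] P) :=
    Module.Free.of_equiv (LocalizedModule.equivTensorProduct (Submonoid.powers a) P)
  rcases subsingleton_or_nontrivial (Localization.Away a) with hs | hnt
  · have : Subsingleton (Localization.Away a ⊗[R] P) := Module.subsingleton (Localization.Away a) _
    have : Subsingleton (Fin n →₀ Localization.Away a) :=
      Module.subsingleton (Localization.Away a) _
    exact ⟨Module.Basis.ofRepr (LinearEquiv.ofSubsingleton _ _)⟩
  · obtain ⟨q⟩ : Nonempty (PrimeSpectrum (Localization.Away a)) := inferInstance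
    have h1 : Module.rankAtStalk (Localization.Away a ⊗[R] P) q = n := by
      rw [Module.rankAtStalk_baseChange, h]
    have h2 : Module.finrank (Localization.Away a) (Localization.Away a ⊗[R] P) = n := by
      rw [← h1, Module.rankAtStalk_eq_finrank_of_free]
      rfl
    exact ⟨Module.finBasisOfFinrankEq _ _ h2⟩

/-- local description of exterior powers -/
noncomputable def locEquiv (a : R) (k : ℕ) :
    LocalizedModule.Away a (⋀[R]^k P) ≃ₗ[Localization.Away a]
      ⋀[Localization.Away a]^k (Localization.Away a ⊗[R] P) :=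
  (LocalizedModule.equivTensorProduct (Submonoid.powers a) (⋀[R]^k P)).trans
    (Groth.Agent.Lib.Helper24.ExtPowBC.equiv R (Localization.Away a) P k)

theorem invertible_top (h : ∀ q : PrimeSpectrum R, Module.rankAtStalk P q = n) :
    Module.Invertible R (⋀[R]^n P) := by
  apply Groth.Agent.S12080.result R _ (cov R P n) (span_cov R P n h)
  rintro a ⟨b⟩
  obtain ⟨⟨e3⟩, _⟩ := ExtProd.Q_base n b
  exact ⟨(locEquiv R P a n).trans e3⟩

theorem subsingleton_succ (h : ∀ q : PrimeSpectrum R, Module.rankAtStalk P q = n) :
    Subsingleton (⋀[R]^(n + 1) P) := by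
  suffices hx : ∀ x : ⋀[R]^(n + 1) P, x = 0 from ⟨fun x y => (hx x).trans (hx y).symm⟩
  intro x
  have hloc : ∀ a ∈ cov R P n, ∃ k : ℕ, a ^ k • x = 0 := by
    rintro a ⟨b⟩
    obtain ⟨_, hs⟩ := ExtProd.Q_base n b
    have : Subsingleton (LocalizedModule.Away a (⋀[R]^(n + 1) P)) :=
      (locEquiv R P a (n + 1)).toEquiv.subsingleton
    have h0 : LocalizedModule.mkLinearMap (Submonoid.powers a) (⋀[R]^(n + 1) P) x = 0 :=
      Subsingleton.elim _ _
    obtain ⟨⟨_, k, rfl⟩, hk⟩ := (IsLocalizedModule.eq_zero_iff (Submonoid.powers a)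
      (LocalizedModule.mkLinearMap (Submonoid.powers a) (⋀[R]^(n + 1) P))).mp h0
    exact ⟨k, hk⟩
  let I : Ideal R := LinearMap.ker (LinearMap.toSpanSingleton R (⋀[R]^(n + 1) P) x)
  have hI : I = ⊤ := by
    by_contra hne
    obtain ⟨m, hm, hle⟩ := Ideal.exists_le_maximal _ hne
    have hcov : ¬ (cov R P n ⊆ (m : Set R)) := by
      intro hsub
      have : Ideal.span (cov R P n) ≤ m := Ideal.span_le.mpr hsub
      rw [span_cov R P n h] at this
      exact hm.ne_top (top_le_iff.mp this)
    obtain ⟨a, ha, ham⟩ := Set.not_subset.mp hcov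
    obtain ⟨k, hk⟩ := hloc a ha
    have : a ^ k ∈ I := by
      change LinearMap.toSpanSingleton R _ x (a ^ k) = 0
      rw [LinearMap.toSpanSingleton_apply]
      exact hk
    exact ham (hm.isPrime.mem_of_pow_mem k (hle this))
  have h1 : (1 : R) ∈ I := by rw [hI]; trivial
  have h2 : LinearMap.toSpanSingleton R _ x 1 = 0 := h1
  rwa [LinearMap.toSpanSingleton_apply, one_smul] at h2

end Groth.Agent.Lib.Helper20.LocRank
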