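import Mathlib
import Groth.Agent.Lib.helper11.ExtRegularLin
import Groth.Agent.Lib.Helper24.ExtPow.BaseChange
import Groth.Agent.Lib.Helper20.LocRank
import Groth.Agent.Lib.Helper20.ExtProdGen
import Groth.Agent.Lib.Helper20.CotReg
import Groth.Agent.Lib.Helper20.ConormalDet

/-!
# `Ext^p_A(Ω^(n-p)(A/J), Ω^n(A)) ≃ A/J` for a smooth quotient by a regular sequence (helper20)
-/

set_option autoImplicit false
universe u

open TensorProduct CategoryTheory

namespace Groth.Agent.Lib.Helper20.ExtTopForms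

open Groth.Agent.Lib.Helper20

section Split

variable (k : Type u) [CommRing k] (A : Type u) [CommRing A] [Algebra k A]
  [Algebra.FormallySmooth k A] (J : Ideal A) [Algebra.FormallySmooth k (A ⧸ J)]

theorem exists_split :
    Nonempty (((A ⧸ J) ⊗[A] Ω[A⁄k]) ≃ₗ[A ⧸ J] (J.Cotangent × Ω[(A ⧸ J)⁄k])) := by
  have hsurj : Function.Surjective (algebraMap A (A ⧸ J)) := Ideal.Quotient.mk_surjective
  obtain ⟨l, hl⟩ := (Algebra.FormallySmooth.iff_split_injection (R := k)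
    (P := A) (A := A ⧸ J) hsurj).mp inferInstance
  have hex := KaehlerDifferential.exact_kerCotangentToTensor_mapBaseChange k A (A ⧸ J) hsurj
  have hg := KaehlerDifferential.mapBaseChange_surjective k A (A ⧸ J) hsurj
  have e := (Function.Exact.splitInjectiveEquiv
    (f := KaehlerDifferential.kerCotangentToTensor k A (A ⧸ J))
    (g := (KaehlerDifferential.mapBaseChange k A (A ⧸ J)).restrictScalars A) hex hg ⟨l, hl⟩).1
  have hK : RingHom.ker (algebraMap A (A ⧸ J)) = J := by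
    rw [Ideal.Quotient.algebraMap_eq]; exact Ideal.mk_ker
  have e2 := e.trans (LinearEquiv.prodCongr (ConormalDet.cotCongr hK)
    (LinearEquiv.refl A (Ω[(A ⧸ J)⁄k])))
  exact ⟨e2.extendScalarsOfSurjective hsurj⟩

end Split

section Basis

variable {A : Type u} [CommRing A]

theorem exists_cotBasis (xs : List A) (hreg : RingTheory.Sequence.IsWeaklyRegular A xs) :
    Nonempty (Module.Basis (Fin xs.length) (A ⧸ Ideal.ofList xs) (Ideal.ofList xs).Cotangent) := by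
  have h : Ideal.ofList xs = Ideal.span (Set.range xs.get) := by
    rw [Ideal.ofList, Set.range_list_get]
  have hreg' : RingTheory.Sequence.IsWeaklyRegular A (List.ofFn xs.get) := by
    rwa [List.ofFn_get]
  rw [h]
  exact ⟨CotReg.cotBasis xs.get hreg'⟩

end Basis

section Rank

variable (k : Type u) [CommRing k] (A : Type u) [CommRing A] [Algebra k A]
  [Algebra.Smooth k A] (J : Ideal A) [Algebra.Smooth k (A ⧸ J)]

theorem rank_quot (n p : ℕ) (hn : ∀ q : PrimeSpectrum A, Module.rankAtStalk (Ω[A⁄k]) q = n)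
    (b : Module.Basis (Fin p) (A ⧸ J) J.Cotangent) (q : PrimeSpectrum (A ⧸ J)) :
    Module.rankAtStalk (Ω[(A ⧸ J)⁄k]) q = n - p := by
  have hnt : Nontrivial (A ⧸ J) := by
    by_contra h
    rw [not_nontrivial_iff_subsingleton] at h
    exact q.isPrime.ne_top (Subsingleton.elim _ _)
  obtain ⟨e⟩ := exists_split k A J
  have : Module.Free (A ⧸ J) J.Cotangent := Module.Free.of_basis b
  have : Module.Finite (A ⧸ J) J.Cotangent := Module.Finite.of_basis b
  have h1 : Module.rankAtStalk ((A ⧸ J) ⊗[A] Ω[A⁄k]) q = n := by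
    rw [Module.rankAtStalk_baseChange, hn]
  have h2 := congrFun (Module.rankAtStalk_eq_of_equiv e) q
  rw [h1, Module.rankAtStalk_prod, Pi.add_apply, Module.rankAtStalk_eq_finrank_of_free,
    Pi.natCast_apply] at h2
  have h3 : Module.finrank (A ⧸ J) J.Cotangent = p := by
    rw [Module.finrank_eq_card_basis b, Fintype.card_fin]
  rw [h3] at h2
  simp only [Nat.cast_id] at h2
  omega

end Rank

section End

variable {A : Type u} [CommRing A] (J : Ideal A)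

/-- `End_A(N) ≃ A/J` for an invertible `A/J`-module `N`. -/
theorem endEquiv (N : Type u) [AddCommGroup N] [Module A N] [Module (A ⧸ J) N]
    [IsScalarTower A (A ⧸ J) N] [Module.Invertible (A ⧸ J) N] :
    Nonempty ((N →ₗ[A] N) ≃ₗ[A] (A ⧸ J)) := by
  have hsurj : Function.Surjective (algebraMap A (A ⧸ J)) := Ideal.Quotient.mk_surjective
  have e1 : (N →ₗ[A] N) ≃ₗ[A] (N →ₗ[A ⧸ J] N) := LinearMap.extendScalarsOfSurjectiveEquiv hsurj
  have hfun : ⇑(Algebra.linearMap (A ⧸ J) (Module.End (A ⧸ J) N)) =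
      ⇑(Module.toModuleEnd (A ⧸ J) (S := A ⧸ J) N) := by
    funext b
    refine LinearMap.ext fun x => ?_
    simp
  have hbij : Function.Bijective (Algebra.linearMap (A ⧸ J) (Module.End (A ⧸ J) N)) := by
    rw [hfun]
    exact Module.Invertible.toModuleEnd_bijective (A ⧸ J) N
  have e2 : (A ⧸ J) ≃ₗ[A ⧸ J] (N →ₗ[A ⧸ J] N) := LinearEquiv.ofBijective _ hbij
  exact ⟨e1.trans (e2.symm.restrictScalars A)⟩

end End

section Main

variable (k : Type u) [CommRing k] (A : Type u) [CommRing A] [Algebra k A] [Algebra.Smooth k A]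

open Groth.Agent.Lib.helper11.ExtRegular in
theorem main (n : ℕ) (hn : ∀ q : PrimeSpectrum A, Module.rankAtStalk (Ω[A⁄k]) q = n)
    (xs : List A) (hreg : RingTheory.Sequence.IsWeaklyRegular A xs) (J : Ideal A)
    (hJ : Ideal.ofList xs = J) [Algebra.Smooth k (A ⧸ J)] (p : ℕ) (hp : xs.length = p)
    (hpn : p ≤ n) :
    Nonempty (Abelian.Ext
      (ModuleCat.of A ↥((⋀[A ⧸ J]^(n - p) (Ω[(A ⧸ J)⁄k])).restrictScalars A))
      (ModuleCat.of A ↥(⋀[A]^n (Ω[A⁄k]))) p ≃ₗ[A] (A ⧸ J)) := by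
  subst hJ
  subst hp
  obtain ⟨bC⟩ := exists_cotBasis xs hreg
  have hrB : ∀ q : PrimeSpectrum (A ⧸ Ideal.ofList xs),
      Module.rankAtStalk (Ω[(A ⧸ Ideal.ofList xs)⁄k]) q = n - xs.length :=
    rank_quot k A (Ideal.ofList xs) n xs.length hn bC
  have invA : Module.Invertible A (⋀[A]^n (Ω[A⁄k])) := LocRank.invertible_top A _ n hn
  have invB : Module.Invertible (A ⧸ Ideal.ofList xs)
      (⋀[A ⧸ Ideal.ofList xs]^(n - xs.length) (Ω[(A ⧸ Ideal.ofList xs)⁄k])) :=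
    LocRank.invertible_top _ _ _ hrB
  have subB : Subsingleton
      (⋀[A ⧸ Ideal.ofList xs]^(n - xs.length + 1) (Ω[(A ⧸ Ideal.ofList xs)⁄k])) :=
    LocRank.subsingleton_succ _ _ _ hrB
  -- regularity on `⋀^n Ω_A`
  have hM : RingTheory.Sequence.IsWeaklyRegular (↥(⋀[A]^n (Ω[A⁄k]))) xs := by
    have h1 := hreg.isWeaklyRegular_rTensor (M₂ := ↥(⋀[A]^n (Ω[A⁄k])))
    exact ((TensorProduct.lid A _).isWeaklyRegular_congr xs).mp h1
  have hN : ∀ r ∈ Ideal.ofList xs, ∀ x : ↥((⋀[A ⧸ Ideal.ofList xs]^(n - xs.length)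
      (Ω[(A ⧸ Ideal.ofList xs)⁄k])).restrictScalars A), r • x = 0 := by
    intro r hr x
    have h1 : r • x = (Ideal.Quotient.mk (Ideal.ofList xs) r) • x := by
      rw [← Ideal.Quotient.algebraMap_eq, algebraMap_smul]
    rw [h1, Ideal.Quotient.eq_zero_iff_mem.mpr hr, zero_smul]
  obtain ⟨eR⟩ := hom_quotient_linearEquiv_ext A
    (↥((⋀[A ⧸ Ideal.ofList xs]^(n - xs.length) (Ω[(A ⧸ Ideal.ofList xs)⁄k])).restrictScalars A))
    (Ideal.ofList xs) hN xs (↥(⋀[A]^n (Ω[A⁄k]))) hM (fun r hr => Ideal.subset_span hr)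
  -- the chain over `B = A/J`
  obtain ⟨es⟩ := exists_split k A (Ideal.ofList xs)
  have e0 : ((A ⧸ Ideal.ofList xs) ⊗[A] Ω[A⁄k]) ≃ₗ[A ⧸ Ideal.ofList xs]
      (Ω[(A ⧸ Ideal.ofList xs)⁄k] × (Fin xs.length → (A ⧸ Ideal.ofList xs))) :=
    es.trans ((LinearEquiv.prodComm (A ⧸ Ideal.ofList xs) _ _).trans
      (LinearEquiv.prodCongr (LinearEquiv.refl (A ⧸ Ideal.ofList xs) _) bC.equivFun))
  obtain ⟨e3⟩ := ExtProd.iterEquiv (R := A ⧸ Ideal.ofList xs) xs.length
    (Ω[(A ⧸ Ideal.ofList xs)⁄k]) (n - xs.length) subB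
  have hnp : n - xs.length + xs.length = n := Nat.sub_add_cancel hpn
  rw [hnp] at e3
  have eB : ((A ⧸ Ideal.ofList xs) ⊗[A] ↥(⋀[A]^n (Ω[A⁄k]))) ≃ₗ[A ⧸ Ideal.ofList xs]
      ↥(⋀[A ⧸ Ideal.ofList xs]^(n - xs.length) (Ω[(A ⧸ Ideal.ofList xs)⁄k])) :=
    (Groth.Agent.Lib.Helper24.ExtPowBC.equiv A (A ⧸ Ideal.ofList xs) (Ω[A⁄k]) n).trans
      ((ExtProd.mapEquiv n e0).trans e3.symm)
  have e1 : (↥(⋀[A]^n (Ω[A⁄k])) ⧸ (Ideal.ofList xs • (⊤ : Submodule A ↥(⋀[A]^n (Ω[A⁄k])))))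
      ≃ₗ[A] ↥((⋀[A ⧸ Ideal.ofList xs]^(n - xs.length)
        (Ω[(A ⧸ Ideal.ofList xs)⁄k])).restrictScalars A) :=
    (TensorProduct.quotTensorEquivQuotSMul (↥(⋀[A]^n (Ω[A⁄k]))) (Ideal.ofList xs)).symm.trans
      ((eB.restrictScalars A).trans
        ((Submodule.restrictScalarsEquiv A (A ⧸ Ideal.ofList xs) _
          (⋀[A ⧸ Ideal.ofList xs]^(n - xs.length)
            (Ω[(A ⧸ Ideal.ofList xs)⁄k]))).symm.restrictScalars A))
  have invN : Module.Invertible (A ⧸ Ideal.ofList xs)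
      ↥((⋀[A ⧸ Ideal.ofList xs]^(n - xs.length)
        (Ω[(A ⧸ Ideal.ofList xs)⁄k])).restrictScalars A) :=
    Module.Invertible.congr (Submodule.restrictScalarsEquiv A (A ⧸ Ideal.ofList xs) _
      (⋀[A ⧸ Ideal.ofList xs]^(n - xs.length) (Ω[(A ⧸ Ideal.ofList xs)⁄k]))).symm
  obtain ⟨eE⟩ := endEquiv (Ideal.ofList xs)
    ↥((⋀[A ⧸ Ideal.ofList xs]^(n - xs.length) (Ω[(A ⧸ Ideal.ofList xs)⁄k])).restrictScalars A)
  exact ⟨eR.symm.trans ((LinearEquiv.congrRight e1).trans eE)⟩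

end Main

end Groth.Agent.Lib.Helper20.ExtTopForms
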