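import Mathlib

/-! `a₁ F = F' (1 + μ X)` iff `r! a_r = ∏_{k<r} (a₁ - k μ)`. -/

set_option autoImplicit false

namespace Groth.Agent.Lib.Helper20.FGDeriv

universe u

open Polynomial

variable (A : Type u) [CommRing A]

theorem identity_iff_rec (μ : A) (F : A[X]) :
    F * C (F.coeff 1) = derivative F * (1 + C μ * X) ↔
      ∀ n : ℕ, ((n : A) + 1) * F.coeff (n + 1) = (F.coeff 1 - (n : A) * μ) * F.coeff n := by
  rw [Polynomial.ext_iff]
  have e : derivative F * (1 + C μ * X) = derivative F + (derivative F * C μ) * X := by ring
  constructor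
  · intro h n
    have hn := h n
    rw [coeff_mul_C, e, coeff_add] at hn
    cases n with
    | zero =>
      rw [coeff_mul_X_zero, coeff_derivative] at hn
      simp only [Nat.cast_zero, zero_add, add_zero, zero_mul, sub_zero] at hn ⊢
      linear_combination -hn
    | succ m =>
      rw [coeff_mul_X, coeff_mul_C, coeff_derivative, coeff_derivative] at hn
      push_cast at hn ⊢
      linear_combination -hn
  · intro h n
    have hn := h n
    rw [coeff_mul_C, e, coeff_add]
    cases n with
    | zero =>
      rw [coeff_mul_X_zero, coeff_derivative]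
      simp only [Nat.cast_zero, zero_add, add_zero, zero_mul, sub_zero] at hn ⊢
      linear_combination -hn
    | succ m =>
      rw [coeff_mul_X, coeff_mul_C, coeff_derivative, coeff_derivative]
      push_cast at hn ⊢
      linear_combination -hn

theorem main (p : ℕ) [Fact p.Prime]
    (hu : IsUnit ((Nat.factorial (p - 1) : ℕ) : A)) (μ : A) (F : A[X]) (hF : F.natDegree < p)
    (h0 : F.coeff 0 = 1) :
    F * Polynomial.C (F.coeff 1) = Polynomial.derivative F * (1 + Polynomial.C μ * Polynomial.X) ↔
      ((∀ r : ℕ, 1 ≤ r → r < p →
          (r.factorial : A) * F.coeff r = ∏ k ∈ Finset.range r, (F.coeff 1 - (k : A) * μ)) ∧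
        ∏ k ∈ Finset.range p, (F.coeff 1 - (k : A) * μ) = 0) := by
  have hp : p.Prime := Fact.out
  have hp1 : 1 ≤ p := hp.one_lt.le
  rw [identity_iff_rec]
  have hvan : ∀ n, p ≤ n → F.coeff n = 0 := fun n hn =>
    coeff_eq_zero_of_natDegree_lt (lt_of_lt_of_le hF hn)
  have hunit : ∀ n, n ≤ p - 1 → IsUnit ((n.factorial : ℕ) : A) := by
    intro n hn
    apply isUnit_of_dvd_unit _ hu
    exact Nat.cast_dvd_cast (Nat.factorial_dvd_factorial hn)
  constructor
  · intro hrec
    have hall : ∀ r : ℕ, (r.factorial : A) * F.coeff r =
        ∏ k ∈ Finset.range r, (F.coeff 1 - (k : A) * μ) := by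
      intro r
      induction r with
      | zero => simp [h0]
      | succ r ih =>
        rw [Finset.prod_range_succ, ← ih, Nat.factorial_succ]
        push_cast
        linear_combination (r.factorial : A) * hrec r
    refine ⟨fun r _ _ => hall r, ?_⟩
    rw [← hall p, hvan p le_rfl, mul_zero]
  · rintro ⟨h1, h2⟩ n
    have hall : ∀ r : ℕ, r < p → (r.factorial : A) * F.coeff r =
        ∏ k ∈ Finset.range r, (F.coeff 1 - (k : A) * μ) := by
      intro r hr
      rcases Nat.eq_zero_or_pos r with h | h
      · subst h; simp [h0]
      · exact h1 r h hr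
    rcases Nat.lt_or_ge (n + 1) p with hlt | hge
    · -- n + 1 < p
      have hn := hall n (by omega)
      have hn1 := hall (n + 1) hlt
      rw [Finset.prod_range_succ, ← hn, Nat.factorial_succ] at hn1
      push_cast at hn1
      have hu' := hunit n (by omega)
      apply hu'.mul_left_cancel
      linear_combination hn1
    · rcases Nat.lt_or_ge n p with hlt | hge'
      · -- n + 1 = p
        have hnp : n + 1 = p := by omega
        have hn := hall n hlt
        rw [← hnp, Finset.prod_range_succ, ← hn] at h2
        rw [hvan (n + 1) hge, mul_zero]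
        have hu' := hunit n (by omega)
        apply hu'.mul_left_cancel
        rw [mul_zero]
        linear_combination -h2
      · rw [hvan (n + 1) (by omega), hvan n hge', mul_zero, mul_zero]

end Groth.Agent.Lib.Helper20.FGDeriv
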