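import Groth.Agent.Lib.Helper20.InvFun

/-!
# Inverse series of a one-dimensional formal group law (helper20)
-/

set_option autoImplicit false

namespace Groth.Agent.Lib.Helper20.IFT

open MvPowerSeries Finsupp Groth.Agent.Lib.Helper20.LT

section FG

variable {R : Type*} [CommRing R]

/-- the part of a formal group law of degree `≥ 2` -/
noncomputable def F2 (F : FormalGroup R) : MvPowerSeries (Fin 2) R :=
  F.toPowerSeries - X 0 - X 1

lemma ordGE_F2 (F : FormalGroup R) : OrdGE 2 (F2 F) := by
  classical
  intro m hm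
  rcases Nat.lt_or_ge m.degree 1 with h1 | h1
  · have : m = 0 := (Finsupp.degree_eq_zero_iff m).mp (by omega)
    subst this
    rw [F2, map_sub, map_sub, coeff_zero_eq_constantCoeff_apply, F.zero_constantCoeff,
      coeff_zero_eq_constantCoeff_apply, coeff_zero_eq_constantCoeff_apply, constantCoeff_X,
      constantCoeff_X]
    ring
  · have hm1 : m.degree = 1 := by omega
    have : m ∈ Set.range (fun a : Fin 2 => Finsupp.single a 1) := by
      rw [Finsupp.range_single_one]; exact hm1
    obtain ⟨k, rfl⟩ := this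
    rw [F2, map_sub, map_sub]
    fin_cases k
    · simp [coeff_X, F.lin_coeff_X, Finsupp.single_left_inj]
    · simp [coeff_X, F.lin_coeff_Y, Finsupp.single_left_inj]

lemma subst_eq_add_F2 (F : FormalGroup R) {τ : Type*} {u v : MvPowerSeries τ R}
    (hu : constantCoeff u = 0) (hv : constantCoeff v = 0) :
    subst ![u, v] F.toPowerSeries = u + v + subst ![u, v] (F2 F) := by
  have hS : HasSubst ![u, v] :=
    hasSubst_of_constantCoeff_zero (Fin.forall_fin_two.mpr ⟨hu, hv⟩)
  have h0 : subst ![u, v] (X 0 : MvPowerSeries (Fin 2) R) = u := subst_X hS 0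
  have h1 : subst ![u, v] (X 1 : MvPowerSeries (Fin 2) R) = v := subst_X hS 1
  rw [F2, subst_sub hS, subst_sub hS, h0, h1]
  ring

theorem exists_right_neg (F : FormalGroup R) {τ : Type*} [Fintype τ] (a : MvPowerSeries τ R)
    (ha : constantCoeff a = 0) :
    ∃ b : MvPowerSeries τ R, constantCoeff b = 0 ∧ subst ![a, b] F.toPowerSeries = 0 := by
  let T : MvPowerSeries τ R → MvPowerSeries τ R := fun b =>
    -a - subst ![a, b - C (constantCoeff b)] (F2 F)
  have hF20 : constantCoeff (F2 F) = 0 := ordGE_one_iff.mp ((ordGE_F2 F).mono (by omega))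
  have hT : ∀ r A B, AgreeBelow r A B → AgreeBelow (r + 1) (T A) (T B) := by
    intro r A B hAB
    rw [agreeBelow_iff_ordGE]
    show OrdGE (r + 1) ((-a - subst ![a, A - C (constantCoeff A)] (F2 F)) -
      (-a - subst ![a, B - C (constantCoeff B)] (F2 F)))
    have hkey := ordGE_subst_sub_subst (r := r) (k := 2)
      (a := ![a, A - C (constantCoeff A)]) (b := ![a, B - C (constantCoeff B)])
      (Fin.forall_fin_two.mpr ⟨ha, constantCoeff_sub_C _⟩)
      (Fin.forall_fin_two.mpr ⟨ha, constantCoeff_sub_C _⟩)
      (Fin.forall_fin_two.mpr ⟨by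
          show OrdGE r (a - a); rw [sub_self]; exact ordGE_zero' _,
        agreeBelow_iff_ordGE.mp (agreeBelow_sub_C hAB)⟩) (ordGE_F2 F)
    have : (-a - subst ![a, A - C (constantCoeff A)] (F2 F)) -
        (-a - subst ![a, B - C (constantCoeff B)] (F2 F)) =
        -(subst ![a, A - C (constantCoeff A)] (F2 F) -
          subst ![a, B - C (constantCoeff B)] (F2 F)) := by ring
    rw [this]
    exact hkey.neg.mono (by omega)
  obtain ⟨b, hb, _⟩ := existsUnique_fixed T hT
  have hb0 : constantCoeff b = 0 := by
    rw [← hb]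
    show constantCoeff (-a - subst ![a, b - C (constantCoeff b)] (F2 F)) = 0
    rw [map_sub, map_neg, ha, constantCoeff_subst_fin2 hF20 ha (constantCoeff_sub_C _)]
    ring
  refine ⟨b, hb0, ?_⟩
  have hbb : b - C (constantCoeff b) = b := by rw [hb0, map_zero, sub_zero]
  have hb' : b = -a - subst ![a, b] (F2 F) := by
    conv_lhs => rw [← hb]
    show -a - subst ![a, b - C (constantCoeff b)] (F2 F) = _
    rw [hbb]
  rw [subst_eq_add_F2 F ha hb0]
  conv_lhs => rw [hb']
  ring_nf
  rw [← hb']
  ring

theorem exists_inverse_series (F : FormalGroup R) :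
    ∃ g : PowerSeries R, g.constantCoeff = 0 ∧
      F.toPowerSeries.subst ![PowerSeries.X, g] = (0 : PowerSeries R) ∧
      F.toPowerSeries.subst ![g, PowerSeries.X] = (0 : PowerSeries R) ∧
      ∀ k : PowerSeries R, k.constantCoeff = 0 →
        (F.toPowerSeries.subst ![PowerSeries.X, k] = (0 : PowerSeries R) ∨
          F.toPowerSeries.subst ![k, PowerSeries.X] = (0 : PowerSeries R)) → k = g := by
  have hX0 : constantCoeff (PowerSeries.X : PowerSeries R) = 0 := constantCoeff_X ()
  obtain ⟨g, hg0, hg⟩ := exists_right_neg F (PowerSeries.X : PowerSeries R) hX0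
  obtain ⟨g', hg'0, hg'⟩ := exists_right_neg F g hg0
  let x : F.Point Unit := ⟨PowerSeries.X, PowerSeries.HasSubst.of_constantCoeff_zero hX0⟩
  let G : F.Point Unit := ⟨g, PowerSeries.HasSubst.of_constantCoeff_zero hg0⟩
  let G' : F.Point Unit := ⟨g', PowerSeries.HasSubst.of_constantCoeff_zero hg'0⟩
  have hxG : x + G = 0 := Subtype.ext hg
  have hGG' : G + G' = 0 := Subtype.ext hg'
  have hG'x : G' = x := by
    calc G' = 0 + G' := (zero_add _).symm
      _ = (x + G) + G' := by rw [hxG]
      _ = x + (G + G') := add_assoc _ _ _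
      _ = x := by rw [hGG', add_zero]
  have hGx : G + x = 0 := by rw [← hG'x]; exact hGG'
  refine ⟨g, hg0, hg, congrArg Subtype.val hGx, ?_⟩
  intro k hk0 hk
  let K : F.Point Unit := ⟨k, PowerSeries.HasSubst.of_constantCoeff_zero hk0⟩
  have : K = G := by
    rcases hk with hk | hk
    · have hxK : x + K = 0 := Subtype.ext hk
      calc K = 0 + K := (zero_add _).symm
        _ = (G + x) + K := by rw [hGx]
        _ = G + (x + K) := add_assoc _ _ _
        _ = G := by rw [hxK, add_zero]
    · have hKx : K + x = 0 := Subtype.ext hk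
      calc K = K + 0 := (add_zero _).symm
        _ = K + (x + G) := by rw [hxG]
        _ = (K + x) + G := (add_assoc _ _ _).symm
        _ = G := by rw [hKx, zero_add]
  exact congrArg Subtype.val this

end FG

end Groth.Agent.Lib.Helper20.IFT
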