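import Mathlib

/-! `comapDomain` to a submonoid is multiplicative iff the submonoid is a face. -/

set_option autoImplicit false

namespace Groth.Agent.Lib.Helper20.FaceMul

universe u

open AddMonoidAlgebra in
theorem face_iff {N : Type u} [AddCommMonoid N] (F : AddSubmonoid N) :
    (∀ a b : AddMonoidAlgebra ℤ N,
        AddMonoidAlgebra.comapDomain ((↑) : F → N) Subtype.val_injective (a * b) =
          AddMonoidAlgebra.comapDomain ((↑) : F → N) Subtype.val_injective a *
            AddMonoidAlgebra.comapDomain ((↑) : F → N) Subtype.val_injective b) ↔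
      ∀ x y : N, x + y ∈ F ↔ (x ∈ F ∧ y ∈ F) := by
  have hCin : ∀ (z : N) (hz : z ∈ F) (r : ℤ),
      AddMonoidAlgebra.comapDomain ((↑) : F → N) Subtype.val_injective (single z r) =
        single (⟨z, hz⟩ : F) r := fun z hz r =>
    AddMonoidAlgebra.comapDomain_single_map ((↑) : F → N) Subtype.val_injective ⟨z, hz⟩ r
  have hCout : ∀ (z : N) (_ : z ∉ F) (r : ℤ),
      AddMonoidAlgebra.comapDomain ((↑) : F → N) Subtype.val_injective (single z r) = 0 :=
    fun z hz r => by
      ext m
      have hne : z ≠ (m : N) := fun h => hz (h ▸ m.2)
      simp [Finsupp.single_apply, hne]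
  constructor
  · intro h x y
    constructor
    · intro hxy
      have h1 := h (single x 1) (single y 1)
      rw [AddMonoidAlgebra.single_mul_single, hCin (x + y) hxy] at h1
      by_contra hcon
      have h2 : AddMonoidAlgebra.comapDomain ((↑) : F → N) Subtype.val_injective (single x 1) *
          AddMonoidAlgebra.comapDomain ((↑) : F → N) Subtype.val_injective (single y (1 : ℤ)) = 0 := by
        by_cases hx : x ∈ F
        · have hy : y ∉ F := fun hy => hcon ⟨hx, hy⟩
          rw [hCout y hy, mul_zero]
        · rw [hCout x hx, zero_mul]
      rw [h2] at h1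
      exact absurd h1 (AddMonoidAlgebra.single_ne_zero.mpr (by norm_num))
    · rintro ⟨hx, hy⟩
      exact F.add_mem hx hy
  · intro hface a b
    induction a using AddMonoidAlgebra.induction_linear with
    | zero => simp
    | add a1 a2 h1 h2 =>
      rw [add_mul, AddMonoidAlgebra.comapDomain_add, AddMonoidAlgebra.comapDomain_add, add_mul,
        h1, h2]
    | single x r =>
      induction b using AddMonoidAlgebra.induction_linear with
      | zero => simp
      | add b1 b2 h1 h2 =>
        rw [mul_add, AddMonoidAlgebra.comapDomain_add, AddMonoidAlgebra.comapDomain_add, mul_add,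
          h1, h2]
      | single y s =>
        rw [AddMonoidAlgebra.single_mul_single]
        by_cases hx : x ∈ F
        · by_cases hy : y ∈ F
          · rw [hCin _ (F.add_mem hx hy), hCin x hx, hCin y hy,
              AddMonoidAlgebra.single_mul_single]
            rfl
          · have hxy : x + y ∉ F := fun h => hy ((hface x y).mp h).2
            rw [hCout _ hxy, hCout y hy, mul_zero]
        · have hxy : x + y ∉ F := fun h => hx ((hface x y).mp h).1
          rw [hCout _ hxy, hCout x hx, zero_mul]

end Groth.Agent.Lib.Helper20.FaceMul
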