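import Mathlib
import Groth.Agent.Lib.Helper20.Spectral

set_option autoImplicit false

namespace Groth.Agent.Lib.Helper20.Spectral3

open TopologicalSpace Topology Set
open Groth.Agent.Lib.Helper20.Spectral

universe u

section
variable {X : Type u} [TopologicalSpace X]

theorem exists_specializes [SpectralSpace X] (E : Set X)
    (hE : IsClosed[constructibleTopology X] E) (x : X) (hx : x ∈ closure E) :
    ∃ e ∈ E, e ⤳ x := by
  have hEc := isCompact_cons_of_isClosed_cons hE
  let ι := {U : Set X // IsOpen U ∧ IsCompact U ∧ x ∈ U}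
  have key := @IsCompact.inter_iInter_nonempty X (constructibleTopology X) E ι hEc
    (fun U => U.1) (fun U => isClosed_cons_of_isCompact_isOpen U.2.2.1 U.2.1) (by
      intro u
      have ho : IsOpen (⋂ i ∈ u, (i : Set X)) := isOpen_biInter_finset fun i _ => i.2.1
      have hxm : x ∈ ⋂ i ∈ u, (i : Set X) := by
        simp only [mem_iInter]
        intro i _
        exact i.2.2.2
      obtain ⟨y, hy1, hy2⟩ := mem_closure_iff.mp hx _ ho hxm
      exact ⟨y, hy2, hy1⟩)
  obtain ⟨e, heE, he⟩ := key
  refine ⟨e, heE, ?_⟩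
  rw [specializes_iff_forall_open]
  intro s hs hxs
  obtain ⟨V, ⟨hVo, hVc⟩, hxV, hVs⟩ :=
    (PrespectralSpace.isTopologicalBasis (X := X)).exists_subset_of_mem_open hxs hs
  exact hVs (mem_iInter.mp he ⟨V, hVo, hVc, hxV⟩)

end

theorem tfae_profinite (X : Type u) [tX : TopologicalSpace X] [SpectralSpace X] :
    List.TFAE [
      T2Space X ∧ TotallyDisconnectedSpace X,
      T2Space X,
      TotallyDisconnectedSpace X,
      ∀ U : Set X, IsOpen U → IsCompact U → IsClosed U,
      ∀ x y : X, x ⤳ y → x = y,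
      ∀ x : X, IsClosed ({x} : Set X),
      ∀ x : X, closure ({x} : Set X) ∈ irreducibleComponents X,
      constructibleTopology X = tX] := by
  tfae_have 1 → 2 := fun h => h.1
  tfae_have 1 → 3 := fun h => h.2
  tfae_have 2 → 6 := by
    intro h x
    exact isClosed_singleton
  tfae_have 6 → 5 := by
    intro h x y hxy
    have : y ∈ closure ({x} : Set X) := specializes_iff_mem_closure.mp hxy
    rw [(h x).closure_eq] at this
    exact (mem_singleton_iff.mp this).symm
  tfae_have 3 → 5 := by
    intro h x y hxy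
    have hpre : IsPreconnected (closure ({x} : Set X)) := isPreconnected_singleton.closure
    exact hpre.subsingleton (subset_closure rfl) (specializes_iff_mem_closure.mp hxy)
  tfae_have 5 → 4 := by
    intro h U hUo hUc
    rw [← closure_subset_iff_isClosed]
    intro x hx
    obtain ⟨e, he, hex⟩ :=
      exists_specializes U (isClosed_cons_of_isCompact_isOpen hUc hUo) x hx
    rw [← h e x hex]
    exact he
  tfae_have 4 → 1 := by
    intro h
    have hsep : Pairwise (fun x y : X => ∃ V : Set X, IsClopen V ∧ x ∈ V ∧ y ∈ Vᶜ) := by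
      intro x y hxy
      obtain ⟨U, hU, hUxy⟩ := exists_isOpen_xor_mem hxy
      rcases hUxy with ⟨hx, hy⟩ | ⟨hy, hx⟩
      · obtain ⟨V, ⟨hVo, hVc⟩, hxV, hVU⟩ :=
          (PrespectralSpace.isTopologicalBasis (X := X)).exists_subset_of_mem_open hx hU
        exact ⟨V, ⟨h V hVo hVc, hVo⟩, hxV, fun hyV => hy (hVU hyV)⟩
      · obtain ⟨V, ⟨hVo, hVc⟩, hyV, hVU⟩ :=
          (PrespectralSpace.isTopologicalBasis (X := X)).exists_subset_of_mem_open hy hU
        refine ⟨Vᶜ, IsClopen.compl ⟨h V hVo hVc, hVo⟩, fun hxV => hx (hVU hxV), ?_⟩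
        rw [compl_compl]
        exact hyV
    have hts : TotallySeparatedSpace X := totallySeparatedSpace_iff_exists_isClopen.mpr hsep
    exact ⟨inferInstance, inferInstance⟩
  tfae_have 5 → 7 := by
    intro h x
    refine ⟨isIrreducible_singleton.closure, ?_⟩
    intro Z hZ hle
    obtain ⟨z, hz⟩ := QuasiSober.sober hZ.closure isClosed_closure
    have hx : x ∈ closure ({z} : Set X) := by
      rw [hz.def]
      exact subset_closure (hle (subset_closure rfl))
    have hzx := h z x (specializes_iff_mem_closure.mpr hx)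
    show Z ⊆ closure {x}
    rw [← hzx, hz.def]
    exact subset_closure
  tfae_have 7 → 5 := by
    intro h x y hxy
    have hy := h y
    have hle : closure ({y} : Set X) ⊆ closure {x} :=
      closure_minimal (singleton_subset_iff.mpr (specializes_iff_mem_closure.mp hxy))
        isClosed_closure
    have hge : closure ({x} : Set X) ⊆ closure {y} := hy.2 isIrreducible_singleton.closure hle
    have hyx : y ⤳ x := specializes_iff_mem_closure.mpr (hge (subset_closure rfl))
    exact (hxy.antisymm hyx).eq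
  tfae_have 4 → 8 := by
    intro h
    apply le_antisymm
    · intro U hU
      exact isOpen_cons_of_isOpen hU
    · apply le_generateFrom
      rintro s (⟨hso, _⟩ | ⟨hscl, hsc⟩)
      · exact hso
      · have := h sᶜ hscl.isOpen_compl hsc
        rwa [isClosed_compl_iff] at this
  tfae_have 8 → 4 := by
    intro h U hUo hUc
    have := isClosed_cons_of_isCompact_isOpen hUc hUo
    rw [h] at this
    exact this
  tfae_finish

section Prod

variable {X Y : Type u} [TopologicalSpace X] [TopologicalSpace Y]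

theorem prespectralSpace_prod [PrespectralSpace X] [PrespectralSpace Y] :
    PrespectralSpace (X × Y) := by
  refine PrespectralSpace.of_isTopologicalBasis
    ((PrespectralSpace.isTopologicalBasis (X := X)).prod
      (PrespectralSpace.isTopologicalBasis (X := Y))) ?_
  rintro _ ⟨U, hU, V, hV, rfl⟩
  exact hU.2.prod hV.2

theorem quasiSeparatedSpace_prod [PrespectralSpace X] [PrespectralSpace Y]
    [QuasiSeparatedSpace X] [QuasiSeparatedSpace Y] : QuasiSeparatedSpace (X × Y) := by
  let ι := {U : Set X // IsOpen U ∧ IsCompact U} × {V : Set Y // IsOpen V ∧ IsCompact V}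
  let b : ι → Set (X × Y) := fun p => p.1.1 ×ˢ p.2.1
  have hb : IsTopologicalBasis (range b) := by
    have := (PrespectralSpace.isTopologicalBasis (X := X)).prod
      (PrespectralSpace.isTopologicalBasis (X := Y))
    convert this using 1
    ext W
    constructor
    · rintro ⟨⟨U, V⟩, rfl⟩
      exact ⟨U.1, U.2, V.1, V.2, rfl⟩
    · rintro ⟨U, hU, V, hV, rfl⟩
      exact ⟨(⟨U, hU⟩, ⟨V, hV⟩), rfl⟩
  refine QuasiSeparatedSpace.of_isTopologicalBasis hb ?_
  intro i j
  show IsCompact (i.1.1 ×ˢ i.2.1 ∩ j.1.1 ×ˢ j.2.1)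
  rw [Set.prod_inter_prod]
  exact (QuasiSeparatedSpace.inter_isCompact _ _ i.1.2.1 i.1.2.2 j.1.2.1 j.1.2.2).prod
    (QuasiSeparatedSpace.inter_isCompact _ _ i.2.2.1 i.2.2.2 j.2.2.1 j.2.2.2)

theorem quasiSober_prod [QuasiSober X] [QuasiSober Y] : QuasiSober (X × Y) := by
  constructor
  intro Z hZ hZc
  have h1 : IsIrreducible (closure (Prod.fst '' Z)) :=
    (hZ.image _ continuous_fst.continuousOn).closure
  have h2 : IsIrreducible (closure (Prod.snd '' Z)) :=
    (hZ.image _ continuous_snd.continuousOn).closure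
  obtain ⟨ξ, hξ⟩ := QuasiSober.sober h1 isClosed_closure
  obtain ⟨η, hη⟩ := QuasiSober.sober h2 isClosed_closure
  refine ⟨(ξ, η), ?_⟩
  show closure {(ξ, η)} = Z
  have hmem : (ξ, η) ∈ Z := by
    by_contra hnot
    obtain ⟨U, V, hU, hV, hξU, hηV, hUV⟩ := isOpen_prod_iff.mp hZc.isOpen_compl ξ η hnot
    obtain ⟨_, hxU, ⟨z1, hz1, rfl⟩⟩ := mem_closure_iff.mp hξ.mem U hU hξU
    obtain ⟨_, hyV, ⟨z2, hz2, rfl⟩⟩ := mem_closure_iff.mp hη.mem V hV hηV
    obtain ⟨z, hz, hzU, hzV⟩ := hZ.isPreirreducible (Prod.fst ⁻¹' U) (Prod.snd ⁻¹' V)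
      (hU.preimage continuous_fst) (hV.preimage continuous_snd) ⟨z1, hz1, hxU⟩ ⟨z2, hz2, hyV⟩
    exact hUV (show z ∈ U ×ˢ V from ⟨hzU, hzV⟩) hz
  apply Subset.antisymm
  · exact closure_minimal (singleton_subset_iff.mpr hmem) hZc
  · intro z hz
    rw [← Set.singleton_prod_singleton, closure_prod_eq, hξ.def, hη.def]
    exact ⟨subset_closure ⟨z, hz, rfl⟩, subset_closure ⟨z, hz, rfl⟩⟩

theorem spectralSpace_prod [SpectralSpace X] [SpectralSpace Y] : SpectralSpace (X × Y) := by
  have h2 : QuasiSober (X × Y) := quasiSober_prod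
  have h3 : QuasiSeparatedSpace (X × Y) := quasiSeparatedSpace_prod
  have h4 : PrespectralSpace (X × Y) := prespectralSpace_prod
  exact { }

end Prod

end Groth.Agent.Lib.Helper20.Spectral3
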