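import Mathlib
import Groth.Prelude.Def_W4c2submetdescSubtr
import Groth.Prelude.Def_ProCons
import Groth.Agent.Lib.Helper25.ProConsScheme
import Groth.Agent.Lib.Helper20.Spectral3
import Groth.Agent.Lib.Helper20.SpecLim

/-! S-subtrusive morphisms via closures of pro-constructible sets. -/

set_option autoImplicit false
universe u
open CategoryTheory CategoryTheory.Limits AlgebraicGeometry
open Topology Set
open scoped Set.Notation

namespace Groth.Agent.Lib.Helper20.SubtrPC

open Groth.Agent.Lib.Helper25.PC
open Groth.Agent.Lib.Helper20.Spectral3 Groth.Agent.Lib.Helper20.SpecLim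

/-- closure of a pro-constructible subset of a scheme = its specializations -/
theorem exists_specializes_of_proC {X : Scheme.{u}} {E : Set X} (hE : ProC E) {x : X}
    (hx : x ∈ closure E) : ∃ e ∈ E, e ⤳ x := by
  obtain ⟨V, hV, hxV⟩ := exists_affine_mem x
  have hspec := IsAffineOpen.isSpecOpen hV
  have h1 : CompactSpace (V : Set X) := hspec.compactSpace
  have h2 : QuasiSeparatedSpace (V : Set X) := hspec.quasiSeparatedSpace
  have h3 : QuasiSober (V : Set X) := hspec.quasiSober
  have h4 : PrespectralSpace (V : Set X) := hspec.prespectralSpace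
  have h5 : SpectralSpace (V : Set X) := { }
  have hcl : IsClosed[constructibleTopology (V : Set X)] ((V : Set X) ↓∩ E) := hE V hspec
  have hxc : (⟨x, hxV⟩ : (V : Set X)) ∈ closure ((V : Set X) ↓∩ E) := by
    have this : (Subtype.val : ↥(V : Set X) → X) ⁻¹' closure E =
        closure ((Subtype.val : ↥(V : Set X) → X) ⁻¹' E) :=
      (V.2.isOpenEmbedding_subtypeVal.isOpenMap.preimage_closure_eq_closure_preimage
        continuous_subtype_val E)
    have h : (⟨x, hxV⟩ : (V : Set X)) ∈ (Subtype.val : ↥(V : Set X) → X) ⁻¹' closure E := hx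
    rw [this] at h
    exact h
  obtain ⟨e, heE, hes⟩ := exists_specializes ((V : Set X) ↓∩ E) hcl ⟨x, hxV⟩ hxc
  exact ⟨e.1, heE, (subtype_specializes_iff e ⟨x, hxV⟩).mp hes⟩

theorem proC_singleton {Y : Scheme.{u}} (y : Y) : ProC ({y} : Set Y) := by
  intro V hV
  have h4 : PrespectralSpace V := hV.prespectralSpace
  have hT2 : @T2Space V (constructibleTopology V) := t2Space_cons
  have hsub : (V ↓∩ ({y} : Set Y)).Subsingleton := by
    intro a ha b hb
    apply Subtype.ext
    have ha' : a.1 = y := ha
    have hb' : b.1 = y := hb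
    rw [ha', hb']
  exact @Set.Subsingleton.isClosed V (constructibleTopology V)
    (@T2Space.t1Space V (constructibleTopology V) hT2) _ hsub

theorem main {X Y : Scheme.{u}} (f : X ⟶ Y) :
    Subtr.IsSSubtrusive f ↔
      ∀ Z : Set Y, ProCons.IsProConstructible Z → f '' closure (f ⁻¹' Z) = closure Z := by
  constructor
  · intro hf Z hZ
    apply Subset.antisymm
    · calc f '' closure (f ⁻¹' Z) ⊆ closure (f '' (f ⁻¹' Z)) :=
            image_closure_subset_closure_image f.continuous
        _ ⊆ closure Z := closure_mono (image_preimage_subset _ _)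
    · intro y hy
      obtain ⟨y', hy'Z, hy'y⟩ := exists_specializes_of_proC ((isPro_iff Y).mp hZ) hy
      obtain ⟨x, x', hx'x, hfx, hfx'⟩ := hf hy'y
      refine ⟨x, ?_, hfx⟩
      have hx'mem : x' ∈ f ⁻¹' Z := by
        show f x' ∈ Z
        rw [hfx']; exact hy'Z
      exact hx'x.mem_closed isClosed_closure (subset_closure hx'mem)
  · intro h y y' hy'y
    have hZ : ProCons.IsProConstructible ({y'} : Set Y) := (isPro_iff Y).mpr (proC_singleton y')
    have h1 := h {y'} hZ
    have hy : y ∈ closure ({y'} : Set Y) := specializes_iff_mem_closure.mp hy'y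
    rw [← h1] at hy
    obtain ⟨x, hx, hfx⟩ := hy
    have hpro : ProC (f ⁻¹' ({y'} : Set Y)) := ProC.preimage f (proC_singleton y')
    obtain ⟨x', hx'mem, hx'x⟩ := exists_specializes_of_proC hpro hx
    exact ⟨x, x', hx'x, hfx, hx'mem⟩

end Groth.Agent.Lib.Helper20.SubtrPC
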