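import Mathlib
import Groth.Prelude.Def_ProCons
import Groth.Agent.Lib.Helper20.SubtrPC

/-! Preimage of a dense pro-constructible set under a flat morphism is dense. -/

set_option autoImplicit false
universe u
open CategoryTheory CategoryTheory.Limits AlgebraicGeometry
open Topology Set

namespace Groth.Agent.Lib.Helper20.FlatDense

open Groth.Agent.Lib.Helper25.PC
open Groth.Agent.Lib.Helper20.SubtrPC

theorem main {X' X : Scheme.{u}} (f : X' ⟶ X) [Flat f] (Z : Set X)
    (hZ : ProCons.IsProConstructible Z) (hd : Dense Z) : Dense (f.base ⁻¹' Z) := by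
  intro x'
  obtain ⟨z, hzZ, hzx⟩ := exists_specializes_of_proC ((isPro_iff X).mp hZ) (hd (f.base x'))
  obtain ⟨z', hz'x', hfz'⟩ := Flat.generalizingMap f hzx
  have hmem : z' ∈ f.base ⁻¹' Z := by
    show f.base z' ∈ Z
    rw [hfz']; exact hzZ
  exact hz'x'.mem_closed isClosed_closure (subset_closure hmem)

end Groth.Agent.Lib.Helper20.FlatDense
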