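import Mathlib

/-!
# The `p`-polynomial algebra `R[z]/(z_i^p - Σ_j N_ij z_j)` (helper20)

For a commutative ring `R` with `p = 0` and a square matrix `N` over `R`, the algebra
`CN p N = R[z_i]/(z_i^p - Σ_j N_ij z_j)` is finite over `R` (for `p ≥ 1`), and étale when `det N` is a unit.
-/

set_option autoImplicit false
universe u

open MvPolynomial

namespace Groth.Agent.Lib.Helper20.FrobLift

variable {R : Type u} [CommRing R] (p : ℕ) {σ : Type} [Fintype σ] [DecidableEq σ] (N : Matrix σ σ R)

/-- the relations `z_i^p - Σ_j N_ij z_j` -/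
noncomputable def rel (i : σ) : MvPolynomial σ R := X i ^ p - ∑ j, C (N i j) * X j

/-- the algebra `R[z]/(z_i^p - Σ_j N_ij z_j)` -/
abbrev CN : Type u := MvPolynomial σ R ⧸ Ideal.span (Set.range (rel p N))

/-- the class of `z_i` -/
noncomputable def z (i : σ) : CN p N := Ideal.Quotient.mk _ (X i)

lemma z_pow (i : σ) : z p N i ^ p = ∑ j, N i j • z p N j := by
  have h : Ideal.Quotient.mk (Ideal.span (Set.range (rel p N))) (rel p N i) = 0 :=
    Ideal.Quotient.eq_zero_iff_mem.mpr (Ideal.subset_span ⟨i, rfl⟩)
  have h2 : rel p N i = X i ^ p - ∑ j, C (N i j) * X j := rfl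
  rw [h2, map_sub, sub_eq_zero, map_pow, map_sum] at h
  rw [z, h]
  refine Finset.sum_congr rfl fun j _ => ?_
  rw [map_mul]
  exact (Algebra.smul_def (N i j) (z p N j)).symm

section finite

/-- the spanning monomials -/
noncomputable def mon (g : σ → Fin p) : CN p N := ∏ i, z p N i ^ (g i : ℕ)

lemma mk_monomial (s : σ →₀ ℕ) :
    (Ideal.Quotient.mk (Ideal.span (Set.range (rel p N))) (monomial s 1) : CN p N) =
      ∏ i, z p N i ^ s i := by
  rw [MvPolynomial.monomial_eq, map_one, one_mul, Finsupp.prod_fintype _ _ (fun i => pow_zero _),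
    map_prod]
  refine Finset.prod_congr rfl fun i _ => ?_
  rw [map_pow]; rfl

lemma mk_monomial_mem (hp : 2 ≤ p) : ∀ (n : ℕ) (s : σ →₀ ℕ), s.degree = n →
    (Ideal.Quotient.mk (Ideal.span (Set.range (rel p N))) (monomial s 1) : CN p N) ∈
      Submodule.span R (Set.range (mon p N)) := by
  intro n
  induction n using Nat.strong_induction_on with
  | _ n ih =>
    intro s hs
    by_cases hsm : ∀ i, s i < p
    · rw [mk_monomial]
      exact Submodule.subset_span ⟨fun i => ⟨s i, hsm i⟩, rfl⟩
    · push Not at hsm
      obtain ⟨i, hi⟩ := hsm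
      -- s = t + p • single i
      set t : σ →₀ ℕ := s - Finsupp.single i p with ht
      have hst : s = t + Finsupp.single i p := by
        rw [ht]
        refine (tsub_add_cancel_of_le ?_).symm
        intro k
        by_cases hk : k = i
        · subst hk; simpa using hi
        · simp [Finsupp.single_apply, Ne.symm hk]
      have hdeg : t.degree + p = n := by
        rw [← hs, hst, map_add, Finsupp.degree_single]
      have e1 : (monomial s (1 : R)) = monomial t 1 * X i ^ p := by
        rw [hst, X_pow_eq_monomial, monomial_mul, one_mul]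
      rw [e1, map_mul, map_pow]
      change _ * (z p N i) ^ p ∈ _
      rw [z_pow, Finset.mul_sum]
      refine Submodule.sum_mem _ fun j _ => ?_
      rw [mul_smul_comm]
      refine Submodule.smul_mem _ _ ?_
      have e2 : (Ideal.Quotient.mk (Ideal.span (Set.range (rel p N))) (monomial t 1) : CN p N) *
          z p N j = Ideal.Quotient.mk _ (monomial (t + Finsupp.single j 1) 1) := by
        rw [z, ← map_mul]
        congr 1
        rw [X, monomial_mul, one_mul]
      rw [e2]
      refine ih (t.degree + 1) (by omega) _ ?_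
      rw [map_add, Finsupp.degree_single]

theorem finite (hp : 2 ≤ p) : Module.Finite R (CN p N) := by
  refine Module.Finite.of_fg_top ((Submodule.fg_def (R := R)).mpr
    ⟨Set.range (mon p N), Set.finite_range _, ?_⟩)
  rw [eq_top_iff]
  rintro x -
  obtain ⟨f, rfl⟩ := Ideal.Quotient.mk_surjective x
  rw [f.as_sum, map_sum]
  refine Submodule.sum_mem _ fun s _ => ?_
  have : (monomial s (coeff s f)) = (coeff s f) • monomial s (1 : R) := by
    rw [smul_monomial, smul_eq_mul, mul_one]
  rw [this]
  have h2 : (Ideal.Quotient.mk (Ideal.span (Set.range (rel p N))) (coeff s f • monomial s (1 : R))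
      : CN p N) = coeff s f • Ideal.Quotient.mk _ (monomial s (1 : R)) := rfl
  rw [h2]
  exact Submodule.smul_mem _ _ (mk_monomial_mem p N hp _ s rfl)

end finite

section etale

/-- the naive presubmersive presentation -/
noncomputable def pre : Algebra.PreSubmersivePresentation R (CN p N) σ σ :=
  Algebra.PreSubmersivePresentation.naive (v := rel p N) id Function.injective_id

lemma pderiv_rel (hp0 : (p : R) = 0) (i j : σ) : pderiv i (rel p N j) = - C (N j i) := by
  have h2 : rel p N j = X j ^ p - ∑ k, C (N j k) * X k := rfl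
  rw [h2, map_sub, Derivation.leibniz_pow, map_sum]
  have hp1 : (p : MvPolynomial σ R) = 0 := by
    rw [← map_natCast (C : R →+* MvPolynomial σ R), hp0, map_zero]
  rw [← Nat.cast_smul_eq_nsmul (MvPolynomial σ R), hp1, zero_smul, zero_sub]
  congr 1
  rw [Finset.sum_eq_single i]
  · rw [Derivation.leibniz, pderiv_C, smul_zero, add_zero, pderiv_X_self, smul_eq_mul, mul_one]
  · intro k _ hk
    rw [Derivation.leibniz, pderiv_C, smul_zero, add_zero, pderiv_X_of_ne hk, smul_zero]
  · intro h; exact absurd (Finset.mem_univ i) h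

lemma jacobiMatrix_eq (hp0 : (p : R) = 0) :
    (pre p N).jacobiMatrix = -((N.map (C : R →+* MvPolynomial σ R))).transpose := by
  ext i j : 1
  rw [pre, Algebra.PreSubmersivePresentation.jacobiMatrix_naive]
  simp only [id, Matrix.neg_apply, Matrix.transpose_apply, Matrix.map_apply]
  exact pderiv_rel p N hp0 i j

lemma jacobian_isUnit (hp0 : (p : R) = 0) (hN : IsUnit N.det) : IsUnit (pre p N).jacobian := by
  rw [Algebra.PreSubmersivePresentation.jacobian_eq_jacobiMatrix_det, jacobiMatrix_eq p N hp0,
    Matrix.det_neg, Matrix.det_transpose]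
  have : ((N.map (C : R →+* MvPolynomial σ R))).det = C N.det := by
    rw [← RingHom.mapMatrix_apply, ← RingHom.map_det]
  rw [this, map_mul, map_pow, map_neg, map_one]
  refine IsUnit.mul (IsUnit.pow _ ?_) ?_
  · exact (isUnit_one (M := CN p N)).neg
  · exact (hN.map C).map _

/-- the submersive presentation -/
noncomputable def sub (hp0 : (p : R) = 0) (hN : IsUnit N.det) :
    Algebra.SubmersivePresentation R (CN p N) σ σ :=
  { pre p N with jacobian_isUnit := jacobian_isUnit p N hp0 hN }

theorem etale (hp0 : (p : R) = 0) (hN : IsUnit N.det) : Algebra.Etale R (CN p N) := by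
  haveI : Algebra.IsStandardSmoothOfRelativeDimension 0 R (CN p N) :=
    (sub p N hp0 hN).isStandardSmoothOfRelativeDimension (by
      simp [Algebra.Presentation.dimension])
  infer_instance

end etale

end Groth.Agent.Lib.Helper20.FrobLift
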