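import Mathlib

/-!
# Whitehead's lemma: lifting `diag(N, N⁻¹)` along a surjective ring map (helper20)
-/

set_option autoImplicit false
universe u v

open Matrix

namespace Groth.Agent.Lib.Helper20.FrobLift

variable {R : Type u} {A : Type v} [CommRing R] [CommRing A]
variable {σ : Type} [Fintype σ] [DecidableEq σ]

/-- upper unitriangular block matrix -/
def U {S : Type*} [CommRing S] (X : Matrix σ σ S) : Matrix (σ ⊕ σ) (σ ⊕ σ) S := fromBlocks 1 X 0 1
/-- lower unitriangular block matrix -/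
def L {S : Type*} [CommRing S] (Y : Matrix σ σ S) : Matrix (σ ⊕ σ) (σ ⊕ σ) S := fromBlocks 1 0 Y 1

lemma det_U {S : Type*} [CommRing S] (X : Matrix σ σ S) : (U X).det = 1 := by
  rw [U, det_fromBlocks_zero₂₁, det_one, one_mul]

lemma det_L {S : Type*} [CommRing S] (Y : Matrix σ σ S) : (L Y).det = 1 := by
  rw [L, det_fromBlocks_zero₁₂, det_one, one_mul]

lemma map_U (f : R →+* A) (X : Matrix σ σ R) : (U X).map f = U (X.map f) := by
  rw [U, U, fromBlocks_map]
  simp

lemma map_L (f : R →+* A) (Y : Matrix σ σ R) : (L Y).map f = L (Y.map f) := by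
  rw [L, L, fromBlocks_map]
  simp

/-- the Whitehead product -/
def Wh {S : Type*} [CommRing S] (X Y : Matrix σ σ S) : Matrix (σ ⊕ σ) (σ ⊕ σ) S :=
  U X * L (-Y) * U X * (U (-1) * L 1 * U (-1))

lemma det_Wh {S : Type*} [CommRing S] (X Y : Matrix σ σ S) : (Wh X Y).det = 1 := by
  simp only [Wh, det_mul, det_U, det_L, mul_one]

lemma map_Wh (f : R →+* A) (X Y : Matrix σ σ R) : (Wh X Y).map f = Wh (X.map f) (Y.map f) := by
  simp only [Wh, Matrix.map_mul, map_U, map_L]
  congr <;> simp [Matrix.map_neg] <;> rfl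

lemma Wh_eq {S : Type*} [CommRing S] (N M : Matrix σ σ S) (h : N * M = 1) :
    Wh N M = fromBlocks N 0 0 M := by
  have h' : M * N = 1 := mul_eq_one_comm.mp h
  simp only [Wh, U, L, fromBlocks_multiply]
  simp [h, h']

theorem exists_lift (f : R →+* A) (hf : Function.Surjective f) (N M : Matrix σ σ A)
    (h : N * M = 1) :
    ∃ Nt : Matrix (σ ⊕ σ) (σ ⊕ σ) R, Nt.det = 1 ∧ Nt.map f = fromBlocks N 0 0 M := by
  choose X hX using fun i j => hf (N i j)
  choose Y hY using fun i j => hf (M i j)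
  refine ⟨Wh (Matrix.of X) (Matrix.of Y), det_Wh _ _, ?_⟩
  rw [map_Wh]
  have h1 : (Matrix.of X).map f = N := by ext i j; exact hX i j
  have h2 : (Matrix.of Y).map f = M := by ext i j; exact hY i j
  rw [h1, h2, Wh_eq N M h]

end Groth.Agent.Lib.Helper20.FrobLift
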