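import Mathlib

/-!
# Relative Frobenius of a finite étale algebra is surjective (helper20)

For a finite étale algebra `B` over a ring `A` of characteristic `p`, the `A`-span of the `p`-th powers
of `B` is all of `B`.
-/

set_option autoImplicit false
universe u

open TensorProduct

namespace Groth.Agent.Lib.Helper20.FrobLift

section field

variable (p : ℕ) [hp : Fact p.Prime] (κ : Type u) [Field κ] [CharP κ p]

lemma pi_single_pow {I : Type*} [DecidableEq I] (K : I → Type*) [∀ i, Field (K i)] (i : I) (u : K i) :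
    (Pi.single i u : Π i, K i) ^ p = Pi.single i (u ^ p) := by
  funext j
  by_cases h : j = i
  · subst h; simp
  · simp [Pi.single_eq_of_ne h, hp.out.ne_zero]

lemma span_pow_eq_top_pi {I : Type*} [Finite I] (K : I → Type*) [∀ i, Field (K i)]
    [∀ i, Algebra κ (K i)] [∀ i, Algebra.IsSeparable κ (K i)] :
    Submodule.span κ (Set.range fun t : (Π i, K i) => t ^ p) = ⊤ := by
  classical
  cases nonempty_fintype I
  rw [eq_top_iff]
  rintro x -
  have hx : x = ∑ i, (LinearMap.single κ K i) (x i) := by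
    funext j
    simp [Finset.sum_apply, Pi.single_apply]
  rw [hx]
  refine Submodule.sum_mem _ fun i _ => ?_
  have h1 : Submodule.span κ (Set.range fun u : K i => u ^ p) = ⊤ := by
    have := Field.span_map_pow_expChar_pow_eq_top_of_isSeparable (F := κ) (E := K i) p 1
      (v := fun u : K i => u) (by
        have : Set.range (fun u : K i => u) = Set.univ := Set.range_id
        rw [this, Submodule.span_univ])
    simpa using this
  have h2 : x i ∈ Submodule.span κ (Set.range fun u : K i => u ^ p) := by rw [h1]; trivial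
  have h3 := Submodule.mem_map_of_mem (f := LinearMap.single κ K i) h2
  rw [Submodule.map_span] at h3
  refine Submodule.span_mono ?_ h3
  rintro _ ⟨_, ⟨u, rfl⟩, rfl⟩
  exact ⟨Pi.single i u, by
    simp only [LinearMap.single_apply]
    exact pi_single_pow p K i u⟩

theorem span_pow_eq_top_field (T : Type u) [CommRing T] [Algebra κ T] [Algebra.Etale κ T] :
    Submodule.span κ (Set.range fun t : T => t ^ p) = ⊤ := by
  obtain ⟨I, _, K, _, _, e, hK⟩ := (Algebra.Etale.iff_exists_algEquiv_prod κ T).mp inferInstance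
  haveI : ∀ i, Algebra.IsSeparable κ (K i) := fun i => (hK i).2
  have h := span_pow_eq_top_pi p κ K
  rw [eq_top_iff]
  rintro x -
  have hx : e x ∈ Submodule.span κ (Set.range fun t : (Π i, K i) => t ^ p) := by rw [h]; trivial
  have h3 := Submodule.mem_map_of_mem (f := e.symm.toLinearMap) hx
  rw [Submodule.map_span] at h3
  have h4 : e.symm.toLinearMap (e x) = x := e.symm_apply_apply x
  rw [h4] at h3
  refine Submodule.span_mono ?_ h3
  rintro _ ⟨_, ⟨u, rfl⟩, rfl⟩
  exact ⟨e.symm u, by simp⟩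

end field

section general

variable (p : ℕ) [hp : Fact p.Prime] (A : Type u) [CommRing A] [CharP A p]
  (B : Type u) [CommRing B] [Algebra A B]

/-- the `A`-span of the `p`-th powers of `B` -/
def Sp : Submodule A B := Submodule.span A (Set.range fun y : B => y ^ p)

lemma mk_one_surjective (m : Ideal A) (t : (A ⧸ m) ⊗[A] B) :
    ∃ y : B, t = (1 : A ⧸ m) ⊗ₜ[A] y := by
  induction t using TensorProduct.induction_on with
  | zero => exact ⟨0, by simp⟩
  | tmul c y =>
    obtain ⟨a, rfl⟩ := Ideal.Quotient.mk_surjective c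
    refine ⟨a • y, ?_⟩
    rw [← TensorProduct.smul_tmul]
    congr 1
    rw [Algebra.smul_def, mul_one]; rfl
  | add t₁ t₂ h₁ h₂ =>
    obtain ⟨y₁, rfl⟩ := h₁
    obtain ⟨y₂, rfl⟩ := h₂
    exact ⟨y₁ + y₂, by rw [TensorProduct.tmul_add]⟩

variable [Algebra.Etale A B]

lemma fibre (m : Ideal A) [hm : m.IsMaximal] : Sp p A B ⊔ m • (⊤ : Submodule A B) = ⊤ := by
  letI : Field (A ⧸ m) := Ideal.Quotient.field m
  haveI : CharP (A ⧸ m) p := by
    refine (CharP.charP_iff_prime_eq_zero hp.out).mpr ?_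
    rw [← map_natCast (Ideal.Quotient.mk m), CharP.cast_eq_zero, map_zero]
  let φ : B →ₗ[A] (A ⧸ m) ⊗[A] B := TensorProduct.mk A (A ⧸ m) B 1
  have hφ : ∀ y, φ y = (1 : A ⧸ m) ⊗ₜ[A] y := fun y => rfl
  have h := span_pow_eq_top_field p (A ⧸ m) ((A ⧸ m) ⊗[A] B)
  have h1 : Submodule.span A (Set.range fun t : (A ⧸ m) ⊗[A] B => t ^ p) = ⊤ := by
    rw [← Submodule.restrictScalars_span A (A ⧸ m) Ideal.Quotient.mk_surjective, h]
    rfl
  have h2 : (Set.range fun t : (A ⧸ m) ⊗[A] B => t ^ p) = φ '' (Set.range fun y : B => y ^ p) := by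
    ext t
    constructor
    · rintro ⟨t, rfl⟩
      obtain ⟨y, rfl⟩ := mk_one_surjective A B m t
      refine ⟨y ^ p, ⟨y, rfl⟩, ?_⟩
      show φ (y ^ p) = ((1 : A ⧸ m) ⊗ₜ[A] y) ^ p
      rw [hφ, Algebra.TensorProduct.tmul_pow, one_pow]
    · rintro ⟨_, ⟨y, rfl⟩, rfl⟩
      refine ⟨φ y, ?_⟩
      show (φ y) ^ p = φ (y ^ p)
      rw [hφ, hφ, Algebra.TensorProduct.tmul_pow, one_pow]
  rw [h2, ← Submodule.map_span] at h1
  rw [eq_top_iff]
  rintro y -
  have hy : φ y ∈ Submodule.map φ (Sp p A B) := by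
    rw [Sp, h1]; trivial
  obtain ⟨s, hs, hsy⟩ := hy
  have h3 : φ (y - s) = 0 := by rw [map_sub, hsy, sub_self]
  have h4 : (Submodule.Quotient.mk (y - s) : B ⧸ (m • (⊤ : Submodule A B))) = 0 := by
    rw [← TensorProduct.quotTensorEquivQuotSMul_mk_one_tmul, ← hφ, h3, map_zero]
  rw [Submodule.Quotient.mk_eq_zero] at h4
  have : y = s + (y - s) := by ring
  rw [this]
  exact Submodule.add_mem_sup hs h4

variable [Module.Finite A B]

theorem span_pow_eq_top : Sp p A B = ⊤ := by
  by_contra hne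
  let I : Ideal A := (Sp p A B).colon (⊤ : Submodule A B)
  have hI : I ≠ ⊤ := by
    intro h
    apply hne
    rw [eq_top_iff]
    rintro y -
    have h1 : (1 : A) ∈ I := by rw [h]; trivial
    have := Submodule.mem_colon.mp h1 y trivial
    rwa [one_smul] at this
  obtain ⟨m, hm, hIm⟩ := Ideal.exists_le_maximal I hI
  have hf := fibre p A B m
  have hle : (⊤ : Submodule A (B ⧸ Sp p A B)) ≤ m • ⊤ := by
    rintro q -
    obtain ⟨y, rfl⟩ := Submodule.Quotient.mk_surjective _ q
    have hy : y ∈ Sp p A B ⊔ m • (⊤ : Submodule A B) := by rw [hf]; trivial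
    obtain ⟨s, hs, t, ht, rfl⟩ := Submodule.mem_sup.mp hy
    have h1 : (Submodule.Quotient.mk (s + t) : B ⧸ Sp p A B) = (Sp p A B).mkQ t := by
      rw [Submodule.Quotient.mk_add, (Submodule.Quotient.mk_eq_zero _).mpr hs, zero_add]; rfl
    rw [h1]
    have h2 := Submodule.mem_map_of_mem (f := (Sp p A B).mkQ) ht
    rw [Submodule.map_smul'', Submodule.map_top, Submodule.range_mkQ] at h2
    exact h2
  obtain ⟨r, hr1, hr2⟩ := Submodule.exists_sub_one_mem_and_smul_eq_zero_of_fg_of_le_smul m
    (⊤ : Submodule A (B ⧸ Sp p A B)) Module.Finite.fg_top hle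
  have hrI : r ∈ I := by
    rw [Submodule.mem_colon]
    intro y _
    have := hr2 (Submodule.Quotient.mk y) trivial
    rwa [← Submodule.Quotient.mk_smul, Submodule.Quotient.mk_eq_zero] at this
  have : (1 : A) ∈ m := by
    have h1 : (1 : A) = r - (r - 1) := by ring
    rw [h1]
    exact m.sub_mem (hIm hrI) hr1
  exact hm.ne_top ((Ideal.eq_top_iff_one m).mpr this)

end general

end Groth.Agent.Lib.Helper20.FrobLift
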