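import Groth.Agent.Lib.Helper20.FrobLiftC

/-!
# Relative Frobenius of a finite étale algebra is bijective (helper20)
-/

set_option autoImplicit false
universe u

open TensorProduct

namespace Groth.Agent.Lib.Helper20.FrobLift

/-- a copy of `A`, viewed as an `A`-algebra through the Frobenius -/
@[nolint unusedArguments]
def AF (_p : ℕ) (A : Type u) : Type u := A

/-- a copy of `B`, as an `AF`-module, and as an `A`-module through Frobenius -/
@[nolint unusedArguments]
def BF (_p : ℕ) (_A B : Type u) : Type u := B

variable (p : ℕ) [hp : Fact p.Prime] (A : Type u) [CommRing A] [CharP A p]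

instance : CommRing (AF p A) := inferInstanceAs (CommRing A)

/-- the identification -/
def toAF : A ≃+* AF p A := RingEquiv.refl A

noncomputable instance instAlgebraAF : Algebra A (AF p A) :=
  ((toAF p A : A →+* AF p A).comp (frobenius A p)).toAlgebra

lemma algebraMap_AF (a : A) : algebraMap A (AF p A) a = toAF p A (a ^ p) := rfl

variable (B : Type u) [CommRing B] [Algebra A B]

instance : AddCommGroup (BF p A B) := inferInstanceAs (AddCommGroup B)

/-- the identification -/
def toBF : B ≃+ BF p A B := AddEquiv.refl B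

instance : Module (AF p A) (BF p A B) := inferInstanceAs (Module A B)

lemma toAF_smul_toBF (a : A) (y : B) : toAF p A a • toBF p A B y = toBF p A B (a • y) := rfl

noncomputable instance : Module A (BF p A B) := Module.compHom (BF p A B) (algebraMap A (AF p A))

lemma smul_toBF (a : A) (y : B) : a • toBF p A B y = toBF p A B (a ^ p • y) := rfl

instance : IsScalarTower A (AF p A) (BF p A B) := ⟨fun a x y => by
  show (algebraMap A (AF p A) a * x) • y = algebraMap A (AF p A) a • (x • y)
  rw [mul_smul]⟩

variable [CharP B p]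

/-- the `p`-th power map as an `A`-linear map -/
noncomputable def g : B →ₗ[A] BF p A B where
  toFun y := toBF p A B (y ^ p)
  map_add' x y := by rw [add_pow_char, map_add]
  map_smul' a y := by
    rw [RingHom.id_apply, smul_toBF, smul_pow]

/-- the relative Frobenius -/
noncomputable def W : AF p A ⊗[A] B →ₗ[AF p A] BF p A B := (g p A B).liftBaseChange (AF p A)

lemma W_tmul (x : AF p A) (y : B) : W p A B (x ⊗ₜ[A] y) = x • toBF p A B (y ^ p) := by
  rw [W, LinearMap.liftBaseChange_tmul]; rfl

variable [Module.Finite A B] [Algebra.Etale A B]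

lemma W_surjective : Function.Surjective (W p A B) := by
  intro z
  have hz : (toBF p A B).symm z ∈ Sp p A B := by rw [span_pow_eq_top]; trivial
  have key : ∀ z' ∈ Sp p A B, ∃ t, W p A B t = toBF p A B z' := by
    intro z' hz'
    induction hz' using Submodule.span_induction with
    | mem x hx =>
      obtain ⟨y, rfl⟩ := hx
      exact ⟨1 ⊗ₜ[A] y, by rw [W_tmul, one_smul]⟩
    | zero => exact ⟨0, by rw [map_zero, map_zero]⟩
    | add x y _ _ hx hy =>
      obtain ⟨t₁, h₁⟩ := hx
      obtain ⟨t₂, h₂⟩ := hy
      exact ⟨t₁ + t₂, by rw [map_add, h₁, h₂, map_add]⟩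
    | smul a x _ hx =>
      obtain ⟨t, ht⟩ := hx
      exact ⟨toAF p A a • t, by rw [map_smul, ht, toAF_smul_toBF]⟩
  obtain ⟨t, ht⟩ := key _ hz
  exact ⟨t, by rw [ht]; exact (toBF p A B).apply_symm_apply z⟩

instance : Module.Finite (AF p A) (BF p A B) := inferInstanceAs (Module.Finite A B)
instance : Module.Flat (AF p A) (BF p A B) := inferInstanceAs (Module.Flat A B)

lemma comap_algebraMap_AF (q : PrimeSpectrum (AF p A)) :
    (q.comap (algebraMap A (AF p A))) = (show PrimeSpectrum A from q) := by
  ext x
  show algebraMap A (AF p A) x ∈ q.asIdeal ↔ _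
  rw [algebraMap_AF]
  exact q.2.pow_mem_iff_mem p hp.out.pos

theorem W_bijective : Function.Bijective (W p A B) := by
  refine Module.bijective_of_surjective_of_rankAtStalk_eq (W_surjective p A B) fun m _ => ?_
  rw [Module.rankAtStalk_baseChange, comap_algebraMap_AF]
  rfl

/-- injectivity of the relative Frobenius, tested against linear functionals -/
theorem frob_inj {ι : Type*} [Fintype ι] (x : ι → A) (b : ι → B)
    (h : ∑ i, x i • b i ^ p = 0) (ℓ : B →ₗ[A] A) : ∑ i, x i * ℓ (b i) ^ p = 0 := by
  let t : AF p A ⊗[A] B := ∑ i, toAF p A (x i) ⊗ₜ[A] b i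
  have ht : W p A B t = 0 := by
    simp only [t, map_sum, W_tmul, toAF_smul_toBF]
    rw [← map_sum, h, map_zero]
  have ht0 : t = 0 := (W_bijective p A B).1 (by rw [ht, map_zero])
  have h2 : (TensorProduct.rid A (AF p A)) (ℓ.lTensor (AF p A) t) = 0 := by
    rw [ht0, map_zero, map_zero]
  simp only [t, map_sum, LinearMap.lTensor_tmul, TensorProduct.rid_tmul] at h2
  have h3 : ∀ i, ℓ (b i) • toAF p A (x i) = toAF p A (x i * ℓ (b i) ^ p) := by
    intro i
    show algebraMap A (AF p A) (ℓ (b i)) * toAF p A (x i) = _
    rw [algebraMap_AF, ← map_mul, mul_comm]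
  simp only [h3] at h2
  rw [← map_sum] at h2
  exact (toAF p A).injective (by rw [h2, map_zero])

end Groth.Agent.Lib.Helper20.FrobLift
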