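import Groth.Agent.Lib.Helper20.FrobLiftD

/-!
# The invertible Frobenius matrix of a finite étale algebra (helper20)
-/

set_option autoImplicit false
universe u

open Matrix

namespace Groth.Agent.Lib.Helper20.FrobLift

section act

variable {A : Type u} [CommRing A] {B : Type u} [CommRing B] [Algebra A B]
  {ι : Type} [Fintype ι] [DecidableEq ι]

/-- action of `A`-matrices on `B`-vectors -/
def act (P : Matrix ι ι A) (v : ι → B) : ι → B := (P.map (algebraMap A B)).mulVec v

lemma act_apply (P : Matrix ι ι A) (v : ι → B) (i : ι) : act P v i = ∑ j, P i j • v j := by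
  simp only [act, mulVec, dotProduct, Matrix.map_apply, Algebra.smul_def]

lemma act_mul (P Q : Matrix ι ι A) (v : ι → B) : act (P * Q) v = act P (act Q v) := by
  simp only [act, Matrix.map_mul, mulVec_mulVec]

lemma act_one (v : ι → B) : act (1 : Matrix ι ι A) v = v := by
  simp only [act, Matrix.map_one _ (map_zero _) (map_one _), one_mulVec]

lemma act_sub (P Q : Matrix ι ι A) (v : ι → B) : act (P - Q) v = act P v - act Q v := by
  funext i
  simp only [Pi.sub_apply, act_apply, Matrix.sub_apply, sub_smul, Finset.sum_sub_distrib]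

/-- two matrices fixed by right multiplication by `e` agree if they act in the same way on `b` -/
lemma eq_of_act_eq (e : Matrix ι ι A) (b : ι → B)
    (hker : ∀ x : ι → A, ∑ i, x i • b i = 0 → vecMul x e = 0)
    (P Q : Matrix ι ι A) (hP : P * e = P) (hQ : Q * e = Q) (h : act P b = act Q b) : P = Q := by
  have hD : (P - Q) * e = P - Q := by rw [sub_mul, hP, hQ]
  have h0 : act (P - Q) b = 0 := by rw [act_sub, h, sub_self]
  rw [← sub_eq_zero, ← hD]
  ext i j
  have hi : ∑ k, (P - Q) i k • b k = 0 := by
    rw [← act_apply, h0]; rfl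
  have := congrFun (hker (fun k => (P - Q) i k) hi) j
  simpa [vecMul, dotProduct, Matrix.mul_apply] using this

end act

section main

variable (p : ℕ) [hp : Fact p.Prime] {A : Type u} [CommRing A] [CharP A p]
  {B : Type u} [CommRing B] [Algebra A B] [CharP B p]
  {ι : Type} [Fintype ι] [DecidableEq ι]

/-- entrywise `p`-th power of a matrix -/
def fr (e : Matrix ι ι A) : Matrix ι ι A := e.map (frobenius A p)

lemma fr_apply (e : Matrix ι ι A) (i j : ι) : fr p e i j = e i j ^ p := rfl

lemma fr_mul (e f : Matrix ι ι A) : fr p (e * f) = fr p e * fr p f := by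
  simp only [fr, Matrix.map_mul]

lemma act_fr (e : Matrix ι ι A) (b : ι → B) (i : ι) :
    act (fr p e) (fun j => b j ^ p) i = (act e b i) ^ p := by
  rw [act_apply, act_apply, sum_pow_char]
  refine Finset.sum_congr rfl fun j _ => ?_
  rw [fr_apply, smul_pow]

variable (b : ι → B) (e c d : Matrix ι ι A)

/-- the Frobenius matrix -/
def NN : Matrix (ι ⊕ ι) (ι ⊕ ι) A := fromBlocks (d * e) (1 - fr p e) (1 - e) (c * fr p e)
/-- its inverse -/
def MM : Matrix (ι ⊕ ι) (ι ⊕ ι) A := fromBlocks (c * fr p e) (1 - e) (1 - fr p e) (d * e)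

variable (he_b : act e b = b) (hee : e * e = e)
  (hker : ∀ x : ι → A, ∑ i, x i • b i = 0 → vecMul x e = 0)
  (hd : act d b = fun i => b i ^ p) (hc : act c (fun i => b i ^ p) = b)
  (hker' : ∀ x : ι → A, ∑ i, x i • b i ^ p = 0 → vecMul x (fr p e) = 0)

include he_b hee hker hd hc hker'

theorem NN_mul_MM : NN p e c d * MM p e c d = 1 := by
  have he'e' : fr p e * fr p e = fr p e := by rw [← fr_mul, hee]
  have he'_bp : act (fr p e) (fun i => b i ^ p) = fun i => b i ^ p := by
    funext i
    rw [act_fr, he_b]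
  set bp : ι → B := fun i => b i ^ p with hbp
  set e' := fr p e with he'
  set a := d * e with ha
  set a' := c * e' with ha'
  have ha_b : act a b = bp := by rw [ha, act_mul, he_b, hd]
  have ha'_bp : act a' bp = b := by rw [ha', act_mul, he'_bp, hc]
  have hae : a * e = a := by rw [ha, mul_assoc, hee]
  have ha'e' : a' * e' = a' := by rw [ha', mul_assoc, he'e']
  have h3 : e' * a = a := by
    refine eq_of_act_eq e b hker _ _ (by rw [mul_assoc, hae]) hae ?_
    rw [act_mul, ha_b, he'_bp]
  have h4 : e * a' = a' := by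
    refine eq_of_act_eq e' bp hker' _ _ (by rw [mul_assoc, ha'e']) ha'e' ?_
    rw [act_mul, ha'_bp, he_b]
  have h5 : a * a' = e' := by
    refine eq_of_act_eq e' bp hker' _ _ (by rw [mul_assoc, ha'e']) he'e' ?_
    rw [act_mul, ha'_bp, ha_b, he'_bp]
  have h6 : a' * a = e := by
    refine eq_of_act_eq e b hker _ _ (by rw [mul_assoc, hae]) hee ?_
    rw [act_mul, ha_b, ha'_bp, he_b]
  rw [NN, MM, fromBlocks_multiply, ← fromBlocks_one]
  congr 1
  · rw [h5, mul_sub, sub_mul, sub_mul, one_mul, one_mul, mul_one, he'e']; abel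
  · rw [mul_sub, sub_mul, mul_one, one_mul, hae, h3]; abel
  · rw [mul_sub, sub_mul, mul_one, one_mul, h4, ha'e']; abel
  · rw [h6, mul_sub, sub_mul, sub_mul, one_mul, one_mul, mul_one, hee]; abel

omit hee hker hc hker' in
theorem NN_act (k : ι ⊕ ι) :
    (Sum.elim b (0 : ι → B) k) ^ p = ∑ l, NN p e c d k l • Sum.elim b (0 : ι → B) l := by
  rw [Fintype.sum_sum_type]
  cases k with
  | inl i =>
    simp only [Sum.elim_inl, Sum.elim_inr, NN, fromBlocks_apply₁₁, fromBlocks_apply₁₂, Pi.zero_apply,
      smul_zero, Finset.sum_const_zero, add_zero]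
    rw [← act_apply, act_mul, he_b, hd]
  | inr i =>
    simp only [Sum.elim_inl, Sum.elim_inr, NN, fromBlocks_apply₂₁, fromBlocks_apply₂₂, Pi.zero_apply,
      smul_zero, Finset.sum_const_zero, add_zero]
    rw [← act_apply, act_sub, act_one, he_b, sub_self, Pi.zero_apply, zero_pow hp.out.ne_zero]

end main

end Groth.Agent.Lib.Helper20.FrobLift
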