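import Groth.Agent.Lib.Helper20.FrobLiftA
import Groth.Agent.Lib.Helper20.FrobLiftB
import Groth.Agent.Lib.Helper20.FrobLiftE

/-!
# Finite étale algebras over a quotient in characteristic `p` are dominated by finite étale algebras
over the ring (helper20)
-/

set_option autoImplicit false
universe u

open Matrix TensorProduct

namespace Groth.Agent.Lib.Helper20.FrobLift

section system

variable (p : ℕ) (hp2 : 2 ≤ p) {R A B : Type u} [CommRing R] [CommRing A] [CommRing B]
  [Algebra R A] [Algebra A B] (hp0 : (p : R) = 0)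
  {σ : Type} [Fintype σ] [DecidableEq σ] (Nt : Matrix σ σ R) (hdet : IsUnit Nt.det)
  (β : σ → B) (hβ : ∀ k, β k ^ p = ∑ l, algebraMap R A (Nt k l) • β l)
  (hgen : Submodule.span A (Set.range β) = ⊤)

include hp2 hp0 hdet hβ hgen

theorem exists_of_system :
    ∃ (C : Type u) (_ : CommRing C) (_ : Algebra R C), Module.Finite R C ∧ Algebra.Etale R C ∧
      ∃ ψ : A ⊗[R] C →ₐ[A] B, Function.Surjective ψ := by
  letI : Algebra R B := ((algebraMap A B).comp (algebraMap R A)).toAlgebra
  haveI : IsScalarTower R A B := IsScalarTower.of_algebraMap_eq fun _ => rfl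
  refine ⟨CN p Nt, inferInstance, inferInstance, finite p Nt hp2, etale p Nt hp0 hdet, ?_⟩
  have hker : ∀ x ∈ Ideal.span (Set.range (rel p Nt)), (MvPolynomial.aeval β : _ →ₐ[R] B) x = 0 := by
    intro x hx
    have hle : Ideal.span (Set.range (rel p Nt)) ≤ RingHom.ker (MvPolynomial.aeval β : _ →ₐ[R] B) := by
      rw [Ideal.span_le]
      rintro _ ⟨k, rfl⟩
      rw [SetLike.mem_coe, RingHom.mem_ker]
      have h2 : rel p Nt k = MvPolynomial.X k ^ p - ∑ j, MvPolynomial.C (Nt k j) * MvPolynomial.X j := rfl
      rw [h2, map_sub, map_pow, MvPolynomial.aeval_X, map_sum, hβ k, sub_eq_zero]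
      refine Finset.sum_congr rfl fun l _ => ?_
      rw [map_mul, MvPolynomial.aeval_X, MvPolynomial.aeval_C, Algebra.smul_def]
      rfl
    exact hle hx
  let g : CN p Nt →ₐ[R] B := Ideal.Quotient.liftₐ _ (MvPolynomial.aeval β) hker
  have hg : ∀ k, g (z p Nt k) = β k := by
    intro k
    exact MvPolynomial.aeval_X β k
  let ψ : A ⊗[R] CN p Nt →ₐ[A] B :=
    Algebra.TensorProduct.lift (Algebra.ofId A B) g (fun _ _ => Commute.all _ _)
  refine ⟨ψ, fun y => ?_⟩
  have hy : y ∈ Submodule.span A (Set.range β) := by rw [hgen]; trivial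
  obtain ⟨x, rfl⟩ := (Submodule.mem_span_range_iff_exists_fun A).mp hy
  refine ⟨∑ k, x k ⊗ₜ[R] z p Nt k, ?_⟩
  rw [map_sum]
  refine Finset.sum_congr rfl fun k _ => ?_
  rw [Algebra.TensorProduct.lift_tmul, hg, Algebra.smul_def]
  rfl

end system

section main

theorem main (p : ℕ) [hp : Fact p.Prime] (R A B : Type u) [CommRing R] [CommRing A] [CommRing B]
    [CharP R p] [Algebra R A] (hRA : Function.Surjective (algebraMap R A)) [Algebra A B]
    [Module.Finite A B] [Algebra.Etale A B] :
    ∃ (C : Type u) (_ : CommRing C) (_ : Algebra R C), Module.Finite R C ∧ Algebra.Etale R C ∧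
      ∃ ψ : A ⊗[R] C →ₐ[A] B, Function.Surjective ψ := by
  classical
  by_cases hB : Subsingleton B
  · refine ⟨R, inferInstance, inferInstance, inferInstance, inferInstance,
      (Algebra.ofId A B).comp (Algebra.TensorProduct.rid R A A).toAlgHom, fun y => ⟨0, ?_⟩⟩
    exact Subsingleton.elim _ _
  rw [not_subsingleton_iff_nontrivial] at hB
  have hpA : (p : A) = 0 := by
    rw [← map_natCast (algebraMap R A), CharP.cast_eq_zero, map_zero]
  have hpB : (p : B) = 0 := by
    rw [← map_natCast (algebraMap A B), hpA, map_zero]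
  haveI : Nontrivial A := (algebraMap A B).domain_nontrivial
  haveI : CharP A p := (CharP.charP_iff_prime_eq_zero hp.out).mpr hpA
  haveI : CharP B p := (CharP.charP_iff_prime_eq_zero hp.out).mpr hpB
  haveI : Module.FinitePresentation A B :=
    Module.FinitePresentation.of_finite_of_finitePresentation A B
  haveI : Module.Projective A B := Module.Flat.projective_of_finitePresentation
  obtain ⟨n, b, hb⟩ := Module.Finite.exists_fin (R := A) (M := B)
  -- the section
  let π₀ : (Fin n → A) →ₗ[A] B := Fintype.linearCombination A b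
  have hπ₀ : ∀ x, π₀ x = ∑ i, x i • b i := fun x => Fintype.linearCombination_apply A b x
  have hsurj : Function.Surjective π₀ := by
    rw [← LinearMap.range_eq_top, Fintype.range_linearCombination, hb]
  obtain ⟨s, hs⟩ := Module.projective_lifting_property π₀ LinearMap.id hsurj
  have hs' : ∀ y, ∑ j, s y j • b j = y := fun y => by
    rw [← hπ₀]; exact LinearMap.congr_fun hs y
  let e : Matrix (Fin n) (Fin n) A := Matrix.of fun i j => s (b i) j
  have he_b : act e b = b := by
    funext i
    rw [act_apply]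
    exact hs' (b i)
  have hker : ∀ x : Fin n → A, ∑ i, x i • b i = 0 → vecMul x e = 0 := by
    intro x hx
    funext j
    have h1 : s (∑ i, x i • b i) j = 0 := by rw [hx, map_zero]; rfl
    rw [map_sum, Finset.sum_apply] at h1
    simp only [map_smul, Pi.smul_apply, smul_eq_mul] at h1
    simpa [vecMul, dotProduct, e] using h1
  have hee : e * e = e := by
    ext i j
    have h1 : s (∑ k, s (b i) k • b k) j = s (b i) j := by rw [hs']
    rw [map_sum, Finset.sum_apply] at h1
    simp only [map_smul, Pi.smul_apply, smul_eq_mul] at h1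
    simpa [Matrix.mul_apply, e] using h1
  -- d and c
  have hd' : ∀ i, ∃ di : Fin n → A, ∑ j, di j • b j = b i ^ p := fun i =>
    (Submodule.mem_span_range_iff_exists_fun A).mp (by rw [hb]; trivial)
  choose d' hd' using hd'
  have hbp : Submodule.span A (Set.range fun i => b i ^ p) = ⊤ := by
    rw [eq_top_iff, ← span_pow_eq_top p A B, Sp, Submodule.span_le]
    rintro _ ⟨y, rfl⟩
    obtain ⟨x, rfl⟩ := hsurj y
    rw [hπ₀, SetLike.mem_coe]
    show (∑ i, x i • b i) ^ p ∈ _
    rw [sum_pow_char]
    refine Submodule.sum_mem _ fun i _ => ?_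
    rw [smul_pow]
    exact Submodule.smul_mem _ _ (Submodule.subset_span ⟨i, rfl⟩)
  have hc' : ∀ i, ∃ ci : Fin n → A, ∑ j, ci j • b j ^ p = b i := fun i =>
    (Submodule.mem_span_range_iff_exists_fun A).mp (by rw [hbp]; trivial)
  choose c' hc' using hc'
  let d : Matrix (Fin n) (Fin n) A := Matrix.of d'
  let c : Matrix (Fin n) (Fin n) A := Matrix.of c'
  have hd : act d b = fun i => b i ^ p := by
    funext i
    rw [act_apply]; exact hd' i
  have hc : act c (fun i => b i ^ p) = b := by
    funext i
    rw [act_apply]; exact hc' i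
  have hker' : ∀ x : Fin n → A, ∑ i, x i • b i ^ p = 0 → vecMul x (fr p e) = 0 := by
    intro x hx
    funext j
    have := frob_inj p A B x b hx ((LinearMap.proj j) ∘ₗ s)
    simpa [vecMul, dotProduct, fr_apply, e] using this
  have hNM := NN_mul_MM p b e c d he_b hee hker hd hc hker'
  obtain ⟨Nt, hdet, hNt⟩ := exists_lift (algebraMap R A) hRA _ _ hNM
  let β : (Fin n ⊕ Fin n) ⊕ (Fin n ⊕ Fin n) → B := Sum.elim (Sum.elim b 0) 0
  refine exists_of_system p hp.out.two_le (CharP.cast_eq_zero R p) Nt (by rw [hdet]; exact isUnit_one)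
    β ?_ ?_
  · intro k
    have hent : ∀ k l, algebraMap R A (Nt k l) =
        (fromBlocks (NN p e c d) 0 0 (MM p e c d)) k l := by
      intro k l
      rw [← hNt]; rfl
    simp only [hent]
    rw [Fintype.sum_sum_type]
    cases k with
    | inl k' =>
      simp only [β, Sum.elim_inl, Sum.elim_inr, fromBlocks_apply₁₁, fromBlocks_apply₁₂,
        Pi.zero_apply, smul_zero, Finset.sum_const_zero, add_zero]
      exact NN_act p b e c d he_b hd k'
    | inr k' =>
      simp only [β, Sum.elim_inl, Sum.elim_inr, fromBlocks_apply₂₁, fromBlocks_apply₂₂,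
        Pi.zero_apply, smul_zero, Finset.sum_const_zero, add_zero, Matrix.zero_apply, zero_smul]
      exact zero_pow hp.out.ne_zero
  · rw [eq_top_iff, ← hb, Submodule.span_le]
    rintro _ ⟨i, rfl⟩
    exact Submodule.subset_span ⟨Sum.inl (Sum.inl i), rfl⟩

end main

end Groth.Agent.Lib.Helper20.FrobLift
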