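import Mathlib

/-!
# Linear algebra: contracting tensors with functionals
-/

set_option autoImplicit false
set_option linter.unusedSectionVars false
set_option linter.unusedVariables false

universe u

open TensorProduct

namespace Groth.Agent.Lib.Helper20.GConv

variable {k : Type u} [Field k] {M N : Type u} [AddCommGroup M] [Module k M]
  [AddCommGroup N] [Module k N]

theorem exists_dual_eq_one {V : Type u} [AddCommGroup V] [Module k V] {b : V} (hb : b ≠ 0) :
    ∃ l : V →ₗ[k] k, l b = 1 := by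
  obtain ⟨f, hf⟩ : ∃ f : Module.Dual k V, f b ≠ 0 := by
    by_contra hcon
    push Not at hcon
    exact hb ((Module.forall_dual_apply_eq_zero_iff k b).1 hcon)
  exact ⟨(f b)⁻¹ • f, by rw [LinearMap.smul_apply, smul_eq_mul, inv_mul_cancel₀ hf]⟩

/-- contraction with a functional on the right -/
noncomputable def contrR (l : N →ₗ[k] k) : M ⊗[k] N →ₗ[k] M :=
  (TensorProduct.rid k M).toLinearMap ∘ₗ (TensorProduct.map LinearMap.id l)

theorem contrR_tmul (l : N →ₗ[k] k) (a : M) (b : N) : contrR l (a ⊗ₜ[k] b) = l b • a := by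
  unfold contrR
  rw [LinearMap.comp_apply, TensorProduct.map_tmul, LinearMap.id_apply]
  exact TensorProduct.rid_tmul _ _

/-- contraction with a functional on the left -/
noncomputable def contrL (l : M →ₗ[k] k) : M ⊗[k] N →ₗ[k] N :=
  (TensorProduct.lid k N).toLinearMap ∘ₗ (TensorProduct.map l LinearMap.id)

theorem contrL_tmul (l : M →ₗ[k] k) (a : M) (b : N) : contrL l (a ⊗ₜ[k] b) = l a • b := by
  unfold contrL
  rw [LinearMap.comp_apply, TensorProduct.map_tmul, LinearMap.id_apply]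
  exact TensorProduct.lid_tmul _ _

theorem tmul_eq_zero_left {a : M} {b : N} (hb : b ≠ 0) (h : a ⊗ₜ[k] b = 0) : a = 0 := by
  obtain ⟨l, hl⟩ := exists_dual_eq_one (k := k) hb
  have := congrArg (contrR (M := M) l) h
  rwa [contrR_tmul, hl, one_smul, map_zero] at this

theorem tmul_eq_zero_right {a : M} {b : N} (ha : a ≠ 0) (h : a ⊗ₜ[k] b = 0) : b = 0 := by
  obtain ⟨l, hl⟩ := exists_dual_eq_one (k := k) ha
  have := congrArg (contrL (N := N) l) h
  rwa [contrL_tmul, hl, one_smul, map_zero] at this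

theorem mem_of_tmul_mem_span (A' : Submodule k M) (Bset : Set N) {a : M} {b₀ : N} (hb₀ : b₀ ≠ 0)
    (h : a ⊗ₜ[k] b₀ ∈ Submodule.span k {z : M ⊗[k] N | ∃ a' ∈ A', ∃ b' ∈ Bset, z = a' ⊗ₜ[k] b'}) :
    a ∈ A' := by
  obtain ⟨l, hl⟩ := exists_dual_eq_one (k := k) hb₀
  have h1 : Submodule.span k {z : M ⊗[k] N | ∃ a' ∈ A', ∃ b' ∈ Bset, z = a' ⊗ₜ[k] b'} ≤
      A'.comap (contrR l) := by
    rw [Submodule.span_le]
    rintro _ ⟨a', ha', b', -, rfl⟩
    rw [SetLike.mem_coe, Submodule.mem_comap, contrR_tmul]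
    exact A'.smul_mem _ ha'
  have h2 := h1 h
  rwa [Submodule.mem_comap, contrR_tmul, hl, one_smul] at h2

theorem mem_of_tmul_mem_span_left (Aset : Set M) (B' : Submodule k N) {a₀ : M} {b : N}
    (ha₀ : a₀ ≠ 0)
    (h : a₀ ⊗ₜ[k] b ∈ Submodule.span k {z : M ⊗[k] N | ∃ a' ∈ Aset, ∃ b' ∈ B', z = a' ⊗ₜ[k] b'}) :
    b ∈ B' := by
  obtain ⟨l, hl⟩ := exists_dual_eq_one (k := k) ha₀
  have h1 : Submodule.span k {z : M ⊗[k] N | ∃ a' ∈ Aset, ∃ b' ∈ B', z = a' ⊗ₜ[k] b'} ≤
      B'.comap (contrL l) := by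
    rw [Submodule.span_le]
    rintro _ ⟨a', -, b', hb', rfl⟩
    rw [SetLike.mem_coe, Submodule.mem_comap, contrL_tmul]
    exact B'.smul_mem _ hb'
  have h2 := h1 h
  rwa [Submodule.mem_comap, contrL_tmul, hl, one_smul] at h2

end Groth.Agent.Lib.Helper20.GConv
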