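import Mathlib
import Groth.Prelude.Def_GrSeg
import Groth.Prelude.Def_GrLC
import Groth.Agent.Lib.Helper26.GrProj
import Groth.Agent.Lib.Helper20.GrKit1
import Groth.Agent.Lib.Helper20.SegTot1

/-!
# Construction of the graded `k`-dual of a graded module
-/

set_option autoImplicit false
set_option linter.unusedSectionVars false
set_option linter.unusedVariables false
set_option linter.style.haveILetI false

universe u

open DirectSum

namespace Groth.Agent.Lib.Helper20.GDual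

open Groth.Agent.Lib.Helper26.GrProj Groth.Agent.Lib.Helper20.GrKit Groth.Agent.Lib.Helper20.SegTot

variable {k : Type u} [Field k] {R : Type u} [CommRing R] [Algebra k R]
  (𝒜 : ℤ → AddSubgroup R) [GradedRing 𝒜] (hkA : ∀ c : k, algebraMap k R c ∈ 𝒜 0)
  {M : Type u} [AddCommGroup M] [Module R M] [Module k M] [IsScalarTower k R M]
  (ℳ : ℤ → AddSubgroup M) [DirectSum.Decomposition ℳ] [SetLike.GradedSMul 𝒜 ℳ]

/-- a functional vanishing on all the pieces vanishes -/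
theorem dual_eq_zero (f : M →ₗ[k] k) (h : ∀ n, ∀ x ∈ ℳ n, f x = 0) : f = 0 := by
  apply LinearMap.ext
  intro x
  rw [← sum_proj ℳ x, map_sum, LinearMap.zero_apply]
  exact Finset.sum_eq_zero fun j _ => h j _ (proj_mem ℳ j x)

/-- the finitely supported functionals -/
def GDk : Submodule k (Module.Dual k M) where
  carrier := {f | ∃ s : Finset ℤ, ∀ n, n ∉ s → ∀ x ∈ ℳ n, f x = 0}
  add_mem' := by
    classical
    rintro f g ⟨s, hs⟩ ⟨t, ht⟩
    refine ⟨s ∪ t, fun n hn x hx => ?_⟩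
    rw [Finset.mem_union, not_or] at hn
    rw [LinearMap.add_apply, hs n hn.1 x hx, ht n hn.2 x hx, add_zero]
  zero_mem' := ⟨∅, fun n _ x _ => rfl⟩
  smul_mem' := by
    rintro c f ⟨s, hs⟩
    exact ⟨s, fun n hn x hx => by rw [LinearMap.smul_apply, hs n hn x hx, smul_zero]⟩

/-- the graded dual, as a type (the grading of the ring is a phantom parameter) -/
def GD (𝒜 : ℤ → AddSubgroup R) (ℳ : ℤ → AddSubgroup M) : Type u := ↥(GDk (k := k) ℳ)

noncomputable instance : AddCommGroup (GD (k := k) 𝒜 ℳ) :=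
  inferInstanceAs (AddCommGroup ↥(GDk (k := k) ℳ))

noncomputable instance : Module k (GD (k := k) 𝒜 ℳ) :=
  inferInstanceAs (Module k ↥(GDk (k := k) ℳ))

theorem comp_lsmul_mem (r : R) (f' : GD (k := k) 𝒜 ℳ) :
    f'.1 ∘ₗ (Algebra.lsmul k k M r) ∈ GDk (k := k) ℳ := by
  classical
  obtain ⟨f, s, hs⟩ := f'
  refine ⟨(s ×ˢ (DirectSum.decompose 𝒜 r).support).image (fun p => p.1 - p.2), ?_⟩
  intro n hn x hx
  have hr : r = ∑ i ∈ (DirectSum.decompose 𝒜 r).support, (DirectSum.decompose 𝒜 r i : R) :=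
    (DirectSum.sum_support_decompose 𝒜 r).symm
  rw [LinearMap.comp_apply]
  change f (r • x) = 0
  rw [hr, Finset.sum_smul, map_sum]
  refine Finset.sum_eq_zero fun i hi => ?_
  apply hs (i + n)
  · intro hin
    apply hn
    rw [Finset.mem_image]
    exact ⟨(i + n, i), Finset.mem_product.2 ⟨hin, hi⟩, by simp⟩
  · have := SetLike.GradedSMul.smul_mem (A := 𝒜) (B := ℳ) (DirectSum.decompose 𝒜 r i).2 hx
    rwa [vadd_eq_add] at this

noncomputable instance : SMul R (GD (k := k) 𝒜 ℳ) :=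
  ⟨fun r f => ⟨f.1 ∘ₗ (Algebra.lsmul k k M r), comp_lsmul_mem 𝒜 ℳ r f⟩⟩

theorem smul_apply (r : R) (f : GD (k := k) 𝒜 ℳ) (x : M) : (r • f).1 x = f.1 (r • x) := rfl

theorem add_apply (f g : GD (k := k) 𝒜 ℳ) (x : M) : (f + g).1 x = f.1 x + g.1 x := rfl

theorem zero_apply (x : M) : (0 : GD (k := k) 𝒜 ℳ).1 x = 0 := rfl

theorem ksmul_apply (c : k) (f : GD (k := k) 𝒜 ℳ) (x : M) : (c • f).1 x = c • f.1 x := rfl

theorem GD_ext {f g : GD (k := k) 𝒜 ℳ} (h : ∀ x, f.1 x = g.1 x) : f = g :=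
  Subtype.ext (LinearMap.ext h)

/-- the pairing of the graded dual -/
noncomputable def gdPair : GD (k := k) 𝒜 ℳ →ₗ[k] M →ₗ[k] k := (GDk (k := k) ℳ).subtype

theorem gdPair_apply (f : GD (k := k) 𝒜 ℳ) (x : M) : gdPair 𝒜 ℳ f x = f.1 x := rfl

noncomputable instance : Module R (GD (k := k) 𝒜 ℳ) where
  one_smul f := GD_ext 𝒜 ℳ fun x => by rw [smul_apply, one_smul]
  mul_smul r r' f := GD_ext 𝒜 ℳ fun x => by
    rw [smul_apply, smul_apply, smul_apply, mul_comm, mul_smul]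
  smul_zero r := GD_ext 𝒜 ℳ fun x => by rw [smul_apply, zero_apply, zero_apply]
  smul_add r f g := GD_ext 𝒜 ℳ fun x => by
    rw [smul_apply, add_apply, add_apply, smul_apply, smul_apply]
  add_smul r r' f := GD_ext 𝒜 ℳ fun x => by
    rw [smul_apply, add_apply, smul_apply, smul_apply, add_smul, map_add]
  zero_smul f := GD_ext 𝒜 ℳ fun x => by rw [smul_apply, zero_smul, map_zero, zero_apply]

instance : IsScalarTower k R (GD (k := k) 𝒜 ℳ) :=
  ⟨fun c r f => GD_ext 𝒜 ℳ fun x => by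
    rw [smul_apply, ksmul_apply, smul_apply, smul_assoc, map_smul]⟩

/-- the grading of the graded dual -/
def gdGr (n : ℤ) : AddSubgroup (GD (k := k) 𝒜 ℳ) where
  carrier := {f | ∀ m, m ≠ -n → ∀ x ∈ ℳ m, f.1 x = 0}
  add_mem' := by
    intro f g hf hg m hm x hx
    rw [add_apply, hf m hm x hx, hg m hm x hx, add_zero]
  zero_mem' := fun m _ x _ => rfl
  neg_mem' := by
    intro f hf m hm x hx
    have : (-f).1 x = - f.1 x := rfl
    rw [this, hf m hm x hx, neg_zero]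

/-- the projections of the graded dual -/
noncomputable def gdProj (n : ℤ) : GD (k := k) 𝒜 ℳ →+ GD (k := k) 𝒜 ℳ where
  toFun f := ⟨f.1 ∘ₗ prK 𝒜 hkA ℳ (-n), ⟨{-n}, fun m hm x hx => by
    rw [LinearMap.comp_apply, prK_apply, proj_of_mem_ne ℳ hx (by
      intro h; apply hm; rw [Finset.mem_singleton]; exact h), map_zero]⟩⟩
  map_zero' := GD_ext 𝒜 ℳ fun x => rfl
  map_add' f g := GD_ext 𝒜 ℳ fun x => rfl

theorem gdProj_apply (n : ℤ) (f : GD (k := k) 𝒜 ℳ) (x : M) :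
    (gdProj 𝒜 hkA ℳ n f).1 x = f.1 (proj ℳ (-n) x) := rfl

theorem gd_h1 (n : ℤ) (f : GD (k := k) 𝒜 ℳ) : gdProj 𝒜 hkA ℳ n f ∈ gdGr 𝒜 ℳ n := by
  intro m hm x hx
  rw [gdProj_apply, proj_of_mem_ne ℳ hx hm, map_zero]

theorem apply_eq_of_mem {n : ℤ} {f : GD (k := k) 𝒜 ℳ} (hf : f ∈ gdGr 𝒜 ℳ n) (x : M) :
    f.1 x = f.1 (proj ℳ (-n) x) := by
  conv_lhs => rw [← sum_proj ℳ x, map_sum]
  by_cases h : -n ∈ (DirectSum.decompose ℳ x).support
  · rw [Finset.sum_eq_single (-n)]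
    · intro j _ hj
      exact hf j hj _ (proj_mem ℳ j x)
    · intro h'
      exact absurd h h'
  · rw [proj_eq_zero_of_notMem ℳ h, map_zero]
    exact Finset.sum_eq_zero fun j hj => hf j (by rintro rfl; exact h hj) _ (proj_mem ℳ j x)

theorem gd_h2 (n : ℤ) (f : GD (k := k) 𝒜 ℳ) (hf : f ∈ gdGr 𝒜 ℳ n) :
    gdProj 𝒜 hkA ℳ n f = f :=
  GD_ext 𝒜 ℳ fun x => by rw [gdProj_apply, ← apply_eq_of_mem 𝒜 ℳ hf]

theorem gd_h3 (g h : ℤ) (f : GD (k := k) 𝒜 ℳ) (hf : f ∈ gdGr 𝒜 ℳ h) (hne : h ≠ g) :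
    gdProj 𝒜 hkA ℳ g f = 0 :=
  GD_ext 𝒜 ℳ fun x => by
    rw [gdProj_apply, zero_apply]
    exact hf (-g) (by intro h'; exact hne (neg_injective h').symm) _ (proj_mem ℳ (-g) x)

theorem gd_h4 (f : GD (k := k) 𝒜 ℳ) :
    ∃ s : Finset ℤ, f = ∑ g ∈ s, gdProj 𝒜 hkA ℳ g f := by
  classical
  obtain ⟨s, hs⟩ := f.2
  refine ⟨s.image (fun n => -n), ?_⟩
  rw [Finset.sum_image (fun a _ b _ h => neg_injective h)]
  have key : (f - ∑ n ∈ s, gdProj 𝒜 hkA ℳ (-n) f).1 = 0 := by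
    apply dual_eq_zero ℳ
    intro n x hx
    have e1 : (f - ∑ n ∈ s, gdProj 𝒜 hkA ℳ (-n) f).1 x =
        f.1 x - ∑ n ∈ s, (gdProj 𝒜 hkA ℳ (-n) f).1 x := by
      have : gdPair 𝒜 ℳ (f - ∑ n ∈ s, gdProj 𝒜 hkA ℳ (-n) f) =
          gdPair 𝒜 ℳ f - ∑ n ∈ s, gdPair 𝒜 ℳ (gdProj 𝒜 hkA ℳ (-n) f) := by
        rw [map_sub, map_sum]
      have h2 := LinearMap.congr_fun this x
      rw [LinearMap.sub_apply, LinearMap.sum_apply] at h2
      exact h2
    rw [e1]
    simp only [gdProj_apply, neg_neg]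
    by_cases hn : n ∈ s
    · rw [Finset.sum_eq_single n]
      · rw [proj_of_mem_same ℳ hx, sub_self]
      · intro j _ hj
        rw [proj_of_mem_ne ℳ hx (Ne.symm hj), map_zero]
      · intro h'
        exact absurd hn h'
    · rw [hs n hn x hx, zero_sub, neg_eq_zero]
      refine Finset.sum_eq_zero fun j hj => ?_
      rw [proj_of_mem_ne ℳ hx (by rintro rfl; exact hn hj), map_zero]
  have : f - ∑ n ∈ s, gdProj 𝒜 hkA ℳ (-n) f = 0 := Subtype.ext key
  exact sub_eq_zero.1 this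

include hkA in
theorem gd_isInternal : DirectSum.IsInternal (gdGr (k := k) 𝒜 ℳ) :=
  isInternal_of_proj (gdGr 𝒜 ℳ) (gdProj 𝒜 hkA ℳ) (gd_h1 𝒜 hkA ℳ) (gd_h2 𝒜 hkA ℳ)
    (gd_h3 𝒜 hkA ℳ) (gd_h4 𝒜 hkA ℳ)

/-- the decomposition of the graded dual -/
noncomputable def gdDec : DirectSum.Decomposition (gdGr (k := k) 𝒜 ℳ) :=
  (gd_isInternal 𝒜 hkA ℳ).chooseDecomposition

instance gdGSMul : SetLike.GradedSMul 𝒜 (gdGr (k := k) 𝒜 ℳ) where
  smul_mem := by
    intro i j r f hr hf m hm x hx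
    rw [smul_apply]
    apply hf (i + m)
    · intro h
      apply hm
      rw [vadd_eq_add]
      omega
    · have := SetLike.GradedSMul.smul_mem (A := 𝒜) (B := ℳ) hr hx
      rwa [vadd_eq_add] at this

include hkA in
/-- **The graded dual exists.** -/
theorem isGDual_gd :
    letI := gdDec 𝒜 hkA ℳ
    GrSeg.IsGDual R ℳ (gdGr (k := k) 𝒜 ℳ) (gdPair 𝒜 ℳ) := by
  letI := gdDec 𝒜 hkA ℳ
  refine ⟨fun r d x => rfl, fun n d hd m hm x hx => hd m hm x hx, ?_, ?_⟩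
  · intro n d hd h
    apply Subtype.ext
    apply dual_eq_zero ℳ
    intro m x hx
    by_cases hm : m = -n
    · subst hm
      exact h x hx
    · exact hd m hm x hx
  · intro n g
    refine ⟨⟨g ∘ₗ prK 𝒜 hkA ℳ (-n), ⟨{-n}, fun m hm x hx => by
      rw [LinearMap.comp_apply, prK_apply, proj_of_mem_ne ℳ hx (by
        intro h; apply hm; rw [Finset.mem_singleton]; exact h), map_zero]⟩⟩, ?_, ?_⟩
    · intro m hm x hx
      change g (proj ℳ (-n) x) = 0
      rw [proj_of_mem_ne ℳ hx hm, map_zero]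
    · intro x hx
      change g (proj ℳ (-n) x) = g x
      rw [proj_of_mem_same ℳ hx]

end Groth.Agent.Lib.Helper20.GDual
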