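import Mathlib
import Groth.Agent.Lib.Helper20.GDual1
import Groth.Agent.S19752

/-!
# Any graded dual of `R` contains `R/R_+`, hence is a *injective hull of it
-/

set_option autoImplicit false
set_option linter.unusedSectionVars false
set_option linter.unusedVariables false
set_option linter.style.haveILetI false

universe u

open DirectSum

namespace Groth.Agent.Lib.Helper20.GDual

open Groth.Agent.Lib.Helper26.GrProj Groth.Agent.Lib.Helper20.GrKit

variable (k : Type u) [Field k] (R : Type u) [CommRing R] [Algebra k R]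
  (𝒜 : ℤ → Submodule k R) [GradedAlgebra 𝒜]
  (hposR : ∀ n : ℤ, n < 0 → 𝒜 n = ⊥) (h0R : 𝒜 0 = Submodule.span k {(1 : R)})
  (mR : HomogeneousIdeal 𝒜)
  (hmR : mR.toIdeal = Ideal.span (⋃ n ∈ Set.Ioi (0 : ℤ), (𝒜 n : Set R)))
  (D : Type u) [AddCommGroup D] [Module R D] [Module k D] [IsScalarTower k R D]
  (𝒟 : ℤ → AddSubgroup D) [DirectSum.Decomposition 𝒟] [SetLike.GradedSMul 𝒜 𝒟]
  (β : D →ₗ[k] R →ₗ[k] k) (hD : GrSeg.IsGDual R 𝒜 𝒟 β)

include hposR hD in
theorem piece_pos_eq_bot (n : ℤ) (hn : 0 < n) : 𝒟 n = ⊥ := by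
  rw [AddSubgroup.eq_bot_iff_forall]
  intro d hd
  apply hD.eq_zero n d hd
  intro x hx
  rw [hposR (-n) (by omega), Submodule.mem_bot] at hx
  rw [hx, map_zero]

include hposR hmR in
theorem sub_proj_zero_mem (t : R) : t - GradedRing.proj 𝒜 0 t ∈ mR.toIdeal := by
  classical
  have ht : ∑ i ∈ (DirectSum.decompose 𝒜 t).support, (DirectSum.decompose 𝒜 t i : R) = t :=
    DirectSum.sum_support_decompose 𝒜 t
  have h1 : ∀ i : ℤ, i ≠ 0 → (DirectSum.decompose 𝒜 t i : R) ∈ mR.toIdeal := by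
    intro i hi
    rcases lt_or_gt_of_ne hi with h | h
    · have hz : ∀ y ∈ 𝒜 i, y = 0 := by
        intro y hy
        rw [hposR i h, Submodule.mem_bot] at hy
        exact hy
      rw [hz _ (DirectSum.decompose 𝒜 t i).2]
      exact zero_mem _
    · rw [hmR]
      apply Ideal.subset_span
      simp only [Set.mem_iUnion, Set.mem_Ioi, SetLike.mem_coe, exists_prop]
      exact ⟨i, h, (DirectSum.decompose 𝒜 t i).2⟩
  have h2 : GradedRing.proj 𝒜 0 t = (DirectSum.decompose 𝒜 t 0 : R) := rfl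
  have key : t - GradedRing.proj 𝒜 0 t =
      ∑ i ∈ (DirectSum.decompose 𝒜 t).support.erase 0, (DirectSum.decompose 𝒜 t i : R) := by
    by_cases h0 : (0 : ℤ) ∈ (DirectSum.decompose 𝒜 t).support
    · rw [h2, Finset.sum_erase_eq_sub h0, ht]
    · have : (DirectSum.decompose 𝒜 t 0 : R) = 0 := by
        rw [DFinsupp.notMem_support_iff] at h0
        rw [h0]; rfl
      rw [h2, this, sub_zero, Finset.erase_eq_of_notMem h0, ht]
  rw [key]
  exact sum_mem fun i hi => h1 i (Finset.ne_of_mem_erase hi)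

include hposR h0R hmR hD in
/-- **`R/R_+` embeds into any graded dual of `R`.** -/
theorem exists_embedding [Nontrivial R] :
    ∃ e : (R ⧸ mR.toIdeal) →ₗ[R] D, Function.Injective e ∧
      GrLC.IsGrHom (GrLC.quotGr 𝒜 mR) 𝒟 e := by
  classical
  -- a functional with value one at one
  obtain ⟨f, hf⟩ : ∃ f : Module.Dual k R, f 1 ≠ 0 := by
    by_contra hcon
    push Not at hcon
    exact one_ne_zero ((Module.forall_dual_apply_eq_zero_iff k (1 : R)).1 hcon)
  obtain ⟨d₀, hd₀, hd₀f⟩ := hD.exists_eq 0 ((f 1)⁻¹ • f)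
  have h1mem : (1 : R) ∈ 𝒜 (-0) := by
    rw [neg_zero]
    exact SetLike.GradedOne.one_mem
  have hone : β d₀ 1 = 1 := by
    rw [hd₀f 1 h1mem, LinearMap.smul_apply, smul_eq_mul, inv_mul_cancel₀ hf]
  -- the irrelevant ideal kills `d₀`
  have hann : mR.toIdeal ≤ LinearMap.ker (LinearMap.toSpanSingleton R D d₀) := by
    rw [hmR]
    apply Ideal.span_le.2
    intro t ht
    simp only [Set.mem_iUnion, Set.mem_Ioi, SetLike.mem_coe, exists_prop] at ht
    obtain ⟨n, hn, htn⟩ := ht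
    have h2 := SetLike.GradedSMul.smul_mem (A := 𝒜) (B := 𝒟) htn hd₀
    rw [vadd_eq_add, add_zero, piece_pos_eq_bot k R 𝒜 hposR D 𝒟 β hD n hn,
      AddSubgroup.mem_bot] at h2
    exact h2
  refine ⟨Submodule.liftQ mR.toIdeal (LinearMap.toSpanSingleton R D d₀) hann, ?_, ?_⟩
  · rw [← LinearMap.ker_eq_bot, LinearMap.ker_eq_bot']
    intro q hq
    obtain ⟨t, rfl⟩ := Submodule.Quotient.mk_surjective _ q
    rw [Submodule.liftQ_apply, LinearMap.toSpanSingleton_apply] at hq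
    rw [Submodule.Quotient.mk_eq_zero]
    have hsub := sub_proj_zero_mem k R 𝒜 hposR mR hmR t
    have h0mem : GradedRing.proj 𝒜 0 t ∈ 𝒜 0 := (DirectSum.decompose 𝒜 t 0).2
    rw [h0R, Submodule.mem_span_singleton] at h0mem
    obtain ⟨c, hc⟩ := h0mem
    have h3 : (t - GradedRing.proj 𝒜 0 t) • d₀ = 0 := hann hsub
    have h4 : GradedRing.proj 𝒜 0 t • d₀ = 0 := by
      have : t • d₀ = (t - GradedRing.proj 𝒜 0 t) • d₀ + GradedRing.proj 𝒜 0 t • d₀ := by
        rw [← add_smul, sub_add_cancel]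
      rw [hq, h3, zero_add] at this
      exact this.symm
    have h5 : c = 0 := by
      have h6 : β (GradedRing.proj 𝒜 0 t • d₀) 1 = 0 := by rw [h4, map_zero]; rfl
      rw [hD.map_smul, smul_eq_mul, mul_one, ← hc, map_smul, hone, smul_eq_mul, mul_one] at h6
      exact h6
    have h7 : GradedRing.proj 𝒜 0 t = 0 := by rw [← hc, h5, zero_smul]
    rw [h7, sub_zero] at hsub
    exact hsub
  · rintro n _ ⟨t, ht, rfl⟩
    change Submodule.liftQ mR.toIdeal (LinearMap.toSpanSingleton R D d₀) hann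
      (Submodule.Quotient.mk t) ∈ 𝒟 n
    rw [Submodule.liftQ_apply, LinearMap.toSpanSingleton_apply]
    have h2 := SetLike.GradedSMul.smul_mem (A := 𝒜) (B := 𝒟) ht hd₀
    rwa [vadd_eq_add, add_zero] at h2

include hposR h0R hmR hD in
/-- **A graded dual of `R` is a *injective hull of `R/R_+`.** -/
theorem exists_isStarInjHull [Nontrivial R] [Algebra.FiniteType k R] :
    ∃ e : (R ⧸ mR.toIdeal) →ₗ[R] D, GrLC.IsStarInjHull 𝒜 (GrLC.quotGr 𝒜 mR) 𝒟 e := by
  obtain ⟨e, he, hegr⟩ := exists_embedding k R 𝒜 hposR h0R mR hmR D 𝒟 β hD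
  exact ⟨e, Groth.Agent.S19752.result k R 𝒜 hposR h0R mR hmR D 𝒟 β hD e he hegr⟩

end Groth.Agent.Lib.Helper20.GDual
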