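import Mathlib
import Groth.Agent.Lib.Helper20.GrVG1

/-!
# A criterion for *injectivity over a graded ring whose degree zero part is a field
-/

set_option autoImplicit false
set_option linter.unusedSectionVars false
set_option linter.unusedVariables false
set_option linter.style.haveILetI false

namespace Groth.Agent.Lib.Helper20.GrVG

open DirectSum Groth.Agent.Lib.Helper26.GrProj Groth.Agent.Lib.Helper20.GrKit

universe u

section Abstract

variable {R : Type u} [CommRing R] (𝒜 : ℤ → AddSubgroup R) [GradedRing 𝒜]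
  (h0 : IsField (GrLC.deg0 𝒜))
  {D : Type u} [AddCommGroup D] [Module R D] (𝒟 : ℤ → AddSubgroup D)
  [DirectSum.Decomposition 𝒟] [SetLike.GradedSMul 𝒜 𝒟]
  (hsep : ∀ (n : ℤ) (d : D), d ∈ 𝒟 n → (∀ r ∈ 𝒜 (-n), r • d = 0) → d = 0)
  (hex : ∀ (n : ℤ) (g : R →+ D), (∀ r, g r ∈ 𝒟 0) →
      (∀ s ∈ 𝒜 0, ∀ r ∈ 𝒜 (-n), g (s * r) = s • g r) →
      ∃ d ∈ 𝒟 n, ∀ r ∈ 𝒜 (-n), r • d = g r)

include hsep in
theorem sep_all (d : D) (h : ∀ r : R, proj 𝒟 0 (r • d) = 0) : d = 0 := by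
  classical
  rw [← sum_proj 𝒟 d]
  refine Finset.sum_eq_zero fun n _ => ?_
  apply hsep n _ (proj_mem 𝒟 n d)
  intro r hr
  have h1 := h r
  rw [proj_smul_of_mem 𝒜 𝒟 hr 0 d, zero_sub, neg_neg] at h1
  exact h1

include h0 hsep hex in
theorem isStarInj_of_sep_ex : GrLC.IsStarInj 𝒜 𝒟 := by
  classical
  intro A B f hf hfinj g₀ hg₀
  letI : Field (GrLC.deg0 𝒜) := h0.toField
  obtain ⟨ρ, hρ⟩ := LinearMap.exists_leftInverse_of_injective
    (f.restrictScalars (GrLC.deg0 𝒜)) (LinearMap.ker_eq_bot.mpr hfinj)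
  have hρ' : ∀ a, ρ (f a) = a := fun a => by
    have := congrArg (fun φ => φ a) hρ
    simpa using this
  have hρs : ∀ (s : R) (hs : s ∈ 𝒜 0) (b : B.carrier), ρ (s • b) = s • ρ b := by
    intro s hs b
    exact ρ.map_smul (⟨s, hs⟩ : GrLC.deg0 𝒜) b
  let Lam : B.carrier →+ D :=
    (projAdd 𝒟 0).comp (g₀.toAddMonoidHom.comp (ρ.toAddMonoidHom.comp (projAdd B.gr 0)))
  have hLam : ∀ b, Lam b = proj 𝒟 0 (g₀ (ρ (proj B.gr 0 b))) := fun _ => rfl
  have hLam0 : ∀ b, Lam b ∈ 𝒟 0 := fun b => proj_mem 𝒟 0 _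
  have hLams : ∀ s ∈ 𝒜 0, ∀ b, Lam (s • b) = s • Lam b := by
    intro s hs b
    rw [hLam, hLam, proj_smul_of_mem 𝒜 B.gr hs 0 b, sub_zero, hρs s hs, map_smul,
      proj_smul_of_mem 𝒜 𝒟 hs 0, sub_zero]
  have hLamr : ∀ (n : ℤ) (b : B.carrier), b ∈ B.gr n → ∀ r : R,
      Lam (r • b) = Lam (proj 𝒜 (-n) r • b) := by
    intro n b hb r
    rw [hLam, hLam, proj_smul_of_mem_right 𝒜 B.gr hb 0 r, zero_sub]
    have h1 : proj 𝒜 (-n) r • b ∈ B.gr 0 := by
      have := SetLike.GradedSMul.smul_mem (A := 𝒜) (B := B.gr) (proj_mem 𝒜 (-n) r) hb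
      rwa [vadd_eq_add, neg_add_cancel] at this
    rw [proj_of_mem_same B.gr h1]
  -- existence for homogeneous elements
  have hex_hom : ∀ (n : ℤ) (b : B.carrier), b ∈ B.gr n →
      ∃ d, d ∈ 𝒟 n ∧ ∀ r : R, proj 𝒟 0 (r • d) = Lam (r • b) := by
    intro n b hb
    obtain ⟨d, hd, hdr⟩ := hex n
      (Lam.comp (LinearMap.toSpanSingleton R B.carrier b).toAddMonoidHom)
      (fun r => hLam0 _)
      (fun s hs r hr => by
        change Lam ((s * r) • b) = s • Lam (r • b)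
        rw [mul_smul, hLams s hs])
    refine ⟨d, hd, fun r => ?_⟩
    rw [proj_smul_of_mem_right 𝒜 𝒟 hd 0 r, zero_sub, hdr _ (proj_mem 𝒜 (-n) r)]
    change Lam (proj 𝒜 (-n) r • b) = Lam (r • b)
    rw [← hLamr n b hb r]
  choose! dd hdd hddβ using hex_hom
  have hexg : ∀ b : B.carrier, ∃ d, ∀ r : R, proj 𝒟 0 (r • d) = Lam (r • b) := by
    intro b
    refine ⟨∑ n ∈ (decompose B.gr b).support, dd n (proj B.gr n b), fun r => ?_⟩
    rw [Finset.smul_sum, proj_sum]
    conv_rhs => rw [← sum_proj B.gr b, Finset.smul_sum, map_sum]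
    refine Finset.sum_congr rfl fun n _ => ?_
    exact hddβ n _ (proj_mem B.gr n b) r
  choose hh hhβ using hexg
  have hsepD : ∀ d : D, (∀ r, proj 𝒟 0 (r • d) = 0) → d = 0 := fun d h => sep_all 𝒜 𝒟 hsep d h
  let h : B.carrier →ₗ[R] D :=
    { toFun := hh
      map_add' := by
        intro a b
        rw [← sub_eq_zero]
        apply hsepD
        intro r
        have e1 : r • (hh (a + b) - (hh a + hh b)) = r • hh (a + b) - (r • hh a + r • hh b) := by
          rw [smul_sub, smul_add]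
        have e2 : proj 𝒟 0 (r • hh (a + b) - (r • hh a + r • hh b)) =
            proj 𝒟 0 (r • hh (a + b)) - (proj 𝒟 0 (r • hh a) + proj 𝒟 0 (r • hh b)) := by
          have h1 := (projAdd 𝒟 0).map_sub (r • hh (a + b)) (r • hh a + r • hh b)
          simp only [projAdd_apply] at h1
          rw [h1, proj_add]
        rw [e1, e2, hhβ, hhβ, hhβ, smul_add, map_add, sub_self]
      map_smul' := by
        intro s b
        rw [← sub_eq_zero]
        apply hsepD
        intro r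
        have e1 : r • (hh (s • b) - (RingHom.id R) s • hh b) = r • hh (s • b) - (r * s) • hh b := by
          rw [smul_sub, RingHom.id_apply, mul_smul]
        have e2 : proj 𝒟 0 (r • hh (s • b) - (r * s) • hh b) =
            proj 𝒟 0 (r • hh (s • b)) - proj 𝒟 0 ((r * s) • hh b) :=
          (projAdd 𝒟 0).map_sub _ _
        rw [e1, e2, hhβ, hhβ, mul_smul, sub_self] }
  have hh_apply : ∀ b, h b = hh b := fun _ => rfl
  have hsub : ∀ (x y : D) (r : R), proj 𝒟 0 (r • (x - y)) = proj 𝒟 0 (r • x) - proj 𝒟 0 (r • y) := by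
    intro x y r
    rw [smul_sub]
    exact (projAdd 𝒟 0).map_sub _ _
  refine ⟨h, ?_, ?_⟩
  · intro n b hb
    have : h b = dd n b := by
      rw [← sub_eq_zero]
      apply hsepD
      intro r
      rw [hsub, hh_apply, hhβ, hddβ n b hb, sub_self]
    rw [this]
    exact hdd n b hb
  · ext a
    rw [LinearMap.comp_apply, ← sub_eq_zero]
    apply hsepD
    intro r
    rw [hsub, hh_apply, hhβ, ← map_smul, ← map_smul, hLam, proj_hom A.gr B.gr f hf 0, hρ',
      ← proj_hom A.gr 𝒟 g₀ hg₀ 0, proj_of_mem_same 𝒟 (proj_mem 𝒟 0 _), sub_self]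

end Abstract

end Groth.Agent.Lib.Helper20.GrVG
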