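import Mathlib
import Groth.Prelude.Def_GrLC
import Groth.Agent.Lib.Helper26.GrProj
import Groth.Agent.Lib.Helper20.GrKit1

/-!
# Coarsening a grading along a homomorphism of grading groups
-/

set_option autoImplicit false
set_option linter.unusedSectionVars false
set_option linter.unusedVariables false

namespace Groth.Agent.Lib.Helper20.GrCoarse

open DirectSum Groth.Agent.Lib.Helper26.GrProj Groth.Agent.Lib.Helper20.GrKit

universe u

variable {ι κ : Type} [AddCommGroup ι] [DecidableEq ι] [AddCommGroup κ] [DecidableEq κ]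
  (φ : ι →+ κ) {X : Type u} [AddCommGroup X] (𝒳 : ι → AddSubgroup X) [DirectSum.Decomposition 𝒳]

/-- the coarsened family: elements all of whose components have degree over `h` -/
def coarse (h : κ) : AddSubgroup X where
  carrier := {x | ∀ g, φ g ≠ h → proj 𝒳 g x = 0}
  zero_mem' := fun g _ => proj_zero 𝒳 g
  add_mem' := by
    intro x y hx hy g hg
    rw [proj_add, hx g hg, hy g hg, add_zero]
  neg_mem' := by
    intro x hx g hg
    have : proj 𝒳 g (-x) + proj 𝒳 g x = 0 := by rw [← proj_add, neg_add_cancel, proj_zero]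
    rw [hx g hg, add_zero] at this
    exact this

theorem mem_coarse {h : κ} {x : X} : x ∈ coarse φ 𝒳 h ↔ ∀ g, φ g ≠ h → proj 𝒳 g x = 0 := Iff.rfl

theorem le_coarse (g : ι) : 𝒳 g ≤ coarse φ 𝒳 (φ g) := by
  intro x hx g' hg'
  exact proj_of_mem_ne 𝒳 hx (fun e => hg' (e ▸ rfl))

theorem iSup_le_coarse (h : κ) : (⨆ g ∈ φ ⁻¹' {h}, 𝒳 g) ≤ coarse φ 𝒳 h := by
  refine iSup₂_le fun g hg => ?_
  have hg' : φ g = h := hg
  rw [← hg']
  exact le_coarse φ 𝒳 g

theorem ext_proj {x y : X} (h : ∀ g, proj 𝒳 g x = proj 𝒳 g y) : x = y := by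
  classical
  apply (DirectSum.decomposeAddEquiv 𝒳).injective
  apply DFinsupp.ext
  intro g
  exact Subtype.ext (h g)

/-- the projection onto the coarse piece -/
noncomputable def cproj (h : κ) : X →+ X :=
  (DirectSum.toAddMonoid fun g => if φ g = h then (𝒳 g).subtype else 0).comp
    (DirectSum.decomposeAddEquiv 𝒳).toAddMonoidHom

theorem cproj_of_mem (h : κ) {g : ι} {x : X} (hx : x ∈ 𝒳 g) :
    cproj φ 𝒳 h x = if φ g = h then x else 0 := by
  change (DirectSum.toAddMonoid _) (DirectSum.decompose 𝒳 x) = _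
  rw [DirectSum.decompose_of_mem 𝒳 hx, DirectSum.toAddMonoid_of]
  split_ifs <;> rfl

theorem proj_cproj (h : κ) (g' : ι) (x : X) :
    proj 𝒳 g' (cproj φ 𝒳 h x) = if φ g' = h then proj 𝒳 g' x else 0 := by
  classical
  induction x using DirectSum.Decomposition.inductionOn 𝒳 with
  | zero => simp [proj_zero]
  | add x y hx hy =>
    rw [map_add, proj_add, hx, hy, proj_add]
    split_ifs <;> simp
  | homogeneous x =>
    rename_i g
    rw [cproj_of_mem φ 𝒳 h x.2]
    by_cases e : g' = g
    · subst e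
      rw [proj_of_mem_same 𝒳 x.2]
      split_ifs
      · exact proj_of_mem_same 𝒳 x.2
      · exact proj_zero 𝒳 _
    · rw [proj_of_mem_ne 𝒳 x.2 (Ne.symm e)]
      have h0 : (if φ g' = h then (0 : X) else 0) = 0 := by split_ifs <;> rfl
      rw [h0]
      split_ifs
      · exact proj_of_mem_ne 𝒳 x.2 (Ne.symm e)
      · exact proj_zero 𝒳 _

theorem coarse_isInternal : DirectSum.IsInternal (coarse φ 𝒳) := by
  classical
  refine isInternal_of_proj (coarse φ 𝒳) (cproj φ 𝒳) ?_ ?_ ?_ ?_
  · intro h x g hg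
    rw [proj_cproj, if_neg hg]
  · intro h x hx
    apply ext_proj 𝒳
    intro g
    rw [proj_cproj]
    split_ifs with e
    · rfl
    · exact (hx g e).symm
  · intro h h' x hx hne
    apply ext_proj 𝒳
    intro g
    rw [proj_cproj, proj_zero]
    split_ifs with e
    · exact hx g (fun e' => hne (e'.symm.trans e))
    · rfl
  · intro x
    refine ⟨(DirectSum.decompose 𝒳 x).support.image φ, ?_⟩
    apply ext_proj 𝒳
    intro g
    rw [proj_sum]
    simp only [proj_cproj]
    rw [Finset.sum_ite_eq]
    split_ifs with e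
    · rfl
    · apply proj_eq_zero_of_notMem
      intro hg
      exact e (Finset.mem_image_of_mem φ hg)

noncomputable instance coarseDecomposition : DirectSum.Decomposition (coarse φ 𝒳) :=
  (coarse_isInternal φ 𝒳).chooseDecomposition

end Groth.Agent.Lib.Helper20.GrCoarse
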