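import Mathlib
import Groth.Prelude.Def_GrLC
import Groth.Agent.Lib.Helper26.GrProj
import Groth.Agent.Lib.Helper20.GrCoarse1

/-!
# Coarse projections and graded maps
-/

set_option autoImplicit false
set_option linter.unusedSectionVars false
set_option linter.unusedVariables false

namespace Groth.Agent.Lib.Helper20.GrCoarse

open DirectSum Groth.Agent.Lib.Helper26.GrProj Groth.Agent.Lib.Helper20.GrKit

universe u

variable {ι κ : Type} [AddCommGroup ι] [DecidableEq ι] [AddCommGroup κ] [DecidableEq κ]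
  (φ : ι →+ κ) {R : Type u} [CommRing R]
  {X : Type u} [AddCommGroup X] [Module R X] (𝒳 : ι → AddSubgroup X) [DirectSum.Decomposition 𝒳]
  {Y : Type u} [AddCommGroup Y] [Module R Y] (𝒴 : ι → AddSubgroup Y) [DirectSum.Decomposition 𝒴]

theorem cproj_mem (h : κ) (x : X) : cproj φ 𝒳 h x ∈ coarse φ 𝒳 h := by
  intro g hg
  rw [proj_cproj, if_neg hg]

theorem cproj_eq_self {h : κ} {x : X} (hx : x ∈ coarse φ 𝒳 h) : cproj φ 𝒳 h x = x := by
  apply ext_proj 𝒳
  intro g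
  rw [proj_cproj]
  split_ifs with e
  · rfl
  · exact (hx g e).symm

theorem map_mem_coarse (f : X →ₗ[R] Y) (hf : GrLC.IsGrHom 𝒳 𝒴 f) {h : κ} {x : X}
    (hx : x ∈ coarse φ 𝒳 h) : f x ∈ coarse φ 𝒴 h := by
  intro g hg
  rw [proj_hom 𝒳 𝒴 f hf g x, hx g hg, map_zero]

theorem mem_coarse_of_map_mem (f : X →ₗ[R] Y) (hf : GrLC.IsGrHom 𝒳 𝒴 f)
    (hinj : Function.Injective f) {h : κ} {x : X} (hx : f x ∈ coarse φ 𝒴 h) :
    x ∈ coarse φ 𝒳 h := by
  intro g hg
  apply hinj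
  rw [← proj_hom 𝒳 𝒴 f hf g x, hx g hg, map_zero]

theorem cproj_map (f : X →ₗ[R] Y) (hf : GrLC.IsGrHom 𝒳 𝒴 f) (h : κ) (x : X) :
    f (cproj φ 𝒳 h x) = cproj φ 𝒴 h (f x) := by
  apply ext_proj 𝒴
  intro g
  rw [proj_hom 𝒳 𝒴 f hf g, proj_cproj, proj_cproj, proj_hom 𝒳 𝒴 f hf g]
  split_ifs
  · rfl
  · exact map_zero _

open Classical in
theorem cproj_eq_sum (h : κ) (x : X) :
    cproj φ 𝒳 h x = ∑ g ∈ (DirectSum.decompose 𝒳 x).support, if φ g = h then proj 𝒳 g x else 0 := by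
  classical
  apply ext_proj 𝒳
  intro g'
  rw [proj_cproj, proj_sum]
  have hterm : ∀ g, proj 𝒳 g' (if φ g = h then proj 𝒳 g x else 0) =
      if g = g' then (if φ g' = h then proj 𝒳 g' x else 0) else 0 := by
    intro g
    by_cases e : g = g'
    · subst e
      rw [if_pos rfl]
      split_ifs
      · exact proj_of_mem_same 𝒳 (proj_mem 𝒳 _ _)
      · exact proj_zero 𝒳 _
    · rw [if_neg e]
      split_ifs
      · exact proj_of_mem_ne 𝒳 (proj_mem 𝒳 _ _) e
      · exact proj_zero 𝒳 _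
  simp only [hterm]
  rw [Finset.sum_ite_eq']
  by_cases hs : g' ∈ (DirectSum.decompose 𝒳 x).support
  · rw [if_pos hs]
  · rw [if_neg hs, proj_eq_zero_of_notMem 𝒳 hs]
    split_ifs <;> rfl

theorem cproj_mem_submodule (P : Submodule R X) (hP : ∀ g x, x ∈ P → proj 𝒳 g x ∈ P) (h : κ)
    {x : X} (hx : x ∈ P) : cproj φ 𝒳 h x ∈ P := by
  classical
  rw [cproj_eq_sum]
  refine Submodule.sum_mem _ fun g _ => ?_
  split_ifs
  · exact hP g x hx
  · exact Submodule.zero_mem _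

end Groth.Agent.Lib.Helper20.GrCoarse
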