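import Mathlib
import Groth.Prelude.Def_GrLC
import Groth.Agent.Lib.Helper26.GrProj
import Groth.Agent.Lib.Helper20.GrCoarse1

/-!
# Veronese submodules as graded modules over the Veronese subring
-/

set_option autoImplicit false
set_option linter.unusedSectionVars false
set_option linter.unusedVariables false

namespace Groth.Agent.Lib.Helper20.GrVer

open DirectSum Groth.Agent.Lib.Helper26.GrProj Groth.Agent.Lib.Helper20.GrKit
  Groth.Agent.Lib.Helper20.GrCoarse

universe u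

/-- reduction of degrees modulo `q` -/
abbrev psi (q : ℕ) : ℤ →+ ZMod q := Int.castAddHom (ZMod q)

theorem psi_mul (q : ℕ) (j : ℤ) : psi q (j * q) = 0 := by
  change ((j * (q : ℤ) : ℤ) : ZMod q) = 0
  rw [Int.cast_mul, Int.cast_natCast, ZMod.natCast_self, mul_zero]

theorem exists_of_psi_eq_zero (q : ℕ) {g : ℤ} (h : psi q g = 0) : ∃ j : ℤ, g = j * q := by
  obtain ⟨j, hj⟩ := (ZMod.intCast_zmod_eq_zero_iff_dvd g q).1 h
  exact ⟨j, by rw [hj, mul_comm]⟩

variable {R : Type u} [CommRing R] (𝒜 : ℤ → AddSubgroup R) [GradedRing 𝒜]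
  {X : Type u} [AddCommGroup X] [Module R X] (𝒳 : ℤ → AddSubgroup X) [DirectSum.Decomposition 𝒳]
  [SetLike.GradedSMul 𝒜 𝒳] (q : ℕ)

theorem mem_ver_of_mem {j : ℤ} {x : X} (hx : x ∈ 𝒳 (j * q)) : x ∈ coarse (psi q) 𝒳 0 := by
  have := le_coarse (psi q) 𝒳 (j * q) hx
  rwa [psi_mul] at this

theorem smul_mem_coarse_of_mem {g₁ : ℤ} {h' : ZMod q} {r : R} {x : X} (hr : r ∈ 𝒜 g₁)
    (hx : x ∈ coarse (psi q) 𝒳 h') : r • x ∈ coarse (psi q) 𝒳 (psi q g₁ + h') := by
  intro g hg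
  rw [proj_smul_of_mem 𝒜 𝒳 hr g x, hx (g - g₁), smul_zero]
  intro e
  apply hg
  rw [map_sub] at e
  rw [← e]
  abel

theorem coarse_smul {h h' : ZMod q} {r : R} {x : X} (hr : r ∈ coarse (psi q) 𝒜 h)
    (hx : x ∈ coarse (psi q) 𝒳 h') : r • x ∈ coarse (psi q) 𝒳 (h + h') := by
  classical
  rw [← sum_proj 𝒜 r, Finset.sum_smul]
  refine sum_mem fun g _ => ?_
  by_cases hg : psi q g = h
  · rw [← hg]
    exact smul_mem_coarse_of_mem 𝒜 𝒳 q (proj_mem 𝒜 g r) hx
  · rw [hr g hg, zero_smul]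
    exact zero_mem _

variable {R' : Type u} [CommRing R'] (𝒜' : ℤ → AddSubgroup R') [GradedRing 𝒜'] (φ : R' →+* R)
  (hdeg : ∀ j : ℤ, (𝒜' j).map (φ : R' →+ R) = 𝒜 (j * q))

include hdeg in
theorem phi_mem {j : ℤ} {r : R'} (hr : r ∈ 𝒜' j) : φ r ∈ 𝒜 (j * q) := by
  rw [← hdeg j]
  exact AddSubgroup.mem_map_of_mem _ hr

include hdeg in
theorem phi_mem_coarse (r : R') : φ r ∈ coarse (psi q) 𝒜 0 := by
  classical
  induction r using DirectSum.Decomposition.inductionOn 𝒜' with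
  | zero => rw [map_zero]; exact zero_mem _
  | add r s hr hs => rw [map_add]; exact add_mem hr hs
  | homogeneous r => exact mem_ver_of_mem 𝒜 q (phi_mem 𝒜 q 𝒜' φ hdeg r.2)

include hdeg in
theorem phi_smul_mem (r : R') {x : X} (hx : x ∈ coarse (psi q) 𝒳 0) :
    φ r • x ∈ coarse (psi q) 𝒳 0 := by
  have := coarse_smul 𝒜 𝒳 q (phi_mem_coarse 𝒜 q 𝒜' φ hdeg r) hx
  rwa [add_zero] at this

/-- the `R'`-module structure on the Veronese submodule -/
noncomputable def verModule : Module R' ↥(coarse (psi q) 𝒳 0) where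
  smul r x := ⟨φ r • (x : X), phi_smul_mem 𝒜 𝒳 q 𝒜' φ hdeg r x.2⟩
  one_smul x := Subtype.ext (by
    change φ 1 • (x : X) = x
    rw [map_one, one_smul])
  mul_smul r s x := Subtype.ext (by
    change φ (r * s) • (x : X) = φ r • (φ s • (x : X))
    rw [map_mul, mul_smul])
  smul_zero r := Subtype.ext (by
    change φ r • (0 : X) = 0
    rw [smul_zero])
  smul_add r x y := Subtype.ext (by
    change φ r • ((x : X) + (y : X)) = φ r • (x : X) + φ r • (y : X)
    rw [smul_add])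
  add_smul r s x := Subtype.ext (by
    change φ (r + s) • (x : X) = φ r • (x : X) + φ s • (x : X)
    rw [map_add, add_smul])
  zero_smul x := Subtype.ext (by
    change φ 0 • (x : X) = 0
    rw [map_zero, zero_smul])

/-- the pieces of the Veronese submodule -/
def verGr (j : ℤ) : AddSubgroup ↥(coarse (psi q) 𝒳 0) :=
  (𝒳 (j * q)).comap (coarse (psi q) 𝒳 0).subtype

theorem mem_verGr {j : ℤ} {x : ↥(coarse (psi q) 𝒳 0)} : x ∈ verGr 𝒳 q j ↔ (x : X) ∈ 𝒳 (j * q) :=
  Iff.rfl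

/-- the component maps of the Veronese submodule -/
noncomputable def vproj (j : ℤ) : ↥(coarse (psi q) 𝒳 0) →+ ↥(coarse (psi q) 𝒳 0) :=
  AddMonoidHom.codRestrict ((projAdd 𝒳 (j * q)).comp (coarse (psi q) 𝒳 0).subtype)
    (coarse (psi q) 𝒳 0) (fun x => mem_ver_of_mem 𝒳 q (proj_mem 𝒳 (j * q) _))

theorem vproj_coe (j : ℤ) (x : ↥(coarse (psi q) 𝒳 0)) :
    ((vproj 𝒳 q j x : ↥(coarse (psi q) 𝒳 0)) : X) = proj 𝒳 (j * q) (x : X) := rfl

theorem ver_isInternal (hq : 0 < q) : DirectSum.IsInternal (verGr 𝒳 q) := by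
  classical
  have hq' : (q : ℤ) ≠ 0 := by exact_mod_cast hq.ne'
  refine isInternal_of_proj (verGr 𝒳 q) (vproj 𝒳 q) ?_ ?_ ?_ ?_
  · intro j x
    exact proj_mem 𝒳 (j * q) _
  · intro j x hx
    exact Subtype.ext (proj_of_mem_same 𝒳 hx)
  · intro j j' x hx hne
    apply Subtype.ext
    rw [vproj_coe]
    refine proj_of_mem_ne 𝒳 hx ?_
    intro e
    exact hne (mul_right_cancel₀ hq' e)
  · intro x
    refine ⟨(DirectSum.decompose 𝒳 (x : X)).support.image (fun g => g / (q : ℤ)), ?_⟩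
    apply Subtype.ext
    rw [AddSubgroup.val_finsetSum]
    simp only [vproj_coe]
    apply ext_proj 𝒳
    intro g'
    rw [proj_sum]
    have hterm : ∀ j : ℤ, proj 𝒳 g' (proj 𝒳 (j * q) (x : X)) =
        if j * q = g' then proj 𝒳 g' (x : X) else 0 := by
      intro j
      split_ifs with e
      · rw [← e]
        exact proj_of_mem_same 𝒳 (proj_mem 𝒳 _ _)
      · exact proj_of_mem_ne 𝒳 (proj_mem 𝒳 _ _) e
    simp only [hterm]
    by_cases hg' : psi q g' = 0
    · obtain ⟨j₀, rfl⟩ := exists_of_psi_eq_zero q hg'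
      have h2 : ∀ j : ℤ, (j * (q : ℤ) = j₀ * q) ↔ j₀ = j :=
        fun j => ⟨fun e => (mul_right_cancel₀ hq' e).symm, fun e => by rw [e]⟩
      simp only [h2]
      rw [Finset.sum_ite_eq]
      split_ifs with hmem
      · rfl
      · apply proj_eq_zero_of_notMem
        intro hs
        apply hmem
        refine Finset.mem_image.2 ⟨j₀ * q, hs, ?_⟩
        exact Int.mul_ediv_cancel j₀ hq'
    · rw [x.2 g' hg']
      symm
      exact Finset.sum_eq_zero fun j _ => by split_ifs <;> rfl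

end Groth.Agent.Lib.Helper20.GrVer
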