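import Mathlib
import Groth.Prelude.Def_GrLC
import Groth.Agent.Lib.Helper26.GrProj
import Groth.Agent.Lib.Helper20.GrVer1
import Groth.Agent.Lib.Helper20.GrCoarse3
import Groth.Agent.Lib.Helper20.GrAcyc1

/-!
# The Veronese of a *injective resolution, as a graded resolution over the Veronese subring
-/

set_option autoImplicit false
set_option linter.unusedSectionVars false
set_option linter.unusedVariables false

namespace Groth.Agent.Lib.Helper20.GrVer

open DirectSum Groth.Agent.Lib.Helper26.GrProj Groth.Agent.Lib.Helper20.GrKit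
  Groth.Agent.Lib.Helper20.GrCoarse Groth.Agent.Lib.Helper20.GrAcyc

universe u

variable {R : Type u} [CommRing R] (𝒜 : ℤ → AddSubgroup R) [GradedRing 𝒜] (q : ℕ) (hq : 0 < q)
  {R' : Type u} [CommRing R'] (𝒜' : ℤ → AddSubgroup R') [GradedRing 𝒜'] (φ : R' →+* R)
  (hdeg : ∀ j : ℤ, (𝒜' j).map (φ : R' →+ R) = 𝒜 (j * q))

/-- the Veronese module of a graded module, over the Veronese subring -/
noncomputable def ver (X : GrLC.GMod.{u} 𝒜) : GrLC.GMod.{u} 𝒜' :=
  letI : Module R' ↥(coarse (psi q) X.gr 0) := verModule 𝒜 X.gr q 𝒜' φ hdeg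
  letI : DirectSum.Decomposition (verGr X.gr q) := (ver_isInternal X.gr q hq).chooseDecomposition
  { carrier := ↥(coarse (psi q) X.gr 0)
    gr := verGr X.gr q
    gsmul := ⟨fun {i j} {r x} hr hx => by
      change φ r • (x.1 : X.carrier) ∈ X.gr ((i +ᵥ j) * q)
      rw [vadd_eq_add, add_mul]
      have hx' : (x.1 : X.carrier) ∈ X.gr (j * q) := hx
      have := SetLike.GradedSMul.smul_mem (A := 𝒜) (B := X.gr) (phi_mem 𝒜 q 𝒜' φ hdeg hr) hx'
      rwa [vadd_eq_add] at this⟩ }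

theorem ver_smul_coe (X : GrLC.GMod.{u} 𝒜) (r : R') (x : (ver 𝒜 q hq 𝒜' φ hdeg X).carrier) :
    ((r • x : (ver 𝒜 q hq 𝒜' φ hdeg X).carrier).1 : X.carrier) = φ r • (x.1 : X.carrier) := rfl

/-- the Veronese of a graded map -/
noncomputable def verMap (X Y : GrLC.GMod.{u} 𝒜) (f : X.carrier →ₗ[R] Y.carrier)
    (hf : GrLC.IsGrHom X.gr Y.gr f) :
    (ver 𝒜 q hq 𝒜' φ hdeg X).carrier →ₗ[R'] (ver 𝒜 q hq 𝒜' φ hdeg Y).carrier where
  toFun x := ⟨f (x.1 : X.carrier), map_mem_coarse (psi q) X.gr Y.gr f hf x.2⟩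
  map_add' x y := Subtype.ext (map_add f _ _)
  map_smul' r x := Subtype.ext (by
    change f (φ r • (x.1 : X.carrier)) = φ r • f (x.1 : X.carrier)
    rw [map_smul])

theorem verMap_coe (X Y : GrLC.GMod.{u} 𝒜) (f : X.carrier →ₗ[R] Y.carrier)
    (hf : GrLC.IsGrHom X.gr Y.gr f) (x : (ver 𝒜 q hq 𝒜' φ hdeg X).carrier) :
    ((verMap 𝒜 q hq 𝒜' φ hdeg X Y f hf x : (ver 𝒜 q hq 𝒜' φ hdeg Y).carrier).1 : Y.carrier) =
      f (x.1 : X.carrier) := rfl

variable {M : Type u} [AddCommGroup M] [Module R M] (ℳ : ℤ → AddSubgroup M)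
  [DirectSum.Decomposition ℳ] [SetLike.GradedSMul 𝒜 ℳ]
  {M' : Type u} [AddCommGroup M'] [Module R' M'] (ℳ' : ℤ → AddSubgroup M')
  [DirectSum.Decomposition ℳ'] [SetLike.GradedSMul 𝒜' ℳ'] (g : M' →ₛₗ[φ] M)
  (hg : Function.Injective g) (hgdeg : ∀ j : ℤ, (ℳ' j).map (g : M' →+ M) = ℳ (j * q))

include hgdeg in
theorem g_mem {j : ℤ} {x : M'} (hx : x ∈ ℳ' j) : g x ∈ ℳ (j * q) := by
  rw [← hgdeg j]
  exact AddSubgroup.mem_map_of_mem _ hx

include hgdeg in
theorem g_mem_coarse (x : M') : g x ∈ coarse (psi q) ℳ 0 := by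
  classical
  induction x using DirectSum.Decomposition.inductionOn ℳ' with
  | zero => rw [map_zero]; exact zero_mem _
  | add x y hx hy => rw [map_add]; exact add_mem hx hy
  | homogeneous x => exact mem_ver_of_mem ℳ q (g_mem q φ ℳ ℳ' g hgdeg x.2)

include hgdeg in
theorem mem_range_g {m : M} (hm : m ∈ coarse (psi q) ℳ 0) : ∃ x : M', g x = m := by
  classical
  have hmem : m ∈ (g : M' →+ M).range := by
    rw [← sum_proj ℳ m]
    refine sum_mem fun g' _ => ?_
    by_cases hg' : psi q g' = 0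
    · obtain ⟨j, rfl⟩ := exists_of_psi_eq_zero q hg'
      have h1 : proj ℳ (j * q) m ∈ ℳ (j * q) := proj_mem ℳ _ _
      rw [← hgdeg j] at h1
      obtain ⟨x, -, hx⟩ := h1
      exact ⟨x, hx⟩
    · rw [hm g' hg']
      exact zero_mem _
  obtain ⟨x, hx⟩ := hmem
  exact ⟨x, hx⟩

/-- the Veronese of a *injective resolution -/
noncomputable def verRes (E : GrLC.StarInjRes 𝒜 ℳ) : GrRes 𝒜' ℳ' where
  X n := ver 𝒜 q hq 𝒜' φ hdeg (E.X n)
  d n := verMap 𝒜 q hq 𝒜' φ hdeg (E.X n) (E.X (n + 1)) (E.d n) (E.d_grHom n)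
  ε :=
    { toFun := fun x => ⟨E.ε (g x), map_mem_coarse (psi q) ℳ (E.X 0).gr E.ε E.ε_grHom
        (g_mem_coarse q φ ℳ ℳ' g hgdeg x)⟩
      map_add' := fun x y => Subtype.ext (by
        change E.ε (g (x + y)) = E.ε (g x) + E.ε (g y)
        rw [map_add, map_add])
      map_smul' := fun r x => Subtype.ext (by
        change E.ε (g (r • x)) = φ r • E.ε (g x)
        rw [map_smulₛₗ, map_smul]) }
  d_grHom n := fun j x hx => E.d_grHom n (j * q) _ hx
  ε_grHom := fun j x hx => E.ε_grHom (j * q) _ (g_mem q φ ℳ ℳ' g hgdeg hx)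
  ε_injective := by
    intro x y hxy
    have h1 : E.ε (g x) = E.ε (g y) := congrArg Subtype.val hxy
    exact hg (E.ε_injective h1)
  exact_zero := by
    ext y
    constructor
    · intro hy
      have hy' : E.d 0 (y.1 : (E.X 0).carrier) = 0 := congrArg Subtype.val hy
      have hy2 : (y.1 : (E.X 0).carrier) ∈ LinearMap.range E.ε := by
        rw [← E.exact_zero]
        exact hy'
      obtain ⟨m, hm⟩ := hy2
      have hmc : m ∈ coarse (psi q) ℳ 0 := by
        apply mem_coarse_of_map_mem (psi q) ℳ (E.X 0).gr E.ε E.ε_grHom E.ε_injective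
        rw [hm]
        exact y.2
      obtain ⟨x, rfl⟩ := mem_range_g q φ ℳ ℳ' g hgdeg hmc
      exact ⟨x, Subtype.ext hm⟩
    · rintro ⟨x, rfl⟩
      apply Subtype.ext
      change E.d 0 (E.ε (g x)) = 0
      have : E.ε (g x) ∈ LinearMap.ker (E.d 0) := by
        rw [E.exact_zero]
        exact ⟨_, rfl⟩
      exact this
  exact_succ n := by
    ext y
    constructor
    · intro hy
      have hy' : E.d (n + 1) (y.1 : (E.X (n + 1)).carrier) = 0 := congrArg Subtype.val hy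
      have hy2 : (y.1 : (E.X (n + 1)).carrier) ∈ LinearMap.range (E.d n) := by
        rw [← E.exact_succ n]
        exact hy'
      obtain ⟨x, hx⟩ := hy2
      refine ⟨⟨cproj (psi q) (E.X n).gr 0 x, cproj_mem (psi q) (E.X n).gr 0 x⟩, ?_⟩
      apply Subtype.ext
      change E.d n (cproj (psi q) (E.X n).gr 0 x) = y.1
      rw [cproj_map (psi q) (E.X n).gr (E.X (n + 1)).gr (E.d n) (E.d_grHom n), hx,
        cproj_eq_self (psi q) (E.X (n + 1)).gr y.2]
    · rintro ⟨x, rfl⟩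
      apply Subtype.ext
      change E.d (n + 1) (E.d n (x.1 : (E.X n).carrier)) = 0
      have : E.d n (x.1 : (E.X n).carrier) ∈ LinearMap.ker (E.d (n + 1)) := by
        rw [E.exact_succ n]
        exact ⟨_, rfl⟩
      exact this

end Groth.Agent.Lib.Helper20.GrVer
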