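import Mathlib
import Groth.Prelude.Def_GrLC
import Groth.Agent.Lib.Helper26.GrProj
import Groth.Agent.Lib.Helper20.GrVer2

/-!
# Torsion and cohomology of the Veronese of a resolution
-/

set_option autoImplicit false
set_option linter.unusedSectionVars false
set_option linter.unusedVariables false

namespace Groth.Agent.Lib.Helper20.GrVer

open DirectSum Groth.Agent.Lib.Helper26.GrProj Groth.Agent.Lib.Helper20.GrKit
  Groth.Agent.Lib.Helper20.GrCoarse Groth.Agent.Lib.Helper20.GrAcyc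

universe u

variable {R : Type u} [CommRing R] (𝒜 : ℤ → AddSubgroup R) [GradedRing 𝒜] (q : ℕ) (hq : 0 < q)
  {R' : Type u} [CommRing R'] (𝒜' : ℤ → AddSubgroup R') [GradedRing 𝒜'] (φ : R' →+* R)
  (hdeg : ∀ j : ℤ, (𝒜' j).map (φ : R' →+ R) = 𝒜 (j * q))
  (m : HomogeneousIdeal 𝒜)
  (hmsp : m.toIdeal = Ideal.span (⋃ n ∈ Set.Ioi (0 : ℤ), (𝒜 n : Set R)))
  (m' : HomogeneousIdeal 𝒜')
  (hm'sp : m'.toIdeal = Ideal.span (⋃ j ∈ Set.Ioi (0 : ℤ), (𝒜' j : Set R')))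

include hq hdeg hmsp hm'sp in
theorem map_le : Ideal.map φ m'.toIdeal ≤ m.toIdeal := by
  rw [hm'sp, Ideal.map_span, Ideal.span_le]
  rintro _ ⟨x, hx, rfl⟩
  obtain ⟨j, hj, hxj⟩ := Set.mem_iUnion₂.1 hx
  rw [hmsp]
  apply Ideal.subset_span
  refine Set.mem_iUnion₂.2 ⟨j * q, ?_, phi_mem 𝒜 q 𝒜' φ hdeg hxj⟩
  have hj' : (0 : ℤ) < j := hj
  have : (0 : ℤ) < q := by exact_mod_cast hq
  exact mul_pos hj' this

include hdeg hmsp hm'sp in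
theorem le_radical : m.toIdeal ≤ (Ideal.map φ m'.toIdeal).radical := by
  rw [hmsp, Ideal.span_le]
  intro y hy
  obtain ⟨n, hn, hyn⟩ := Set.mem_iUnion₂.1 hy
  have hn' : (0 : ℤ) < n := hn
  refine ⟨q, ?_⟩
  have h1 : y ^ q ∈ 𝒜 (q • n) := SetLike.pow_mem_graded q hyn
  have e : (q • n : ℤ) = n * q := by rw [nsmul_eq_mul, mul_comm]
  rw [e, ← hdeg n] at h1
  obtain ⟨x, hx, hxy⟩ := h1
  rw [← hxy]
  apply Ideal.mem_map_of_mem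
  rw [hm'sp]
  apply Ideal.subset_span
  exact Set.mem_iUnion₂.2 ⟨n, hn', hx⟩

include hdeg hmsp hm'sp in
theorem exists_pow_le [IsNoetherianRing R] : ∃ N : ℕ, m.toIdeal ^ N ≤ Ideal.map φ m'.toIdeal :=
  Ideal.exists_pow_le_of_le_radical_of_fg (le_radical 𝒜 q 𝒜' φ hdeg m hmsp m' hm'sp)
    (IsNoetherian.noetherian _)

variable [IsNoetherianRing R]

include hmsp hm'sp in
theorem mem_gam_ver_iff (X : GrLC.GMod.{u} 𝒜) (x : (ver 𝒜 q hq 𝒜' φ hdeg X).carrier) :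
    x ∈ GrLC.gam m'.toIdeal (ver 𝒜 q hq 𝒜' φ hdeg X).carrier ↔
      (x.1 : X.carrier) ∈ GrLC.gam m.toIdeal X.carrier := by
  constructor
  · rintro ⟨t, ht⟩
    obtain ⟨N, hN⟩ := exists_pow_le 𝒜 q 𝒜' φ hdeg m hmsp m' hm'sp
    refine ⟨N * t, fun r hr => ?_⟩
    have h1 : r ∈ Ideal.map φ (m'.toIdeal ^ t) := by
      rw [Ideal.map_pow]
      rw [pow_mul] at hr
      exact Ideal.pow_right_mono hN t hr
    -- the annihilator of `x.1` contains the image of `m'^t`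
    let J : Ideal R :=
      { carrier := {r | r • (x.1 : X.carrier) = 0}
        add_mem' := fun {a b} ha hb => by
          change (a + b) • (x.1 : X.carrier) = 0
          rw [add_smul, ha, hb, add_zero]
        zero_mem' := zero_smul _ _
        smul_mem' := fun c a ha => by
          change (c • a) • (x.1 : X.carrier) = 0
          rw [smul_eq_mul, mul_smul, ha, smul_zero] }
    have hJ : Ideal.map φ (m'.toIdeal ^ t) ≤ J := by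
      rw [Ideal.map, Ideal.span_le]
      rintro _ ⟨r', hr', rfl⟩
      exact congrArg Subtype.val (ht r' hr')
    exact hJ h1
  · rintro ⟨t, ht⟩
    refine ⟨t, fun r' hr' => ?_⟩
    apply Subtype.ext
    change φ r' • (x.1 : X.carrier) = 0
    apply ht
    have h1 : φ r' ∈ Ideal.map φ (m'.toIdeal ^ t) := Ideal.mem_map_of_mem φ hr'
    rw [Ideal.map_pow] at h1
    exact Ideal.pow_right_mono (map_le 𝒜 q hq 𝒜' φ hdeg m hmsp m' hm'sp) t h1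

variable {M : Type u} [AddCommGroup M] [Module R M] (ℳ : ℤ → AddSubgroup M)
  [DirectSum.Decomposition ℳ] [SetLike.GradedSMul 𝒜 ℳ]
  {M' : Type u} [AddCommGroup M'] [Module R' M'] (ℳ' : ℤ → AddSubgroup M')
  [DirectSum.Decomposition ℳ'] [SetLike.GradedSMul 𝒜' ℳ'] (g : M' →ₛₗ[φ] M)
  (hg : Function.Injective g) (hgdeg : ∀ j : ℤ, (ℳ' j).map (g : M' →+ M) = ℳ (j * q))
  (E : GrLC.StarInjRes 𝒜 ℳ)

include hmsp hm'sp in
theorem theta_mem (p : ℕ) (z : (verRes 𝒜 q hq 𝒜' φ hdeg ℳ ℳ' g hg hgdeg E).cocyc m' p) :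
    (z.1.1 : (E.X p).carrier) ∈ E.cocyc m p := by
  refine ⟨(mem_gam_ver_iff 𝒜 q hq 𝒜' φ hdeg m hmsp m' hm'sp (E.X p) z.1).1 z.2.1, ?_⟩
  have h2 := z.2.2
  exact congrArg Subtype.val h2

/-- the comparison on cocycles -/
noncomputable def theta0 (p : ℕ) :
    (verRes 𝒜 q hq 𝒜' φ hdeg ℳ ℳ' g hg hgdeg E).cocyc m' p →ₛₗ[φ] E.cocyc m p where
  toFun z := ⟨z.1.1, theta_mem 𝒜 q hq 𝒜' φ hdeg m hmsp m' hm'sp ℳ ℳ' g hg hgdeg E p z⟩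
  map_add' z w := rfl
  map_smul' r z := rfl

include hmsp hm'sp in
theorem cobdy_of_cobdy (p : ℕ) (y : (ver 𝒜 q hq 𝒜' φ hdeg (E.X p)).carrier)
    (hy : y ∈ (verRes 𝒜 q hq 𝒜' φ hdeg ℳ ℳ' g hg hgdeg E).cobdy m' p) :
    (y.1 : (E.X p).carrier) ∈ E.cobdy m p := by
  cases p with
  | zero =>
    have : y = 0 := (Submodule.mem_bot R').1 hy
    rw [this]
    exact Submodule.zero_mem _
  | succ n =>
    obtain ⟨w, hw, rfl⟩ := hy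
    exact ⟨w.1, (mem_gam_ver_iff 𝒜 q hq 𝒜' φ hdeg m hmsp m' hm'sp (E.X n) w).1 hw, rfl⟩

include hmsp hm'sp in
theorem cobdy_of_cobdy' (p : ℕ) (y : (ver 𝒜 q hq 𝒜' φ hdeg (E.X p)).carrier)
    (hy : (y.1 : (E.X p).carrier) ∈ E.cobdy m p) :
    y ∈ (verRes 𝒜 q hq 𝒜' φ hdeg ℳ ℳ' g hg hgdeg E).cobdy m' p := by
  cases p with
  | zero =>
    have h0 : (y.1 : (E.X 0).carrier) = 0 := (Submodule.mem_bot R).1 hy
    have : y = 0 := Subtype.ext h0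
    rw [this]
    exact Submodule.zero_mem _
  | succ n =>
    obtain ⟨w, hw, hwy⟩ := hy
    have hw' : cproj (psi q) (E.X n).gr 0 w ∈ GrLC.gam m.toIdeal (E.X n).carrier :=
      cproj_mem_submodule (psi q) (E.X n).gr _
        (fun g x hx => proj_mem_gam 𝒜 (E.X n).gr m g x hx) 0 hw
    let w' : (ver 𝒜 q hq 𝒜' φ hdeg (E.X n)).carrier :=
      ⟨cproj (psi q) (E.X n).gr 0 w, cproj_mem (psi q) (E.X n).gr 0 w⟩
    refine ⟨w', (mem_gam_ver_iff 𝒜 q hq 𝒜' φ hdeg m hmsp m' hm'sp (E.X n) w').2 hw', ?_⟩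
    apply Subtype.ext
    change E.d n (cproj (psi q) (E.X n).gr 0 w) = y.1
    rw [cproj_map (psi q) (E.X n).gr (E.X (n + 1)).gr (E.d n) (E.d_grHom n), hwy,
      cproj_eq_self (psi q) (E.X (n + 1)).gr y.2]

/-- the comparison on cohomology -/
noncomputable def theta (p : ℕ) :
    (verRes 𝒜 q hq 𝒜' φ hdeg ℳ ℳ' g hg hgdeg E).H m' p →ₛₗ[φ] E.H m p :=
  Submodule.mapQ _ _ (theta0 𝒜 q hq 𝒜' φ hdeg m hmsp m' hm'sp ℳ ℳ' g hg hgdeg E p) (by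
    intro z hz
    rw [Submodule.mem_comap] at hz ⊢
    rw [Submodule.mem_comap]
    exact cobdy_of_cobdy 𝒜 q hq 𝒜' φ hdeg m hmsp m' hm'sp ℳ ℳ' g hg hgdeg E p z.1 hz)

theorem theta_toH (p : ℕ) (z : (verRes 𝒜 q hq 𝒜' φ hdeg ℳ ℳ' g hg hgdeg E).cocyc m' p) :
    theta 𝒜 q hq 𝒜' φ hdeg m hmsp m' hm'sp ℳ ℳ' g hg hgdeg E p
      ((verRes 𝒜 q hq 𝒜' φ hdeg ℳ ℳ' g hg hgdeg E).toH m' p z) =
      E.toH m p (theta0 𝒜 q hq 𝒜' φ hdeg m hmsp m' hm'sp ℳ ℳ' g hg hgdeg E p z) := rfl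

theorem theta_injective (p : ℕ) :
    Function.Injective (theta 𝒜 q hq 𝒜' φ hdeg m hmsp m' hm'sp ℳ ℳ' g hg hgdeg E p) := by
  rw [injective_iff_map_eq_zero]
  intro x hx
  obtain ⟨z, rfl⟩ := (verRes 𝒜 q hq 𝒜' φ hdeg ℳ ℳ' g hg hgdeg E).toH_surjective m' p x
  rw [theta_toH, Groth.Agent.Lib.Helper20.GrLES.toH_eq_zero_iff] at hx
  rw [GrRes.toH_eq_zero_iff]
  exact cobdy_of_cobdy' 𝒜 q hq 𝒜' φ hdeg m hmsp m' hm'sp ℳ ℳ' g hg hgdeg E p z.1 hx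

theorem theta_mem_Hgr (p : ℕ) (j : ℤ)
    (x : (verRes 𝒜 q hq 𝒜' φ hdeg ℳ ℳ' g hg hgdeg E).H m' p)
    (hx : x ∈ (verRes 𝒜 q hq 𝒜' φ hdeg ℳ ℳ' g hg hgdeg E).Hgr m' p j) :
    theta 𝒜 q hq 𝒜' φ hdeg m hmsp m' hm'sp ℳ ℳ' g hg hgdeg E p x ∈ E.Hgr m p (j * q) := by
  obtain ⟨z, hz, rfl⟩ := hx
  exact ⟨theta0 𝒜 q hq 𝒜' φ hdeg m hmsp m' hm'sp ℳ ℳ' g hg hgdeg E p z, hz, rfl⟩

theorem exists_theta_eq (p : ℕ) (j : ℤ) (y : E.H m p) (hy : y ∈ E.Hgr m p (j * q)) :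
    ∃ x ∈ (verRes 𝒜 q hq 𝒜' φ hdeg ℳ ℳ' g hg hgdeg E).Hgr m' p j,
      theta 𝒜 q hq 𝒜' φ hdeg m hmsp m' hm'sp ℳ ℳ' g hg hgdeg E p x = y := by
  obtain ⟨w, hw, rfl⟩ := hy
  let w' : (ver 𝒜 q hq 𝒜' φ hdeg (E.X p)).carrier :=
    ⟨w.1, mem_ver_of_mem (E.X p).gr q hw⟩
  have hw' : w' ∈ (verRes 𝒜 q hq 𝒜' φ hdeg ℳ ℳ' g hg hgdeg E).cocyc m' p := by
    refine ⟨(mem_gam_ver_iff 𝒜 q hq 𝒜' φ hdeg m hmsp m' hm'sp (E.X p) w').2 w.2.1, ?_⟩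
    apply Subtype.ext
    exact w.2.2
  exact ⟨(verRes 𝒜 q hq 𝒜' φ hdeg ℳ ℳ' g hg hgdeg E).toH m' p ⟨w', hw'⟩, ⟨⟨w', hw'⟩, hw, rfl⟩, rfl⟩

end Groth.Agent.Lib.Helper20.GrVer
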