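import Mathlib
import Groth.Prelude.Def_GrLC
import Groth.Prelude.Def_Wider
import Groth.Agent.Lib.Helper26.GrProj
import Groth.Agent.Lib.Helper20.GrVer3
import Groth.Agent.Lib.Helper20.GrAcyc3
import Groth.Agent.Lib.Helper20.GrKit5
import Groth.Agent.Lib.Helper2.LCBaseRes

/-!
# The Veronese subring is Noetherian; Veronese modules of *injectives are acyclic
-/

set_option autoImplicit false
set_option linter.unusedSectionVars false
set_option linter.unusedVariables false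
set_option linter.style.haveILetI false

namespace Groth.Agent.Lib.Helper20.GrVer

open DirectSum Groth.Agent.Lib.Helper26.GrProj Groth.Agent.Lib.Helper20.GrKit
  Groth.Agent.Lib.Helper20.GrCoarse Groth.Agent.Lib.Helper20.GrAcyc CategoryTheory

universe u

variable {R : Type u} [CommRing R] (𝒜 : ℤ → AddSubgroup R) [GradedRing 𝒜] (q : ℕ) (hq : 0 < q)
  {R' : Type u} [CommRing R'] (𝒜' : ℤ → AddSubgroup R') [GradedRing 𝒜'] (φ : R' →+* R)
  (hφ : Function.Injective φ)
  (hdeg : ∀ j : ℤ, (𝒜' j).map (φ : R' →+ R) = 𝒜 (j * q))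

section Smul

variable {X : Type u} [AddCommGroup X] [Module R X] (𝒳 : ℤ → AddSubgroup X)
  [DirectSum.Decomposition 𝒳] [SetLike.GradedSMul 𝒜 𝒳]

theorem cproj_smul_of_mem {g₁ : ℤ} (hg₁ : psi q g₁ = 0) {s : R} (hs : s ∈ 𝒜 g₁) (x : X) :
    cproj (psi q) 𝒳 0 (s • x) = s • cproj (psi q) 𝒳 0 x := by
  apply ext_proj 𝒳
  intro g
  rw [proj_cproj, proj_smul_of_mem 𝒜 𝒳 hs g, proj_smul_of_mem 𝒜 𝒳 hs g, proj_cproj]
  have e : psi q (g - g₁) = psi q g := by rw [map_sub, hg₁, sub_zero]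
  rw [e]
  split_ifs
  · rfl
  · rw [smul_zero]

theorem cproj_smul_of_mem_coarse {s : R} (hs : s ∈ coarse (psi q) 𝒜 0) (x : X) :
    cproj (psi q) 𝒳 0 (s • x) = s • cproj (psi q) 𝒳 0 x := by
  classical
  rw [← sum_proj 𝒜 s, Finset.sum_smul, map_sum, Finset.sum_smul]
  refine Finset.sum_congr rfl fun g₁ _ => ?_
  by_cases hg₁ : psi q g₁ = 0
  · exact cproj_smul_of_mem 𝒜 q 𝒳 hg₁ (proj_mem 𝒜 g₁ s) x
  · rw [hs g₁ hg₁, zero_smul, zero_smul, map_zero]

end Smul

include hdeg in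
theorem mem_range_phi {r : R} (hr : r ∈ coarse (psi q) 𝒜 0) : ∃ x : R', φ x = r := by
  classical
  have hmem : r ∈ (φ : R' →+ R).range := by
    rw [← sum_proj 𝒜 r]
    refine sum_mem fun g' _ => ?_
    by_cases hg' : psi q g' = 0
    · obtain ⟨j, rfl⟩ := exists_of_psi_eq_zero q hg'
      have h1 : proj 𝒜 (j * q) r ∈ 𝒜 (j * q) := proj_mem 𝒜 _ _
      rw [← hdeg j] at h1
      obtain ⟨x, -, hx⟩ := h1
      exact ⟨x, hx⟩
    · rw [hr g' hg']
      exact zero_mem _
  obtain ⟨x, hx⟩ := hmem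
  exact ⟨x, hx⟩

include hφ hdeg in
theorem comap_map_eq (I' : Ideal R') : (Ideal.map φ I').comap φ = I' := by
  apply le_antisymm
  · intro x hx
    rw [Ideal.mem_comap] at hx
    have key : ∀ y ∈ Ideal.map φ I', ∀ r : R, ∃ a ∈ I', φ a = cproj (psi q) 𝒜 0 (r * y) := by
      intro y hy
      refine Submodule.span_induction (p := fun y _ => ∀ r : R, ∃ a ∈ I',
        φ a = cproj (psi q) 𝒜 0 (r * y)) ?_ ?_ ?_ ?_ hy
      · rintro _ ⟨a₀, ha₀, rfl⟩ r
        obtain ⟨b, hb⟩ := mem_range_phi 𝒜 q 𝒜' φ hdeg (cproj_mem (psi q) 𝒜 0 r)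
        refine ⟨a₀ * b, I'.mul_mem_right b ha₀, ?_⟩
        rw [map_mul, hb, mul_comm r, ← smul_eq_mul (φ a₀) r,
          cproj_smul_of_mem_coarse 𝒜 q 𝒜 (phi_mem_coarse 𝒜 q 𝒜' φ hdeg a₀) r, smul_eq_mul]
      · intro r
        exact ⟨0, I'.zero_mem, by rw [mul_zero, map_zero, map_zero]⟩
      · intro y z _ _ hy hz r
        obtain ⟨a, ha, e1⟩ := hy r
        obtain ⟨b, hb, e2⟩ := hz r
        exact ⟨a + b, I'.add_mem ha hb, by rw [map_add, e1, e2, mul_add, map_add]⟩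
      · intro s y _ hy r
        obtain ⟨a, ha, e1⟩ := hy (r * s)
        exact ⟨a, ha, by rw [e1, smul_eq_mul, mul_assoc]⟩
    obtain ⟨a, ha, e⟩ := key (φ x) hx 1
    rw [one_mul, cproj_eq_self (psi q) 𝒜 (phi_mem_coarse 𝒜 q 𝒜' φ hdeg x)] at e
    rw [← hφ e]
    exact ha
  · exact Ideal.le_comap_map

include hφ hdeg in
/-- the Veronese subring of a Noetherian graded ring is Noetherian -/
theorem isNoetherianRing_ver [IsNoetherianRing R] : IsNoetherianRing R' := by
  have h1 : WellFoundedGT (Ideal R) := isNoetherian_iff'.1 inferInstance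
  let f : Ideal R' ↪o Ideal R := OrderEmbedding.ofMapLEIff (Ideal.map φ) (by
    intro a b
    constructor
    · intro h
      rw [← comap_map_eq 𝒜 q 𝒜' φ hφ hdeg a, ← comap_map_eq 𝒜 q 𝒜' φ hφ hdeg b]
      exact Ideal.comap_mono h
    · exact Ideal.map_mono)
  have h2 : WellFoundedGT (Ideal R') := f.wellFoundedGT
  exact isNoetherian_iff'.2 h2

variable [IsNoetherianRing R] [IsNoetherianRing R']
  (m : HomogeneousIdeal 𝒜)
  (hmsp : m.toIdeal = Ideal.span (⋃ n ∈ Set.Ioi (0 : ℤ), (𝒜 n : Set R)))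
  (m' : HomogeneousIdeal 𝒜')
  (hm'sp : m'.toIdeal = Ideal.span (⋃ j ∈ Set.Ioi (0 : ℤ), (𝒜' j : Set R')))

include hq hdeg hmsp hm'sp in
theorem radical_eq : (Ideal.map φ m'.toIdeal).radical = m.toIdeal.radical := by
  apply le_antisymm
  · exact Ideal.radical_mono (map_le 𝒜 q hq 𝒜' φ hdeg m hmsp m' hm'sp)
  · have := Ideal.radical_mono (le_radical 𝒜 q 𝒜' φ hdeg m hmsp m' hm'sp)
    rwa [Ideal.radical_idem] at this

include hmsp hm'sp in
/-- the Veronese module of a *injective module is acyclic over the Veronese subring -/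
theorem ver_isAcyc (X : GrLC.GMod.{u} 𝒜) (hX : GrLC.IsStarInj 𝒜 X.gr) :
    IsAcyc m' (ver 𝒜 q hq 𝒜' φ hdeg X) := by
  intro EX j hj
  obtain ⟨e⟩ := bridge_starInjRes EX m' j
  suffices h : Subsingleton (LocCoh.H m'.toIdeal j (ver 𝒜 q hq 𝒜' φ hdeg X).carrier) from
    e.toEquiv.subsingleton
  letI : Algebra R' R := φ.toAlgebra
  letI : Module R' X.carrier := Module.compHom X.carrier φ
  haveI : IsScalarTower R' R X.carrier := ⟨fun a b x => by
    change (φ a * b) • x = φ a • (b • x)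
    rw [mul_smul]⟩
  -- the big module has vanishing local cohomology
  have h0 : Subsingleton (LocCoh.H m.toIdeal j X.carrier) :=
    localCohomology_subsingleton 𝒜 X.gr hX m j hj
  have h1 : Subsingleton (LocCoh.H (Ideal.map φ m'.toIdeal) j X.carrier) := by
    have iso := (localCohomology.isoOfSameRadical
      (radical_eq 𝒜 q hq 𝒜' φ hdeg m hmsp m' hm'sp) j).app (ModuleCat.of R X.carrier)
    exact iso.toLinearEquiv.toEquiv.subsingleton
  have h2 : Subsingleton (LocCoh.H m'.toIdeal j X.carrier) := by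
    obtain ⟨ψ, -⟩ := Groth.Agent.Lib.Helper2.LCBaseRes.H_res_equiv' (R := R') (R' := R)
      m'.toIdeal X.carrier j
    exact ψ.symm.toEquiv.subsingleton
  -- retraction
  let ι : (ver 𝒜 q hq 𝒜' φ hdeg X).carrier →ₗ[R'] X.carrier :=
    { toFun := fun x => x.1
      map_add' := fun x y => rfl
      map_smul' := fun r x => rfl }
  let π : X.carrier →ₗ[R'] (ver 𝒜 q hq 𝒜' φ hdeg X).carrier :=
    { toFun := fun x => ⟨cproj (psi q) X.gr 0 x, cproj_mem (psi q) X.gr 0 x⟩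
      map_add' := fun x y => Subtype.ext (map_add _ _ _)
      map_smul' := fun r x => Subtype.ext (by
        change cproj (psi q) X.gr 0 (φ r • x) = φ r • cproj (psi q) X.gr 0 x
        exact cproj_smul_of_mem_coarse 𝒜 q X.gr (phi_mem_coarse 𝒜 q 𝒜' φ hdeg r) x) }
  have hπι : π ∘ₗ ι = LinearMap.id := by
    apply LinearMap.ext
    intro x
    apply Subtype.ext
    exact cproj_eq_self (psi q) X.gr x.2
  let F := localCohomology m'.toIdeal j
  have hF : F.map (ModuleCat.ofHom ι) ≫ F.map (ModuleCat.ofHom π) = 𝟙 _ := by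
    rw [← F.map_comp, ← ModuleCat.ofHom_comp, hπι]
    exact F.map_id _
  refine ⟨fun x y => ?_⟩
  have hx : (F.map (ModuleCat.ofHom ι) ≫ F.map (ModuleCat.ofHom π)).hom x = x := by
    rw [hF]; rfl
  have hy : (F.map (ModuleCat.ofHom ι) ≫ F.map (ModuleCat.ofHom π)).hom y = y := by
    rw [hF]; rfl
  rw [← hx, ← hy]
  change (F.map (ModuleCat.ofHom π)).hom ((F.map (ModuleCat.ofHom ι)).hom x) =
    (F.map (ModuleCat.ofHom π)).hom ((F.map (ModuleCat.ofHom ι)).hom y)
  congr 1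
  exact Subsingleton.elim _ _

end Groth.Agent.Lib.Helper20.GrVer
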