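import Mathlib
import Groth.Prelude.Def_GrLC
import Groth.Agent.Lib.Helper26.GrProj
import Groth.Agent.Lib.Helper20.GrVer4

/-!
# Graded local cohomology commutes with the Veronese functor
-/

set_option autoImplicit false
set_option linter.unusedSectionVars false
set_option linter.unusedVariables false
set_option linter.style.haveILetI false

namespace Groth.Agent.Lib.Helper20.GrVer

open DirectSum Groth.Agent.Lib.Helper26.GrProj Groth.Agent.Lib.Helper20.GrKit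
  Groth.Agent.Lib.Helper20.GrCoarse Groth.Agent.Lib.Helper20.GrAcyc

universe u

/-- `H^p_{m'}(M^(q))_j` and `H^p_m(M)_{jq}` have the same dimension. -/
theorem s18671 (R : Type u) [CommRing R] [IsNoetherianRing R] (𝒜 : ℤ → AddSubgroup R)
    [GradedRing 𝒜] (m : HomogeneousIdeal 𝒜)
    (hmsp : m.toIdeal = Ideal.span (⋃ n ∈ Set.Ioi (0 : ℤ), (𝒜 n : Set R)))
    (M : Type u) [AddCommGroup M] [Module R M] (ℳ : ℤ → AddSubgroup M)
    [DirectSum.Decomposition ℳ] [SetLike.GradedSMul 𝒜 ℳ] (E : GrLC.StarInjRes 𝒜 ℳ) (q : ℕ)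
    (hq : 0 < q) (R' : Type u) [CommRing R'] (𝒜' : ℤ → AddSubgroup R') [GradedRing 𝒜']
    (φ : R' →+* R) (hφ : Function.Injective φ)
    (hdeg : ∀ j : ℤ, (𝒜' j).map (φ : R' →+ R) = 𝒜 (j * q)) (m' : HomogeneousIdeal 𝒜')
    (hm'sp : m'.toIdeal = Ideal.span (⋃ j ∈ Set.Ioi (0 : ℤ), (𝒜' j : Set R')))
    (M' : Type u) [AddCommGroup M'] [Module R' M'] (ℳ' : ℤ → AddSubgroup M')
    [DirectSum.Decomposition ℳ'] [SetLike.GradedSMul 𝒜' ℳ'] (g : M' →ₛₗ[φ] M)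
    (hg : Function.Injective g) (hgdeg : ∀ j : ℤ, (ℳ' j).map (g : M' →+ M) = ℳ (j * q))
    (F : GrLC.StarInjRes 𝒜' ℳ') (p : ℕ) (j : ℤ) :
    Module.finrank (GrLC.deg0 𝒜') (F.Hcomp m' p j) =
      Module.finrank (GrLC.deg0 𝒜) (E.Hcomp m p (j * q)) := by
  classical
  haveI : IsNoetherianRing R' := isNoetherianRing_ver 𝒜 q 𝒜' φ hφ hdeg
  set A := verRes 𝒜 q hq 𝒜' φ hdeg ℳ ℳ' g hg hgdeg E with hA
  have hacyc : ∀ n, IsAcyc m' (A.X n) := fun n =>
    ver_isAcyc 𝒜 q hq 𝒜' φ hdeg m hmsp m' hm'sp (E.X n) (E.starInj n)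
  obtain ⟨ψB, hB, hB'⟩ := acyclic_computes m' p M' ℳ' A hacyc F
  set Θ := theta 𝒜 q hq 𝒜' φ hdeg m hmsp m' hm'sp ℳ ℳ' g hg hgdeg E p with hΘ
  have hΘinj : Function.Injective Θ :=
    theta_injective 𝒜 q hq 𝒜' φ hdeg m hmsp m' hm'sp ℳ ℳ' g hg hgdeg E p
  -- the additive map on pieces
  have hmem : ∀ x : F.Hcomp m' p j, Θ (ψB.symm x.1) ∈ E.Hcomp m p (j * q) := by
    intro x
    have h1 : ψB.symm x.1 ∈ A.Hgr m' p j := hB' j x.1 x.2
    exact theta_mem_Hgr 𝒜 q hq 𝒜' φ hdeg m hmsp m' hm'sp ℳ ℳ' g hg hgdeg E p j _ h1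
  let f₀ : F.Hcomp m' p j →+ E.Hcomp m p (j * q) :=
    { toFun := fun x => ⟨Θ (ψB.symm x.1), hmem x⟩
      map_zero' := Subtype.ext (by
        change Θ (ψB.symm (0 : F.H m' p)) = 0
        rw [map_zero, map_zero])
      map_add' := fun x y => Subtype.ext (by
        change Θ (ψB.symm (x.1 + y.1)) = Θ (ψB.symm x.1) + Θ (ψB.symm y.1)
        rw [map_add, map_add]) }
  have hf₀inj : Function.Injective f₀ := by
    intro x y hxy
    have h1 : Θ (ψB.symm x.1) = Θ (ψB.symm y.1) := congrArg Subtype.val hxy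
    exact Subtype.ext (ψB.symm.injective (hΘinj h1))
  have hf₀surj : Function.Surjective f₀ := by
    rintro ⟨y, hy⟩
    obtain ⟨x, hx, hxy⟩ :=
      exists_theta_eq 𝒜 q hq 𝒜' φ hdeg m hmsp m' hm'sp ℳ ℳ' g hg hgdeg E p j y hy
    refine ⟨⟨ψB x, hB j x hx⟩, Subtype.ext ?_⟩
    change Θ (ψB.symm (ψB x)) = y
    rw [LinearEquiv.symm_apply_apply]
    exact hxy
  let f : F.Hcomp m' p j ≃+ E.Hcomp m p (j * q) := AddEquiv.ofBijective f₀ ⟨hf₀inj, hf₀surj⟩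
  -- the identification of the degree zero parts
  have hi0 : ∀ c : GrLC.deg0 𝒜', φ c.1 ∈ GrLC.deg0 𝒜 := by
    intro c
    have h1 : (c.1 : R') ∈ 𝒜' 0 := c.2
    have h2 := phi_mem 𝒜 q 𝒜' φ hdeg h1
    rw [zero_mul] at h2
    exact h2
  let i : GrLC.deg0 𝒜' → GrLC.deg0 𝒜 := fun c => ⟨φ c.1, hi0 c⟩
  have hi : Function.Bijective i := by
    constructor
    · intro c c' h
      have h1 : φ c.1 = φ c'.1 := congrArg Subtype.val h
      exact Subtype.ext (hφ h1)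
    · rintro ⟨r, hr⟩
      have hr' : r ∈ 𝒜 (0 * q) := by
        rw [zero_mul]
        exact hr
      rw [← hdeg 0] at hr'
      obtain ⟨x, hx, hxr⟩ := hr'
      exact ⟨⟨x, hx⟩, Subtype.ext hxr⟩
  have hc : ∀ (c : GrLC.deg0 𝒜') (x : F.Hcomp m' p j), f (c • x) = i c • f x := by
    intro c x
    apply Subtype.ext
    change Θ (ψB.symm ((c.1 : R') • x.1)) = φ c.1 • Θ (ψB.symm x.1)
    rw [map_smul, map_smulₛₗ]
  have := rank_eq_of_equiv_equiv i f hi hc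
  unfold Module.finrank
  rw [this]

end Groth.Agent.Lib.Helper20.GrVer
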