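import Mathlib
import Groth.Agent.Lib.Helper20.GrVG2
import Groth.Agent.Lib.Helper20.GrVer5

/-!
# The Veronese of the *injective hull of the residue field is the *injective hull over the
Veronese subring
-/

set_option autoImplicit false
set_option linter.unusedSectionVars false
set_option linter.unusedVariables false
set_option linter.style.haveILetI false

namespace Groth.Agent.Lib.Helper20.GrVG

open DirectSum Groth.Agent.Lib.Helper26.GrProj Groth.Agent.Lib.Helper20.GrKit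
  Groth.Agent.Lib.Helper20.GrCanW Groth.Agent.Lib.Helper20.GrVer
  Groth.Agent.Lib.Helper20.GrCoarse

universe u

section Ring

variable {R : Type u} [CommRing R] (𝒜 : ℤ → AddSubgroup R) [GradedRing 𝒜]
  (hpos : ∀ n : ℤ, n < 0 → 𝒜 n = ⊥) (h0 : IsField (GrLC.deg0 𝒜))
  (q : ℕ) (hq : 0 < q)
  {R' : Type u} [CommRing R'] (𝒜' : ℤ → AddSubgroup R') [GradedRing 𝒜'] (φ : R' →+* R)
  (hφ : Function.Injective φ)
  (hdeg : ∀ j : ℤ, (𝒜' j).map (φ : R' →+ R) = 𝒜 (j * q))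

include hdeg in
theorem exists_phi_eq {j : ℤ} {r : R} (hr : r ∈ 𝒜 (j * q)) : ∃ r' ∈ 𝒜' j, φ r' = r := by
  rw [← hdeg j] at hr
  obtain ⟨x, hx, hxr⟩ := hr
  exact ⟨x, hx, hxr⟩

include hpos hq hφ hdeg in
theorem hpos_ver : ∀ j : ℤ, j < 0 → 𝒜' j = ⊥ := by
  intro j hj
  rw [eq_bot_iff]
  intro x hx
  rw [AddSubgroup.mem_bot]
  apply hφ
  rw [map_zero]
  have h1 := phi_mem 𝒜 q 𝒜' φ hdeg hx
  have hq' : (0 : ℤ) < q := by exact_mod_cast hq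
  rw [hpos (j * q) (mul_neg_of_neg_of_pos hj hq'), AddSubgroup.mem_bot] at h1
  exact h1

include h0 hφ hdeg in
theorem isField_deg0_ver : IsField (GrLC.deg0 𝒜') := by
  haveI := h0.nontrivial
  have h01 : (0 : R) ≠ 1 := by
    intro h
    have : (0 : GrLC.deg0 𝒜) = 1 := Subtype.ext h
    exact zero_ne_one this
  refine ⟨⟨0, 1, ?_⟩, mul_comm, ?_⟩
  · intro h
    have h1 : (0 : R') = 1 := congrArg Subtype.val h
    apply h01
    rw [← map_zero φ, ← map_one φ, h1]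
  · intro a ha
    have ha0 : (a : R') ∈ 𝒜' 0 := a.2
    have h1 := phi_mem 𝒜 q 𝒜' φ hdeg ha0
    rw [zero_mul] at h1
    have hne : (⟨φ a.1, h1⟩ : GrLC.deg0 𝒜) ≠ 0 := by
      intro h
      apply ha
      apply Subtype.ext
      apply hφ
      have h2 : φ a.1 = 0 := congrArg Subtype.val h
      rw [h2]
      exact (map_zero φ).symm
    obtain ⟨b, hb⟩ := h0.mul_inv_cancel hne
    have hb' : φ a.1 * (b : R) = 1 := congrArg Subtype.val hb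
    have hb0 : (b : R) ∈ 𝒜 (0 * q) := by
      rw [zero_mul]
      exact b.2
    obtain ⟨b', hb'0, hb'φ⟩ := exists_phi_eq 𝒜 q 𝒜' φ hdeg hb0
    refine ⟨⟨b', hb'0⟩, Subtype.ext ?_⟩
    apply hφ
    change φ (a.1 * b') = φ 1
    rw [map_mul, hb'φ, hb', map_one]

/-- the projection onto a piece as an additive map -/
noncomputable def projHom (i : ℤ) : R →+ 𝒜 i where
  toFun r := ⟨proj 𝒜 i r, proj_mem 𝒜 i r⟩
  map_zero' := Subtype.ext (proj_zero 𝒜 i)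
  map_add' x y := Subtype.ext (proj_add 𝒜 i x y)

/-- `φ` on a piece -/
noncomputable def pieceMap (j : ℤ) : 𝒜' j →+ 𝒜 (j * q) where
  toFun x := ⟨φ x.1, phi_mem 𝒜 q 𝒜' φ hdeg x.2⟩
  map_zero' := Subtype.ext (map_zero φ)
  map_add' x y := Subtype.ext (map_add φ _ _)

include hφ in
theorem pieceMap_bijective (j : ℤ) : Function.Bijective (pieceMap 𝒜 q 𝒜' φ hdeg j) := by
  constructor
  · intro x y h
    have h1 : φ x.1 = φ y.1 := congrArg Subtype.val h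
    exact Subtype.ext (hφ h1)
  · rintro ⟨r, hr⟩
    obtain ⟨r', hr', hφr⟩ := exists_phi_eq 𝒜 q 𝒜' φ hdeg hr
    exact ⟨⟨r', hr'⟩, Subtype.ext hφr⟩

/-- a section of `φ` on the piece of degree `j q` -/
noncomputable def sec (j : ℤ) : R →+ R' :=
  (𝒜' j).subtype.comp
    ((AddEquiv.ofBijective (pieceMap 𝒜 q 𝒜' φ hdeg j)
      (pieceMap_bijective 𝒜 q 𝒜' φ hφ hdeg j)).symm.toAddMonoidHom.comp (projHom 𝒜 (j * q)))

theorem sec_mem (j : ℤ) (r : R) : sec 𝒜 q 𝒜' φ hφ hdeg j r ∈ 𝒜' j :=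
  Subtype.property _

theorem phi_sec (j : ℤ) (r : R) : φ (sec 𝒜 q 𝒜' φ hφ hdeg j r) = proj 𝒜 (j * q) r := by
  have := (AddEquiv.ofBijective (pieceMap 𝒜 q 𝒜' φ hdeg j)
    (pieceMap_bijective 𝒜 q 𝒜' φ hφ hdeg j)).apply_symm_apply (projHom 𝒜 (j * q) r)
  exact congrArg Subtype.val this

theorem sec_phi {j : ℤ} {r' : R'} (hr' : r' ∈ 𝒜' j) : sec 𝒜 q 𝒜' φ hφ hdeg j (φ r') = r' := by
  apply hφ
  rw [phi_sec, proj_of_mem_same 𝒜 (phi_mem 𝒜 q 𝒜' φ hdeg hr')]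

end Ring

section Hull

variable {R : Type u} [CommRing R] [IsNoetherianRing R] (𝒜 : ℤ → AddSubgroup R) [GradedRing 𝒜]
  (hpos : ∀ n : ℤ, n < 0 → 𝒜 n = ⊥) (h0 : IsField (GrLC.deg0 𝒜))
  (m : HomogeneousIdeal 𝒜) (hm : GrLC.IsStarLocal 𝒜 m)
  (hmsp : m.toIdeal = Ideal.span (⋃ n ∈ Set.Ioi (0 : ℤ), (𝒜 n : Set R)))
  (q : ℕ) (hq : 0 < q)
  {R' : Type u} [CommRing R'] (𝒜' : ℤ → AddSubgroup R') [GradedRing 𝒜'] (φ : R' →+* R)
  (hφ : Function.Injective φ)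
  (hdeg : ∀ j : ℤ, (𝒜' j).map (φ : R' →+ R) = 𝒜 (j * q))
  (m' : HomogeneousIdeal 𝒜') (hm' : GrLC.IsStarLocal 𝒜' m')
  (hm'sp : m'.toIdeal = Ideal.span (⋃ j ∈ Set.Ioi (0 : ℤ), (𝒜' j : Set R')))
  (X : GrLC.GMod.{u} 𝒜) (e : (R ⧸ m.toIdeal) →ₗ[R] X.carrier)
  (he : GrLC.IsStarInjHull 𝒜 (GrLC.quotGr 𝒜 m) X.gr e)

include hpos hm he hφ in
theorem ver_sep (n : ℤ) (d : (ver 𝒜 q hq 𝒜' φ hdeg X).carrier)
    (hd : d ∈ (ver 𝒜 q hq 𝒜' φ hdeg X).gr n)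
    (h : ∀ r ∈ 𝒜' (-n), r • d = 0) : d = 0 := by
  apply Subtype.ext
  have hd' : (d.1 : X.carrier) ∈ X.gr (n * q) := hd
  apply sep 𝒜 hpos m hm X.gr e he hd'
  intro r hr
  have hr' : r ∈ 𝒜 (-n * q) := by
    rw [neg_mul]
    exact hr
  obtain ⟨r', hr'm, rfl⟩ := exists_phi_eq 𝒜 q 𝒜' φ hdeg hr'
  have := h r' hr'm
  exact congrArg Subtype.val this

include hpos hm he hφ in
theorem ver_ex (n : ℤ) (g : R' →+ (ver 𝒜 q hq 𝒜' φ hdeg X).carrier)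
    (hg0 : ∀ r, g r ∈ (ver 𝒜 q hq 𝒜' φ hdeg X).gr 0)
    (hgs : ∀ s ∈ 𝒜' 0, ∀ r ∈ 𝒜' (-n), g (s * r) = s • g r) :
    ∃ d ∈ (ver 𝒜 q hq 𝒜' φ hdeg X).gr n, ∀ r ∈ 𝒜' (-n), r • d = g r := by
  let gt : R →+ X.carrier :=
    (coarse (psi q) X.gr 0).subtype.comp (g.comp (sec 𝒜 q 𝒜' φ hφ hdeg (-n)))
  have hgt : ∀ r, gt r = ((g (sec 𝒜 q 𝒜' φ hφ hdeg (-n) r)).1 : X.carrier) := fun _ => rfl
  have hgt0 : ∀ r, gt r ∈ X.gr 0 := by
    intro r
    have h1 : ((g (sec 𝒜 q 𝒜' φ hφ hdeg (-n) r)).1 : X.carrier) ∈ X.gr (0 * q) := hg0 _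
    rw [zero_mul] at h1
    exact h1
  have hgts : ∀ s ∈ 𝒜 0, ∀ r ∈ 𝒜 (-(n * q)), gt (s * r) = s • gt r := by
    intro s hs r hr
    have hs' : s ∈ 𝒜 (0 * q) := by
      rw [zero_mul]
      exact hs
    have hr' : r ∈ 𝒜 (-n * q) := by
      rw [neg_mul]
      exact hr
    obtain ⟨s', hs'm, rfl⟩ := exists_phi_eq 𝒜 q 𝒜' φ hdeg hs'
    obtain ⟨r', hr'm, rfl⟩ := exists_phi_eq 𝒜 q 𝒜' φ hdeg hr'
    have hsr : s' * r' ∈ 𝒜' (-n) := by
      have := SetLike.GradedMul.mul_mem (A := 𝒜') hs'm hr'm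
      rwa [zero_add] at this
    rw [hgt, hgt, ← map_mul, sec_phi 𝒜 q 𝒜' φ hφ hdeg hsr, sec_phi 𝒜 q 𝒜' φ hφ hdeg hr'm,
      hgs s' hs'm r' hr'm]
    rfl
  obtain ⟨x, hx, hxr⟩ := ex 𝒜 hpos m hm X.gr e he (n * q) gt hgt0 hgts
  refine ⟨⟨x, mem_ver_of_mem X.gr q hx⟩, hx, ?_⟩
  intro r' hr'
  apply Subtype.ext
  have h1 : φ r' ∈ 𝒜 (-(n * q)) := by
    have := phi_mem 𝒜 q 𝒜' φ hdeg hr'
    rwa [neg_mul] at this
  have h2 := hxr _ h1
  rw [hgt, sec_phi 𝒜 q 𝒜' φ hφ hdeg hr'] at h2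
  exact h2

include hpos h0 hm he hφ in
theorem ver_isStarInj : GrLC.IsStarInj 𝒜' (ver 𝒜 q hq 𝒜' φ hdeg X).gr :=
  isStarInj_of_sep_ex 𝒜' (isField_deg0_ver 𝒜 h0 q 𝒜' φ hφ hdeg) (ver 𝒜 q hq 𝒜' φ hdeg X).gr
    (ver_sep 𝒜 hpos m hm q hq 𝒜' φ hφ hdeg X e he)
    (ver_ex 𝒜 hpos m hm q hq 𝒜' φ hφ hdeg X e he)

include hpos h0 hm hmsp he hφ hm' hm'sp in
theorem exists_hull_ver : ∃ e' : (R' ⧸ m'.toIdeal) →ₗ[R'] (ver 𝒜 q hq 𝒜' φ hdeg X).carrier,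
    GrLC.IsStarInjHull 𝒜' (GrLC.quotGr 𝒜' m') (ver 𝒜 q hq 𝒜' φ hdeg X).gr e' := by
  classical
  haveI : IsNoetherianRing R' := isNoetherianRing_ver 𝒜 q 𝒜' φ hφ hdeg
  have hpos' := hpos_ver 𝒜 hpos q hq 𝒜' φ hφ hdeg
  haveI hmax' : m'.toIdeal.IsMaximal := GrStarLoc.isMaximal 𝒜' hpos' m' hm'
  have hmne : m.toIdeal ≠ ⊤ := by
    intro h
    apply hm.1.1
    apply HomogeneousIdeal.toIdeal_injective
    rw [h, HomogeneousIdeal.toIdeal_top]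
  set V := ver 𝒜 q hq 𝒜' φ hdeg X with hV
  have hu0' : e (Ideal.Quotient.mk m.toIdeal 1) ∈ X.gr (0 * q) := by
    rw [zero_mul]
    exact E_mk_mem 𝒜 hpos m hm X.gr e he 1
  let u : V.carrier := ⟨e (Ideal.Quotient.mk m.toIdeal 1), mem_ver_of_mem X.gr q hu0'⟩
  have hu0 : u ∈ V.gr 0 := hu0'
  have hsmulu : ∀ r' : R', ((r' • u : V.carrier).1 : X.carrier) =
      e (Ideal.Quotient.mk m.toIdeal (φ r')) := by
    intro r'
    change φ r' • e (Ideal.Quotient.mk m.toIdeal 1) = _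
    rw [← map_smul]
    congr 1
    rw [map_one, Algebra.smul_def, mul_one]
    rfl
  have hcomap : ∀ r' : R', φ r' ∈ m.toIdeal → r' ∈ m'.toIdeal := by
    intro r' hr'
    have hle : m'.toIdeal ≤ m.toIdeal.comap φ := by
      rw [← Ideal.map_le_iff_le_comap]
      exact map_le 𝒜 q hq 𝒜' φ hdeg m hmsp m' hm'sp
    have hne : m.toIdeal.comap φ ≠ ⊤ := by
      intro h
      apply hmne
      rw [Ideal.eq_top_iff_one]
      have : (1 : R') ∈ m.toIdeal.comap φ := by rw [h]; trivial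
      rw [Ideal.mem_comap, map_one] at this
      exact this
    rw [hmax'.eq_of_le hne hle]
    exact hr'
  have hker : m'.toIdeal ≤ LinearMap.ker (LinearMap.toSpanSingleton R' V.carrier u) := by
    intro a ha
    rw [LinearMap.mem_ker, LinearMap.toSpanSingleton_apply]
    apply Subtype.ext
    rw [hsmulu]
    have h1 : φ a ∈ m.toIdeal :=
      map_le 𝒜 q hq 𝒜' φ hdeg m hmsp m' hm'sp (Ideal.mem_map_of_mem φ ha)
    rw [Ideal.Quotient.eq_zero_iff_mem.2 h1, map_zero]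
    rfl
  let e' : (R' ⧸ m'.toIdeal) →ₗ[R'] V.carrier :=
    Submodule.liftQ m'.toIdeal (LinearMap.toSpanSingleton R' V.carrier u) hker
  have he' : ∀ r' : R', e' (Ideal.Quotient.mk m'.toIdeal r') = r' • u := fun r' => rfl
  refine ⟨e', ⟨⟨?_, ?_, ?_⟩, ?_⟩⟩
  · -- injective
    rw [← LinearMap.ker_eq_bot, eq_bot_iff]
    intro y hy
    obtain ⟨r', rfl⟩ := Ideal.Quotient.mk_surjective y
    rw [LinearMap.mem_ker, he'] at hy
    rw [Submodule.mem_bot, Ideal.Quotient.eq_zero_iff_mem]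
    apply hcomap
    have h1 : e (Ideal.Quotient.mk m.toIdeal (φ r')) = 0 := by
      rw [← hsmulu, hy]
      rfl
    have h2 := he.injective (h1.trans (map_zero e).symm)
    exact Ideal.Quotient.eq_zero_iff_mem.1 h2
  · -- graded
    intro j y hy
    obtain ⟨r', hr', rfl⟩ := hy
    change e' (Ideal.Quotient.mk m'.toIdeal r') ∈ V.gr j
    rw [he']
    have := SetLike.GradedSMul.smul_mem (A := 𝒜') (B := V.gr) hr' hu0
    rwa [vadd_eq_add, add_zero] at this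
  · -- essential
    intro P hP hPne
    obtain ⟨y, hyP, hy0⟩ := Submodule.exists_mem_ne_zero_of_ne_bot hPne
    have hex : ∃ j, proj V.gr j y ≠ 0 := by
      by_contra hcon
      push Not at hcon
      apply hy0
      rw [← sum_proj V.gr y]
      exact Finset.sum_eq_zero fun j _ => hcon j
    obtain ⟨j, hj⟩ := hex
    set w := proj V.gr j y with hw
    have hwP : w ∈ P := hP j hyP
    have hwj : w ∈ V.gr j := proj_mem V.gr j y
    have hwj' : (w.1 : X.carrier) ∈ X.gr (j * q) := hwj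
    have hex2 : ∃ r ∈ 𝒜 (-(j * q)), r • (w.1 : X.carrier) ≠ 0 := by
      by_contra hcon
      push Not at hcon
      apply hj
      apply Subtype.ext
      exact sep 𝒜 hpos m hm X.gr e he hwj' hcon
    obtain ⟨r, hr, hrw⟩ := hex2
    have hr' : r ∈ 𝒜 (-j * q) := by
      rw [neg_mul]
      exact hr
    obtain ⟨r', hr'm, rfl⟩ := exists_phi_eq 𝒜 q 𝒜' φ hdeg hr'
    set z := r' • w with hz
    have hzP : z ∈ P := P.smul_mem r' hwP
    have hz0 : z ≠ 0 := by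
      intro h
      apply hrw
      have := congrArg Subtype.val h
      exact this
    have hzgr : z ∈ V.gr 0 := by
      have := SetLike.GradedSMul.smul_mem (A := 𝒜') (B := V.gr) hr'm hwj
      rwa [vadd_eq_add, neg_add_cancel] at this
    have hzgr' : (z.1 : X.carrier) ∈ X.gr 0 := by
      have h1 : (z.1 : X.carrier) ∈ X.gr (0 * q) := hzgr
      rwa [zero_mul] at h1
    obtain ⟨t, ht, hzt⟩ := exists_eq_of_mem_zero 𝒜 hpos m hm X.gr e he h0 hzgr'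
    have ht' : t ∈ 𝒜 (0 * q) := by
      rw [zero_mul]
      exact ht
    obtain ⟨t', ht'm, rfl⟩ := exists_phi_eq 𝒜 q 𝒜' φ hdeg ht'
    have hze : z = e' (Ideal.Quotient.mk m'.toIdeal t') := by
      rw [he']
      apply Subtype.ext
      rw [hsmulu]
      exact hzt
    intro hbot
    have : z ∈ P ⊓ LinearMap.range e' := ⟨hzP, ⟨_, hze.symm⟩⟩
    rw [hbot, Submodule.mem_bot] at this
    exact hz0 this
  · exact ver_isStarInj 𝒜 hpos h0 m hm q hq 𝒜' φ hφ hdeg X e he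

end Hull

end Groth.Agent.Lib.Helper20.GrVG
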