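import Mathlib
import Groth.Agent.Lib.Helper20.GrVG3
import Groth.Agent.Lib.Helper20.GrLES11
import Groth.Agent.Lib.Helper20.GrKit9

/-!
# The top local cohomology of the Veronese subring of a Gorenstein graded ring
-/

set_option autoImplicit false
set_option linter.unusedSectionVars false
set_option linter.unusedVariables false
set_option linter.style.haveILetI false

namespace Groth.Agent.Lib.Helper20.GrVG

open DirectSum Groth.Agent.Lib.Helper26.GrProj Groth.Agent.Lib.Helper20.GrKit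
  Groth.Agent.Lib.Helper20.GrCanW Groth.Agent.Lib.Helper20.GrVer
  Groth.Agent.Lib.Helper20.GrCoarse Groth.Agent.Lib.Helper20.GrAcyc
  Groth.Agent.Lib.Helper20.GrLES

universe u

section Symm

variable {R : Type u} [CommRing R]
  {M : Type u} [AddCommGroup M] [Module R M] (ℳ : ℤ → AddSubgroup M) [DirectSum.Decomposition ℳ]
  {N : Type u} [AddCommGroup N] [Module R N] (𝒩 : ℤ → AddSubgroup N) [DirectSum.Decomposition 𝒩]

theorem symm_mem (ψ : M ≃ₗ[R] N) (g₁ : ℤ) (hψ : GrLC.IsGrHomDeg ℳ 𝒩 ψ.toLinearMap g₁) {k : ℤ}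
    {y : N} (hy : y ∈ 𝒩 k) : ψ.symm y ∈ ℳ (k - g₁) := by
  have h1 : GrLC.IsGrHom ℳ (shiftGr 𝒩 (-g₁)) ψ.toLinearMap := by
    intro i x hx
    change ψ x ∈ 𝒩 (i - -g₁)
    rw [sub_neg_eq_add]
    exact hψ i x hx
  have h2 := isGrHom_symm ℳ (shiftGr 𝒩 (-g₁)) ψ h1
  apply h2 (k - g₁) y
  change y ∈ 𝒩 (k - g₁ - -g₁)
  rw [sub_neg_eq_add, sub_add_cancel]
  exact hy

end Symm

section SL

variable {R : Type u} [CommRing R] (𝒜 : ℤ → AddSubgroup R) (q : ℕ)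
  {R' : Type u} [CommRing R'] (𝒜' : ℤ → AddSubgroup R') (φ : R' →+* R)
  (hdeg : ∀ j : ℤ, (𝒜' j).map (φ : R' →+ R) = 𝒜 (j * q))

/-- the ring map as a semilinear map -/
def phiSL : R' →ₛₗ[φ] R where
  toFun := φ
  map_add' := map_add φ
  map_smul' r x := by simp [smul_eq_mul]

theorem phiSL_apply (x : R') : phiSL φ x = φ x := rfl

include hdeg in
theorem phiSL_deg (j : ℤ) : (𝒜' j).map ((phiSL φ : R' →ₛₗ[φ] R) : R' →+ R) = 𝒜 (j * q) := by
  rw [← hdeg j]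
  ext x
  constructor
  · rintro ⟨y, hy, rfl⟩
    exact ⟨y, hy, rfl⟩
  · rintro ⟨y, hy, rfl⟩
    exact ⟨y, hy, rfl⟩

end SL

section Main

variable {R : Type u} [CommRing R] [IsNoetherianRing R] (𝒜 : ℤ → AddSubgroup R) [GradedRing 𝒜]
  (hpos : ∀ n : ℤ, n < 0 → 𝒜 n = ⊥)
  (m : HomogeneousIdeal 𝒜) (hm : GrLC.IsStarLocal 𝒜 m)
  (hmsp : m.toIdeal = Ideal.span (⋃ n ∈ Set.Ioi (0 : ℤ), (𝒜 n : Set R)))
  (q : ℕ) (hq : 0 < q)
  {R' : Type u} [CommRing R'] (𝒜' : ℤ → AddSubgroup R') [GradedRing 𝒜'] (φ : R' →+* R)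
  (hφ : Function.Injective φ)
  (hdeg : ∀ j : ℤ, (𝒜' j).map (φ : R' →+ R) = 𝒜 (j * q))
  (m' : HomogeneousIdeal 𝒜')
  (hm'sp : m'.toIdeal = Ideal.span (⋃ j ∈ Set.Ioi (0 : ℤ), (𝒜' j : Set R')))
  (n : ℕ) (I : GrLC.StarInjRes 𝒜 𝒜)
  (X : GrLC.GMod.{u} 𝒜) (e : (R ⧸ m.toIdeal) →ₗ[R] X.carrier)
  (he : GrLC.IsStarInjHull 𝒜 (GrLC.quotGr 𝒜 m) X.gr e)
  (ψ : I.H m n ≃ₗ[R] X.carrier) (g₁ : ℤ)
  (hψ : GrLC.IsGrHomDeg (I.Hgr m n) X.gr ψ.toLinearMap g₁)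

include hpos hm he hψ in
/-- the shift is minus the a-invariant -/
theorem shift_pin (a : ℤ)
    (ha : GrLC.endDeg (I.Hgr m n) = ((a : WithTop ℤ) : WithBot (WithTop ℤ))) : g₁ = -a := by
  classical
  letI := (Hgr_isInternal I m n).chooseDecomposition
  have hmne : m.toIdeal ≠ ⊤ := by
    intro h
    apply hm.1.1
    apply HomogeneousIdeal.toIdeal_injective
    rw [h, HomogeneousIdeal.toIdeal_top]
  apply le_antisymm
  · by_contra hlt
    have hlt' : 0 < a + g₁ := by omega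
    obtain ⟨z, hz, hz0⟩ := exists_ne_zero_of_ne_bot _ (ne_bot_of_endDeg_eq (I.Hgr m n) a ha)
    apply hz0
    have h1 := hψ a z hz
    rw [E_pos_eq_bot 𝒜 hpos m hm X.gr e he (a + g₁) hlt', AddSubgroup.mem_bot] at h1
    exact ψ.injective (h1.trans (map_zero ψ).symm)
  · set u₀ := e (Ideal.Quotient.mk m.toIdeal 1) with hu₀
    have hu0 : u₀ ∈ X.gr 0 := E_mk_mem 𝒜 hpos m hm X.gr e he 1
    have hune : u₀ ≠ 0 := by
      intro h
      have h1 : Ideal.Quotient.mk m.toIdeal 1 = 0 := he.injective (by rw [map_zero]; exact h)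
      rw [Ideal.Quotient.eq_zero_iff_mem] at h1
      exact hmne ((Ideal.eq_top_iff_one _).2 h1)
    have hmem := symm_mem (I.Hgr m n) X.gr ψ g₁ hψ hu0
    have hne : ψ.symm u₀ ≠ 0 := by
      intro h
      apply hune
      have := congrArg ψ h
      rwa [LinearEquiv.apply_symm_apply, map_zero] at this
    have hnb : I.Hgr m n (0 - g₁) ≠ ⊥ := by
      intro hbot
      rw [hbot, AddSubgroup.mem_bot] at hmem
      exact hne hmem
    have := le_endDeg _ _ hnb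
    rw [ha, WithBot.coe_le_coe, WithTop.coe_le_coe] at this
    omega

include hmsp hm'sp hψ in
/-- the top local cohomology of the Veronese subring is the Veronese of the hull -/
theorem nonempty_equiv_ver (c : ℤ) (hg₁ : g₁ = -(q * c)) :
    Nonempty ((verRes 𝒜 q hq 𝒜' φ hdeg 𝒜 𝒜' (phiSL φ) hφ (phiSL_deg 𝒜 q 𝒜' φ hdeg) I).H m' n
      ≃ₗ[R'] (ver 𝒜 q hq 𝒜' φ hdeg X).carrier) := by
  classical
  set A := verRes 𝒜 q hq 𝒜' φ hdeg 𝒜 𝒜' (phiSL φ) hφ (phiSL_deg 𝒜 q 𝒜' φ hdeg) I with hA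
  set V := ver 𝒜 q hq 𝒜' φ hdeg X with hV
  letI := (Hgr_isInternal I m n).chooseDecomposition
  letI := (A.Hgr_isInternal m' n).chooseDecomposition
  set Θ := theta 𝒜 q hq 𝒜' φ hdeg m hmsp m' hm'sp 𝒜 𝒜' (phiSL φ) hφ
    (phiSL_deg 𝒜 q 𝒜' φ hdeg) I n with hΘ
  have hΘinj : Function.Injective Θ :=
    theta_injective 𝒜 q hq 𝒜' φ hdeg m hmsp m' hm'sp 𝒜 𝒜' (phiSL φ) hφ
      (phiSL_deg 𝒜 q 𝒜' φ hdeg) I n
  have key1 : ∀ x : A.H m' n, ψ (Θ x) ∈ coarse (psi q) X.gr 0 := by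
    intro x
    rw [← sum_proj (A.Hgr m' n) x, map_sum, map_sum]
    refine sum_mem fun j _ => ?_
    have h1 := theta_mem_Hgr 𝒜 q hq 𝒜' φ hdeg m hmsp m' hm'sp 𝒜 𝒜' (phiSL φ) hφ
      (phiSL_deg 𝒜 q 𝒜' φ hdeg) I n j _ (proj_mem (A.Hgr m' n) j x)
    have h2 := hψ (j * q) _ h1
    have h3 : j * (q : ℤ) + g₁ = (j - c) * q := by rw [hg₁]; ring
    rw [h3] at h2
    exact mem_ver_of_mem X.gr q h2
  let Φ₀ : A.H m' n →ₗ[R'] V.carrier :=
    { toFun := fun x => ⟨ψ (Θ x), key1 x⟩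
      map_add' := fun x y => Subtype.ext (by
        change ψ (Θ (x + y)) = ψ (Θ x) + ψ (Θ y)
        rw [map_add, map_add])
      map_smul' := fun r x => Subtype.ext (by
        change ψ (Θ (r • x)) = φ r • ψ (Θ x)
        rw [map_smulₛₗ, map_smul]) }
  have hΦ₀ : ∀ x, ((Φ₀ x).1 : X.carrier) = ψ (Θ x) := fun _ => rfl
  have hinj : Function.Injective Φ₀ := by
    intro x y hxy
    have h1 : ψ (Θ x) = ψ (Θ y) := congrArg Subtype.val hxy
    exact hΘinj (ψ.injective h1)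
  have hsurj : Function.Surjective Φ₀ := by
    intro y
    have hy : (y.1 : X.carrier) ∈ coarse (psi q) X.gr 0 := y.2
    have hex : ∀ g : ℤ, ∃ x : A.H m' n, ψ (Θ x) = proj X.gr g (y.1 : X.carrier) := by
      intro g
      by_cases hg : psi q g = 0
      · obtain ⟨j, rfl⟩ := exists_of_psi_eq_zero q hg
        have h1 := symm_mem (I.Hgr m n) X.gr ψ g₁ hψ (proj_mem X.gr (j * q) (y.1 : X.carrier))
        have h3 : j * (q : ℤ) - g₁ = (j + c) * q := by rw [hg₁]; ring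
        rw [h3] at h1
        obtain ⟨x, -, hx⟩ := exists_theta_eq 𝒜 q hq 𝒜' φ hdeg m hmsp m' hm'sp 𝒜 𝒜' (phiSL φ) hφ
          (phiSL_deg 𝒜 q 𝒜' φ hdeg) I n (j + c) _ h1
        refine ⟨x, ?_⟩
        change ψ (Θ x) = _
        rw [hx, LinearEquiv.apply_symm_apply]
      · exact ⟨0, by rw [map_zero, map_zero, hy g hg]⟩
    choose xs hxs using hex
    refine ⟨∑ g ∈ (DirectSum.decompose X.gr (y.1 : X.carrier)).support, xs g, Subtype.ext ?_⟩
    rw [hΦ₀, map_sum, map_sum]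
    conv_rhs => rw [← sum_proj X.gr (y.1 : X.carrier)]
    exact Finset.sum_congr rfl fun g _ => hxs g
  exact ⟨LinearEquiv.ofBijective Φ₀ ⟨hinj, hsurj⟩⟩

end Main

end Groth.Agent.Lib.Helper20.GrVG
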