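import Mathlib
import Groth.Agent.Lib.Helper20.GDual2
import Groth.Agent.Lib.Helper20.GrVG4

/-!
# Transport of graded duals along graded isomorphisms, and tensor products of perfect pairings
-/

set_option autoImplicit false
set_option linter.unusedSectionVars false
set_option linter.unusedVariables false
set_option linter.style.haveILetI false

universe u

open DirectSum TensorProduct

namespace Groth.Agent.Lib.Helper20.GDual

open Groth.Agent.Lib.Helper26.GrProj Groth.Agent.Lib.Helper20.GrKit Groth.Agent.Lib.Helper20.GrLES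

theorem endDeg_eq_of {M : Type u} [AddCommGroup M] (ℳ : ℤ → AddSubgroup M) (s : ℤ)
    (h1 : ℳ s ≠ ⊥) (h2 : ∀ n, s < n → ℳ n = ⊥) :
    GrLC.endDeg ℳ = ((s : WithTop ℤ) : WithBot (WithTop ℤ)) := by
  apply le_antisymm
  · rw [endDeg_le_iff]
    intro n hn
    rw [WithBot.coe_le_coe, WithTop.coe_le_coe]
    by_contra hlt
    exact hn (h2 n (by omega))
  · exact le_endDeg ℳ s h1

section Transport

variable {k : Type u} [Field k] {R : Type u} [CommRing R] [Algebra k R]
  {M : Type u} [AddCommGroup M] [Module R M] [Module k M] [IsScalarTower k R M]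
  {τ : Type u} [SetLike τ M] [AddSubgroupClass τ M] (ℳ : ℤ → τ) [DirectSum.Decomposition ℳ]
  {D : Type u} [AddCommGroup D] [Module R D] [Module k D] [IsScalarTower k R D]
  (𝒟 : ℤ → AddSubgroup D) [DirectSum.Decomposition 𝒟]
  (β : D →ₗ[k] M →ₗ[k] k) (hD : GrSeg.IsGDual R ℳ 𝒟 β)
  {H : Type u} [AddCommGroup H] [Module R H] [Module k H] [IsScalarTower k R H]
  (ℋ : ℤ → AddSubgroup H) [DirectSum.Decomposition ℋ]
  (φ : H ≃ₗ[R] D) (g : ℤ) (hφ : GrLC.IsGrHomDeg ℋ 𝒟 φ.toLinearMap g)

/-- the transported pairing -/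
noncomputable def transPair : H →ₗ[k] M →ₗ[k] k := β ∘ₗ (φ.toLinearMap.restrictScalars k)

theorem transPair_apply (h : H) (x : M) : transPair β φ h x = β (φ h) x := rfl

include hD hφ in
/-- **A graded module isomorphic (up to a shift) to a graded dual is a graded dual.** -/
theorem isGDual_transport : GrSeg.IsGDual R ℳ (shiftGr ℋ g) (transPair β φ) where
  map_smul r d x := by
    rw [transPair_apply, transPair_apply, map_smul, hD.map_smul]
  vanish n d hd m hm x hx := by
    rw [transPair_apply]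
    have h1 : φ d ∈ 𝒟 (n - g + g) := hφ (n - g) d hd
    rw [sub_add_cancel] at h1
    exact hD.vanish n _ h1 m hm x hx
  eq_zero n d hd h := by
    have h1 : φ d ∈ 𝒟 (n - g + g) := hφ (n - g) d hd
    rw [sub_add_cancel] at h1
    have h2 := hD.eq_zero n _ h1 (fun x hx => h x hx)
    exact φ.injective (h2.trans (map_zero φ).symm)
  exists_eq n f := by
    obtain ⟨d, hd, hdf⟩ := hD.exists_eq n f
    refine ⟨φ.symm d, Groth.Agent.Lib.Helper20.GrVG.symm_mem ℋ 𝒟 φ g hφ hd, ?_⟩
    intro x hx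
    rw [transPair_apply, LinearEquiv.apply_symm_apply]
    exact hdf x hx

end Transport

section Perfect

variable {k : Type u} [Field k] {HR HS R' S' : Type u}
  [AddCommGroup HR] [Module k HR] [AddCommGroup HS] [Module k HS]
  [AddCommGroup R'] [Module k R'] [AddCommGroup S'] [Module k S']
  (βR : HR →ₗ[k] R' →ₗ[k] k) (βS : HS →ₗ[k] S' →ₗ[k] k)
  (V : Submodule k HR) (W : Submodule k HS) (X : Submodule k R') (Y : Submodule k S')
  [Module.Finite k X] [Module.Finite k Y]

/-- the tensor product of two pairings -/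
noncomputable def tensorPair : HR ⊗[k] HS →ₗ[k] (R' ⊗[k] S') →ₗ[k] k :=
  (TensorProduct.dualDistrib k R' S') ∘ₗ (TensorProduct.map βR βS)

theorem tensorPair_tmul (a : HR) (b : HS) (x : R') (y : S') :
    tensorPair βR βS (a ⊗ₜ[k] b) (x ⊗ₜ[k] y) = βR a x * βS b y := by
  unfold tensorPair
  rw [LinearMap.comp_apply, TensorProduct.map_tmul, TensorProduct.dualDistrib_apply]

/-- the pairing restricted to subspaces -/
noncomputable def resPair {H' U' : Type u} [AddCommGroup H'] [Module k H'] [AddCommGroup U']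
    [Module k U'] (β : H' →ₗ[k] U' →ₗ[k] k) (V : Submodule k H') (X : Submodule k U') :
    ↥V →ₗ[k] Module.Dual k ↥X :=
  (LinearMap.lcomp k k X.subtype) ∘ₗ β ∘ₗ V.subtype

theorem resPair_apply {H' U' : Type u} [AddCommGroup H'] [Module k H'] [AddCommGroup U']
    [Module k U'] (β : H' →ₗ[k] U' →ₗ[k] k) (V : Submodule k H') (X : Submodule k U')
    (v : V) (x : X) : resPair β V X v x = β v.1 x.1 := rfl

theorem resPair_bijective {H' U' : Type u} [AddCommGroup H'] [Module k H'] [AddCommGroup U']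
    [Module k U'] (β : H' →ₗ[k] U' →ₗ[k] k) (V : Submodule k H') (X : Submodule k U')
    (h1 : ∀ v ∈ V, (∀ x ∈ X, β v x = 0) → v = 0)
    (h2 : ∀ f : U' →ₗ[k] k, ∃ v ∈ V, ∀ x ∈ X, β v x = f x) :
    Function.Bijective (resPair β V X) := by
  constructor
  · rw [← LinearMap.ker_eq_bot, LinearMap.ker_eq_bot']
    intro v hv
    apply Subtype.ext
    apply h1 v.1 v.2
    intro x hx
    exact LinearMap.congr_fun hv ⟨x, hx⟩
  · intro f
    obtain ⟨f', hf'⟩ := LinearMap.exists_extend f
    obtain ⟨v, hv, hvf⟩ := h2 f'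
    refine ⟨⟨v, hv⟩, ?_⟩
    apply LinearMap.ext
    intro x
    rw [resPair_apply, hvf x.1 x.2, ← hf']
    rfl

variable (hV1 : ∀ v ∈ V, (∀ x ∈ X, βR v x = 0) → v = 0)
  (hV2 : ∀ f : R' →ₗ[k] k, ∃ v ∈ V, ∀ x ∈ X, βR v x = f x)
  (hW1 : ∀ w ∈ W, (∀ y ∈ Y, βS w y = 0) → w = 0)
  (hW2 : ∀ f : S' →ₗ[k] k, ∃ w ∈ W, ∀ y ∈ Y, βS w y = f y)

/-- the tensor product of the restricted pairings -/
noncomputable def resTensor : ↥V ⊗[k] ↥W →ₗ[k] Module.Dual k (↥X ⊗[k] ↥Y) :=
  (TensorProduct.dualDistrib k ↥X ↥Y) ∘ₗ (TensorProduct.map (resPair βR V X) (resPair βS W Y))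

include hV1 hV2 hW1 hW2 in
theorem resTensor_bijective : Function.Bijective (resTensor βR βS V W X Y) := by
  have h1 : Function.Bijective (TensorProduct.map (resPair βR V X) (resPair βS W Y)) := by
    exact (TensorProduct.congr
      (LinearEquiv.ofBijective (resPair βR V X) (resPair_bijective βR V X hV1 hV2))
      (LinearEquiv.ofBijective (resPair βS W Y) (resPair_bijective βS W Y hW1 hW2))).bijective
  have h2 : Function.Bijective (TensorProduct.dualDistrib k ↥X ↥Y) :=
    (TensorProduct.dualDistribEquiv k ↥X ↥Y).bijective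
  exact h2.comp h1

theorem resTensor_compat (ξ : ↥V ⊗[k] ↥W) (z : ↥X ⊗[k] ↥Y) :
    tensorPair βR βS (TensorProduct.mapIncl V W ξ) (TensorProduct.mapIncl X Y z) =
      resTensor βR βS V W X Y ξ z := by
  induction ξ using TensorProduct.induction_on with
  | zero => simp
  | add a b ha hb => rw [map_add, map_add, LinearMap.add_apply, ha, hb, map_add, LinearMap.add_apply]
  | tmul v w =>
    induction z using TensorProduct.induction_on with
    | zero => simp
    | add a b ha hb => rw [map_add, map_add, ha, hb, map_add]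
    | tmul x y =>
      have e1 : resTensor βR βS V W X Y (v ⊗ₜ[k] w) (x ⊗ₜ[k] y) = βR v.1 x.1 * βS w.1 y.1 := by
        unfold resTensor
        rw [LinearMap.comp_apply, TensorProduct.map_tmul, TensorProduct.dualDistrib_apply]
        rfl
      rw [e1]
      exact tensorPair_tmul βR βS v.1 w.1 x.1 y.1

include hV1 hV2 hW1 hW2 in
/-- nondegeneracy of the tensor pairing on `V ⊗ W` against `X ⊗ Y` -/
theorem tensor_eq_zero (ξ : HR ⊗[k] HS) (hξ : ξ ∈ LinearMap.range (TensorProduct.mapIncl V W))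
    (h : ∀ z ∈ LinearMap.range (TensorProduct.mapIncl X Y), tensorPair βR βS ξ z = 0) :
    ξ = 0 := by
  obtain ⟨ξ', rfl⟩ := hξ
  have h0 : resTensor βR βS V W X Y ξ' = 0 := by
    apply LinearMap.ext
    intro z
    rw [← resTensor_compat, LinearMap.zero_apply]
    exact h _ ⟨z, rfl⟩
  have := (resTensor_bijective βR βS V W X Y hV1 hV2 hW1 hW2).1
    (h0.trans (map_zero (resTensor βR βS V W X Y)).symm)
  rw [this, map_zero]

include hV1 hV2 hW1 hW2 in
/-- every functional is represented on `X ⊗ Y` by an element of `V ⊗ W` -/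
theorem tensor_exists_eq (G : (R' ⊗[k] S') →ₗ[k] k) :
    ∃ ξ ∈ LinearMap.range (TensorProduct.mapIncl V W),
      ∀ z ∈ LinearMap.range (TensorProduct.mapIncl X Y), tensorPair βR βS ξ z = G z := by
  obtain ⟨ξ', hξ'⟩ := (resTensor_bijective βR βS V W X Y hV1 hV2 hW1 hW2).2
    (G ∘ₗ TensorProduct.mapIncl X Y)
  refine ⟨TensorProduct.mapIncl V W ξ', ⟨ξ', rfl⟩, ?_⟩
  rintro _ ⟨z, rfl⟩
  rw [resTensor_compat, hξ']
  rfl

end Perfect

end Groth.Agent.Lib.Helper20.GDual
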