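import Mathlib
import Groth.Agent.Lib.Helper20.GDual3
import Groth.Agent.Lib.Helper20.SegAc5

/-!
# The Segre product of graded duals is a graded dual of the Segre product
-/

set_option autoImplicit false
set_option linter.unusedSectionVars false
set_option linter.unusedVariables false
set_option linter.style.haveILetI false

universe u

open DirectSum TensorProduct

namespace Groth.Agent.Lib.Helper20.GDual

open Groth.Agent.Lib.Helper26.GrProj Groth.Agent.Lib.Helper20.GrKit Groth.Agent.Lib.Helper20.SegAc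
  Groth.Agent.Lib.Helper20.SegTot

section Piece

variable {k : Type u} [Field k] {R S : Type u} [CommRing R] [CommRing S]
  [Algebra k R] [Algebra k S]
  {𝒜 : ℤ → AddSubgroup R} [GradedRing 𝒜] (hkA : ∀ c : k, algebraMap k R c ∈ 𝒜 0)
  {ℬ : ℤ → AddSubgroup S} [GradedRing ℬ] (hkB : ∀ c : k, algebraMap k S c ∈ ℬ 0)
  {X : Type u} [AddCommGroup X] [Module R X] [Module k X] [IsScalarTower k R X]
  (𝒳 : ℤ → AddSubgroup X) [DirectSum.Decomposition 𝒳] [SetLike.GradedSMul 𝒜 𝒳]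
  {Y : Type u} [AddCommGroup Y] [Module S Y] [Module k Y] [IsScalarTower k S Y]
  (𝒴 : ℤ → AddSubgroup Y) [DirectSum.Decomposition 𝒴] [SetLike.GradedSMul ℬ 𝒴]

theorem segrePiece_eq_range (n : ℤ) :
    GrSeg.segrePiece k 𝒳 𝒴 n =
      LinearMap.range (TensorProduct.mapIncl (pcK 𝒜 hkA 𝒳 n) (pcK ℬ hkB 𝒴 n)) := by
  apply le_antisymm
  · unfold GrSeg.segrePiece
    rw [Submodule.span_le]
    rintro _ ⟨a, ha, b, hb, rfl⟩
    exact ⟨(⟨a, ha⟩ : pcK 𝒜 hkA 𝒳 n) ⊗ₜ[k] (⟨b, hb⟩ : pcK ℬ hkB 𝒴 n), rfl⟩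
  · rintro _ ⟨ξ, rfl⟩
    induction ξ using TensorProduct.induction_on with
    | zero => rw [map_zero]; exact zero_mem _
    | add a b ha hb => rw [map_add]; exact add_mem ha hb
    | tmul v w =>
      apply Submodule.subset_span
      exact ⟨v.1, v.2, w.1, w.2, rfl⟩

end Piece

variable {k : Type u} [Field k] {R S T : Type u} [CommRing R] [CommRing S] [CommRing T]
  [Algebra k R] [Algebra k S] [Algebra k T]
  {𝒜 : ℤ → AddSubgroup R} [GradedRing 𝒜] (hkA : ∀ c : k, algebraMap k R c ∈ 𝒜 0)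
  {ℬ : ℤ → AddSubgroup S} [GradedRing ℬ] (hkB : ∀ c : k, algebraMap k S c ∈ ℬ 0)
  {𝒯 : ℤ → AddSubgroup T} [GradedRing 𝒯]
  (ψ : T →ₐ[k] R ⊗[k] S) (hψi : Function.Injective ψ)
  (hψ : ∀ n t, t ∈ 𝒯 n → ψ t ∈ GrSeg.segrePiece k 𝒜 ℬ n)
  (hψs : ∀ n, ∀ z ∈ GrSeg.segrePiece k 𝒜 ℬ n, ∃ t ∈ 𝒯 n, ψ t = z)
  [hfA : ∀ n, Module.Finite k (pcK 𝒜 hkA 𝒜 n)] [hfB : ∀ n, Module.Finite k (pcK ℬ hkB ℬ n)]
  {HR : Type u} [AddCommGroup HR] [Module R HR] [Module k HR] [IsScalarTower k R HR]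
  (ℋR : ℤ → AddSubgroup HR) [DirectSum.Decomposition ℋR] [SetLike.GradedSMul 𝒜 ℋR]
  {HS : Type u} [AddCommGroup HS] [Module S HS] [Module k HS] [IsScalarTower k S HS]
  (ℋS : ℤ → AddSubgroup HS) [DirectSum.Decomposition ℋS] [SetLike.GradedSMul ℬ ℋS]
  (βR : HR →ₗ[k] R →ₗ[k] k) (βS : HS →ₗ[k] S →ₗ[k] k) (g : ℤ)
  (hGR : GrSeg.IsGDual R 𝒜 (shiftGr ℋR g) βR) (hGS : GrSeg.IsGDual S ℬ (shiftGr ℋS g) βS)
  {HT : Type u} [AddCommGroup HT] [Module T HT] [Module k HT] [IsScalarTower k T HT]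
  (ℋT : ℤ → AddSubgroup HT) [DirectSum.Decomposition ℋT]
  (Φ : HT →ₗ[T] TP ψ HR HS) (hΦi : Function.Injective Φ)
  (hΦ : ∀ e : ℤ, (fun x => (Φ x : HR ⊗[k] HS)) '' (ℋT e : Set HT) =
    (GrSeg.segrePiece k ℋR ℋS e : Set (HR ⊗[k] HS)))

theorem Phi_add (a b : HT) :
    (Φ (a + b) : HR ⊗[k] HS) = (Φ a : HR ⊗[k] HS) + (Φ b : HR ⊗[k] HS) := map_add Φ a b

theorem Phi_ksmul (c : k) (a : HT) : (Φ (c • a) : HR ⊗[k] HS) = c • (Φ a : HR ⊗[k] HS) := by
  have h1 : c • a = algebraMap k T c • a := (algebraMap_smul T c a).symm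
  rw [h1]
  have h2 : Φ (algebraMap k T c • a) = algebraMap k T c • Φ a := map_smul Φ _ a
  have h3 : algebraMap k T c • Φ a = c • Φ a := algebraMap_smul T c (Φ a)
  exact h2.trans h3

theorem Phi_smul (t : T) (a : HT) :
    (Φ (t • a) : HR ⊗[k] HS) = GrSeg.act k R S HR HS (ψ t) (Φ a : HR ⊗[k] HS) := map_smul Φ t a

/-- `Φ` as a `k`-linear map into the tensor product -/
noncomputable def PhiK : HT →ₗ[k] HR ⊗[k] HS where
  toFun h := Φ h
  map_add' a b := Phi_add ψ Φ a b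
  map_smul' c a := Phi_ksmul ψ Φ c a

/-- the pairing on `H_T` -/
noncomputable def pairT : HT →ₗ[k] T →ₗ[k] k :=
  (LinearMap.lcomp k k ψ.toLinearMap) ∘ₗ (tensorPair βR βS) ∘ₗ (PhiK ψ Φ)

theorem pairT_apply (h : HT) (t : T) :
    pairT ψ βR βS Φ h t = tensorPair βR βS (Φ h : HR ⊗[k] HS) (ψ t) := rfl

include hGR hGS in
theorem tensorPair_act (u : R ⊗[k] S) (ξ : HR ⊗[k] HS) (z : R ⊗[k] S) :
    tensorPair βR βS (GrSeg.act k R S HR HS u ξ) z = tensorPair βR βS ξ (u * z) := by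
  induction u using TensorProduct.induction_on with
  | zero => rw [map_zero, LinearMap.zero_apply, map_zero, LinearMap.zero_apply, zero_mul, map_zero]
  | add a b ha hb =>
    rw [map_add, LinearMap.add_apply, map_add, LinearMap.add_apply, ha, hb, add_mul, map_add]
  | tmul r s =>
    induction ξ using TensorProduct.induction_on with
    | zero => rw [map_zero, map_zero, LinearMap.zero_apply, LinearMap.zero_apply]
    | add a b ha hb =>
      rw [map_add, map_add, LinearMap.add_apply, ha, hb, map_add, LinearMap.add_apply]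
    | tmul a b =>
      induction z using TensorProduct.induction_on with
      | zero => rw [map_zero, mul_zero, map_zero]
      | add x y hx hy => rw [map_add, hx, hy, mul_add, map_add]
      | tmul x y =>
        rw [GrSeg.act_tmul, Algebra.TensorProduct.tmul_mul_tmul, tensorPair_tmul,
          tensorPair_tmul, hGR.map_smul, hGS.map_smul, smul_eq_mul, smul_eq_mul]

include hGR in
theorem tensorPair_vanish (n m : ℤ) (hm : m ≠ -n) (ξ : HR ⊗[k] HS)
    (hξ : ξ ∈ GrSeg.segrePiece k ℋR ℋS (n - g)) (z : R ⊗[k] S)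
    (hz : z ∈ GrSeg.segrePiece k 𝒜 ℬ m) : tensorPair βR βS ξ z = 0 := by
  refine Submodule.span_induction (p := fun ξ _ => tensorPair βR βS ξ z = 0) ?_ ?_ ?_ ?_ hξ
  · rintro _ ⟨a, ha, b, hb, rfl⟩
    refine Submodule.span_induction (p := fun z _ => tensorPair βR βS (a ⊗ₜ[k] b) z = 0)
      ?_ ?_ ?_ ?_ hz
    · rintro _ ⟨x, hx, y, hy, rfl⟩
      rw [tensorPair_tmul, hGR.vanish n a ha m hm x hx, zero_mul]
    · rw [map_zero]
    · intro x y _ _ hx hy
      rw [map_add, hx, hy, add_zero]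
    · intro c x _ hx
      rw [map_smul, hx, smul_zero]
  · rw [map_zero, LinearMap.zero_apply]
  · intro x y _ _ hx hy
    rw [map_add, LinearMap.add_apply, hx, hy, add_zero]
  · intro c x _ hx
    rw [map_smul, LinearMap.smul_apply, hx, smul_zero]

include hkA hkB hfA hfB hψi hψ hψs hGR hGS hΦi hΦ in
/-- **The Segre product of graded duals of `R` and `S` is a graded dual of `R # S`.** -/
theorem isGDual_segre :
    GrSeg.IsGDual T 𝒯 (shiftGr ℋT g) (pairT ψ βR βS Φ) where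
  map_smul t d x := by
    rw [pairT_apply, pairT_apply, Phi_smul ψ Φ t d,
      tensorPair_act ℋR ℋS βR βS g hGR hGS, smul_eq_mul, map_mul ψ]
  vanish n d hd m hm x hx := by
    rw [pairT_apply]
    have h1 : (Φ d : HR ⊗[k] HS) ∈ GrSeg.segrePiece k ℋR ℋS (n - g) := by
      have : (Φ d : HR ⊗[k] HS) ∈ (fun x => (Φ x : HR ⊗[k] HS)) '' (ℋT (n - g) : Set HT) :=
        ⟨d, hd, rfl⟩
      rw [hΦ (n - g)] at this
      exact this
    exact tensorPair_vanish ℋR ℋS βR βS g hGR n m hm _ h1 _ (hψ m x hx)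
  eq_zero n d hd h := by
    have h1 : (Φ d : HR ⊗[k] HS) ∈ GrSeg.segrePiece k ℋR ℋS (n - g) := by
      have : (Φ d : HR ⊗[k] HS) ∈ (fun x => (Φ x : HR ⊗[k] HS)) '' (ℋT (n - g) : Set HT) :=
        ⟨d, hd, rfl⟩
      rw [hΦ (n - g)] at this
      exact this
    rw [segrePiece_eq_range hkA hkB ℋR ℋS (n - g)] at h1
    have h2 := tensor_eq_zero βR βS (pcK 𝒜 hkA ℋR (n - g)) (pcK ℬ hkB ℋS (n - g))
      (pcK 𝒜 hkA 𝒜 (-n)) (pcK ℬ hkB ℬ (-n))
      (fun v hv hx => hGR.eq_zero n v hv hx) (fun f => hGR.exists_eq n f)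
      (fun w hw hy => hGS.eq_zero n w hw hy) (fun f => hGS.exists_eq n f) _ h1 (by
        intro z hz
        rw [← segrePiece_eq_range hkA hkB 𝒜 ℬ (-n)] at hz
        obtain ⟨t, ht, rfl⟩ := hψs (-n) z hz
        exact h t ht)
    apply hΦi
    rw [map_zero]
    exact h2
  exists_eq n g₀ := by
    obtain ⟨ψ', hψ'⟩ := LinearMap.exists_leftInverse_of_injective ψ.toLinearMap
      (LinearMap.ker_eq_bot.2 hψi)
    obtain ⟨ξ, hξ, hξG⟩ := tensor_exists_eq βR βS (pcK 𝒜 hkA ℋR (n - g))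
      (pcK ℬ hkB ℋS (n - g)) (pcK 𝒜 hkA 𝒜 (-n)) (pcK ℬ hkB ℬ (-n))
      (fun v hv hx => hGR.eq_zero n v hv hx) (fun f => hGR.exists_eq n f)
      (fun w hw hy => hGS.eq_zero n w hw hy) (fun f => hGS.exists_eq n f) (g₀ ∘ₗ ψ')
    rw [← segrePiece_eq_range hkA hkB ℋR ℋS (n - g)] at hξ
    have hξ' : ξ ∈ (fun x => (Φ x : HR ⊗[k] HS)) '' (ℋT (n - g) : Set HT) := by
      rw [hΦ (n - g)]
      exact hξ
    obtain ⟨d, hd, rfl⟩ := hξ'
    refine ⟨d, hd, ?_⟩
    intro x hx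
    rw [pairT_apply]
    have hz : ψ x ∈ LinearMap.range
        (TensorProduct.mapIncl (pcK 𝒜 hkA 𝒜 (-n)) (pcK ℬ hkB ℬ (-n))) := by
      rw [← segrePiece_eq_range hkA hkB 𝒜 ℬ (-n)]
      exact hψ (-n) x hx
    rw [hξG _ hz, LinearMap.comp_apply]
    have := LinearMap.congr_fun hψ' x
    rw [LinearMap.comp_apply] at this
    exact congrArg g₀ this

end Groth.Agent.Lib.Helper20.GDual
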