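import Mathlib
import Groth.Prelude.Def_GrLC
import Groth.Prelude.Def_Wider
import Groth.Agent.Lib.helper11.LCVanish
import Groth.Agent.Lib.helper11.LCKit2

/-!
# Local cohomology of a module on which an element of the ideal acts bijectively vanishes
-/

set_option autoImplicit false
set_option linter.unusedSectionVars false
set_option linter.unusedVariables false

universe u

open CategoryTheory

namespace Groth.Agent.Lib.Helper20.SegBij

variable {S : Type u} [CommRing S] (J : Ideal S) (N : Type u) [AddCommGroup N] [Module S N]
  (g : S) (hg : g ∈ J) (hb : Function.Bijective (fun y : N => g • y))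

include hg hb in
theorem gam_eq_zero (y : N) (hy : y ∈ GrLC.gam J N) : y = 0 := by
  obtain ⟨n, hn⟩ := hy
  have h := hn (g ^ n) (Ideal.pow_mem_pow hg n)
  clear hn
  induction n with
  | zero => simpa using h
  | succ n ih =>
    apply ih
    apply hb.1
    change g • (g ^ n • y) = g • 0
    rw [smul_zero, ← mul_smul, ← pow_succ']
    exact h

include hg hb in
theorem subsingleton_H (j : ℕ) : Subsingleton (LocCoh.H J j N) := by
  let e : N ≃ₗ[S] N := LinearEquiv.ofBijective (g • (LinearMap.id : N →ₗ[S] N)) hb
  have hiso : IsIso (g • 𝟙 (ModuleCat.of S N)) := by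
    have : g • 𝟙 (ModuleCat.of S N) = (e.toModuleIso).hom := by
      ext x
      rfl
    rw [this]
    infer_instance
  apply Groth.Agent.Lib.helper11.LCKit.subsingleton_of_smul_injective J j (ModuleCat.of S N) g hg
  intro z hz
  rw [Groth.Agent.Lib.helper11.LCKit.smul_eq_map] at hz
  haveI : IsIso ((localCohomology J j).map (g • 𝟙 (ModuleCat.of S N))) := by
    haveI := hiso
    infer_instance
  have hinj : Function.Injective ((localCohomology J j).map (g • 𝟙 (ModuleCat.of S N))).hom := by
    have := (ConcreteCategory.bijective_of_isIso
      ((localCohomology J j).map (g • 𝟙 (ModuleCat.of S N)))).1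
    exact this
  apply hinj
  rw [hz, map_zero]

end Groth.Agent.Lib.Helper20.SegBij
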