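import Mathlib
import Groth.Agent.Lib.Helper20.SegTot6
import Groth.Agent.Lib.Helper20.SegBij1

/-!
# The weight-zero part `X # Y` of `X ⊗[k] Y` as a graded module over the Segre product
-/

set_option autoImplicit false
set_option linter.unusedSectionVars false
set_option linter.unusedVariables false
set_option linter.style.haveILetI false

universe u

open TensorProduct DirectSum CategoryTheory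

namespace Groth.Agent.Lib.Helper20.SegBij

open Groth.Agent.Lib.Helper26.GrProj Groth.Agent.Lib.Helper20.SegAc Groth.Agent.Lib.Helper20.GrKit
  Groth.Agent.Lib.Helper20.SegTot

variable {k : Type u} [Field k] {R S T : Type u} [CommRing R] [CommRing S] [CommRing T]
  [Algebra k R] [Algebra k S] [Algebra k T]
  {𝒜 : ℤ → AddSubgroup R} [GradedRing 𝒜] (hkA : ∀ c : k, algebraMap k R c ∈ 𝒜 0)
  {ℬ : ℤ → AddSubgroup S} [GradedRing ℬ] (hkB : ∀ c : k, algebraMap k S c ∈ ℬ 0)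
  {𝒯 : ℤ → AddSubgroup T} [GradedRing 𝒯]
  (ψ : T →ₐ[k] R ⊗[k] S) (hψ : ∀ n t, t ∈ 𝒯 n → ψ t ∈ GrSeg.segrePiece k 𝒜 ℬ n)
  {X : Type u} [AddCommGroup X] [Module R X] [Module k X] [IsScalarTower k R X]
  (𝒳 : ℤ → AddSubgroup X) [DirectSum.Decomposition 𝒳] [SetLike.GradedSMul 𝒜 𝒳]
  {X' : Type u} [AddCommGroup X'] [Module R X'] [Module k X'] [IsScalarTower k R X']
  (𝒳' : ℤ → AddSubgroup X') [DirectSum.Decomposition 𝒳'] [SetLike.GradedSMul 𝒜 𝒳']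
  {Y : Type u} [AddCommGroup Y] [Module S Y] [Module k Y] [IsScalarTower k S Y]
  (𝒴 : ℤ → AddSubgroup Y) [DirectSum.Decomposition 𝒴] [SetLike.GradedSMul ℬ 𝒴]

/-- the weight-zero part of `X ⊗[k] Y`, as a `T`-submodule -/
def W0 : Submodule T (TP ψ X Y) where
  carrier := {z | P0 𝒜 hkA ℬ hkB 𝒳 𝒴 z = z}
  add_mem' {a b} ha hb :=
    (map_add (P0 𝒜 hkA ℬ hkB 𝒳 𝒴) a b).trans (congrArg₂ (· + ·) ha hb)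
  zero_mem' := map_zero (P0 𝒜 hkA ℬ hkB 𝒳 𝒴)
  smul_mem' t z hz :=
    (P0_smulT 𝒜 hkA ℬ hkB 𝒯 ψ hψ 𝒳 𝒴 t z).trans (congrArg (GrSeg.act k R S X Y (ψ t)) hz)

theorem mem_W0 {z : TP ψ X Y} :
    z ∈ W0 hkA hkB ψ hψ 𝒳 𝒴 ↔ P0 𝒜 hkA ℬ hkB 𝒳 𝒴 z = z := Iff.rfl

theorem pp_mem_W0 (e : ℤ) (z : TP ψ X Y) :
    (pp 𝒜 hkA ℬ hkB 𝒳 𝒴 e z : TP ψ X Y) ∈ W0 hkA hkB ψ hψ 𝒳 𝒴 :=
  P0_pp 𝒜 hkA ℬ hkB 𝒳 𝒴 e z

theorem P0_mem_W0 (z : TP ψ X Y) :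
    (P0 𝒜 hkA ℬ hkB 𝒳 𝒴 z : TP ψ X Y) ∈ W0 hkA hkB ψ hψ 𝒳 𝒴 :=
  P0_P0 𝒜 hkA ℬ hkB 𝒳 𝒴 z

/-- the grading -/
def W0gr (e : ℤ) : AddSubgroup ↥(W0 hkA hkB ψ hψ 𝒳 𝒴) where
  carrier := {z | pp 𝒜 hkA ℬ hkB 𝒳 𝒴 e z.1 = z.1}
  add_mem' {a b} ha hb :=
    (map_add (pp 𝒜 hkA ℬ hkB 𝒳 𝒴 e) a.1 b.1).trans (congrArg₂ (· + ·) ha hb)
  zero_mem' := map_zero (pp 𝒜 hkA ℬ hkB 𝒳 𝒴 e)
  neg_mem' {a} ha := (map_neg (pp 𝒜 hkA ℬ hkB 𝒳 𝒴 e) a.1).trans (congrArg Neg.neg ha)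

theorem mem_W0gr {e : ℤ} {z : ↥(W0 hkA hkB ψ hψ 𝒳 𝒴)} :
    z ∈ W0gr hkA hkB ψ hψ 𝒳 𝒴 e ↔ pp 𝒜 hkA ℬ hkB 𝒳 𝒴 e z.1 = z.1 := Iff.rfl

/-- the projections -/
noncomputable def W0proj (e : ℤ) :
    ↥(W0 hkA hkB ψ hψ 𝒳 𝒴) →+ ↥(W0 hkA hkB ψ hψ 𝒳 𝒴) where
  toFun z := ⟨pp 𝒜 hkA ℬ hkB 𝒳 𝒴 e z.1, pp_mem_W0 hkA hkB ψ hψ 𝒳 𝒴 e z.1⟩
  map_zero' := Subtype.ext (map_zero (pp 𝒜 hkA ℬ hkB 𝒳 𝒴 e))
  map_add' a b := Subtype.ext (map_add (pp 𝒜 hkA ℬ hkB 𝒳 𝒴 e) a.1 b.1)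

theorem W0_isInternal : DirectSum.IsInternal (W0gr hkA hkB ψ hψ 𝒳 𝒴) := by
  refine isInternal_of_proj (W0gr hkA hkB ψ hψ 𝒳 𝒴) (W0proj hkA hkB ψ hψ 𝒳 𝒴) ?_ ?_ ?_ ?_
  · intro g z
    exact pp_pp_same 𝒜 hkA ℬ hkB 𝒳 𝒴 g z.1
  · intro g z hz
    exact Subtype.ext hz
  · intro g h z hz hne
    apply Subtype.ext
    change pp 𝒜 hkA ℬ hkB 𝒳 𝒴 g z.1 = 0
    have hz' : pp 𝒜 hkA ℬ hkB 𝒳 𝒴 h z.1 = z.1 := hz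
    rw [← hz']
    exact pp_pp_ne 𝒜 hkA ℬ hkB 𝒳 𝒴 hne z.1
  · intro z
    obtain ⟨s, hs⟩ := exists_finset_of_P0 𝒜 hkA ℬ hkB 𝒳 𝒴 z.1 z.2
    refine ⟨s, Subtype.ext ?_⟩
    rw [AddSubmonoidClass.coe_finset_sum]
    exact hs

noncomputable instance W0dec : DirectSum.Decomposition (W0gr hkA hkB ψ hψ 𝒳 𝒴) :=
  (W0_isInternal hkA hkB ψ hψ 𝒳 𝒴).chooseDecomposition

instance W0gsmul : SetLike.GradedSMul 𝒯 (W0gr hkA hkB ψ hψ 𝒳 𝒴) where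
  smul_mem := by
    intro a e t z ht hz
    change pp 𝒜 hkA ℬ hkB 𝒳 𝒴 (a + e) (GrSeg.act k R S X Y (ψ t) z.1) =
      GrSeg.act k R S X Y (ψ t) z.1
    rw [add_comm, pp_smulT 𝒜 hkA ℬ hkB 𝒯 ψ hψ 𝒳 𝒴 ht e z.1]
    exact congrArg _ hz

/-- `X # Y` as a graded `T`-module -/
noncomputable def W0G : GrLC.GMod.{u} 𝒯 where
  carrier := ↥(W0 hkA hkB ψ hψ 𝒳 𝒴)
  gr := W0gr hkA hkB ψ hψ 𝒳 𝒴
  dec := W0dec hkA hkB ψ hψ 𝒳 𝒴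
  gsmul := W0gsmul hkA hkB ψ hψ 𝒳 𝒴

theorem proj_W0G (e : ℤ) (z : ↥(W0 hkA hkB ψ hψ 𝒳 𝒴)) :
    proj (W0gr hkA hkB ψ hψ 𝒳 𝒴) e z = W0proj hkA hkB ψ hψ 𝒳 𝒴 e z := by
  classical
  obtain ⟨s, hs⟩ := exists_finset_of_P0 𝒜 hkA ℬ hkB 𝒳 𝒴 z.1 z.2
  have hz : z = ∑ g ∈ s, W0proj hkA hkB ψ hψ 𝒳 𝒴 g z := by
    apply Subtype.ext
    rw [AddSubmonoidClass.coe_finset_sum]
    exact hs
  have hmem : ∀ g, W0proj hkA hkB ψ hψ 𝒳 𝒴 g z ∈ W0gr hkA hkB ψ hψ 𝒳 𝒴 g :=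
    fun g => pp_pp_same 𝒜 hkA ℬ hkB 𝒳 𝒴 g z.1
  conv_lhs => rw [hz]
  rw [proj_sum]
  by_cases he : e ∈ s
  · rw [Finset.sum_eq_single e]
    · exact proj_of_mem_same _ (hmem e)
    · intro g _ hne
      exact proj_of_mem_ne _ (hmem g) hne
    · intro h
      exact absurd he h
  · rw [Finset.sum_eq_zero]
    · apply Subtype.ext
      change (0 : TP ψ X Y) = pp 𝒜 hkA ℬ hkB 𝒳 𝒴 e z.1
      rw [hs, map_sum]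
      symm
      apply Finset.sum_eq_zero
      intro g hg
      apply pp_pp_ne
      rintro rfl
      exact he hg
    · intro g hg
      apply proj_of_mem_ne _ (hmem g)
      rintro rfl
      exact he hg

section Maps

variable (f : X →ₗ[R] X') (hf : GrLC.IsGrHom 𝒳 𝒳' f)

/-- `f ⊗ id` -/
noncomputable def mapL : X ⊗[k] Y →ₗ[k] X' ⊗[k] Y :=
  TensorProduct.map (f.restrictScalars k) LinearMap.id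

theorem mapL_tmul (x : X) (y : Y) : mapL (k := k) (Y := Y) f (x ⊗ₜ[k] y) = f x ⊗ₜ[k] y := rfl

theorem mapL_act (u : R ⊗[k] S) (z : X ⊗[k] Y) :
    mapL (k := k) f (GrSeg.act k R S X Y u z) = GrSeg.act k R S X' Y u (mapL (k := k) f z) :=
  act_map f (LinearMap.id : Y →ₗ[S] Y) u z

include hf in
theorem pp_mapL (e : ℤ) (z : X ⊗[k] Y) :
    pp 𝒜 hkA ℬ hkB 𝒳' 𝒴 e (mapL (k := k) f z) = mapL (k := k) f (pp 𝒜 hkA ℬ hkB 𝒳 𝒴 e z) := by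
  induction z using TensorProduct.induction_on with
  | zero => simp
  | tmul x y =>
    rw [mapL_tmul, pp_tmul, pp_tmul, mapL_tmul, proj_hom 𝒳 𝒳' f hf e x]
  | add a b ha hb => simp only [map_add, ha, hb]

include hf in
theorem P0_mapL (z : X ⊗[k] Y) :
    P0 𝒜 hkA ℬ hkB 𝒳' 𝒴 (mapL (k := k) f z) = mapL (k := k) f (P0 𝒜 hkA ℬ hkB 𝒳 𝒴 z) := by
  classical
  have hfin := pp_support_finite 𝒜 hkA ℬ hkB 𝒳 𝒴 z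
  have h1 := P0_eq_sum 𝒜 hkA ℬ hkB 𝒳 𝒴 z hfin.toFinset (by rw [Set.Finite.coe_toFinset])
  have h2 : P0 𝒜 hkA ℬ hkB 𝒳' 𝒴 (mapL (k := k) f z) =
      ∑ e ∈ hfin.toFinset, pp 𝒜 hkA ℬ hkB 𝒳' 𝒴 e (mapL (k := k) f z) := by
    apply P0_eq_sum
    intro e he
    simp only [Set.Finite.coe_toFinset]
    intro h0
    apply he
    change pp 𝒜 hkA ℬ hkB 𝒳' 𝒴 e (mapL (k := k) f z) = 0
    rw [pp_mapL hkA hkB 𝒳 𝒳' 𝒴 f hf]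
    have h0' : pp 𝒜 hkA ℬ hkB 𝒳 𝒴 e z = 0 := h0
    rw [h0', map_zero]
  rw [h2, h1, map_sum]
  exact Finset.sum_congr rfl fun e _ => pp_mapL hkA hkB 𝒳 𝒳' 𝒴 f hf e z

/-- the induced map on weight-zero parts -/
noncomputable def W0map : ↥(W0 hkA hkB ψ hψ 𝒳 𝒴) →ₗ[T] ↥(W0 hkA hkB ψ hψ 𝒳' 𝒴) where
  toFun z := ⟨mapL (k := k) f z.1,
    (P0_mapL hkA hkB 𝒳 𝒳' 𝒴 f hf z.1).trans (congrArg (mapL (k := k) f) z.2)⟩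
  map_add' a b := Subtype.ext (map_add (mapL (k := k) f) a.1 b.1)
  map_smul' t z := Subtype.ext (mapL_act f (ψ t) z.1)

theorem W0map_coe (z : ↥(W0 hkA hkB ψ hψ 𝒳 𝒴)) :
    ((W0map hkA hkB ψ hψ 𝒳 𝒳' 𝒴 f hf z : ↥(W0 hkA hkB ψ hψ 𝒳' 𝒴)) : TP ψ X' Y) =
      mapL (k := k) f z.1 := rfl

theorem W0map_grHom :
    GrLC.IsGrHom (W0gr hkA hkB ψ hψ 𝒳 𝒴) (W0gr hkA hkB ψ hψ 𝒳' 𝒴)
      (W0map hkA hkB ψ hψ 𝒳 𝒳' 𝒴 f hf) := by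
  intro e z hz
  change pp 𝒜 hkA ℬ hkB 𝒳' 𝒴 e (mapL (k := k) f z.1) = mapL (k := k) f z.1
  rw [pp_mapL hkA hkB 𝒳 𝒳' 𝒴 f hf]
  exact congrArg _ hz

end Maps

section Acyc

/-- the retraction of `X ⊗ Y` onto its weight-zero part -/
noncomputable def retr0 : TP ψ X Y →ₗ[T] ↥(W0 hkA hkB ψ hψ 𝒳 𝒴) where
  toFun z := ⟨P0 𝒜 hkA ℬ hkB 𝒳 𝒴 z, P0_mem_W0 hkA hkB ψ hψ 𝒳 𝒴 z⟩
  map_add' a b := Subtype.ext (map_add (P0 𝒜 hkA ℬ hkB 𝒳 𝒴) a b)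
  map_smul' t z := Subtype.ext (P0_smulT 𝒜 hkA ℬ hkB 𝒯 ψ hψ 𝒳 𝒴 t z)

theorem retr0_subtype (z : ↥(W0 hkA hkB ψ hψ 𝒳 𝒴)) : retr0 hkA hkB ψ hψ 𝒳 𝒴 z.1 = z :=
  Subtype.ext z.2

theorem subsingleton_W0 (aT : Ideal T) (j : ℕ)
    (h : Subsingleton (LocCoh.H aT j (TP ψ X Y))) :
    Subsingleton (LocCoh.H aT j ↥(W0 hkA hkB ψ hψ 𝒳 𝒴)) := by
  let ι : ↥(W0 hkA hkB ψ hψ 𝒳 𝒴) →ₗ[T] TP ψ X Y := (W0 hkA hkB ψ hψ 𝒳 𝒴).subtype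
  let π := retr0 hkA hkB ψ hψ 𝒳 𝒴
  have hπι : π ∘ₗ ι = LinearMap.id := LinearMap.ext fun z => retr0_subtype hkA hkB ψ hψ 𝒳 𝒴 z
  let G := localCohomology aT j
  have hG : G.map (ModuleCat.ofHom ι) ≫ G.map (ModuleCat.ofHom π) = 𝟙 _ := by
    rw [← G.map_comp, ← ModuleCat.ofHom_comp, hπι]
    exact G.map_id _
  refine ⟨fun x y => ?_⟩
  have hx : (G.map (ModuleCat.ofHom ι) ≫ G.map (ModuleCat.ofHom π)).hom x = x := by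
    rw [hG]; rfl
  have hy : (G.map (ModuleCat.ofHom ι) ≫ G.map (ModuleCat.ofHom π)).hom y = y := by
    rw [hG]; rfl
  rw [← hx, ← hy]
  change (G.map (ModuleCat.ofHom π)).hom ((G.map (ModuleCat.ofHom ι)).hom x) =
    (G.map (ModuleCat.ofHom π)).hom ((G.map (ModuleCat.ofHom ι)).hom y)
  congr 1
  exact Subsingleton.elim _ _

theorem isAcyc_W0G [IsNoetherianRing T] (aT : HomogeneousIdeal 𝒯)
    (h : ∀ j, 1 ≤ j → Subsingleton (LocCoh.H aT.toIdeal j (TP ψ X Y))) :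
    GrAcyc.IsAcyc aT (W0G hkA hkB ψ hψ 𝒳 𝒴) := by
  intro EX j hj
  obtain ⟨e⟩ := bridge_starInjRes EX aT j
  haveI : Subsingleton (LocCoh.H aT.toIdeal j (W0G hkA hkB ψ hψ 𝒳 𝒴).carrier) :=
    subsingleton_W0 hkA hkB ψ hψ 𝒳 𝒴 aT.toIdeal j (h j hj)
  exact e.toEquiv.subsingleton

end Acyc

end Groth.Agent.Lib.Helper20.SegBij
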