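import Mathlib
import Groth.Agent.Lib.Helper20.SegBij2

/-!
# The complex `E^• # N` is a graded resolution of `M # N`
-/

set_option autoImplicit false
set_option linter.unusedSectionVars false
set_option linter.unusedVariables false
set_option linter.style.haveILetI false

universe u

open TensorProduct DirectSum CategoryTheory

namespace Groth.Agent.Lib.Helper20.SegBij

open Groth.Agent.Lib.Helper26.GrProj Groth.Agent.Lib.Helper20.SegAc Groth.Agent.Lib.Helper20.GrKit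
  Groth.Agent.Lib.Helper20.SegTot

section LinAlg

variable {k : Type u} [Field k] {V₁ V₂ V₃ Y : Type u} [AddCommGroup V₁] [Module k V₁]
  [AddCommGroup V₂] [Module k V₂] [AddCommGroup V₃] [Module k V₃] [AddCommGroup Y] [Module k Y]

theorem exists_of_map_eq_zero (f : V₁ →ₗ[k] V₂) (g : V₂ →ₗ[k] V₃)
    (h : LinearMap.ker g = LinearMap.range f) (z : V₂ ⊗[k] Y)
    (hz : TensorProduct.map g (LinearMap.id : Y →ₗ[k] Y) z = 0) :
    ∃ w : V₁ ⊗[k] Y, TensorProduct.map f (LinearMap.id : Y →ₗ[k] Y) w = z := by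
  have hex : Function.Exact f g := LinearMap.exact_iff.2 h
  have := Module.Flat.rTensor_exact Y hex
  exact (this z).1 hz

theorem map_id_injective (f : V₁ →ₗ[k] V₂) (hf : Function.Injective f) :
    Function.Injective (TensorProduct.map f (LinearMap.id : Y →ₗ[k] Y)) :=
  Module.Flat.rTensor_preserves_injective_linearMap f hf

end LinAlg

section Piece

variable {k : Type u} [Field k] {R S : Type u} [CommRing R] [CommRing S]
  [Algebra k R] [Algebra k S]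
  {𝒜 : ℤ → AddSubgroup R} [GradedRing 𝒜] (hkA : ∀ c : k, algebraMap k R c ∈ 𝒜 0)
  {ℬ : ℤ → AddSubgroup S} [GradedRing ℬ] (hkB : ∀ c : k, algebraMap k S c ∈ ℬ 0)
  {X : Type u} [AddCommGroup X] [Module R X] [Module k X] [IsScalarTower k R X]
  (𝒳 : ℤ → AddSubgroup X) [DirectSum.Decomposition 𝒳] [SetLike.GradedSMul 𝒜 𝒳]
  {Y : Type u} [AddCommGroup Y] [Module S Y] [Module k Y] [IsScalarTower k S Y]
  (𝒴 : ℤ → AddSubgroup Y) [DirectSum.Decomposition 𝒴] [SetLike.GradedSMul ℬ 𝒴]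

theorem pp_of_mem_segrePiece {e : ℤ} {z : X ⊗[k] Y} (hz : z ∈ GrSeg.segrePiece k 𝒳 𝒴 e) :
    pp 𝒜 hkA ℬ hkB 𝒳 𝒴 e z = z := by
  refine Submodule.span_induction (p := fun z _ => pp 𝒜 hkA ℬ hkB 𝒳 𝒴 e z = z) ?_ ?_ ?_ ?_ hz
  · rintro _ ⟨x, hx, y, hy, rfl⟩
    rw [pp_tmul, proj_of_mem_same 𝒳 hx, proj_of_mem_same 𝒴 hy]
  · exact map_zero _
  · intro a b _ _ ha hb
    rw [map_add, ha, hb]
  · intro c a _ ha
    rw [map_smul, ha]

theorem pp_mem_segrePiece (e : ℤ) (z : X ⊗[k] Y) :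
    pp 𝒜 hkA ℬ hkB 𝒳 𝒴 e z ∈ GrSeg.segrePiece k 𝒳 𝒴 e := by
  induction z using TensorProduct.induction_on with
  | zero => rw [map_zero]; exact zero_mem _
  | tmul x y =>
    rw [pp_tmul]
    exact Submodule.subset_span ⟨_, proj_mem 𝒳 e x, _, proj_mem 𝒴 e y, rfl⟩
  | add a b ha hb => rw [map_add]; exact add_mem ha hb

end Piece

variable {k : Type u} [Field k] {R S T : Type u} [CommRing R] [CommRing S] [CommRing T]
  [Algebra k R] [Algebra k S] [Algebra k T]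
  {𝒜 : ℤ → AddSubgroup R} [GradedRing 𝒜] (hkA : ∀ c : k, algebraMap k R c ∈ 𝒜 0)
  {ℬ : ℤ → AddSubgroup S} [GradedRing ℬ] (hkB : ∀ c : k, algebraMap k S c ∈ ℬ 0)
  {𝒯 : ℤ → AddSubgroup T} [GradedRing 𝒯]
  (ψ : T →ₐ[k] R ⊗[k] S) (hψ : ∀ n t, t ∈ 𝒯 n → ψ t ∈ GrSeg.segrePiece k 𝒜 ℬ n)
  {M : Type u} [AddCommGroup M] [Module R M] [Module k M] [IsScalarTower k R M]
  {ℳ : ℤ → AddSubgroup M}
  [DirectSum.Decomposition ℳ] [SetLike.GradedSMul 𝒜 ℳ]
  (E : GrLC.StarInjRes 𝒜 ℳ) [∀ i, Module k (E.X i).carrier]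
  [∀ i, IsScalarTower k R (E.X i).carrier]
  {N : Type u} [AddCommGroup N] [Module S N] [Module k N] [IsScalarTower k S N]
  (𝒩 : ℤ → AddSubgroup N)
  [DirectSum.Decomposition 𝒩] [SetLike.GradedSMul ℬ 𝒩]

/-- the terms -/
noncomputable abbrev CX (i : ℕ) : GrLC.GMod.{u} 𝒯 := W0G hkA hkB ψ hψ (E.X i).gr 𝒩

/-- the differentials -/
noncomputable abbrev dC (i : ℕ) :
    ↥(W0 hkA hkB ψ hψ (E.X i).gr 𝒩) →ₗ[T] ↥(W0 hkA hkB ψ hψ (E.X (i + 1)).gr 𝒩) :=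
  W0map hkA hkB ψ hψ (E.X i).gr (E.X (i + 1)).gr 𝒩 (E.d i) (E.d_grHom i)

theorem mapL_d_d (i : ℕ) (z : (E.X i).carrier ⊗[k] N) :
    mapL (k := k) (Y := N) (E.d (i + 1)) (mapL (k := k) (Y := N) (E.d i) z) = 0 := by
  induction z using TensorProduct.induction_on with
  | zero => simp
  | tmul x y =>
    rw [mapL_tmul, mapL_tmul]
    have : E.d (i + 1) (E.d i x) = 0 := by
      have h : E.d i x ∈ LinearMap.ker (E.d (i + 1)) := by rw [E.exact_succ]; exact ⟨x, rfl⟩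
      exact h
    rw [this, TensorProduct.zero_tmul]
  | add a b ha hb => rw [map_add, map_add, ha, hb, add_zero]

theorem mapL_d_eps (z : M ⊗[k] N) :
    mapL (k := k) (Y := N) (E.d 0) (mapL (k := k) (Y := N) E.ε z) = 0 := by
  induction z using TensorProduct.induction_on with
  | zero => simp
  | tmul x y =>
    rw [mapL_tmul, mapL_tmul]
    have : E.d 0 (E.ε x) = 0 := by
      have h : E.ε x ∈ LinearMap.ker (E.d 0) := by rw [E.exact_zero]; exact ⟨x, rfl⟩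
      exact h
    rw [this, TensorProduct.zero_tmul]
  | add a b ha hb => rw [map_add, map_add, ha, hb, add_zero]

theorem exact_succ (i : ℕ) :
    LinearMap.ker (dC hkA hkB ψ hψ E 𝒩 (i + 1)) = LinearMap.range (dC hkA hkB ψ hψ E 𝒩 i) := by
  apply le_antisymm
  · intro z hz
    have hD : mapL (k := k) (Y := N) (E.d (i + 1)) z.1 = 0 := congrArg Subtype.val hz
    have hker : LinearMap.ker ((E.d (i + 1)).restrictScalars k) =
        LinearMap.range ((E.d i).restrictScalars k) := by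
      ext x
      have := congrArg (fun p : Submodule R (E.X (i + 1)).carrier => x ∈ p) (E.exact_succ i)
      exact Iff.of_eq this
    obtain ⟨w, hw⟩ := exists_of_map_eq_zero (Y := N) _ _ hker z.1 hD
    refine ⟨⟨P0 𝒜 hkA ℬ hkB (E.X i).gr 𝒩 w, P0_mem_W0 hkA hkB ψ hψ (E.X i).gr 𝒩 w⟩, ?_⟩
    apply Subtype.ext
    change mapL (k := k) (Y := N) (E.d i) (P0 𝒜 hkA ℬ hkB (E.X i).gr 𝒩 w) = z.1
    rw [← P0_mapL hkA hkB (E.X i).gr (E.X (i + 1)).gr 𝒩 (E.d i) (E.d_grHom i)]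
    have hw' : mapL (k := k) (Y := N) (E.d i) w = z.1 := hw
    rw [hw']
    exact z.2
  · rintro _ ⟨y, rfl⟩
    apply Subtype.ext
    exact mapL_d_d E i y.1

section Aug

variable {P : Type u} [AddCommGroup P] [Module T P] [Module k P] [IsScalarTower k T P]
  {𝒬 : ℤ → AddSubgroup P} [DirectSum.Decomposition 𝒬] [SetLike.GradedSMul 𝒯 𝒬]
  (φ : P →ₗ[k] M ⊗[k] N) (hφi : Function.Injective φ)
  (hφp : ∀ n : ℤ, φ '' (𝒬 n : Set P) = (GrSeg.segrePiece k ℳ 𝒩 n : Set (M ⊗[k] N)))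
  (hφs : ∀ (t : T) (p : P), φ (t • p) = GrSeg.act k R S M N (ψ t) (φ p))

include hφp in
theorem pp_phi_of_mem {e : ℤ} {p : P} (hp : p ∈ 𝒬 e) :
    pp 𝒜 hkA ℬ hkB ℳ 𝒩 e (φ p) = φ p := by
  apply pp_of_mem_segrePiece
  have : φ p ∈ φ '' (𝒬 e : Set P) := ⟨p, hp, rfl⟩
  rw [hφp e] at this
  exact this

include hφp in
theorem P0_phi (p : P) : P0 𝒜 hkA ℬ hkB ℳ 𝒩 (φ p) = φ p := by
  classical
  induction p using DirectSum.Decomposition.inductionOn 𝒬 with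
  | zero => rw [map_zero, map_zero]
  | homogeneous p =>
    rw [← pp_phi_of_mem hkA hkB 𝒩 φ hφp p.2]
    exact P0_pp 𝒜 hkA ℬ hkB ℳ 𝒩 _ _
  | add a b ha hb => rw [map_add, map_add, ha, hb]

include hφp in
theorem exists_phi_of_P0 (w : M ⊗[k] N) (hw : P0 𝒜 hkA ℬ hkB ℳ 𝒩 w = w) : ∃ p : P, φ p = w := by
  classical
  obtain ⟨s, hs⟩ := exists_finset_of_P0 𝒜 hkA ℬ hkB ℳ 𝒩 w hw
  have key : ∀ e : ℤ, ∃ p : P, φ p = pp 𝒜 hkA ℬ hkB ℳ 𝒩 e w := by
    intro e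
    have h1 := pp_mem_segrePiece hkA hkB ℳ 𝒩 e w
    have : pp 𝒜 hkA ℬ hkB ℳ 𝒩 e w ∈ φ '' (𝒬 e : Set P) := by rw [hφp e]; exact h1
    obtain ⟨p, -, hp⟩ := this
    exact ⟨p, hp⟩
  choose pe hpe using key
  refine ⟨∑ e ∈ s, pe e, ?_⟩
  rw [map_sum]
  conv_rhs => rw [hs]
  exact Finset.sum_congr rfl fun e _ => hpe e

/-- the augmentation -/
noncomputable def epsC : P →ₗ[T] ↥(W0 hkA hkB ψ hψ (E.X 0).gr 𝒩) where
  toFun p := ⟨mapL (k := k) (Y := N) E.ε (φ p), by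
    change P0 𝒜 hkA ℬ hkB (E.X 0).gr 𝒩 (mapL (k := k) (Y := N) E.ε (φ p)) = _
    rw [P0_mapL hkA hkB ℳ (E.X 0).gr 𝒩 E.ε E.ε_grHom, P0_phi hkA hkB 𝒩 φ hφp]⟩
  map_add' a b := Subtype.ext (by
    change mapL (k := k) (Y := N) E.ε (φ (a + b)) =
      mapL (k := k) (Y := N) E.ε (φ a) + mapL (k := k) (Y := N) E.ε (φ b)
    rw [map_add, map_add])
  map_smul' t p := Subtype.ext (by
    change mapL (k := k) (Y := N) E.ε (φ (t • p)) =
      GrSeg.act k R S (E.X 0).carrier N (ψ t) (mapL (k := k) (Y := N) E.ε (φ p))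
    rw [hφs, mapL_act])

theorem epsC_coe (p : P) :
    ((epsC hkA hkB ψ hψ E 𝒩 φ hφp hφs p : ↥(W0 hkA hkB ψ hψ (E.X 0).gr 𝒩)) :
      TP ψ (E.X 0).carrier N) = mapL (k := k) (Y := N) E.ε (φ p) := rfl

theorem mapL_eps_injective : Function.Injective (mapL (k := k) (Y := N) E.ε) :=
  map_id_injective (E.ε.restrictScalars k) E.ε_injective

include hφi in
theorem epsC_injective : Function.Injective (epsC hkA hkB ψ hψ E 𝒩 φ hφp hφs) := by
  intro a b h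
  apply hφi
  apply mapL_eps_injective E
  exact congrArg Subtype.val h

theorem epsC_grHom :
    GrLC.IsGrHom 𝒬 (W0gr hkA hkB ψ hψ (E.X 0).gr 𝒩) (epsC hkA hkB ψ hψ E 𝒩 φ hφp hφs) := by
  intro e p hp
  change pp 𝒜 hkA ℬ hkB (E.X 0).gr 𝒩 e (mapL (k := k) (Y := N) E.ε (φ p)) =
    mapL (k := k) (Y := N) E.ε (φ p)
  rw [pp_mapL hkA hkB ℳ (E.X 0).gr 𝒩 E.ε E.ε_grHom, pp_phi_of_mem hkA hkB 𝒩 φ hφp hp]

theorem exact_zero :
    LinearMap.ker (dC hkA hkB ψ hψ E 𝒩 0) =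
      LinearMap.range (epsC hkA hkB ψ hψ E 𝒩 φ hφp hφs) := by
  apply le_antisymm
  · intro z hz
    have hD : mapL (k := k) (Y := N) (E.d 0) z.1 = 0 := congrArg Subtype.val hz
    have hker : LinearMap.ker ((E.d 0).restrictScalars k) =
        LinearMap.range (E.ε.restrictScalars k) := by
      ext x
      have := congrArg (fun p : Submodule R (E.X 0).carrier => x ∈ p) E.exact_zero
      exact Iff.of_eq this
    obtain ⟨w, hw⟩ := exists_of_map_eq_zero (Y := N) _ _ hker z.1 hD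
    have hw' : mapL (k := k) (Y := N) E.ε w = z.1 := hw
    have hP0 : P0 𝒜 hkA ℬ hkB ℳ 𝒩 w = w := by
      apply mapL_eps_injective E
      rw [← P0_mapL hkA hkB ℳ (E.X 0).gr 𝒩 E.ε E.ε_grHom, hw']
      exact z.2
    obtain ⟨p, hp⟩ := exists_phi_of_P0 hkA hkB 𝒩 φ hφp w hP0
    refine ⟨p, Subtype.ext ?_⟩
    rw [epsC_coe, hp, hw']
  · rintro _ ⟨p, rfl⟩
    apply Subtype.ext
    exact mapL_d_eps E (φ p)

include hφi in
/-- **`E^• # N` is a graded resolution of `M # N`.** -/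
noncomputable def bijRes : GrAcyc.GrRes 𝒯 𝒬 where
  X i := CX hkA hkB ψ hψ E 𝒩 i
  d i := dC hkA hkB ψ hψ E 𝒩 i
  ε := epsC hkA hkB ψ hψ E 𝒩 φ hφp hφs
  d_grHom i := W0map_grHom hkA hkB ψ hψ (E.X i).gr (E.X (i + 1)).gr 𝒩 (E.d i) (E.d_grHom i)
  ε_grHom := epsC_grHom hkA hkB ψ hψ E 𝒩 φ hφp hφs
  ε_injective := epsC_injective hkA hkB ψ hψ E 𝒩 φ hφi hφp hφs
  exact_zero := exact_zero hkA hkB ψ hψ E 𝒩 φ hφp hφs
  exact_succ i := exact_succ hkA hkB ψ hψ E 𝒩 i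

end Aug

end Groth.Agent.Lib.Helper20.SegBij
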