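import Mathlib
import Groth.Agent.Lib.Helper20.SegBij3
import Groth.Agent.Lib.Helper20.GDual5

/-!
# The Segre product of two graded modules, as a submodule of the tensor product
-/

set_option autoImplicit false
set_option linter.unusedSectionVars false
set_option linter.unusedVariables false
set_option linter.style.haveILetI false

universe u

open TensorProduct DirectSum

namespace Groth.Agent.Lib.Helper20.GType

open Groth.Agent.Lib.Helper26.GrProj Groth.Agent.Lib.Helper20.GrKit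
  Groth.Agent.Lib.Helper20.SegTot Groth.Agent.Lib.Helper20.SegBij Groth.Agent.Lib.Helper20.SegAc
  Groth.Agent.Lib.Helper20.GDual

variable {k : Type u} [Field k] {R S T : Type u} [CommRing R] [CommRing S] [CommRing T]
  [Algebra k R] [Algebra k S] [Algebra k T]
  {𝒜 : ℤ → AddSubgroup R} [GradedRing 𝒜] (hkA : ∀ c : k, algebraMap k R c ∈ 𝒜 0)
  {ℬ : ℤ → AddSubgroup S} [GradedRing ℬ] (hkB : ∀ c : k, algebraMap k S c ∈ ℬ 0)
  {𝒯 : ℤ → AddSubgroup T} [GradedRing 𝒯] (hkT : ∀ c : k, algebraMap k T c ∈ 𝒯 0)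
  (ψ : T →ₐ[k] R ⊗[k] S) (hψ : ∀ n t, t ∈ 𝒯 n → ψ t ∈ GrSeg.segrePiece k 𝒜 ℬ n)
  {X : Type u} [AddCommGroup X] [Module R X] [Module k X] [IsScalarTower k R X]
  (𝒳 : ℤ → AddSubgroup X) [DirectSum.Decomposition 𝒳] [SetLike.GradedSMul 𝒜 𝒳]
  {Y : Type u} [AddCommGroup Y] [Module S Y] [Module k Y] [IsScalarTower k S Y]
  (𝒴 : ℤ → AddSubgroup Y) [DirectSum.Decomposition 𝒴] [SetLike.GradedSMul ℬ 𝒴]

/-- the inclusion of the Segre product into the tensor product -/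
noncomputable def w0incl : ↥(W0 hkA hkB ψ hψ 𝒳 𝒴) →ₗ[k] X ⊗[k] Y where
  toFun z := (z.1 : X ⊗[k] Y)
  map_add' a b := rfl
  map_smul' c z := rfl

theorem w0incl_apply (z : ↥(W0 hkA hkB ψ hψ 𝒳 𝒴)) :
    w0incl hkA hkB ψ hψ 𝒳 𝒴 z = (z.1 : X ⊗[k] Y) := rfl

theorem mem_W0_of_mem_segrePiece {n : ℤ} {w : X ⊗[k] Y}
    (hw : w ∈ GrSeg.segrePiece k 𝒳 𝒴 n) : (w : TP ψ X Y) ∈ W0 hkA hkB ψ hψ 𝒳 𝒴 := by
  have h1 := pp_of_mem_segrePiece hkA hkB 𝒳 𝒴 hw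
  have h2 := pp_mem_W0 hkA hkB ψ hψ 𝒳 𝒴 n w
  rw [h1] at h2
  exact h2

/-- **The Segre product exists.** -/
theorem isSegreMod_W0 :
    GrSeg.IsSegreMod ψ 𝒳 𝒴 (W0gr hkA hkB ψ hψ 𝒳 𝒴) (w0incl hkA hkB ψ hψ 𝒳 𝒴) where
  injective := fun a b h => Subtype.ext h
  image_piece n := by
    ext w
    constructor
    · rintro ⟨z, hz, rfl⟩
      have hz' : pp 𝒜 hkA ℬ hkB 𝒳 𝒴 n z.1 = z.1 := hz
      rw [w0incl_apply, SetLike.mem_coe, ← hz']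
      exact pp_mem_segrePiece hkA hkB 𝒳 𝒴 n z.1
    · intro hw
      refine ⟨⟨w, mem_W0_of_mem_segrePiece hkA hkB ψ hψ 𝒳 𝒴 hw⟩, ?_, rfl⟩
      exact pp_of_mem_segrePiece hkA hkB 𝒳 𝒴 hw
  map_smul t p := rfl

theorem segrePiece_eq_bot_of_right {n : ℤ} (h : ∀ y ∈ 𝒴 n, y = 0) :
    GrSeg.segrePiece k 𝒳 𝒴 n = ⊥ := by
  rw [eq_bot_iff]
  unfold GrSeg.segrePiece
  rw [Submodule.span_le]
  rintro _ ⟨a, ha, b, hb, rfl⟩
  rw [h b hb, TensorProduct.tmul_zero]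
  exact zero_mem _

theorem W0gr_eq_bot_of_right {n : ℤ} (h : ∀ y ∈ 𝒴 n, y = 0) :
    W0gr hkA hkB ψ hψ 𝒳 𝒴 n = ⊥ := by
  rw [AddSubgroup.eq_bot_iff_forall]
  intro z hz
  have hz' : pp 𝒜 hkA ℬ hkB 𝒳 𝒴 n z.1 = z.1 := hz
  have h1 := pp_mem_segrePiece hkA hkB 𝒳 𝒴 n z.1
  rw [hz', segrePiece_eq_bot_of_right 𝒳 𝒴 h, Submodule.mem_bot] at h1
  exact Subtype.ext h1

/-- the dimension of a piece of the Segre product -/
theorem finrank_segrePiece (n : ℤ) :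
    Module.finrank k ↥(GrSeg.segrePiece k 𝒳 𝒴 n) =
      Module.finrank k ↥(pcK 𝒜 hkA 𝒳 n) * Module.finrank k ↥(pcK ℬ hkB 𝒴 n) := by
  rw [segrePiece_eq_range hkA hkB 𝒳 𝒴 n]
  have hinj : Function.Injective
      (TensorProduct.mapIncl (pcK 𝒜 hkA 𝒳 n) (pcK ℬ hkB 𝒴 n)) :=
    TensorProduct.map_injective_of_flat_flat _ _ (Submodule.injective_subtype _)
      (Submodule.injective_subtype _)
  rw [← (LinearEquiv.ofInjective _ hinj).finrank_eq, Module.finrank_tensorProduct]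

/-- the dimension of a piece of the Segre product module -/
theorem finrank_W0gr (n : ℤ) :
    Module.finrank k ↥(pcK 𝒯 hkT (W0gr hkA hkB ψ hψ 𝒳 𝒴) n) =
      Module.finrank k ↥(pcK 𝒜 hkA 𝒳 n) * Module.finrank k ↥(pcK ℬ hkB 𝒴 n) := by
  rw [← finrank_segrePiece hkA hkB 𝒳 𝒴 n]
  have hP := isSegreMod_W0 hkA hkB ψ hψ 𝒳 𝒴
  let f : ↥(pcK 𝒯 hkT (W0gr hkA hkB ψ hψ 𝒳 𝒴) n) →ₗ[k] ↥(GrSeg.segrePiece k 𝒳 𝒴 n) :=
    LinearMap.codRestrict (GrSeg.segrePiece k 𝒳 𝒴 n)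
      ((w0incl hkA hkB ψ hψ 𝒳 𝒴) ∘ₗ (pcK 𝒯 hkT (W0gr hkA hkB ψ hψ 𝒳 𝒴) n).subtype)
      (fun z => by
        have : w0incl hkA hkB ψ hψ 𝒳 𝒴 z.1 ∈
            (w0incl hkA hkB ψ hψ 𝒳 𝒴) '' (W0gr hkA hkB ψ hψ 𝒳 𝒴 n : Set _) := ⟨z.1, z.2, rfl⟩
        rw [hP.image_piece n] at this
        exact this)
  have hf : Function.Bijective f := by
    constructor
    · intro a b h
      apply Subtype.ext
      apply hP.injective
      have := congrArg Subtype.val h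
      exact this
    · rintro ⟨w, hw⟩
      have : w ∈ (w0incl hkA hkB ψ hψ 𝒳 𝒴) '' (W0gr hkA hkB ψ hψ 𝒳 𝒴 n : Set _) := by
        rw [hP.image_piece n]
        exact hw
      obtain ⟨z, hz, rfl⟩ := this
      exact ⟨⟨z, hz⟩, rfl⟩
  exact (LinearEquiv.ofBijective f hf).finrank_eq

end Groth.Agent.Lib.Helper20.GType
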