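import Mathlib
import Groth.Agent.Lib.Helper20.GConv1
import Groth.Agent.Lib.Helper20.GType3
import Groth.Agent.Lib.Helper20.GrVG4

/-!
# If `M # N` is free of rank one over `R # S` then `M` and `N` are generated in high degrees
-/

set_option autoImplicit false
set_option linter.unusedSectionVars false
set_option linter.unusedVariables false
set_option linter.style.haveILetI false

universe u

open TensorProduct DirectSum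

namespace Groth.Agent.Lib.Helper20.GConv

open Groth.Agent.Lib.Helper26.GrProj Groth.Agent.Lib.Helper20.GrKit
  Groth.Agent.Lib.Helper20.SegTot Groth.Agent.Lib.Helper20.SegBij Groth.Agent.Lib.Helper20.SegAc
  Groth.Agent.Lib.Helper20.GDual Groth.Agent.Lib.Helper20.GType

variable {k : Type u} [Field k] {R S T : Type u} [CommRing R] [CommRing S] [CommRing T]
  [Nontrivial T] [Algebra k R] [Algebra k S] [Algebra k T]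
  {𝒜 : ℤ → AddSubgroup R} [GradedRing 𝒜] (hkA : ∀ c : k, algebraMap k R c ∈ 𝒜 0)
  {ℬ : ℤ → AddSubgroup S} [GradedRing ℬ] (hkB : ∀ c : k, algebraMap k S c ∈ ℬ 0)
  {𝒯 : ℤ → AddSubgroup T} [GradedRing 𝒯] (hkT : ∀ c : k, algebraMap k T c ∈ 𝒯 0)
  (ψ : T →ₐ[k] R ⊗[k] S) (hψ : ∀ n t, t ∈ 𝒯 n → ψ t ∈ GrSeg.segrePiece k 𝒜 ℬ n)
  (hψs : ∀ n, ∀ z ∈ GrSeg.segrePiece k 𝒜 ℬ n, ∃ t ∈ 𝒯 n, ψ t = z)
  (hposR : ∀ n : ℤ, n < 0 → 𝒜 n = ⊥) (hposS : ∀ n : ℤ, n < 0 → ℬ n = ⊥)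
  (h0kT : ∀ x ∈ 𝒯 0, ∃ c : k, x = algebraMap k T c)
  (hneR : ∀ j : ℤ, 0 ≤ j → ∃ x ∈ 𝒜 j, x ≠ 0) (hneS : ∀ j : ℤ, 0 ≤ j → ∃ y ∈ ℬ j, y ≠ 0)
  {X : Type u} [AddCommGroup X] [Module R X] [Module k X] [IsScalarTower k R X]
  (𝒳 : ℤ → AddSubgroup X) [DirectSum.Decomposition 𝒳] [SetLike.GradedSMul 𝒜 𝒳]
  {Y : Type u} [AddCommGroup Y] [Module S Y] [Module k Y] [IsScalarTower k S Y]
  (𝒴 : ℤ → AddSubgroup Y) [DirectSum.Decomposition 𝒴] [SetLike.GradedSMul ℬ 𝒴]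
  (f : T →ₗ[T] ↥(W0 hkA hkB ψ hψ 𝒳 𝒴)) (hf : Function.Bijective f) (a : ℤ)
  (hfa : GrLC.IsGrHomDeg 𝒯 (W0gr hkA hkB ψ hψ 𝒳 𝒴) f a)

omit [Nontrivial T] in
theorem f_apply (t : T) : f t = t • f 1 := by
  rw [← map_smul, smul_eq_mul, mul_one]

omit [Nontrivial T] in
theorem coe_smul_W0 (t : T) (p : ↥(W0 hkA hkB ψ hψ 𝒳 𝒴)) :
    ((t • p : ↥(W0 hkA hkB ψ hψ 𝒳 𝒴)).1 : X ⊗[k] Y) = GrSeg.act k R S X Y (ψ t) p.1 := rfl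

include hf hfa in
omit [Nontrivial T] in
theorem exists_of_mem (n : ℤ) (p : ↥(W0 hkA hkB ψ hψ 𝒳 𝒴))
    (hp : p ∈ W0gr hkA hkB ψ hψ 𝒳 𝒴 n) : ∃ t ∈ 𝒯 (n - a), p = t • f 1 := by
  have h1 := Groth.Agent.Lib.Helper20.GrVG.symm_mem 𝒯 (W0gr hkA hkB ψ hψ 𝒳 𝒴)
    (LinearEquiv.ofBijective f hf) a hfa hp
  refine ⟨_, h1, ?_⟩
  rw [← f_apply hkA hkB ψ hψ 𝒳 𝒴 f]
  exact ((LinearEquiv.ofBijective f hf).apply_symm_apply p).symm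

include hkT h0kT hf hfa in
/-- the generator is an elementary tensor -/
theorem exists_uv : ∃ u ∈ 𝒳 a, ∃ v ∈ 𝒴 a, u ≠ 0 ∧ v ≠ 0 ∧
    ((f 1).1 : X ⊗[k] Y) = u ⊗ₜ[k] v := by
  classical
  set w := f 1 with hwdef
  have hw : w ∈ W0gr hkA hkB ψ hψ 𝒳 𝒴 a := by
    have := hfa 0 1 SetLike.GradedOne.one_mem
    rwa [zero_add] at this
  have hw0 : w ≠ 0 := fun h => one_ne_zero (hf.1 (by rw [← hwdef, h, map_zero]))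
  have hspanw : ∀ p ∈ W0gr hkA hkB ψ hψ 𝒳 𝒴 a, ∃ c : k, c • w = p := by
    intro p hp
    obtain ⟨t, ht, rfl⟩ := exists_of_mem hkA hkB ψ hψ 𝒳 𝒴 f hf a hfa a p hp
    rw [sub_self] at ht
    obtain ⟨c, rfl⟩ := h0kT t ht
    exact ⟨c, (algebraMap_smul T c w).symm⟩
  have h1 : Module.finrank k ↥(pcK 𝒯 hkT (W0gr hkA hkB ψ hψ 𝒳 𝒴) a) = 1 := by
    refine finrank_eq_one (⟨w, hw⟩ : ↥(pcK 𝒯 hkT (W0gr hkA hkB ψ hψ 𝒳 𝒴) a)) ?_ ?_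
    · intro h
      exact hw0 (congrArg Subtype.val h)
    · rintro ⟨p, hp⟩
      obtain ⟨c, hc⟩ := hspanw p hp
      exact ⟨c, Subtype.ext hc⟩
  rw [finrank_W0gr hkA hkB hkT ψ hψ 𝒳 𝒴 a] at h1
  obtain ⟨hX1, hY1⟩ := mul_eq_one.mp h1
  obtain ⟨u₀, hu₀, -⟩ := finrank_eq_one_iff'.1 hX1
  obtain ⟨v₀, hv₀, -⟩ := finrank_eq_one_iff'.1 hY1
  have hu₀' : (u₀ : X) ≠ 0 := fun h => hu₀ (Subtype.ext h)
  have hv₀' : (v₀ : Y) ≠ 0 := fun h => hv₀ (Subtype.ext h)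
  have hz : ((u₀ : X) ⊗ₜ[k] (v₀ : Y) : X ⊗[k] Y) ∈ GrSeg.segrePiece k 𝒳 𝒴 a :=
    Submodule.subset_span ⟨u₀, u₀.2, v₀, v₀.2, rfl⟩
  have hzW := mem_W0_of_mem_segrePiece hkA hkB ψ hψ 𝒳 𝒴 hz
  obtain ⟨c, hc⟩ := hspanw ⟨_, hzW⟩ (pp_of_mem_segrePiece hkA hkB 𝒳 𝒴 hz)
  obtain ⟨W, hW⟩ : ∃ W : X ⊗[k] Y, W = w.1 := ⟨_, rfl⟩
  have hc' : c • W = (u₀ : X) ⊗ₜ[k] (v₀ : Y) := by
    rw [hW]
    exact congrArg Subtype.val hc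
  have hc0 : c ≠ 0 := by
    intro h
    rw [h, zero_smul] at hc'
    exact hu₀' (tmul_eq_zero_left hv₀' hc'.symm)
  refine ⟨c⁻¹ • (u₀ : X), (pcK 𝒜 hkA 𝒳 a).smul_mem c⁻¹ u₀.2, v₀, v₀.2, ?_, hv₀', ?_⟩
  · intro h
    rcases smul_eq_zero.1 h with h' | h'
    · exact hc0 (inv_eq_zero.1 h')
    · exact hu₀' h'
  · have h3 : ((c⁻¹ • (u₀ : X)) ⊗ₜ[k] (v₀ : Y) : X ⊗[k] Y) =
        c⁻¹ • ((u₀ : X) ⊗ₜ[k] (v₀ : Y)) := (TensorProduct.smul_tmul' c⁻¹ _ _).symm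
    have h4 : W = c⁻¹ • ((u₀ : X) ⊗ₜ[k] (v₀ : Y)) := by
      rw [← hc', smul_smul, inv_mul_cancel₀ hc0, one_smul]
    exact hW.symm.trans (h4.trans h3.symm)

variable (u : X) (v : Y) (huv : ((f 1).1 : X ⊗[k] Y) = u ⊗ₜ[k] v)

include hψs hposR hneS hf huv in
omit [Nontrivial T] in
theorem smul_u_inj (j : ℤ) (x : R) (hx : x ∈ 𝒜 j) (hxu : x • u = 0) : x = 0 := by
  by_cases hj : j < 0
  · rw [hposR j hj, AddSubgroup.mem_bot] at hx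
    exact hx
  push Not at hj
  obtain ⟨y, hy, hy0⟩ := hneS j hj
  obtain ⟨t, ht, hψt⟩ := hψs j (x ⊗ₜ[k] y) (Submodule.subset_span ⟨x, hx, y, hy, rfl⟩)
  have h1 : f t = 0 := by
    rw [f_apply hkA hkB ψ hψ 𝒳 𝒴 f]
    apply Subtype.ext
    rw [coe_smul_W0, huv, hψt, GrSeg.act_tmul, hxu, TensorProduct.zero_tmul]
    rfl
  have h2 : t = 0 := hf.1 (by rw [h1, map_zero])
  rw [h2, map_zero] at hψt
  exact tmul_eq_zero_left hy0 hψt.symm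

include hψs hposS hneR hf huv in
omit [Nontrivial T] in
theorem smul_v_inj (j : ℤ) (y : S) (hy : y ∈ ℬ j) (hyv : y • v = 0) : y = 0 := by
  by_cases hj : j < 0
  · rw [hposS j hj, AddSubgroup.mem_bot] at hy
    exact hy
  push Not at hj
  obtain ⟨x, hx, hx0⟩ := hneR j hj
  obtain ⟨t, ht, hψt⟩ := hψs j (x ⊗ₜ[k] y) (Submodule.subset_span ⟨x, hx, y, hy, rfl⟩)
  have h1 : f t = 0 := by
    rw [f_apply hkA hkB ψ hψ 𝒳 𝒴 f]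
    apply Subtype.ext
    rw [coe_smul_W0, huv, hψt, GrSeg.act_tmul, hyv, TensorProduct.tmul_zero]
    rfl
  have h2 : t = 0 := hf.1 (by rw [h1, map_zero])
  rw [h2, map_zero] at hψt
  exact tmul_eq_zero_right hx0 hψt.symm

/-- the image of a piece of the Segre ring acting on the generator -/
theorem act_mem_span (n : ℤ) (ζ : R ⊗[k] S) (hζ : ζ ∈ GrSeg.segrePiece k 𝒜 ℬ n) :
    GrSeg.act k R S X Y ζ (u ⊗ₜ[k] v) ∈ Submodule.span k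
      {z : X ⊗[k] Y | ∃ a' ∈ (pcK 𝒜 hkA 𝒜 n).map
          ((LinearMap.toSpanSingleton R X u).restrictScalars k),
        ∃ b' ∈ {b' : Y | ∃ y ∈ ℬ n, b' = y • v}, z = a' ⊗ₜ[k] b'} := by
  refine Submodule.span_induction (p := fun ζ _ => GrSeg.act k R S X Y ζ (u ⊗ₜ[k] v) ∈
    Submodule.span k {z : X ⊗[k] Y | ∃ a' ∈ (pcK 𝒜 hkA 𝒜 n).map
          ((LinearMap.toSpanSingleton R X u).restrictScalars k),
        ∃ b' ∈ {b' : Y | ∃ y ∈ ℬ n, b' = y • v}, z = a' ⊗ₜ[k] b'}) ?_ ?_ ?_ ?_ hζ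
  · rintro _ ⟨x, hx, y, hy, rfl⟩
    rw [GrSeg.act_tmul]
    exact Submodule.subset_span ⟨x • u, ⟨x, hx, rfl⟩, y • v, ⟨y, hy, rfl⟩, rfl⟩
  · rw [map_zero, LinearMap.zero_apply]
    exact zero_mem _
  · intro p q _ _ hp hq
    rw [map_add, LinearMap.add_apply]
    exact add_mem hp hq
  · intro c p _ hp
    rw [map_smul, LinearMap.smul_apply]
    exact Submodule.smul_mem _ c hp

include hψs hposS hneR hneS hf hfa huv in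
omit [Nontrivial T] in
/-- `M` is generated by `u` in degrees at least `a` -/
theorem exists_smul_u_eq (hv : v ∈ 𝒴 a) (n : ℤ) (hn : a ≤ n) (c : X) (hc : c ∈ 𝒳 n) :
    ∃ x ∈ 𝒜 (n - a), c = x • u := by
  obtain ⟨y₀, hy₀, hy₀0⟩ := hneS (n - a) (by omega)
  have hyv0 : y₀ • v ≠ 0 := fun h => hy₀0
    (smul_v_inj hkA hkB ψ hψ hψs hposS hneR 𝒳 𝒴 f hf u v huv (n - a) y₀ hy₀ h)
  have hyv : y₀ • v ∈ 𝒴 n := by
    have := SetLike.GradedSMul.smul_mem (A := ℬ) (B := 𝒴) hy₀ hv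
    rwa [vadd_eq_add, sub_add_cancel] at this
  have hz : (c ⊗ₜ[k] (y₀ • v) : X ⊗[k] Y) ∈ GrSeg.segrePiece k 𝒳 𝒴 n :=
    Submodule.subset_span ⟨c, hc, _, hyv, rfl⟩
  have hzW := mem_W0_of_mem_segrePiece hkA hkB ψ hψ 𝒳 𝒴 hz
  obtain ⟨t, ht, hp⟩ := exists_of_mem hkA hkB ψ hψ 𝒳 𝒴 f hf a hfa n ⟨_, hzW⟩
    (pp_of_mem_segrePiece hkA hkB 𝒳 𝒴 hz)
  have h1 : (c ⊗ₜ[k] (y₀ • v) : X ⊗[k] Y) = GrSeg.act k R S X Y (ψ t) (u ⊗ₜ[k] v) := by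
    have h0 := congrArg Subtype.val hp
    have h0' : (c ⊗ₜ[k] (y₀ • v) : X ⊗[k] Y) =
        GrSeg.act k R S X Y (ψ t) ((f 1).1 : X ⊗[k] Y) := h0
    rw [huv] at h0'
    exact h0'
  have h2 := act_mem_span hkA u v (n - a) (ψ t) (hψ (n - a) t ht)
  rw [← h1] at h2
  have h3 := mem_of_tmul_mem_span _ _ hyv0 h2
  obtain ⟨x, hx, hxc⟩ := h3
  exact ⟨x, hx, hxc.symm⟩

/-- the image of a piece of the Segre ring acting on the generator, the other side -/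
theorem act_mem_span' (n : ℤ) (ζ : R ⊗[k] S) (hζ : ζ ∈ GrSeg.segrePiece k 𝒜 ℬ n) :
    GrSeg.act k R S X Y ζ (u ⊗ₜ[k] v) ∈ Submodule.span k
      {z : X ⊗[k] Y | ∃ a' ∈ {a' : X | ∃ x ∈ 𝒜 n, a' = x • u},
        ∃ b' ∈ (pcK ℬ hkB ℬ n).map ((LinearMap.toSpanSingleton S Y v).restrictScalars k),
        z = a' ⊗ₜ[k] b'} := by
  refine Submodule.span_induction (p := fun ζ _ => GrSeg.act k R S X Y ζ (u ⊗ₜ[k] v) ∈
    Submodule.span k {z : X ⊗[k] Y | ∃ a' ∈ {a' : X | ∃ x ∈ 𝒜 n, a' = x • u},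
        ∃ b' ∈ (pcK ℬ hkB ℬ n).map ((LinearMap.toSpanSingleton S Y v).restrictScalars k),
        z = a' ⊗ₜ[k] b'}) ?_ ?_ ?_ ?_ hζ
  · rintro _ ⟨x, hx, y, hy, rfl⟩
    rw [GrSeg.act_tmul]
    exact Submodule.subset_span ⟨x • u, ⟨x, hx, rfl⟩, y • v, ⟨y, hy, rfl⟩, rfl⟩
  · rw [map_zero, LinearMap.zero_apply]
    exact zero_mem _
  · intro p q _ _ hp hq
    rw [map_add, LinearMap.add_apply]
    exact add_mem hp hq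
  · intro c p _ hp
    rw [map_smul, LinearMap.smul_apply]
    exact Submodule.smul_mem _ c hp

include hψs hposR hneR hneS hf hfa huv in
omit [Nontrivial T] in
/-- `N` is generated by `v` in degrees at least `a` -/
theorem exists_smul_v_eq (hu : u ∈ 𝒳 a) (n : ℤ) (hn : a ≤ n) (c : Y) (hc : c ∈ 𝒴 n) :
    ∃ y ∈ ℬ (n - a), c = y • v := by
  obtain ⟨x₀, hx₀, hx₀0⟩ := hneR (n - a) (by omega)
  have hxu0 : x₀ • u ≠ 0 := fun h => hx₀0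
    (smul_u_inj hkA hkB ψ hψ hψs hposR hneS 𝒳 𝒴 f hf u v huv (n - a) x₀ hx₀ h)
  have hxu : x₀ • u ∈ 𝒳 n := by
    have := SetLike.GradedSMul.smul_mem (A := 𝒜) (B := 𝒳) hx₀ hu
    rwa [vadd_eq_add, sub_add_cancel] at this
  have hz : ((x₀ • u) ⊗ₜ[k] c : X ⊗[k] Y) ∈ GrSeg.segrePiece k 𝒳 𝒴 n :=
    Submodule.subset_span ⟨_, hxu, c, hc, rfl⟩
  have hzW := mem_W0_of_mem_segrePiece hkA hkB ψ hψ 𝒳 𝒴 hz
  obtain ⟨t, ht, hp⟩ := exists_of_mem hkA hkB ψ hψ 𝒳 𝒴 f hf a hfa n ⟨_, hzW⟩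
    (pp_of_mem_segrePiece hkA hkB 𝒳 𝒴 hz)
  have h1 : ((x₀ • u) ⊗ₜ[k] c : X ⊗[k] Y) = GrSeg.act k R S X Y (ψ t) (u ⊗ₜ[k] v) := by
    have h0 := congrArg Subtype.val hp
    have h0' : ((x₀ • u) ⊗ₜ[k] c : X ⊗[k] Y) =
        GrSeg.act k R S X Y (ψ t) ((f 1).1 : X ⊗[k] Y) := h0
    rw [huv] at h0'
    exact h0'
  have h2 := act_mem_span' hkB u v (n - a) (ψ t) (hψ (n - a) t ht)
  rw [← h1] at h2
  have h3 := mem_of_tmul_mem_span_left _ _ hxu0 h2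
  obtain ⟨y, hy, hyc⟩ := h3
  exact ⟨y, hy, hyc.symm⟩

end Groth.Agent.Lib.Helper20.GConv
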