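import Mathlib
import Groth.Prelude.Def_GrLC
import Groth.Agent.Lib.Helper20.GrKit10

/-!
# The degree zero subring of a Noetherian graded ring, and ideals generated in degree zero
-/

set_option autoImplicit false
set_option linter.unusedSectionVars false
set_option linter.unusedVariables false

namespace Groth.Agent.Lib.Helper20.GrDeg

open Groth.Agent.Lib.Helper20.GrKit DirectSum Groth.Agent.Lib.Helper26.GrProj

universe u

section

variable {ι : Type} [AddCommGroup ι] [DecidableEq ι] {R : Type u} [CommRing R]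
  (𝒜 : ι → AddSubgroup R) [GradedRing 𝒜]

theorem algebraMap_deg0 (b : GrLC.deg0 𝒜) : algebraMap (GrLC.deg0 𝒜) R b = (b : R) := rfl

theorem deg0_smul_def {X : Type u} [AddCommGroup X] [Module R X] (b : GrLC.deg0 𝒜) (x : X) :
    b • x = (b : R) • x := rfl

/-- the degree zero subring of a Noetherian graded ring is Noetherian -/
theorem deg0_isNoetherianRing [IsNoetherianRing R] : IsNoetherianRing (GrLC.deg0 𝒜) := by
  classical
  rw [isNoetherianRing_iff_ideal_fg]
  intro J
  have hfg : (Ideal.span ((algebraMap (GrLC.deg0 𝒜) R) '' (J : Set (GrLC.deg0 𝒜)))).FG :=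
    IsNoetherian.noetherian _
  obtain ⟨s', hs'sub, hs'⟩ := (Submodule.fg_span_iff_fg_span_finset_subset _).1 hfg
  -- pull back the generators
  have hpre : ∀ v ∈ s', ∃ b : GrLC.deg0 𝒜, b ∈ J ∧ (b : R) = v := by
    intro v hv
    obtain ⟨b, hb, rfl⟩ := hs'sub hv
    exact ⟨b, hb, rfl⟩
  choose! β hβJ hβ using hpre
  refine ⟨s'.image β, ?_⟩
  apply le_antisymm
  · rw [Ideal.span_le]
    intro b hb
    obtain ⟨v, hv, rfl⟩ := Finset.mem_image.1 hb
    exact hβJ v hv
  · intro x hx
    have hxR : (x : R) ∈ Submodule.span R (s' : Set R) := by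
      have : (x : R) ∈ Ideal.span ((algebraMap (GrLC.deg0 𝒜) R) '' (J : Set (GrLC.deg0 𝒜))) :=
        Ideal.subset_span ⟨x, hx, rfl⟩
      rw [Ideal.span, hs'] at this
      exact this
    obtain ⟨c, -, hc⟩ := Submodule.mem_span_finset.1 hxR
    have hx0 : proj 𝒜 0 (x : R) = x := proj_of_mem_same 𝒜 x.2
    have hsum : (x : R) = ∑ v ∈ s', proj 𝒜 0 (c v) * v := by
      rw [← hx0, ← hc, proj_sum]
      apply Finset.sum_congr rfl
      intro v hv
      have hv0 : v ∈ 𝒜 0 := by
        rw [← hβ v hv]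
        exact (β v).2
      have h2 := proj_smul_of_mem_right 𝒜 𝒜 hv0 0 (c v)
      rw [sub_self] at h2
      exact h2
    have hx' : x = ∑ v ∈ s', (⟨proj 𝒜 0 (c v), proj_mem 𝒜 0 (c v)⟩ : GrLC.deg0 𝒜) * β v := by
      apply Subtype.ext
      rw [hsum]
      simp only [AddSubmonoidClass.coe_finset_sum, Subring.coe_mul]
      apply Finset.sum_congr rfl
      intro v hv
      rw [hβ v hv]
    rw [hx']
    apply Ideal.sum_mem
    intro v hv
    apply Ideal.mul_mem_left
    exact Ideal.subset_span (Finset.mem_image_of_mem β hv)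

end

end Groth.Agent.Lib.Helper20.GrDeg
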