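import Mathlib
import Groth.Agent.Lib.Helper20.GrDeg1

/-!
# Ideals generated in degree zero: torsion over `R` and over `R_0`
-/

set_option autoImplicit false
set_option linter.unusedSectionVars false
set_option linter.unusedVariables false

namespace Groth.Agent.Lib.Helper20.GrDeg

open Groth.Agent.Lib.Helper20.GrKit DirectSum Groth.Agent.Lib.Helper26.GrProj

universe u

section

variable {ι : Type} [AddCommGroup ι] [DecidableEq ι] {R : Type u} [CommRing R]
  (𝒜 : ι → AddSubgroup R) [GradedRing 𝒜] (a : HomogeneousIdeal 𝒜)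
  (ha : a.toIdeal = Ideal.span ((a : Set R) ∩ (𝒜 0 : AddSubgroup R)))

include ha in
theorem map_comap_deg0 :
    (a.toIdeal.comap (GrLC.deg0 𝒜).subtype).map (algebraMap (GrLC.deg0 𝒜) R) = a.toIdeal := by
  apply le_antisymm
  · rw [Ideal.map_le_iff_le_comap]
    exact le_rfl
  · conv_lhs => rw [ha]
    rw [Ideal.span_le]
    rintro x ⟨hxa, hx0⟩
    exact Ideal.mem_map_of_mem _ (show (⟨x, hx0⟩ : GrLC.deg0 𝒜) ∈
      a.toIdeal.comap (GrLC.deg0 𝒜).subtype from hxa)

include ha in
theorem mem_gam_iff {X : Type u} [AddCommGroup X] [Module R X] (x : X) :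
    x ∈ GrLC.gam a.toIdeal X ↔ x ∈ GrLC.gam (a.toIdeal.comap (GrLC.deg0 𝒜).subtype) X := by
  constructor
  · rintro ⟨n, hn⟩
    refine ⟨n, fun b hb => ?_⟩
    have h1 : (b : R) ∈ a.toIdeal ^ n := by
      rw [← map_comap_deg0 𝒜 a ha, ← Ideal.map_pow]
      exact Ideal.mem_map_of_mem _ hb
    exact hn _ h1
  · rintro ⟨n, hn⟩
    refine ⟨n, fun r hr => ?_⟩
    rw [← map_comap_deg0 𝒜 a ha, ← Ideal.map_pow] at hr
    refine Submodule.span_induction (p := fun r _ => r • x = 0) ?_ ?_ ?_ ?_ hr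
    · rintro _ ⟨b, hb, rfl⟩
      exact hn b hb
    · exact zero_smul _ _
    · intro r s _ _ hr hs
      rw [add_smul, hr, hs, add_zero]
    · intro c r _ hr
      rw [smul_eq_mul, mul_smul, hr, smul_zero]

end

end Groth.Agent.Lib.Helper20.GrDeg
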