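import Mathlib
import Groth.Agent.Lib.Helper20.GrDeg2
import Groth.Agent.Lib.Helper20.AcRes

/-!
# The degree `h` pieces of a *injective resolution form a resolution of `M_h` over `R_0`
-/

set_option autoImplicit false
set_option linter.unusedSectionVars false
set_option linter.unusedVariables false

namespace Groth.Agent.Lib.Helper20.GrDeg

open Groth.Agent.Lib.Helper20.GrKit DirectSum Groth.Agent.Lib.Helper26.GrProj
  Groth.Agent.Lib.Helper20.AcRes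

universe u

section

variable {ι : Type} [AddCommGroup ι] [DecidableEq ι] {R : Type u} [CommRing R]
  (𝒜 : ι → AddSubgroup R) [GradedRing 𝒜]

section CompMap

variable {X : Type u} [AddCommGroup X] [Module R X] (𝒳 : ι → AddSubgroup X)
  [DirectSum.Decomposition 𝒳] [SetLike.GradedSMul 𝒜 𝒳]
  {Y : Type u} [AddCommGroup Y] [Module R Y] (𝒴 : ι → AddSubgroup Y)
  [DirectSum.Decomposition 𝒴] [SetLike.GradedSMul 𝒜 𝒴]

/-- restriction of a graded map to the degree `h` pieces -/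
def compMap (f : X →ₗ[R] Y) (hf : GrLC.IsGrHom 𝒳 𝒴 f) (h : ι) :
    ↥(GrLC.comp 𝒜 𝒳 h) →ₗ[GrLC.deg0 𝒜] ↥(GrLC.comp 𝒜 𝒴 h) :=
  (f.restrictScalars (GrLC.deg0 𝒜)).restrict (fun x hx => hf h x hx)

theorem compMap_coe (f : X →ₗ[R] Y) (hf : GrLC.IsGrHom 𝒳 𝒴 f) (h : ι)
    (x : ↥(GrLC.comp 𝒜 𝒳 h)) : ((compMap 𝒜 𝒳 𝒴 f hf h x : ↥(GrLC.comp 𝒜 𝒴 h)) : Y) = f x := rfl

theorem compMap_injective (f : X →ₗ[R] Y) (hf : GrLC.IsGrHom 𝒳 𝒴 f) (h : ι)
    (hinj : Function.Injective f) : Function.Injective (compMap 𝒜 𝒳 𝒴 f hf h) := by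
  intro x y hxy
  apply Subtype.ext
  apply hinj
  exact congrArg Subtype.val hxy

theorem compMap_exact {Z : Type u} [AddCommGroup Z] [Module R Z] (𝒵 : ι → AddSubgroup Z)
    [DirectSum.Decomposition 𝒵] [SetLike.GradedSMul 𝒜 𝒵]
    (f : X →ₗ[R] Y) (hf : GrLC.IsGrHom 𝒳 𝒴 f) (g : Y →ₗ[R] Z) (hg : GrLC.IsGrHom 𝒴 𝒵 g)
    (hex : LinearMap.ker g = LinearMap.range f) (h : ι) :
    LinearMap.ker (compMap 𝒜 𝒴 𝒵 g hg h) = LinearMap.range (compMap 𝒜 𝒳 𝒴 f hf h) := by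
  ext y
  rw [LinearMap.mem_ker, LinearMap.mem_range]
  constructor
  · intro hy
    have hy' : g (y : Y) = 0 := congrArg Subtype.val hy
    have hyr : (y : Y) ∈ LinearMap.range f := by
      rw [← hex]
      exact hy'
    obtain ⟨x, hx⟩ := hyr
    refine ⟨⟨proj 𝒳 h x, proj_mem 𝒳 h x⟩, ?_⟩
    apply Subtype.ext
    rw [compMap_coe]
    change f (proj 𝒳 h x) = y
    rw [← proj_hom 𝒳 𝒴 f hf h x, hx]
    exact proj_of_mem_same 𝒴 y.2
  · rintro ⟨x, rfl⟩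
    apply Subtype.ext
    rw [compMap_coe, compMap_coe]
    have : f (x : X) ∈ LinearMap.ker g := by
      rw [hex]
      exact ⟨x, rfl⟩
    exact this

end CompMap

variable {M : Type u} [AddCommGroup M] [Module R M] (ℳ : ι → AddSubgroup M)
  [DirectSum.Decomposition ℳ] [SetLike.GradedSMul 𝒜 ℳ] (E : GrLC.StarInjRes 𝒜 ℳ) (h : ι)

/-- the resolution of `M_h` by the degree `h` pieces -/
def degRes : Res (GrLC.deg0 𝒜) ↥(GrLC.comp 𝒜 ℳ h) where
  X := fun n => ↥(GrLC.comp 𝒜 (E.X n).gr h)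
  d := fun n => compMap 𝒜 (E.X n).gr (E.X (n + 1)).gr (E.d n) (E.d_grHom n) h
  ε := compMap 𝒜 ℳ (E.X 0).gr E.ε E.ε_grHom h
  ε_injective := compMap_injective 𝒜 ℳ (E.X 0).gr E.ε E.ε_grHom h E.ε_injective
  exact_zero := compMap_exact 𝒜 ℳ (E.X 0).gr (E.X 1).gr E.ε E.ε_grHom (E.d 0) (E.d_grHom 0)
    E.exact_zero h
  exact_succ := fun n => compMap_exact 𝒜 (E.X n).gr (E.X (n + 1)).gr (E.X (n + 1 + 1)).gr
    (E.d n) (E.d_grHom n) (E.d (n + 1)) (E.d_grHom (n + 1)) (E.exact_succ n) h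

end

end Groth.Agent.Lib.Helper20.GrDeg
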