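import Mathlib
import Groth.Prelude.Def_GrLC
import Groth.Agent.Lib.Helper20.GrStarLoc
import Groth.Agent.Lib.Helper20.GrArt2
import Groth.Agent.Lib.Helper20.GrLES17
import Groth.Agent.Lib.helper11.SG5

/-!
# Standard graded rings over a field: pieces, powers of the irrelevant ideal
-/

set_option autoImplicit false
set_option linter.unusedSectionVars false
set_option linter.unusedVariables false
set_option linter.style.haveILetI false

namespace Groth.Agent.Lib.Helper20.GrPoly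

open DirectSum Groth.Agent.Lib.Helper26.GrProj Groth.Agent.Lib.Helper20.GrKit
  Groth.Agent.Lib.Helper20.GrLES Groth.Agent.Lib.Helper20.GrArt
  Groth.Agent.Lib.Helper20.GrStarLoc

universe u

section Std

variable {R : Type u} [CommRing R] (𝒜 : ℤ → AddSubgroup R) [GradedRing 𝒜]
  (hpos : ∀ n : ℤ, n < 0 → 𝒜 n = ⊥)
  (hstd : Ideal.span (⋃ n ∈ Set.Ioi (0 : ℤ), (𝒜 n : Set R)) =
    Ideal.span ((𝒜 1 : AddSubgroup R) : Set R))

include hstd in
/-- decomposition of an element of degree `n + 1` in a standard graded ring -/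
theorem exists_decomp (n : ℕ) (x : R) (hx : x ∈ 𝒜 ((n : ℤ) + 1)) :
    ∃ (t : Finset R) (c : R → R), (∀ a ∈ t, a ∈ 𝒜 1) ∧ (∀ a ∈ t, c a ∈ 𝒜 (n : ℤ)) ∧
      x = ∑ a ∈ t, c a * a := by
  classical
  have hx1 : x ∈ Ideal.span ((𝒜 1 : AddSubgroup R) : Set R) := by
    rw [← hstd]
    apply Ideal.subset_span
    simp only [Set.mem_iUnion, Set.mem_Ioi, SetLike.mem_coe, exists_prop]
    exact ⟨(n : ℤ) + 1, by omega, hx⟩
  obtain ⟨f, t, hts, hft, hsum⟩ := Submodule.mem_span_iff_exists_finset_subset.1 hx1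
  refine ⟨t, fun a => proj 𝒜 (n : ℤ) (f a), fun a ha => hts ha, fun a _ => proj_mem 𝒜 _ _, ?_⟩
  conv_lhs => rw [← proj_of_mem_same 𝒜 hx, ← hsum, proj_sum]
  refine Finset.sum_congr rfl fun a ha => ?_
  have h1 := proj_smul_of_mem_right 𝒜 𝒜 (hts ha : a ∈ 𝒜 1) ((n : ℤ) + 1) (f a)
  rw [h1, smul_eq_mul]
  have e : (n : ℤ) + 1 - 1 = (n : ℤ) := by ring
  rw [e]

include hstd in
theorem mem_pow (J : Ideal R) (hJ : ∀ a ∈ 𝒜 1, a ∈ J) :
    ∀ (n : ℕ) (x : R), x ∈ 𝒜 (n : ℤ) → x ∈ J ^ n := by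
  intro n
  induction n with
  | zero =>
    intro x _
    rw [pow_zero, Ideal.one_eq_top]
    exact Submodule.mem_top
  | succ n ih =>
    intro x hx
    have hx' : x ∈ 𝒜 ((n : ℤ) + 1) := by
      have e : ((n + 1 : ℕ) : ℤ) = (n : ℤ) + 1 := by push_cast; ring
      rwa [e] at hx
    obtain ⟨t, c, ht, hc, rfl⟩ := exists_decomp 𝒜 hstd n x hx'
    apply Ideal.sum_mem
    intro a ha
    rw [pow_succ]
    exact Ideal.mul_mem_mul (ih _ (hc a ha)) (hJ a (ht a ha))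

include hstd in
theorem mem_subring_of_mem (S : Subring R) (h0 : ∀ a ∈ 𝒜 0, a ∈ S) (h1 : ∀ a ∈ 𝒜 1, a ∈ S) :
    ∀ (n : ℕ) (x : R), x ∈ 𝒜 (n : ℤ) → x ∈ S := by
  intro n
  induction n with
  | zero =>
    intro x hx
    exact h0 x (by simpa using hx)
  | succ n ih =>
    intro x hx
    have hx' : x ∈ 𝒜 ((n : ℤ) + 1) := by
      have e : ((n + 1 : ℕ) : ℤ) = (n : ℤ) + 1 := by push_cast; ring
      rwa [e] at hx
    obtain ⟨t, c, ht, hc, rfl⟩ := exists_decomp 𝒜 hstd n x hx'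
    apply Subring.sum_mem
    intro a ha
    exact S.mul_mem (ih _ (hc a ha)) (h1 a (ht a ha))

include hstd hpos in
theorem mem_subring (S : Subring R) (h0 : ∀ a ∈ 𝒜 0, a ∈ S) (h1 : ∀ a ∈ 𝒜 1, a ∈ S) (x : R) :
    x ∈ S := by
  classical
  rw [← sum_proj 𝒜 x]
  apply Subring.sum_mem
  intro g _
  by_cases hg : g < 0
  · have := proj_mem 𝒜 g x
    rw [hpos g hg, AddSubgroup.mem_bot] at this
    rw [this]
    exact S.zero_mem
  · have hg' : ((g.toNat : ℕ) : ℤ) = g := Int.toNat_of_nonneg (by omega)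
    apply mem_subring_of_mem 𝒜 hstd S h0 h1 g.toNat
    rw [hg']
    exact proj_mem 𝒜 g x

end Std

section Pow

variable {R : Type u} [CommRing R] (𝒜 : ℤ → AddSubgroup R) [GradedRing 𝒜]
  (hpos : ∀ n : ℤ, n < 0 → 𝒜 n = ⊥)
  (m : HomogeneousIdeal 𝒜)
  (hmsp : m.toIdeal = Ideal.span (⋃ n ∈ Set.Ioi (0 : ℤ), (𝒜 n : Set R)))
  (hstd : Ideal.span (⋃ n ∈ Set.Ioi (0 : ℤ), (𝒜 n : Set R)) =
    Ideal.span ((𝒜 1 : AddSubgroup R) : Set R))

include hmsp in
theorem pow_le_geSub (t : ℕ) : m.toIdeal ^ t ≤ geSub 𝒜 hpos 𝒜 (t : ℤ) := by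
  intro r hr
  have h1 : (1 : R) ∈ geSub 𝒜 hpos 𝒜 0 := by
    intro l hl
    have := proj_mem 𝒜 l (1 : R)
    rw [hpos l hl, AddSubgroup.mem_bot] at this
    exact this
  have := Groth.Agent.Lib.helper11.SG5.pow_smul_mem_geSub 𝒜 hpos m hmsp 𝒜 t r hr 0 1 h1
  rwa [smul_eq_mul, mul_one, zero_add] at this

include hmsp hstd in
theorem one_mem_irr (a : R) (ha : a ∈ 𝒜 1) : a ∈ m.toIdeal := by
  rw [hmsp]
  apply Ideal.subset_span
  simp only [Set.mem_iUnion, Set.mem_Ioi, SetLike.mem_coe, exists_prop]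
  exact ⟨1, one_pos, ha⟩

include hmsp hstd in
theorem geSub_le_pow (t : ℕ) : geSub 𝒜 hpos 𝒜 (t : ℤ) ≤ m.toIdeal ^ t := by
  classical
  intro y hy
  rw [← sum_proj 𝒜 y]
  apply Ideal.sum_mem
  intro g _
  by_cases hg : g < (t : ℤ)
  · rw [hy g hg]
    exact zero_mem _
  · have hg' : ((g.toNat : ℕ) : ℤ) = g := Int.toNat_of_nonneg (by omega)
    have h1 : proj 𝒜 g y ∈ m.toIdeal ^ g.toNat := by
      apply mem_pow 𝒜 hstd m.toIdeal (one_mem_irr 𝒜 m hmsp hstd) g.toNat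
      rw [hg']
      exact proj_mem 𝒜 g y
    have hle : t ≤ g.toNat := by omega
    exact Ideal.pow_le_pow_right hle h1

end Pow

end Groth.Agent.Lib.Helper20.GrPoly
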