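import Mathlib
import Groth.Prelude.Def_GrLC
import Groth.Agent.Lib.Helper26.GrProj
import Groth.Agent.Lib.Helper20.GrPoly1

/-!
# A standard graded ring modulo a hyperplane of linear forms has dimension at most one
-/

set_option autoImplicit false
set_option linter.unusedSectionVars false
set_option linter.unusedVariables false
set_option linter.style.haveILetI false

namespace Groth.Agent.Lib.Helper20.GrVL

open DirectSum Groth.Agent.Lib.Helper26.GrProj Polynomial

universe u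

variable {R : Type u} [CommRing R] (𝒜 : ℤ → AddSubgroup R) [GradedRing 𝒜]
  (hpos : ∀ n : ℤ, n < 0 → 𝒜 n = ⊥) (h0 : IsField (GrLC.deg0 𝒜))
  (hstd : Ideal.span (⋃ n ∈ Set.Ioi (0 : ℤ), (𝒜 n : Set R)) =
    Ideal.span ((𝒜 1 : AddSubgroup R) : Set R))

include hpos h0 hstd in
theorem ringKrullDim_quot_le_one (J : Ideal R) (x₀ : R)
    (hJ : ∀ y ∈ 𝒜 1, ∃ c ∈ 𝒜 0, y - c * x₀ ∈ J) : ringKrullDim (R ⧸ J) ≤ 1 := by
  classical
  letI : Field (GrLC.deg0 𝒜) := h0.toField
  let f : (GrLC.deg0 𝒜)[X] →+* R ⧸ J :=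
    Polynomial.eval₂RingHom ((Ideal.Quotient.mk J).comp (GrLC.deg0 𝒜).subtype)
      (Ideal.Quotient.mk J x₀)
  have hfC : ∀ c : GrLC.deg0 𝒜, f (C c) = Ideal.Quotient.mk J (c : R) := by
    intro c
    change Polynomial.eval₂ _ _ (C c) = _
    rw [Polynomial.eval₂_C]
    rfl
  have hfX : f X = Ideal.Quotient.mk J x₀ := by
    change Polynomial.eval₂ _ _ X = _
    rw [Polynomial.eval₂_X]
  have key : ∀ (i : ℕ) (r : R), r ∈ 𝒜 (i : ℤ) → Ideal.Quotient.mk J r ∈ f.range := by
    intro i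
    induction i with
    | zero =>
      intro r hr
      rw [Nat.cast_zero] at hr
      exact ⟨C ⟨r, hr⟩, hfC _⟩
    | succ i ih =>
      intro r hr
      rw [Nat.cast_succ] at hr
      obtain ⟨t, c, ht, hc, rfl⟩ := Groth.Agent.Lib.Helper20.GrPoly.exists_decomp 𝒜 hstd i r hr
      rw [map_sum]
      refine Subring.sum_mem _ fun a ha => ?_
      rw [map_mul]
      refine Subring.mul_mem _ (ih _ (hc a ha)) ?_
      obtain ⟨c₀, hc₀, hmem⟩ := hJ a (ht a ha)
      have h1 : Ideal.Quotient.mk J a = Ideal.Quotient.mk J (c₀ * x₀) := by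
        rw [Ideal.Quotient.eq]
        exact hmem
      rw [h1, map_mul]
      exact Subring.mul_mem _ ⟨C ⟨c₀, hc₀⟩, hfC _⟩ ⟨X, hfX⟩
  have hsurj : Function.Surjective f := by
    intro y
    obtain ⟨r, rfl⟩ := Ideal.Quotient.mk_surjective y
    rw [← RingHom.mem_range, ← sum_proj 𝒜 r, map_sum]
    refine Subring.sum_mem _ fun i _ => ?_
    by_cases hi : i < 0
    · have := proj_mem 𝒜 i r
      rw [hpos i hi, AddSubgroup.mem_bot] at this
      rw [this, map_zero]
      exact Subring.zero_mem _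
    · obtain ⟨k, rfl⟩ := Int.eq_ofNat_of_zero_le (not_lt.1 hi)
      exact key k _ (proj_mem 𝒜 _ r)
  calc ringKrullDim (R ⧸ J) ≤ ringKrullDim (GrLC.deg0 𝒜)[X] :=
        ringKrullDim_le_of_surjective f hsurj
    _ = ringKrullDim (GrLC.deg0 𝒜) + 1 := Polynomial.ringKrullDim_of_isNoetherianRing
    _ = 1 := by rw [ringKrullDim_eq_zero_of_isField h0, zero_add]

end Groth.Agent.Lib.Helper20.GrVL
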