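import Mathlib
import Groth.Prelude.Def_GrLC
import Groth.Agent.Lib.Helper26.GrProj
import Groth.Agent.Lib.Helper20.GrLES8

/-!
# Graded local cohomology as a functor on homogeneous maps of arbitrary degree

`Hdeg E F a i e f` is the map `H^i_a(M) → H^i_a(N)` induced by a linear map `f : M → N` homogeneous
of degree `e`; it is additive, functorial, and compatible with multiplication by homogeneous
elements.
-/

set_option autoImplicit false
set_option linter.unusedSectionVars false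
set_option linter.unusedVariables false

namespace Groth.Agent.Lib.Helper20.GrW

open DirectSum Groth.Agent.Lib.Helper26.GrProj Groth.Agent.Lib.Helper20.GrKit
  Groth.Agent.Lib.Helper20.GrLES

universe u

variable {ι : Type} [AddCommGroup ι] [DecidableEq ι] {R : Type u} [CommRing R]
  {𝒜 : ι → AddSubgroup R} [GradedRing 𝒜]
  {M : Type u} [AddCommGroup M] [Module R M] {ℳ : ι → AddSubgroup M}
  [DirectSum.Decomposition ℳ] [SetLike.GradedSMul 𝒜 ℳ]
  {N : Type u} [AddCommGroup N] [Module R N] {𝒩 : ι → AddSubgroup N}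
  [DirectSum.Decomposition 𝒩] [SetLike.GradedSMul 𝒜 𝒩]
  {L : Type u} [AddCommGroup L] [Module R L] {ℒ : ι → AddSubgroup L}
  [DirectSum.Decomposition ℒ] [SetLike.GradedSMul 𝒜 ℒ]

theorem isGrHom_shift_of_deg {f : M →ₗ[R] N} {e : ι} (hf : GrLC.IsGrHomDeg ℳ 𝒩 f e) :
    GrLC.IsGrHom (shiftGr ℳ e) 𝒩 f := by
  intro g m hm
  have hm' : m ∈ ℳ (g - e) := hm
  have := hf (g - e) m hm'
  rwa [sub_add_cancel] at this

section CMapOps

variable {E : GrLC.StarInjRes 𝒜 ℳ} {F : GrLC.StarInjRes 𝒜 𝒩} {G : GrLC.StarInjRes 𝒜 ℒ}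

/-- sum of chain maps -/
noncomputable def cadd (φ ψ : CMap E F) : CMap E F where
  f n := φ.f n + ψ.f n
  f_grHom n := fun g x hx => add_mem (φ.f_grHom n g x hx) (ψ.f_grHom n g x hx)
  comm n x := by
    rw [LinearMap.add_apply, map_add, φ.comm, ψ.comm, LinearMap.add_apply]

theorem Hmap_cadd (φ ψ : CMap E F) (a : HomogeneousIdeal 𝒜) (i : ℕ) :
    (cadd φ ψ).Hmap a i = φ.Hmap a i + ψ.Hmap a i := by
  apply LinearMap.ext
  intro x
  obtain ⟨z, rfl⟩ := toH_surjective E a i x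
  rw [LinearMap.add_apply, CMap.Hmap_toH, CMap.Hmap_toH, CMap.Hmap_toH, ← map_add]
  congr 1

/-- composition of chain maps of degrees `e` and `e'` -/
noncomputable def shiftComp {e e' : ι} (ψ : CMap (shiftRes F e') G) (φ : CMap (shiftRes E e) F) :
    CMap (shiftRes E (e + e')) G where
  f n := ψ.f n ∘ₗ φ.f n
  f_grHom n := fun g x hx => by
    have hx' : (x : (E.X n).carrier) ∈ (E.X n).gr (g - (e + e')) := hx
    have h1 : φ.f n x ∈ (F.X n).gr (g - e') := by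
      apply φ.f_grHom n (g - e') x
      change (x : (E.X n).carrier) ∈ (E.X n).gr (g - e' - e)
      rwa [show g - e' - e = g - (e + e') by abel]
    exact ψ.f_grHom n g _ h1
  comm n x := (ψ.comm n (φ.f n x)).trans (congrArg (ψ.f (n + 1)) (φ.comm n x))

theorem Hmap_shiftComp {e e' : ι} (ψ : CMap (shiftRes F e') G) (φ : CMap (shiftRes E e) F)
    (a : HomogeneousIdeal 𝒜) (i : ℕ) (y : E.H a i) :
    (shiftComp ψ φ).Hmap a i ((shiftH E (e + e') a i).symm y) =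
      ψ.Hmap a i ((shiftH F e' a i).symm (φ.Hmap a i ((shiftH E e a i).symm y))) := by
  obtain ⟨z, rfl⟩ := toH_surjective E a i y
  rfl

/-- a degree-zero chain map as a chain map from the trivially shifted resolution -/
noncomputable def ofZero (φ : CMap E F) : CMap (shiftRes E 0) F where
  f n := φ.f n
  f_grHom n := fun g x hx => by
    have hx' : (x : (E.X n).carrier) ∈ (E.X n).gr (g - 0) := hx
    rw [sub_zero] at hx'
    exact φ.f_grHom n g x hx'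
  comm := φ.comm

theorem Hmap_ofZero (φ : CMap E F) (a : HomogeneousIdeal 𝒜) (i : ℕ) (y : E.H a i) :
    (ofZero φ).Hmap a i ((shiftH E 0 a i).symm y) = φ.Hmap a i y := by
  obtain ⟨z, rfl⟩ := toH_surjective E a i y
  rfl

end CMapOps

section Hdeg

variable (E : GrLC.StarInjRes 𝒜 ℳ) (F : GrLC.StarInjRes 𝒜 𝒩) (G : GrLC.StarInjRes 𝒜 ℒ)
  (a : HomogeneousIdeal 𝒜) (i : ℕ)

open Classical in
/-- the map on graded local cohomology induced by a homogeneous map of degree `e` -/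
noncomputable def Hdeg (e : ι) (f : M →ₗ[R] N) : E.H a i →ₗ[R] F.H a i :=
  if hf : GrLC.IsGrHom (shiftGr ℳ e) 𝒩 f then
    (Classical.choose (exists_lift (shiftRes E e) F f hf)).Hmap a i ∘ₗ
      (shiftH E e a i).symm.toLinearMap
  else 0

variable {E F G a i}

theorem Hdeg_eq {e : ι} {f : M →ₗ[R] N} (hf : GrLC.IsGrHomDeg ℳ 𝒩 f e)
    (φ : CMap (shiftRes E e) F) (hφ : ∀ m, φ.f 0 (E.ε m) = F.ε (f m)) (y : E.H a i) :
    Hdeg E F a i e f y = φ.Hmap a i ((shiftH E e a i).symm y) := by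
  have hf' := isGrHom_shift_of_deg hf
  unfold Hdeg
  rw [dif_pos hf']
  have := Hmap_unique (shiftRes E e) F f (Classical.choose (exists_lift (shiftRes E e) F f hf')) φ
    (Classical.choose_spec (exists_lift (shiftRes E e) F f hf')) hφ a i
  rw [LinearMap.comp_apply, this]
  rfl

theorem exists_dlift {e : ι} {f : M →ₗ[R] N} (hf : GrLC.IsGrHomDeg ℳ 𝒩 f e) :
    ∃ φ : CMap (shiftRes E e) F, ∀ m, φ.f 0 (E.ε m) = F.ε (f m) :=
  exists_lift (shiftRes E e) F f (isGrHom_shift_of_deg hf)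

theorem Hdeg_mem {e : ι} {f : M →ₗ[R] N} (hf : GrLC.IsGrHomDeg ℳ 𝒩 f e) {g : ι} {y : E.H a i}
    (hy : y ∈ E.Hgr a i g) : Hdeg E F a i e f y ∈ F.Hgr a i (g + e) := by
  obtain ⟨φ, hφ⟩ := exists_dlift (E := E) (F := F) hf
  rw [Hdeg_eq hf φ hφ]
  apply φ.Hmap_isGrHom a i (g + e)
  rw [shiftH_mem, LinearEquiv.apply_symm_apply, add_sub_cancel_right]
  exact hy

theorem Hdeg_add {e : ι} {f f' : M →ₗ[R] N} (hf : GrLC.IsGrHomDeg ℳ 𝒩 f e)
    (hf' : GrLC.IsGrHomDeg ℳ 𝒩 f' e) :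
    Hdeg E F a i e (f + f') = Hdeg E F a i e f + Hdeg E F a i e f' := by
  obtain ⟨φ, hφ⟩ := exists_dlift (E := E) (F := F) hf
  obtain ⟨φ', hφ'⟩ := exists_dlift (E := E) (F := F) hf'
  have hsum : GrLC.IsGrHomDeg ℳ 𝒩 (f + f') e := fun g m hm => add_mem (hf g m hm) (hf' g m hm)
  apply LinearMap.ext
  intro y
  rw [LinearMap.add_apply, Hdeg_eq hf φ hφ, Hdeg_eq hf' φ' hφ', Hdeg_eq hsum (cadd φ φ'), Hmap_cadd,
    LinearMap.add_apply]
  intro m
  change φ.f 0 (E.ε m) + φ'.f 0 (E.ε m) = _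
  rw [hφ, hφ', LinearMap.add_apply, map_add]

theorem Hdeg_zero_map (e : ι) : Hdeg E F a i e (0 : M →ₗ[R] N) = 0 := by
  have h0 : GrLC.IsGrHomDeg ℳ 𝒩 (0 : M →ₗ[R] N) e := fun g m hm => zero_mem _
  have := Hdeg_add (E := E) (F := F) (a := a) (i := i) h0 h0
  rw [add_zero] at this
  exact left_eq_add.1 this

theorem Hdeg_sum {κ : Type*} (s : Finset κ) {e : ι} (f : κ → M →ₗ[R] N)
    (hf : ∀ j ∈ s, GrLC.IsGrHomDeg ℳ 𝒩 (f j) e) :
    Hdeg E F a i e (∑ j ∈ s, f j) = ∑ j ∈ s, Hdeg E F a i e (f j) := by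
  classical
  induction s using Finset.induction_on with
  | empty => simp [Hdeg_zero_map]
  | insert j s hj ih =>
    rw [Finset.sum_insert hj, Finset.sum_insert hj]
    have h1 : GrLC.IsGrHomDeg ℳ 𝒩 (∑ j ∈ s, f j) e := by
      intro g m hm
      rw [LinearMap.sum_apply]
      exact sum_mem fun j' hj' => hf j' (Finset.mem_insert_of_mem hj') g m hm
    rw [Hdeg_add (hf j (Finset.mem_insert_self j s)) h1,
      ih (fun j' hj' => hf j' (Finset.mem_insert_of_mem hj'))]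

theorem comp_deg {e e' : ι} {f : M →ₗ[R] N} {g : N →ₗ[R] L} (hf : GrLC.IsGrHomDeg ℳ 𝒩 f e)
    (hg : GrLC.IsGrHomDeg 𝒩 ℒ g e') : GrLC.IsGrHomDeg ℳ ℒ (g ∘ₗ f) (e + e') := by
  intro d m hm
  have := hg _ _ (hf d m hm)
  rwa [add_assoc] at this

theorem Hdeg_comp {e e' : ι} {f : M →ₗ[R] N} {g : N →ₗ[R] L} (hf : GrLC.IsGrHomDeg ℳ 𝒩 f e)
    (hg : GrLC.IsGrHomDeg 𝒩 ℒ g e') :
    Hdeg E G a i (e + e') (g ∘ₗ f) = Hdeg F G a i e' g ∘ₗ Hdeg E F a i e f := by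
  obtain ⟨φ, hφ⟩ := exists_dlift (E := E) (F := F) hf
  obtain ⟨ψ, hψ⟩ := exists_dlift (E := F) (F := G) hg
  apply LinearMap.ext
  intro y
  rw [LinearMap.comp_apply, Hdeg_eq hf φ hφ, Hdeg_eq hg ψ hψ,
    Hdeg_eq (comp_deg hf hg) (shiftComp ψ φ), Hmap_shiftComp]
  intro m
  change ψ.f 0 (φ.f 0 (E.ε m)) = _
  rw [hφ, hψ]
  rfl

theorem Hdeg_congr {e e' : ι} (h : e = e') (f : M →ₗ[R] N) :
    Hdeg E F a i e f = Hdeg E F a i e' f := by
  subst h; rfl

theorem Hdeg_zero_deg {f : M →ₗ[R] N} (hf : GrLC.IsGrHom ℳ 𝒩 f) (φ : CMap E F)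
    (hφ : ∀ m, φ.f 0 (E.ε m) = F.ε (f m)) : Hdeg E F a i 0 f = φ.Hmap a i := by
  have hf' : GrLC.IsGrHomDeg ℳ 𝒩 f 0 := by
    intro g m hm
    rw [add_zero]
    exact hf g m hm
  apply LinearMap.ext
  intro y
  rw [Hdeg_eq hf' (ofZero φ) hφ, Hmap_ofZero]

theorem Hdeg_id : Hdeg E E a i 0 (LinearMap.id : M →ₗ[R] M) = LinearMap.id := by
  rw [Hdeg_zero_deg (fun g m hm => hm) (CMap.id E) (fun m => rfl), CMap.Hmap_id]

theorem smulId_deg {j : ι} {r : R} (hr : r ∈ 𝒜 j) :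
    GrLC.IsGrHomDeg 𝒩 𝒩 (r • (LinearMap.id : N →ₗ[R] N)) j := by
  intro g m hm
  have := SetLike.GradedSMul.smul_mem (A := 𝒜) (B := 𝒩) hr hm
  rw [vadd_eq_add, add_comm] at this
  exact this

theorem Hdeg_smulId {j : ι} {r : R} (hr : r ∈ 𝒜 j) :
    Hdeg F F a i j (r • (LinearMap.id : N →ₗ[R] N)) = r • LinearMap.id := by
  apply LinearMap.ext
  intro y
  rw [Hdeg_eq (smulId_deg hr) (mulMap F j r hr) (mulMap_eps F j r hr), mulMap_Hmap,
    LinearEquiv.apply_symm_apply]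
  rfl

theorem Hdeg_smul {e j : ι} {r : R} (hr : r ∈ 𝒜 j) {f : M →ₗ[R] N}
    (hf : GrLC.IsGrHomDeg ℳ 𝒩 f e) :
    Hdeg E F a i (e + j) (r • f) = r • Hdeg E F a i e f := by
  have h1 : r • f = (r • (LinearMap.id : N →ₗ[R] N)) ∘ₗ f := by
    apply LinearMap.ext
    intro m
    rfl
  rw [h1, Hdeg_comp hf (smulId_deg hr), Hdeg_smulId hr]
  apply LinearMap.ext
  intro y
  rfl

end Hdeg

end Groth.Agent.Lib.Helper20.GrW
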