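import Mathlib
import Groth.Prelude.Def_GrLC
import Groth.Agent.Lib.Helper26.GrProj
import Groth.Agent.Lib.Helper20.GrW1

/-!
# The multiplication pairing `M × H^i_a(R) → H^i_a(M)`

For `x ∈ M` the map `mu x : H^i_a(R) → H^i_a(M)` is induced by `r ↦ r • x`; it is `R`-bilinear,
natural in `M`, and additive in the degrees.
-/

set_option autoImplicit false
set_option linter.unusedSectionVars false
set_option linter.unusedVariables false

namespace Groth.Agent.Lib.Helper20.GrW

open DirectSum Groth.Agent.Lib.Helper26.GrProj Groth.Agent.Lib.Helper20.GrKit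
  Groth.Agent.Lib.Helper20.GrLES

universe u

variable {ι : Type} [AddCommGroup ι] [DecidableEq ι] {R : Type u} [CommRing R]
  {𝒜 : ι → AddSubgroup R} [GradedRing 𝒜]
  {M : Type u} [AddCommGroup M] [Module R M] {ℳ : ι → AddSubgroup M}
  [DirectSum.Decomposition ℳ] [SetLike.GradedSMul 𝒜 ℳ]
  {N : Type u} [AddCommGroup N] [Module R N] {𝒩 : ι → AddSubgroup N}
  [DirectSum.Decomposition 𝒩] [SetLike.GradedSMul 𝒜 𝒩]

theorem rho_deg {e : ι} {x : M} (hx : x ∈ ℳ e) :
    GrLC.IsGrHomDeg 𝒜 ℳ (LinearMap.toSpanSingleton R M x) e := by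
  intro g r hr
  rw [LinearMap.toSpanSingleton_apply]
  have := SetLike.GradedSMul.smul_mem (A := 𝒜) (B := ℳ) hr hx
  rwa [vadd_eq_add] at this

theorem rho_add (x y : M) : LinearMap.toSpanSingleton R M (x + y) =
    LinearMap.toSpanSingleton R M x + LinearMap.toSpanSingleton R M y := by
  apply LinearMap.ext
  intro r
  simp [LinearMap.toSpanSingleton_apply, smul_add]

theorem rho_zero : LinearMap.toSpanSingleton R M (0 : M) = 0 := by
  apply LinearMap.ext
  intro r
  simp [LinearMap.toSpanSingleton_apply]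

theorem rho_smul (r : R) (x : M) : LinearMap.toSpanSingleton R M (r • x) =
    r • LinearMap.toSpanSingleton R M x := by
  apply LinearMap.ext
  intro s
  simp only [LinearMap.toSpanSingleton_apply, LinearMap.smul_apply]
  rw [smul_comm]

theorem comp_rho (f : M →ₗ[R] N) (x : M) : f ∘ₗ LinearMap.toSpanSingleton R M x =
    LinearMap.toSpanSingleton R N (f x) := by
  apply LinearMap.ext
  intro s
  simp [LinearMap.toSpanSingleton_apply]

variable (I : GrLC.StarInjRes 𝒜 𝒜) (E : GrLC.StarInjRes 𝒜 ℳ) (F : GrLC.StarInjRes 𝒜 𝒩)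
  (a : HomogeneousIdeal 𝒜) (i : ℕ)

/-- the degree `e` part of `mu` -/
noncomputable def muAdd (e : ι) : ℳ e →+ (I.H a i →ₗ[R] E.H a i) where
  toFun x := Hdeg I E a i e (LinearMap.toSpanSingleton R M (x : M))
  map_zero' := by
    change Hdeg I E a i e (LinearMap.toSpanSingleton R M (0 : M)) = 0
    rw [rho_zero, Hdeg_zero_map]
  map_add' x y := by
    change Hdeg I E a i e (LinearMap.toSpanSingleton R M ((x : M) + (y : M))) = _
    rw [rho_add, Hdeg_add (rho_deg x.2) (rho_deg y.2)]

/-- the multiplication pairing, as an additive map -/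
noncomputable def mu : M →+ (I.H a i →ₗ[R] E.H a i) :=
  (DirectSum.toAddMonoid fun e => muAdd I E a i e).comp
    (DirectSum.decomposeAddEquiv ℳ).toAddMonoidHom

theorem mu_of_mem {e : ι} {x : M} (hx : x ∈ ℳ e) :
    mu I E a i x = Hdeg I E a i e (LinearMap.toSpanSingleton R M x) := by
  change (DirectSum.toAddMonoid _) (DirectSum.decompose ℳ x) = _
  rw [DirectSum.decompose_of_mem ℳ hx, DirectSum.toAddMonoid_of]
  rfl

theorem mu_smul (r : R) (x : M) : mu I E a i (r • x) = r • mu I E a i x := by
  classical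
  induction x using DirectSum.Decomposition.inductionOn ℳ with
  | zero => simp
  | add x y hx hy => rw [smul_add, map_add, map_add, hx, hy, smul_add]
  | homogeneous x =>
    rename_i g
    induction r using DirectSum.Decomposition.inductionOn 𝒜 with
    | zero => simp
    | add r s hr hs => rw [add_smul, map_add, hr, hs, add_smul]
    | homogeneous r =>
      rename_i k
      have hrx : (r : R) • (x : M) ∈ ℳ (g + k) := by
        have := SetLike.GradedSMul.smul_mem (A := 𝒜) (B := ℳ) r.2 x.2
        rwa [vadd_eq_add, add_comm] at this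
      rw [mu_of_mem I E a i hrx, mu_of_mem I E a i x.2, rho_smul, Hdeg_smul r.2 (rho_deg x.2)]

/-- the multiplication pairing -/
noncomputable def muL : M →ₗ[R] I.H a i →ₗ[R] E.H a i where
  toFun := mu I E a i
  map_add' := map_add _
  map_smul' := mu_smul I E a i

theorem muL_apply (x : M) : muL I E a i x = mu I E a i x := rfl

theorem mu_mem {e g : ι} {x : M} (hx : x ∈ ℳ e) {h : I.H a i} (hh : h ∈ I.Hgr a i g) :
    mu I E a i x h ∈ E.Hgr a i (g + e) := by
  rw [mu_of_mem I E a i hx]
  exact Hdeg_mem (rho_deg hx) hh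

/-- naturality of `mu` for homogeneous maps of any degree -/
theorem mu_nat {d : ι} {f : M →ₗ[R] N} (hf : GrLC.IsGrHomDeg ℳ 𝒩 f d) (x : M) (h : I.H a i) :
    Hdeg E F a i d f (mu I E a i x h) = mu I F a i (f x) h := by
  classical
  induction x using DirectSum.Decomposition.inductionOn ℳ with
  | zero => simp
  | add x y hx hy =>
    rw [map_add, LinearMap.add_apply, map_add, hx, hy, map_add, map_add, LinearMap.add_apply]
  | homogeneous x =>
    rename_i e
    have hfx : f (x : M) ∈ 𝒩 (e + d) := hf e x x.2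
    rw [mu_of_mem I E a i x.2, mu_of_mem I F a i hfx, ← comp_rho, Hdeg_comp (rho_deg x.2) hf]
    rfl

end Groth.Agent.Lib.Helper20.GrW
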