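import Mathlib
import Groth.Prelude.Def_GrLC
import Groth.Agent.Lib.Helper26.GrProj
import Groth.Agent.Lib.Helper20.GrW2
import Groth.Agent.Lib.Helper20.GrKit2
import Groth.Agent.Lib.Helper20.GrKit8

/-!
# `H^i_a(M) ≅ M ⊗ H^i_a(R)` when `H^{i+1}_a` vanishes on finite graded modules
-/

set_option autoImplicit false
set_option linter.unusedSectionVars false
set_option linter.unusedVariables false

namespace Groth.Agent.Lib.Helper20.GrW

open DirectSum Groth.Agent.Lib.Helper26.GrProj Groth.Agent.Lib.Helper20.GrKit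
  Groth.Agent.Lib.Helper20.GrLES TensorProduct

universe u

variable {ι : Type} [AddCommGroup ι] [DecidableEq ι] {R : Type u} [CommRing R]
  {𝒜 : ι → AddSubgroup R} [GradedRing 𝒜]
  {M : Type u} [AddCommGroup M] [Module R M] {ℳ : ι → AddSubgroup M}
  [DirectSum.Decomposition ℳ] [SetLike.GradedSMul 𝒜 ℳ]
  {N : Type u} [AddCommGroup N] [Module R N] {𝒩 : ι → AddSubgroup N}
  [DirectSum.Decomposition 𝒩] [SetLike.GradedSMul 𝒜 𝒩]
  {L : Type u} [AddCommGroup L] [Module R L] {ℒ : ι → AddSubgroup L}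
  [DirectSum.Decomposition ℒ] [SetLike.GradedSMul 𝒜 ℒ]

theorem deg_zero_of_isGrHom {f : M →ₗ[R] N} (hf : GrLC.IsGrHom ℳ 𝒩 f) :
    GrLC.IsGrHomDeg ℳ 𝒩 f 0 := by
  intro g m hm
  rw [add_zero]
  exact hf g m hm

theorem Hdeg_comp_zero {E : GrLC.StarInjRes 𝒜 ℳ} {F : GrLC.StarInjRes 𝒜 𝒩}
    {G : GrLC.StarInjRes 𝒜 ℒ} {a : HomogeneousIdeal 𝒜} {i : ℕ}
    {f : M →ₗ[R] N} {g : N →ₗ[R] L} (hf : GrLC.IsGrHom ℳ 𝒩 f) (hg : GrLC.IsGrHom 𝒩 ℒ g) :
    Hdeg E G a i 0 (g ∘ₗ f) = Hdeg F G a i 0 g ∘ₗ Hdeg E F a i 0 f := by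
  rw [← Hdeg_comp (deg_zero_of_isGrHom hf) (deg_zero_of_isGrHom hg)]
  exact Hdeg_congr (add_zero 0).symm _

variable (I : GrLC.StarInjRes 𝒜 𝒜) (a : HomogeneousIdeal 𝒜) (i : ℕ)

/-- the comparison map `M ⊗ H^i_a(R) → H^i_a(M)` -/
noncomputable def muT (E : GrLC.StarInjRes 𝒜 ℳ) : M ⊗[R] I.H a i →ₗ[R] E.H a i :=
  TensorProduct.lift (muL I E a i)

theorem muT_tmul (E : GrLC.StarInjRes 𝒜 ℳ) (x : M) (h : I.H a i) :
    muT I a i E (x ⊗ₜ[R] h) = mu I E a i x h := rfl

theorem muT_nat (E : GrLC.StarInjRes 𝒜 ℳ) (F : GrLC.StarInjRes 𝒜 𝒩) {d : ι} {f : M →ₗ[R] N}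
    (hf : GrLC.IsGrHomDeg ℳ 𝒩 f d) (z : M ⊗[R] I.H a i) :
    Hdeg E F a i d f (muT I a i E z) = muT I a i F (f.rTensor _ z) := by
  induction z using TensorProduct.induction_on with
  | zero => simp
  | tmul x h => rw [muT_tmul, LinearMap.rTensor_tmul, muT_tmul, mu_nat I E F a i hf]
  | add z w hz hw => rw [map_add, map_add, hz, hw, map_add, map_add]

theorem muT_nat_zero (E : GrLC.StarInjRes 𝒜 ℳ) (F : GrLC.StarInjRes 𝒜 𝒩) {f : M →ₗ[R] N}
    (hf : GrLC.IsGrHom ℳ 𝒩 f) (φ : CMap E F) (hφ : ∀ m, φ.f 0 (E.ε m) = F.ε (f m))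
    (z : M ⊗[R] I.H a i) :
    φ.Hmap a i (muT I a i E z) = muT I a i F (f.rTensor _ z) := by
  rw [← Hdeg_zero_deg hf φ hφ]
  exact muT_nat I a i E F (deg_zero_of_isGrHom hf) z

section Shift

theorem id_deg_shift (e : ι) :
    GrLC.IsGrHomDeg 𝒜 (shiftGr 𝒜 e) (LinearMap.id : R →ₗ[R] R) e := by
  intro g r hr
  change r ∈ 𝒜 (g + e - e)
  rwa [add_sub_cancel_right]

theorem id_deg_unshift (e : ι) :
    GrLC.IsGrHomDeg (shiftGr 𝒜 e) 𝒜 (LinearMap.id : R →ₗ[R] R) (-e) := by
  intro g r hr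
  have h : r ∈ 𝒜 (g - e) := hr
  rwa [sub_eq_add_neg] at h

/-- the comparison map is bijective for `R(-e)` -/
theorem muT_shift_bijective (e : ι) (EF : GrLC.StarInjRes 𝒜 (shiftGr 𝒜 e)) :
    Function.Bijective (muT I a i EF) := by
  set σ := Hdeg I EF a i e (LinearMap.id : R →ₗ[R] R) with hσ
  set τ := Hdeg EF I a i (-e) (LinearMap.id : R →ₗ[R] R) with hτ
  have hτσ : τ ∘ₗ σ = LinearMap.id := by
    rw [hσ, hτ, ← Hdeg_comp (id_deg_shift e) (id_deg_unshift e), LinearMap.id_comp,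
      Hdeg_congr (add_neg_cancel e), Hdeg_id]
  have hστ : σ ∘ₗ τ = LinearMap.id := by
    rw [hσ, hτ, ← Hdeg_comp (id_deg_unshift e) (id_deg_shift e), LinearMap.id_comp,
      Hdeg_congr (neg_add_cancel e), Hdeg_id]
  have h1mem : (1 : R) ∈ shiftGr 𝒜 e e := by
    change (1 : R) ∈ 𝒜 (e - e)
    rw [sub_self]
    exact SetLike.GradedOne.one_mem
  have hone : LinearMap.toSpanSingleton R R (1 : R) = LinearMap.id := by
    apply LinearMap.ext
    intro r
    simp [LinearMap.toSpanSingleton_apply]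
  have hkey : ∀ z, muT I a i EF z = σ (TensorProduct.lid R (I.H a i) z) := by
    intro z
    induction z using TensorProduct.induction_on with
    | zero => simp
    | tmul r h =>
      rw [muT_tmul, TensorProduct.lid_tmul, map_smul]
      have : r = r • (1 : R) := by rw [smul_eq_mul, mul_one]
      rw [this, mu_smul, LinearMap.smul_apply, mu_of_mem I EF a i h1mem, hone, ← this]
    | add z w hz hw => rw [map_add, hz, hw, map_add, map_add]
  have hσb : Function.Bijective σ := by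
    constructor
    · intro x y hxy
      have := congrArg τ hxy
      rwa [← LinearMap.comp_apply, ← LinearMap.comp_apply, hτσ] at this
    · intro y
      exact ⟨τ y, by rw [← LinearMap.comp_apply, hστ]; rfl⟩
  have : (muT I a i EF : R ⊗[R] I.H a i → EF.H a i) = σ ∘ (TensorProduct.lid R (I.H a i)) := by
    funext z
    exact hkey z
  rw [this]
  exact hσb.comp (TensorProduct.lid R (I.H a i)).bijective

end Shift

section Free

variable {n : ℕ} (d : Fin n → ι)

theorem proj_isGrHom (j : Fin n) :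
    GrLC.IsGrHom (frGr 𝒜 d) (shiftGr 𝒜 (d j)) (LinearMap.proj j : (Fin n → R) →ₗ[R] R) := by
  intro g v hv
  exact hv j

theorem single_isGrHom (j : Fin n) :
    GrLC.IsGrHom (shiftGr 𝒜 (d j)) (frGr 𝒜 d)
      (LinearMap.single R (fun _ : Fin n => R) j) := by
  intro g r hr j'
  rw [LinearMap.single_apply]
  by_cases h : j' = j
  · subst h
    rw [Pi.single_eq_same]
    exact hr
  · rw [Pi.single_eq_of_ne h]
    exact zero_mem _

theorem sum_single_proj :
    ∑ j : Fin n, (LinearMap.single R (fun _ : Fin n => R) j) ∘ₗ (LinearMap.proj j) =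
      (LinearMap.id : (Fin n → R) →ₗ[R] (Fin n → R)) := by
  apply LinearMap.ext
  intro v
  rw [LinearMap.sum_apply]
  simp only [LinearMap.comp_apply, LinearMap.proj_apply, LinearMap.single_apply, LinearMap.id_apply]
  exact Finset.univ_sum_single v

/-- the comparison map is bijective for finite free graded modules -/
theorem muT_free_bijective (EF : GrLC.StarInjRes 𝒜 (frGr 𝒜 d)) :
    Function.Bijective (muT I a i EF) := by
  classical
  have hW : ∀ j, Function.Bijective (muT I a i (shiftRes I (d j))) :=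
    fun j => muT_shift_bijective I a i (d j) (shiftRes I (d j))
  have hπ := fun j => proj_isGrHom (𝒜 := 𝒜) d j
  have hι := fun j => single_isGrHom (𝒜 := 𝒜) d j
  constructor
  · rw [injective_iff_map_eq_zero]
    intro z hz
    have h1 : ∀ j, (LinearMap.proj j : (Fin n → R) →ₗ[R] R).rTensor (I.H a i) z = 0 := by
      intro j
      apply (hW j).1
      rw [← muT_nat I a i EF (shiftRes I (d j)) (deg_zero_of_isGrHom (hπ j)), hz, map_zero,
        map_zero]
    have h2 : ∀ z : (Fin n → R) ⊗[R] I.H a i, z = ∑ j : Fin n,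
        (LinearMap.single R (fun _ : Fin n => R) j).rTensor (I.H a i)
          ((LinearMap.proj j : (Fin n → R) →ₗ[R] R).rTensor (I.H a i) z) := by
      intro z
      induction z using TensorProduct.induction_on with
      | zero => simp
      | tmul v h =>
        simp only [LinearMap.rTensor_tmul, LinearMap.proj_apply, LinearMap.single_apply]
        rw [← TensorProduct.sum_tmul, Finset.univ_sum_single]
      | add z w hz hw =>
        simp only [map_add, Finset.sum_add_distrib]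
        rw [← hz, ← hw]
    rw [h2 z]
    exact Finset.sum_eq_zero fun j _ => by rw [h1 j, map_zero]
  · intro y
    have h1 : y = ∑ j : Fin n, Hdeg (shiftRes I (d j)) EF a i 0
        (LinearMap.single R (fun _ : Fin n => R) j)
        (Hdeg EF (shiftRes I (d j)) a i 0 (LinearMap.proj j : (Fin n → R) →ₗ[R] R) y) := by
      have h2 : (LinearMap.id : EF.H a i →ₗ[R] EF.H a i) y = y := rfl
      conv_lhs => rw [← h2, ← Hdeg_id (E := EF), ← sum_single_proj]
      rw [Hdeg_sum]
      · rw [LinearMap.sum_apply]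
        refine Finset.sum_congr rfl fun j _ => ?_
        rw [Hdeg_comp_zero (hπ j) (hι j)]
        rfl
      · intro j _
        exact deg_zero_of_isGrHom fun g v hv => hι j g _ (hπ j g v hv)
    choose w hw using fun j => (hW j).2
      (Hdeg EF (shiftRes I (d j)) a i 0 (LinearMap.proj j : (Fin n → R) →ₗ[R] R) y)
    refine ⟨∑ j : Fin n, (LinearMap.single R (fun _ : Fin n => R) j).rTensor (I.H a i) (w j), ?_⟩
    rw [map_sum, h1]
    refine Finset.sum_congr rfl fun j _ => ?_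
    rw [← muT_nat I a i (shiftRes I (d j)) EF (deg_zero_of_isGrHom (hι j)), hw j]

end Free

section General

variable [IsNoetherianRing R]
  (hvan : ∀ (N : Type u) [AddCommGroup N] [Module R N] [Module.Finite R N]
    (𝒩 : ι → AddSubgroup N) [DirectSum.Decomposition 𝒩] [SetLike.GradedSMul 𝒜 𝒩]
    (E : GrLC.StarInjRes 𝒜 𝒩), Subsingleton (E.H a (i + 1)))

include hvan in
/-- right exactness gives surjectivity of the comparison map -/
theorem muT_surjective (M : Type u) [AddCommGroup M] [Module R M] [Module.Finite R M]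
    (ℳ : ι → AddSubgroup M) [DirectSum.Decomposition ℳ] [SetLike.GradedSMul 𝒜 ℳ]
    (E : GrLC.StarInjRes 𝒜 ℳ) : Function.Surjective (muT I a i E) := by
  classical
  obtain ⟨n, d, m, hm, hspan⟩ := exists_homogeneous_gens ℳ (Module.Finite.fg_top (R := R) (M := M))
  set p := Fintype.linearCombination R m with hp
  have hpg : GrLC.IsGrHom (frGr 𝒜 d) ℳ p := linearCombination_isGrHom 𝒜 ℳ d m hm
  have hps : Function.Surjective p := linearCombination_surjective m hspan
  set P : Submodule R (Fin n → R) := LinearMap.ker p with hP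
  have hPs : ∀ g x, x ∈ P → proj (frGr 𝒜 d) g x ∈ P :=
    fun g x hx => ker_proj_stable (frGr 𝒜 d) ℳ p hpg g x hx
  letI : DirectSum.Decomposition (subGr (frGr 𝒜 d) P) := subDecomposition (frGr 𝒜 d) P hPs
  obtain ⟨EN⟩ := nonempty_starInjRes 𝒜 (subGr (frGr 𝒜 d) P)
  obtain ⟨EF⟩ := nonempty_starInjRes 𝒜 (frGr 𝒜 d)
  obtain ⟨δ, hδ, hles⟩ := les EN EF E P.subtype p (fun g x hx => hx) hpg
    (Submodule.subtype_injective P) hps (by rw [Submodule.range_subtype]) a
  obtain ⟨φ, hφ⟩ := exists_lift EN EF P.subtype (fun g x hx => hx)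
  obtain ⟨ψ, hψ⟩ := exists_lift EF E p hpg
  obtain ⟨h1, h2, h3, h4⟩ := hles φ ψ hφ hψ
  haveI : Subsingleton (EN.H a (i + 1)) := hvan P (subGr (frGr 𝒜 d) P) EN
  intro y
  have hy : y ∈ LinearMap.range (ψ.Hmap a i) := by
    rw [← h2 i, LinearMap.mem_ker]
    exact Subsingleton.elim _ _
  obtain ⟨y', rfl⟩ := hy
  obtain ⟨z, rfl⟩ := (muT_free_bijective I a i d EF).2 y'
  exact ⟨p.rTensor _ z, (muT_nat_zero I a i EF E hpg ψ hψ z).symm⟩

include hvan in
/-- the comparison map `M ⊗ H^i_a(R) → H^i_a(M)` is bijective -/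
theorem muT_bijective (M : Type u) [AddCommGroup M] [Module R M] [Module.Finite R M]
    (ℳ : ι → AddSubgroup M) [DirectSum.Decomposition ℳ] [SetLike.GradedSMul 𝒜 ℳ]
    (E : GrLC.StarInjRes 𝒜 ℳ) : Function.Bijective (muT I a i E) := by
  classical
  refine ⟨?_, muT_surjective I a i hvan M ℳ E⟩
  obtain ⟨n, d, m, hm, hspan⟩ := exists_homogeneous_gens ℳ (Module.Finite.fg_top (R := R) (M := M))
  set p := Fintype.linearCombination R m with hp
  have hpg : GrLC.IsGrHom (frGr 𝒜 d) ℳ p := linearCombination_isGrHom 𝒜 ℳ d m hm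
  have hps : Function.Surjective p := linearCombination_surjective m hspan
  set P : Submodule R (Fin n → R) := LinearMap.ker p with hP
  have hPs : ∀ g x, x ∈ P → proj (frGr 𝒜 d) g x ∈ P :=
    fun g x hx => ker_proj_stable (frGr 𝒜 d) ℳ p hpg g x hx
  letI : DirectSum.Decomposition (subGr (frGr 𝒜 d) P) := subDecomposition (frGr 𝒜 d) P hPs
  obtain ⟨EN⟩ := nonempty_starInjRes 𝒜 (subGr (frGr 𝒜 d) P)
  obtain ⟨EF⟩ := nonempty_starInjRes 𝒜 (frGr 𝒜 d)
  obtain ⟨δ, hδ, hles⟩ := les EN EF E P.subtype p (fun g x hx => hx) hpg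
    (Submodule.subtype_injective P) hps (by rw [Submodule.range_subtype]) a
  obtain ⟨φ, hφ⟩ := exists_lift EN EF P.subtype (fun g x hx => hx)
  obtain ⟨ψ, hψ⟩ := exists_lift EF E p hpg
  obtain ⟨h1, h2, h3, h4⟩ := hles φ ψ hφ hψ
  have hNs : Function.Surjective (muT I a i EN) :=
    muT_surjective I a i hvan P (subGr (frGr 𝒜 d) P) EN
  have hFb := muT_free_bijective I a i d EF
  rw [injective_iff_map_eq_zero]
  intro w hw
  obtain ⟨z, rfl⟩ := LinearMap.rTensor_surjective (I.H a i) hps w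
  have hz : muT I a i EF z ∈ LinearMap.ker (ψ.Hmap a i) := by
    rw [LinearMap.mem_ker, muT_nat_zero I a i EF E hpg ψ hψ z, hw]
  rw [h1 i] at hz
  obtain ⟨y, hy⟩ := hz
  obtain ⟨z', rfl⟩ := hNs y
  rw [muT_nat_zero I a i EN EF (fun g x hx => hx) φ hφ z'] at hy
  have hzz : z = P.subtype.rTensor (I.H a i) z' := (hFb.1 hy).symm
  rw [hzz]
  have h0 : ∀ z' : P ⊗[R] I.H a i, p.rTensor (I.H a i) (P.subtype.rTensor (I.H a i) z') = 0 := by
    intro z'
    induction z' using TensorProduct.induction_on with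
    | zero => simp
    | tmul x h =>
      rw [LinearMap.rTensor_tmul, LinearMap.rTensor_tmul]
      have : p (P.subtype x) = 0 := x.2
      rw [this, TensorProduct.zero_tmul]
    | add z w hz hw => rw [map_add, map_add, hz, hw, add_zero]
  exact h0 z'

end General

end Groth.Agent.Lib.Helper20.GrW
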