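import Mathlib
import Groth.Prelude.Def_GrLC
import Groth.Agent.Lib.Helper20.GrVK3
import Groth.Agent.Lib.Helper20.GrW3
import Groth.Agent.Lib.Helper20.GrKit7
import Groth.Agent.Lib.helper11.SG8

/-!
# The *canonical module has no homogeneous elements killed by an ideal of small dimension
-/

set_option autoImplicit false
set_option linter.unusedSectionVars false
set_option linter.unusedVariables false
set_option linter.style.haveILetI false

namespace Groth.Agent.Lib.Helper20.GrVL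

open DirectSum Groth.Agent.Lib.Helper26.GrProj Groth.Agent.Lib.Helper20.GrKit
  Groth.Agent.Lib.Helper20.GrCanW Groth.Agent.Lib.Helper20.GrVG Groth.Agent.Lib.Helper20.GrVK
  Groth.Agent.Lib.Helper20.GrW Groth.Agent.Lib.Helper20.GrLES TensorProduct

universe u

variable {R : Type u} [CommRing R] [IsNoetherianRing R] (𝒜 : ℤ → AddSubgroup R) [GradedRing 𝒜]
  (hpos : ∀ n : ℤ, n < 0 → 𝒜 n = ⊥) (h0 : IsField (GrLC.deg0 𝒜))
  (m : HomogeneousIdeal 𝒜) (hm : GrLC.IsStarLocal 𝒜 m)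
  {E' : Type u} [AddCommGroup E'] [Module R E'] (𝓔 : ℤ → AddSubgroup E')
  [DirectSum.Decomposition 𝓔] [SetLike.GradedSMul 𝒜 𝓔] (e : (R ⧸ m.toIdeal) →ₗ[R] E')
  (he : GrLC.IsStarInjHull 𝒜 (GrLC.quotGr 𝒜 m) 𝓔 e)
  {C : Type u} [AddCommGroup C] [Module R C] [Module.Finite R C] (𝒞 : ℤ → AddSubgroup C)
  [DirectSum.Decomposition 𝒞] [SetLike.GradedSMul 𝒜 𝒞]
  (n : ℕ) (hn : ringKrullDim R = n) (I : GrLC.StarInjRes 𝒜 𝒜)
  [DirectSum.Decomposition (I.Hgr m n)] [SetLike.GradedSMul 𝒜 (I.Hgr m n)]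
  (ψ : (C →ₗ[R] E') ≃ₗ[R] I.H m n)
  (hψ : GrLC.IsGrHom (fun d => (GrLC.homDeg 𝒜 𝒞 𝓔 d).toAddSubgroup) (I.Hgr m n) ψ.toLinearMap)

include hn in
/-- `H^n_m(R) = J H^n_m(R)` when `dim R/J < n` -/
theorem smul_top_eq_top (J : Ideal R) (hJh : ∀ g x, x ∈ J → proj 𝒜 g x ∈ J)
    (hJdim : ringKrullDim (R ⧸ J) < (n : WithBot ℕ∞)) :
    (J • (⊤ : Submodule R (I.H m n))) = ⊤ := by
  classical
  letI dec : DirectSum.Decomposition (quoGr 𝒜 (J : Submodule R R)) :=
    quoDecomposition 𝒜 (J : Submodule R R) hJh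
  obtain ⟨F⟩ := nonempty_starInjRes 𝒜 (quoGr 𝒜 (J : Submodule R R))
  have hvan : ∀ (N : Type u) [AddCommGroup N] [Module R N] [Module.Finite R N]
      (𝒩 : ℤ → AddSubgroup N) [DirectSum.Decomposition 𝒩] [SetLike.GradedSMul 𝒜 𝒩]
      (E : GrLC.StarInjRes 𝒜 𝒩), Subsingleton (E.H m (n + 1)) := by
    intro N _ _ _ 𝒩 _ _ E
    exact Groth.Agent.Lib.helper11.SG8.subsingleton_H_of_dim_lt 𝒜 m n hn N 𝒩 E (n + 1)
      (Nat.lt_succ_self n)
  have hb := muT_bijective I m n hvan (R ⧸ J) (quoGr 𝒜 (J : Submodule R R)) F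
  obtain ⟨eB⟩ := bridge_starInjRes F m n
  have hlt : Module.supportDim R (R ⧸ J) < (n : WithBot ℕ∞) := by
    rw [Module.supportDim_quotient_eq_ringKrullDim]
    exact hJdim
  haveI := Groth.Agent.Lib.helper11.LCKit.subsingleton_of_supportDim_lt m.toIdeal n (R ⧸ J) hlt
  haveI : Subsingleton (F.H m n) := eB.toEquiv.subsingleton
  haveI : Subsingleton ((R ⧸ J) ⊗[R] I.H m n) := hb.1.subsingleton
  haveI : Subsingleton (I.H m n ⧸ (J • (⊤ : Submodule R (I.H m n)))) :=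
    (TensorProduct.quotTensorEquivQuotSMul (I.H m n) J).symm.toEquiv.subsingleton
  exact Submodule.Quotient.subsingleton_iff.1 inferInstance

include hpos h0 hm he hn hψ in
/-- a homogeneous element of the *canonical module killed by an ideal of small dimension is zero -/
theorem eq_zero_of_smul_eq_zero (J : Ideal R) (hJh : ∀ g x, x ∈ J → proj 𝒜 g x ∈ J)
    (hJdim : ringKrullDim (R ⧸ J) < (n : WithBot ℕ∞)) {j : ℤ} {u : C} (hu : u ∈ 𝒞 j)
    (hJu : ∀ r ∈ J, r • u = 0) : u = 0 := by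
  apply nondeg 𝒜 hpos h0 m hm 𝓔 e he 𝒞 (I.Hgr m n) ψ hψ hu
  intro h _
  have hh : h ∈ J • (⊤ : Submodule R (I.H m n)) := by
    rw [smul_top_eq_top 𝒜 m n hn I J hJh hJdim]
    trivial
  refine Submodule.smul_induction_on hh ?_ ?_
  · intro r hr h₀ _
    rw [map_smul, LinearMap.smul_apply, ← map_smul, hJu r hr, map_zero]
  · intro x y hx hy
    rw [map_add, LinearMap.add_apply, hx, hy, add_zero]

end Groth.Agent.Lib.Helper20.GrVL
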