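import Mathlib
import Groth.Prelude.Def_GrLC
import Groth.Agent.Lib.Helper20.GrVL1
import Groth.Agent.Lib.Helper20.GrVL2
import Groth.Agent.Lib.Helper20.GorTop4
import Groth.Agent.Lib.Helper20.GrArt2

/-!
# S18657: the pieces of the *canonical module of a standard graded CM ring of dimension at least
two have dimension at least two above the bottom degree
-/

set_option autoImplicit false
set_option linter.unusedSectionVars false
set_option linter.unusedVariables false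
set_option linter.style.haveILetI false
set_option maxHeartbeats 800000

namespace Groth.Agent.Lib.Helper20.GrVL

open DirectSum Groth.Agent.Lib.Helper26.GrProj Groth.Agent.Lib.Helper20.GrKit
  Groth.Agent.Lib.Helper20.GrCanW Groth.Agent.Lib.Helper20.GrVG Groth.Agent.Lib.Helper20.GrVK
  Groth.Agent.Lib.Helper20.GrLES

universe u

variable {R : Type u} [CommRing R] [IsNoetherianRing R] (𝒜 : ℤ → AddSubgroup R) [GradedRing 𝒜]
  (hpos : ∀ n : ℤ, n < 0 → 𝒜 n = ⊥) (h0 : IsField (GrLC.deg0 𝒜))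
  (m : HomogeneousIdeal 𝒜) (hm : GrLC.IsStarLocal 𝒜 m)
  (hstd : Ideal.span (⋃ n ∈ Set.Ioi (0 : ℤ), (𝒜 n : Set R)) =
    Ideal.span ((𝒜 1 : AddSubgroup R) : Set R))
  {E' : Type u} [AddCommGroup E'] [Module R E'] (𝓔 : ℤ → AddSubgroup E')
  [DirectSum.Decomposition 𝓔] [SetLike.GradedSMul 𝒜 𝓔] (e : (R ⧸ m.toIdeal) →ₗ[R] E')
  (he : GrLC.IsStarInjHull 𝒜 (GrLC.quotGr 𝒜 m) 𝓔 e)
  {C : Type u} [AddCommGroup C] [Module R C] [Module.Finite R C] (𝒞 : ℤ → AddSubgroup C)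
  [DirectSum.Decomposition 𝒞] [SetLike.GradedSMul 𝒜 𝒞]
  (n : ℕ) (hn : ringKrullDim R = n) (h2 : 2 ≤ n) (I : GrLC.StarInjRes 𝒜 𝒜)
  [DirectSum.Decomposition (I.Hgr m n)] [SetLike.GradedSMul 𝒜 (I.Hgr m n)]
  (ψ : (C →ₗ[R] E') ≃ₗ[R] I.H m n)
  (hψ : GrLC.IsGrHom (fun d => (GrLC.homDeg 𝒜 𝒞 𝓔 d).toAddSubgroup) (I.Hgr m n) ψ.toLinearMap)

include hpos h0 hm hstd he hn h2 hψ in
theorem two_le_finrank_succ {j : ℤ} {u : C} (hu : u ∈ 𝒞 j) (hu0 : u ≠ 0) :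
    2 ≤ Module.finrank (GrLC.deg0 𝒜) (GrLC.comp 𝒜 𝒞 (j + 1)) := by
  classical
  letI : Field (GrLC.deg0 𝒜) := h0.toField
  haveI : IsNoetherian R C := isNoetherian_of_isNoetherianRing_of_finite R C
  haveI hN : IsNoetherian (GrLC.deg0 𝒜) (GrLC.comp 𝒜 𝒞 (j + 1)) :=
    Groth.Agent.Lib.Helper20.GrArt.isNoetherian_comp 𝒜 𝒞 (j + 1)
  haveI : Module.Finite (GrLC.deg0 𝒜) (GrLC.comp 𝒜 𝒞 (j + 1)) := inferInstance
  by_contra hlt
  have hle : Module.finrank (GrLC.deg0 𝒜) (GrLC.comp 𝒜 𝒞 (j + 1)) ≤ 1 := by omega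
  obtain ⟨v₀, hv₀⟩ := finrank_le_one_iff.1 hle
  have hmem : ∀ y ∈ 𝒜 1, y • u ∈ 𝒞 (j + 1) := by
    intro y hy
    have := SetLike.GradedSMul.smul_mem (A := 𝒜) (B := 𝒞) hy hu
    rw [vadd_eq_add] at this
    rwa [add_comm]
  let S : Set R := {y | y ∈ 𝒜 1 ∧ y • u = 0}
  let J : Ideal R := Ideal.span S
  have hJh : ∀ g x, x ∈ J → proj 𝒜 g x ∈ J := by
    have : J.IsHomogeneous 𝒜 := Ideal.homogeneous_span 𝒜 S (fun x hx => ⟨1, hx.1⟩)
    exact fun g x hx => this g hx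
  have hJu : ∀ r ∈ J, r • u = 0 := by
    intro r hr
    refine Submodule.span_induction (p := fun r _ => r • u = 0) ?_ ?_ ?_ ?_ hr
    · intro x hx
      exact hx.2
    · exact zero_smul R u
    · intro x y _ _ hx hy
      rw [add_smul, hx, hy, add_zero]
    · intro a x _ hx
      rw [smul_eq_mul, mul_smul, hx, smul_zero]
  have hex : ∃ x₀ : R, ∀ y ∈ 𝒜 1, ∃ c ∈ 𝒜 0, y - c * x₀ ∈ J := by
    by_cases hall : ∀ y ∈ 𝒜 1, y • u = 0
    · refine ⟨0, fun y hy => ⟨0, zero_mem _, ?_⟩⟩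
      rw [mul_zero, sub_zero]
      exact Ideal.subset_span ⟨hy, hall y hy⟩
    · push Not at hall
      obtain ⟨x₀, hx₀, hx₀u⟩ := hall
      refine ⟨x₀, fun y hy => ?_⟩
      obtain ⟨cx, hcx⟩ := hv₀ ⟨x₀ • u, hmem x₀ hx₀⟩
      obtain ⟨cy, hcy⟩ := hv₀ ⟨y • u, hmem y hy⟩
      have hcx0 : cx ≠ 0 := by
        intro h
        rw [h, zero_smul] at hcx
        exact hx₀u (congrArg Subtype.val hcx).symm
      refine ⟨((cy / cx : GrLC.deg0 𝒜) : R), (cy / cx : GrLC.deg0 𝒜).2, ?_⟩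
      apply Ideal.subset_span
      refine ⟨sub_mem hy ?_, ?_⟩
      · have := SetLike.GradedMul.mul_mem (A := 𝒜) (cy / cx : GrLC.deg0 𝒜).2 hx₀
        rwa [zero_add] at this
      · have h1 : (⟨y • u, hmem y hy⟩ : GrLC.comp 𝒜 𝒞 (j + 1)) -
            (cy / cx) • (⟨x₀ • u, hmem x₀ hx₀⟩ : GrLC.comp 𝒜 𝒞 (j + 1)) = 0 := by
          rw [← hcy, ← hcx, smul_smul, div_mul_cancel₀ cy hcx0, sub_self]
        have h2' := congrArg Subtype.val h1
        rw [sub_smul, mul_smul]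
        exact h2'
  obtain ⟨x₀, hx₀⟩ := hex
  have hdim : ringKrullDim (R ⧸ J) < (n : WithBot ℕ∞) := by
    refine lt_of_le_of_lt (ringKrullDim_quot_le_one 𝒜 hpos h0 hstd J x₀ hx₀) ?_
    have : (1 : ℕ) < n := by omega
    exact_mod_cast this
  exact hu0 (eq_zero_of_smul_eq_zero 𝒜 hpos h0 m hm 𝓔 e he 𝒞 n hn I ψ hψ J hJh hdim hu hJu)

include hpos h0 hm hstd he hn h2 hψ in
theorem s18657_aux (a : ℤ)
    (ha : GrLC.endDeg (I.Hgr m n) = ((a : WithTop ℤ) : WithBot (WithTop ℤ))) (j : ℤ)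
    (hj : -a < j) : 2 ≤ Module.finrank (GrLC.deg0 𝒜) (GrLC.comp 𝒜 𝒞 j) := by
  classical
  have hne : ∀ i : ℤ, -a ≤ i → ∃ u ∈ 𝒞 i, u ≠ 0 := by
    intro i hi
    induction i, hi using Int.le_induction with
    | base =>
      by_contra hcon
      push Not at hcon
      have hHa : I.Hgr m n a ≠ ⊥ := ne_bot_of_endDeg_eq (I.Hgr m n) a ha
      apply hHa
      rw [eq_bot_iff]
      intro h hh
      rw [AddSubgroup.mem_bot]
      have hh' : h ∈ I.Hgr m n (- -a) := by rwa [neg_neg]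
      apply nondeg_right 𝒜 hpos m hm 𝓔 e he 𝒞 (I.Hgr m n) ψ hψ hh'
      intro c hc
      rw [hcon c hc, map_zero]
    | succ i hi ih =>
      obtain ⟨u, hu, hu0⟩ := ih
      have h := two_le_finrank_succ 𝒜 hpos h0 m hm hstd 𝓔 e he 𝒞 n hn h2 I ψ hψ hu hu0
      by_contra hcon
      push Not at hcon
      haveI : Subsingleton (GrLC.comp 𝒜 𝒞 (i + 1)) :=
        ⟨fun x y => Subtype.ext ((hcon x.1 x.2).trans (hcon y.1 y.2).symm)⟩
      haveI := h0.nontrivial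
      rw [Module.finrank_zero_of_subsingleton] at h
      omega
  obtain ⟨u, hu, hu0⟩ := hne (j - 1) (by omega)
  have h := two_le_finrank_succ 𝒜 hpos h0 m hm hstd 𝓔 e he 𝒞 n hn h2 I ψ hψ hu hu0
  rwa [sub_add_cancel] at h

end Groth.Agent.Lib.Helper20.GrVL
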