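import Mathlib
import Groth.Prelude.Def_GrLC
import Groth.Agent.Lib.Helper20.GrLES12
import Groth.Agent.Lib.Helper20.GrKit1

/-!
# Depth two: homogeneous maps from the irrelevant ideal to a CM graded ring of dimension at least
two are multiplications
-/

set_option autoImplicit false
set_option linter.unusedSectionVars false
set_option linter.unusedVariables false
set_option linter.style.haveILetI false
set_option maxHeartbeats 800000

namespace Groth.Agent.Lib.Helper20.GrVN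

open DirectSum Groth.Agent.Lib.Helper26.GrProj Groth.Agent.Lib.Helper20.GrKit
  Groth.Agent.Lib.Helper20.GrLES

universe u

variable {R : Type u} [CommRing R] [LocCoh.IsCohenMacaulayRing R] (𝒜 : ℤ → AddSubgroup R)
  [GradedRing 𝒜] (hpos : ∀ n : ℤ, n < 0 → 𝒜 n = ⊥)
  (m : HomogeneousIdeal 𝒜) (hm : GrLC.IsStarLocal 𝒜 m)
  (n : ℕ) (hn : ringKrullDim R = n) (I : GrLC.StarInjRes 𝒜 𝒜)

include hpos hm hn I in
theorem gam_eq_zero (h1 : 1 ≤ n) (t : R) (ht : t ∈ GrLC.gam m.toIdeal R) : t = 0 := by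
  haveI : Subsingleton (I.H m 0) := subsingleton_H_of_lt_dim 𝒜 hpos m hm I n hn 0 (by omega)
  have hc : I.ε t ∈ I.cocyc m 0 := ⟨map_mem_gam I.ε _ ht, d_eps I t⟩
  have h0 : I.toH m 0 ⟨I.ε t, hc⟩ = 0 := Subsingleton.elim _ _
  rw [toH_eq_zero_iff, mem_cobdy_zero] at h0
  apply I.ε_injective
  rw [map_zero]
  exact h0

include hpos hm hn I in
theorem exists_mul_eq (h2 : 2 ≤ n) (h : m.toIdeal →ₗ[R] R) (d : ℤ)
    (hh : ∀ (s : ℤ) (x : m.toIdeal), (x : R) ∈ 𝒜 s → h x ∈ 𝒜 (s + d)) :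
    ∃ r : R, ∀ x : m.toIdeal, h x = (x : R) * r := by
  classical
  haveI : Subsingleton (I.H m 1) := subsingleton_H_of_lt_dim 𝒜 hpos m hm I n hn 1 (by omega)
  have hJst : ∀ g x, x ∈ m.toIdeal → proj 𝒜 g x ∈ m.toIdeal := fun g x hx => m.isHomogeneous g hx
  letI : DirectSum.Decomposition (subGr 𝒜 m.toIdeal) := subDecomposition 𝒜 m.toIdeal hJst
  let A : GrLC.GMod.{u} 𝒜 := { carrier := m.toIdeal, gr := shiftGr (subGr 𝒜 m.toIdeal) d }
  let B : GrLC.GMod.{u} 𝒜 := { carrier := R, gr := shiftGr 𝒜 d }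
  have hf : GrLC.IsGrHom A.gr B.gr (Submodule.subtype m.toIdeal) := fun g x hx => hx
  let G : m.toIdeal →ₗ[R] (I.X 0).carrier := I.ε ∘ₗ h
  have hG : GrLC.IsGrHom A.gr (I.X 0).gr G := by
    intro g x hx
    have hx' : (x : R) ∈ 𝒜 (g - d) := hx
    have := hh (g - d) x hx'
    rw [sub_add_cancel] at this
    exact I.ε_grHom g _ this
  obtain ⟨ht, hht, hcomp⟩ := I.starInj 0 A B (Submodule.subtype m.toIdeal) hf
    Subtype.val_injective G hG
  set z := ht (1 : R) with hz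
  have key1 : ∀ x : m.toIdeal, (x : R) • z = I.ε (h x) := by
    intro x
    rw [hz, ← map_smul, smul_eq_mul, mul_one]
    have : ht (x : R) = (ht ∘ₗ Submodule.subtype m.toIdeal) x := rfl
    rw [this, hcomp]
    rfl
  have hd0 : ∀ x ∈ m.toIdeal, x • I.d 0 z = 0 := by
    intro x hx
    rw [← map_smul, key1 ⟨x, hx⟩, d_eps]
  have hc : I.d 0 z ∈ I.cocyc m 1 := by
    refine ⟨⟨1, fun r hr => ?_⟩, d_comp I 0 z⟩
    rw [pow_one] at hr
    exact hd0 r hr
  have h0 : I.toH m 1 ⟨I.d 0 z, hc⟩ = 0 := Subsingleton.elim _ _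
  rw [toH_eq_zero_iff, mem_cobdy_succ] at h0
  obtain ⟨z', hz', hzz'⟩ := h0
  have hker : z - z' ∈ LinearMap.ker (I.d 0) := by
    rw [LinearMap.mem_ker, map_sub, hzz', sub_self]
  rw [I.exact_zero] at hker
  obtain ⟨r, hr⟩ := hker
  refine ⟨r, fun x => ?_⟩
  obtain ⟨k, hk⟩ := hz'
  have hgam : h x - (x : R) * r ∈ GrLC.gam m.toIdeal R := by
    refine ⟨k, fun y hy => ?_⟩
    apply I.ε_injective
    rw [map_zero, map_smul, map_sub, ← key1 x, ← smul_eq_mul, map_smul, hr, smul_sub, smul_sub,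
      smul_sub, sub_sub_cancel, smul_comm, hk y hy, smul_zero]
  have := gam_eq_zero 𝒜 hpos m hm n hn I (by omega) _ hgam
  exact sub_eq_zero.1 this

end Groth.Agent.Lib.Helper20.GrVN
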