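import Mathlib
import Groth.Prelude.Def_GrLC
import Groth.Agent.Lib.Helper20.GrVN1
import Groth.Agent.Lib.Helper20.GrVL3
import Groth.Agent.Lib.Helper20.GorGr6
import Groth.Agent.Lib.Helper20.GrFin3

/-!
# Goto–Watanabe: a generator of the Veronese part of the *canonical module generates it
-/

set_option autoImplicit false
set_option linter.unusedSectionVars false
set_option linter.unusedVariables false
set_option linter.style.haveILetI false
set_option maxHeartbeats 800000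

namespace Groth.Agent.Lib.Helper20.GrVN

open DirectSum Groth.Agent.Lib.Helper26.GrProj Groth.Agent.Lib.Helper20.GrKit
  Groth.Agent.Lib.Helper20.GrCanW Groth.Agent.Lib.Helper20.GrVG Groth.Agent.Lib.Helper20.GrVK
  Groth.Agent.Lib.Helper20.GrLES Groth.Agent.Lib.Helper20.GrVL

universe u

theorem mem_of_proj_eq_zero {M : Type u} [AddCommGroup M] (ℳ : ℤ → AddSubgroup M)
    [DirectSum.Decomposition ℳ] (k : ℤ) (x : M) (h : ∀ j, j ≠ k → proj ℳ j x = 0) : x ∈ ℳ k := by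
  classical
  have h1 := sum_proj ℳ x
  rw [← h1]
  apply sum_mem
  intro j _
  by_cases hj : j = k
  · subst hj
    exact proj_mem ℳ j x
  · rw [h j hj]
    exact zero_mem _

theorem endDeg_eq_of {M : Type u} [AddCommGroup M] (ℳ : ℤ → AddSubgroup M) (a : ℤ)
    (h1 : ℳ a ≠ ⊥) (h2 : ∀ i, a < i → ℳ i = ⊥) :
    GrLC.endDeg ℳ = ((a : WithTop ℤ) : WithBot (WithTop ℤ)) := by
  apply le_antisymm
  · rw [endDeg_le_iff]
    intro i hi
    rw [WithBot.coe_le_coe, WithTop.coe_le_coe]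
    by_contra hlt
    exact hi (h2 i (by omega))
  · exact le_endDeg ℳ a h1

variable {R : Type u} [CommRing R] [LocCoh.IsCohenMacaulayRing R] (𝒜 : ℤ → AddSubgroup R)
  [GradedRing 𝒜]
  (hpos : ∀ n : ℤ, n < 0 → 𝒜 n = ⊥) (h0 : IsField (GrLC.deg0 𝒜))
  (m : HomogeneousIdeal 𝒜) (hm : GrLC.IsStarLocal 𝒜 m)
  (hmsp : m.toIdeal = Ideal.span (⋃ n ∈ Set.Ioi (0 : ℤ), (𝒜 n : Set R)))
  (hstd : Ideal.span (⋃ n ∈ Set.Ioi (0 : ℤ), (𝒜 n : Set R)) =
    Ideal.span ((𝒜 1 : AddSubgroup R) : Set R))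
  {E' : Type u} [AddCommGroup E'] [Module R E'] (𝓔 : ℤ → AddSubgroup E')
  [DirectSum.Decomposition 𝓔] [SetLike.GradedSMul 𝒜 𝓔] (e : (R ⧸ m.toIdeal) →ₗ[R] E')
  (he : GrLC.IsStarInjHull 𝒜 (GrLC.quotGr 𝒜 m) 𝓔 e)
  {C : Type u} [AddCommGroup C] [Module R C] [Module.Finite R C] (𝒞 : ℤ → AddSubgroup C)
  [DirectSum.Decomposition 𝒞] [SetLike.GradedSMul 𝒜 𝒞]
  (n : ℕ) (hn : ringKrullDim R = n) (h2 : 2 ≤ n) (I : GrLC.StarInjRes 𝒜 𝒜)
  [DirectSum.Decomposition (I.Hgr m n)] [SetLike.GradedSMul 𝒜 (I.Hgr m n)]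
  (ψ : (C →ₗ[R] E') ≃ₗ[R] I.H m n)
  (hψ : GrLC.IsGrHom (fun d => (GrLC.homDeg 𝒜 𝒞 𝓔 d).toAddSubgroup) (I.Hgr m n) ψ.toLinearMap)
  (q : ℕ) (hq : 0 < q) (b : ℤ) (w : C) (hw : w ∈ 𝒞 (b * q)) (hw0 : w ≠ 0)
  (hV : ∀ j : ℤ, ∀ c ∈ 𝒞 (j * q), ∃ r ∈ 𝒜 ((j - b) * q), c = r • w)
  (hW : ∀ j : ℤ, ∀ r ∈ 𝒜 (j * q), r • w = 0 → r = 0)

include hmsp hstd in
theorem mspan : m.toIdeal = Ideal.span ((𝒜 1 : AddSubgroup R) : Set R) := hmsp.trans hstd

include hpos hm hmsp hstd hn h2 I in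
/-- nothing in `R` is killed by `R_1` -/
theorem eq_zero_of_deg_one_mul (t : R) (h : ∀ y ∈ 𝒜 1, y * t = 0) : t = 0 := by
  apply gam_eq_zero 𝒜 hpos m hm n hn I (by omega) t
  refine ⟨1, fun y hy => ?_⟩
  rw [pow_one, mspan 𝒜 m hmsp hstd] at hy
  have hle : Ideal.span ((𝒜 1 : AddSubgroup R) : Set R) ≤
      LinearMap.ker (LinearMap.toSpanSingleton R R t) := by
    rw [Ideal.span_le]
    intro y hy
    rw [SetLike.mem_coe, LinearMap.mem_ker, LinearMap.toSpanSingleton_apply, smul_eq_mul]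
    exact h y hy
  have := hle hy
  rwa [LinearMap.mem_ker, LinearMap.toSpanSingleton_apply] at this

include hpos hm hmsp hstd hn h2 I hq hW in
theorem inj_hom {i : ℤ} {r : R} (hr : r ∈ 𝒜 i) (hrw : r • w = 0) : r = 0 := by
  by_cases hi : i < 0
  · have := hr
    rw [hpos i hi, AddSubgroup.mem_bot] at this
    exact this
  push Not at hi
  obtain ⟨q', rfl⟩ := Nat.exists_eq_succ_of_ne_zero hq.ne'
  have hdesc : ∀ t k : ℕ, (∀ x ∈ 𝒜 ((k + t : ℕ) : ℤ), x * r = 0) →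
      ∀ x ∈ 𝒜 ((k : ℕ) : ℤ), x * r = 0 := by
    intro t
    induction t with
    | zero =>
      intro k h
      simpa using h
    | succ t ih =>
      intro k h
      apply ih k
      intro x hx
      apply eq_zero_of_deg_one_mul 𝒜 hpos m hm hmsp hstd n hn h2 I (x * r)
      intro y hy
      have hyx : y * x ∈ 𝒜 ((k + (t + 1) : ℕ) : ℤ) := by
        have := SetLike.GradedMul.mul_mem (A := 𝒜) hy hx
        have e1 : (1 : ℤ) + ((k + t : ℕ) : ℤ) = ((k + (t + 1) : ℕ) : ℤ) := by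
          push_cast
          ring
        rwa [e1] at this
      rw [← mul_assoc]
      exact h _ hyx
  have h1 := hdesc (q' * i.toNat) 0 ?_ 1 (by
    rw [Nat.cast_zero]
    exact SetLike.GradedOne.one_mem)
  · rwa [one_mul] at h1
  · intro x hx
    apply hW i (x * r) ?_ ?_
    · have := SetLike.GradedMul.mul_mem (A := 𝒜) hx hr
      have e1 : ((0 + q' * i.toNat : ℕ) : ℤ) + i = i * ((q' + 1 : ℕ) : ℤ) := by
        push_cast
        rw [Int.toNat_of_nonneg hi]
        ring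
      rwa [e1] at this
    · rw [mul_smul, hrw, smul_zero]

include hpos hm hmsp hstd hn h2 I hq hW hw in
theorem F_injective : Function.Injective (LinearMap.toSpanSingleton R C w) := by
  classical
  rw [← LinearMap.ker_eq_bot, eq_bot_iff]
  intro r hr
  rw [LinearMap.mem_ker, LinearMap.toSpanSingleton_apply] at hr
  rw [Submodule.mem_bot]
  have hcomp : ∀ i, proj 𝒜 i r = 0 := by
    intro i
    apply inj_hom 𝒜 hpos m hm hmsp hstd n hn h2 I q hq w hW (proj_mem 𝒜 i r)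
    have h1 := proj_smul_of_mem_right 𝒜 𝒞 hw (i + b * q) r
    rw [add_sub_cancel_right] at h1
    rw [← h1, hr, proj_zero]
  rw [← sum_proj 𝒜 r]
  exact Finset.sum_eq_zero (fun i _ => hcomp i)

include hpos hm hmsp hstd hn h2 I hq hW hw in
theorem mem_of_smul_mem {g : ℤ} {r : R} (hr : r • w ∈ 𝒞 g) : r ∈ 𝒜 (g - b * q) := by
  apply mem_of_proj_eq_zero 𝒜
  intro j hj
  apply inj_hom 𝒜 hpos m hm hmsp hstd n hn h2 I q hq w hW (proj_mem 𝒜 j r)
  have h1 := proj_smul_of_mem_right 𝒜 𝒞 hw (j + b * q) r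
  rw [add_sub_cancel_right] at h1
  rw [← h1]
  exact proj_of_mem_ne 𝒞 hr (by omega)

include hpos h0 hm hmsp hstd he hn h2 hψ in
/-- nothing in the *canonical module is killed by `R_1` -/
theorem C_torsion_free (u : C) (hu : ∀ y ∈ 𝒜 1, y • u = 0) : u = 0 := by
  classical
  haveI hmax : m.toIdeal.IsMaximal :=
    Groth.Agent.Lib.Helper20.GorGr.isMaximal_irrelevant 𝒜 hpos h0 m hm hmsp
  have hdim : ringKrullDim (R ⧸ m.toIdeal) < (n : WithBot ℕ∞) := by
    letI := Ideal.Quotient.field m.toIdeal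
    rw [ringKrullDim_eq_zero_of_field]
    have : (0 : ℕ) < n := by omega
    exact_mod_cast this
  have hcomp : ∀ j, proj 𝒞 j u = 0 := by
    intro j
    apply eq_zero_of_smul_eq_zero 𝒜 hpos h0 m hm 𝓔 e he 𝒞 n hn I ψ hψ m.toIdeal
      (fun g x hx => m.isHomogeneous g hx) hdim (proj_mem 𝒞 j u)
    intro r hr
    rw [mspan 𝒜 m hmsp hstd] at hr
    have hle : Ideal.span ((𝒜 1 : AddSubgroup R) : Set R) ≤
        LinearMap.ker (LinearMap.toSpanSingleton R C (proj 𝒞 j u)) := by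
      rw [Ideal.span_le]
      intro y hy
      rw [SetLike.mem_coe, LinearMap.mem_ker, LinearMap.toSpanSingleton_apply]
      have h1 := proj_smul_of_mem 𝒜 𝒞 hy (j + 1) u
      rw [add_sub_cancel_right] at h1
      rw [← h1, hu y hy, proj_zero]
    have := hle hr
    rwa [LinearMap.mem_ker, LinearMap.toSpanSingleton_apply] at this
  rw [← sum_proj 𝒞 u]
  exact Finset.sum_eq_zero (fun i _ => hcomp i)

include hpos h0 hm hmsp hstd he hn h2 hψ hq hW hw in
theorem step {i : ℤ} {c : C} (hc : c ∈ 𝒞 i)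
    (hyc : ∀ y ∈ 𝒜 1, y • c ∈ LinearMap.range (LinearMap.toSpanSingleton R C w)) :
    c ∈ LinearMap.range (LinearMap.toSpanSingleton R C w) := by
  classical
  have hinj := F_injective 𝒜 hpos m hm hmsp hstd 𝒞 n hn h2 I q hq b w hw hW
  set F := LinearMap.toSpanSingleton R C w with hF
  have hmc : ∀ y ∈ m.toIdeal, y • c ∈ LinearMap.range F := by
    intro y hy
    rw [mspan 𝒜 m hmsp hstd] at hy
    have hle : Ideal.span ((𝒜 1 : AddSubgroup R) : Set R) ≤
        (LinearMap.range F).comap (LinearMap.toSpanSingleton R C c) := by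
      rw [Ideal.span_le]
      intro y hy
      rw [SetLike.mem_coe, Submodule.mem_comap, LinearMap.toSpanSingleton_apply]
      exact hyc y hy
    have := hle hy
    rwa [Submodule.mem_comap, LinearMap.toSpanSingleton_apply] at this
  let L : m.toIdeal →ₗ[R] LinearMap.range F :=
    LinearMap.codRestrict (LinearMap.range F)
      ((LinearMap.toSpanSingleton R C c) ∘ₗ (Submodule.subtype m.toIdeal))
      (fun x => hmc x.1 x.2)
  let eqv : R ≃ₗ[R] LinearMap.range F := LinearEquiv.ofInjective F hinj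
  let h : m.toIdeal →ₗ[R] R := eqv.symm.toLinearMap ∘ₗ L
  have hFh : ∀ x : m.toIdeal, h x • w = (x : R) • c := by
    intro x
    have h1 := congrArg Subtype.val (eqv.apply_symm_apply (L x))
    exact h1
  have hh : ∀ (s : ℤ) (x : m.toIdeal), (x : R) ∈ 𝒜 s → h x ∈ 𝒜 (s + (i - b * q)) := by
    intro s x hx
    have h1 : h x • w ∈ 𝒞 (s + i) := by
      rw [hFh]
      exact SetLike.GradedSMul.smul_mem (A := 𝒜) (B := 𝒞) hx hc
    have h2' := mem_of_smul_mem 𝒜 hpos m hm hmsp hstd 𝒞 n hn h2 I q hq b w hw hW h1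
    have e1 : s + i - b * q = s + (i - b * q) := by ring
    rwa [e1] at h2'
  obtain ⟨r, hr⟩ := exists_mul_eq 𝒜 hpos m hm n hn I h2 h (i - b * q) hh
  have hu : c - r • w = 0 := by
    apply C_torsion_free 𝒜 hpos h0 m hm hmsp hstd 𝓔 e he 𝒞 n hn h2 I ψ hψ
    intro y hy
    have hym : y ∈ m.toIdeal := by
      rw [mspan 𝒜 m hmsp hstd]
      exact Ideal.subset_span hy
    have h1 := hFh ⟨y, hym⟩
    rw [hr ⟨y, hym⟩] at h1
    change (y * r) • w = y • c at h1
    rw [smul_sub, ← h1, mul_smul, sub_self]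
  refine ⟨r, ?_⟩
  rw [hF, LinearMap.toSpanSingleton_apply]
  exact (sub_eq_zero.1 hu).symm

include hpos h0 hm hmsp hstd he hn h2 hψ hq hW hw hV in
theorem F_surjective : Function.Surjective (LinearMap.toSpanSingleton R C w) := by
  classical
  set F := LinearMap.toSpanSingleton R C w with hF
  have hP : ∀ t : ℕ, ∀ i : ℤ, (∀ c ∈ 𝒞 (i + t), c ∈ LinearMap.range F) →
      ∀ c ∈ 𝒞 i, c ∈ LinearMap.range F := by
    intro t
    induction t with
    | zero =>
      intro i h c hc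
      apply h
      rwa [Nat.cast_zero, add_zero]
    | succ t ih =>
      intro i h
      apply ih i
      intro c hc
      apply step 𝒜 hpos h0 m hm hmsp hstd 𝓔 e he 𝒞 n hn h2 I ψ hψ q hq b w hw hW hc
      intro y hy
      apply h
      have := SetLike.GradedSMul.smul_mem (A := 𝒜) (B := 𝒞) hy hc
      rw [vadd_eq_add] at this
      have e1 : (1 : ℤ) + (i + (t : ℤ)) = i + ((t + 1 : ℕ) : ℤ) := by
        push_cast
        ring
      rwa [e1] at this
  have hall : ∀ i : ℤ, ∀ c ∈ 𝒞 i, c ∈ LinearMap.range F := by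
    intro i
    have hq1 : (1 : ℤ) ≤ (q : ℤ) := by exact_mod_cast hq
    have hge : i ≤ (i.toNat : ℤ) * q := by
      rcases le_or_gt i 0 with hi | hi
      · rw [Int.toNat_of_nonpos hi]
        simpa using hi
      · rw [Int.toNat_of_nonneg hi.le]
        nlinarith
    apply hP ((i.toNat : ℤ) * q - i).toNat i
    intro c hc
    rw [Int.toNat_of_nonneg (by omega), add_sub_cancel] at hc
    obtain ⟨r, -, rfl⟩ := hV _ c hc
    exact ⟨r, by rw [hF, LinearMap.toSpanSingleton_apply]⟩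
  intro c
  rw [← LinearMap.mem_range, ← sum_proj 𝒞 c]
  exact Submodule.sum_mem _ (fun i _ => hall i _ (proj_mem 𝒞 i c))

include hw in
theorem F_deg : GrLC.IsGrHomDeg 𝒜 𝒞 (LinearMap.toSpanSingleton R C w) (b * q) := by
  intro g r hr
  rw [LinearMap.toSpanSingleton_apply]
  exact SetLike.GradedSMul.smul_mem (A := 𝒜) (B := 𝒞) hr hw

include hpos h0 hm hmsp hstd he hn h2 hψ hw hw0 hV in
theorem endDeg_eq : GrLC.endDeg (I.Hgr m n) =
    (((-(b * q) : ℤ) : WithTop ℤ) : WithBot (WithTop ℤ)) := by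
  classical
  letI : Field (GrLC.deg0 𝒜) := h0.toField
  have hne : I.Hgr m n (-(b * q)) ≠ ⊥ := by
    intro hbot
    apply hw0
    apply nondeg 𝒜 hpos h0 m hm 𝓔 e he 𝒞 (I.Hgr m n) ψ hψ hw
    intro h hh
    rw [hbot, AddSubgroup.mem_bot] at hh
    rw [hh, map_zero, LinearMap.zero_apply]
  obtain ⟨r, hr⟩ := Groth.Agent.Lib.Helper20.GrFin.s13227 𝒜 m hmsp 𝒜 I
  have hN : ∀ i, r - 1 < i → I.Hgr m n i = ⊥ := by
    intro i hi
    have h1 := hr n i (by omega)
    rw [eq_bot_iff]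
    intro x hx
    have hx' : x ∈ I.Hcomp m n i := hx
    rw [h1] at hx'
    rw [AddSubgroup.mem_bot]
    exact (Submodule.mem_bot _).1 hx'
  obtain ⟨a, ha1, ha2⟩ := Int.exists_greatest_of_bdd (P := fun z => I.Hgr m n z ≠ ⊥)
    ⟨r - 1, fun z hz => by
      by_contra hlt
      exact hz (hN z (by omega))⟩ ⟨-(b * q), hne⟩
  have hend : GrLC.endDeg (I.Hgr m n) = ((a : WithTop ℤ) : WithBot (WithTop ℤ)) := by
    apply endDeg_eq_of _ a ha1
    intro i hi
    by_contra hcon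
    have := ha2 i hcon
    omega
  have hge : -(b * q) ≤ a := ha2 _ hne
  have hle1 : Module.finrank (GrLC.deg0 𝒜) (GrLC.comp 𝒜 𝒞 (b * q)) ≤ 1 := by
    apply finrank_le_one (⟨w, hw⟩ : GrLC.comp 𝒜 𝒞 (b * q))
    intro c
    obtain ⟨r, hr, hc⟩ := hV b c.1 c.2
    rw [sub_self, zero_mul] at hr
    refine ⟨⟨r, hr⟩, ?_⟩
    apply Subtype.ext
    exact hc.symm
  rcases eq_or_lt_of_le hge with heq | hlt
  · rw [hend, ← heq]
  · have h2' := s18657_aux 𝒜 hpos h0 m hm hstd 𝓔 e he 𝒞 n hn h2 I ψ hψ a hend (b * q)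
      (by omega)
    omega

end Groth.Agent.Lib.Helper20.GrVN
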