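import Mathlib
import Groth.Agent.Lib.Helper20.GrVN3

/-!
# A *canonical module generated in high degrees by a torsion-free element is free
-/

set_option autoImplicit false
set_option linter.unusedSectionVars false
set_option linter.unusedVariables false
set_option linter.style.haveILetI false

universe u

open DirectSum

namespace Groth.Agent.Lib.Helper20.GConv

open Groth.Agent.Lib.Helper26.GrProj Groth.Agent.Lib.Helper20.GrKit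
  Groth.Agent.Lib.Helper20.GrVN

variable {R : Type u} [CommRing R] [LocCoh.IsCohenMacaulayRing R] (𝒜 : ℤ → AddSubgroup R)
  [GradedRing 𝒜]
  (hpos : ∀ n : ℤ, n < 0 → 𝒜 n = ⊥) (h0 : IsField (GrLC.deg0 𝒜))
  (m : HomogeneousIdeal 𝒜) (hm : GrLC.IsStarLocal 𝒜 m)
  (hmsp : m.toIdeal = Ideal.span (⋃ n ∈ Set.Ioi (0 : ℤ), (𝒜 n : Set R)))
  (hstd : Ideal.span (⋃ n ∈ Set.Ioi (0 : ℤ), (𝒜 n : Set R)) =
    Ideal.span ((𝒜 1 : AddSubgroup R) : Set R))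
  {E' : Type u} [AddCommGroup E'] [Module R E'] (𝓔 : ℤ → AddSubgroup E')
  [DirectSum.Decomposition 𝓔] [SetLike.GradedSMul 𝒜 𝓔] (e : (R ⧸ m.toIdeal) →ₗ[R] E')
  (he : GrLC.IsStarInjHull 𝒜 (GrLC.quotGr 𝒜 m) 𝓔 e)
  {C : Type u} [AddCommGroup C] [Module R C] [Module.Finite R C] (𝒞 : ℤ → AddSubgroup C)
  [DirectSum.Decomposition 𝒞] [SetLike.GradedSMul 𝒜 𝒞]
  (n : ℕ) (hn : ringKrullDim R = n) (h2 : 2 ≤ n) (I : GrLC.StarInjRes 𝒜 𝒜)
  [DirectSum.Decomposition (I.Hgr m n)] [SetLike.GradedSMul 𝒜 (I.Hgr m n)]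
  (ψ : (C →ₗ[R] E') ≃ₗ[R] I.H m n)
  (hψ : GrLC.IsGrHom (fun d => (GrLC.homDeg 𝒜 𝒞 𝓔 d).toAddSubgroup) (I.Hgr m n) ψ.toLinearMap)
  (a : ℤ) (u : C) (hu : u ∈ 𝒞 a) (hu0 : u ≠ 0)
  (hW : ∀ j : ℤ, ∀ r ∈ 𝒜 j, r • u = 0 → r = 0)
  (hV : ∀ j : ℤ, a ≤ j → ∀ c ∈ 𝒞 j, ∃ r ∈ 𝒜 (j - a), c = r • u)

include hu in
theorem hu' : u ∈ 𝒞 (a * ((1 : ℕ) : ℤ)) := by
  rw [Nat.cast_one, mul_one]
  exact hu

include hW in
theorem hW' : ∀ j : ℤ, ∀ r ∈ 𝒜 (j * ((1 : ℕ) : ℤ)), r • u = 0 → r = 0 :=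
  fun j r hr => hW _ r hr

include hpos hm hmsp hstd hn h2 I hu hW in
theorem Fu_injective : Function.Injective (LinearMap.toSpanSingleton R C u) :=
  F_injective 𝒜 hpos m hm hmsp hstd 𝒞 n hn h2 I 1 one_pos a u (hu' 𝒞 a u hu) (hW' 𝒜 u hW)

include hpos h0 hm hmsp hstd he hn h2 hψ hu hW hV in
theorem Fu_surjective : Function.Surjective (LinearMap.toSpanSingleton R C u) := by
  classical
  set F := LinearMap.toSpanSingleton R C u with hF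
  have hP : ∀ t : ℕ, ∀ i : ℤ, (∀ c ∈ 𝒞 (i + t), c ∈ LinearMap.range F) →
      ∀ c ∈ 𝒞 i, c ∈ LinearMap.range F := by
    intro t
    induction t with
    | zero =>
      intro i h c hc
      apply h
      rwa [Nat.cast_zero, add_zero]
    | succ t ih =>
      intro i h
      apply ih i
      intro c hc
      apply step 𝒜 hpos h0 m hm hmsp hstd 𝓔 e he 𝒞 n hn h2 I ψ hψ 1 one_pos a u
        (hu' 𝒞 a u hu) (hW' 𝒜 u hW) hc
      intro y hy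
      apply h
      have := SetLike.GradedSMul.smul_mem (A := 𝒜) (B := 𝒞) hy hc
      rw [vadd_eq_add] at this
      have e1 : (1 : ℤ) + (i + (t : ℤ)) = i + ((t + 1 : ℕ) : ℤ) := by
        push_cast
        ring
      rwa [e1] at this
  have hall : ∀ i : ℤ, ∀ c ∈ 𝒞 i, c ∈ LinearMap.range F := by
    intro i
    apply hP (a - i).toNat i
    intro c hc
    obtain ⟨r, -, rfl⟩ := hV (i + ((a - i).toNat : ℤ)) (by omega) c hc
    exact ⟨r, by rw [hF, LinearMap.toSpanSingleton_apply]⟩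
  intro c
  rw [← LinearMap.mem_range, ← sum_proj 𝒞 c]
  exact Submodule.sum_mem _ (fun i _ => hall i _ (proj_mem 𝒞 i c))

include hpos h0 hm hmsp hstd he hn h2 hψ hu hW hV in
/-- **The ring is Gorenstein.** -/
theorem isGorenstein : LocCoh.IsGorensteinRing R := by
  have hC : GrLC.IsStarCanonical 𝒜 𝒞 𝓔 m n I := ⟨inferInstance, ψ, hψ⟩
  refine (Groth.Agent.Lib.Helper20.GorGr.main 𝒜 hpos h0 m hm hmsp n hn I 𝓔 e he 𝒞 hC).2
    ⟨a, LinearMap.toSpanSingleton R C u,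
      ⟨Fu_injective 𝒜 hpos m hm hmsp hstd 𝒞 n hn h2 I a u hu hW,
        Fu_surjective 𝒜 hpos h0 m hm hmsp hstd 𝓔 e he 𝒞 n hn h2 I ψ hψ a u hu hW hV⟩, ?_⟩
  intro g r hr
  rw [LinearMap.toSpanSingleton_apply]
  exact SetLike.GradedSMul.smul_mem (A := 𝒜) (B := 𝒞) hr hu

include hpos h0 hm hmsp hstd he hn h2 hψ hu hu0 hW hV in
/-- **The a-invariant.** -/
theorem endDeg_eq_neg : GrLC.endDeg (I.Hgr m n) =
    (((-a : ℤ) : WithTop ℤ) : WithBot (WithTop ℤ)) := by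
  have hsurj := Fu_surjective 𝒜 hpos h0 m hm hmsp hstd 𝓔 e he 𝒞 n hn h2 I ψ hψ a u hu hW hV
  have hVfull : ∀ j : ℤ, ∀ c ∈ 𝒞 (j * ((1 : ℕ) : ℤ)),
      ∃ r ∈ 𝒜 ((j - a) * ((1 : ℕ) : ℤ)), c = r • u := by
    intro j c hc
    obtain ⟨r, rfl⟩ := hsurj c
    rw [LinearMap.toSpanSingleton_apply] at hc
    have hr := mem_of_smul_mem 𝒜 hpos m hm hmsp hstd 𝒞 n hn h2 I 1 one_pos a u
      (hu' 𝒞 a u hu) (hW' 𝒜 u hW) hc
    have e1 : j * ((1 : ℕ) : ℤ) - a * ((1 : ℕ) : ℤ) = (j - a) * ((1 : ℕ) : ℤ) := by ring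
    rw [e1] at hr
    exact ⟨r, hr, by rw [LinearMap.toSpanSingleton_apply]⟩
  have := endDeg_eq 𝒜 hpos h0 m hm hmsp hstd 𝓔 e he 𝒞 n hn h2 I ψ hψ 1 a u
    (hu' 𝒞 a u hu) hu0 hVfull
  rw [this, Nat.cast_one, mul_one]

end Groth.Agent.Lib.Helper20.GConv
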