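import Mathlib
import Groth.Agent.Lib.Helper20.GDual3
import Groth.Agent.Lib.Helper20.GrVK3
import Groth.Agent.Lib.Helper20.SegTot1

/-!
# A *canonical module and the top local cohomology are graded duals of each other
-/

set_option autoImplicit false
set_option linter.unusedSectionVars false
set_option linter.unusedVariables false
set_option linter.style.haveILetI false

universe u

open TensorProduct DirectSum

namespace Groth.Agent.Lib.Helper20.GDual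

open Groth.Agent.Lib.Helper26.GrProj Groth.Agent.Lib.Helper20.GrKit
  Groth.Agent.Lib.Helper20.SegTot Groth.Agent.Lib.Helper20.GrVK Groth.Agent.Lib.Helper20.GrVG
  Groth.Agent.Lib.Helper20.GrCanW

/-- a pairing which is nondegenerate on a finite dimensional space represents every functional -/
theorem exists_rep_of_nondeg {k : Type u} [Field k] {V W : Type u} [AddCommGroup V] [Module k V]
    [AddCommGroup W] [Module k W] [FiniteDimensional k V]
    (B : W →ₗ[k] V →ₗ[k] k) (hl : ∀ v, (∀ w, B w v = 0) → v = 0) (g : V →ₗ[k] k) :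
    ∃ w, B w = g := by
  let U : Subspace k (Module.Dual k V) := LinearMap.range B
  have h1 : U.dualCoannihilator = ⊥ := by
    rw [eq_bot_iff]
    intro v hv
    rw [Submodule.mem_dualCoannihilator] at hv
    rw [Submodule.mem_bot]
    exact hl v (fun w => hv (B w) ⟨w, rfl⟩)
  have h2 : U = ⊤ := by
    rw [← Subspace.dualCoannihilator_dualAnnihilator_eq (W := U), h1,
      Submodule.dualAnnihilator_bot]
  have h3 : g ∈ U := by
    rw [h2]
    trivial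
  obtain ⟨w, hw⟩ := h3
  exact ⟨w, hw⟩

section Trace

variable {k : Type u} [Field k] {R : Type u} [CommRing R] [Algebra k R] [IsNoetherianRing R]
  (𝒜 : ℤ → AddSubgroup R) [GradedRing 𝒜] (hkA : ∀ c : k, algebraMap k R c ∈ 𝒜 0)
  (hpos : ∀ n : ℤ, n < 0 → 𝒜 n = ⊥) (h0 : IsField (GrLC.deg0 𝒜))
  (h0k : ∀ x ∈ 𝒜 0, ∃ c : k, x = algebraMap k R c)
  (m : HomogeneousIdeal 𝒜) (hm : GrLC.IsStarLocal 𝒜 m)
  {E' : Type u} [AddCommGroup E'] [Module R E'] [Module k E'] [IsScalarTower k R E']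
  (𝓔 : ℤ → AddSubgroup E')
  [DirectSum.Decomposition 𝓔] [SetLike.GradedSMul 𝒜 𝓔] (e : (R ⧸ m.toIdeal) →ₗ[R] E')
  (he : GrLC.IsStarInjHull 𝒜 (GrLC.quotGr 𝒜 m) 𝓔 e)

include hkA hpos h0 h0k hm he in
/-- the trace of the *injective hull of the residue field -/
theorem exists_trace : ∃ τ : E' →ₗ[k] k, (∀ n : ℤ, n ≠ 0 → ∀ x ∈ 𝓔 n, τ x = 0) ∧
    (∀ x ∈ 𝓔 0, τ x = 0 → x = 0) := by
  classical
  have hε : e (Ideal.Quotient.mk m.toIdeal 1) ≠ 0 := e_one_ne_zero 𝒜 m hm 𝓔 e he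
  obtain ⟨f, hf⟩ : ∃ f : Module.Dual k E', f (e (Ideal.Quotient.mk m.toIdeal 1)) ≠ 0 := by
    by_contra hcon
    push Not at hcon
    exact hε ((Module.forall_dual_apply_eq_zero_iff k _).1 hcon)
  refine ⟨f ∘ₗ prK 𝒜 hkA 𝓔 0, ?_, ?_⟩
  · intro n hn x hx
    rw [LinearMap.comp_apply, prK_apply, proj_of_mem_ne 𝓔 hx hn, map_zero]
  · intro x hx hτ
    rw [LinearMap.comp_apply, prK_apply, proj_of_mem_same 𝓔 hx] at hτ
    obtain ⟨t, ht, rfl⟩ := exists_eq_of_mem_zero 𝒜 hpos m hm 𝓔 e he h0 hx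
    obtain ⟨c, rfl⟩ := h0k t ht
    have h1 : e (Ideal.Quotient.mk m.toIdeal (algebraMap k R c)) =
        c • e (Ideal.Quotient.mk m.toIdeal 1) := by
      have : Ideal.Quotient.mk m.toIdeal (algebraMap k R c) =
          algebraMap k R c • Ideal.Quotient.mk m.toIdeal 1 := by
        change _ = Ideal.Quotient.mk m.toIdeal (algebraMap k R c * 1)
        rw [mul_one]
      rw [this, map_smul, algebraMap_smul]
    rw [h1, map_smul, smul_eq_mul] at hτ
    rcases mul_eq_zero.1 hτ with hc | hc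
    · rw [h1, hc, zero_smul]
    · exact absurd hc hf

end Trace

section V

variable {k : Type u} [Field k] {R : Type u} [CommRing R] [Algebra k R] [IsNoetherianRing R]
  (𝒜 : ℤ → AddSubgroup R) [GradedRing 𝒜] (hkA : ∀ c : k, algebraMap k R c ∈ 𝒜 0)
  (hpos : ∀ n : ℤ, n < 0 → 𝒜 n = ⊥) (h0 : IsField (GrLC.deg0 𝒜))
  (m : HomogeneousIdeal 𝒜) (hm : GrLC.IsStarLocal 𝒜 m)
  {E' : Type u} [AddCommGroup E'] [Module R E'] [Module k E'] [IsScalarTower k R E']
  (𝓔 : ℤ → AddSubgroup E')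
  [DirectSum.Decomposition 𝓔] [SetLike.GradedSMul 𝒜 𝓔] (e : (R ⧸ m.toIdeal) →ₗ[R] E')
  (he : GrLC.IsStarInjHull 𝒜 (GrLC.quotGr 𝒜 m) 𝓔 e)
  {C : Type u} [AddCommGroup C] [Module R C] [Module k C] [IsScalarTower k R C]
  [Module.Finite R C] (𝒞 : ℤ → AddSubgroup C)
  [DirectSum.Decomposition 𝒞] [SetLike.GradedSMul 𝒜 𝒞]
  (hfin : ∀ n, Module.Finite k (pcK 𝒜 hkA 𝒞 n))
  {H : Type u} [AddCommGroup H] [Module R H] [Module k H] [IsScalarTower k R H]
  (ℋ : ℤ → AddSubgroup H)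
  [DirectSum.Decomposition ℋ] [SetLike.GradedSMul 𝒜 ℋ]
  (ψ : (C →ₗ[R] E') ≃ₗ[R] H)
  (hψ : GrLC.IsGrHom (fun d => (GrLC.homDeg 𝒜 𝒞 𝓔 d).toAddSubgroup) ℋ ψ.toLinearMap)
  (τ : E' →ₗ[k] k) (hτ1 : ∀ n : ℤ, n ≠ 0 → ∀ x ∈ 𝓔 n, τ x = 0)
  (hτ2 : ∀ x ∈ 𝓔 0, τ x = 0 → x = 0)

/-- the canonical pairing `H × C → k` -/
noncomputable def canPair : H →ₗ[k] C →ₗ[k] k :=
  LinearMap.mk₂ k (fun h c => τ ((ψ.symm h) c))
    (fun h h' c => by rw [map_add, LinearMap.add_apply, map_add])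
    (fun a h c => by
      rw [← algebraMap_smul R a h, map_smul, LinearMap.smul_apply, algebraMap_smul, map_smul])
    (fun h c c' => by rw [map_add, map_add])
    (fun a h c => by
      rw [← algebraMap_smul R a c, map_smul, algebraMap_smul, map_smul])

theorem canPair_apply (h : H) (c : C) : canPair ψ τ h c = τ ((ψ.symm h) c) := rfl

include hkA hpos h0 hm he hfin hψ hτ1 hτ2 in
/-- **The top local cohomology is the graded dual of the *canonical module.** -/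
theorem isGDual_canPair : GrSeg.IsGDual R 𝒞 ℋ (canPair ψ τ) where
  map_smul r d x := by
    rw [canPair_apply, canPair_apply, map_smul, LinearMap.smul_apply, ← map_smul]
  vanish n d hd m' hm' x hx := by
    rw [canPair_apply]
    have h1 := pair_mem 𝒜 𝓔 𝒞 ℋ ψ hψ hx hd
    exact hτ1 (m' + n) (by omega) _ h1
  eq_zero n d hd h := by
    have hd' : d ∈ ℋ (-(-n)) := by rw [neg_neg]; exact hd
    apply nondeg_right 𝒜 hpos m hm 𝓔 e he 𝒞 ℋ ψ hψ hd'
    intro c hc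
    apply hτ2 _ (pair_mem_zero 𝒜 𝓔 𝒞 ℋ ψ hψ hc hd')
    exact h c hc
  exists_eq n g := by
    haveI := hfin (-n)
    let B : ↥(pcK 𝒜 hkA ℋ n) →ₗ[k] Module.Dual k ↥(pcK 𝒜 hkA 𝒞 (-n)) :=
      resPair (canPair ψ τ) (pcK 𝒜 hkA ℋ n) (pcK 𝒜 hkA 𝒞 (-n))
    obtain ⟨w, hw⟩ := exists_rep_of_nondeg B (by
      intro v hv
      apply Subtype.ext
      apply nondeg 𝒜 hpos h0 m hm 𝓔 e he 𝒞 ℋ ψ hψ (i := -n) v.2
      intro h hh
      have hh' : h ∈ ℋ n := by rw [neg_neg] at hh; exact hh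
      apply hτ2 _ (pair_mem_zero 𝒜 𝓔 𝒞 ℋ ψ hψ v.2 hh)
      have := hv ⟨h, hh'⟩
      exact this) (g ∘ₗ (pcK 𝒜 hkA 𝒞 (-n)).subtype)
    refine ⟨w.1, w.2, ?_⟩
    intro x hx
    have := LinearMap.congr_fun hw ⟨x, hx⟩
    exact this

end V

section Symm

variable {R : Type u} [CommRing R] (𝒜 : ℤ → AddSubgroup R) [GradedRing 𝒜]
  {M : Type u} [AddCommGroup M] [Module R M] (ℳ : ℤ → AddSubgroup M)
  [DirectSum.Decomposition ℳ] [SetLike.GradedSMul 𝒜 ℳ]
  {N : Type u} [AddCommGroup N] [Module R N] (𝒩 : ℤ → AddSubgroup N)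
  [DirectSum.Decomposition 𝒩] [SetLike.GradedSMul 𝒜 𝒩]
  {D : Type u} [AddCommGroup D] [Module R D] (𝒟 : ℤ → AddSubgroup D)
  [DirectSum.Decomposition 𝒟]
  (ε : D ≃ₗ[R] (M →ₗ[R] N))
  (hε : ∀ (d : ℤ) (δ : D), δ ∈ 𝒟 d → GrLC.IsGrHomDeg ℳ 𝒩 (ε δ) d)

include hε in
/-- a homogeneous bijection onto `Hom` has a homogeneous inverse -/
theorem symm_isGrHom :
    GrLC.IsGrHom (fun d => (GrLC.homDeg 𝒜 ℳ 𝒩 d).toAddSubgroup) 𝒟 ε.symm.toLinearMap := by
  classical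
  intro d f hf
  have hf' : GrLC.IsGrHomDeg ℳ 𝒩 f d := hf
  change ε.symm f ∈ 𝒟 d
  set h := ε.symm f with hh
  have hεh : ε h = f := by rw [hh, LinearEquiv.apply_symm_apply]
  have key : ∀ j, j ≠ d → proj 𝒟 j h = 0 := by
    intro j hj
    apply ε.injective
    rw [map_zero]
    apply LinearMap.ext
    intro x
    rw [LinearMap.zero_apply, ← sum_proj ℳ x, map_sum]
    apply Finset.sum_eq_zero
    intro i _
    -- evaluate on the homogeneous element `proj ℳ i x`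
    have hxi := proj_mem ℳ i x
    have h1 : f (proj ℳ i x) = ∑ l ∈ (DirectSum.decompose 𝒟 h).support,
        ε (proj 𝒟 l h) (proj ℳ i x) := by
      rw [← hεh]
      conv_lhs => rw [← sum_proj 𝒟 h, map_sum, LinearMap.sum_apply]
    have h2 := congrArg (proj 𝒩 (i + j)) h1
    rw [proj_of_mem_ne 𝒩 (hf' i _ hxi) (by omega), proj_sum] at h2
    by_cases hjs : j ∈ (DirectSum.decompose 𝒟 h).support
    · rw [Finset.sum_eq_single_of_mem j hjs, proj_of_mem_same 𝒩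
        (hε j _ (proj_mem 𝒟 j h) i _ hxi)] at h2
      · exact h2.symm
      · intro l _ hl
        exact proj_of_mem_ne 𝒩 (hε l _ (proj_mem 𝒟 l h) i _ hxi) (by omega)
    · rw [proj_eq_zero_of_notMem 𝒟 hjs, map_zero, LinearMap.zero_apply]
  rw [← sum_proj 𝒟 h]
  apply sum_mem
  intro j _
  by_cases hj : j = d
  · rw [hj]
    exact proj_mem 𝒟 d h
  · rw [key j hj]
    exact zero_mem _

end Symm

end Groth.Agent.Lib.Helper20.GDual
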