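import Mathlib
import Groth.Agent.Lib.Helper20.GDual5

/-!
# The Segre product of graded duals of modules is a graded dual of the Segre product
-/

set_option autoImplicit false
set_option linter.unusedSectionVars false
set_option linter.unusedVariables false
set_option linter.style.haveILetI false

universe u

open DirectSum TensorProduct

namespace Groth.Agent.Lib.Helper20.GDual

open Groth.Agent.Lib.Helper26.GrProj Groth.Agent.Lib.Helper20.GrKit Groth.Agent.Lib.Helper20.SegAc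
  Groth.Agent.Lib.Helper20.SegTot

variable {k : Type u} [Field k] {R S T : Type u} [CommRing R] [CommRing S] [CommRing T]
  [Algebra k R] [Algebra k S] [Algebra k T]
  {𝒜 : ℤ → AddSubgroup R} [GradedRing 𝒜] (hkA : ∀ c : k, algebraMap k R c ∈ 𝒜 0)
  {ℬ : ℤ → AddSubgroup S} [GradedRing ℬ] (hkB : ∀ c : k, algebraMap k S c ∈ ℬ 0)
  {𝒯 : ℤ → AddSubgroup T} [GradedRing 𝒯]
  (ψ : T →ₐ[k] R ⊗[k] S)
  {X : Type u} [AddCommGroup X] [Module R X] [Module k X] [IsScalarTower k R X]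
  (𝒳 : ℤ → AddSubgroup X) [DirectSum.Decomposition 𝒳] [SetLike.GradedSMul 𝒜 𝒳]
  {Y : Type u} [AddCommGroup Y] [Module S Y] [Module k Y] [IsScalarTower k S Y]
  (𝒴 : ℤ → AddSubgroup Y) [DirectSum.Decomposition 𝒴] [SetLike.GradedSMul ℬ 𝒴]
  [hfX : ∀ n, Module.Finite k (pcK 𝒜 hkA 𝒳 n)] [hfY : ∀ n, Module.Finite k (pcK ℬ hkB 𝒴 n)]
  {P : Type u} [AddCommGroup P] [Module T P] [Module k P] [IsScalarTower k T P]
  (𝒬 : ℤ → AddSubgroup P) [DirectSum.Decomposition 𝒬]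
  (φ : P →ₗ[k] X ⊗[k] Y) (hφi : Function.Injective φ)
  (hφp : ∀ n : ℤ, φ '' (𝒬 n : Set P) = (GrSeg.segrePiece k 𝒳 𝒴 n : Set (X ⊗[k] Y)))
  (hφs : ∀ (t : T) (p : P), φ (t • p) = GrSeg.act k R S X Y (ψ t) (φ p))
  {HR : Type u} [AddCommGroup HR] [Module R HR] [Module k HR] [IsScalarTower k R HR]
  (ℋR : ℤ → AddSubgroup HR) [DirectSum.Decomposition ℋR] [SetLike.GradedSMul 𝒜 ℋR]
  {HS : Type u} [AddCommGroup HS] [Module S HS] [Module k HS] [IsScalarTower k S HS]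
  (ℋS : ℤ → AddSubgroup HS) [DirectSum.Decomposition ℋS] [SetLike.GradedSMul ℬ ℋS]
  (βR : HR →ₗ[k] X →ₗ[k] k) (βS : HS →ₗ[k] Y →ₗ[k] k)
  (hGR : GrSeg.IsGDual R 𝒳 ℋR βR) (hGS : GrSeg.IsGDual S 𝒴 ℋS βS)
  {HT : Type u} [AddCommGroup HT] [Module T HT] [Module k HT] [IsScalarTower k T HT]
  (ℋT : ℤ → AddSubgroup HT) [DirectSum.Decomposition ℋT]
  (Φ : HT →ₗ[T] TP ψ HR HS) (hΦi : Function.Injective Φ)
  (hΦ : ∀ e : ℤ, (fun x => (Φ x : HR ⊗[k] HS)) '' (ℋT e : Set HT) =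
    (GrSeg.segrePiece k ℋR ℋS e : Set (HR ⊗[k] HS)))

/-- the pairing on `H_T` against a Segre product of modules -/
noncomputable def pairP : HT →ₗ[k] P →ₗ[k] k :=
  (LinearMap.lcomp k k φ) ∘ₗ (tensorPair βR βS) ∘ₗ (PhiK ψ Φ)

theorem pairP_apply (h : HT) (p : P) :
    pairP ψ φ βR βS Φ h p = tensorPair βR βS (Φ h : HR ⊗[k] HS) (φ p) := rfl

include hGR hGS in
theorem tensorPair_actM (u : R ⊗[k] S) (ξ : HR ⊗[k] HS) (z : X ⊗[k] Y) :
    tensorPair βR βS (GrSeg.act k R S HR HS u ξ) z =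
      tensorPair βR βS ξ (GrSeg.act k R S X Y u z) := by
  induction u using TensorProduct.induction_on with
  | zero => rw [map_zero, LinearMap.zero_apply, map_zero, LinearMap.zero_apply, map_zero,
      LinearMap.zero_apply, map_zero]
  | add a b ha hb =>
    rw [map_add, LinearMap.add_apply, map_add, LinearMap.add_apply, ha, hb, map_add,
      LinearMap.add_apply, map_add]
  | tmul r s =>
    induction ξ using TensorProduct.induction_on with
    | zero => rw [map_zero, map_zero, LinearMap.zero_apply, LinearMap.zero_apply]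
    | add a b ha hb =>
      rw [map_add, map_add, LinearMap.add_apply, ha, hb, map_add, LinearMap.add_apply]
    | tmul a b =>
      induction z using TensorProduct.induction_on with
      | zero => rw [map_zero, map_zero, map_zero]
      | add x y hx hy => rw [map_add, hx, hy, map_add, map_add]
      | tmul x y =>
        rw [GrSeg.act_tmul, GrSeg.act_tmul, tensorPair_tmul,
          tensorPair_tmul, hGR.map_smul, hGS.map_smul]

include hGR in
theorem tensorPair_vanishM (n m : ℤ) (hm : m ≠ -n) (ξ : HR ⊗[k] HS)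
    (hξ : ξ ∈ GrSeg.segrePiece k ℋR ℋS n) (z : X ⊗[k] Y)
    (hz : z ∈ GrSeg.segrePiece k 𝒳 𝒴 m) : tensorPair βR βS ξ z = 0 := by
  refine Submodule.span_induction (p := fun ξ _ => tensorPair βR βS ξ z = 0) ?_ ?_ ?_ ?_ hξ
  · rintro _ ⟨a, ha, b, hb, rfl⟩
    refine Submodule.span_induction (p := fun z _ => tensorPair βR βS (a ⊗ₜ[k] b) z = 0)
      ?_ ?_ ?_ ?_ hz
    · rintro _ ⟨x, hx, y, hy, rfl⟩
      rw [tensorPair_tmul, hGR.vanish n a ha m hm x hx, zero_mul]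
    · rw [map_zero]
    · intro x y _ _ hx hy
      rw [map_add, hx, hy, add_zero]
    · intro c x _ hx
      rw [map_smul, hx, smul_zero]
  · rw [map_zero, LinearMap.zero_apply]
  · intro x y _ _ hx hy
    rw [map_add, LinearMap.add_apply, hx, hy, add_zero]
  · intro c x _ hx
    rw [map_smul, LinearMap.smul_apply, hx, smul_zero]

include hkA hkB hfX hfY hφi hφp hφs hGR hGS hΦi hΦ in
/-- **The Segre product of graded duals of `M` and `N` is a graded dual of `M # N`.** -/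
theorem isGDual_segreMod :
    GrSeg.IsGDual T 𝒬 ℋT (pairP ψ φ βR βS Φ) where
  map_smul t d x := by
    rw [pairP_apply, pairP_apply, Phi_smul ψ Φ t d,
      tensorPair_actM 𝒳 𝒴 ℋR ℋS βR βS hGR hGS, hφs]
  vanish n d hd m hm x hx := by
    rw [pairP_apply]
    have h1 : (Φ d : HR ⊗[k] HS) ∈ GrSeg.segrePiece k ℋR ℋS n := by
      have : (Φ d : HR ⊗[k] HS) ∈ (fun x => (Φ x : HR ⊗[k] HS)) '' (ℋT n : Set HT) :=
        ⟨d, hd, rfl⟩
      rw [hΦ n] at this
      exact this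
    have h2 : φ x ∈ GrSeg.segrePiece k 𝒳 𝒴 m := by
      have : φ x ∈ φ '' (𝒬 m : Set P) := ⟨x, hx, rfl⟩
      rw [hφp m] at this
      exact this
    exact tensorPair_vanishM 𝒳 𝒴 ℋR ℋS βR βS hGR n m hm _ h1 _ h2
  eq_zero n d hd h := by
    have h1 : (Φ d : HR ⊗[k] HS) ∈ GrSeg.segrePiece k ℋR ℋS n := by
      have : (Φ d : HR ⊗[k] HS) ∈ (fun x => (Φ x : HR ⊗[k] HS)) '' (ℋT n : Set HT) :=
        ⟨d, hd, rfl⟩
      rw [hΦ n] at this
      exact this
    rw [segrePiece_eq_range hkA hkB ℋR ℋS n] at h1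
    have h2 := tensor_eq_zero βR βS (pcK 𝒜 hkA ℋR n) (pcK ℬ hkB ℋS n)
      (pcK 𝒜 hkA 𝒳 (-n)) (pcK ℬ hkB 𝒴 (-n))
      (fun v hv hx => hGR.eq_zero n v hv hx) (fun f => hGR.exists_eq n f)
      (fun w hw hy => hGS.eq_zero n w hw hy) (fun f => hGS.exists_eq n f) _ h1 (by
        intro z hz
        rw [← segrePiece_eq_range hkA hkB 𝒳 𝒴 (-n)] at hz
        have hz' : z ∈ φ '' (𝒬 (-n) : Set P) := by
          rw [hφp (-n)]
          exact hz
        obtain ⟨p, hp, rfl⟩ := hz'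
        exact h p hp)
    apply hΦi
    rw [map_zero]
    exact h2
  exists_eq n g₀ := by
    obtain ⟨φ', hφ'⟩ := LinearMap.exists_leftInverse_of_injective φ
      (LinearMap.ker_eq_bot.2 hφi)
    obtain ⟨ξ, hξ, hξG⟩ := tensor_exists_eq βR βS (pcK 𝒜 hkA ℋR n)
      (pcK ℬ hkB ℋS n) (pcK 𝒜 hkA 𝒳 (-n)) (pcK ℬ hkB 𝒴 (-n))
      (fun v hv hx => hGR.eq_zero n v hv hx) (fun f => hGR.exists_eq n f)
      (fun w hw hy => hGS.eq_zero n w hw hy) (fun f => hGS.exists_eq n f) (g₀ ∘ₗ φ')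
    rw [← segrePiece_eq_range hkA hkB ℋR ℋS n] at hξ
    have hξ' : ξ ∈ (fun x => (Φ x : HR ⊗[k] HS)) '' (ℋT n : Set HT) := by
      rw [hΦ n]
      exact hξ
    obtain ⟨d, hd, rfl⟩ := hξ'
    refine ⟨d, hd, ?_⟩
    intro x hx
    rw [pairP_apply]
    have hz : φ x ∈ LinearMap.range
        (TensorProduct.mapIncl (pcK 𝒜 hkA 𝒳 (-n)) (pcK ℬ hkB 𝒴 (-n))) := by
      rw [← segrePiece_eq_range hkA hkB 𝒳 𝒴 (-n)]
      have : φ x ∈ φ '' (𝒬 (-n) : Set P) := ⟨x, hx, rfl⟩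
      rw [hφp (-n)] at this
      exact this
    rw [hξG _ hz, LinearMap.comp_apply]
    have := LinearMap.congr_fun hφ' x
    rw [LinearMap.comp_apply] at this
    exact congrArg g₀ this

end Groth.Agent.Lib.Helper20.GDual
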