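import Mathlib
import Groth.Agent.Lib.Helper20.GDual8
import Groth.Agent.Lib.Helper20.GDual9
import Groth.Agent.Lib.Helper20.GorTop4
import Groth.Agent.Lib.Helper20.GrCanW2
import Groth.Agent.Lib.Helper20.HilbMono1
import Groth.Agent.Lib.Helper20.SegCM3
import Groth.Agent.Lib.Helper20.SegKun
import Groth.Agent.Lib.Helper14.GrDualLib

/-!
# The top local cohomology is a graded dual of the *canonical module
-/

set_option autoImplicit false
set_option linter.unusedSectionVars false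
set_option linter.unusedVariables false
set_option linter.style.haveILetI false

universe u

open TensorProduct DirectSum

namespace Groth.Agent.Lib.Helper20.GDual

open Groth.Agent.Lib.Helper26.GrProj Groth.Agent.Lib.Helper20.GrKit
  Groth.Agent.Lib.Helper20.GrConv Groth.Agent.Lib.Helper20.SegTot
  Groth.Agent.Lib.Helper20.HilbMono Groth.Agent.Lib.Helper20.GrCanW

section One

variable (k : Type u) [Field k] (R : Type u) [CommRing R] [Algebra k R]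
  (𝒜 : ℤ → Submodule k R) [GradedAlgebra 𝒜]
  (hposR : ∀ n : ℤ, n < 0 → 𝒜 n = ⊥) (h0R : 𝒜 0 = Submodule.span k {(1 : R)})
  (mR : HomogeneousIdeal 𝒜)
  (hmR : mR.toIdeal = Ideal.span (⋃ n ∈ Set.Ioi (0 : ℤ), (𝒜 n : Set R)))

include hposR in
theorem hpos_asGr : ∀ n : ℤ, n < 0 → asGr 𝒜 n = ⊥ := by
  intro n hn
  rw [AddSubgroup.eq_bot_iff_forall]
  intro x hx
  have hx' : x ∈ 𝒜 n := hx
  rw [hposR n hn, Submodule.mem_bot] at hx'
  exact hx'

include hposR h0R hmR in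
theorem isStarLocal_asGr [IsNoetherianRing R] [Nontrivial R] :
    GrLC.IsStarLocal (asGr 𝒜) (idealToAS 𝒜 mR) := by
  have h0' : IsField (GrLC.deg0 (asGr 𝒜)) := Groth.Agent.Lib.Helper20.SegCM.isField_deg0 𝒜 h0R
  have hmeq : idealToAS 𝒜 mR = irr (asGr 𝒜) := by
    apply HomogeneousIdeal.toIdeal_injective
    rw [irr_toIdeal]
    exact hmR
  rw [hmeq]
  exact isStarLocal_irr (asGr 𝒜) (hpos_asGr k R 𝒜 hposR) h0'

include h0R in
theorem h0k_asGr : ∀ x ∈ asGr 𝒜 0, ∃ c : k, x = algebraMap k R c := by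
  intro x hx
  have hx' : x ∈ 𝒜 0 := hx
  rw [h0R, Submodule.mem_span_singleton] at hx'
  obtain ⟨c, rfl⟩ := hx'
  exact ⟨c, (Algebra.algebraMap_eq_smul_one c).symm⟩

variable [Algebra.FiniteType k R] [Nontrivial R]
  (I : GrLC.StarInjRes 𝒜 𝒜) (n : ℕ)
  (ER : Type u) [AddCommGroup ER] [Module R ER] (𝓔R : ℤ → AddSubgroup ER)
  [DirectSum.Decomposition 𝓔R] [SetLike.GradedSMul 𝒜 𝓔R]
  (eR : (R ⧸ mR.toIdeal) →ₗ[R] ER) (heR : GrLC.IsStarInjHull 𝒜 (GrLC.quotGr 𝒜 mR) 𝓔R eR)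
  (CR : Type u) [AddCommGroup CR] [Module R CR] [Module k CR] [IsScalarTower k R CR]
  (𝒞R : ℤ → AddSubgroup CR) [DirectSum.Decomposition 𝒞R] [SetLike.GradedSMul 𝒜 𝒞R]
  (hCR : GrLC.IsStarCanonical 𝒜 𝒞R 𝓔R mR n I)
  [∀ i, Module k ((resToAS I).X i).carrier] [∀ i, IsScalarTower k R ((resToAS I).X i).carrier]
  [DirectSum.Decomposition ((resToAS I).Hgr (idealToAS 𝒜 mR) n)]

include hposR h0R hmR heR hCR in
/-- **The top local cohomology is a graded dual of the *canonical module.** -/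
theorem exists_gdual_of_canonical :
    ∃ β : (resToAS I).H (idealToAS 𝒜 mR) n →ₗ[k] CR →ₗ[k] k,
      GrSeg.IsGDual R 𝒞R ((resToAS I).Hgr (idealToAS 𝒜 mR) n) β := by
  classical
  haveI : IsNoetherianRing R := Algebra.FiniteType.isNoetherianRing k R
  have hkA : ∀ c : k, algebraMap k R c ∈ asGr 𝒜 0 :=
    Groth.Agent.Lib.Helper20.SegKun.algebraMap_mem_asGr 𝒜
  haveI : SetLike.GradedSMul (asGr 𝒜) 𝓔R :=
    ⟨fun {i j} {a d} ha hx => SetLike.GradedSMul.smul_mem (A := 𝒜) ha hx⟩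
  haveI : SetLike.GradedSMul (asGr 𝒜) 𝒞R :=
    ⟨fun {i j} {a d} ha hx => SetLike.GradedSMul.smul_mem (A := 𝒜) ha hx⟩
  letI : Module k ER := Module.compHom ER (algebraMap k R)
  haveI : IsScalarTower k R ER := ⟨fun c r x => by
    change (c • r) • x = algebraMap k R c • (r • x)
    rw [Algebra.smul_def, mul_smul]⟩
  have hpos' := hpos_asGr k R 𝒜 hposR
  have hm' := isStarLocal_asGr k R 𝒜 hposR h0R mR hmR
  have h0' : IsField (GrLC.deg0 (asGr 𝒜)) := Groth.Agent.Lib.Helper20.SegCM.isField_deg0 𝒜 h0R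
  have he' := isStarInjHull_toAS 𝒜 mR 𝓔R eR heR
  obtain ⟨hfin, ψR, hψR⟩ : Module.Finite R CR ∧
      ∃ ψR : (CR →ₗ[R] ER) ≃ₗ[R] (resToAS I).H (idealToAS 𝒜 mR) n,
        GrLC.IsGrHom (fun d => (GrLC.homDeg (asGr 𝒜) 𝒞R 𝓔R d).toAddSubgroup)
          ((resToAS I).Hgr (idealToAS 𝒜 mR) n) ψR.toLinearMap :=
    isStarCanonical_toAS 𝒜 mR 𝓔R 𝒞R n I hCR
  haveI := hfin
  obtain ⟨τ, hτ1, hτ2⟩ := exists_trace (k := k) (asGr 𝒜) hkA hpos' h0' (h0k_asGr k R 𝒜 h0R)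
    (idealToAS 𝒜 mR) hm' 𝓔R eR he'
  have hfp : ∀ j, Module.Finite k (pcK (asGr 𝒜) hkA 𝒞R j) := fun j => by
    have h : pcK (asGr 𝒜) hkA 𝒞R j = Groth.Agent.Lib.Helper14.GrDualLib.pieceK 𝒜 𝒞R j :=
      Submodule.ext fun x => Iff.rfl
    rw [h]
    exact Groth.Agent.Lib.Helper14.GrDualLib.finite_piece_module 𝒜 𝒞R hposR h0R j
  exact ⟨canPair ψR τ, isGDual_canPair (asGr 𝒜) hkA hpos' h0' (idealToAS 𝒜 mR) hm' 𝓔R eR he' 𝒞R
    hfp ((resToAS I).Hgr (idealToAS 𝒜 mR) n) ψR hψR τ hτ1 hτ2⟩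

end One

end Groth.Agent.Lib.Helper20.GDual
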