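import Mathlib
import Groth.Prelude.Def_GrLC
import Groth.Prelude.Def_GrSeg
import Groth.Agent.Lib.Helper20.GrKit2

/-!
# Graded duals and tensor products: `(M ⊗ H)^* ≅ Hom_R(M, H^*)`

An abstract statement: if `μ : M × H_R → H_M` exhibits `H_M` as `M ⊗_R H_R` (compatibly with
degrees), `K` is a graded `k`-dual of `H_R` and `D` a graded `k`-dual of `H_M`, then
`D ≅ Hom_R(M, K)` as graded modules.
-/

set_option autoImplicit false
set_option linter.unusedSectionVars false
set_option linter.unusedVariables false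

namespace Groth.Agent.Lib.Helper20.GrW

open DirectSum TensorProduct Groth.Agent.Lib.Helper20.GrKit

universe u

section Sep

variable {k : Type u} [Field k] {R : Type u} [CommRing R] [Algebra k R]
  {H : Type u} [AddCommGroup H] [Module R H] [Module k H] [IsScalarTower k R H]
  (ℋ : ℤ → AddSubgroup H) [DirectSum.Decomposition ℋ]
  {D : Type u} [AddCommGroup D] [Module R D] [Module k D] [IsScalarTower k R D]
  (𝒟 : ℤ → AddSubgroup D) [DirectSum.Decomposition 𝒟]
  (β : D →ₗ[k] H →ₗ[k] k) (hD : GrSeg.IsGDual R ℋ 𝒟 β)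

include hD in
/-- the pairing of a graded dual is nondegenerate on the left -/
theorem sep (d : D) (h : ∀ y, β d y = 0) : d = 0 := by
  classical
  have hcomp : ∀ n, ((DirectSum.decompose 𝒟 d n : 𝒟 n) : D) = 0 := by
    intro n
    apply hD.eq_zero n _ (SetLike.coe_mem _)
    intro y hy
    have h1 : β d y = β ((DirectSum.decompose 𝒟 d n : 𝒟 n) : D) y := by
      conv_lhs => rw [← DirectSum.sum_support_decompose 𝒟 d, map_sum, LinearMap.sum_apply]
      rw [Finset.sum_eq_single n]
      · intro j _ hj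
        exact hD.vanish j _ (SetLike.coe_mem _) (-n)
          (fun h' => hj (neg_injective h').symm) y hy
      · intro hn
        rw [DFinsupp.notMem_support_iff] at hn
        rw [hn]
        simp
    rw [← h1]
    exact h y
  rw [← DirectSum.sum_support_decompose 𝒟 d]
  exact Finset.sum_eq_zero fun n _ => hcomp n

end Sep

section Duality

variable {k : Type u} [Field k] {R : Type u} [CommRing R] [Algebra k R]
  (𝒜 : ℤ → AddSubgroup R) [GradedRing 𝒜]
  {HR : Type u} [AddCommGroup HR] [Module R HR] [Module k HR] [IsScalarTower k R HR]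
  (ℋR : ℤ → AddSubgroup HR) [DirectSum.Decomposition ℋR]
  {K : Type u} [AddCommGroup K] [Module R K] [Module k K] [IsScalarTower k R K]
  (𝒦 : ℤ → AddSubgroup K) [DirectSum.Decomposition 𝒦] [SetLike.GradedSMul 𝒜 𝒦]
  (βK : K →ₗ[k] HR →ₗ[k] k) (hK : GrSeg.IsGDual R ℋR 𝒦 βK)
  {M : Type u} [AddCommGroup M] [Module R M]
  (ℳ : ℤ → AddSubgroup M) [DirectSum.Decomposition ℳ] [SetLike.GradedSMul 𝒜 ℳ]
  {HM : Type u} [AddCommGroup HM] [Module R HM] [Module k HM] [IsScalarTower k R HM]
  (ℋM : ℤ → AddSubgroup HM) [DirectSum.Decomposition ℋM]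
  {D : Type u} [AddCommGroup D] [Module R D] [Module k D] [IsScalarTower k R D]
  (𝒟 : ℤ → AddSubgroup D) [DirectSum.Decomposition 𝒟]
  (βD : D →ₗ[k] HM →ₗ[k] k) (hD : GrSeg.IsGDual R ℋM 𝒟 βD)
  (μ : M →ₗ[R] HR →ₗ[R] HM)
  (hμ : ∀ (e g : ℤ) (x : M) (h : HR), x ∈ ℳ e → h ∈ ℋR g → μ x h ∈ ℋM (g + e))

include hK hD hμ in
theorem exists_rep_hom {d' e : ℤ} {δ : D} (hδ : δ ∈ 𝒟 d') {x : M} (hx : x ∈ ℳ e) :
    ∃ κ : K, κ ∈ 𝒦 (e + d') ∧ ∀ h, βK κ h = βD δ (μ x h) := by
  classical
  let g : HR →ₗ[k] k := (βD δ) ∘ₗ ((μ x).restrictScalars k)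
  obtain ⟨κ, hκ, hκg⟩ := hK.exists_eq (e + d') g
  refine ⟨κ, hκ, ?_⟩
  intro h
  change βK κ h = g h
  induction h using DirectSum.Decomposition.inductionOn ℋR with
  | zero => simp
  | add h h' ih ih' => rw [map_add, map_add, ih, ih']
  | homogeneous h =>
    rename_i j
    by_cases hj : j = -(e + d')
    · exact hκg h (hj ▸ h.2)
    · rw [hK.vanish (e + d') κ hκ j hj h h.2]
      change 0 = βD δ (μ x h)
      rw [hD.vanish d' δ hδ (j + e) (by omega) _ (hμ e j x h hx h.2)]

include hK hD hμ in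
theorem exists_rep (δ : D) (x : M) : ∃ κ : K, ∀ h, βK κ h = βD δ (μ x h) := by
  classical
  induction δ using DirectSum.Decomposition.inductionOn 𝒟 with
  | zero => exact ⟨0, fun h => by simp⟩
  | add δ δ' ih ih' =>
    obtain ⟨κ, hκ⟩ := ih
    obtain ⟨κ', hκ'⟩ := ih'
    exact ⟨κ + κ', fun h => by
      rw [map_add, LinearMap.add_apply, hκ, hκ', map_add, LinearMap.add_apply]⟩
  | homogeneous δ =>
    rename_i d'
    induction x using DirectSum.Decomposition.inductionOn ℳ with
    | zero => exact ⟨0, fun h => by simp⟩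
    | add x y ih ih' =>
      obtain ⟨κ, hκ⟩ := ih
      obtain ⟨κ', hκ'⟩ := ih'
      exact ⟨κ + κ', fun h => by
        rw [map_add, LinearMap.add_apply, hκ, hκ', map_add μ, LinearMap.add_apply, map_add]⟩
    | homogeneous x =>
      obtain ⟨κ, _, hκ⟩ := exists_rep_hom ℋR 𝒦 βK hK ℳ ℋM 𝒟 βD hD μ hμ δ.2 x.2
      exact ⟨κ, hκ⟩

include 𝒜 hK hD hμ in
/-- **Graded Hom–tensor duality.** -/
theorem duality [Module.Finite R M] (hb : Function.Bijective (TensorProduct.lift μ)) :
    ∃ ε : D ≃ₗ[R] (M →ₗ[R] K),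
      ∀ (d : ℤ) (δ : D), δ ∈ 𝒟 d → GrLC.IsGrHomDeg ℳ 𝒦 (ε δ) d := by
  classical
  have extK : ∀ {κ κ' : K}, (∀ y, βK κ y = βK κ' y) → κ = κ' := by
    intro κ κ' h
    apply sub_eq_zero.1
    apply sep ℋR 𝒦 βK hK
    intro y
    rw [map_sub, LinearMap.sub_apply, h y, sub_self]
  choose Φ₀ hΦ₀ using exists_rep ℋR 𝒦 βK hK ℳ ℋM 𝒟 βD hD μ hμ
  let Φ : D →ₗ[R] M →ₗ[R] K := LinearMap.mk₂ R Φ₀
    (fun δ δ' x => extK fun h => by
      rw [hΦ₀, map_add, LinearMap.add_apply, map_add, LinearMap.add_apply, hΦ₀, hΦ₀])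
    (fun c δ x => extK fun h => by
      rw [hΦ₀, hD.map_smul, hK.map_smul, hΦ₀, (μ x).map_smul])
    (fun δ x y => extK fun h => by
      rw [hΦ₀, map_add μ, LinearMap.add_apply, map_add, map_add, LinearMap.add_apply, hΦ₀, hΦ₀])
    (fun c δ x => extK fun h => by
      rw [hΦ₀, hK.map_smul, hΦ₀, μ.map_smul, LinearMap.smul_apply, (μ x).map_smul])
  have hΦ : ∀ δ x h, βK (Φ δ x) h = βD δ (μ x h) := hΦ₀
  have hgr : ∀ (d' : ℤ) (δ : D), δ ∈ 𝒟 d' → ∀ (e : ℤ) (x : M), x ∈ ℳ e → Φ δ x ∈ 𝒦 (e + d') := by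
    intro d' δ hδ e x hx
    obtain ⟨κ, hκ, hκe⟩ := exists_rep_hom ℋR 𝒦 βK hK ℳ ℋM 𝒟 βD hD μ hμ hδ hx
    have : Φ δ x = κ := extK fun h => by rw [hΦ, hκe]
    rw [this]
    exact hκ
  have hinj : Function.Injective Φ := by
    rw [injective_iff_map_eq_zero]
    intro δ hδ
    apply sep ℋM 𝒟 βD hD
    intro y
    obtain ⟨z, rfl⟩ := hb.2 y
    induction z using TensorProduct.induction_on with
    | zero => simp
    | tmul x h =>
      rw [TensorProduct.lift.tmul, ← hΦ, hδ]
      simp
    | add z w hz hw => rw [map_add, map_add, hz, hw, add_zero]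
  have hhom : ∀ (d' : ℤ) (f' : M →ₗ[R] K), GrLC.IsGrHomDeg ℳ 𝒦 f' d' →
      f' ∈ LinearMap.range Φ := by
    intro d' f' hf'
    let e := LinearEquiv.ofBijective (TensorProduct.lift μ) hb
    let b : M →+ HR →+ k :=
      { toFun := fun x => (βK (f' x)).toAddMonoidHom
        map_zero' := by
          ext h
          simp
        map_add' := by
          intro x y
          ext h
          simp }
    let ℓ : M ⊗[R] HR →+ k := TensorProduct.liftAddHom b (fun r x h => by
      change βK (f' (r • x)) h = βK (f' x) (r • h)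
      rw [map_smul, hK.map_smul])
    have hℓ : ∀ x h, ℓ (x ⊗ₜ[R] h) = βK (f' x) h := fun x h => rfl
    have hℓs : ∀ (c : k) (z : M ⊗[R] HR), ℓ (algebraMap k R c • z) = c • ℓ z := by
      intro c z
      induction z using TensorProduct.induction_on with
      | zero => simp
      | tmul x h =>
        rw [TensorProduct.smul_tmul', hℓ, hℓ, map_smul, algebraMap_smul, map_smul,
          LinearMap.smul_apply]
      | add z w hz hw => rw [smul_add, map_add, hz, hw, map_add, smul_add]
    let lam : HM →ₗ[k] k :=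
      { toFun := fun y => ℓ (e.symm y)
        map_add' := by
          intro y y'
          rw [map_add, map_add]
        map_smul' := by
          intro c y
          rw [← algebraMap_smul R c y, map_smul, hℓs]
          rfl }
    have hlam : ∀ x h, lam (μ x h) = βK (f' x) h := by
      intro x h
      have : e.symm (μ x h) = x ⊗ₜ[R] h := by
        rw [LinearEquiv.symm_apply_eq]
        rfl
      change ℓ (e.symm (μ x h)) = _
      rw [this, hℓ]
    obtain ⟨δ, hδ, hδl⟩ := hD.exists_eq d' lam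
    refine ⟨δ, ?_⟩
    apply LinearMap.ext
    intro x
    apply extK
    intro h
    rw [hΦ]
    induction x using DirectSum.Decomposition.inductionOn ℳ with
    | zero => simp
    | add x y hx hy =>
      rw [map_add μ, LinearMap.add_apply, map_add, hx, hy, map_add f', map_add,
        LinearMap.add_apply]
    | homogeneous x =>
      rename_i e0
      induction h using DirectSum.Decomposition.inductionOn ℋR with
      | zero => simp
      | add h h' ih ih' => rw [map_add, map_add, ih, ih', map_add]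
      | homogeneous h =>
        rename_i j
        by_cases hj : j + e0 = -d'
        · rw [hδl _ (hj ▸ hμ e0 j x h x.2 h.2), hlam]
        · rw [hD.vanish d' δ hδ (j + e0) hj _ (hμ e0 j x h x.2 h.2),
            hK.vanish (e0 + d') (f' x) (hf' e0 x x.2) j (by omega) h h.2]
  have hsurj : Function.Surjective Φ := by
    intro f
    rw [← LinearMap.mem_range]
    obtain ⟨T, hT⟩ := exists_finset_homComp 𝒜 ℳ 𝒦 (Module.Finite.fg_top (R := R) (M := M)) f
    rw [hT]
    exact Submodule.sum_mem _ fun d' _ =>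
      hhom d' _ (homComp_isGrHomDeg 𝒜 ℳ 𝒦 f d')
  refine ⟨LinearEquiv.ofBijective Φ ⟨hinj, hsurj⟩, ?_⟩
  intro d δ hδ g m hm
  exact hgr d δ hδ g m hm

end Duality

end Groth.Agent.Lib.Helper20.GrW
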