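import Mathlib
import Groth.Prelude.Def_GrSeg
import Groth.Agent.Lib.Helper20.SegMod
import Groth.Agent.Lib.Helper20.SegGr
import Groth.Agent.Lib.Helper20.GrKit2

/-!
# The Segre product of finitely generated graded modules is finitely generated
-/

set_option autoImplicit false
set_option linter.unusedSectionVars false
universe u
open scoped TensorProduct

namespace Groth.Agent.Lib.Helper20.SegFin

open Groth.Agent.Lib.Helper20.SegDim Groth.Agent.Lib.Helper20.SegMod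
  Groth.Agent.Lib.Helper20.SegGr Groth.Agent.Lib.Helper20.SegWeight GrSeg

section General

/-- The pieces of a Noetherian `ℤ`-graded ring are finitely generated over the degree `0` part,
by homogeneous elements. -/
theorem exists_finset_piece_gens {C : Type*} [CommRing C] [IsNoetherianRing C] {σ : Type*}
    [SetLike σ C] [AddSubgroupClass σ C] (𝒞 : ℤ → σ) [GradedRing 𝒞] (w : ℤ) :
    ∃ G : Finset C, (∀ g ∈ G, g ∈ 𝒞 w) ∧
      ∀ x ∈ 𝒞 w, ∃ c : C → C, (∀ g, c g ∈ 𝒞 0) ∧ x = ∑ g ∈ G, c g * g := by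
  classical
  have hfg : (Ideal.span {x : C | x ∈ 𝒞 w}).FG := IsNoetherian.noetherian _
  obtain ⟨G, hG, hspan⟩ := (Submodule.fg_span_iff_fg_span_finset_subset _).1 hfg
  refine ⟨G, fun g hg => hG hg, fun x hx => ?_⟩
  have hx' : x ∈ Submodule.span C (G : Set C) := by
    rw [← hspan]; exact Submodule.subset_span hx
  obtain ⟨f, -, hf⟩ := Submodule.mem_span_finset.1 hx'
  refine ⟨fun g => (DirectSum.decompose 𝒞 (f g) 0 : C), fun g => SetLike.coe_mem _, ?_⟩
  conv_lhs => rw [← DirectSum.decompose_of_mem_same 𝒞 hx, ← hf]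
  rw [DirectSum.decompose_sum, DFinsupp.finset_sum_apply, AddSubmonoidClass.coe_finset_sum]
  refine Finset.sum_congr rfl fun g hg => ?_
  have := DirectSum.coe_decompose_mul_add_of_right_mem 𝒞 (i := 0) (a := f g) (hG hg)
  rw [zero_add] at this
  simpa [smul_eq_mul] using this

end General

section Coeffs

variable {k : Type u} [Field k] {R : Type u} [CommRing R] [Algebra k R]
  (𝒜 : ℤ → Submodule k R) [GradedAlgebra 𝒜]
  {M : Type u} [AddCommGroup M] [Module R M] (ℳ : ℤ → AddSubgroup M)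
  [DirectSum.Decomposition ℳ] [SetLike.GradedSMul 𝒜 ℳ]

/-- homogeneous elements are homogeneous combinations of homogeneous generators -/
theorem exists_homogeneous_coeffs {s : ℕ} (d : Fin s → ℤ) (m : Fin s → M)
    (hm : ∀ j, m j ∈ ℳ (d j)) (hspan : Submodule.span R (Set.range m) = ⊤) (n : ℤ) (x : M)
    (hx : x ∈ ℳ n) : ∃ c : Fin s → R, (∀ j, c j ∈ 𝒜 (n - d j)) ∧ x = ∑ j, c j • m j := by
  classical
  have hx' : x ∈ Submodule.span R (Set.range m) := by rw [hspan]; exact Submodule.mem_top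
  obtain ⟨c, hc⟩ := (Submodule.mem_span_range_iff_exists_fun R).1 hx'
  refine ⟨fun j => (DirectSum.decompose 𝒜 (c j) (n - d j) : R), fun j => SetLike.coe_mem _, ?_⟩
  conv_lhs => rw [← DirectSum.decompose_of_mem_same ℳ hx, ← hc]
  rw [DirectSum.decompose_sum, DFinsupp.finset_sum_apply, AddSubmonoidClass.coe_finset_sum]
  refine Finset.sum_congr rfl fun j _ => ?_
  have := decompose_smul_of_mem 𝒜 ℳ (hm j) (c j) (n - d j)
  rwa [sub_add_cancel] at this

end Coeffs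

section Main

variable {k : Type u} [Field k] {R : Type u} [CommRing R] [Algebra k R]
  (𝒜 : ℤ → Submodule k R) [GradedAlgebra 𝒜] [Algebra.FiniteType k R]
  {S : Type u} [CommRing S] [Algebra k S] (ℬ : ℤ → Submodule k S) [GradedAlgebra ℬ]
  [Algebra.FiniteType k S]
  {T : Type u} [CommRing T] [Algebra k T] (𝒯 : ℤ → Submodule k T) [GradedAlgebra 𝒯]
  (ψ : T →ₐ[k] R ⊗[k] S)
  {M : Type u} [AddCommGroup M] [Module R M] [Module k M] [IsScalarTower k R M]
  (ℳ : ℤ → AddSubgroup M) [DirectSum.Decomposition ℳ] [SetLike.GradedSMul 𝒜 ℳ]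
  {N : Type u} [AddCommGroup N] [Module S N] [Module k N] [IsScalarTower k S N]
  (𝒩 : ℤ → AddSubgroup N) [DirectSum.Decomposition 𝒩] [SetLike.GradedSMul ℬ 𝒩]
  {P : Type u} [AddCommGroup P] [Module T P] [Module k P] [IsScalarTower k T P]
  (𝒬 : ℤ → AddSubgroup P) [DirectSum.Decomposition 𝒬] (φ : P →ₗ[k] M ⊗[k] N)

include 𝒯 in
theorem exists_of_mem_wt_zero
    (hdegT : ∀ n : ℤ, (𝒯 n).map ψ.toLinearMap = biPiece 𝒜 ℬ n n) {c : R ⊗[k] S}
    (hc : c ∈ wt 𝒜 ℬ 0) : ∃ t : T, ψ t = c := by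
  refine wt_induction (p := fun c => ∃ t : T, ψ t = c) ⟨0, map_zero _⟩ ?_ ?_ ?_ hc
  · rintro x y ⟨t, rfl⟩ ⟨t', rfl⟩
    exact ⟨t + t', map_add _ _ _⟩
  · rintro l x ⟨t, rfl⟩
    exact ⟨l • t, map_smul _ _ _⟩
  · intro i j hij a ha b hb
    have : i = j := by omega
    subst this
    exact exists_map_eq_tmul hdegT i a ha b hb

include 𝒜 ℬ in
theorem act_mem_range (hP : IsSegreMod ψ ℳ 𝒩 𝒬 φ) {d e : ℤ} {c : R ⊗[k] S}
    (hc : c ∈ wt 𝒜 ℬ (e - d)) {m : M} (hm : m ∈ ℳ d) {n : N} (hn : n ∈ 𝒩 e) :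
    ∃ p : P, φ p = act k R S M N c (m ⊗ₜ[k] n) := by
  refine wt_induction (p := fun c => ∃ p : P, φ p = act k R S M N c (m ⊗ₜ[k] n))
    ⟨0, by simp⟩ ?_ ?_ ?_ hc
  · rintro x y ⟨p, hp⟩ ⟨q, hq⟩
    exact ⟨p + q, by rw [map_add, hp, hq, map_add, LinearMap.add_apply]⟩
  · rintro l x ⟨p, hp⟩
    exact ⟨l • p, by rw [map_smul, hp, map_smul, LinearMap.smul_apply]⟩
  · intro i j hij a ha b hb
    rw [act_tmul]
    have hmem : (a • m) ⊗ₜ[k] (b • n) ∈ segrePiece k ℳ 𝒩 (i + d) := by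
      apply Submodule.subset_span
      refine ⟨a • m, SetLike.GradedSMul.smul_mem ha hm, b • n, ?_, rfl⟩
      have : i + d = j + e := by omega
      rw [this]
      exact SetLike.GradedSMul.smul_mem hb hn
    have h2 := hP.image_piece (i + d)
    rw [← SetLike.mem_coe, ← h2] at hmem
    obtain ⟨p, -, hp⟩ := hmem
    exact ⟨p, hp⟩

include 𝒯 in
/-- `M # N` is a finitely generated `R # S`-module. -/
theorem moduleFinite_segreMod
    (hdegT : ∀ n : ℤ, (𝒯 n).map ψ.toLinearMap = biPiece 𝒜 ℬ n n)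
    [Module.Finite R M] [Module.Finite S N] (hP : IsSegreMod ψ ℳ 𝒩 𝒬 φ) :
    Module.Finite T P := by
  classical
  obtain ⟨sM, dM, m, hm, hmspan⟩ :=
    GrKit.exists_homogeneous_gens ℳ (Module.Finite.fg_top (R := R) (M := M))
  obtain ⟨sN, dN, n, hn, hnspan⟩ :=
    GrKit.exists_homogeneous_gens 𝒩 (Module.Finite.fg_top (R := S) (M := N))
  have : IsNoetherianRing (R ⊗[k] S) := Algebra.FiniteType.isNoetherianRing k _
  choose G hG1 hG2 using fun w => exists_finset_piece_gens (wt 𝒜 ℬ) w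
  let X : Set (M ⊗[k] N) := ⋃ i : Fin sM, ⋃ j : Fin sN,
    (fun g => act k R S M N g (m i ⊗ₜ[k] n j)) '' (G (dN j - dM i) : Set (R ⊗[k] S))
  have hXfin : X.Finite :=
    Set.finite_iUnion fun i => Set.finite_iUnion fun j => (Finset.finite_toSet _).image _
  let Y : Set P := φ ⁻¹' X
  have hYfin : Y.Finite := hXfin.preimage hP.injective.injOn
  refine ⟨(Submodule.fg_def).2 ⟨Y, hYfin, ?_⟩⟩
  set Q : Submodule T P := Submodule.span T Y with hQ
  let Qimg : Submodule k (M ⊗[k] N) := (Q.restrictScalars k).map φ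
  have key : ∀ n' : ℤ, ∀ a ∈ ℳ n', ∀ b ∈ 𝒩 n', a ⊗ₜ[k] b ∈ Qimg := by
    intro n' a ha b hb
    obtain ⟨r, hr, rfl⟩ := exists_homogeneous_coeffs 𝒜 ℳ dM m hm hmspan n' a ha
    obtain ⟨s, hs, rfl⟩ := exists_homogeneous_coeffs ℬ 𝒩 dN n hn hnspan n' b hb
    rw [TensorProduct.sum_tmul]
    refine Submodule.sum_mem _ fun i _ => ?_
    rw [TensorProduct.tmul_sum]
    refine Submodule.sum_mem _ fun j _ => ?_
    rw [← act_tmul]
    have hw : r i ⊗ₜ[k] s j ∈ wt 𝒜 ℬ (dN j - dM i) := tmul_mem_wt (by omega) (hr i) (hs j)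
    obtain ⟨c, hc, hcsum⟩ := hG2 _ _ hw
    rw [hcsum, map_sum, LinearMap.sum_apply]
    refine Submodule.sum_mem _ fun g hg => ?_
    rw [act_mul]
    obtain ⟨t, ht⟩ := exists_of_mem_wt_zero 𝒜 ℬ 𝒯 ψ hdegT (hc g)
    obtain ⟨p, hp⟩ := act_mem_range 𝒜 ℬ ψ ℳ 𝒩 𝒬 φ hP (hG1 _ g hg) (hm i) (hn j)
    rw [← ht, ← hp, ← hP.map_smul]
    refine ⟨t • p, Q.smul_mem t (Submodule.subset_span ?_), rfl⟩
    show φ p ∈ X
    rw [hp]
    exact Set.mem_iUnion.2 ⟨i, Set.mem_iUnion.2 ⟨j, ⟨g, hg, rfl⟩⟩⟩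
  rw [eq_top_iff]
  rintro p -
  induction p using DirectSum.Decomposition.inductionOn 𝒬 with
  | zero => exact Q.zero_mem
  | add p q hp hq => exact Q.add_mem hp hq
  | homogeneous p =>
    rename_i n'
    have h1 : φ p ∈ segrePiece k ℳ 𝒩 n' := by
      rw [← SetLike.mem_coe, ← hP.image_piece n']
      exact ⟨p, p.2, rfl⟩
    have h2 : segrePiece k ℳ 𝒩 n' ≤ Qimg := Submodule.span_le.2 (by
      rintro _ ⟨a, ha, b, hb, rfl⟩
      exact key n' a ha b hb)
    obtain ⟨q, hq, hqp⟩ := h2 h1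
    rw [← hP.injective hqp]
    exact hq

end Main

end Groth.Agent.Lib.Helper20.SegFin
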