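import Mathlib
import Groth.Agent.Lib.Helper20.SegBij3

/-!
# Cocycles of `Γ_{T_+}(E^• # N)` come from `Z^q(Γ_m E^•) ⊗ N`
-/

set_option autoImplicit false
set_option linter.unusedSectionVars false
set_option linter.unusedVariables false
set_option linter.style.haveILetI false

universe u

open TensorProduct DirectSum CategoryTheory

namespace Groth.Agent.Lib.Helper20.SegBij

open Groth.Agent.Lib.Helper26.GrProj Groth.Agent.Lib.Helper20.SegAc Groth.Agent.Lib.Helper20.GrKit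
  Groth.Agent.Lib.Helper20.SegTot

section LinAlg2

variable {k : Type u} [Field k] {V V' G' Z' Y : Type u} [AddCommGroup V] [Module k V]
  [AddCommGroup V'] [Module k V'] [AddCommGroup G'] [Module k G'] [AddCommGroup Z'] [Module k Z']
  [AddCommGroup Y] [Module k Y]

theorem mem_range_of_inf (ιG : G' →ₗ[k] V) (ιZ : Z' →ₗ[k] V) (hZ : Function.Injective ιZ)
    (g : V →ₗ[k] V') (hr : ∀ x : G', g (ιG x) = 0 → ιG x ∈ LinearMap.range ιZ)
    (z : V ⊗[k] Y) (hz : z ∈ LinearMap.range (TensorProduct.map ιG (LinearMap.id : Y →ₗ[k] Y)))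
    (hg : TensorProduct.map g (LinearMap.id : Y →ₗ[k] Y) z = 0) :
    z ∈ LinearMap.range (TensorProduct.map ιZ (LinearMap.id : Y →ₗ[k] Y)) := by
  obtain ⟨v, rfl⟩ := hz
  let f : G' →ₗ[k] V' := g ∘ₗ ιG
  have hfv : TensorProduct.map f (LinearMap.id : Y →ₗ[k] Y) v = 0 := by
    have : ∀ v : G' ⊗[k] Y, TensorProduct.map f (LinearMap.id : Y →ₗ[k] Y) v =
        TensorProduct.map g (LinearMap.id : Y →ₗ[k] Y)
          (TensorProduct.map ιG (LinearMap.id : Y →ₗ[k] Y) v) := by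
      intro v
      induction v using TensorProduct.induction_on with
      | zero => simp
      | tmul x y => rfl
      | add a b ha hb => simp only [map_add, ha, hb]
    rw [this]
    exact hg
  obtain ⟨u, hu⟩ := exists_of_map_eq_zero (Y := Y) (LinearMap.ker f).subtype f
    (Submodule.range_subtype _).symm v hfv
  let j : ↥(LinearMap.ker f) →ₗ[k] Z' :=
    (LinearEquiv.ofInjective ιZ hZ).symm.toLinearMap ∘ₗ
      LinearMap.codRestrict (LinearMap.range ιZ) (ιG ∘ₗ (LinearMap.ker f).subtype)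
        (fun x => hr x.1 x.2)
  have hj : ∀ x : ↥(LinearMap.ker f), ιZ (j x) = ιG x.1 := by
    intro x
    have h1 := LinearEquiv.apply_symm_apply (LinearEquiv.ofInjective ιZ hZ)
      ⟨ιG x.1, hr x.1 x.2⟩
    have h2 := congrArg Subtype.val h1
    rw [LinearEquiv.ofInjective_apply] at h2
    exact h2
  refine ⟨TensorProduct.map j LinearMap.id u, ?_⟩
  rw [← hu]
  clear hu
  induction u using TensorProduct.induction_on with
  | zero => simp
  | tmul x y =>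
    rw [TensorProduct.map_tmul, TensorProduct.map_tmul, TensorProduct.map_tmul,
      TensorProduct.map_tmul, hj x]
    rfl
  | add a b ha hb => simp only [map_add, ha, hb]

theorem map_id_surjective (f : V →ₗ[k] V') (hf : Function.Surjective f) :
    Function.Surjective (TensorProduct.map f (LinearMap.id : Y →ₗ[k] Y)) :=
  TensorProduct.map_surjective hf Function.surjective_id

end LinAlg2

variable {k : Type u} [Field k] {R S T : Type u} [CommRing R] [CommRing S] [CommRing T]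
  [Algebra k R] [Algebra k S] [Algebra k T]
  {𝒜 : ℤ → AddSubgroup R} [GradedRing 𝒜] (hkA : ∀ c : k, algebraMap k R c ∈ 𝒜 0)
  {ℬ : ℤ → AddSubgroup S} [GradedRing ℬ] (hkB : ∀ c : k, algebraMap k S c ∈ ℬ 0)
  {𝒯 : ℤ → AddSubgroup T} [GradedRing 𝒯]
  (ψ : T →ₐ[k] R ⊗[k] S) (hψ : ∀ n t, t ∈ 𝒯 n → ψ t ∈ GrSeg.segrePiece k 𝒜 ℬ n)
  {M : Type u} [AddCommGroup M] [Module R M] [Module k M] [IsScalarTower k R M]
  {ℳ : ℤ → AddSubgroup M}
  [DirectSum.Decomposition ℳ] [SetLike.GradedSMul 𝒜 ℳ]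
  (E : GrLC.StarInjRes 𝒜 ℳ) [∀ i, Module k (E.X i).carrier]
  [∀ i, IsScalarTower k R (E.X i).carrier]
  {N : Type u} [AddCommGroup N] [Module S N] [Module k N] [IsScalarTower k S N]
  (𝒩 : ℤ → AddSubgroup N)
  [DirectSum.Decomposition 𝒩] [SetLike.GradedSMul ℬ 𝒩]
  (aR : HomogeneousIdeal 𝒜) (aT : HomogeneousIdeal 𝒯)

/-- `Γ_m(E^i) ⊗ N → E^i ⊗ N` -/
noncomputable def gI (i : ℕ) :
    ↥(GrLC.gam aR.toIdeal (E.X i).carrier) ⊗[k] N →ₗ[k] (E.X i).carrier ⊗[k] N :=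
  TensorProduct.map ((GrLC.gam aR.toIdeal (E.X i).carrier).subtype.restrictScalars k)
    (LinearMap.id : N →ₗ[k] N)

theorem gI_tmul (i : ℕ) (x : ↥(GrLC.gam aR.toIdeal (E.X i).carrier)) (y : N) :
    gI (k := k) E (N := N) aR i (x ⊗ₜ[k] y) = (x : (E.X i).carrier) ⊗ₜ[k] y := rfl

/-- `Z^q ⊗ N → E^q ⊗ N` -/
noncomputable def zI (q : ℕ) : ↥(E.cocyc aR q) ⊗[k] N →ₗ[k] (E.X q).carrier ⊗[k] N :=
  TensorProduct.map ((E.cocyc aR q).subtype.restrictScalars k) (LinearMap.id : N →ₗ[k] N)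

theorem zI_tmul (q : ℕ) (x : ↥(E.cocyc aR q)) (y : N) :
    zI (k := k) E (N := N) aR q (x ⊗ₜ[k] y) = (x : (E.X q).carrier) ⊗ₜ[k] y := rfl

theorem zI_injective (q : ℕ) : Function.Injective (zI (k := k) E (N := N) aR q) :=
  map_id_injective (k := k) (Y := N) ((E.cocyc aR q).subtype.restrictScalars k)
    (Submodule.injective_subtype _)

/-- the torsion hypothesis: the `T_+`-torsion of `E^i ⊗ N` is `Γ_m(E^i) ⊗ N` -/
def TorsHyp1 : Prop :=
  ∀ (i : ℕ) (z : TP ψ (E.X i).carrier N),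
    z ∈ GrLC.gam aT.toIdeal (TP ψ (E.X i).carrier N) ↔
      (z : (E.X i).carrier ⊗[k] N) ∈ LinearMap.range (gI (k := k) E (N := N) aR i)

theorem coe_mem_gam {i : ℕ} (z : ↥(W0 hkA hkB ψ hψ (E.X i).gr 𝒩))
    (hz : z ∈ GrLC.gam aT.toIdeal ↥(W0 hkA hkB ψ hψ (E.X i).gr 𝒩)) :
    z.1 ∈ GrLC.gam aT.toIdeal (TP ψ (E.X i).carrier N) := by
  obtain ⟨n, hn⟩ := hz
  exact ⟨n, fun t ht => congrArg Subtype.val (hn t ht)⟩

theorem mem_gam_of_coe {i : ℕ} (z : ↥(W0 hkA hkB ψ hψ (E.X i).gr 𝒩))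
    (hz : z.1 ∈ GrLC.gam aT.toIdeal (TP ψ (E.X i).carrier N)) :
    z ∈ GrLC.gam aT.toIdeal ↥(W0 hkA hkB ψ hψ (E.X i).gr 𝒩) := by
  obtain ⟨n, hn⟩ := hz
  exact ⟨n, fun t ht => Subtype.ext (hn t ht)⟩

variable (hyp : TorsHyp1 (k := k) ψ E (N := N) aR aT)

include hyp in
/-- cocycles come from `Z^q ⊗ N` -/
theorem coe_mem_range_zI (q : ℕ) (z : ↥(W0 hkA hkB ψ hψ (E.X q).gr 𝒩))
    (hz1 : z ∈ GrLC.gam aT.toIdeal ↥(W0 hkA hkB ψ hψ (E.X q).gr 𝒩))
    (hz2 : dC hkA hkB ψ hψ E 𝒩 q z = 0) :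
    (z.1 : (E.X q).carrier ⊗[k] N) ∈ LinearMap.range (zI (k := k) E (N := N) aR q) := by
  have h1 := (hyp q z.1).1 (coe_mem_gam hkA hkB ψ hψ E 𝒩 aT z hz1)
  have h2 : TensorProduct.map ((E.d q).restrictScalars k) (LinearMap.id : N →ₗ[k] N) z.1 = 0 :=
    congrArg Subtype.val hz2
  refine mem_range_of_inf _ _ (Submodule.injective_subtype _) _ ?_ _ h1 h2
  intro x hx
  exact ⟨⟨x.1, ⟨x.2, hx⟩⟩, rfl⟩

end Groth.Agent.Lib.Helper20.SegBij
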