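import Mathlib
import Groth.Agent.Lib.Helper20.SegBij4

/-!
# The comparison map from the cocycles of `Γ_{T_+}(E^• # N)` to `H^q_m(M) ⊗ N`
-/

set_option autoImplicit false
set_option linter.unusedSectionVars false
set_option linter.unusedVariables false
set_option linter.style.haveILetI false

universe u

open TensorProduct DirectSum CategoryTheory

namespace Groth.Agent.Lib.Helper20.SegBij

open Groth.Agent.Lib.Helper26.GrProj Groth.Agent.Lib.Helper20.SegAc Groth.Agent.Lib.Helper20.GrKit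
  Groth.Agent.Lib.Helper20.SegTot

section MapT

variable {k : Type u} [Field k] {R S T : Type u} [CommRing R] [CommRing S] [CommRing T]
  [Algebra k R] [Algebra k S] [Algebra k T] (ψ : T →ₐ[k] R ⊗[k] S)
  {X Y : Type u} [AddCommGroup X] [Module R X] [Module k X] [IsScalarTower k R X]
  [AddCommGroup Y] [Module S Y] [Module k Y] [IsScalarTower k S Y]
  {X' Y' : Type u} [AddCommGroup X'] [Module R X'] [Module k X'] [IsScalarTower k R X']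
  [AddCommGroup Y'] [Module S Y'] [Module k Y'] [IsScalarTower k S Y']

/-- the tensor product of linear maps as a `T`-linear map -/
noncomputable def mapT (f : X →ₗ[R] X') (g : Y →ₗ[S] Y') : TP ψ X Y →ₗ[T] TP ψ X' Y' where
  toFun z := TensorProduct.map (f.restrictScalars k) (g.restrictScalars k) (z : X ⊗[k] Y)
  map_add' a b := map_add _ _ _
  map_smul' t z := act_map f g (ψ t) z

theorem mapT_apply (f : X →ₗ[R] X') (g : Y →ₗ[S] Y') (z : TP ψ X Y) :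
    mapT ψ f g z = TensorProduct.map (f.restrictScalars k) (g.restrictScalars k)
      (z : X ⊗[k] Y) := rfl

theorem mapT_tmul (f : X →ₗ[R] X') (g : Y →ₗ[S] Y') (x : X) (y : Y) :
    mapT ψ f g (x ⊗ₜ[k] y : X ⊗[k] Y) = (f x ⊗ₜ[k] g y : X' ⊗[k] Y') := rfl

end MapT

variable {k : Type u} [Field k] {R S T : Type u} [CommRing R] [CommRing S] [CommRing T]
  [Algebra k R] [Algebra k S] [Algebra k T]
  {𝒜 : ℤ → AddSubgroup R} [GradedRing 𝒜] (hkA : ∀ c : k, algebraMap k R c ∈ 𝒜 0)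
  {ℬ : ℤ → AddSubgroup S} [GradedRing ℬ] (hkB : ∀ c : k, algebraMap k S c ∈ ℬ 0)
  {𝒯 : ℤ → AddSubgroup T} [GradedRing 𝒯]
  (ψ : T →ₐ[k] R ⊗[k] S) (hψ : ∀ n t, t ∈ 𝒯 n → ψ t ∈ GrSeg.segrePiece k 𝒜 ℬ n)
  {M : Type u} [AddCommGroup M] [Module R M] [Module k M] [IsScalarTower k R M]
  {ℳ : ℤ → AddSubgroup M}
  [DirectSum.Decomposition ℳ] [SetLike.GradedSMul 𝒜 ℳ]
  (E : GrLC.StarInjRes 𝒜 ℳ) [∀ i, Module k (E.X i).carrier]
  [∀ i, IsScalarTower k R (E.X i).carrier]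
  {N : Type u} [AddCommGroup N] [Module S N] [Module k N] [IsScalarTower k S N]
  (𝒩 : ℤ → AddSubgroup N)
  [DirectSum.Decomposition 𝒩] [SetLike.GradedSMul ℬ 𝒩]
  (aR : HomogeneousIdeal 𝒜) (aT : HomogeneousIdeal 𝒯)
  (hyp : TorsHyp1 (k := k) ψ E (N := N) aR aT)
  (q : ℕ)

/-- the cocycles of `Γ_{T_+}(E^• # N)` -/
noncomputable def cocW (q : ℕ) : Submodule T ↥(W0 hkA hkB ψ hψ (E.X q).gr 𝒩) :=
  GrLC.gam aT.toIdeal ↥(W0 hkA hkB ψ hψ (E.X q).gr 𝒩) ⊓ LinearMap.ker (dC hkA hkB ψ hψ E 𝒩 q)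

/-- the coboundaries of `Γ_{T_+}(E^• # N)` -/
noncomputable def cobW : (q : ℕ) → Submodule T ↥(W0 hkA hkB ψ hψ (E.X q).gr 𝒩)
  | 0 => ⊥
  | n + 1 => (GrLC.gam aT.toIdeal ↥(W0 hkA hkB ψ hψ (E.X n).gr 𝒩)).map (dC hkA hkB ψ hψ E 𝒩 n)

/-- `Z^q ⊗ N → E^q ⊗ N`, `T`-linear -/
noncomputable def zIT : TP ψ ↥(E.cocyc aR q) N →ₗ[T] TP ψ (E.X q).carrier N :=
  mapT ψ (E.cocyc aR q).subtype (LinearMap.id : N →ₗ[S] N)

theorem zIT_apply (u : TP ψ ↥(E.cocyc aR q) N) :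
    zIT (k := k) ψ E (N := N) aR q u = zI (k := k) E (N := N) aR q u := rfl

theorem zIT_injective : Function.Injective (zIT (k := k) ψ E (N := N) aR q) :=
  zI_injective (k := k) E (N := N) aR q

/-- `Z^q ⊗ N → H^q ⊗ N`, `T`-linear -/
noncomputable def LamT : TP ψ ↥(E.cocyc aR q) N →ₗ[T] TP ψ (E.H aR q) N :=
  mapT ψ (E.toH aR q) (LinearMap.id : N →ₗ[S] N)

theorem LamT_tmul (x : ↥(E.cocyc aR q)) (y : N) :
    LamT (k := k) ψ E (N := N) aR q (x ⊗ₜ[k] y : ↥(E.cocyc aR q) ⊗[k] N) =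
      (E.toH aR q x ⊗ₜ[k] y : (E.H aR q) ⊗[k] N) := rfl

/-- the coordinates of a cocycle -/
noncomputable def coeT :
    ↥(cocW hkA hkB ψ hψ E 𝒩 aT q) →ₗ[T] TP ψ (E.X q).carrier N :=
  (W0 hkA hkB ψ hψ (E.X q).gr 𝒩).subtype ∘ₗ (cocW hkA hkB ψ hψ E 𝒩 aT q).subtype

theorem coeT_apply (z : ↥(cocW hkA hkB ψ hψ E 𝒩 aT q)) :
    coeT hkA hkB ψ hψ E 𝒩 aT q z = z.1.1 := rfl

include hyp in
theorem coeT_mem_range (z : ↥(cocW hkA hkB ψ hψ E 𝒩 aT q)) :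
    coeT hkA hkB ψ hψ E 𝒩 aT q z ∈ LinearMap.range (zIT (k := k) ψ E (N := N) aR q) := by
  obtain ⟨u, hu⟩ := coe_mem_range_zI hkA hkB ψ hψ E 𝒩 aR aT hyp q z.1
    (Submodule.mem_inf.1 z.2).1 (Submodule.mem_inf.1 z.2).2
  exact ⟨u, hu⟩

/-- the preimage in `Z^q ⊗ N` of a cocycle -/
noncomputable def uOf :
    ↥(cocW hkA hkB ψ hψ E 𝒩 aT q) →ₗ[T] TP ψ ↥(E.cocyc aR q) N :=
  (LinearEquiv.ofInjective (zIT (k := k) ψ E (N := N) aR q)
      (zIT_injective ψ E aR q)).symm.toLinearMap ∘ₗ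
    LinearMap.codRestrict (LinearMap.range (zIT (k := k) ψ E (N := N) aR q))
      (coeT hkA hkB ψ hψ E 𝒩 aT q) (coeT_mem_range hkA hkB ψ hψ E 𝒩 aR aT hyp q)

theorem zIT_uOf (z : ↥(cocW hkA hkB ψ hψ E 𝒩 aT q)) :
    zIT (k := k) ψ E (N := N) aR q (uOf hkA hkB ψ hψ E 𝒩 aR aT hyp q z) = z.1.1 := by
  have h1 := LinearEquiv.apply_symm_apply
    (LinearEquiv.ofInjective (zIT (k := k) ψ E (N := N) aR q) (zIT_injective ψ E aR q))
    ⟨coeT hkA hkB ψ hψ E 𝒩 aT q z, coeT_mem_range hkA hkB ψ hψ E 𝒩 aR aT hyp q z⟩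
  have h2 := congrArg Subtype.val h1
  rw [LinearEquiv.ofInjective_apply] at h2
  exact h2

theorem uOf_eq (z : ↥(cocW hkA hkB ψ hψ E 𝒩 aT q)) (u : TP ψ ↥(E.cocyc aR q) N)
    (hu : zIT (k := k) ψ E (N := N) aR q u = z.1.1) :
    uOf hkA hkB ψ hψ E 𝒩 aR aT hyp q z = u := by
  apply zIT_injective ψ E aR q
  rw [zIT_uOf, hu]

/-- the comparison map on cocycles -/
noncomputable def lamC :
    ↥(cocW hkA hkB ψ hψ E 𝒩 aT q) →ₗ[T] TP ψ (E.H aR q) N :=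
  LamT (k := k) ψ E (N := N) aR q ∘ₗ uOf hkA hkB ψ hψ E 𝒩 aR aT hyp q

theorem lamC_apply (z : ↥(cocW hkA hkB ψ hψ E 𝒩 aT q)) :
    lamC hkA hkB ψ hψ E 𝒩 aR aT hyp q z =
      LamT (k := k) ψ E (N := N) aR q (uOf hkA hkB ψ hψ E 𝒩 aR aT hyp q z) := rfl

end Groth.Agent.Lib.Helper20.SegBij
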