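import Mathlib
import Groth.Agent.Lib.Helper20.Ku8

/-!
# The connecting isomorphism `H^q(A'⊗B + A⊗B') → H^r(A') ⊗ H^s(B')`, `q + 1 = r + s`, generically
-/

set_option autoImplicit false
set_option linter.unusedSectionVars false
set_option linter.unusedVariables false

universe u

open TensorProduct DirectSum

namespace Groth.Agent.Lib.Helper20.Ku

variable {k : Type u} [Field k] {A B : Cx k}

/-- vanishing of the cohomology of a pair gives exactness inside the ambient space -/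
theorem ker_inf_TPq_le (S : A.Sub) (S' : B.Sub) (q : ℕ)
    (h : ∀ i j, i + j = q → Subsingleton (S.cx.H i) ∨ Subsingleton (S'.cx.H j)) :
    LinearMap.ker (D A B) ⊓ TPq S S' q ≤ BPq S S' q := by
  rintro x ⟨hxD, t, ht, rfl⟩
  have htD : D S.cx S'.cx t = 0 := by
    apply EE_injective S S'
    rw [EE_D, map_zero]
    exact hxD
  haveI := subsingleton_Hq S.cx S'.cx q h
  have h0 : (Submodule.Quotient.mk (⟨t, htD, ht⟩ : Zq S.cx S'.cx q) : Hq S.cx S'.cx q) = 0 :=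
    Subsingleton.elim _ _
  rw [Submodule.Quotient.mk_eq_zero, Submodule.mem_comap] at h0
  exact ⟨t, h0, rfl⟩

theorem BPq_le_ker (S : A.Sub) (S' : B.Sub) (q : ℕ) : BPq S S' q ≤ LinearMap.ker (D A B) := by
  rintro _ ⟨t, ht, rfl⟩
  rw [LinearMap.mem_ker, ← EE_D, Bq_le_ker _ _ q ht, map_zero]

theorem BPq_le_TPq (S : A.Sub) (S' : B.Sub) (q : ℕ) : BPq S S' q ≤ TPq S S' q := by
  rintro _ ⟨t, ht, rfl⟩
  exact ⟨t, Bq_le_Tq _ _ q ht, rfl⟩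

section Conn

variable {S₁ S : A.Sub} {S₁' S' : B.Sub} (h : S₁.le S) (h' : S₁'.le S')

include h h' in
/-- totality of the connecting relation -/
theorem conn_total {q r s : ℕ} (hq : q + 1 = r + s)
    (hv : ∀ i j, i + j = q + 1 → (i, j) ≠ (r, s) →
      Subsingleton (S₁.cx.H i) ∨ Subsingleton (S₁'.cx.H j))
    {z₁ z₂ : TT A B} (hz₁ : z₁ ∈ TPq S₁ S' q) (hz₂ : z₂ ∈ TPq S S₁' q)
    (hD : D A B (z₁ + z₂) = 0) :
    ∃ y ∈ TPq S₁ S₁' q, ∃ ζ : ↥(S₁.cx.cocyc r) ⊗[k] ↥(S₁'.cx.cocyc s),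
      D A B (z₁ - y) = EE S₁ S₁' (zz (A := S₁.cx) (B := S₁'.cx) r s ζ) := by
  classical
  have h1 : D A B z₁ ∈ TPq S₁ S' (q + 1) := D_mem_TPq S₁ S' hz₁
  have h2 : D A B z₁ ∈ TPq S S₁' (q + 1) := by
    have : D A B z₁ = - D A B z₂ := by
      rw [map_add] at hD
      exact eq_neg_of_add_eq_zero_left hD
    rw [this]
    exact neg_mem (D_mem_TPq S S₁' hz₂)
  have h3 : D A B z₁ ∈ TPq S₁ S₁' (q + 1) := by
    rw [← TPq_inf h h' (q + 1)]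
    exact ⟨h1, h2⟩
  obtain ⟨t, ht, htz⟩ := h3
  have htD : D S₁.cx S₁'.cx t = 0 := by
    apply EE_injective S₁ S₁'
    rw [EE_D, map_zero, htz, D_D]
  obtain ⟨ζ, hζ⟩ := exists_zz_decomp S₁.cx S₁'.cx (⟨htD, ht⟩ : t ∈ Zq S₁.cx S₁'.cx (q + 1))
  have hrs : (r, s) ∈ AD (q + 1) := mem_AD.2 hq.symm
  have hsum : ∑ ij ∈ AD (q + 1), zz (A := S₁.cx) (B := S₁'.cx) ij.1 ij.2 (ζ ij.1 ij.2) -
      zz (A := S₁.cx) (B := S₁'.cx) r s (ζ r s) ∈ Bq S₁.cx S₁'.cx (q + 1) := by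
    rw [← Finset.add_sum_erase _ _ hrs, add_sub_cancel_left]
    refine sum_mem fun ij hij => ?_
    have hne : ij ≠ (r, s) := Finset.ne_of_mem_erase hij
    have hij' : ij.1 + ij.2 = q + 1 := mem_AD.1 (Finset.mem_of_mem_erase hij)
    apply zz_mem_Bq_of_ker hij'
    haveI : Subsingleton (S₁.cx.H ij.1 ⊗[k] S₁'.cx.H ij.2) :=
      subsingleton_tensor (hv ij.1 ij.2 hij' hne)
    exact Subsingleton.elim _ _
  have h4 : t - zz (A := S₁.cx) (B := S₁'.cx) r s (ζ r s) ∈ Bq S₁.cx S₁'.cx (q + 1) := by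
    have := add_mem hζ hsum
    rwa [sub_add_sub_cancel] at this
  rw [Bq_succ] at h4
  obtain ⟨y', hy', hyD⟩ := h4
  refine ⟨EE S₁ S₁' y', ⟨y', hy', rfl⟩, ζ r s, ?_⟩
  rw [map_sub, ← EE_D, hyD, ← htz, map_sub]
  abel

include h h' in
/-- the connecting relation is functional -/
theorem conn_fun {q r s : ℕ} (hq : q + 1 = r + s)
    {z₁ z₂ : TT A B} (hz₁ : z₁ ∈ TPq S₁ S' q) (hz₂ : z₂ ∈ TPq S S₁' q)
    (ζ : ↥(S₁.cx.cocyc r) ⊗[k] ↥(S₁'.cx.cocyc s))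
    (hζ : D A B z₁ = EE S₁ S₁' (zz (A := S₁.cx) (B := S₁'.cx) r s ζ))
    (hB : z₁ + z₂ ∈ BPq S₁ S' q ⊔ BPq S S₁' q) :
    TensorProduct.map (S₁.cx.cls r) (S₁'.cx.cls s) ζ = 0 := by
  obtain ⟨b₁, hb₁, b₂, hb₂, hbb⟩ := Submodule.mem_sup.1 hB
  have hc1 : z₁ - b₁ ∈ TPq S₁ S' q := sub_mem hz₁ (BPq_le_TPq S₁ S' q hb₁)
  have hc2 : z₁ - b₁ ∈ TPq S S₁' q := by
    have : z₁ - b₁ = b₂ - z₂ := by
      rw [sub_eq_sub_iff_add_eq_add, add_comm b₂ b₁, hbb]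
    rw [this]
    exact sub_mem (BPq_le_TPq S S₁' q hb₂) hz₂
  have hc : z₁ - b₁ ∈ TPq S₁ S₁' q := by
    rw [← TPq_inf h h' q]
    exact ⟨hc1, hc2⟩
  obtain ⟨c', hc', hcc⟩ := hc
  have hDc : D S₁.cx S₁'.cx c' = zz (A := S₁.cx) (B := S₁'.cx) r s ζ := by
    apply EE_injective S₁ S₁'
    rw [EE_D, hcc, map_sub, hζ, LinearMap.mem_ker.1 (BPq_le_ker S₁ S' q hb₁), sub_zero]
  obtain ⟨σA⟩ := S₁.cx.nonempty_spl
  obtain ⟨σB⟩ := S₁'.cx.nonempty_spl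
  rw [← phiC_zz_self σA σB r s ζ, ← hDc, phiC_D]

include h h' in
/-- the connecting relation is injective -/
theorem conn_inj {q r s : ℕ} (hq : q + 1 = r + s)
    (hv1 : LinearMap.ker (D A B) ⊓ TPq S₁ S' q ≤ BPq S₁ S' q)
    (hv2 : LinearMap.ker (D A B) ⊓ TPq S S₁' q ≤ BPq S S₁' q)
    {z₁ z₂ : TT A B} (hz₁ : z₁ ∈ TPq S₁ S' q) (hz₂ : z₂ ∈ TPq S S₁' q)
    (hD : D A B (z₁ + z₂) = 0)
    (ζ : ↥(S₁.cx.cocyc r) ⊗[k] ↥(S₁'.cx.cocyc s))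
    (hζ : D A B z₁ = EE S₁ S₁' (zz (A := S₁.cx) (B := S₁'.cx) r s ζ))
    (h0 : TensorProduct.map (S₁.cx.cls r) (S₁'.cx.cls s) ζ = 0) :
    z₁ + z₂ ∈ BPq S₁ S' q ⊔ BPq S S₁' q := by
  have h1 := zz_mem_Bq_of_ker hq.symm ζ h0
  rw [Bq_succ] at h1
  obtain ⟨c', hc', hcD⟩ := h1
  have hc : EE S₁ S₁' c' ∈ TPq S₁ S₁' q := ⟨c', hc', rfl⟩
  have hDc : D A B (EE S₁ S₁' c') = D A B z₁ := by
    rw [← EE_D, hcD, hζ]
  have e1 : z₁ - EE S₁ S₁' c' ∈ BPq S₁ S' q := by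
    apply hv1
    refine ⟨?_, sub_mem hz₁ (TPq_mono (fun i => le_rfl) h' q hc)⟩
    change D A B _ = 0
    rw [map_sub, hDc, sub_self]
  have e2 : z₂ + EE S₁ S₁' c' ∈ BPq S S₁' q := by
    apply hv2
    refine ⟨?_, add_mem hz₂ (TPq_mono h (fun i => le_rfl) q hc)⟩
    change D A B _ = 0
    rw [map_add, hDc, ← map_add, add_comm, hD]
  have : z₁ + z₂ = (z₁ - EE S₁ S₁' c') + (z₂ + EE S₁ S₁' c') := by abel
  rw [this]
  exact Submodule.add_mem_sup e1 e2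

include h h' in
/-- the connecting relation is surjective -/
theorem conn_surj {q r s : ℕ} (hq : q + 1 = r + s)
    (hv1 : LinearMap.ker (D A B) ⊓ TPq S₁ S' (q + 1) ≤ BPq S₁ S' (q + 1))
    (hv2 : LinearMap.ker (D A B) ⊓ TPq S S₁' (q + 1) ≤ BPq S S₁' (q + 1))
    (ζ : ↥(S₁.cx.cocyc r) ⊗[k] ↥(S₁'.cx.cocyc s)) :
    ∃ z₁ ∈ TPq S₁ S' q, ∃ z₂ ∈ TPq S S₁' q,
      D A B z₁ = EE S₁ S₁' (zz (A := S₁.cx) (B := S₁'.cx) r s ζ) ∧ D A B (z₁ + z₂) = 0 := by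
  have hm : EE S₁ S₁' (zz (A := S₁.cx) (B := S₁'.cx) r s ζ) ∈ TPq S₁ S₁' (q + 1) :=
    ⟨_, zz_mem_Tq hq.symm ζ, rfl⟩
  have hk : EE S₁ S₁' (zz (A := S₁.cx) (B := S₁'.cx) r s ζ) ∈ LinearMap.ker (D A B) := by
    rw [LinearMap.mem_ker, ← EE_D, D_zz, map_zero]
  have e1 := hv1 ⟨hk, TPq_mono (fun i => le_rfl) h' (q + 1) hm⟩
  have e2 := hv2 ⟨hk, TPq_mono h (fun i => le_rfl) (q + 1) hm⟩
  rw [BPq_succ] at e1 e2
  obtain ⟨z₁, hz₁, hz₁D⟩ := e1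
  obtain ⟨z₂, hz₂, hz₂D⟩ := e2
  refine ⟨z₁, hz₁, -z₂, neg_mem hz₂, hz₁D, ?_⟩
  rw [map_add, map_neg, hz₁D, hz₂D, add_neg_cancel]

end Conn

end Groth.Agent.Lib.Helper20.Ku
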