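import Mathlib
import Groth.Agent.Lib.Helper20.SegTot10
import Groth.Agent.Lib.Helper20.Ku9

/-!
# All-degree torsion subcomplexes of a *injective resolution and their cohomology
-/

set_option autoImplicit false
set_option linter.unusedSectionVars false
set_option linter.unusedVariables false
set_option linter.style.haveILetI false

universe u

open TensorProduct DirectSum

namespace Groth.Agent.Lib.Helper20.SegTLK

open Groth.Agent.Lib.Helper26.GrProj Groth.Agent.Lib.Helper20.SegAc Groth.Agent.Lib.Helper20.GrKit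
  Groth.Agent.Lib.Helper20.Ku Groth.Agent.Lib.Helper20.SegTot

variable {k : Type u} [Field k] {R : Type u} [CommRing R] [Algebra k R]
  {𝒜 : ℤ → AddSubgroup R} [GradedRing 𝒜] (hkA : ∀ c : k, algebraMap k R c ∈ 𝒜 0)
  {M : Type u} [AddCommGroup M] [Module R M] {ℳ : ℤ → AddSubgroup M}
  [DirectSum.Decomposition ℳ] [SetLike.GradedSMul 𝒜 ℳ]
  (E : GrLC.StarInjRes 𝒜 ℳ) [∀ i, Module k (E.X i).carrier]
  [∀ i, IsScalarTower k R (E.X i).carrier]
  (a : HomogeneousIdeal 𝒜)

/-- the all-degree torsion subcomplex -/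
noncomputable def SubGa : (cxOf (k := k) E).Sub where
  P i := (GrLC.gam a.toIdeal (E.X i).carrier).restrictScalars k
  stable i x hx := gam_map (E.d i) hx

/-- the whole complex as a subcomplex -/
noncomputable def SubTop : (cxOf (k := k) E).Sub where
  P i := ⊤
  stable i x hx := Submodule.mem_top

theorem SubGa_le : (SubGa (k := k) E a).le (SubTop (k := k) E) := fun i x hx => Submodule.mem_top

theorem SubG_le_SubGa (e : ℤ) : (SubG hkA E a.toIdeal e).le (SubGa (k := k) E a) :=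
  fun i x hx => hx.2

theorem SubE_le_SubTop (e : ℤ) : (SubE hkA E e).le (SubTop (k := k) E) :=
  fun i x hx => Submodule.mem_top

/-- cocycles of the resolution as cocycles of the all-degree torsion subcomplex -/
noncomputable def jZ (i : ℕ) : ↥(E.cocyc a i) →ₗ[k] ↥((SubGa (k := k) E a).cx.cocyc i) where
  toFun x := ⟨⟨x.1, x.2.1⟩, Subtype.ext (LinearMap.mem_ker.1 x.2.2)⟩
  map_add' _ _ := rfl
  map_smul' _ _ := rfl

theorem mem_cocyc_of_SubGa (i : ℕ) (z : ↥((SubGa (k := k) E a).cx.cocyc i)) :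
    ((z : (SubGa (k := k) E a).P i) : (E.X i).carrier) ∈ E.cocyc a i :=
  ⟨(z : (SubGa (k := k) E a).P i).2, congrArg Subtype.val z.2⟩

/-- the inverse of `jZ` -/
noncomputable def kZ (i : ℕ) : ↥((SubGa (k := k) E a).cx.cocyc i) →ₗ[k] ↥(E.cocyc a i) where
  toFun z := ⟨_, mem_cocyc_of_SubGa E a i z⟩
  map_add' _ _ := rfl
  map_smul' _ _ := rfl

theorem kZ_jZ (i : ℕ) (x : ↥(E.cocyc a i)) : kZ (k := k) E a i (jZ (k := k) E a i x) = x := rfl

theorem jZ_kZ (i : ℕ) (z : ↥((SubGa (k := k) E a).cx.cocyc i)) :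
    jZ (k := k) E a i (kZ (k := k) E a i z) = z := rfl

theorem jZ_coe (i : ℕ) (x : ↥(E.cocyc a i)) :
    (((jZ (k := k) E a i x : ↥((SubGa (k := k) E a).cx.cocyc i)) :
      (SubGa (k := k) E a).P i) : (E.X i).carrier) = (x : (E.X i).carrier) := rfl

/-- degree `e` cocycles as cocycles of the resolution -/
noncomputable def kZe (e : ℤ) (i : ℕ) :
    ↥((SubG hkA E a.toIdeal e).cx.cocyc i) →ₗ[k] ↥(E.cocyc a i) where
  toFun z := ⟨_, mem_cocyc_of_SubG hkA E a e i z⟩
  map_add' _ _ := rfl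
  map_smul' _ _ := rfl

theorem kZe_coe (e : ℤ) (i : ℕ) (z : ↥((SubG hkA E a.toIdeal e).cx.cocyc i)) :
    ((kZe hkA E a e i z : ↥(E.cocyc a i)) : (E.X i).carrier) =
      ((z : (SubG hkA E a.toIdeal e).P i) : (E.X i).carrier) := rfl

theorem kZe_mem (e : ℤ) (i : ℕ) (z : ↥((SubG hkA E a.toIdeal e).cx.cocyc i)) :
    ((kZe hkA E a e i z : ↥(E.cocyc a i)) : (E.X i).carrier) ∈ (E.X i).gr e :=
  (z : (SubG hkA E a.toIdeal e).P i).2.1

/-- the class map from the cocycles of the all-degree torsion subcomplex -/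
noncomputable def thetaPre (i : ℕ) : ↥((SubGa (k := k) E a).cx.cocyc i) →ₗ[k] E.H a i :=
  ((E.toH a i).restrictScalars k).comp (kZ (k := k) E a i)

theorem thetaPre_eq_zero_iff (i : ℕ) (z : ↥((SubGa (k := k) E a).cx.cocyc i)) :
    thetaPre (k := k) E a i z = 0 ↔
      (z : (SubGa (k := k) E a).P i) ∈ (SubGa (k := k) E a).cx.cobdy i := by
  have h1 : thetaPre (k := k) E a i z = 0 ↔
      ((z : (SubGa (k := k) E a).P i) : (E.X i).carrier) ∈ E.cobdy a i := by
    change E.toH a i ⟨_, mem_cocyc_of_SubGa E a i z⟩ = 0 ↔ _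
    rw [Submodule.mkQ_apply, Submodule.Quotient.mk_eq_zero, Submodule.mem_comap]
    rfl
  rw [h1]
  cases i with
  | zero =>
    change ((z : (SubGa (k := k) E a).P 0) : (E.X 0).carrier) ∈ (⊥ : Submodule R _) ↔
      (z : (SubGa (k := k) E a).P 0) ∈ (⊥ : Submodule k _)
    rw [Submodule.mem_bot, Submodule.mem_bot, ← Subtype.coe_inj]
    rfl
  | succ i =>
    constructor
    · rintro ⟨y, hy, hyz⟩
      exact ⟨⟨y, hy⟩, Subtype.ext hyz⟩
    · rintro ⟨y, hy⟩
      exact ⟨y.1, y.2, congrArg Subtype.val hy⟩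

/-- the comparison of cohomologies -/
noncomputable def theta (i : ℕ) : (SubGa (k := k) E a).cx.H i →ₗ[k] E.H a i :=
  Submodule.liftQ _ (thetaPre (k := k) E a i) (by
    intro z hz
    rw [LinearMap.mem_ker, thetaPre_eq_zero_iff]
    exact hz)

theorem theta_cls (i : ℕ) (z : ↥((SubGa (k := k) E a).cx.cocyc i)) :
    theta (k := k) E a i ((SubGa (k := k) E a).cx.cls i z) = thetaPre (k := k) E a i z := rfl

theorem theta_cls_jZ (i : ℕ) (x : ↥(E.cocyc a i)) :
    theta (k := k) E a i ((SubGa (k := k) E a).cx.cls i (jZ (k := k) E a i x)) = E.toH a i x := rfl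

theorem theta_injective (i : ℕ) : Function.Injective (theta (k := k) E a i) := by
  rw [← LinearMap.ker_eq_bot]
  unfold theta
  apply Submodule.ker_liftQ_eq_bot
  intro z hz
  rw [LinearMap.mem_ker, thetaPre_eq_zero_iff] at hz
  exact hz

theorem subsingleton_H_SubGa (i : ℕ) (h : Subsingleton (E.H a i)) :
    Subsingleton ((SubGa (k := k) E a).cx.H i) :=
  (theta_injective (k := k) E a i).subsingleton

theorem subsingleton_H_SubG (e : ℤ) (i : ℕ) (h : Subsingleton (E.H a i)) :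
    Subsingleton ((SubG hkA E a.toIdeal e).cx.H i) := by
  refine ⟨fun x y => ?_⟩
  have key : ∀ c : (SubG hkA E a.toIdeal e).cx.H i, c = 0 := by
    intro c
    obtain ⟨z, rfl⟩ := (SubG hkA E a.toIdeal e).cx.cls_surjective i c
    rw [Cx.cls_eq_zero_iff, ← clsG_eq_zero_iff]
    apply Subtype.ext
    exact Subsingleton.elim _ _
  rw [key x, key y]

theorem subsingleton_H_SubTop (i : ℕ) : Subsingleton ((SubTop (k := k) E).cx.H (i + 1)) := by
  refine ⟨fun x y => ?_⟩
  have key : ∀ c : (SubTop (k := k) E).cx.H (i + 1), c = 0 := by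
    intro c
    obtain ⟨z, rfl⟩ := (SubTop (k := k) E).cx.cls_surjective (i + 1) c
    rw [Cx.cls_eq_zero_iff]
    have hd : E.d (i + 1) ((z : (SubTop (k := k) E).P (i + 1)) : (E.X (i + 1)).carrier) = 0 :=
      congrArg Subtype.val z.2
    have h1 : ((z : (SubTop (k := k) E).P (i + 1)) : (E.X (i + 1)).carrier) ∈
        LinearMap.ker (E.d (i + 1)) := hd
    rw [E.exact_succ] at h1
    obtain ⟨y, hy⟩ := h1
    exact ⟨⟨y, Submodule.mem_top⟩, Subtype.ext hy⟩
  rw [key x, key y]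

/-- vanishing of the relevant cohomology: the pair (all-degree torsion, everything) -/
theorem vanish_Ga_Top {S' : Type u} [CommRing S'] [Algebra k S']
    {ℬ : ℤ → AddSubgroup S'} [GradedRing ℬ]
    {N : Type u} [AddCommGroup N] [Module S' N] {𝒩 : ℤ → AddSubgroup N}
    [DirectSum.Decomposition 𝒩] [SetLike.GradedSMul ℬ 𝒩]
    (F : GrLC.StarInjRes ℬ 𝒩) [∀ j, Module k (F.X j).carrier]
    [∀ j, IsScalarTower k S' (F.X j).carrier]
    (r : ℕ) (hv : ∀ i, r < i → Subsingleton (E.H a i)) (n : ℕ) (hn : r < n) :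
    LinearMap.ker (D (cxOf (k := k) E) (cxOf (k := k) F)) ⊓
        TPq (SubGa (k := k) E a) (SubTop (k := k) F) n ≤
      BPq (SubGa (k := k) E a) (SubTop (k := k) F) n := by
  apply ker_inf_TPq_le
  intro i j hij
  cases j with
  | zero => exact Or.inl (subsingleton_H_SubGa E a i (hv i (by omega)))
  | succ j => exact Or.inr (subsingleton_H_SubTop F j)

theorem vanish_Top_Ga {S' : Type u} [CommRing S'] [Algebra k S']
    {ℬ : ℤ → AddSubgroup S'} [GradedRing ℬ]
    {N : Type u} [AddCommGroup N] [Module S' N] {𝒩 : ℤ → AddSubgroup N}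
    [DirectSum.Decomposition 𝒩] [SetLike.GradedSMul ℬ 𝒩]
    (F : GrLC.StarInjRes ℬ 𝒩) [∀ j, Module k (F.X j).carrier]
    [∀ j, IsScalarTower k S' (F.X j).carrier]
    (r : ℕ) (hv : ∀ i, r < i → Subsingleton (E.H a i)) (n : ℕ) (hn : r < n) :
    LinearMap.ker (D (cxOf (k := k) F) (cxOf (k := k) E)) ⊓
        TPq (SubTop (k := k) F) (SubGa (k := k) E a) n ≤
      BPq (SubTop (k := k) F) (SubGa (k := k) E a) n := by
  apply ker_inf_TPq_le
  intro i j hij
  cases i with
  | zero => exact Or.inr (subsingleton_H_SubGa E a j (hv j (by omega)))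
  | succ i => exact Or.inl (subsingleton_H_SubTop F i)

theorem vanish_G_E {S' : Type u} [CommRing S'] [Algebra k S']
    {ℬ : ℤ → AddSubgroup S'} [GradedRing ℬ] (hkB : ∀ c : k, algebraMap k S' c ∈ ℬ 0)
    {N : Type u} [AddCommGroup N] [Module S' N] {𝒩 : ℤ → AddSubgroup N}
    [DirectSum.Decomposition 𝒩] [SetLike.GradedSMul ℬ 𝒩]
    (F : GrLC.StarInjRes ℬ 𝒩) [∀ j, Module k (F.X j).carrier]
    [∀ j, IsScalarTower k S' (F.X j).carrier] (e : ℤ)
    (r : ℕ) (hv : ∀ i, r < i → Subsingleton (E.H a i)) (n : ℕ) (hn : r < n) :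
    LinearMap.ker (D (cxOf (k := k) E) (cxOf (k := k) F)) ⊓
        TPq (SubG hkA E a.toIdeal e) (SubE hkB F e) n ≤
      BPq (SubG hkA E a.toIdeal e) (SubE hkB F e) n := by
  apply ker_inf_TPq_le
  intro i j hij
  cases j with
  | zero => exact Or.inl (subsingleton_H_SubG hkA E a e i (hv i (by omega)))
  | succ j => exact Or.inr (subsingleton_H_SubE hkB F e j)

theorem vanish_E_G {S' : Type u} [CommRing S'] [Algebra k S']
    {ℬ : ℤ → AddSubgroup S'} [GradedRing ℬ] (hkB : ∀ c : k, algebraMap k S' c ∈ ℬ 0)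
    {N : Type u} [AddCommGroup N] [Module S' N] {𝒩 : ℤ → AddSubgroup N}
    [DirectSum.Decomposition 𝒩] [SetLike.GradedSMul ℬ 𝒩]
    (F : GrLC.StarInjRes ℬ 𝒩) [∀ j, Module k (F.X j).carrier]
    [∀ j, IsScalarTower k S' (F.X j).carrier] (e : ℤ)
    (r : ℕ) (hv : ∀ i, r < i → Subsingleton (E.H a i)) (n : ℕ) (hn : r < n) :
    LinearMap.ker (D (cxOf (k := k) F) (cxOf (k := k) E)) ⊓
        TPq (SubE hkB F e) (SubG hkA E a.toIdeal e) n ≤
      BPq (SubE hkB F e) (SubG hkA E a.toIdeal e) n := by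
  apply ker_inf_TPq_le
  intro i j hij
  cases i with
  | zero => exact Or.inr (subsingleton_H_SubG hkA E a e j (hv j (by omega)))
  | succ i => exact Or.inl (subsingleton_H_SubE hkB F e i)

end Groth.Agent.Lib.Helper20.SegTLK
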