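import Mathlib
import Groth.Agent.Lib.Helper20.SegTLK1
import Groth.Agent.Lib.Helper20.SegBij5

/-!
# Torsion of the total Segre complex in all degrees, stability lemmas, the maps `ZZ` and `HH`
-/

set_option autoImplicit false
set_option linter.unusedSectionVars false
set_option linter.unusedVariables false
set_option linter.style.haveILetI false

universe u

open TensorProduct DirectSum

namespace Groth.Agent.Lib.Helper20.SegTLK

open Groth.Agent.Lib.Helper26.GrProj Groth.Agent.Lib.Helper20.SegAc Groth.Agent.Lib.Helper20.GrKit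
  Groth.Agent.Lib.Helper20.Ku Groth.Agent.Lib.Helper20.SegTot Groth.Agent.Lib.Helper20.SegBij

variable {k : Type u} [Field k] {R S T : Type u} [CommRing R] [CommRing S] [CommRing T]
  [Algebra k R] [Algebra k S] [Algebra k T]
  {𝒜 : ℤ → AddSubgroup R} [GradedRing 𝒜] (hkA : ∀ c : k, algebraMap k R c ∈ 𝒜 0)
  {ℬ : ℤ → AddSubgroup S} [GradedRing ℬ] (hkB : ∀ c : k, algebraMap k S c ∈ ℬ 0)
  {𝒯 : ℤ → AddSubgroup T} [GradedRing 𝒯]
  (ψ : T →ₐ[k] R ⊗[k] S) (hψ : ∀ n t, t ∈ 𝒯 n → ψ t ∈ GrSeg.segrePiece k 𝒜 ℬ n)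
  {M : Type u} [AddCommGroup M] [Module R M] [Module k M] [IsScalarTower k R M]
  {ℳ : ℤ → AddSubgroup M}
  [DirectSum.Decomposition ℳ] [SetLike.GradedSMul 𝒜 ℳ]
  (E : GrLC.StarInjRes 𝒜 ℳ) [∀ i, Module k (E.X i).carrier]
  [∀ i, IsScalarTower k R (E.X i).carrier]
  {N : Type u} [AddCommGroup N] [Module S N] [Module k N] [IsScalarTower k S N]
  {𝒩 : ℤ → AddSubgroup N}
  [DirectSum.Decomposition 𝒩] [SetLike.GradedSMul ℬ 𝒩]
  (F : GrLC.StarInjRes ℬ 𝒩) [∀ j, Module k (F.X j).carrier]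
  [∀ j, IsScalarTower k S (F.X j).carrier]
  (aR : HomogeneousIdeal 𝒜) (aS : HomogeneousIdeal ℬ) (aT : HomogeneousIdeal 𝒯)

local notation "AA" => cxOf (k := k) E
local notation "BB" => cxOf (k := k) F
local notation "GA" => SubGa (k := k) E aR
local notation "TA" => SubTop (k := k) E
local notation "GB" => SubGa (k := k) F aS
local notation "TB" => SubTop (k := k) F

/-- the all-degree torsion part in total degree `q` -/
noncomputable def Wall (q : ℕ) : Submodule k (TT AA BB) :=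
  TPq GA TB q ⊔ TPq TA GB q

theorem Wq_le_Wall (e : ℤ) (q : ℕ) : Wq hkA hkB E F aR aS e q ≤ Wall E F aR aS q :=
  sup_le_sup (TPq_mono (SubG_le_SubGa hkA E aR e) (SubE_le_SubTop hkB F e) q)
    (TPq_mono (SubE_le_SubTop hkA E e) (SubG_le_SubGa hkB F aS e) q)

theorem Wall_le_Tq (q : ℕ) : Wall E F aR aS q ≤ Tq AA BB q :=
  sup_le (TPq_le_Tq _ _ q) (TPq_le_Tq _ _ q)

theorem prq_of_mem_Tq {q : ℕ} {z : TT AA BB} (hz : z ∈ Tq AA BB q) :
    prq (k := k) E F q z = z := by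
  have : Tq AA BB q ≤ LinearMap.eqLocus (prq (k := k) E F q) LinearMap.id := by
    apply Tq_le
    intro i j hij x y
    show prq (k := k) E F q _ = _
    rw [prq_of_add_eq E F hij]
    rfl
  exact this hz

variable (hyp : TorsHyp ψ E F aR aS aT.toIdeal)

include hyp in
theorem mem_Wall_of_mem_gam {q : ℕ} (w : ↥(XQ hkA hkB ψ hψ E F q))
    (hw : w ∈ GrLC.gam aT.toIdeal ↥(XQ hkA hkB ψ hψ E F q)) :
    (w.1 : TT AA BB) ∈ Wall E F aR aS q := by
  obtain ⟨s, hs⟩ := exists_finset_of_P0 𝒜 hkA ℬ hkB (totGr E) (totGr F) w.1 w.2.1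
  have h1 : ∀ e : ℤ, ppE hkA hkB E F e w.1 ∈ Wall E F aR aS q := by
    intro e
    apply Wq_le_Wall hkA hkB E F aR aS e q
    exact mem_Wq_of_mem_gam hkA hkB ψ hψ E F aR aS aT hyp
      (XGproj hkA hkB ψ hψ E F q e w) (XGproj_mem_gam hkA hkB ψ hψ E F aT q e w hw)
      (pp_pp_same 𝒜 hkA ℬ hkB (totGr E) (totGr F) e w.1)
  have h2 : (w.1 : TT AA BB) = ∑ e ∈ s, ppE hkA hkB E F e w.1 := hs
  rw [h2]
  exact sum_mem fun e _ => h1 e

include hyp in
theorem isTors_of_mem_Wall {q : ℕ} {z : TT AA BB} (hz : z ∈ Wall E F aR aS q) :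
    IsTors ψ E F aT.toIdeal z := by
  have hle : Wall E F aR aS q ≤ torsK ψ E F aT.toIdeal := by
    apply sup_le
    · apply TPq_le
      intro i j hij x hx y hy
      change IsTors ψ E F aT.toIdeal _
      rw [← isTors_iff]
      apply (hyp _).2
      refine ⟨((⟨DirectSum.lof k ℕ (AA).X i x, mem_gam_tot_of_lof E hx⟩ :
        GrLC.gam aR.toIdeal (AA).T) ⊗ₜ[k] DirectSum.lof k ℕ (BB).X j y :
          ↥(GrLC.gam aR.toIdeal (AA).T) ⊗[k] (BB).T), 0, ?_⟩
      rw [map_zero, add_zero]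
      rfl
    · apply TPq_le
      intro i j hij x hx y hy
      change IsTors ψ E F aT.toIdeal _
      rw [← isTors_iff]
      apply (hyp _).2
      refine ⟨0, (DirectSum.lof k ℕ (AA).X i x ⊗ₜ[k]
        (⟨DirectSum.lof k ℕ (BB).X j y, mem_gam_tot_of_lof F hy⟩ :
          GrLC.gam aS.toIdeal (BB).T) : (AA).T ⊗[k] ↥(GrLC.gam aS.toIdeal (BB).T)), ?_⟩
      rw [map_zero, zero_add]
      rfl
  exact hle hz

theorem mem_XQ_of_mem_Wall {q : ℕ} {z : TT AA BB} (hz : z ∈ Wall E F aR aS q)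
    (h0 : P0E hkA hkB E F z = z) : (z : TP ψ (AA).T (BB).T) ∈ XQ hkA hkB ψ hψ E F q :=
  ⟨h0, prq_of_mem_Tq E F (Wall_le_Tq E F aR aS q hz)⟩

include hyp in
theorem mem_gam_of_mem_Wall {q : ℕ} {z : TT AA BB} (hz : z ∈ Wall E F aR aS q)
    (h0 : P0E hkA hkB E F z = z) :
    (⟨z, mem_XQ_of_mem_Wall hkA hkB ψ hψ E F aR aS hz h0⟩ : ↥(XQ hkA hkB ψ hψ E F q)) ∈
      GrLC.gam aT.toIdeal ↥(XQ hkA hkB ψ hψ E F q) :=
  (gam_XQ_iff hkA hkB ψ hψ E F aT.toIdeal q _).2 (isTors_of_mem_Wall ψ E F aR aS aT hyp hz)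

section Stab

/-- `R ⊗ S` preserves the subspaces built from stable subcomplexes -/
theorem act_mem_TPq (S₁ : (AA).Sub) (S' : (BB).Sub)
    (h1 : ∀ i (r : R) (x : (E.X i).carrier), x ∈ S₁.P i → r • x ∈ S₁.P i)
    (h2 : ∀ j (s : S) (y : (F.X j).carrier), y ∈ S'.P j → s • y ∈ S'.P j)
    (u : R ⊗[k] S) {q : ℕ} {z : TT AA BB} (hz : z ∈ TPq S₁ S' q) :
    GrSeg.act k R S (AA).T (BB).T u z ∈ TPq S₁ S' q := by
  induction u using TensorProduct.induction_on with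
  | zero => rw [map_zero, LinearMap.zero_apply]; exact zero_mem _
  | add a b ha hb => rw [map_add, LinearMap.add_apply]; exact add_mem ha hb
  | tmul r s =>
    have hle : TPq S₁ S' q ≤ (TPq S₁ S' q).comap (GrSeg.act k R S (AA).T (BB).T (r ⊗ₜ[k] s)) := by
      apply TPq_le
      intro i j hij x hx y hy
      rw [Submodule.mem_comap, GrSeg.act_tmul]
      have e1 : r • DirectSum.lof k ℕ (AA).X i x = DirectSum.lof k ℕ (AA).X i (r • x) :=
        (DirectSum.of_smul (M := fun i => (E.X i).carrier) R i r x).symm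
      have e2 : s • DirectSum.lof k ℕ (BB).X j y = DirectSum.lof k ℕ (BB).X j (s • y) :=
        (DirectSum.of_smul (M := fun i => (F.X i).carrier) S j s y).symm
      rw [e1, e2]
      exact tmul_mem_TPq S₁ S' hij (h1 i r x hx) (h2 j s y hy)
    exact hle hz

theorem ppE_mem_TPq (S₁ : (AA).Sub) (S' : (BB).Sub)
    (h1 : ∀ i (e : ℤ) (x : (E.X i).carrier), x ∈ S₁.P i → proj (E.X i).gr e x ∈ S₁.P i)
    (h2 : ∀ j (e : ℤ) (y : (F.X j).carrier), y ∈ S'.P j → proj (F.X j).gr e y ∈ S'.P j)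
    (e : ℤ) {q : ℕ} {z : TT AA BB} (hz : z ∈ TPq S₁ S' q) :
    ppE hkA hkB E F e z ∈ TPq S₁ S' q := by
  have hle : TPq S₁ S' q ≤ (TPq S₁ S' q).comap (ppE hkA hkB E F e) := by
    apply TPq_le
    intro i j hij x hx y hy
    rw [Submodule.mem_comap, ppE_tmul_lof]
    exact tmul_mem_TPq S₁ S' hij (h1 i e x hx) (h2 j e y hy)
  exact hle hz

theorem P0E_mem_TPq (S₁ : (AA).Sub) (S' : (BB).Sub)
    (h1 : ∀ i (e : ℤ) (x : (E.X i).carrier), x ∈ S₁.P i → proj (E.X i).gr e x ∈ S₁.P i)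
    (h2 : ∀ j (e : ℤ) (y : (F.X j).carrier), y ∈ S'.P j → proj (F.X j).gr e y ∈ S'.P j)
    {q : ℕ} {z : TT AA BB} (hz : z ∈ TPq S₁ S' q) :
    P0E hkA hkB E F z ∈ TPq S₁ S' q := by
  classical
  have hfin := pp_support_finite 𝒜 hkA ℬ hkB (totGr E) (totGr F) z
  have h := P0_eq_sum 𝒜 hkA ℬ hkB (totGr E) (totGr F) z hfin.toFinset
    (by rw [Set.Finite.coe_toFinset])
  have h' : P0E hkA hkB E F z = ∑ e ∈ hfin.toFinset, ppE hkA hkB E F e z := h
  rw [h']
  exact sum_mem fun e _ => ppE_mem_TPq hkA hkB E F S₁ S' h1 h2 e hz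

theorem act_mem_Wall (u : R ⊗[k] S) {q : ℕ} {z : TT AA BB} (hz : z ∈ Wall E F aR aS q) :
    GrSeg.act k R S (AA).T (BB).T u z ∈ Wall E F aR aS q := by
  obtain ⟨z₁, hz₁, z₂, hz₂, rfl⟩ := Submodule.mem_sup.1 hz
  rw [map_add]
  refine Submodule.add_mem_sup ?_ ?_
  · exact act_mem_TPq E F GA TB (fun i r x hx => Submodule.smul_mem _ r hx)
      (fun _ _ _ _ => Submodule.mem_top) u hz₁
  · exact act_mem_TPq E F TA GB (fun _ _ _ _ => Submodule.mem_top)
      (fun j s y hy => Submodule.smul_mem _ s hy) u hz₂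

theorem act_mem_GT (u : R ⊗[k] S) {q : ℕ} {z : TT AA BB} (hz : z ∈ TPq GA TB q) :
    GrSeg.act k R S (AA).T (BB).T u z ∈ TPq GA TB q :=
  act_mem_TPq E F GA TB (fun i r x hx => Submodule.smul_mem _ r hx)
    (fun _ _ _ _ => Submodule.mem_top) u hz

theorem act_mem_TG (u : R ⊗[k] S) {q : ℕ} {z : TT AA BB} (hz : z ∈ TPq TA GB q) :
    GrSeg.act k R S (AA).T (BB).T u z ∈ TPq TA GB q :=
  act_mem_TPq E F TA GB (fun _ _ _ _ => Submodule.mem_top)
    (fun j s y hy => Submodule.smul_mem _ s hy) u hz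

theorem P0E_mem_Wall {q : ℕ} {z : TT AA BB} (hz : z ∈ Wall E F aR aS q) :
    P0E hkA hkB E F z ∈ Wall E F aR aS q := by
  obtain ⟨z₁, hz₁, z₂, hz₂, rfl⟩ := Submodule.mem_sup.1 hz
  rw [map_add]
  refine Submodule.add_mem_sup ?_ ?_
  · exact P0E_mem_TPq hkA hkB E F GA TB
      (fun i e x hx => proj_mem_gam 𝒜 (E.X i).gr aR e x hx)
      (fun _ _ _ _ => Submodule.mem_top) hz₁
  · exact P0E_mem_TPq hkA hkB E F TA GB (fun _ _ _ _ => Submodule.mem_top)
      (fun j e y hy => proj_mem_gam ℬ (F.X j).gr aS e y hy) hz₂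

end Stab

section Maps

variable (r s : ℕ)

/-- tensors of cocycles inside the big tensor product, `T`-linearly -/
noncomputable def ZZ : TP ψ ↥(E.cocyc aR r) ↥(F.cocyc aS s) →ₗ[T] TP ψ (AA).T (BB).T :=
  mapT ψ ((DirectSum.lof R ℕ (fun i => (E.X i).carrier) r).comp (E.cocyc aR r).subtype)
    ((DirectSum.lof S ℕ (fun j => (F.X j).carrier) s).comp (F.cocyc aS s).subtype)

theorem ZZ_tmul (x : ↥(E.cocyc aR r)) (y : ↥(F.cocyc aS s)) :
    ZZ ψ E F aR aS r s (x ⊗ₜ[k] y : ↥(E.cocyc aR r) ⊗[k] ↥(F.cocyc aS s)) =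
      (DirectSum.lof k ℕ (AA).X r (x : (E.X r).carrier) ⊗ₜ[k]
        DirectSum.lof k ℕ (BB).X s (y : (F.X s).carrier) : TT AA BB) := rfl

/-- the tensor product of the class maps, `T`-linearly -/
noncomputable def HH : TP ψ ↥(E.cocyc aR r) ↥(F.cocyc aS s) →ₗ[T] TP ψ (E.H aR r) (F.H aS s) :=
  mapT ψ (E.toH aR r) (F.toH aS s)

theorem HH_tmul (x : ↥(E.cocyc aR r)) (y : ↥(F.cocyc aS s)) :
    HH ψ E F aR aS r s (x ⊗ₜ[k] y : ↥(E.cocyc aR r) ⊗[k] ↥(F.cocyc aS s)) =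
      (E.toH aR r x ⊗ₜ[k] F.toH aS s y : (E.H aR r) ⊗[k] (F.H aS s)) := rfl

theorem EE_zz_jZ (ζ : ↥(E.cocyc aR r) ⊗[k] ↥(F.cocyc aS s)) :
    EE GA GB (zz (A := (GA).cx) (B := (GB).cx) r s
      (TensorProduct.map (jZ (k := k) E aR r) (jZ (k := k) F aS s) ζ)) =
      (ZZ ψ E F aR aS r s ζ : TT AA BB) := by
  induction ζ using TensorProduct.induction_on with
  | zero =>
    rw [map_zero, map_zero, map_zero]
    exact (map_zero (ZZ ψ E F aR aS r s)).symm
  | tmul x y =>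
    rw [TensorProduct.map_tmul, EE_zz_tmul]
    rfl
  | add a b ha hb =>
    rw [map_add, map_add, map_add, ha, hb]
    exact (map_add (ZZ ψ E F aR aS r s) a b).symm

theorem theta_map (ζ : ↥(E.cocyc aR r) ⊗[k] ↥(F.cocyc aS s)) :
    TensorProduct.map (theta (k := k) E aR r) (theta (k := k) F aS s)
      (TensorProduct.map ((GA).cx.cls r) ((GB).cx.cls s)
        (TensorProduct.map (jZ (k := k) E aR r) (jZ (k := k) F aS s) ζ)) =
      (HH ψ E F aR aS r s ζ : (E.H aR r) ⊗[k] (F.H aS s)) := by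
  induction ζ using TensorProduct.induction_on with
  | zero =>
    rw [map_zero, map_zero, map_zero]
    exact (map_zero (HH ψ E F aR aS r s)).symm
  | tmul x y =>
    rw [TensorProduct.map_tmul, TensorProduct.map_tmul, TensorProduct.map_tmul]
    rfl
  | add a b ha hb =>
    rw [map_add, map_add, map_add, ha, hb]
    exact (map_add (HH ψ E F aR aS r s) a b).symm

theorem HH_eq_zero_iff (ζ : ↥(E.cocyc aR r) ⊗[k] ↥(F.cocyc aS s)) :
    HH ψ E F aR aS r s ζ = 0 ↔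
      TensorProduct.map ((GA).cx.cls r) ((GB).cx.cls s)
        (TensorProduct.map (jZ (k := k) E aR r) (jZ (k := k) F aS s) ζ) = 0 := by
  have hinj : Function.Injective
      (TensorProduct.map (theta (k := k) E aR r) (theta (k := k) F aS s)) :=
    TensorProduct.map_injective_of_flat_flat _ _ (theta_injective E aR r) (theta_injective F aS s)
  constructor
  · intro h
    apply hinj
    rw [theta_map ψ E F aR aS r s ζ, map_zero]
    exact h
  · intro h
    have := theta_map ψ E F aR aS r s ζ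
    rw [h, map_zero] at this
    exact this.symm

/-- degree `e` version: tensors of degree `e` cocycles -/
theorem EE_zz_kZe (e : ℤ)
    (ζ : ↥((SubG hkA E aR.toIdeal e).cx.cocyc r) ⊗[k] ↥((SubG hkB F aS.toIdeal e).cx.cocyc s)) :
    EE (SubG hkA E aR.toIdeal e) (SubG hkB F aS.toIdeal e)
      (zz (A := (SubG hkA E aR.toIdeal e).cx) (B := (SubG hkB F aS.toIdeal e).cx) r s ζ) =
      (ZZ ψ E F aR aS r s (TensorProduct.map (kZe hkA E aR e r) (kZe hkB F aS e s) ζ) :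
        TT AA BB) := by
  induction ζ using TensorProduct.induction_on with
  | zero =>
    rw [map_zero, map_zero, map_zero]
    exact (map_zero (ZZ ψ E F aR aS r s)).symm
  | tmul x y =>
    rw [TensorProduct.map_tmul, EE_zz_tmul]
    rfl
  | add a b ha hb =>
    rw [map_add, map_add, map_add, ha, hb]
    exact (map_add (ZZ ψ E F aR aS r s) _ _).symm

theorem HHk_kZe_mem (e : ℤ)
    (ζ : ↥((SubG hkA E aR.toIdeal e).cx.cocyc r) ⊗[k] ↥((SubG hkB F aS.toIdeal e).cx.cocyc s)) :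
    TensorProduct.map ((E.toH aR r).restrictScalars k) ((F.toH aS s).restrictScalars k)
      (TensorProduct.map (kZe hkA E aR e r) (kZe hkB F aS e s) ζ) ∈
        GrSeg.segrePiece k (E.Hgr aR r) (F.Hgr aS s) e := by
  induction ζ using TensorProduct.induction_on with
  | zero =>
    rw [map_zero, map_zero]
    exact zero_mem _
  | tmul x y =>
    rw [TensorProduct.map_tmul, TensorProduct.map_tmul]
    apply Submodule.subset_span
    refine ⟨E.toH aR r (kZe hkA E aR e r x), ⟨_, kZe_mem hkA E aR e r x, rfl⟩,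
      F.toH aS s (kZe hkB F aS e s y), ⟨_, kZe_mem hkB F aS e s y, rfl⟩, rfl⟩
  | add a b ha hb =>
    rw [map_add, map_add]
    exact add_mem ha hb

theorem HH_kZe_mem (e : ℤ)
    (ζ : ↥((SubG hkA E aR.toIdeal e).cx.cocyc r) ⊗[k] ↥((SubG hkB F aS.toIdeal e).cx.cocyc s)) :
    (HH ψ E F aR aS r s (TensorProduct.map (kZe hkA E aR e r) (kZe hkB F aS e s) ζ) :
      (E.H aR r) ⊗[k] (F.H aS s)) ∈ GrSeg.segrePiece k (E.Hgr aR r) (F.Hgr aS s) e :=
  HHk_kZe_mem hkA hkB E F aR aS r s e ζ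

end Maps

end Groth.Agent.Lib.Helper20.SegTLK
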