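import Mathlib
import Groth.Agent.Lib.Helper20.SegTLK2

/-!
# The connecting relation between `H^{n+1}_{T_+}(M # N)` and `H^r_m(M) ⊗ H^s_n(N)`, `n + 2 = r + s`
-/

set_option autoImplicit false
set_option linter.unusedSectionVars false
set_option linter.unusedVariables false
set_option linter.style.haveILetI false

universe u

open TensorProduct DirectSum

namespace Groth.Agent.Lib.Helper20.SegTLK

open Groth.Agent.Lib.Helper26.GrProj Groth.Agent.Lib.Helper20.SegAc Groth.Agent.Lib.Helper20.GrKit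
  Groth.Agent.Lib.Helper20.Ku Groth.Agent.Lib.Helper20.SegTot Groth.Agent.Lib.Helper20.SegBij

section Generic

variable {T : Type u} [CommRing T] {H K : Type u} [AddCommGroup H] [Module T H]
  [AddCommGroup K] [Module T K]

/-- a total functional linear relation is the graph of a linear map -/
theorem exists_linearMap_of_rel (Rel : Submodule T (H × K))
    (htot : ∀ h : H, ∃ ξ : K, (h, ξ) ∈ Rel)
    (hfun : ∀ ξ : K, ((0 : H), ξ) ∈ Rel → ξ = 0) :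
    ∃ Φ : H →ₗ[T] K, ∀ (h : H) (ξ : K), (h, ξ) ∈ Rel ↔ Φ h = ξ := by
  let π₁ : ↥Rel →ₗ[T] H := (LinearMap.fst T H K).comp Rel.subtype
  have hbij : Function.Bijective π₁ := by
    constructor
    · rw [← LinearMap.ker_eq_bot, LinearMap.ker_eq_bot']
      rintro ⟨⟨h, ξ⟩, hp⟩ h0
      have h0' : h = 0 := h0
      subst h0'
      have := hfun ξ hp
      subst this
      rfl
    · intro h
      obtain ⟨ξ, hξ⟩ := htot h
      exact ⟨⟨(h, ξ), hξ⟩, rfl⟩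
  let e := LinearEquiv.ofBijective π₁ hbij
  refine ⟨((LinearMap.snd T H K).comp Rel.subtype).comp e.symm.toLinearMap, ?_⟩
  intro h ξ
  constructor
  · intro hp
    have h1 : e ⟨(h, ξ), hp⟩ = h := rfl
    have h2 : e.symm h = ⟨(h, ξ), hp⟩ := by
      apply e.injective
      rw [LinearEquiv.apply_symm_apply]
      exact h1.symm
    change ((e.symm h : ↥Rel) : H × K).2 = ξ
    rw [h2]
  · intro hΦ
    have h1 : ((e.symm h : ↥Rel) : H × K).2 = ξ := hΦ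
    have h2 : ((e.symm h : ↥Rel) : H × K).1 = h := by
      have := LinearEquiv.apply_symm_apply e h
      exact this
    have h3 : ((e.symm h : ↥Rel) : H × K) = (h, ξ) := Prod.ext h2 h1
    rw [← h3]
    exact (e.symm h).2

end Generic

theorem exists_sup_decomp {k V : Type u} [Field k] [AddCommGroup V] [Module k V]
    (p p' : Submodule k V) {x : V} (hx : x ∈ p ⊔ p') : ∃ y ∈ p, ∃ z ∈ p', x = y + z := by
  obtain ⟨y, hy, z, hz, h⟩ := Submodule.mem_sup.1 hx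
  exact ⟨y, hy, z, hz, h.symm⟩

variable {k : Type u} [Field k] {R S T : Type u} [CommRing R] [CommRing S] [CommRing T]
  [Algebra k R] [Algebra k S] [Algebra k T]
  {𝒜 : ℤ → AddSubgroup R} [GradedRing 𝒜] (hkA : ∀ c : k, algebraMap k R c ∈ 𝒜 0)
  {ℬ : ℤ → AddSubgroup S} [GradedRing ℬ] (hkB : ∀ c : k, algebraMap k S c ∈ ℬ 0)
  {𝒯 : ℤ → AddSubgroup T} [GradedRing 𝒯] (hkT : ∀ c : k, algebraMap k T c ∈ 𝒯 0)
  (ψ : T →ₐ[k] R ⊗[k] S) (hψ : ∀ n t, t ∈ 𝒯 n → ψ t ∈ GrSeg.segrePiece k 𝒜 ℬ n)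
  {M : Type u} [AddCommGroup M] [Module R M] [Module k M] [IsScalarTower k R M]
  {ℳ : ℤ → AddSubgroup M}
  [DirectSum.Decomposition ℳ] [SetLike.GradedSMul 𝒜 ℳ]
  (E : GrLC.StarInjRes 𝒜 ℳ) [∀ i, Module k (E.X i).carrier]
  [∀ i, IsScalarTower k R (E.X i).carrier]
  {N : Type u} [AddCommGroup N] [Module S N] [Module k N] [IsScalarTower k S N]
  {𝒩 : ℤ → AddSubgroup N}
  [DirectSum.Decomposition 𝒩] [SetLike.GradedSMul ℬ 𝒩]
  (F : GrLC.StarInjRes ℬ 𝒩) [∀ j, Module k (F.X j).carrier]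
  [∀ j, IsScalarTower k S (F.X j).carrier]
  (aR : HomogeneousIdeal 𝒜) (aS : HomogeneousIdeal ℬ) (aT : HomogeneousIdeal 𝒯)
  (hyp : TorsHyp ψ E F aR aS aT.toIdeal)
  {P : Type u} [AddCommGroup P] [Module T P] [Module k P] [IsScalarTower k T P]
  {𝒬 : ℤ → AddSubgroup P} [DirectSum.Decomposition 𝒬] [SetLike.GradedSMul 𝒯 𝒬]
  (φ : P →ₗ[k] M ⊗[k] N) (hφi : Function.Injective φ)
  (hφp : ∀ n : ℤ, φ '' (𝒬 n : Set P) = (GrSeg.segrePiece k ℳ 𝒩 n : Set (M ⊗[k] N)))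
  (hφs : ∀ (t : T) (p : P), φ (t • p) = GrSeg.act k R S M N (ψ t) (φ p))
  (n r s : ℕ) (hn : n + 2 = r + s) (h2r : 2 ≤ r) (h2s : 2 ≤ s)
  (hvR : ∀ i, r < i → Subsingleton (E.H aR i)) (hvS : ∀ j, s < j → Subsingleton (F.H aS j))

local notation "AA" => cxOf (k := k) E
local notation "BB" => cxOf (k := k) F
local notation "GA" => SubGa (k := k) E aR
local notation "TA" => SubTop (k := k) E
local notation "GB" => SubGa (k := k) F aS
local notation "TB" => SubTop (k := k) F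
local notation "SGA" => SubG hkA E aR.toIdeal
local notation "SEA" => SubE hkA E
local notation "SGB" => SubG hkB F aS.toIdeal
local notation "SEB" => SubE hkB F
local notation "SEG" => segRes hkA hkB ψ hψ E F φ hφi hφp hφs

/-- the data relating a cocycle with a tensor of cocycles -/
def IsData (w z₁ z₂ : TT AA BB) (ζ : TP ψ ↥(E.cocyc aR r) ↥(F.cocyc aS s)) : Prop :=
  z₁ ∈ TPq GA TB (n + 1) ∧ z₂ ∈ TPq TA GB (n + 1) ∧ w = z₁ + z₂ ∧
    D AA BB z₁ = (ZZ ψ E F aR aS r s ζ : TT AA BB)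

theorem isData_zero : IsData ψ E F aR aS n r s 0 0 0 0 :=
  ⟨zero_mem _, zero_mem _, (add_zero 0).symm,
    (map_zero (D AA BB)).trans (map_zero (ZZ ψ E F aR aS r s)).symm⟩

theorem isData_add {w z₁ z₂ : TT AA BB} {ζ : TP ψ ↥(E.cocyc aR r) ↥(F.cocyc aS s)}
    {w' z₁' z₂' : TT AA BB} {ζ' : TP ψ ↥(E.cocyc aR r) ↥(F.cocyc aS s)}
    (h : IsData ψ E F aR aS n r s w z₁ z₂ ζ) (h' : IsData ψ E F aR aS n r s w' z₁' z₂' ζ') :
    IsData ψ E F aR aS n r s (w + w') (z₁ + z₁') (z₂ + z₂') (ζ + ζ') := by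
  obtain ⟨a1, a2, a3, a4⟩ := h
  obtain ⟨b1, b2, b3, b4⟩ := h'
  refine ⟨add_mem a1 b1, add_mem a2 b2, ?_, ?_⟩
  · rw [a3, b3]; abel
  · rw [map_add, a4, b4]
    exact (map_add (ZZ ψ E F aR aS r s) ζ ζ').symm

theorem isData_smul (t : T) {w z₁ z₂ : TT AA BB} {ζ : TP ψ ↥(E.cocyc aR r) ↥(F.cocyc aS s)}
    (h : IsData ψ E F aR aS n r s w z₁ z₂ ζ) :
    IsData ψ E F aR aS n r s (GrSeg.act k R S (AA).T (BB).T (ψ t) w)
      (GrSeg.act k R S (AA).T (BB).T (ψ t) z₁) (GrSeg.act k R S (AA).T (BB).T (ψ t) z₂)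
      (t • ζ) := by
  obtain ⟨a1, a2, a3, a4⟩ := h
  refine ⟨act_mem_GT E F aR (ψ t) a1, act_mem_TG E F aS (ψ t) a2, ?_, ?_⟩
  · rw [a3, map_add]
  · rw [D_act, a4]
    exact (map_smul (ZZ ψ E F aR aS r s) t ζ).symm

include hn hvR hvS in
theorem hv_all : ∀ i j, i + j = n + 1 + 1 → (i, j) ≠ (r, s) →
    Subsingleton ((GA).cx.H i) ∨ Subsingleton ((GB).cx.H j) := by
  intro i j hij hne
  by_cases hi : r < i
  · exact Or.inl (subsingleton_H_SubGa E aR i (hvR i hi))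
  · have hj : s < j := by
      by_contra hj
      apply hne
      have h1 : i = r := by omega
      have h2 : j = s := by omega
      rw [h1, h2]
    exact Or.inr (subsingleton_H_SubGa F aS j (hvS j hj))

include hn hvR hvS in
theorem hv_deg (e : ℤ) : ∀ i j, i + j = n + 1 + 1 → (i, j) ≠ (r, s) →
    Subsingleton ((SGA e).cx.H i) ∨ Subsingleton ((SGB e).cx.H j) := by
  intro i j hij hne
  by_cases hi : r < i
  · exact Or.inl (subsingleton_H_SubG hkA E aR e i (hvR i hi))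
  · have hj : s < j := by
      by_contra hj
      apply hne
      have h1 : i = r := by omega
      have h2 : j = s := by omega
      rw [h1, h2]
    exact Or.inr (subsingleton_H_SubG hkB F aS e j (hvS j hj))

theorem map_jZ_kZ (ζ : ↥((GA).cx.cocyc r) ⊗[k] ↥((GB).cx.cocyc s)) :
    TensorProduct.map (jZ (k := k) E aR r) (jZ (k := k) F aS s)
      (TensorProduct.map (kZ (k := k) E aR r) (kZ (k := k) F aS s) ζ) = ζ := by
  induction ζ using TensorProduct.induction_on with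
  | zero => rw [map_zero, map_zero]
  | tmul x y => rfl
  | add a b ha hb => rw [map_add, map_add, ha, hb]

include hyp hn hvR hvS in
/-- totality -/
theorem exists_data (w : ↥((SEG).cocyc aT (n + 1))) :
    ∃ (z₁ z₂ : TT AA BB) (ζ : TP ψ ↥(E.cocyc aR r) ↥(F.cocyc aS s)),
      IsData ψ E F aR aS n r s ((w.1 : ↥(XQ hkA hkB ψ hψ E F (n + 1))).1 : TT AA BB) z₁ z₂ ζ := by
  have hW : ((w.1 : ↥(XQ hkA hkB ψ hψ E F (n + 1))).1 : TT AA BB) ∈ Wall E F aR aS (n + 1) :=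
    mem_Wall_of_mem_gam hkA hkB ψ hψ E F aR aS aT hyp w.1 w.2.1
  obtain ⟨z₁, hz₁, z₂, hz₂, hzz⟩ := exists_sup_decomp (V := TT AA BB) _ _ hW
  have hD : D AA BB (z₁ + z₂) = 0 := by
    rw [← hzz]
    exact congrArg Subtype.val w.2.2
  obtain ⟨y, hy, ζ, hζ⟩ := conn_total (SubGa_le E aR) (SubGa_le F aS)
    (show n + 1 + 1 = r + s by omega) (hv_all E F aR aS n r s hn hvR hvS) hz₁ hz₂ hD
  refine ⟨z₁ - y, z₂ + y,
    (TensorProduct.map (kZ (k := k) E aR r) (kZ (k := k) F aS s) ζ :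
      ↥(E.cocyc aR r) ⊗[k] ↥(F.cocyc aS s)), ?_, ?_, ?_, ?_⟩
  · exact sub_mem hz₁ (TPq_mono (fun i => le_rfl) (SubGa_le F aS) (n + 1) hy)
  · exact add_mem hz₂ (TPq_mono (SubGa_le E aR) (fun i => le_rfl) (n + 1) hy)
  · rw [hzz]; abel
  · rw [hζ, ← EE_zz_jZ ψ E F aR aS r s, map_jZ_kZ]

include hyp hn in
/-- functionality -/
theorem HH_eq_zero_of_cobdy {w z₁ z₂ : TT AA BB} {ζ : TP ψ ↥(E.cocyc aR r) ↥(F.cocyc aS s)}
    (h : IsData ψ E F aR aS n r s w z₁ z₂ ζ)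
    (y : ↥(XQ hkA hkB ψ hψ E F n)) (hy : y ∈ GrLC.gam aT.toIdeal ↥(XQ hkA hkB ψ hψ E F n))
    (hyw : D AA BB y.1 = w) : HH ψ E F aR aS r s ζ = 0 := by
  obtain ⟨a1, a2, a3, a4⟩ := h
  rw [HH_eq_zero_iff ψ E F aR aS r s]
  have hW : (y.1 : TT AA BB) ∈ Wall E F aR aS n :=
    mem_Wall_of_mem_gam hkA hkB ψ hψ E F aR aS aT hyp y hy
  obtain ⟨y₁, hy₁, y₂, hy₂, hyy⟩ := exists_sup_decomp (V := TT AA BB) _ _ hW
  refine conn_fun (SubGa_le E aR) (SubGa_le F aS) (show n + 1 + 1 = r + s by omega) a1 a2 _ ?_ ?_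
  · rw [a4, EE_zz_jZ ψ E F aR aS r s]
  · rw [← a3, ← hyw, hyy, map_add, BPq_succ, BPq_succ]
    exact Submodule.add_mem_sup (Submodule.mem_map_of_mem hy₁) (Submodule.mem_map_of_mem hy₂)

include hyp hn h2r h2s hvR hvS in
/-- injectivity -/
theorem exists_cobdy_of_HH_eq_zero {w z₁ z₂ : TT AA BB}
    {ζ : TP ψ ↥(E.cocyc aR r) ↥(F.cocyc aS s)}
    (h : IsData ψ E F aR aS n r s w z₁ z₂ ζ) (hD : D AA BB w = 0)
    (hw0 : P0E hkA hkB E F w = w)
    (h0 : HH ψ E F aR aS r s ζ = 0) :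
    ∃ y : ↥(XQ hkA hkB ψ hψ E F n), y ∈ GrLC.gam aT.toIdeal ↥(XQ hkA hkB ψ hψ E F n) ∧
      D AA BB y.1 = w := by
  obtain ⟨a1, a2, a3, a4⟩ := h
  rw [HH_eq_zero_iff ψ E F aR aS r s] at h0
  have hB := conn_inj (SubGa_le E aR) (SubGa_le F aS) (show n + 1 + 1 = r + s by omega)
    (vanish_Ga_Top E aR F r hvR (n + 1) (by omega))
    (vanish_Top_Ga F aS E s hvS (n + 1) (by omega)) a1 a2 (by rw [← a3]; exact hD) _
    (by rw [a4, EE_zz_jZ ψ E F aR aS r s]) h0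
  rw [← a3, BPq_succ, BPq_succ, ← Submodule.map_sup] at hB
  obtain ⟨u, hu, huw⟩ : ∃ u : TT AA BB, u ∈ Wall E F aR aS n ∧ D AA BB u = w := hB
  have hu' : P0E hkA hkB E F u ∈ Wall E F aR aS n := P0E_mem_Wall hkA hkB E F aR aS hu
  have h00 : P0E hkA hkB E F (P0E hkA hkB E F u) = P0E hkA hkB E F u :=
    P0_P0 𝒜 hkA ℬ hkB (totGr (k := k) E) (totGr (k := k) F) u
  refine ⟨⟨P0E hkA hkB E F u, mem_XQ_of_mem_Wall hkA hkB ψ hψ E F aR aS hu' h00⟩,
    mem_gam_of_mem_Wall hkA hkB ψ hψ E F aR aS aT hyp hu' h00, ?_⟩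
  change D AA BB (P0E hkA hkB E F u) = w
  rw [← P0E_D, huw, hw0]

end Groth.Agent.Lib.Helper20.SegTLK
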