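import Mathlib
import Groth.Agent.Lib.Helper20.SegTLK3

/-!
# `H^{r+s-1}_{T_+}(M # N) ≅ H^r_m(M) # H^s_n(N)`, `T`-linearly and compatibly with the gradings
-/

set_option autoImplicit false
set_option linter.unusedSectionVars false
set_option linter.unusedVariables false
set_option linter.style.haveILetI false

universe u

open TensorProduct DirectSum

namespace Groth.Agent.Lib.Helper20.SegTLK

open Groth.Agent.Lib.Helper26.GrProj Groth.Agent.Lib.Helper20.SegAc Groth.Agent.Lib.Helper20.GrKit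
  Groth.Agent.Lib.Helper20.Ku Groth.Agent.Lib.Helper20.SegTot Groth.Agent.Lib.Helper20.SegBij

variable {k : Type u} [Field k] {R S T : Type u} [CommRing R] [CommRing S] [CommRing T]
  [Algebra k R] [Algebra k S] [Algebra k T]
  {𝒜 : ℤ → AddSubgroup R} [GradedRing 𝒜] (hkA : ∀ c : k, algebraMap k R c ∈ 𝒜 0)
  {ℬ : ℤ → AddSubgroup S} [GradedRing ℬ] (hkB : ∀ c : k, algebraMap k S c ∈ ℬ 0)
  {𝒯 : ℤ → AddSubgroup T} [GradedRing 𝒯] (hkT : ∀ c : k, algebraMap k T c ∈ 𝒯 0)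
  (ψ : T →ₐ[k] R ⊗[k] S) (hψ : ∀ n t, t ∈ 𝒯 n → ψ t ∈ GrSeg.segrePiece k 𝒜 ℬ n)
  {M : Type u} [AddCommGroup M] [Module R M] [Module k M] [IsScalarTower k R M]
  {ℳ : ℤ → AddSubgroup M}
  [DirectSum.Decomposition ℳ] [SetLike.GradedSMul 𝒜 ℳ]
  (E : GrLC.StarInjRes 𝒜 ℳ) [∀ i, Module k (E.X i).carrier]
  [∀ i, IsScalarTower k R (E.X i).carrier]
  {N : Type u} [AddCommGroup N] [Module S N] [Module k N] [IsScalarTower k S N]
  {𝒩 : ℤ → AddSubgroup N}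
  [DirectSum.Decomposition 𝒩] [SetLike.GradedSMul ℬ 𝒩]
  (F : GrLC.StarInjRes ℬ 𝒩) [∀ j, Module k (F.X j).carrier]
  [∀ j, IsScalarTower k S (F.X j).carrier]
  (aR : HomogeneousIdeal 𝒜) (aS : HomogeneousIdeal ℬ) (aT : HomogeneousIdeal 𝒯)
  (hyp : TorsHyp ψ E F aR aS aT.toIdeal)
  {P : Type u} [AddCommGroup P] [Module T P] [Module k P] [IsScalarTower k T P]
  {𝒬 : ℤ → AddSubgroup P} [DirectSum.Decomposition 𝒬] [SetLike.GradedSMul 𝒯 𝒬]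
  (φ : P →ₗ[k] M ⊗[k] N) (hφi : Function.Injective φ)
  (hφp : ∀ n : ℤ, φ '' (𝒬 n : Set P) = (GrSeg.segrePiece k ℳ 𝒩 n : Set (M ⊗[k] N)))
  (hφs : ∀ (t : T) (p : P), φ (t • p) = GrSeg.act k R S M N (ψ t) (φ p))
  (n r s : ℕ) (hn : n + 2 = r + s) (h2r : 2 ≤ r) (h2s : 2 ≤ s)
  (hvR : ∀ i, r < i → Subsingleton (E.H aR i)) (hvS : ∀ j, s < j → Subsingleton (F.H aS j))

local notation "AA" => cxOf (k := k) E
local notation "BB" => cxOf (k := k) F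
local notation "GA" => SubGa (k := k) E aR
local notation "TA" => SubTop (k := k) E
local notation "GB" => SubGa (k := k) F aS
local notation "TB" => SubTop (k := k) F
local notation "SGA" => SubG hkA E aR.toIdeal
local notation "SEA" => SubE hkA E
local notation "SGB" => SubG hkB F aS.toIdeal
local notation "SEB" => SubE hkB F
local notation "SEG" => segRes hkA hkB ψ hψ E F φ hφi hφp hφs

/-- the connecting relation -/
def Rel : Submodule T ((SEG).H aT (n + 1) × TP ψ (E.H aR r) (F.H aS s)) where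
  carrier := {p | ∃ (w : ↥((SEG).cocyc aT (n + 1))) (z₁ z₂ : TT AA BB)
      (ζ : TP ψ ↥(E.cocyc aR r) ↥(F.cocyc aS s)),
      IsData ψ E F aR aS n r s ((w.1 : ↥(XQ hkA hkB ψ hψ E F (n + 1))).1 : TT AA BB) z₁ z₂ ζ ∧
        (SEG).toH aT (n + 1) w = p.1 ∧ HH ψ E F aR aS r s ζ = p.2}
  zero_mem' := ⟨0, 0, 0, 0, isData_zero ψ E F aR aS n r s, map_zero _, map_zero _⟩
  add_mem' := by
    rintro p p' ⟨w, z₁, z₂, ζ, hd, h1, h2⟩ ⟨w', z₁', z₂', ζ', hd', h1', h2'⟩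
    refine ⟨w + w', z₁ + z₁', z₂ + z₂', ζ + ζ', isData_add ψ E F aR aS n r s hd hd', ?_, ?_⟩
    · rw [map_add, h1, h1']; rfl
    · rw [map_add, h2, h2']; rfl
  smul_mem' := by
    rintro t p ⟨w, z₁, z₂, ζ, hd, h1, h2⟩
    refine ⟨t • w, _, _, t • ζ, isData_smul ψ E F aR aS n r s t hd, ?_, ?_⟩
    · rw [map_smul, h1]; rfl
    · rw [map_smul, h2]; rfl

include hyp hn hvR hvS in
theorem rel_total (h : (SEG).H aT (n + 1)) :
    ∃ ξ : TP ψ (E.H aR r) (F.H aS s),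
      (h, ξ) ∈ Rel hkA hkB ψ hψ E F aR aS aT φ hφi hφp hφs n r s := by
  obtain ⟨w, rfl⟩ := (SEG).toH_surjective aT (n + 1) h
  obtain ⟨z₁, z₂, ζ, hd⟩ := exists_data hkA hkB ψ hψ E F aR aS aT hyp φ hφi hφp hφs n r s hn
    hvR hvS w
  exact ⟨HH ψ E F aR aS r s ζ, w, z₁, z₂, ζ, hd, rfl, rfl⟩

include hyp hn in
theorem rel_fun (ξ : TP ψ (E.H aR r) (F.H aS s))
    (hξ : ((0 : (SEG).H aT (n + 1)), ξ) ∈ Rel hkA hkB ψ hψ E F aR aS aT φ hφi hφp hφs n r s) :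
    ξ = 0 := by
  obtain ⟨w, z₁, z₂, ζ, hd, h1, h2⟩ := hξ
  have h1' : (SEG).toH aT (n + 1) w = 0 := h1
  rw [GrAcyc.GrRes.toH_eq_zero_iff, GrAcyc.GrRes.mem_cobdy_succ] at h1'
  obtain ⟨y, hy, hyw⟩ := h1'
  have h3 := HH_eq_zero_of_cobdy hkA hkB ψ hψ E F aR aS aT hyp n r s hn hd y hy
    (congrArg Subtype.val hyw)
  exact h2.symm.trans h3

include hyp hn h2r h2s hvR hvS in
theorem rel_inj (h : (SEG).H aT (n + 1))
    (hh : (h, (0 : TP ψ (E.H aR r) (F.H aS s))) ∈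
      Rel hkA hkB ψ hψ E F aR aS aT φ hφi hφp hφs n r s) : h = 0 := by
  obtain ⟨w, z₁, z₂, ζ, hd, h1, h2⟩ := hh
  have h2' : HH ψ E F aR aS r s ζ = 0 := h2
  obtain ⟨y, hy, hyw⟩ := exists_cobdy_of_HH_eq_zero hkA hkB ψ hψ E F aR aS aT hyp n r s hn h2r h2s
    hvR hvS hd (congrArg Subtype.val w.2.2) (w.1 : ↥(XQ hkA hkB ψ hψ E F (n + 1))).2.1 h2'
  have h1' : h = (SEG).toH aT (n + 1) w := h1.symm
  rw [h1', GrAcyc.GrRes.toH_eq_zero_iff, GrAcyc.GrRes.mem_cobdy_succ]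
  exact ⟨y, hy, Subtype.ext hyw⟩

include hyp hn hvR hvS in
/-- classes of degree `e` correspond to elements of the degree `e` piece -/
theorem rel_of_mem_Hgr (e : ℤ) (h : (SEG).H aT (n + 1)) (hh : h ∈ (SEG).Hgr aT (n + 1) e) :
    ∃ ξ : (E.H aR r) ⊗[k] (F.H aS s), ξ ∈ GrSeg.segrePiece k (E.Hgr aR r) (F.Hgr aS s) e ∧
      (h, (ξ : TP ψ (E.H aR r) (F.H aS s))) ∈
        Rel hkA hkB ψ hψ E F aR aS aT φ hφi hφp hφs n r s := by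
  obtain ⟨w, hwe, rfl⟩ := hh
  have hwe' : ppE hkA hkB E F e (w.1 : ↥(XQ hkA hkB ψ hψ E F (n + 1))).1 =
      (w.1 : ↥(XQ hkA hkB ψ hψ E F (n + 1))).1 := hwe
  have hW : ((w.1 : ↥(XQ hkA hkB ψ hψ E F (n + 1))).1 : TT AA BB) ∈
      Wq hkA hkB E F aR aS e (n + 1) :=
    mem_Wq_of_mem_gam hkA hkB ψ hψ E F aR aS aT hyp w.1 w.2.1 hwe'
  obtain ⟨z₁, hz₁, z₂, hz₂, hzz⟩ := exists_sup_decomp (V := TT AA BB) _ _ hW
  have hD : D AA BB (z₁ + z₂) = 0 := by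
    rw [← hzz]
    exact congrArg Subtype.val w.2.2
  obtain ⟨y, hy, ζ, hζ⟩ := conn_total (SubG_le hkA E aR.toIdeal e) (SubG_le hkB F aS.toIdeal e)
    (show n + 1 + 1 = r + s by omega) (hv_deg hkA hkB E F aR aS n r s hn hvR hvS e) hz₁ hz₂ hD
  refine ⟨_, HH_kZe_mem hkA hkB ψ E F aR aS r s e ζ, w, z₁ - y, z₂ + y,
    (TensorProduct.map (kZe hkA E aR e r) (kZe hkB F aS e s) ζ :
      ↥(E.cocyc aR r) ⊗[k] ↥(F.cocyc aS s)), ⟨?_, ?_, ?_, ?_⟩, rfl, rfl⟩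
  · refine sub_mem (TPq_mono (SubG_le_SubGa hkA E aR e) (SubE_le_SubTop hkB F e) (n + 1) hz₁) ?_
    exact TPq_mono (SubG_le_SubGa hkA E aR e) (fun j x hx => Submodule.mem_top) (n + 1) hy
  · refine add_mem (TPq_mono (SubE_le_SubTop hkA E e) (SubG_le_SubGa hkB F aS e) (n + 1) hz₂) ?_
    exact TPq_mono (fun j x hx => Submodule.mem_top) (SubG_le_SubGa hkB F aS e) (n + 1) hy
  · rw [hzz]; abel
  · rw [hζ, EE_zz_kZe hkA hkB ψ E F aR aS r s e ζ]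

include hyp hn hvR hvS hkT h2r h2s in
/-- elements of the degree `e` piece come from classes of degree `e` -/
theorem rel_of_mem_segrePiece (e : ℤ) (ξ : (E.H aR r) ⊗[k] (F.H aS s))
    (hξ : ξ ∈ GrSeg.segrePiece k (E.Hgr aR r) (F.Hgr aS s) e) :
    ∃ h : (SEG).H aT (n + 1), h ∈ (SEG).Hgr aT (n + 1) e ∧
      (h, (ξ : TP ψ (E.H aR r) (F.H aS s))) ∈
        Rel hkA hkB ψ hψ E F aR aS aT φ hφi hφp hφs n r s := by
  refine Submodule.span_induction (p := fun ξ _ => ∃ h : (SEG).H aT (n + 1),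
    h ∈ (SEG).Hgr aT (n + 1) e ∧ (h, (ξ : TP ψ (E.H aR r) (F.H aS s))) ∈
      Rel hkA hkB ψ hψ E F aR aS aT φ hφi hφp hφs n r s) ?_ ?_ ?_ ?_ hξ
  · rintro _ ⟨a, ⟨x, hxe, rfl⟩, b, ⟨y, hye, rfl⟩, rfl⟩
    let x' : ↥((SGA e).cx.cocyc r) :=
      ⟨⟨x.1, ⟨hxe, x.2.1⟩⟩, Subtype.ext (LinearMap.mem_ker.1 x.2.2)⟩
    let y' : ↥((SGB e).cx.cocyc s) :=
      ⟨⟨y.1, ⟨hye, y.2.1⟩⟩, Subtype.ext (LinearMap.mem_ker.1 y.2.2)⟩
    obtain ⟨z₁, hz₁, z₂, hz₂, hD1, hD⟩ := conn_surj (SubG_le hkA E aR.toIdeal e)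
      (SubG_le hkB F aS.toIdeal e) (show n + 1 + 1 = r + s by omega)
      (vanish_G_E hkA E aR hkB F e r hvR (n + 1 + 1) (by omega))
      (vanish_E_G hkB F aS hkA E e s hvS (n + 1 + 1) (by omega)) (x' ⊗ₜ[k] y')
    have hw : z₁ + z₂ ∈ Wq hkA hkB E F aR aS e (n + 1) := Submodule.add_mem_sup hz₁ hz₂
    have hdeg : ppE hkA hkB E F e (z₁ + z₂) = z₁ + z₂ :=
      ((mem_TPq_iff hkA hkB E F e (n + 1) _).1 (Wq_le hkA hkB E F aR aS e (n + 1) hw)).1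
    let wc : ↥((SEG).cocyc aT (n + 1)) :=
      ⟨⟨z₁ + z₂, mem_XQ_of_mem_Wq hkA hkB ψ hψ E F aR aS hw⟩,
        mem_cocyc_of_mem hkA hkB ψ hψ E F aR aS aT hyp φ hφi hφp hφs (z₁ + z₂) hD hw⟩
    refine ⟨(SEG).toH aT (n + 1) wc, ⟨wc, hdeg, rfl⟩, wc, z₁, z₂,
      (x ⊗ₜ[k] y : ↥(E.cocyc aR r) ⊗[k] ↥(F.cocyc aS s)), ⟨?_, ?_, rfl, ?_⟩, rfl, rfl⟩
    · exact TPq_mono (SubG_le_SubGa hkA E aR e) (SubE_le_SubTop hkB F e) (n + 1) hz₁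
    · exact TPq_mono (SubE_le_SubTop hkA E e) (SubG_le_SubGa hkB F aS e) (n + 1) hz₂
    · rw [hD1, EE_zz_kZe hkA hkB ψ E F aR aS r s e (x' ⊗ₜ[k] y')]
      rfl
  · exact ⟨0, zero_mem _, zero_mem _⟩
  · rintro ξ₁ ξ₂ _ _ ⟨h₁, hh₁, hr₁⟩ ⟨h₂, hh₂, hr₂⟩
    exact ⟨h₁ + h₂, add_mem hh₁ hh₂, add_mem hr₁ hr₂⟩
  · rintro c ξ₁ _ ⟨h₁, hh₁, hr₁⟩
    refine ⟨algebraMap k T c • h₁, ?_, ?_⟩
    · obtain ⟨z, hz, rfl⟩ := hh₁
      refine ⟨algebraMap k T c • z, ?_, (map_smul _ _ _)⟩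
      have := ((SEG).X (n + 1)).gsmul.smul_mem (hkT c) hz
      rw [zero_vadd] at this
      exact this
    · have h1 := Submodule.smul_mem _ (algebraMap k T c) hr₁
      have h2 : algebraMap k T c • (ξ₁ : TP ψ (E.H aR r) (F.H aS s)) =
          (c • ξ₁ : (E.H aR r) ⊗[k] (F.H aS s)) := algebraMap_smul T c _
      rw [Prod.smul_mk, h2] at h1
      exact h1

include hyp hn hvR hvS hkT h2r h2s in
/-- **The top Künneth isomorphism on the total Segre complex.** -/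
theorem tlk_SEG :
    ∃ Φ : (SEG).H aT (n + 1) →ₗ[T] TP ψ (E.H aR r) (F.H aS s), Function.Injective Φ ∧
      ∀ e : ℤ, (fun x => (Φ x : (E.H aR r) ⊗[k] (F.H aS s))) ''
          ((SEG).Hgr aT (n + 1) e : Set ((SEG).H aT (n + 1))) =
        (GrSeg.segrePiece k (E.Hgr aR r) (F.Hgr aS s) e : Set ((E.H aR r) ⊗[k] (F.H aS s))) := by
  obtain ⟨Φ, hΦ⟩ := exists_linearMap_of_rel
    (Rel hkA hkB ψ hψ E F aR aS aT φ hφi hφp hφs n r s)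
    (rel_total hkA hkB ψ hψ E F aR aS aT hyp φ hφi hφp hφs n r s hn hvR hvS)
    (rel_fun hkA hkB ψ hψ E F aR aS aT hyp φ hφi hφp hφs n r s hn)
  refine ⟨Φ, ?_, ?_⟩
  · rw [← LinearMap.ker_eq_bot, LinearMap.ker_eq_bot']
    intro h h0
    exact rel_inj hkA hkB ψ hψ E F aR aS aT hyp φ hφi hφp hφs n r s hn h2r h2s hvR hvS h
      ((hΦ h 0).2 h0)
  · intro e
    ext ξ
    constructor
    · rintro ⟨h, hh, rfl⟩
      obtain ⟨ξ', hξ', hrel⟩ := rel_of_mem_Hgr hkA hkB ψ hψ E F aR aS aT hyp φ hφi hφp hφs n r s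
        hn hvR hvS e h hh
      have := (hΦ h ξ').1 hrel
      change (Φ h : (E.H aR r) ⊗[k] (F.H aS s)) ∈ _
      rw [this]
      exact hξ'
    · intro hξ
      obtain ⟨h, hh, hrel⟩ := rel_of_mem_segrePiece hkA hkB hkT ψ hψ E F aR aS aT hyp φ hφi hφp
        hφs n r s hn h2r h2s hvR hvS e ξ hξ
      exact ⟨h, hh, (hΦ h ξ).1 hrel⟩

include hkA hkB hψ hyp hn hvR hvS hkT h2r h2s hφi hφp hφs in
/-- **`H^{r+s-1}_{T_+}(M # N) ≅ H^r_m(M) # H^s_n(N)`**, for gradings by additive subgroups. -/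
theorem tlk_AS [IsNoetherianRing T] (EP : GrLC.StarInjRes 𝒯 𝒬)
    (hacyc : ∀ j, 1 ≤ j → Subsingleton (LocCoh.H aT.toIdeal j (TP ψ (AA).T (BB).T))) :
    ∃ Φ : EP.H aT (n + 1) →ₗ[T] TP ψ (E.H aR r) (F.H aS s), Function.Injective Φ ∧
      ∀ e : ℤ, (fun x => (Φ x : (E.H aR r) ⊗[k] (F.H aS s))) ''
          (EP.Hgr aT (n + 1) e : Set (EP.H aT (n + 1))) =
        (GrSeg.segrePiece k (E.Hgr aR r) (F.Hgr aS s) e : Set ((E.H aR r) ⊗[k] (F.H aS s))) := by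
  obtain ⟨χ, hχ, hχ'⟩ := GrAcyc.acyclic_computes aT (n + 1) P 𝒬 (SEG)
    (fun q => isAcyc_XG hkA hkB ψ hψ E F aT q hacyc) EP
  obtain ⟨L, hL, hLimg⟩ := tlk_SEG hkA hkB hkT ψ hψ E F aR aS aT hyp φ hφi hφp hφs n r s hn h2r h2s
    hvR hvS
  refine ⟨L ∘ₗ χ.symm.toLinearMap, hL.comp χ.symm.injective, ?_⟩
  intro e
  rw [← hLimg e]
  ext w
  constructor
  · rintro ⟨x, hx, rfl⟩
    exact ⟨χ.symm x, hχ' e x hx, rfl⟩
  · rintro ⟨x, hx, rfl⟩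
    refine ⟨χ x, hχ e x hx, ?_⟩
    change (L (χ.symm (χ x)) : (E.H aR r) ⊗[k] (F.H aS s)) = _
    rw [LinearEquiv.symm_apply_apply]

end Groth.Agent.Lib.Helper20.SegTLK
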