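import Mathlib
import Groth.Agent.Lib.Helper20.GDual10
import Groth.Agent.Lib.Helper20.SegTLK4
import Groth.Agent.Lib.Helper20.SegKun2
import Groth.Agent.Lib.Helper20.SegCM6
import Groth.Agent.Lib.Helper20.SegDim
import Groth.Agent.Lib.Helper20.SegFin
import Groth.Agent.Lib.Helper20.GrW4
import Groth.Agent.Lib.helper11.SG8
import Groth.Agent.S18646

/-!
# The Segre product of *canonical modules is a *canonical module of the Segre product
-/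

set_option autoImplicit false
set_option linter.unusedSectionVars false
set_option linter.unusedVariables false
set_option linter.style.haveILetI false

universe u

open TensorProduct DirectSum

namespace Groth.Agent.Lib.Helper20.GDual

open Groth.Agent.Lib.Helper26.GrProj Groth.Agent.Lib.Helper20.SegAc Groth.Agent.Lib.Helper20.GrKit
  Groth.Agent.Lib.Helper20.Ku Groth.Agent.Lib.Helper20.SegTot Groth.Agent.Lib.Helper20.GrConv
  Groth.Agent.Lib.Helper20.SegKun Groth.Agent.Lib.Helper20.SegTLK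
  Groth.Agent.Lib.Helper20.GrCanW

theorem s19757 (k : Type u) [Field k] (R : Type u) [CommRing R] [Algebra k R]
    (𝒜 : ℤ → Submodule k R) [GradedAlgebra 𝒜] (hposR : ∀ n : ℤ, n < 0 → 𝒜 n = ⊥)
    (h0R : 𝒜 0 = Submodule.span k {(1 : R)}) [Algebra.FiniteType k R]
    (S : Type u) [CommRing S] [Algebra k S] (ℬ : ℤ → Submodule k S) [GradedAlgebra ℬ]
    (hposS : ∀ n : ℤ, n < 0 → ℬ n = ⊥) (h0S : ℬ 0 = Submodule.span k {(1 : S)})
    [Algebra.FiniteType k S]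
    (T : Type u) [CommRing T] [Algebra k T] (𝒯 : ℤ → Submodule k T) [GradedAlgebra 𝒯]
    (ψ : T →ₐ[k] TensorProduct k R S) (hT : GrSeg.IsSegreRing 𝒜 ℬ 𝒯 ψ)
    (mR : HomogeneousIdeal 𝒜)
    (hmR : mR.toIdeal = Ideal.span (⋃ n ∈ Set.Ioi (0 : ℤ), (𝒜 n : Set R)))
    (I : GrLC.StarInjRes 𝒜 𝒜) (mS : HomogeneousIdeal ℬ)
    (hmS : mS.toIdeal = Ideal.span (⋃ n ∈ Set.Ioi (0 : ℤ), (ℬ n : Set S)))
    (J : GrLC.StarInjRes ℬ ℬ) (mT : HomogeneousIdeal 𝒯)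
    (hmT : mT.toIdeal = Ideal.span (⋃ n ∈ Set.Ioi (0 : ℤ), (𝒯 n : Set T)))
    (IT : GrLC.StarInjRes 𝒯 𝒯) (r s : ℕ) (hr : ringKrullDim R = r) (hs : ringKrullDim S = s)
    (h2r : 2 ≤ r) (h2s : 2 ≤ s)
    (ER : Type u) [AddCommGroup ER] [Module R ER] (𝓔R : ℤ → AddSubgroup ER)
    [DirectSum.Decomposition 𝓔R] [SetLike.GradedSMul 𝒜 𝓔R]
    (eR : (R ⧸ mR.toIdeal) →ₗ[R] ER) (heR : GrLC.IsStarInjHull 𝒜 (GrLC.quotGr 𝒜 mR) 𝓔R eR)
    (CR : Type u) [AddCommGroup CR] [Module R CR] [Module k CR] [IsScalarTower k R CR]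
    (𝒞R : ℤ → AddSubgroup CR) [DirectSum.Decomposition 𝒞R] [SetLike.GradedSMul 𝒜 𝒞R]
    (hCR : GrLC.IsStarCanonical 𝒜 𝒞R 𝓔R mR r I)
    (ES : Type u) [AddCommGroup ES] [Module S ES] (𝓔S : ℤ → AddSubgroup ES)
    [DirectSum.Decomposition 𝓔S] [SetLike.GradedSMul ℬ 𝓔S]
    (eS : (S ⧸ mS.toIdeal) →ₗ[S] ES) (heS : GrLC.IsStarInjHull ℬ (GrLC.quotGr ℬ mS) 𝓔S eS)
    (CS : Type u) [AddCommGroup CS] [Module S CS] [Module k CS] [IsScalarTower k S CS]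
    (𝒞S : ℤ → AddSubgroup CS) [DirectSum.Decomposition 𝒞S] [SetLike.GradedSMul ℬ 𝒞S]
    (hCS : GrLC.IsStarCanonical ℬ 𝒞S 𝓔S mS s J)
    (ET : Type u) [AddCommGroup ET] [Module T ET] (𝓔T : ℤ → AddSubgroup ET)
    [DirectSum.Decomposition 𝓔T] [SetLike.GradedSMul 𝒯 𝓔T]
    (eT : (T ⧸ mT.toIdeal) →ₗ[T] ET) (heT : GrLC.IsStarInjHull 𝒯 (GrLC.quotGr 𝒯 mT) 𝓔T eT)
    (P : Type u) [AddCommGroup P] [Module T P] [Module k P] [IsScalarTower k T P]
    (𝒬 : ℤ → AddSubgroup P) [DirectSum.Decomposition 𝒬] [SetLike.GradedSMul 𝒯 𝒬]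
    (φ : P →ₗ[k] TensorProduct k CR CS) (hP : GrSeg.IsSegreMod ψ 𝒞R 𝒞S 𝒬 φ) :
    GrLC.IsStarCanonical 𝒯 𝒬 𝓔T mT (r + s - 1) IT := by
  classical
  have hψ := hT.1
  have hdegT := hT.2
  haveI : Nontrivial R := Groth.Agent.Lib.Helper20.SegCM.nontrivial_of_dim r hr
  haveI : Nontrivial S := Groth.Agent.Lib.Helper20.SegCM.nontrivial_of_dim s hs
  haveI : IsNoetherianRing R := Algebra.FiniteType.isNoetherianRing k R
  haveI : IsNoetherianRing S := Algebra.FiniteType.isNoetherianRing k S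
  haveI : IsNoetherianRing T :=
    Groth.Agent.S18646.result k R 𝒜 hposR h0R S ℬ hposS h0S T 𝒯 ψ hψ hdegT
  haveI : Algebra.FiniteType k T :=
    Groth.Agent.Lib.Helper20.SegDim.finiteType_segre 𝒜 ℬ 𝒯 ψ hposR h0R hposS h0S hψ hdegT
  haveI : IsNoetherianRing (R ⊗[k] S) := Algebra.FiniteType.isNoetherianRing k _
  haveI : Nontrivial (R ⊗[k] S) :=
    Algebra.TensorProduct.nontrivial_of_algebraMap_injective_of_flat_left k R S
      (algebraMap k S).injective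
  haveI : Nontrivial T := ⟨0, 1, fun h => zero_ne_one (α := R ⊗[k] S)
    (by rw [← map_zero ψ, ← map_one ψ, h])⟩
  have h0T : 𝒯 0 = Submodule.span k {(1 : T)} :=
    Groth.Agent.Lib.Helper20.SegDim.piece_zero_eq hψ hdegT h0R h0S
  have hposT : ∀ n : ℤ, n < 0 → 𝒯 n = ⊥ := fun n hn =>
    Groth.Agent.Lib.Helper20.SegDim.piece_eq_bot_of_neg hψ hdegT (hposR n hn)
  obtain ⟨n, hn⟩ : ∃ n : ℕ, n + 2 = r + s := ⟨r + s - 2, by omega⟩
  have hidx : r + s - 1 = n + 1 := by omega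
  rw [hidx]
  haveI hfR : Module.Finite R CR := hCR.1
  haveI hfS : Module.Finite S CS := hCS.1
  haveI hfP : Module.Finite T P :=
    Groth.Agent.Lib.Helper20.SegFin.moduleFinite_segreMod 𝒜 ℬ 𝒯 ψ 𝒞R 𝒞S 𝒬 φ hT.2 hP
  -- `k`-structures
  letI : ∀ i, Module k ((resToAS I).X i).carrier :=
    fun i => Module.compHom ((resToAS I).X i).carrier (algebraMap k R)
  haveI : ∀ i, IsScalarTower k R ((resToAS I).X i).carrier := fun i => ⟨fun c r x => by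
    change (c • r) • x = algebraMap k R c • (r • x)
    rw [Algebra.smul_def, mul_smul]⟩
  letI : ∀ i, Module k ((resToAS J).X i).carrier :=
    fun i => Module.compHom ((resToAS J).X i).carrier (algebraMap k S)
  haveI : ∀ i, IsScalarTower k S ((resToAS J).X i).carrier := fun i => ⟨fun c r x => by
    change (c • r) • x = algebraMap k S c • (r • x)
    rw [Algebra.smul_def, mul_smul]⟩
  letI : ∀ i, Module k ((resToAS IT).X i).carrier :=
    fun i => Module.compHom ((resToAS IT).X i).carrier (algebraMap k T)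
  haveI : ∀ i, IsScalarTower k T ((resToAS IT).X i).carrier := fun i => ⟨fun c r x => by
    change (c • r) • x = algebraMap k T c • (r • x)
    rw [Algebra.smul_def, mul_smul]⟩
  letI dHR : DirectSum.Decomposition ((resToAS I).Hgr (idealToAS 𝒜 mR) r) :=
    Groth.Agent.Lib.Helper20.GorTop.HgrDecomposition (asGr 𝒜) (asGrM 𝒜) (resToAS I)
      (idealToAS 𝒜 mR) r
  letI dHS : DirectSum.Decomposition ((resToAS J).Hgr (idealToAS ℬ mS) s) :=
    Groth.Agent.Lib.Helper20.GorTop.HgrDecomposition (asGr ℬ) (asGrM ℬ) (resToAS J)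
      (idealToAS ℬ mS) s
  letI dHT : DirectSum.Decomposition ((resToAS IT).Hgr (idealToAS 𝒯 mT) (n + 1)) :=
    Groth.Agent.Lib.Helper20.GorTop.HgrDecomposition (asGr 𝒯) (asGrM 𝒯) (resToAS IT)
      (idealToAS 𝒯 mT) (n + 1)
  haveI : SetLike.GradedSMul (asGr 𝒜) 𝒞R :=
    ⟨fun {i j} {a d} ha hx => SetLike.GradedSMul.smul_mem (A := 𝒜) ha hx⟩
  haveI : SetLike.GradedSMul (asGr ℬ) 𝒞S :=
    ⟨fun {i j} {a d} ha hx => SetLike.GradedSMul.smul_mem (A := ℬ) ha hx⟩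
  haveI : SetLike.GradedSMul (asGr 𝒯) 𝒬 :=
    ⟨fun {i j} {a d} ha hx => SetLike.GradedSMul.smul_mem (A := 𝒯) ha hx⟩
  haveI : SetLike.GradedSMul (asGr 𝒯) 𝓔T :=
    ⟨fun {i j} {a d} ha hx => SetLike.GradedSMul.smul_mem (A := 𝒯) ha hx⟩
  -- the top local cohomologies of `R` and `S` are graded duals of the canonical modules
  obtain ⟨βR, hGR⟩ := exists_gdual_of_canonical k R 𝒜 hposR h0R mR hmR I r ER 𝓔R eR heR CR 𝒞R hCR
  obtain ⟨βS, hGS⟩ := exists_gdual_of_canonical k S ℬ hposS h0S mS hmS J s ES 𝓔S eS heS CS 𝒞S hCS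
  have hkA : ∀ c : k, algebraMap k R c ∈ asGr 𝒜 0 := algebraMap_mem_asGr 𝒜
  have hkB : ∀ c : k, algebraMap k S c ∈ asGr ℬ 0 := algebraMap_mem_asGr ℬ
  have hkT : ∀ c : k, algebraMap k T c ∈ asGr 𝒯 0 := algebraMap_mem_asGr 𝒯
  have hψ' : ∀ n t, t ∈ asGr 𝒯 n → ψ t ∈ GrSeg.segrePiece k (asGr 𝒜) (asGr ℬ) n := by
    intro n t ht
    have h1 : ψ t ∈ (𝒯 n).map ψ.toLinearMap := ⟨t, ht, rfl⟩
    rw [hdegT n] at h1
    exact h1
  have hPT := isSegreMod_self k R 𝒜 S ℬ T 𝒯 ψ hψ hdegT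
  have hφp' : ∀ n : ℤ, ψ.toLinearMap '' (asGrM 𝒯 n : Set T) =
      (GrSeg.segrePiece k (asGrM 𝒜) (asGrM ℬ) n : Set (R ⊗[k] S)) := hPT.image_piece
  have hyp : TorsHyp ψ (resToAS I) (resToAS J) (idealToAS 𝒜 mR) (idealToAS ℬ mS)
      (idealToAS 𝒯 mT).toIdeal := fun z =>
    mem_gam_TP_iff 𝒜 ℬ 𝒯 ψ hT mR hmR mS hmS mT hmT
      (cxOf (k := k) (resToAS I)).T (cxOf (k := k) (resToAS J)).T z
  have hacyc : ∀ j, 1 ≤ j → Subsingleton (LocCoh.H (idealToAS 𝒯 mT).toIdeal j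
      (TP ψ (cxOf (k := k) (resToAS I)).T (cxOf (k := k) (resToAS J)).T)) :=
    subsingleton_TP 𝒜 ℬ 𝒯 ψ hT mR hmR mS hmS mT hmT
      (cxOf (k := k) (resToAS I)).T (cxOf (k := k) (resToAS J)).T
      (fun j hj => subsingleton_tot (resToAS I) (idealToAS 𝒜 mR) j hj)
      (fun j hj => subsingleton_tot (resToAS J) (idealToAS ℬ mS) j hj)
  have hvR : ∀ i, r < i → Subsingleton ((resToAS I).H (idealToAS 𝒜 mR) i) := fun i hi =>
    Groth.Agent.Lib.helper11.SG8.subsingleton_H_of_dim_lt (asGr 𝒜) (idealToAS 𝒜 mR) r hr R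
      (asGrM 𝒜) (resToAS I) i hi
  have hvS : ∀ i, s < i → Subsingleton ((resToAS J).H (idealToAS ℬ mS) i) := fun i hi =>
    Groth.Agent.Lib.helper11.SG8.subsingleton_H_of_dim_lt (asGr ℬ) (idealToAS ℬ mS) s hs S
      (asGrM ℬ) (resToAS J) i hi
  obtain ⟨Φ, hΦi, hΦ⟩ := tlk_AS hkA hkB hkT ψ hψ' (resToAS I) (resToAS J) (idealToAS 𝒜 mR)
    (idealToAS ℬ mS) (idealToAS 𝒯 mT) hyp ψ.toLinearMap hPT.injective hφp' hPT.map_smul n r s hn
    h2r h2s hvR hvS (resToAS IT) hacyc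
  haveI hfX : ∀ j, Module.Finite k (pcK (asGr 𝒜) hkA 𝒞R j) := fun j => by
    have h : pcK (asGr 𝒜) hkA 𝒞R j = Groth.Agent.Lib.Helper14.GrDualLib.pieceK 𝒜 𝒞R j :=
      Submodule.ext fun x => Iff.rfl
    rw [h]
    exact Groth.Agent.Lib.Helper14.GrDualLib.finite_piece_module 𝒜 𝒞R hposR h0R j
  haveI hfY : ∀ j, Module.Finite k (pcK (asGr ℬ) hkB 𝒞S j) := fun j => by
    have h : pcK (asGr ℬ) hkB 𝒞S j = Groth.Agent.Lib.Helper14.GrDualLib.pieceK ℬ 𝒞S j :=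
      Submodule.ext fun x => Iff.rfl
    rw [h]
    exact Groth.Agent.Lib.Helper14.GrDualLib.finite_piece_module ℬ 𝒞S hposS h0S j
  -- the top local cohomology of `T` is a graded dual of `P`
  have hD := isGDual_segreMod hkA hkB ψ 𝒞R 𝒞S 𝒬 φ hP.injective hP.image_piece hP.map_smul
    ((resToAS I).Hgr (idealToAS 𝒜 mR) r) ((resToAS J).Hgr (idealToAS ℬ mS) s) βR βS hGR hGS
    ((resToAS IT).Hgr (idealToAS 𝒯 mT) (n + 1)) Φ hΦi hΦ
  -- the hull of `T` is a graded dual of `T`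
  letI : Module k ET := Module.compHom ET (algebraMap k T)
  haveI : IsScalarTower k T ET := ⟨fun c r x => by
    change (c • r) • x = algebraMap k T c • (r • x)
    rw [Algebra.smul_def, mul_smul]⟩
  have hposT' := hpos_asGr k T 𝒯 hposT
  have hmT' := isStarLocal_asGr k T 𝒯 hposT h0T mT hmT
  have h0T' : IsField (GrLC.deg0 (asGr 𝒯)) := Groth.Agent.Lib.Helper20.SegCM.isField_deg0 𝒯 h0T
  have heT' := isStarInjHull_toAS 𝒯 mT 𝓔T eT heT
  obtain ⟨τ, hτ1, hτ2⟩ := exists_trace (k := k) (asGr 𝒯) hkT hposT' h0T' (h0k_asGr k T 𝒯 h0T)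
    (idealToAS 𝒯 mT) hmT' 𝓔T eT heT'
  have hψT : GrLC.IsGrHom (fun d => (GrLC.homDeg (asGr 𝒯) (asGr 𝒯) 𝓔T d).toAddSubgroup) 𝓔T
      (LinearMap.ringLmapEquivSelf T T ET).toLinearMap := by
    intro d f hf
    have hf' : GrLC.IsGrHomDeg (asGr 𝒯) 𝓔T f d := hf
    have h1 : (1 : T) ∈ asGr 𝒯 0 := SetLike.GradedOne.one_mem
    have h2 := hf' 0 1 h1
    rw [zero_add] at h2
    exact h2
  have hfT : ∀ j, Module.Finite k (pcK (asGr 𝒯) hkT (asGr 𝒯) j) := fun j => by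
    have h : pcK (asGr 𝒯) hkT (asGr 𝒯) j = 𝒯 j := Submodule.ext fun x => Iff.rfl
    rw [h]
    exact Groth.Agent.Lib.Helper14.GrDualLib.finite_piece_ring 𝒯 hposT h0T j
  have hK := isGDual_canPair (asGr 𝒯) hkT hposT' h0T' (idealToAS 𝒯 mT) hmT' 𝓔T eT heT' (asGr 𝒯)
    hfT 𝓔T (LinearMap.ringLmapEquivSelf T T ET) hψT τ hτ1 hτ2
  -- Hom-tensor duality
  have hμ : ∀ (e g : ℤ) (x : P) (h : T), x ∈ 𝒬 e → h ∈ asGr 𝒯 g →
      (LinearMap.lsmul T P).flip x h ∈ 𝒬 (g + e) := by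
    intro e g x h hx hh
    rw [LinearMap.flip_apply, LinearMap.lsmul_apply]
    have := SetLike.GradedSMul.smul_mem (A := asGr 𝒯) (B := 𝒬) hh hx
    rwa [vadd_eq_add] at this
  have hb : Function.Bijective (TensorProduct.lift (LinearMap.lsmul T P).flip) := by
    have : TensorProduct.lift (LinearMap.lsmul T P).flip = (TensorProduct.rid T P).toLinearMap :=
      TensorProduct.ext' (fun p t => by simp)
    rw [this]
    exact (TensorProduct.rid T P).bijective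
  obtain ⟨ε, hε⟩ := Groth.Agent.Lib.Helper20.GrW.duality (asGr 𝒯) (asGr 𝒯) 𝓔T
    (canPair (LinearMap.ringLmapEquivSelf T T ET) τ) hK 𝒬 𝒬
    ((resToAS IT).Hgr (idealToAS 𝒯 mT) (n + 1)) (pairP ψ φ βR βS Φ) hD
    (LinearMap.lsmul T P).flip hμ hb
  have hsymm := symm_isGrHom (asGr 𝒯) 𝒬 𝓔T ((resToAS IT).Hgr (idealToAS 𝒯 mT) (n + 1)) ε hε
  exact ⟨hfP, ε.symm, fun d f hf => hsymm d f hf⟩

end Groth.Agent.Lib.Helper20.GDual
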