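import Mathlib
import Groth.Prelude.Def_GrLC
import Groth.Agent.Lib.Helper20.GrCanW1
import Groth.Agent.Lib.Helper20.GrCanW2
import Groth.Agent.Lib.Helper20.GorGr6
import Groth.Agent.Lib.Helper5.LciE
import Groth.Agent.Lib.Helper5.GorFibreE
import Groth.Agent.S0341

/-!
# S18651: the canonical module of a weighted polynomial ring
-/

set_option autoImplicit false
set_option linter.unusedSectionVars false
set_option linter.unusedVariables false
set_option linter.style.haveILetI false

namespace Groth.Agent.Lib.Helper20.GrCanW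

open DirectSum Groth.Agent.Lib.Helper26.GrProj Groth.Agent.Lib.Helper20.GrKit
  Groth.Agent.Lib.Helper20.GrLES Groth.Agent.Lib.Helper20.GrConv MvPolynomial

attribute [local instance] MvPolynomial.weightedGradedAlgebra

universe u

variable {k : Type u} [Field k] {N : ℕ} (w : Fin N → ℤ) (hw : ∀ i, 0 < w i)

include hw in
theorem weight_nonneg (d : Fin N →₀ ℕ) : 0 ≤ Finsupp.weight w d := by
  rw [Finsupp.weight_apply]
  apply Finset.sum_nonneg
  intro i _
  exact smul_nonneg (Nat.zero_le _) (hw i).le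

include hw in
theorem weight_eq_zero (d : Fin N →₀ ℕ) (h : Finsupp.weight w d = 0) : d = 0 := by
  by_contra hd
  obtain ⟨i, hi⟩ : ∃ i, d i ≠ 0 := by
    by_contra hcon
    push Not at hcon
    exact hd (Finsupp.ext hcon)
  have hi' : i ∈ d.support := Finsupp.mem_support_iff.2 hi
  rw [Finsupp.weight_apply, Finsupp.sum] at h
  have hpos : 0 < ∑ j ∈ d.support, d j • w j := by
    apply Finset.sum_pos' (fun j _ => smul_nonneg (Nat.zero_le _) (hw j).le)
    refine ⟨i, hi', ?_⟩
    rw [nsmul_eq_mul]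
    have : (0 : ℤ) < (d i : ℤ) := by exact_mod_cast Nat.pos_of_ne_zero hi
    exact mul_pos this (hw i)
  omega

include hw in
theorem asGr_weighted_neg (n : ℤ) (hn : n < 0) :
    asGr (weightedHomogeneousSubmodule k w) n = ⊥ := by
  rw [eq_bot_iff]
  intro p hp
  rw [AddSubgroup.mem_bot]
  have hp' : IsWeightedHomogeneous w p n := hp
  ext d
  rw [coeff_zero]
  by_contra hne
  have := hp' hne
  have := weight_nonneg w hw d
  omega

include hw in
theorem eq_C_of_mem_zero (p : MvPolynomial (Fin N) k)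
    (hp : p ∈ weightedHomogeneousSubmodule k w 0) : p = C (coeff 0 p) := by
  have hp' : IsWeightedHomogeneous w p 0 := hp
  ext d
  rw [coeff_C]
  by_cases hd : 0 = d
  · rw [if_pos hd, hd]
  · rw [if_neg hd]
    by_contra hne
    exact hd (weight_eq_zero w hw d (hp' hne)).symm

include hw in
theorem isField_deg0 : IsField (GrLC.deg0 (asGr (weightedHomogeneousSubmodule k w))) := by
  refine ⟨⟨0, 1, ?_⟩, mul_comm, ?_⟩
  · intro h
    have := congrArg Subtype.val h
    exact zero_ne_one this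
  · intro a ha
    have ha' : (a : MvPolynomial (Fin N) k) ∈ weightedHomogeneousSubmodule k w 0 := a.2
    have hC := eq_C_of_mem_zero w hw _ ha'
    have hc : coeff 0 (a : MvPolynomial (Fin N) k) ≠ 0 := by
      intro h0
      apply ha
      apply Subtype.ext
      rw [hC, h0, C_0]
      rfl
    refine ⟨⟨C (coeff 0 (a : MvPolynomial (Fin N) k))⁻¹, ?_⟩, ?_⟩
    · change C (coeff 0 (a : MvPolynomial (Fin N) k))⁻¹ ∈ weightedHomogeneousSubmodule k w 0
      exact isWeightedHomogeneous_C w _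
    · apply Subtype.ext
      change (a : MvPolynomial (Fin N) k) * C (coeff 0 (a : MvPolynomial (Fin N) k))⁻¹ = 1
      conv_lhs => rw [hC]
      rw [coeff_C, if_pos rfl, ← C_mul, mul_inv_cancel₀ hc, C_1]

theorem span_pos_le (hw : ∀ i, 0 < w i) :
    Ideal.span (⋃ n ∈ Set.Ioi (0 : ℤ),
      (weightedHomogeneousSubmodule k w n : Set (MvPolynomial (Fin N) k))) =
      Ideal.span (Set.range fun i : Fin N => (X i : MvPolynomial (Fin N) k)) := by
  apply le_antisymm
  · rw [Ideal.span_le]
    intro p hp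
    simp only [Set.mem_iUnion, Set.mem_Ioi, SetLike.mem_coe, exists_prop] at hp
    obtain ⟨n, hn, hpn⟩ := hp
    have hp' : IsWeightedHomogeneous w p n := hpn
    have : (Set.range fun i : Fin N => (X i : MvPolynomial (Fin N) k)) =
        X '' (Set.univ : Set (Fin N)) := by
      rw [Set.image_univ]
    rw [SetLike.mem_coe, this, mem_ideal_span_X_image]
    intro d hd
    have hcoeff : coeff d p ≠ 0 := mem_support_iff.1 hd
    have hwd := hp' hcoeff
    by_contra hcon
    push Not at hcon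
    have hd0 : d = 0 := Finsupp.ext (fun i => hcon i (Set.mem_univ i))
    rw [hd0, map_zero] at hwd
    omega
  · rw [Ideal.span_le]
    rintro _ ⟨i, rfl⟩
    apply Ideal.subset_span
    simp only [Set.mem_iUnion, Set.mem_Ioi, SetLike.mem_coe, exists_prop]
    exact ⟨w i, hw i, isWeightedHomogeneous_X k w i⟩

theorem coe_add_eq_zero (x : WithBot (WithTop ℤ)) (c : ℤ)
    (h : x + ((c : WithTop ℤ) : WithBot (WithTop ℤ)) = ((0 : ℤ) : WithTop ℤ)) :
    x = (((-c : ℤ) : WithTop ℤ) : WithBot (WithTop ℤ)) := by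
  induction x using WithBot.recBotCoe with
  | bot => simp at h
  | coe x =>
    induction x using WithTop.recTopCoe with
    | top =>
      exfalso
      rw [← WithBot.coe_add, WithTop.top_add] at h
      have := WithBot.coe_injective h
      exact WithTop.top_ne_coe this
    | coe x =>
      rw [← WithBot.coe_add, ← WithTop.coe_add] at h
      have h1 : x + c = 0 := WithTop.coe_injective (WithBot.coe_injective h)
      have : x = -c := by omega
      rw [this]

include hw in
theorem s18651 (m : HomogeneousIdeal (weightedHomogeneousSubmodule k w))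
    (hm : GrLC.IsStarLocal (weightedHomogeneousSubmodule k w) m)
    (hmsp : m.toIdeal = Ideal.span (⋃ n ∈ Set.Ioi (0 : ℤ),
      (weightedHomogeneousSubmodule k w n : Set (MvPolynomial (Fin N) k))))
    (I : GrLC.StarInjRes (weightedHomogeneousSubmodule k w) (weightedHomogeneousSubmodule k w))
    (E' : Type u) [AddCommGroup E'] [Module (MvPolynomial (Fin N) k) E'] (𝓔 : ℤ → AddSubgroup E')
    [DirectSum.Decomposition 𝓔] [SetLike.GradedSMul (weightedHomogeneousSubmodule k w) 𝓔]
    (e : (MvPolynomial (Fin N) k ⧸ m.toIdeal) →ₗ[MvPolynomial (Fin N) k] E')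
    (he : GrLC.IsStarInjHull (weightedHomogeneousSubmodule k w)
      (GrLC.quotGr (weightedHomogeneousSubmodule k w) m) 𝓔 e)
    (C : Type u) [AddCommGroup C] [Module (MvPolynomial (Fin N) k) C] (𝒞 : ℤ → AddSubgroup C)
    [DirectSum.Decomposition 𝒞] [SetLike.GradedSMul (weightedHomogeneousSubmodule k w) 𝒞]
    (hC : GrLC.IsStarCanonical (weightedHomogeneousSubmodule k w) 𝒞 𝓔 m N I) :
    ∃ f : MvPolynomial (Fin N) k →ₗ[MvPolynomial (Fin N) k] C, Function.Bijective f ∧
      GrLC.IsGrHomDeg (weightedHomogeneousSubmodule k w) 𝒞 f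
        ((Finset.univ : Finset (Fin N)).sum w) := by
  classical
  set 𝒲 := weightedHomogeneousSubmodule k w with h𝒲
  set 𝒜' := asGr 𝒲 with h𝒜'
  set m' := idealToAS 𝒲 m with hm'def
  haveI : SetLike.GradedSMul 𝒜' 𝓔 :=
    ⟨fun {i j} {r x} hr hx => SetLike.GradedSMul.smul_mem (A := 𝒲) (B := 𝓔) hr hx⟩
  haveI : SetLike.GradedSMul 𝒜' 𝒞 :=
    ⟨fun {i j} {r x} hr hx => SetLike.GradedSMul.smul_mem (A := 𝒲) (B := 𝒞) hr hx⟩
  have hpos : ∀ n : ℤ, n < 0 → 𝒜' n = ⊥ := asGr_weighted_neg w hw
  have h0 : IsField (GrLC.deg0 𝒜') := isField_deg0 w hw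
  have hm' : GrLC.IsStarLocal 𝒜' m' := isStarLocal_toAS 𝒲 m hm
  have hmsp' : m'.toIdeal = Ideal.span (⋃ n ∈ Set.Ioi (0 : ℤ),
      (𝒜' n : Set (MvPolynomial (Fin N) k))) := hmsp
  have hmX : m'.toIdeal = Ideal.span (Set.range fun i : Fin N =>
      (X i : MvPolynomial (Fin N) k)) := by
    rw [hmsp']
    exact span_pos_le w hw
  have hmne : m'.toIdeal ≠ ⊤ := by
    intro h
    apply hm'.1.1
    apply HomogeneousIdeal.toIdeal_injective
    rw [h, HomogeneousIdeal.toIdeal_top]
  -- ring-theoretic instances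
  haveI hreg : IsRegularRing (MvPolynomial (Fin N) k) := inferInstance
  haveI hG : LocCoh.IsGorensteinRing (MvPolynomial (Fin N) k) :=
    Groth.Agent.Lib.Helper5.GorFibre.isGorensteinRing_of_isRegularRing _
  haveI hCM : LocCoh.IsCohenMacaulayRing (MvPolynomial (Fin N) k) :=
    { isCohenMacaulayLocalRing_localization := fun q _ => by
        haveI : LocCoh.IsGorensteinLocalRing (Localization.AtPrime q) :=
          LocCoh.IsGorensteinRing.isGorensteinLocalRing_localization q
        exact Groth.Agent.S0341.result (Localization.AtPrime q) }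
  have hn : ringKrullDim (MvPolynomial (Fin N) k) = N := by
    rw [MvPolynomial.ringKrullDim_of_isNoetherianRing, ringKrullDim_eq_zero_of_field, zero_add]
    simp
  set I' := resToAS I with hI'
  have he' := isStarInjHull_toAS 𝒲 m 𝓔 e he
  have hC' := isStarCanonical_toAS 𝒲 m 𝓔 𝒞 N I hC
  obtain ⟨a, f, hf, hfa⟩ :=
    (Groth.Agent.Lib.Helper20.GorGr.main 𝒜' hpos h0 m' hm' hmsp' N hn I' 𝓔 e he' 𝒞 hC').1 hG
  -- the a-invariant
  let J : Submodule (MvPolynomial (Fin N) k) (MvPolynomial (Fin N) k) :=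
    Ideal.span (Set.range fun i : Fin N => (X i : MvPolynomial (Fin N) k))
  have hJ : ∀ g y, y ∈ J → proj 𝒜' g y ∈ J := by
    intro g y hy
    have hy' : y ∈ m'.toIdeal := by rw [hmX]; exact hy
    have := m'.isHomogeneous g hy'
    rw [hmX] at this
    exact this
  letI : DirectSum.Decomposition (quoGr 𝒜' J) := quoDecomposition 𝒜' J hJ
  obtain ⟨F⟩ := nonempty_starInjRes 𝒜' (quoGr 𝒜' J)
  have hXdeg : ∀ i : Fin N, (X i : MvPolynomial (Fin N) k) ∈ 𝒜' (w i) :=
    fun i => isWeightedHomogeneous_X k w i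
  have hXm : ∀ i : Fin N, (X i : MvPolynomial (Fin N) k) ∈ m'.toIdeal := by
    intro i
    rw [hmX]
    exact Ideal.subset_span ⟨i, rfl⟩
  have hregX : RingTheory.Sequence.IsRegular (MvPolynomial (Fin N) k)
      (List.ofFn fun i : Fin N => (X i : MvPolynomial (Fin N) k)) := by
    refine ⟨Groth.Agent.Lib.Helper5.Lci.isWeaklyRegular_X N, ?_⟩
    rw [ofList_ofFn', Ideal.smul_eq_mul, Ideal.mul_top, ← hmX]
    exact fun h => hmne h.symm
  have hchain := s18645 𝒜' hpos m' hm' N hn I' N le_rfl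
    (fun i : Fin N => (X i : MvPolynomial (Fin N) k)) w hXdeg hXm hregX
    (MvPolynomial (Fin N) k ⧸ J) (quoGr 𝒜' J) J.mkQ (mkQ_isGrHom 𝒜' J) J.mkQ_surjective
    (Submodule.ker_mkQ J) F
  rw [Nat.sub_self] at hchain
  -- `H^0` of the residue field
  have htors : ∀ x : MvPolynomial (Fin N) k ⧸ J,
      x ∈ GrLC.gam m'.toIdeal (MvPolynomial (Fin N) k ⧸ J) := by
    intro x
    obtain ⟨y, rfl⟩ := J.mkQ_surjective x
    refine ⟨1, fun r hr => ?_⟩
    rw [pow_one, hmX] at hr
    rw [← map_smul, Submodule.mkQ_apply, Submodule.Quotient.mk_eq_zero, smul_eq_mul]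
    exact Ideal.mul_mem_right _ _ hr
  have hend0 : GrLC.endDeg (quoGr 𝒜' J) = (((0 : ℤ) : WithTop ℤ) : WithBot (WithTop ℤ)) := by
    apply le_antisymm
    · rw [endDeg_le_iff]
      intro g hg
      rw [WithBot.coe_le_coe, WithTop.coe_le_coe]
      by_contra hpos'
      apply hg
      rw [eq_bot_iff]
      rintro _ ⟨x, hx, rfl⟩
      rw [AddSubgroup.mem_bot]
      have hxm : x ∈ m'.toIdeal := by
        rw [hmsp']
        apply Ideal.subset_span
        simp only [Set.mem_iUnion, Set.mem_Ioi, SetLike.mem_coe, exists_prop]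
        exact ⟨g, by omega, hx⟩
      rw [hmX] at hxm
      exact (Submodule.Quotient.mk_eq_zero J).2 hxm
    · apply le_endDeg
      intro hbot
      have h1 : J.mkQ (1 : MvPolynomial (Fin N) k) ∈ quoGr 𝒜' J 0 :=
        ⟨1, SetLike.GradedOne.one_mem, rfl⟩
      rw [hbot, AddSubgroup.mem_bot, Submodule.mkQ_apply, Submodule.Quotient.mk_eq_zero] at h1
      apply hmne
      rw [hmX]
      exact (Ideal.eq_top_iff_one _).2 h1
  have hendF : GrLC.endDeg (F.Hgr m' 0) = (((0 : ℤ) : WithTop ℤ) : WithBot (WithTop ℤ)) := by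
    rw [← hend0]
    exact endDeg_congr _ _ (fun g => Hgr_zero_eq_bot_iff F m' htors g)
  rw [hendF] at hchain
  have hs := coe_add_eq_zero _ _ hchain.symm
  have ha := shift_eq 𝒜' hpos m' hm' N I' 𝓔 e he' 𝒞 a f hf hfa hC' _ hs
  rw [neg_neg] at ha
  refine ⟨f, hf, ?_⟩
  rw [← ha]
  exact fun g r hr => hfa g r hr

end Groth.Agent.Lib.Helper20.GrCanW
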