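import Mathlib
import Groth.Agent.Lib.Helper20.GorTop4
import Groth.Agent.Lib.Helper20.GrKit5
import Groth.Agent.Lib.Helper2.LCEW
import Groth.Agent.S0325
import Groth.Agent.S0323

/-!
# The top local cohomology `H = H^r_m(R)` satisfies `H = mH` (for `r = dim R ≥ 1`);
consequences for its graded pieces when `m` is generated in degree one
-/

set_option autoImplicit false
set_option linter.unusedSectionVars false
set_option linter.unusedVariables false
set_option linter.style.haveILetI false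

namespace Groth.Agent.Lib.Helper20.TopLCGen

open Groth.Agent.Lib.Helper20.GrKit DirectSum Groth.Agent.Lib.Helper26.GrProj TensorProduct

universe u

section Ungraded

variable {R : Type u} [CommRing R] [IsNoetherianRing R]

/-- `R/a` is `a`-power torsion -/
theorem isPowerTorsion_quotient (a : Ideal R) : LocCoh.IsPowerTorsion a (R ⧸ a) := by
  intro x
  refine ⟨1, fun r hr => ?_⟩
  rw [pow_one] at hr
  obtain ⟨y, rfl⟩ := Ideal.Quotient.mk_surjective x
  change r • (Ideal.Quotient.mk a y) = 0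
  rw [Algebra.smul_def, Ideal.Quotient.algebraMap_eq, ← map_mul, Ideal.Quotient.eq_zero_iff_mem]
  exact Ideal.mul_mem_right _ _ hr

/-- top local cohomology is divisible by the ideal -/
theorem smul_top_H_eq_top (a : Ideal R) (r : ℕ) (hr : ringKrullDim R ≤ r) (h1 : 1 ≤ r) :
    (a • ⊤ : Submodule R (LocCoh.H a r R)) = ⊤ := by
  have hcd : LocCoh.CdLE R a r := Groth.Agent.S0325.result R a r hr
  have hcd' : Groth.Agent.Lib.Helper2.LCInj3.Cd a r := fun N i hi => hcd N i hi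
  have hbij := Groth.Agent.Lib.Helper2.LCEW.lc_tM_bijective a r hcd' (ModuleCat.of R (R ⧸ a))
  let e1 : TensorProduct R (LocCoh.H a r R) (R ⧸ a) ≃ₗ[R] LocCoh.H a r (R ⧸ a) :=
    LinearEquiv.ofBijective _ hbij
  haveI hss : Subsingleton (LocCoh.H a r (R ⧸ a)) :=
    (Groth.Agent.S0323.result R a (R ⧸ a) (isPowerTorsion_quotient a)).2 r (by omega)
  haveI : Subsingleton (TensorProduct R (LocCoh.H a r R) (R ⧸ a)) := e1.toEquiv.subsingleton
  have e2 := TensorProduct.tensorQuotEquivQuotSMul (LocCoh.H a r R) a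
  haveI : Subsingleton (LocCoh.H a r R ⧸ (a • ⊤ : Submodule R (LocCoh.H a r R))) :=
    e2.symm.toEquiv.subsingleton
  exact Submodule.Quotient.subsingleton_iff.1 inferInstance

theorem smul_top_eq_top_of_equiv (a : Ideal R) {X Y : Type u} [AddCommGroup X] [Module R X]
    [AddCommGroup Y] [Module R Y] (e : X ≃ₗ[R] Y) (h : (a • ⊤ : Submodule R Y) = ⊤) :
    (a • ⊤ : Submodule R X) = ⊤ := by
  have h1 : (a • (⊤ : Submodule R Y)).map e.symm.toLinearMap = a • (⊤ : Submodule R Y).map e.symm.toLinearMap :=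
    Submodule.map_smul'' _ _ _
  rw [h, Submodule.map_top, LinearEquiv.range] at h1
  exact h1.symm

end Ungraded

section Graded

variable {R : Type u} [CommRing R] (𝒜 : ℤ → AddSubgroup R) [GradedRing 𝒜]
  {N : Type u} [AddCommGroup N] [Module R N] (𝒩 : ℤ → AddSubgroup N)
  [DirectSum.Decomposition 𝒩] [SetLike.GradedSMul 𝒜 𝒩]

/-- if `N = R_1 N` and `N_{j-1} = 0` then `N_j = 0` -/
theorem piece_eq_bot_of_pred (hN : (Ideal.span ((𝒜 1 : AddSubgroup R) : Set R) • ⊤ : Submodule R N) = ⊤)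
    (j : ℤ) (hj : 𝒩 (j - 1) = ⊥) : 𝒩 j = ⊥ := by
  have key : ∀ x ∈ (Ideal.span ((𝒜 1 : AddSubgroup R) : Set R) • ⊤ : Submodule R N),
      proj 𝒩 j x = 0 := by
    intro x hx
    refine Submodule.smul_induction_on hx ?_ ?_
    · intro r hr y _
      revert y
      suffices hs : ∀ y : N, proj 𝒩 j (r • y) = 0 from fun y _ => hs y
      refine Submodule.span_induction (p := fun r _ => ∀ y : N, proj 𝒩 j (r • y) = 0)
        ?_ ?_ ?_ ?_ hr
      · intro s hs y
        rw [proj_smul_of_mem 𝒜 𝒩 (show s ∈ 𝒜 1 from hs) j y]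
        have h2 : proj 𝒩 (j - 1) y ∈ 𝒩 (j - 1) := proj_mem 𝒩 _ _
        rw [hj, AddSubgroup.mem_bot] at h2
        rw [h2, smul_zero]
      · intro y
        rw [zero_smul, proj_zero]
      · intro r₁ r₂ _ _ h₁ h₂ y
        rw [add_smul, proj_add, h₁ y, h₂ y, add_zero]
      · intro c r₁ _ h₁ y
        rw [smul_eq_mul, mul_comm, mul_smul]
        exact h₁ (c • y)
    · intro y₁ y₂ h₁ h₂
      rw [proj_add, h₁, h₂, add_zero]
  rw [eq_bot_iff]
  intro x hx
  rw [AddSubgroup.mem_bot, ← proj_of_mem_same 𝒩 hx]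
  exact key x (by rw [hN]; trivial)

/-- if `N = R_1 N` and `N_n = 0` then `N_j = 0` for all `j ≥ n` -/
theorem piece_eq_bot_of_le (hN : (Ideal.span ((𝒜 1 : AddSubgroup R) : Set R) • ⊤ : Submodule R N) = ⊤)
    (n : ℤ) (hn : 𝒩 n = ⊥) (k : ℕ) : 𝒩 (n + k) = ⊥ := by
  induction k with
  | zero => simpa using hn
  | succ k ih =>
    apply piece_eq_bot_of_pred 𝒜 𝒩 hN
    have : n + ((k + 1 : ℕ) : ℤ) - 1 = n + (k : ℤ) := by push_cast; ring
    rw [this]
    exact ih

theorem endDeg_lt_of_piece_eq_bot (n : ℤ) (h : ∀ j : ℤ, n ≤ j → 𝒩 j = ⊥) :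
    GrLC.endDeg 𝒩 < (((n : ℤ) : WithTop ℤ) : WithBot (WithTop ℤ)) := by
  have h1 : GrLC.endDeg 𝒩 ≤ ((((n - 1 : ℤ)) : WithTop ℤ) : WithBot (WithTop ℤ)) := by
    unfold GrLC.endDeg
    refine iSup₂_le fun j hj => ?_
    have hjn : j < n := by
      by_contra hcon
      exact hj (h j (not_lt.1 hcon))
    have : j ≤ n - 1 := by omega
    exact_mod_cast this
  refine lt_of_le_of_lt h1 ?_
  have : n - 1 < n := by omega
  exact_mod_cast this

end Graded

section Main

variable {R : Type u} [CommRing R] [IsNoetherianRing R] (𝒜 : ℤ → AddSubgroup R) [GradedRing 𝒜]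
  (m : HomogeneousIdeal 𝒜)
  (hstd : m.toIdeal = Ideal.span ((𝒜 1 : AddSubgroup R) : Set R))
  (r : ℕ) (hr : ringKrullDim R = r) (h1 : 1 ≤ r) (I : GrLC.StarInjRes 𝒜 𝒜)

include hstd hr h1 in
theorem Hcomp_ne_bot (a : ℤ)
    (ha : GrLC.endDeg (I.Hgr m r) = ((a : WithTop ℤ) : WithBot (WithTop ℤ))) (n : ℤ) (hn : n ≤ a) :
    I.Hcomp m r n ≠ ⊥ := by
  intro hbot
  have hgr : I.Hgr m r n = ⊥ := by
    change (I.Hcomp m r n).toAddSubgroup = ⊥
    rw [hbot]
    exact Submodule.bot_toAddSubgroup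
  obtain ⟨β⟩ := bridge_starInjRes I m r
  have hdiv : (m.toIdeal • ⊤ : Submodule R (I.H m r)) = ⊤ :=
    smul_top_eq_top_of_equiv m.toIdeal β (smul_top_H_eq_top m.toIdeal r hr.le h1)
  rw [hstd] at hdiv
  letI := Groth.Agent.Lib.Helper20.GorTop.HgrDecomposition 𝒜 𝒜 I m r
  have hall : ∀ j : ℤ, n ≤ j → I.Hgr m r j = ⊥ := by
    intro j hj
    obtain ⟨k, rfl⟩ : ∃ k : ℕ, j = n + k := ⟨(j - n).toNat, by omega⟩
    exact piece_eq_bot_of_le 𝒜 (I.Hgr m r) hdiv n hgr k
  have hlt := endDeg_lt_of_piece_eq_bot (I.Hgr m r) n hall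
  rw [ha] at hlt
  have : a < n := by exact_mod_cast hlt
  omega

end Main

end Groth.Agent.Lib.Helper20.TopLCGen
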