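import Mathlib
import Groth.Agent.Lib.Helper20.SegCM6
import Groth.Agent.Lib.Helper20.SegShift
import Groth.Agent.Lib.Helper20.GrLES10
import Groth.Agent.Lib.Helper20.TopLCGen

/-!
# Standard graded rings: non-vanishing of the pieces, and the a-invariant form of the criterion
-/

set_option autoImplicit false
set_option linter.unusedSectionVars false
set_option linter.unusedVariables false
set_option linter.style.haveILetI false

universe u

open TensorProduct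

namespace Groth.Agent.Lib.Helper20.SegCM

open Groth.Agent.Lib.Helper20.SegQuot Groth.Agent.Lib.Helper20.SegUnmixed

section Std

variable {k : Type u} [Field k] {R : Type u} [CommRing R] [Algebra k R]
  (𝒜 : ℤ → Submodule k R) [GradedAlgebra 𝒜] (hposR : ∀ n : ℤ, n < 0 → 𝒜 n = ⊥)
  (h0R : 𝒜 0 = Submodule.span k {(1 : R)})
  (hstd : Ideal.span (⋃ n ∈ Set.Ioi (0 : ℤ), (𝒜 n : Set R)) =
    Ideal.span ((𝒜 1 : Submodule k R) : Set R))

include hstd in
theorem piece_eq_bot_succ {n : ℤ} (hn : 0 ≤ n) (h : 𝒜 n = ⊥) : 𝒜 (n + 1) = ⊥ := by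
  rw [Submodule.eq_bot_iff]
  intro x hx
  obtain ⟨t, c, -, hc, rfl⟩ := Groth.Agent.Lib.Helper20.SegShift.exists_sum_mul_of_std 𝒜 hstd
    (show 0 < n + 1 by omega) hx
  refine Finset.sum_eq_zero fun u _ => ?_
  have hcu : c u ∈ 𝒜 n := by
    have := hc u
    rwa [add_sub_cancel_right] at this
  rw [h, Submodule.mem_bot] at hcu
  rw [hcu, zero_mul]

include hstd in
theorem piece_eq_bot_add {n : ℤ} (hn : 0 ≤ n) (h : 𝒜 n = ⊥) (j : ℕ) : 𝒜 (n + j) = ⊥ := by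
  induction j with
  | zero => simpa using h
  | succ j ih =>
    have : n + ((j + 1 : ℕ) : ℤ) = (n + j) + 1 := by push_cast; ring
    rw [this]
    exact piece_eq_bot_succ 𝒜 hstd (by omega) ih

include hposR h0R hstd in
/-- in a standard graded ring of positive dimension no piece of nonnegative degree vanishes -/
theorem piece_ne_bot [Nontrivial R] (h1 : 1 ≤ ringKrullDim R) {n : ℤ} (hn : 0 ≤ n) :
    𝒜 n ≠ ⊥ := by
  intro h
  haveI hmax : (irrIdeal 𝒜).IsMaximal := isMaximal_irrIdeal 𝒜 hposR h0R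
  have hnil : ∀ d : ℤ, 0 < d → ∀ x ∈ 𝒜 d, IsNilpotent x := by
    intro d hd x hx
    refine ⟨n.toNat + 1, ?_⟩
    have h2 : x ^ (n.toNat + 1) ∈ 𝒜 ((n.toNat + 1) • d) := SetLike.pow_mem_graded _ hx
    obtain ⟨j, hj⟩ : ∃ j : ℕ, (n.toNat + 1) • d = n + j := by
      refine ⟨((n.toNat + 1) • d - n).toNat, ?_⟩
      have h3 : (n.toNat : ℤ) = n := Int.toNat_of_nonneg hn
      have h4 : (n.toNat + 1) • d = ((n.toNat : ℤ) + 1) * d := by
        rw [nsmul_eq_mul]; push_cast; ring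
      have h5 : n ≤ (n.toNat + 1) • d := by
        rw [h4, h3]
        nlinarith
      omega
    rw [hj, piece_eq_bot_add 𝒜 hstd hn h j, Submodule.mem_bot] at h2
    exact h2
  have hall : ∀ I : Ideal R, I.IsPrime → I.IsMaximal := by
    intro I hI
    have hle : irrIdeal 𝒜 ≤ I := by
      unfold irrIdeal
      rw [Ideal.span_le]
      intro x hx
      simp only [Set.mem_iUnion, Set.mem_Ioi, SetLike.mem_coe] at hx
      obtain ⟨d, hd, hxd⟩ := hx
      obtain ⟨e, he⟩ := hnil d hd x hxd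
      exact hI.mem_of_pow_mem e (by rw [he]; exact zero_mem _)
    rw [← hmax.eq_of_le hI.ne_top hle]
    exact hmax
  haveI := Ring.KrullDimLE.mk₀ hall
  have h2 : ringKrullDim R ≤ 0 := by
    have := (Ring.krullDimLE_iff (n := 0) (R := R)).1 inferInstance
    exact_mod_cast this
  have h3 : (1 : WithBot ℕ∞) ≤ 0 := h1.trans h2
  exact absurd h3 (by decide)

end Std

section EndDeg

theorem endDeg_lt_zero_iff {N : Type u} [AddCommGroup N] (𝒩 : ℤ → AddSubgroup N) :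
    GrLC.endDeg 𝒩 < 0 ↔ ∀ j : ℤ, 0 ≤ j → 𝒩 j = ⊥ := by
  have h0 : (0 : WithBot (WithTop ℤ)) = (((0 : ℤ) : WithTop ℤ) : WithBot (WithTop ℤ)) := rfl
  constructor
  · intro h j hj
    apply Groth.Agent.Lib.Helper20.GrLES.piece_eq_bot_of_endDeg_lt 𝒩 j
    refine lt_of_lt_of_le h ?_
    rw [h0]
    exact_mod_cast hj
  · intro h
    have h1 : GrLC.endDeg 𝒩 ≤ ((((-1 : ℤ)) : WithTop ℤ) : WithBot (WithTop ℤ)) := by
      unfold GrLC.endDeg
      refine iSup₂_le fun j hj => ?_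
      have hjn : j < 0 := by
        by_contra hcon
        exact hj (h j (not_lt.1 hcon))
      have : j ≤ -1 := by omega
      exact_mod_cast this
    refine lt_of_le_of_lt h1 ?_
    rw [h0]
    have : (-1 : ℤ) < 0 := by omega
    exact_mod_cast this

end EndDeg

section AInv

variable (k : Type u) [Field k] (R : Type u) [CommRing R] [Algebra k R]
  (𝒜 : ℤ → Submodule k R) [GradedAlgebra 𝒜] (hposR : ∀ n : ℤ, n < 0 → 𝒜 n = ⊥)
  (h0R : 𝒜 0 = Submodule.span k {(1 : R)}) [Algebra.FiniteType k R]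
  (S : Type u) [CommRing S] [Algebra k S]
  (ℬ : ℤ → Submodule k S) [GradedAlgebra ℬ] (hposS : ∀ n : ℤ, n < 0 → ℬ n = ⊥)
  (h0S : ℬ 0 = Submodule.span k {(1 : S)}) [Algebra.FiniteType k S]
  (T : Type u) [CommRing T] [Algebra k T] (𝒯 : ℤ → Submodule k T) [GradedAlgebra 𝒯]
  (ψ : T →ₐ[k] R ⊗[k] S) (hψ : Function.Injective ψ)
  (hdegT : ∀ n : ℤ, (𝒯 n).map ψ.toLinearMap =
    Submodule.span k {x : R ⊗[k] S | ∃ a ∈ 𝒜 n, ∃ b ∈ ℬ n, x = a ⊗ₜ[k] b})
  [LocCoh.IsCohenMacaulayRing R] [LocCoh.IsCohenMacaulayRing S]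
  (mR : HomogeneousIdeal 𝒜)
  (hmR : mR.toIdeal = Ideal.span (⋃ n ∈ Set.Ioi (0 : ℤ), (𝒜 n : Set R)))
  (hstdR : Ideal.span (⋃ n ∈ Set.Ioi (0 : ℤ), (𝒜 n : Set R)) =
    Ideal.span ((𝒜 1 : Submodule k R) : Set R))
  (I : GrLC.StarInjRes 𝒜 𝒜)
  (mS : HomogeneousIdeal ℬ)
  (hmS : mS.toIdeal = Ideal.span (⋃ n ∈ Set.Ioi (0 : ℤ), (ℬ n : Set S)))
  (hstdS : Ideal.span (⋃ n ∈ Set.Ioi (0 : ℤ), (ℬ n : Set S)) =
    Ideal.span ((ℬ 1 : Submodule k S) : Set S))
  (J : GrLC.StarInjRes ℬ ℬ)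

theorem Hgr_eq_bot_iff (a : HomogeneousIdeal 𝒜) (i : ℕ) (n : ℤ) :
    I.Hgr a i n = ⊥ ↔ I.Hcomp a i n = ⊥ := by
  rw [AddSubgroup.eq_bot_iff_forall, Submodule.eq_bot_iff]
  rfl

include hposR h0R hposS h0S hψ hdegT hmR hmS hstdR hstdS in
theorem cm_segreRing_iff_aInv (r s : ℕ) (hr : ringKrullDim R = r) (hs : ringKrullDim S = s)
    (h2r : 2 ≤ r) (h2s : 2 ≤ s) :
    LocCoh.IsCohenMacaulayRing T ↔
      GrLC.endDeg (I.Hgr mR r) < 0 ∧ GrLC.endDeg (J.Hgr mS s) < 0 := by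
  haveI : Nontrivial R := nontrivial_of_dim r hr
  haveI : Nontrivial S := nontrivial_of_dim s hs
  have h1R : 1 ≤ ringKrullDim R := by
    rw [hr]
    exact_mod_cast (by omega : 1 ≤ r)
  have h1S : 1 ≤ ringKrullDim S := by
    rw [hs]
    exact_mod_cast (by omega : 1 ≤ s)
  rw [cm_segreRing_iff_A k R 𝒜 hposR h0R S ℬ hposS h0S T 𝒯 ψ hψ hdegT mR hmR I mS hmS J r s hr hs
    h2r h2s, endDeg_lt_zero_iff, endDeg_lt_zero_iff, and_comm]
  constructor
  · rintro ⟨h1, h2⟩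
    refine ⟨fun j hj => ?_, fun j hj => ?_⟩
    · rw [Hgr_eq_bot_iff]
      exact (h1 j).resolve_right (piece_ne_bot ℬ hposS h0S hstdS h1S hj)
    · rw [Hgr_eq_bot_iff]
      exact (h2 j).resolve_left (piece_ne_bot 𝒜 hposR h0R hstdR h1R hj)
  · rintro ⟨h1, h2⟩
    refine ⟨fun n => ?_, fun n => ?_⟩
    · by_cases hn : 0 ≤ n
      · left
        rw [← Hgr_eq_bot_iff]
        exact h1 n hn
      · right
        exact hposS n (not_le.1 hn)
    · by_cases hn : 0 ≤ n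
      · right
        rw [← Hgr_eq_bot_iff]
        exact h2 n hn
      · left
        exact hposR n (not_le.1 hn)

end AInv

end Groth.Agent.Lib.Helper20.SegCM
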