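import Mathlib
import Groth.Agent.Lib.Helper20.GrLES15
import Groth.Agent.Lib.Helper20.GrCanW1
import Groth.Agent.Lib.Helper20.GrKit10
import Groth.Agent.Lib.Helper20.GrLES10

/-!
# One dimensional graded Cohen–Macaulay rings: the a-invariant and a homogeneous regular parameter
-/

set_option autoImplicit false
set_option linter.unusedSectionVars false
set_option linter.unusedVariables false
set_option linter.style.haveILetI false

namespace Groth.Agent.Lib.Helper20.StdOne

open DirectSum Groth.Agent.Lib.Helper26.GrProj Groth.Agent.Lib.Helper20.GrKit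
  Groth.Agent.Lib.Helper20.GrLES Groth.Agent.Lib.Helper20.GrCanW

universe u

variable {R : Type u} [CommRing R] [LocCoh.IsCohenMacaulayRing R] (𝒜 : ℤ → AddSubgroup R)
  [GradedRing 𝒜] (hpos : ∀ n : ℤ, n < 0 → 𝒜 n = ⊥)
  (m : HomogeneousIdeal 𝒜) (hm : GrLC.IsStarLocal 𝒜 m)

theorem span_singleton_proj_stable (x : R) (e : ℤ) (hx : x ∈ 𝒜 e) (g : ℤ) (y : R)
    (hy : y ∈ (Ideal.span {x} : Submodule R R)) :
    proj 𝒜 g y ∈ (Ideal.span {x} : Submodule R R) := by
  obtain ⟨r, rfl⟩ := Ideal.mem_span_singleton'.1 hy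
  have h1 : proj 𝒜 g (r • x) = proj 𝒜 (g - e) r • x := proj_smul_of_mem_right 𝒜 𝒜 hx g r
  rw [smul_eq_mul] at h1
  rw [h1]
  exact Ideal.mul_mem_left _ _ (Ideal.subset_span rfl)

include hpos hm in
/-- `a(R/xR) = a(R) + deg x` in dimension one, with `R/xR` of finite length -/
theorem endDeg_quot_eq (hn : ringKrullDim R = ((1 : ℕ) : WithBot ℕ∞)) (I : GrLC.StarInjRes 𝒜 𝒜)
    (x : R) (e : ℤ) (hx : x ∈ 𝒜 e) (hxm : x ∈ m.toIdeal) (hreg : IsSMulRegular R x) (j : ℕ)
    (hj : m.toIdeal ^ j ≤ Ideal.span {x}) :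
    GrLC.endDeg (quoGr 𝒜 (Ideal.span {x} : Submodule R R)) =
      GrLC.endDeg (I.Hgr m 1) + ((e : WithTop ℤ) : WithBot (WithTop ℤ)) := by
  classical
  set J : Submodule R R := (Ideal.span {x} : Submodule R R) with hJdef
  have hJ : ∀ g y, y ∈ J → proj 𝒜 g y ∈ J := span_singleton_proj_stable 𝒜 x e hx
  letI : DirectSum.Decomposition (quoGr 𝒜 J) := quoDecomposition 𝒜 J hJ
  obtain ⟨F⟩ := nonempty_starInjRes 𝒜 (quoGr 𝒜 J)
  have hmne : m.toIdeal ≠ ⊤ := by
    intro h
    apply hm.1.1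
    apply HomogeneousIdeal.toIdeal_injective
    rw [h, HomogeneousIdeal.toIdeal_top]
  have hlist : List.ofFn ![x] = [x] := by simp
  have hrange : Set.range ![x] = {x} := by simp
  have hregX : RingTheory.Sequence.IsRegular R (List.ofFn ![x]) := by
    rw [hlist]
    refine ⟨(RingTheory.Sequence.isWeaklyRegular_singleton_iff R x).2 hreg, ?_⟩
    intro h
    apply hmne
    rw [eq_top_iff]
    have h2 : Ideal.ofList [x] ≤ m.toIdeal := by
      unfold Ideal.ofList
      rw [Ideal.span_le]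
      intro z hz
      simp only [List.mem_singleton, Set.mem_setOf_eq] at hz
      rw [hz]
      exact hxm
    calc (⊤ : Ideal R) = Ideal.ofList [x] • ⊤ := h
      _ = Ideal.ofList [x] := by rw [smul_eq_mul, Ideal.mul_top]
      _ ≤ m.toIdeal := h2
  have hker : LinearMap.ker J.mkQ = Ideal.span (Set.range ![x]) := by
    rw [Submodule.ker_mkQ, hrange]
  have hchain := s18645 𝒜 hpos m hm 1 hn I 1 le_rfl ![x] ![e]
    (fun i => by
      have : i = 0 := Subsingleton.elim _ _
      subst this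
      exact hx)
    (fun i => by
      have : i = 0 := Subsingleton.elim _ _
      subst this
      exact hxm) hregX
    (R ⧸ J) (quoGr 𝒜 J) J.mkQ (mkQ_isGrHom 𝒜 J) J.mkQ_surjective hker F
  rw [Nat.sub_self] at hchain
  have htors : ∀ z : R ⧸ J, z ∈ GrLC.gam m.toIdeal (R ⧸ J) := by
    intro z
    obtain ⟨y, rfl⟩ := J.mkQ_surjective z
    refine ⟨j, fun r hr => ?_⟩
    rw [← map_smul, Submodule.mkQ_apply, Submodule.Quotient.mk_eq_zero, smul_eq_mul]
    exact Ideal.mul_mem_right _ _ (hj hr)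
  have hendF : GrLC.endDeg (F.Hgr m 0) = GrLC.endDeg (quoGr 𝒜 J) :=
    endDeg_congr _ _ (fun g => Hgr_zero_eq_bot_iff F m htors g)
  rw [← hendF, hchain]
  simp

end Groth.Agent.Lib.Helper20.StdOne
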