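import Mathlib
import Groth.Agent.Lib.Helper20.StdOne1
import Groth.Agent.Lib.Helper20.SegCM3
import Groth.Agent.Lib.Helper20.HilbMono1
import Groth.Agent.Lib.Helper20.GrCanW3
import Groth.Agent.Lib.Helper20.SegCM7

/-!
# One dimensional graded Cohen–Macaulay algebras over a field: consequences of `a(R) < 0`
-/

set_option autoImplicit false
set_option linter.unusedSectionVars false
set_option linter.unusedVariables false
set_option linter.style.haveILetI false

namespace Groth.Agent.Lib.Helper20.StdOne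

open DirectSum Groth.Agent.Lib.Helper26.GrProj Groth.Agent.Lib.Helper20.GrKit
  Groth.Agent.Lib.Helper20.GrLES Groth.Agent.Lib.Helper20.GrCanW Groth.Agent.Lib.Helper20.GrConv
  Groth.Agent.Lib.Helper20.HilbMono

universe u

theorem add_lt_of_lt_zero (a : WithBot (WithTop ℤ)) (e g : ℤ) (ha : a < 0) (heg : e ≤ g) :
    a + ((e : WithTop ℤ) : WithBot (WithTop ℤ)) < ((g : WithTop ℤ) : WithBot (WithTop ℤ)) := by
  induction a using WithBot.recBotCoe with
  | bot => simp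
  | coe a =>
    induction a using WithTop.recTopCoe with
    | top =>
      exfalso
      have h0 : (0 : WithBot (WithTop ℤ)) = (((0 : ℤ) : WithTop ℤ) : WithBot (WithTop ℤ)) := rfl
      rw [h0, WithBot.coe_lt_coe] at ha
      exact absurd ha (by simp)
    | coe a =>
      have h0 : (0 : WithBot (WithTop ℤ)) = (((0 : ℤ) : WithTop ℤ) : WithBot (WithTop ℤ)) := rfl
      rw [h0, WithBot.coe_lt_coe, WithTop.coe_lt_coe] at ha
      rw [← WithBot.coe_add, ← WithTop.coe_add, WithBot.coe_lt_coe, WithTop.coe_lt_coe]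
      omega

section Sub

variable {k : Type u} [Field k] {R : Type u} [CommRing R] [Algebra k R]
  (𝒜 : ℤ → Submodule k R) [GradedAlgebra 𝒜] [IsNoetherianRing R] [Nontrivial R]
  [LocCoh.IsCohenMacaulayRing R]
  (hposR : ∀ n : ℤ, n < 0 → 𝒜 n = ⊥) (h0R : 𝒜 0 = Submodule.span k {(1 : R)})
  (mR : HomogeneousIdeal 𝒜)
  (hmR : mR.toIdeal = Ideal.span (⋃ n ∈ Set.Ioi (0 : ℤ), (𝒜 n : Set R)))
  (I : GrLC.StarInjRes 𝒜 𝒜) (hdim : ringKrullDim R = ((1 : ℕ) : WithBot ℕ∞))

include hposR in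
theorem hpos_AS : ∀ n : ℤ, n < 0 → asGr 𝒜 n = ⊥ := by
  intro n hn
  rw [AddSubgroup.eq_bot_iff_forall]
  intro x hx
  have hx' : x ∈ 𝒜 n := hx
  rw [hposR n hn, Submodule.mem_bot] at hx'
  exact hx'

include hposR h0R hmR in
theorem isStarLocal_AS : GrLC.IsStarLocal (asGr 𝒜) (idealToAS 𝒜 mR) := by
  have h0' : IsField (GrLC.deg0 (asGr 𝒜)) := Groth.Agent.Lib.Helper20.SegCM.isField_deg0 𝒜 h0R
  have hmeq : idealToAS 𝒜 mR = irr (asGr 𝒜) := by
    apply HomogeneousIdeal.toIdeal_injective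
    rw [irr_toIdeal]
    exact hmR
  rw [hmeq]
  exact isStarLocal_irr (asGr 𝒜) (hpos_AS 𝒜 hposR) h0'

theorem Hgr_AS_eq_bot_iff (d : ℤ) :
    (resToAS I).Hgr (idealToAS 𝒜 mR) 1 d = ⊥ ↔ I.Hcomp mR 1 d = ⊥ := by
  rw [AddSubgroup.eq_bot_iff_forall, Submodule.eq_bot_iff]
  rfl

include hposR h0R hmR hdim in
/-- if `a(R) < 0` then `R/xR` vanishes from the degree of `x` on -/
theorem mem_span_of_aInv_neg (x : R) (e : ℤ) (hx : x ∈ 𝒜 e) (hxm : x ∈ mR.toIdeal)
    (hreg : IsSMulRegular R x) (j : ℕ) (hj : mR.toIdeal ^ j ≤ Ideal.span {x})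
    (ha : ∀ d : ℤ, 0 ≤ d → I.Hcomp mR 1 d = ⊥) (g : ℤ) (hg : e ≤ g) (y : R) (hy : y ∈ 𝒜 g) :
    y ∈ Ideal.span {x} := by
  have hkey := endDeg_quot_eq (asGr 𝒜) (hpos_AS 𝒜 hposR) (idealToAS 𝒜 mR)
    (isStarLocal_AS 𝒜 hposR h0R mR hmR) hdim (resToAS I) x e hx hxm hreg j hj
  have hlt : GrLC.endDeg ((resToAS I).Hgr (idealToAS 𝒜 mR) 1) < 0 := by
    rw [Groth.Agent.Lib.Helper20.SegCM.endDeg_lt_zero_iff]
    intro d hd
    rw [Hgr_AS_eq_bot_iff]
    exact ha d hd
  have h2 := add_lt_of_lt_zero _ e g hlt hg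
  have h2' : GrLC.endDeg (quoGr (asGr 𝒜) (Ideal.span {x} : Submodule R R)) <
      ((g : WithTop ℤ) : WithBot (WithTop ℤ)) := lt_of_eq_of_lt hkey h2
  have h3 := piece_eq_bot_of_endDeg_lt _ g h2'
  have h4 : (Ideal.span {x} : Submodule R R).mkQ y ∈
      quoGr (asGr 𝒜) (Ideal.span {x} : Submodule R R) g := mkQ_mem_quoGr (asGr 𝒜) hy
  rw [h3, AddSubgroup.mem_bot, Submodule.mkQ_apply, Submodule.Quotient.mk_eq_zero] at h4
  exact h4

include hposR h0R hmR hdim in
/-- if the irrelevant ideal is generated by a regular element of degree one then `a(R) = -1 < 0` -/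
theorem Hcomp_eq_bot_of_principal (y : R) (hy : y ∈ 𝒜 1) (hreg : IsSMulRegular R y)
    (hspan : mR.toIdeal = Ideal.span {y}) (d : ℤ) (hd : 0 ≤ d) : I.Hcomp mR 1 d = ⊥ := by
  have hym : y ∈ mR.toIdeal := by
    rw [hspan]
    exact Ideal.subset_span rfl
  have hm' := isStarLocal_AS 𝒜 hposR h0R mR hmR
  have hkey := endDeg_quot_eq (asGr 𝒜) (hpos_AS 𝒜 hposR) (idealToAS 𝒜 mR) hm' hdim (resToAS I) y 1
    hy hym hreg 1 (by rw [pow_one]; exact hspan.le)
  have hmne : mR.toIdeal ≠ ⊤ := by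
    intro h
    apply hm'.1.1
    apply HomogeneousIdeal.toIdeal_injective
    rw [HomogeneousIdeal.toIdeal_top]
    exact h
  have hend0 : GrLC.endDeg (quoGr (asGr 𝒜) (Ideal.span {y} : Submodule R R)) =
      (((0 : ℤ) : WithTop ℤ) : WithBot (WithTop ℤ)) := by
    apply le_antisymm
    · rw [endDeg_le_iff]
      intro g hg
      rw [WithBot.coe_le_coe, WithTop.coe_le_coe]
      by_contra hpos'
      apply hg
      rw [eq_bot_iff]
      rintro _ ⟨x, hx, rfl⟩
      rw [AddSubgroup.mem_bot]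
      have hxm : x ∈ mR.toIdeal := by
        rw [hmR]
        apply Ideal.subset_span
        simp only [Set.mem_iUnion, Set.mem_Ioi, SetLike.mem_coe, exists_prop]
        exact ⟨g, by omega, hx⟩
      rw [hspan] at hxm
      exact (Submodule.Quotient.mk_eq_zero _).2 hxm
    · apply le_endDeg
      intro hbot
      have h1 : (Ideal.span {y} : Submodule R R).mkQ (1 : R) ∈
          quoGr (asGr 𝒜) (Ideal.span {y} : Submodule R R) 0 :=
        ⟨1, SetLike.GradedOne.one_mem, rfl⟩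
      rw [hbot, AddSubgroup.mem_bot, Submodule.mkQ_apply, Submodule.Quotient.mk_eq_zero] at h1
      apply hmne
      rw [hspan]
      exact (Ideal.eq_top_iff_one _).2 h1
  rw [hend0] at hkey
  have hs := coe_add_eq_zero _ _ hkey.symm
  rw [← Hgr_AS_eq_bot_iff]
  apply piece_eq_bot_of_endDeg_lt
  refine lt_of_eq_of_lt hs ?_
  have : (-1 : ℤ) < d := by omega
  exact_mod_cast this

end Sub

end Groth.Agent.Lib.Helper20.StdOne
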