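import Mathlib
import Groth.Agent.Lib.Helper20.GDual1
import Groth.Agent.Lib.Helper20.GDual2
import Groth.Agent.Lib.Helper20.GDual3
import Groth.Agent.Lib.Helper20.GDual5
import Groth.Agent.Lib.Helper20.GorTop4
import Groth.Agent.Lib.Helper20.StdOne2
import Groth.Agent.Lib.Helper20.GrCanW2
import Groth.Agent.Lib.Helper20.GrStarLoc
import Groth.Agent.S0341
import Groth.Agent.Lib.Helper20.SegKun

/-!
# The top graded local cohomology of a Gorenstein graded ring is a shifted graded dual of the ring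
-/

set_option autoImplicit false
set_option linter.unusedSectionVars false
set_option linter.unusedVariables false
set_option linter.style.haveILetI false

universe u

open TensorProduct DirectSum

namespace Groth.Agent.Lib.Helper20.GDual

open Groth.Agent.Lib.Helper26.GrProj Groth.Agent.Lib.Helper20.GrKit
  Groth.Agent.Lib.Helper20.GrConv Groth.Agent.Lib.Helper20.SegTot

section Generic

variable {k : Type u} [Field k] {R : Type u} [CommRing R] [Algebra k R]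
  (ℛ : ℤ → AddSubgroup R) [GradedRing ℛ] (hpos : ∀ n : ℤ, n < 0 → ℛ n = ⊥)
  {D : Type u} [AddCommGroup D] [Module R D] [Module k D] [IsScalarTower k R D]
  (𝒟 : ℤ → AddSubgroup D) [DirectSum.Decomposition 𝒟]
  (β : D →ₗ[k] R →ₗ[k] k) (hD : GrSeg.IsGDual R ℛ 𝒟 β)

include hpos hD in
theorem gd_pos_bot (n : ℤ) (hn : 0 < n) : 𝒟 n = ⊥ := by
  rw [AddSubgroup.eq_bot_iff_forall]
  intro d hd
  apply hD.eq_zero n d hd
  intro x hx
  rw [hpos (-n) (by omega), AddSubgroup.mem_bot] at hx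
  rw [hx, map_zero]

include hD in
theorem gd_zero_ne_bot [Nontrivial R] : 𝒟 0 ≠ ⊥ := by
  classical
  obtain ⟨f, hf⟩ : ∃ f : Module.Dual k R, f 1 ≠ 0 := by
    by_contra hcon
    push Not at hcon
    exact one_ne_zero ((Module.forall_dual_apply_eq_zero_iff k (1 : R)).1 hcon)
  obtain ⟨d₀, hd₀, hd₀f⟩ := hD.exists_eq 0 f
  have h1mem : (1 : R) ∈ ℛ (-0) := by
    rw [neg_zero]
    exact SetLike.GradedOne.one_mem
  intro hbot
  rw [hbot, AddSubgroup.mem_bot] at hd₀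
  apply hf
  rw [← hd₀f 1 h1mem, hd₀, map_zero]
  rfl

include hpos in
/-- if a shift of `ℋ` is a graded dual of the ring, then the end of `ℋ` is minus the shift -/
theorem endDeg_of_shift_gdual [Nontrivial R] {H : Type u} [AddCommGroup H] [Module R H]
    [Module k H] [IsScalarTower k R H] (ℋ : ℤ → AddSubgroup H) [DirectSum.Decomposition ℋ]
    (g : ℤ) (β' : H →ₗ[k] R →ₗ[k] k) (hH : GrSeg.IsGDual R ℛ (shiftGr ℋ g) β') :
    GrLC.endDeg ℋ = (((-g : ℤ) : WithTop ℤ) : WithBot (WithTop ℤ)) := by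
  apply endDeg_eq_of ℋ (-g)
  · have := gd_zero_ne_bot ℛ (shiftGr ℋ g) β' hH
    intro h
    apply this
    change ℋ (0 - g) = ⊥
    rw [zero_sub]
    exact h
  · intro n hn
    have := gd_pos_bot ℛ hpos (shiftGr ℋ g) β' hH (n + g) (by omega)
    change ℋ (n + g - g) = ⊥ at this
    rwa [add_sub_cancel_right] at this

end Generic

section One

variable (k : Type u) [Field k] (R : Type u) [CommRing R] [Algebra k R]
  (𝒜 : ℤ → Submodule k R) [GradedAlgebra 𝒜]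
  (hposR : ∀ n : ℤ, n < 0 → 𝒜 n = ⊥) (h0R : 𝒜 0 = Submodule.span k {(1 : R)})
  [Algebra.FiniteType k R] [LocCoh.IsGorensteinRing R] [Nontrivial R]
  (mR : HomogeneousIdeal 𝒜)
  (hmR : mR.toIdeal = Ideal.span (⋃ n ∈ Set.Ioi (0 : ℤ), (𝒜 n : Set R)))
  (I : GrLC.StarInjRes 𝒜 𝒜) (r : ℕ) (hr : ringKrullDim R = r)
  [∀ i, Module k ((resToAS I).X i).carrier] [∀ i, IsScalarTower k R ((resToAS I).X i).carrier]
  [DirectSum.Decomposition ((resToAS I).Hgr (idealToAS 𝒜 mR) r)]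

include hposR h0R hmR hr in
/-- **The top local cohomology of a Gorenstein graded ring is a shifted graded dual of the
ring.** -/
theorem exists_gdual_H :
    ∃ (g : ℤ) (β : (resToAS I).H (idealToAS 𝒜 mR) r →ₗ[k] R →ₗ[k] k),
      GrSeg.IsGDual R (asGr 𝒜) (shiftGr ((resToAS I).Hgr (idealToAS 𝒜 mR) r) g) β := by
  classical
  haveI : IsNoetherianRing R := Algebra.FiniteType.isNoetherianRing k R
  haveI hCM : LocCoh.IsCohenMacaulayRing R :=
    { isCohenMacaulayLocalRing_localization := fun p _ =>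
        haveI := LocCoh.IsGorensteinRing.isGorensteinLocalRing_localization (A := R) p
        Groth.Agent.S0341.result _ }
  have hkA : ∀ c : k, algebraMap k R c ∈ asGr 𝒜 0 :=
    Groth.Agent.Lib.Helper20.SegKun.algebraMap_mem_asGr 𝒜
  letI dD : DirectSum.Decomposition (gdGr (k := k) (asGr 𝒜) (asGr 𝒜)) :=
    gdDec (k := k) (asGr 𝒜) hkA (asGr 𝒜)
  have hD0 : GrSeg.IsGDual R (asGr 𝒜) (gdGr (k := k) (asGr 𝒜) (asGr 𝒜))
      (gdPair (asGr 𝒜) (asGr 𝒜)) := isGDual_gd (k := k) (asGr 𝒜) hkA (asGr 𝒜)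
  haveI : SetLike.GradedSMul 𝒜 (gdGr (k := k) (asGr 𝒜) (asGr 𝒜)) :=
    ⟨fun {i j} {a d} ha hx => SetLike.GradedSMul.smul_mem (A := asGr 𝒜) ha hx⟩
  have hD : GrSeg.IsGDual R 𝒜 (gdGr (k := k) (asGr 𝒜) (asGr 𝒜)) (gdPair (asGr 𝒜) (asGr 𝒜)) :=
    ⟨hD0.map_smul, hD0.vanish, hD0.eq_zero, hD0.exists_eq⟩
  obtain ⟨e, he⟩ := exists_isStarInjHull k R 𝒜 hposR h0R mR hmR _
    (gdGr (k := k) (asGr 𝒜) (asGr 𝒜)) (gdPair (asGr 𝒜) (asGr 𝒜)) hD
  have he' := Groth.Agent.Lib.Helper20.GrCanW.isStarInjHull_toAS 𝒜 mR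
    (gdGr (k := k) (asGr 𝒜) (asGr 𝒜)) e he
  have hm' := Groth.Agent.Lib.Helper20.StdOne.isStarLocal_AS 𝒜 hposR h0R mR hmR
  have hpos' := Groth.Agent.Lib.Helper20.StdOne.hpos_AS 𝒜 hposR
  have hht : (idealToAS 𝒜 mR).toIdeal.height = r := by
    have := Groth.Agent.Lib.Helper20.GrStarLoc.height_eq_dim (asGr 𝒜) hpos' _ hm'
    rw [hr] at this
    exact_mod_cast this
  obtain ⟨g, φ, hφ⟩ : ∃ (g : ℤ) (φ : (resToAS I).H (idealToAS 𝒜 mR) r ≃ₗ[R]
      GD (k := k) (asGr 𝒜) (asGr 𝒜)),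
      GrLC.IsGrHomDeg ((resToAS I).Hgr (idealToAS 𝒜 mR) r) (gdGr (k := k) (asGr 𝒜) (asGr 𝒜))
        φ.toLinearMap g :=
    Groth.Agent.Lib.Helper20.GorTop.main (asGr 𝒜) (idealToAS 𝒜 mR) hm' r hht
      (resToAS I) (gdGr (k := k) (asGr 𝒜) (asGr 𝒜)) e he'
  refine ⟨g, transPair (gdPair (asGr 𝒜) (asGr 𝒜)) φ, ?_⟩
  exact isGDual_transport (asGr 𝒜) (gdGr (k := k) (asGr 𝒜) (asGr 𝒜))
    (gdPair (asGr 𝒜) (asGr 𝒜)) hD0 ((resToAS I).Hgr (idealToAS 𝒜 mR) r) φ g hφ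

end One

end Groth.Agent.Lib.Helper20.GDual
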