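import Mathlib
import Groth.Agent.Lib.Helper20.GDual6
import Groth.Agent.Lib.Helper20.GDual10
import Groth.Agent.Lib.Helper20.GrVG4

/-!
# A Gorenstein graded ring is, up to a shift, its own *canonical module
-/

set_option autoImplicit false
set_option linter.unusedSectionVars false
set_option linter.unusedVariables false
set_option linter.style.haveILetI false

universe u

open TensorProduct DirectSum

namespace Groth.Agent.Lib.Helper20.GType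

open Groth.Agent.Lib.Helper26.GrProj Groth.Agent.Lib.Helper20.GrKit
  Groth.Agent.Lib.Helper20.GrConv Groth.Agent.Lib.Helper20.SegTot
  Groth.Agent.Lib.Helper20.GDual Groth.Agent.Lib.Helper20.GrCanW

section Canon

variable (k : Type u) [Field k] (R : Type u) [CommRing R] [Algebra k R]
  (𝒜 : ℤ → Submodule k R) [GradedAlgebra 𝒜]
  (hposR : ∀ n : ℤ, n < 0 → 𝒜 n = ⊥) (h0R : 𝒜 0 = Submodule.span k {(1 : R)})
  [Algebra.FiniteType k R] [LocCoh.IsGorensteinRing R] [Nontrivial R]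
  (mR : HomogeneousIdeal 𝒜)
  (hmR : mR.toIdeal = Ideal.span (⋃ n ∈ Set.Ioi (0 : ℤ), (𝒜 n : Set R)))
  (I : GrLC.StarInjRes 𝒜 𝒜) (r : ℕ) (hr : ringKrullDim R = r)

include hposR h0R hmR hr in
/-- **A Gorenstein graded ring is, up to the shift by its a-invariant, its own *canonical
module.** -/
theorem exists_canonical_self :
    ∃ (E' : Type u) (_ : AddCommGroup E') (_ : Module R E') (𝓔 : ℤ → AddSubgroup E')
      (_ : DirectSum.Decomposition 𝓔) (_ : SetLike.GradedSMul 𝒜 𝓔)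
      (e : (R ⧸ mR.toIdeal) →ₗ[R] E') (_ : GrLC.IsStarInjHull 𝒜 (GrLC.quotGr 𝒜 mR) 𝓔 e)
      (g : ℤ) (_ : SetLike.GradedSMul 𝒜 (shiftGr (asGr 𝒜) g)),
      GrLC.IsStarCanonical 𝒜 (shiftGr (asGr 𝒜) g) 𝓔 mR r I ∧
        GrLC.endDeg (I.Hgr mR r) = (((-g : ℤ) : WithTop ℤ) : WithBot (WithTop ℤ)) := by
  classical
  haveI : IsNoetherianRing R := Algebra.FiniteType.isNoetherianRing k R
  letI : ∀ i, Module k ((resToAS I).X i).carrier :=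
    fun i => Module.compHom ((resToAS I).X i).carrier (algebraMap k R)
  haveI : ∀ i, IsScalarTower k R ((resToAS I).X i).carrier := fun i => ⟨fun c r x => by
    change (c • r) • x = algebraMap k R c • (r • x)
    rw [Algebra.smul_def, mul_smul]⟩
  letI dHR : DirectSum.Decomposition ((resToAS I).Hgr (idealToAS 𝒜 mR) r) :=
    Groth.Agent.Lib.Helper20.GorTop.HgrDecomposition (asGr 𝒜) (asGrM 𝒜) (resToAS I)
      (idealToAS 𝒜 mR) r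
  have hkA : ∀ c : k, algebraMap k R c ∈ asGr 𝒜 0 :=
    Groth.Agent.Lib.Helper20.SegKun.algebraMap_mem_asGr 𝒜
  letI dD : DirectSum.Decomposition (gdGr (k := k) (asGr 𝒜) (asGr 𝒜)) :=
    gdDec (k := k) (asGr 𝒜) hkA (asGr 𝒜)
  have hD0 : GrSeg.IsGDual R (asGr 𝒜) (gdGr (k := k) (asGr 𝒜) (asGr 𝒜))
      (gdPair (asGr 𝒜) (asGr 𝒜)) := isGDual_gd (k := k) (asGr 𝒜) hkA (asGr 𝒜)
  haveI iG : SetLike.GradedSMul 𝒜 (gdGr (k := k) (asGr 𝒜) (asGr 𝒜)) :=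
    ⟨fun {i j} {a d} ha hx => SetLike.GradedSMul.smul_mem (A := asGr 𝒜) ha hx⟩
  have hD : GrSeg.IsGDual R 𝒜 (gdGr (k := k) (asGr 𝒜) (asGr 𝒜)) (gdPair (asGr 𝒜) (asGr 𝒜)) :=
    ⟨hD0.map_smul, hD0.vanish, hD0.eq_zero, hD0.exists_eq⟩
  obtain ⟨e, he⟩ := exists_isStarInjHull k R 𝒜 hposR h0R mR hmR _
    (gdGr (k := k) (asGr 𝒜) (asGr 𝒜)) (gdPair (asGr 𝒜) (asGr 𝒜)) hD
  have he' := isStarInjHull_toAS 𝒜 mR (gdGr (k := k) (asGr 𝒜) (asGr 𝒜)) e he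
  have hm' := isStarLocal_asGr k R 𝒜 hposR h0R mR hmR
  have hpos' := hpos_asGr k R 𝒜 hposR
  have hht : (idealToAS 𝒜 mR).toIdeal.height = r := by
    have := Groth.Agent.Lib.Helper20.GrStarLoc.height_eq_dim (asGr 𝒜) hpos' _ hm'
    rw [hr] at this
    exact_mod_cast this
  obtain ⟨g, φ, hφ⟩ : ∃ (g : ℤ) (φ : (resToAS I).H (idealToAS 𝒜 mR) r ≃ₗ[R]
      GD (k := k) (asGr 𝒜) (asGr 𝒜)),
      GrLC.IsGrHomDeg ((resToAS I).Hgr (idealToAS 𝒜 mR) r) (gdGr (k := k) (asGr 𝒜) (asGr 𝒜))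
        φ.toLinearMap g :=
    Groth.Agent.Lib.Helper20.GorTop.main (asGr 𝒜) (idealToAS 𝒜 mR) hm' r hht
      (resToAS I) (gdGr (k := k) (asGr 𝒜) (asGr 𝒜)) e he'
  haveI iC : SetLike.GradedSMul 𝒜 (shiftGr (asGr 𝒜) g) :=
    ⟨fun {i j} {a d} ha hx => SetLike.GradedSMul.smul_mem (A := asGr 𝒜)
      (B := shiftGr (asGr 𝒜) g) ha hx⟩
  refine ⟨GD (k := k) (asGr 𝒜) (asGr 𝒜), inferInstance, inferInstance,
    gdGr (k := k) (asGr 𝒜) (asGr 𝒜), dD, iG, e, he, g, iC, ?_, ?_⟩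
  · refine ⟨Module.Finite.self R,
      (LinearMap.ringLmapEquivSelf R R (GD (k := k) (asGr 𝒜) (asGr 𝒜))).trans φ.symm, ?_⟩
    intro d f hf
    have hf' : GrLC.IsGrHomDeg (shiftGr (asGr 𝒜) g) (gdGr (k := k) (asGr 𝒜) (asGr 𝒜)) f d := hf
    have h1 : (1 : R) ∈ shiftGr (asGr 𝒜) g g := by
      change (1 : R) ∈ asGr 𝒜 (g - g)
      rw [sub_self]
      exact SetLike.GradedOne.one_mem
    have h2 := hf' g 1 h1
    have h3 := Groth.Agent.Lib.Helper20.GrVG.symm_mem ((resToAS I).Hgr (idealToAS 𝒜 mR) r)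
      (gdGr (k := k) (asGr 𝒜) (asGr 𝒜)) φ g hφ h2
    rw [add_sub_cancel_left] at h3
    exact h3
  · have hG := isGDual_transport (asGr 𝒜) (gdGr (k := k) (asGr 𝒜) (asGr 𝒜))
      (gdPair (asGr 𝒜) (asGr 𝒜)) hD0 ((resToAS I).Hgr (idealToAS 𝒜 mR) r) φ g hφ
    exact endDeg_of_shift_gdual (k := k) (asGr 𝒜) hpos'
      ((resToAS I).Hgr (idealToAS 𝒜 mR) r) g _ hG

end Canon

section Hull

variable (k : Type u) [Field k] (R : Type u) [CommRing R] [Algebra k R]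
  (𝒜 : ℤ → Submodule k R) [GradedAlgebra 𝒜]
  (hposR : ∀ n : ℤ, n < 0 → 𝒜 n = ⊥) (h0R : 𝒜 0 = Submodule.span k {(1 : R)})
  [Algebra.FiniteType k R] [Nontrivial R]
  (mR : HomogeneousIdeal 𝒜)
  (hmR : mR.toIdeal = Ideal.span (⋃ n ∈ Set.Ioi (0 : ℤ), (𝒜 n : Set R)))

include hposR h0R hmR in
/-- a *injective hull of the residue field exists -/
theorem exists_hull :
    ∃ (E' : Type u) (_ : AddCommGroup E') (_ : Module R E') (𝓔 : ℤ → AddSubgroup E')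
      (_ : DirectSum.Decomposition 𝓔) (_ : SetLike.GradedSMul 𝒜 𝓔)
      (e : (R ⧸ mR.toIdeal) →ₗ[R] E'), GrLC.IsStarInjHull 𝒜 (GrLC.quotGr 𝒜 mR) 𝓔 e := by
  classical
  have hkA : ∀ c : k, algebraMap k R c ∈ asGr 𝒜 0 :=
    Groth.Agent.Lib.Helper20.SegKun.algebraMap_mem_asGr 𝒜
  letI dD : DirectSum.Decomposition (gdGr (k := k) (asGr 𝒜) (asGr 𝒜)) :=
    gdDec (k := k) (asGr 𝒜) hkA (asGr 𝒜)
  have hD0 : GrSeg.IsGDual R (asGr 𝒜) (gdGr (k := k) (asGr 𝒜) (asGr 𝒜))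
      (gdPair (asGr 𝒜) (asGr 𝒜)) := isGDual_gd (k := k) (asGr 𝒜) hkA (asGr 𝒜)
  haveI iG : SetLike.GradedSMul 𝒜 (gdGr (k := k) (asGr 𝒜) (asGr 𝒜)) :=
    ⟨fun {i j} {a d} ha hx => SetLike.GradedSMul.smul_mem (A := asGr 𝒜) ha hx⟩
  have hD : GrSeg.IsGDual R 𝒜 (gdGr (k := k) (asGr 𝒜) (asGr 𝒜)) (gdPair (asGr 𝒜) (asGr 𝒜)) :=
    ⟨hD0.map_smul, hD0.vanish, hD0.eq_zero, hD0.exists_eq⟩
  obtain ⟨e, he⟩ := exists_isStarInjHull k R 𝒜 hposR h0R mR hmR _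
    (gdGr (k := k) (asGr 𝒜) (asGr 𝒜)) (gdPair (asGr 𝒜) (asGr 𝒜)) hD
  exact ⟨GD (k := k) (asGr 𝒜) (asGr 𝒜), inferInstance, inferInstance,
    gdGr (k := k) (asGr 𝒜) (asGr 𝒜), dD, iG, e, he⟩

end Hull

end Groth.Agent.Lib.Helper20.GType
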