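import Mathlib
import Groth.Agent.Lib.Helper20.GrVK1

/-!
# Linear algebra: the annihilator of a proper subspace under a nondegenerate pairing
-/

set_option autoImplicit false
set_option linter.unusedSectionVars false
set_option linter.unusedVariables false

namespace Groth.Agent.Lib.Helper20.GrVM

open Groth.Agent.Lib.Helper20.GrVK

universe u v

theorem exists_ne_zero_pair_eq_zero {k : Type u} {V W T : Type v} [Field k] [AddCommGroup V]
    [Module k V] [AddCommGroup W] [Module k W] [AddCommGroup T] [Module k T]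
    [FiniteDimensional k V] (hT : Module.finrank k T = 1)
    (B : V →ₗ[k] W →ₗ[k] T) (hl : ∀ v, (∀ w, B v w = 0) → v = 0)
    (hr : ∀ w, (∀ v, B v w = 0) → w = 0) (U : Submodule k W) (hU : U ≠ ⊤) :
    ∃ v : V, v ≠ 0 ∧ ∀ w ∈ U, B v w = 0 := by
  obtain ⟨f, hf0, hfU⟩ := Submodule.exists_le_ker_of_lt_top U (lt_top_iff_ne_top.2 hU)
  haveI : Module.Finite k T := Module.finite_of_finrank_pos (by rw [hT]; exact one_pos)
  obtain ⟨ε, hε⟩ : ∃ ε : T, ε ≠ 0 := by
    by_contra hcon
    push Not at hcon
    haveI : Subsingleton T := ⟨fun a b => (hcon a).trans (hcon b).symm⟩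
    rw [Module.finrank_zero_of_subsingleton] at hT
    exact zero_ne_one hT
  let l : W →ₗ[k] T := (LinearMap.toSpanSingleton k T ε).comp f
  obtain ⟨v, hv⟩ := exists_rep_of_nondeg hT B hl hr l
  refine ⟨v, ?_, ?_⟩
  · intro hv0
    apply hf0
    ext w
    have h1 : B v w = l w := by rw [hv]
    rw [hv0, map_zero, LinearMap.zero_apply] at h1
    have h2 : f w • ε = 0 := h1.symm
    rcases smul_eq_zero.1 h2 with h | h
    · exact h
    · exact absurd h hε
  · intro w hw
    rw [hv]
    change f w • ε = 0
    have : f w = 0 := hfU hw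
    rw [this, zero_smul]

end Groth.Agent.Lib.Helper20.GrVM
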