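import Mathlib
import Groth.Prelude.Def_GrLC
import Groth.Agent.Lib.Helper26.GrProj
import Groth.Agent.Lib.Helper20.GrKit1
import Groth.Agent.Lib.Helper20.GrKit2

/-!
# The graded dual `*Hom_R(H, E)` of a graded module
-/

set_option autoImplicit false
set_option linter.unusedSectionVars false
set_option linter.unusedVariables false
set_option linter.style.haveILetI false

namespace Groth.Agent.Lib.Helper20.GrVM

open DirectSum Groth.Agent.Lib.Helper26.GrProj Groth.Agent.Lib.Helper20.GrKit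

universe u

variable {R : Type u} [CommRing R] (𝒜 : ℤ → AddSubgroup R) [GradedRing 𝒜]
  {H : Type u} [AddCommGroup H] [Module R H] (ℋ : ℤ → AddSubgroup H)
  [DirectSum.Decomposition ℋ] [SetLike.GradedSMul 𝒜 ℋ]
  {E' : Type u} [AddCommGroup E'] [Module R E'] (𝓔 : ℤ → AddSubgroup E')
  [DirectSum.Decomposition 𝓔] [SetLike.GradedSMul 𝒜 𝓔]

/-- the homogeneous maps -/
def homSet : Set (H →ₗ[R] E') := {f | ∃ d, GrLC.IsGrHomDeg ℋ 𝓔 f d}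

include 𝒜 in
theorem smul_isGrHomDeg {s d : ℤ} {r : R} (hr : r ∈ 𝒜 s) {f : H →ₗ[R] E'}
    (hf : GrLC.IsGrHomDeg ℋ 𝓔 f d) : GrLC.IsGrHomDeg ℋ 𝓔 (r • f) (s + d) := by
  intro g x hx
  rw [LinearMap.smul_apply]
  have := SetLike.GradedSMul.smul_mem (A := 𝒜) (B := 𝓔) hr (hf g x hx)
  rw [vadd_eq_add] at this
  rwa [show g + (s + d) = s + (g + d) by ring]

theorem ext_homogeneous {f g : H →ₗ[R] E'} (h : ∀ (i : ℤ) (x : H), x ∈ ℋ i → f x = g x) :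
    f = g := by
  classical
  ext x
  induction x using DirectSum.Decomposition.inductionOn ℋ with
  | zero => rw [map_zero, map_zero]
  | add x y hx hy => rw [map_add, map_add, hx, hy]
  | homogeneous x => exact h _ x x.2

theorem homComp_add (f g : H →ₗ[R] E') (d : ℤ) :
    homComp 𝒜 ℋ 𝓔 (f + g) d = homComp 𝒜 ℋ 𝓔 f d + homComp 𝒜 ℋ 𝓔 g d := by
  apply ext_homogeneous ℋ
  intro i x hx
  rw [LinearMap.add_apply, homComp_of_mem 𝒜 ℋ 𝓔 _ d hx, homComp_of_mem 𝒜 ℋ 𝓔 _ d hx,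
    homComp_of_mem 𝒜 ℋ 𝓔 _ d hx, LinearMap.add_apply, proj_add]

theorem homComp_zero (d : ℤ) : homComp 𝒜 ℋ 𝓔 (0 : H →ₗ[R] E') d = 0 := by
  apply ext_homogeneous ℋ
  intro i x hx
  rw [homComp_of_mem 𝒜 ℋ 𝓔 _ d hx, LinearMap.zero_apply, proj_zero]

theorem homComp_neg (f : H →ₗ[R] E') (d : ℤ) :
    homComp 𝒜 ℋ 𝓔 (-f) d = -homComp 𝒜 ℋ 𝓔 f d := by
  have h := homComp_add 𝒜 ℋ 𝓔 f (-f) d
  rw [add_neg_cancel, homComp_zero] at h
  exact (neg_eq_of_add_eq_zero_right h.symm).symm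

theorem homComp_self {f : H →ₗ[R] E'} {d : ℤ} (hf : GrLC.IsGrHomDeg ℋ 𝓔 f d) :
    homComp 𝒜 ℋ 𝓔 f d = f := by
  apply ext_homogeneous ℋ
  intro i x hx
  rw [homComp_of_mem 𝒜 ℋ 𝓔 _ d hx, proj_of_mem_same 𝓔 (hf i x hx)]

theorem homComp_ne {f : H →ₗ[R] E'} {d d' : ℤ} (hf : GrLC.IsGrHomDeg ℋ 𝓔 f d') (hne : d' ≠ d) :
    homComp 𝒜 ℋ 𝓔 f d = 0 := by
  apply ext_homogeneous ℋ
  intro i x hx
  rw [homComp_of_mem 𝒜 ℋ 𝓔 _ d hx, LinearMap.zero_apply]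
  apply proj_of_mem_ne 𝓔 (hf i x hx)
  intro h
  exact hne (add_left_cancel h)

include 𝒜 in
theorem smul_mem_closure (r : R) (f : H →ₗ[R] E')
    (hf : f ∈ AddSubgroup.closure (homSet ℋ 𝓔)) : r • f ∈ AddSubgroup.closure (homSet ℋ 𝓔) := by
  classical
  induction hf using AddSubgroup.closure_induction with
  | mem f hf =>
    obtain ⟨d, hd⟩ := hf
    rw [← sum_proj 𝒜 r, Finset.sum_smul]
    refine sum_mem fun s _ => ?_
    exact AddSubgroup.subset_closure ⟨s + d, smul_isGrHomDeg 𝒜 ℋ 𝓔 (proj_mem 𝒜 s r) hd⟩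
  | zero => rw [smul_zero]; exact zero_mem _
  | add f g _ _ hf hg => rw [smul_add]; exact add_mem hf hg
  | neg f _ hf => rw [smul_neg]; exact neg_mem hf

/-- the graded dual, as a submodule of `Hom_R(H, E)` -/
def gdual : Submodule R (H →ₗ[R] E') :=
  { (AddSubgroup.closure (homSet ℋ 𝓔)).toAddSubmonoid with
    smul_mem' := fun r f hf => smul_mem_closure 𝒜 ℋ 𝓔 r f hf }

theorem mem_gdual_iff {f : H →ₗ[R] E'} :
    f ∈ gdual 𝒜 ℋ 𝓔 ↔ f ∈ AddSubgroup.closure (homSet ℋ 𝓔) := Iff.rfl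

theorem mem_gdual_of_deg {f : H →ₗ[R] E'} {d : ℤ} (hf : GrLC.IsGrHomDeg ℋ 𝓔 f d) :
    f ∈ gdual 𝒜 ℋ 𝓔 :=
  AddSubgroup.subset_closure ⟨d, hf⟩

/-- the grading of the graded dual -/
def gdGr (d : ℤ) : AddSubgroup (gdual 𝒜 ℋ 𝓔) where
  carrier := {f | GrLC.IsGrHomDeg ℋ 𝓔 f.1 d}
  add_mem' := fun {f g} hf hg i x hx => by
    change f.1 x + g.1 x ∈ _
    exact add_mem (hf i x hx) (hg i x hx)
  zero_mem' := fun i x _ => zero_mem _
  neg_mem' := fun {f} hf i x hx => by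
    change -(f.1 x) ∈ _
    exact neg_mem (hf i x hx)

theorem mem_gdGr {d : ℤ} {f : gdual 𝒜 ℋ 𝓔} : f ∈ gdGr 𝒜 ℋ 𝓔 d ↔ GrLC.IsGrHomDeg ℋ 𝓔 f.1 d :=
  Iff.rfl

/-- finite homogeneous expansion of an element of the graded dual -/
theorem exists_expansion (f : H →ₗ[R] E') (hf' : f ∈ AddSubgroup.closure (homSet ℋ 𝓔)) :
    ∃ T : Finset ℤ, (∀ d ∉ T, homComp 𝒜 ℋ 𝓔 f d = 0) ∧ f = ∑ d ∈ T, homComp 𝒜 ℋ 𝓔 f d := by
  classical
  induction hf' using AddSubgroup.closure_induction with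
  | mem f hf =>
    obtain ⟨d₀, hd₀⟩ := hf
    refine ⟨{d₀}, fun d hd => ?_, ?_⟩
    · rw [Finset.mem_singleton] at hd
      exact homComp_ne 𝒜 ℋ 𝓔 hd₀ (fun h => hd h.symm)
    · rw [Finset.sum_singleton, homComp_self 𝒜 ℋ 𝓔 hd₀]
  | zero =>
    exact ⟨∅, fun d _ => homComp_zero 𝒜 ℋ 𝓔 d, by rw [Finset.sum_empty]⟩
  | add f g hf₀ hg₀ hf hg =>
    obtain ⟨T, hT0, hT⟩ := hf
    obtain ⟨T', hT'0, hT'⟩ := hg
    refine ⟨T ∪ T', fun d hd => ?_, ?_⟩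
    · rw [Finset.mem_union, not_or] at hd
      rw [homComp_add, hT0 d hd.1, hT'0 d hd.2, add_zero]
    · simp only [homComp_add]
      rw [Finset.sum_add_distrib]
      congr 1
      · conv_lhs => rw [hT]
        exact Finset.sum_subset Finset.subset_union_left (fun d _ hd => hT0 d hd)
      · conv_lhs => rw [hT']
        exact Finset.sum_subset Finset.subset_union_right (fun d _ hd => hT'0 d hd)
  | neg f hf₀ hf =>
    obtain ⟨T, hT0, hT⟩ := hf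
    refine ⟨T, fun d hd => ?_, ?_⟩
    · rw [homComp_neg, hT0 d hd, neg_zero]
    · simp only [homComp_neg]
      rw [Finset.sum_neg_distrib, ← hT]

/-- the projections of the graded dual -/
noncomputable def gdProj (d : ℤ) : gdual 𝒜 ℋ 𝓔 →+ gdual 𝒜 ℋ 𝓔 where
  toFun f := ⟨homComp 𝒜 ℋ 𝓔 f.1 d, mem_gdual_of_deg 𝒜 ℋ 𝓔 (homComp_isGrHomDeg 𝒜 ℋ 𝓔 f.1 d)⟩
  map_zero' := Subtype.ext (homComp_zero 𝒜 ℋ 𝓔 d)
  map_add' f g := Subtype.ext (homComp_add 𝒜 ℋ 𝓔 f.1 g.1 d)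

theorem gd_isInternal : DirectSum.IsInternal (gdGr 𝒜 ℋ 𝓔) := by
  classical
  refine isInternal_of_proj (gdGr 𝒜 ℋ 𝓔) (gdProj 𝒜 ℋ 𝓔) ?_ ?_ ?_ ?_
  · intro d f
    exact homComp_isGrHomDeg 𝒜 ℋ 𝓔 f.1 d
  · intro d f hf
    exact Subtype.ext (homComp_self 𝒜 ℋ 𝓔 hf)
  · intro d d' f hf hne
    exact Subtype.ext (homComp_ne 𝒜 ℋ 𝓔 hf hne)
  · intro f
    obtain ⟨T, -, hT⟩ := exists_expansion 𝒜 ℋ 𝓔 f.1 f.2
    refine ⟨T, Subtype.ext ?_⟩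
    rw [AddSubmonoidClass.coe_finsetSum]
    exact hT

noncomputable instance gdDecomposition : DirectSum.Decomposition (gdGr 𝒜 ℋ 𝓔) :=
  (gd_isInternal 𝒜 ℋ 𝓔).chooseDecomposition

instance gdGradedSMul : SetLike.GradedSMul 𝒜 (gdGr 𝒜 ℋ 𝓔) where
  smul_mem := by
    intro s d r f hr hf
    rw [vadd_eq_add]
    exact smul_isGrHomDeg 𝒜 ℋ 𝓔 hr hf

end Groth.Agent.Lib.Helper20.GrVM
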