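import Mathlib
import Groth.Prelude.Def_GrLC
import Groth.Agent.Lib.Helper20.GrVM1
import Groth.Agent.Lib.Helper20.GrVM2
import Groth.Agent.Lib.Helper20.GrVK2

/-!
# The pairing between a graded module and its graded dual
-/

set_option autoImplicit false
set_option linter.unusedSectionVars false
set_option linter.unusedVariables false
set_option linter.style.haveILetI false

namespace Groth.Agent.Lib.Helper20.GrVM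

open DirectSum Groth.Agent.Lib.Helper26.GrProj Groth.Agent.Lib.Helper20.GrKit
  Groth.Agent.Lib.Helper20.GrCanW Groth.Agent.Lib.Helper20.GrVG Groth.Agent.Lib.Helper20.GrVK

universe u

variable {R : Type u} [CommRing R] [IsNoetherianRing R] (𝒜 : ℤ → AddSubgroup R) [GradedRing 𝒜]
  (hpos : ∀ n : ℤ, n < 0 → 𝒜 n = ⊥) (h0 : IsField (GrLC.deg0 𝒜))
  (m : HomogeneousIdeal 𝒜) (hm : GrLC.IsStarLocal 𝒜 m)
  {E' : Type u} [AddCommGroup E'] [Module R E'] (𝓔 : ℤ → AddSubgroup E')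
  [DirectSum.Decomposition 𝓔] [SetLike.GradedSMul 𝒜 𝓔] (e : (R ⧸ m.toIdeal) →ₗ[R] E')
  (he : GrLC.IsStarInjHull 𝒜 (GrLC.quotGr 𝒜 m) 𝓔 e)
  {H : Type u} [AddCommGroup H] [Module R H] (ℋ : ℤ → AddSubgroup H)
  [DirectSum.Decomposition ℋ] [SetLike.GradedSMul 𝒜 ℋ]

theorem apply_mem_zero {i j : ℤ} (hij : i + j = 0) {h : H} (hh : h ∈ ℋ i)
    {f : gdual 𝒜 ℋ 𝓔} (hf : f ∈ gdGr 𝒜 ℋ 𝓔 j) : f.1 h ∈ 𝓔 0 := by
  have := hf i h hh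
  rwa [hij] at this

include hpos h0 hm he in
/-- nondegeneracy in the module variable -/
theorem gd_nondeg_left {i j : ℤ} (hij : i + j = 0) {h : H} (hh : h ∈ ℋ i)
    (hv : ∀ f : gdual 𝒜 ℋ 𝓔, f ∈ gdGr 𝒜 ℋ 𝓔 j → f.1 h = 0) : h = 0 := by
  by_contra hne
  obtain ⟨f, hf, hfh⟩ := enough_homs 𝒜 hpos h0 m hm 𝓔 e he ℋ hh hne
  have hj : j = -i := by omega
  apply hfh
  exact hv ⟨f, mem_gdual_of_deg 𝒜 ℋ 𝓔 hf⟩ (by rw [hj]; exact hf)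

include hpos hm he in
/-- nondegeneracy in the dual variable -/
theorem gd_nondeg_right {i j : ℤ} (hij : i + j = 0) {f : gdual 𝒜 ℋ 𝓔}
    (hf : f ∈ gdGr 𝒜 ℋ 𝓔 j) (hv : ∀ h ∈ ℋ i, f.1 h = 0) : f = 0 := by
  have hj : j = -i := by omega
  apply Subtype.ext
  apply hom_eq_zero 𝒜 hpos m hm 𝓔 e he ℋ f.1 _ hv
  rw [← hj]
  exact hf

/-- the pairing as a bilinear map over the degree zero field -/
noncomputable def gdPair {i j : ℤ} (hij : i + j = 0) :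
    GrLC.comp 𝒜 ℋ i →ₗ[GrLC.deg0 𝒜] GrLC.comp 𝒜 (gdGr 𝒜 ℋ 𝓔) j →ₗ[GrLC.deg0 𝒜] GrLC.comp 𝒜 𝓔 0 :=
  LinearMap.mk₂ (GrLC.deg0 𝒜)
    (fun h f => ⟨(f : gdual 𝒜 ℋ 𝓔).1 (h : H), apply_mem_zero 𝒜 𝓔 ℋ hij h.2 f.2⟩)
    (fun h h' f => Subtype.ext (map_add (f : gdual 𝒜 ℋ 𝓔).1 (h : H) (h' : H)))
    (fun r h f => Subtype.ext (map_smul (f : gdual 𝒜 ℋ 𝓔).1 (r : R) (h : H)))
    (fun h f f' => Subtype.ext rfl)
    (fun r h f => Subtype.ext rfl)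

theorem gdPair_apply {i j : ℤ} (hij : i + j = 0) (h : GrLC.comp 𝒜 ℋ i)
    (f : GrLC.comp 𝒜 (gdGr 𝒜 ℋ 𝓔) j) :
    ((gdPair 𝒜 𝓔 ℋ hij h f : GrLC.comp 𝒜 𝓔 0) : E') = (f : gdual 𝒜 ℋ 𝓔).1 (h : H) := rfl

include hpos h0 hm he in
theorem gdPair_left {i j : ℤ} (hij : i + j = 0) (h : GrLC.comp 𝒜 ℋ i)
    (hv : ∀ f, gdPair 𝒜 𝓔 ℋ hij h f = 0) : h = 0 := by
  apply Subtype.ext
  apply gd_nondeg_left 𝒜 hpos h0 m hm 𝓔 e he ℋ hij h.2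
  intro f hf
  exact congrArg Subtype.val (hv ⟨f, hf⟩)

include hpos hm he in
theorem gdPair_right {i j : ℤ} (hij : i + j = 0) (f : GrLC.comp 𝒜 (gdGr 𝒜 ℋ 𝓔) j)
    (hv : ∀ h, gdPair 𝒜 𝓔 ℋ hij h f = 0) : f = 0 := by
  apply Subtype.ext
  apply gd_nondeg_right 𝒜 hpos m hm 𝓔 e he ℋ hij f.2
  intro h hh
  exact congrArg Subtype.val (hv ⟨h, hh⟩)

variable [hfin : ∀ i, Module.Finite (GrLC.deg0 𝒜) (GrLC.comp 𝒜 ℋ i)]

include hpos h0 hm he hfin in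
/-- the pieces of the graded dual are finite dimensional -/
theorem gd_comp_finite (j : ℤ) : Module.Finite (GrLC.deg0 𝒜) (GrLC.comp 𝒜 (gdGr 𝒜 ℋ 𝓔) j) := by
  letI : Field (GrLC.deg0 𝒜) := h0.toField
  have hij : -j + j = 0 := by ring
  haveI : Module.Finite (GrLC.deg0 𝒜) (GrLC.comp 𝒜 𝓔 0) :=
    Module.finite_of_finrank_pos (by
      rw [finrank_hull_zero 𝒜 hpos h0 m hm 𝓔 e he]; exact one_pos)
  have hinj : Function.Injective (gdPair 𝒜 𝓔 ℋ hij).flip := by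
    rw [injective_iff_map_eq_zero]
    intro f hf
    apply gdPair_right 𝒜 hpos m hm 𝓔 e he ℋ hij f
    intro h
    have := LinearMap.congr_fun hf h
    simpa using this
  exact Module.Finite.of_injective _ hinj

include hpos h0 hm he hfin in
/-- every functional on a piece of the graded dual is evaluation at an element -/
theorem gd_rep {i j : ℤ} (hij : i + j = 0)
    (l : GrLC.comp 𝒜 (gdGr 𝒜 ℋ 𝓔) j →ₗ[GrLC.deg0 𝒜] GrLC.comp 𝒜 𝓔 0) :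
    ∃ h ∈ ℋ i, ∀ f : gdual 𝒜 ℋ 𝓔, ∀ hf : f ∈ gdGr 𝒜 ℋ 𝓔 j, f.1 h = (l ⟨f, hf⟩ : E') := by
  letI : Field (GrLC.deg0 𝒜) := h0.toField
  obtain ⟨v, hv⟩ := exists_rep_of_nondeg (finrank_hull_zero 𝒜 hpos h0 m hm 𝓔 e he)
    (gdPair 𝒜 𝓔 ℋ hij) (gdPair_left 𝒜 hpos h0 m hm 𝓔 e he ℋ hij)
    (gdPair_right 𝒜 hpos m hm 𝓔 e he ℋ hij) l
  refine ⟨v, v.2, fun f hf => ?_⟩
  have := LinearMap.congr_fun hv ⟨f, hf⟩
  exact congrArg Subtype.val this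

include hpos h0 hm he hfin in
/-- a proper subspace of a piece of the graded dual is killed by a nonzero element -/
theorem gd_ann {i j : ℤ} (hij : i + j = 0)
    (U : Submodule (GrLC.deg0 𝒜) (GrLC.comp 𝒜 (gdGr 𝒜 ℋ 𝓔) j)) (hU : U ≠ ⊤) :
    ∃ h ∈ ℋ i, h ≠ 0 ∧ ∀ f ∈ U, ((f : GrLC.comp 𝒜 (gdGr 𝒜 ℋ 𝓔) j) : gdual 𝒜 ℋ 𝓔).1 h = 0 := by
  letI : Field (GrLC.deg0 𝒜) := h0.toField
  obtain ⟨v, hv0, hv⟩ := exists_ne_zero_pair_eq_zero (finrank_hull_zero 𝒜 hpos h0 m hm 𝓔 e he)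
    (gdPair 𝒜 𝓔 ℋ hij) (gdPair_left 𝒜 hpos h0 m hm 𝓔 e he ℋ hij)
    (gdPair_right 𝒜 hpos m hm 𝓔 e he ℋ hij) U hU
  refine ⟨v, v.2, fun h => hv0 (Subtype.ext h), fun f hf => ?_⟩
  exact congrArg Subtype.val (hv f hf)

end Groth.Agent.Lib.Helper20.GrVM
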