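import Mathlib
import Groth.Prelude.Def_GrLC
import Groth.Agent.Lib.Helper20.GrVM3
import Groth.Agent.Lib.Helper20.GrStarLoc

/-!
# The graded dual of an Artinian graded module with finite pieces is finitely generated
-/

set_option autoImplicit false
set_option linter.unusedSectionVars false
set_option linter.unusedVariables false
set_option linter.style.haveILetI false
set_option maxHeartbeats 800000

namespace Groth.Agent.Lib.Helper20.GrVM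

open DirectSum Groth.Agent.Lib.Helper26.GrProj Groth.Agent.Lib.Helper20.GrKit
  Groth.Agent.Lib.Helper20.GrCanW Groth.Agent.Lib.Helper20.GrVG Groth.Agent.Lib.Helper20.GrVK

universe u

variable {R : Type u} [CommRing R] [IsNoetherianRing R] (𝒜 : ℤ → AddSubgroup R) [GradedRing 𝒜]
  (hpos : ∀ n : ℤ, n < 0 → 𝒜 n = ⊥) (h0 : IsField (GrLC.deg0 𝒜))
  (m : HomogeneousIdeal 𝒜) (hm : GrLC.IsStarLocal 𝒜 m)
  (hmsp : m.toIdeal = Ideal.span (⋃ n ∈ Set.Ioi (0 : ℤ), (𝒜 n : Set R)))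
  {E' : Type u} [AddCommGroup E'] [Module R E'] (𝓔 : ℤ → AddSubgroup E')
  [DirectSum.Decomposition 𝓔] [SetLike.GradedSMul 𝒜 𝓔] (e : (R ⧸ m.toIdeal) →ₗ[R] E')
  (he : GrLC.IsStarInjHull 𝒜 (GrLC.quotGr 𝒜 m) 𝓔 e)
  {H : Type u} [AddCommGroup H] [Module R H] (ℋ : ℤ → AddSubgroup H)
  [DirectSum.Decomposition ℋ] [SetLike.GradedSMul 𝒜 ℋ]

/-- the part of the socle in degrees at most `-t` -/
def socLow (hpos : ∀ n : ℤ, n < 0 → 𝒜 n = ⊥) (hm : GrLC.IsStarLocal 𝒜 m) (t : ℕ) :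
    Submodule R H where
  carrier := {h | (∀ r ∈ m.toIdeal, r • h = 0) ∧ ∀ i : ℤ, -(t : ℤ) < i → proj ℋ i h = 0}
  zero_mem' := ⟨fun r _ => smul_zero r, fun i _ => proj_zero ℋ i⟩
  add_mem' := by
    rintro a b ⟨ha1, ha2⟩ ⟨hb1, hb2⟩
    refine ⟨fun r hr => ?_, fun i hi => ?_⟩
    · rw [smul_add, ha1 r hr, hb1 r hr, add_zero]
    · rw [proj_add, ha2 i hi, hb2 i hi, add_zero]
  smul_mem' := by
    rintro c h ⟨h1, h2⟩
    refine ⟨fun r hr => ?_, fun i hi => ?_⟩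
    · rw [smul_comm, h1 r hr, smul_zero]
    · have hc : c • h = proj 𝒜 0 c • h := by
        have h3 := h1 _ (GrStarLoc.sub_proj_zero_mem 𝒜 hpos m hm c)
        rw [sub_smul, sub_eq_zero] at h3
        exact h3
      rw [hc, proj_smul_of_mem 𝒜 ℋ (proj_mem 𝒜 0 c), sub_zero, h2 i hi, smul_zero]

include hpos hm in
/-- the socle of an Artinian graded module lives in bounded degrees -/
theorem exists_socle_bound [IsArtinian R H] :
    ∃ M₀ : ℤ, ∀ i < M₀, ∀ h ∈ ℋ i, (∀ r ∈ m.toIdeal, r • h = 0) → h = 0 := by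
  let f : ℕ →o (Submodule R H)ᵒᵈ :=
    ⟨fun t => OrderDual.toDual (socLow 𝒜 m ℋ hpos hm t), by
      intro t t' htt'
      change socLow 𝒜 m ℋ hpos hm t' ≤ socLow 𝒜 m ℋ hpos hm t
      rintro h ⟨h1, h2⟩
      refine ⟨h1, fun i hi => h2 i ?_⟩
      have : (t : ℤ) ≤ t' := by exact_mod_cast htt'
      omega⟩
  obtain ⟨t₀, ht₀⟩ := IsArtinian.monotone_stabilizes f
  refine ⟨-(t₀ : ℤ) + 1, fun i hi h hh hsoc => ?_⟩
  have hmem : h ∈ socLow 𝒜 m ℋ hpos hm t₀ := by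
    refine ⟨hsoc, fun i' hi' => ?_⟩
    exact proj_of_mem_ne ℋ hh (by omega)
  have ht : t₀ ≤ (-i + 1).toNat := by omega
  have heq : socLow 𝒜 m ℋ hpos hm t₀ = socLow 𝒜 m ℋ hpos hm (-i + 1).toNat := by
    have := ht₀ _ ht
    exact this
  rw [heq] at hmem
  have h3 := hmem.2 i (by
    have : ((-i + 1).toNat : ℤ) = -i + 1 := Int.toNat_of_nonneg (by omega)
    rw [this]
    omega)
  rw [proj_of_mem_same ℋ hh] at h3
  exact h3

include hpos hm he in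
/-- the graded dual of a module bounded above is bounded below -/
theorem gd_bounded (N : ℤ) (hN : ∀ i, N < i → ℋ i = ⊥) (j : ℤ) (hj : j < -N)
    (f : gdual 𝒜 ℋ 𝓔) (hf : f ∈ gdGr 𝒜 ℋ 𝓔 j) : f = 0 := by
  have hij : -j + j = 0 := by ring
  apply gd_nondeg_right 𝒜 hpos m hm 𝓔 e he ℋ hij hf
  intro h hh
  rw [hN (-j) (by omega), AddSubgroup.mem_bot] at hh
  rw [hh, map_zero]

variable [hfin : ∀ i, Module.Finite (GrLC.deg0 𝒜) (GrLC.comp 𝒜 ℋ i)]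

include hpos h0 hm hmsp he hfin in
/-- above the socle bound the graded dual is generated in lower degrees -/
theorem gd_step (M₀ : ℤ)
    (hM₀ : ∀ i < M₀, ∀ h ∈ ℋ i, (∀ r ∈ m.toIdeal, r • h = 0) → h = 0) (j : ℤ) (hj : -j < M₀)
    (f : gdual 𝒜 ℋ 𝓔) (hf : f ∈ gdGr 𝒜 ℋ 𝓔 j) :
    f ∈ Submodule.span R {g : gdual 𝒜 ℋ 𝓔 | ∃ j', j' < j ∧ g ∈ gdGr 𝒜 ℋ 𝓔 j'} := by
  classical
  set G := Submodule.span R {g : gdual 𝒜 ℋ 𝓔 | ∃ j', j' < j ∧ g ∈ gdGr 𝒜 ℋ 𝓔 j'} with hG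
  let U : Submodule (GrLC.deg0 𝒜) (GrLC.comp 𝒜 (gdGr 𝒜 ℋ 𝓔) j) :=
    { carrier := {f | (f : gdual 𝒜 ℋ 𝓔) ∈ G}
      zero_mem' := G.zero_mem
      add_mem' := fun {a b} ha hb => G.add_mem ha hb
      smul_mem' := fun c a ha => G.smul_mem (c : R) ha }
  have hij : -j + j = 0 := by ring
  by_cases hU : U = ⊤
  · have : (⟨f, hf⟩ : GrLC.comp 𝒜 (gdGr 𝒜 ℋ 𝓔) j) ∈ U := by rw [hU]; trivial
    exact this
  · exfalso
    obtain ⟨h, hh, hh0, hann⟩ := gd_ann 𝒜 hpos h0 m hm 𝓔 e he ℋ hij U hU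
    apply hh0
    apply hM₀ (-j) hj h hh
    intro r hr
    rw [hmsp] at hr
    refine Submodule.span_induction (p := fun r _ => r • h = 0) ?_ ?_ ?_ ?_ hr
    · intro x hx
      simp only [Set.mem_iUnion, Set.mem_Ioi, SetLike.mem_coe, exists_prop] at hx
      obtain ⟨s, hs, hxs⟩ := hx
      by_contra hne
      have hxh : x • h ∈ ℋ (s + -j) := by
        have := SetLike.GradedSMul.smul_mem (A := 𝒜) (B := ℋ) hxs hh
        rwa [vadd_eq_add] at this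
      obtain ⟨f₁, hf₁, hf₁h⟩ := enough_homs 𝒜 hpos h0 m hm 𝓔 e he ℋ hxh hne
      let g₁ : gdual 𝒜 ℋ 𝓔 := ⟨f₁, mem_gdual_of_deg 𝒜 ℋ 𝓔 hf₁⟩
      have hg₁ : g₁ ∈ gdGr 𝒜 ℋ 𝓔 (-(s + -j)) := hf₁
      have hxg : x • g₁ ∈ gdGr 𝒜 ℋ 𝓔 j := by
        have := SetLike.GradedSMul.smul_mem (A := 𝒜) (B := gdGr 𝒜 ℋ 𝓔) hxs hg₁
        rw [vadd_eq_add] at this
        rwa [show s + -(s + -j) = j by ring] at this
      have hxG : x • g₁ ∈ G :=
        G.smul_mem x (Submodule.subset_span ⟨-(s + -j), by omega, hg₁⟩)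
      have h1 := hann ⟨x • g₁, hxg⟩ hxG
      apply hf₁h
      rw [map_smul]
      exact h1
    · exact zero_smul R h
    · intro x y _ _ hx hy
      rw [add_smul, hx, hy, add_zero]
    · intro a x _ hx
      rw [smul_eq_mul, mul_smul, hx, smul_zero]

include hpos h0 hm hmsp he hfin in
/-- the graded dual of an Artinian graded module with finite pieces, bounded above, is finitely
generated -/
theorem gd_finite [IsArtinian R H] (N : ℤ) (hN : ∀ i, N < i → ℋ i = ⊥) :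
    Module.Finite R (gdual 𝒜 ℋ 𝓔) := by
  classical
  obtain ⟨M₀, hM₀⟩ := exists_socle_bound 𝒜 hpos m hm ℋ
  set j₀ : ℤ := -M₀ with hj₀
  set G := Submodule.span R {g : gdual 𝒜 ℋ 𝓔 | ∃ j', j' ≤ j₀ ∧ g ∈ gdGr 𝒜 ℋ 𝓔 j'} with hG
  have key : ∀ t : ℕ, ∀ j : ℤ, j ≤ -N - 1 + t → ∀ f : gdual 𝒜 ℋ 𝓔, f ∈ gdGr 𝒜 ℋ 𝓔 j → f ∈ G := by
    intro t
    induction t with
    | zero =>
      intro j hj f hf
      rw [gd_bounded 𝒜 hpos m hm 𝓔 e he ℋ N hN j (by omega) f hf]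
      exact G.zero_mem
    | succ t ih =>
      intro j hj f hf
      by_cases hjt : j ≤ -N - 1 + t
      · exact ih j hjt f hf
      · by_cases hjj : j ≤ j₀
        · exact Submodule.subset_span ⟨j, hjj, hf⟩
        · have h1 := gd_step 𝒜 hpos h0 m hm hmsp 𝓔 e he ℋ M₀ hM₀ j (by omega) f hf
          refine (Submodule.span_le.2 ?_) h1
          rintro g ⟨j', hj', hg⟩
          exact ih j' (by push_cast at hj ⊢; omega) g hg
  have htop : G = ⊤ := by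
    rw [eq_top_iff]
    intro f _
    rw [← sum_proj (gdGr 𝒜 ℋ 𝓔) f]
    refine G.sum_mem fun j _ => ?_
    obtain ⟨t, ht⟩ : ∃ t : ℕ, j ≤ -N - 1 + t := ⟨(j + N + 1).toNat, by omega⟩
    exact key t j ht _ (proj_mem (gdGr 𝒜 ℋ 𝓔) j f)
  -- finite spanning sets of the pieces
  haveI : ∀ j, Module.Finite (GrLC.deg0 𝒜) (GrLC.comp 𝒜 (gdGr 𝒜 ℋ 𝓔) j) :=
    fun j => gd_comp_finite 𝒜 hpos h0 m hm 𝓔 e he ℋ j
  have hsp : ∀ j, ∃ s : Finset (GrLC.comp 𝒜 (gdGr 𝒜 ℋ 𝓔) j),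
      Submodule.span (GrLC.deg0 𝒜) (s : Set (GrLC.comp 𝒜 (gdGr 𝒜 ℋ 𝓔) j)) = ⊤ :=
    fun j => (Module.Finite.fg_top (R := GrLC.deg0 𝒜) (M := GrLC.comp 𝒜 (gdGr 𝒜 ℋ 𝓔) j))
  choose s hs using hsp
  let S : Set (gdual 𝒜 ℋ 𝓔) := ⋃ j ∈ Finset.Icc (-N) j₀,
    (fun x : GrLC.comp 𝒜 (gdGr 𝒜 ℋ 𝓔) j => (x : gdual 𝒜 ℋ 𝓔)) '' (s j : Set _)
  have hSfin : S.Finite :=
    Set.Finite.biUnion (Finset.finite_toSet _) (fun j _ => (Finset.finite_toSet _).image _)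
  have hGS : G ≤ Submodule.span R S := by
    rw [hG, Submodule.span_le]
    rintro g ⟨j', hj', hg⟩
    by_cases hjN : j' < -N
    · rw [gd_bounded 𝒜 hpos m hm 𝓔 e he ℋ N hN j' hjN g hg]
      exact Submodule.zero_mem _
    · have hmem : (⟨g, hg⟩ : GrLC.comp 𝒜 (gdGr 𝒜 ℋ 𝓔) j') ∈
          Submodule.span (GrLC.deg0 𝒜) (s j' : Set (GrLC.comp 𝒜 (gdGr 𝒜 ℋ 𝓔) j')) := by
        rw [hs j']; trivial
      have hgen : ∀ x : GrLC.comp 𝒜 (gdGr 𝒜 ℋ 𝓔) j',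
          x ∈ Submodule.span (GrLC.deg0 𝒜) (s j' : Set (GrLC.comp 𝒜 (gdGr 𝒜 ℋ 𝓔) j')) →
          (x : gdual 𝒜 ℋ 𝓔) ∈ Submodule.span R S := by
        intro x hx
        refine Submodule.span_induction
          (p := fun (x : GrLC.comp 𝒜 (gdGr 𝒜 ℋ 𝓔) j') _ =>
            ((x : gdual 𝒜 ℋ 𝓔) ∈ Submodule.span R S)) ?_ ?_ ?_ ?_ hx
        · intro y hy
          apply Submodule.subset_span
          refine Set.mem_biUnion (Finset.mem_coe.2 (Finset.mem_Icc.2 ⟨by omega, hj'⟩)) ?_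
          exact ⟨y, hy, rfl⟩
        · exact Submodule.zero_mem _
        · intro a b _ _ ha hb
          exact Submodule.add_mem _ ha hb
        · intro c a _ ha
          exact Submodule.smul_mem _ (c : R) ha
      exact hgen _ hmem
  refine ⟨?_⟩
  have : (⊤ : Submodule R (gdual 𝒜 ℋ 𝓔)) = Submodule.span R S := by
    apply le_antisymm _ le_top
    rw [← htop]
    exact hGS
  rw [this]
  exact Submodule.fg_span hSfin

end Groth.Agent.Lib.Helper20.GrVM
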