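import Mathlib
import Groth.Prelude.Def_GrLC
import Groth.Agent.Lib.Helper20.GrVM4
import Groth.Agent.Lib.Helper20.GorTop4
import Groth.Agent.Lib.Helper20.GrArt3
import Groth.Agent.Lib.Helper20.GrFin3

/-!
# Existence of the *canonical module of a positively graded Noetherian ring over a field
-/

set_option autoImplicit false
set_option linter.unusedSectionVars false
set_option linter.unusedVariables false
set_option linter.style.haveILetI false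
set_option maxHeartbeats 800000

namespace Groth.Agent.Lib.Helper20.GrVM

open DirectSum Groth.Agent.Lib.Helper26.GrProj Groth.Agent.Lib.Helper20.GrKit
  Groth.Agent.Lib.Helper20.GrCanW Groth.Agent.Lib.Helper20.GrVG Groth.Agent.Lib.Helper20.GrVK

universe u

section Ev

variable {R : Type u} [CommRing R] [IsNoetherianRing R] (𝒜 : ℤ → AddSubgroup R) [GradedRing 𝒜]
  (hpos : ∀ n : ℤ, n < 0 → 𝒜 n = ⊥) (h0 : IsField (GrLC.deg0 𝒜))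
  (m : HomogeneousIdeal 𝒜) (hm : GrLC.IsStarLocal 𝒜 m)
  (hmsp : m.toIdeal = Ideal.span (⋃ n ∈ Set.Ioi (0 : ℤ), (𝒜 n : Set R)))
  {E' : Type u} [AddCommGroup E'] [Module R E'] (𝓔 : ℤ → AddSubgroup E')
  [DirectSum.Decomposition 𝓔] [SetLike.GradedSMul 𝒜 𝓔] (e : (R ⧸ m.toIdeal) →ₗ[R] E')
  (he : GrLC.IsStarInjHull 𝒜 (GrLC.quotGr 𝒜 m) 𝓔 e)
  {H : Type u} [AddCommGroup H] [Module R H] (ℋ : ℤ → AddSubgroup H)
  [DirectSum.Decomposition ℋ] [SetLike.GradedSMul 𝒜 ℋ]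

/-- evaluation of the graded dual -/
def gdEv : H →ₗ[R] (gdual 𝒜 ℋ 𝓔 →ₗ[R] E') where
  toFun h :=
    { toFun := fun f => f.1 h
      map_add' := fun f g => rfl
      map_smul' := fun r f => rfl }
  map_add' h h' := by
    ext f
    exact map_add f.1 h h'
  map_smul' r h := by
    ext f
    exact map_smul f.1 r h

theorem gdEv_apply (h : H) (f : gdual 𝒜 ℋ 𝓔) : gdEv 𝒜 𝓔 ℋ h f = f.1 h := rfl

theorem gdEv_deg {d : ℤ} {h : H} (hh : h ∈ ℋ d) :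
    GrLC.IsGrHomDeg (gdGr 𝒜 ℋ 𝓔) 𝓔 (gdEv 𝒜 𝓔 ℋ h) d := by
  intro j f hf
  rw [gdEv_apply, add_comm]
  exact hf d h hh

include hpos h0 hm he in
theorem gdEv_injective : Function.Injective (gdEv 𝒜 𝓔 ℋ) := by
  classical
  rw [injective_iff_map_eq_zero]
  intro h hh
  rw [← sum_proj ℋ h]
  apply Finset.sum_eq_zero
  intro i _
  have hij : i + -i = 0 := by ring
  apply gd_nondeg_left 𝒜 hpos h0 m hm 𝓔 e he ℋ hij (proj_mem ℋ i h)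
  intro f hf
  have h1 : f.1 h = 0 := by
    have := LinearMap.congr_fun hh f
    exact this
  have h2 : proj 𝓔 0 (f.1 h) = f.1 (proj ℋ i h) := by
    conv_lhs => rw [← sum_proj ℋ h, map_sum, proj_sum]
    have h3 : ∀ i' ∈ (DirectSum.decompose ℋ h).support,
        proj 𝓔 0 (f.1 (proj ℋ i' h)) = if i' = i then f.1 (proj ℋ i h) else 0 := by
      intro i' _
      have hm1 : f.1 (proj ℋ i' h) ∈ 𝓔 (i' + -i) := hf i' _ (proj_mem ℋ i' h)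
      split_ifs with hii
      · rw [hii] at hm1 ⊢
        rw [hij] at hm1
        exact proj_of_mem_same 𝓔 hm1
      · exact proj_of_mem_ne 𝓔 hm1 (by omega)
    rw [Finset.sum_congr rfl h3, Finset.sum_ite_eq']
    split_ifs with hi
    · rfl
    · rw [proj_eq_zero_of_notMem ℋ hi, map_zero]
  rw [← h2, h1, proj_zero]

variable [hfin : ∀ i, Module.Finite (GrLC.deg0 𝒜) (GrLC.comp 𝒜 ℋ i)]

include hpos h0 hm he hfin in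
theorem exists_gdEv_eq_of_deg {d : ℤ} (Φ : gdual 𝒜 ℋ 𝓔 →ₗ[R] E')
    (hΦ : GrLC.IsGrHomDeg (gdGr 𝒜 ℋ 𝓔) 𝓔 Φ d) : ∃ h ∈ ℋ d, gdEv 𝒜 𝓔 ℋ h = Φ := by
  have hij : d + -d = 0 := by ring
  let l : GrLC.comp 𝒜 (gdGr 𝒜 ℋ 𝓔) (-d) →ₗ[GrLC.deg0 𝒜] GrLC.comp 𝒜 𝓔 0 :=
    { toFun := fun f => ⟨Φ (f : gdual 𝒜 ℋ 𝓔), by
        have := hΦ (-d) _ f.2
        rwa [neg_add_cancel] at this⟩
      map_add' := fun f g => Subtype.ext (map_add Φ _ _)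
      map_smul' := fun c f => Subtype.ext (map_smul Φ (c : R) _) }
  obtain ⟨h, hh, hl⟩ := gd_rep 𝒜 hpos h0 m hm 𝓔 e he ℋ hij l
  refine ⟨h, hh, ?_⟩
  rw [← sub_eq_zero]
  apply hom_eq_zero 𝒜 hpos m hm 𝓔 e he (gdGr 𝒜 ℋ 𝓔) (i := -d)
  · intro j f hf
    rw [LinearMap.sub_apply, neg_neg]
    exact sub_mem (gdEv_deg 𝒜 𝓔 ℋ hh j f hf) (hΦ j f hf)
  · intro f hf
    rw [LinearMap.sub_apply, gdEv_apply, hl f hf]
    exact sub_self _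

include hpos h0 hm he hfin in
theorem gdEv_surjective [Module.Finite R (gdual 𝒜 ℋ 𝓔)] : Function.Surjective (gdEv 𝒜 𝓔 ℋ) := by
  classical
  intro Φ
  obtain ⟨T, hT⟩ := exists_finset_homComp 𝒜 (gdGr 𝒜 ℋ 𝓔) 𝓔 Module.Finite.fg_top Φ
  choose h hh hΦ using fun d => exists_gdEv_eq_of_deg 𝒜 hpos h0 m hm 𝓔 e he ℋ
    (homComp 𝒜 (gdGr 𝒜 ℋ 𝓔) 𝓔 Φ d) (homComp_isGrHomDeg 𝒜 (gdGr 𝒜 ℋ 𝓔) 𝓔 Φ d)
  refine ⟨∑ d ∈ T, h d, ?_⟩
  rw [map_sum]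
  conv_rhs => rw [hT]
  exact Finset.sum_congr rfl fun d _ => hΦ d

end Ev

section Exists

variable {R : Type u} [CommRing R] [IsNoetherianRing R] (𝒜 : ℤ → AddSubgroup R) [GradedRing 𝒜]
  (hpos : ∀ n : ℤ, n < 0 → 𝒜 n = ⊥) (h0 : IsField (GrLC.deg0 𝒜))
  (m : HomogeneousIdeal 𝒜) (hm : GrLC.IsStarLocal 𝒜 m)
  (hmsp : m.toIdeal = Ideal.span (⋃ n ∈ Set.Ioi (0 : ℤ), (𝒜 n : Set R)))
  {E' : Type u} [AddCommGroup E'] [Module R E'] (𝓔 : ℤ → AddSubgroup E')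
  [DirectSum.Decomposition 𝓔] [SetLike.GradedSMul 𝒜 𝓔] (e : (R ⧸ m.toIdeal) →ₗ[R] E')
  (he : GrLC.IsStarInjHull 𝒜 (GrLC.quotGr 𝒜 m) 𝓔 e)
  (n : ℕ) (I : GrLC.StarInjRes 𝒜 𝒜)

include hpos h0 hm hmsp he in
/-- **Existence of the *canonical module.** -/
theorem exists_starCanonical :
    ∃ X : GrLC.GMod.{u} 𝒜, GrLC.IsStarCanonical 𝒜 X.gr 𝓔 m n I := by
  classical
  letI dec : DirectSum.Decomposition (I.Hgr m n) :=
    Groth.Agent.Lib.Helper20.GorTop.HgrDecomposition 𝒜 𝒜 I m n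
  haveI : IsArtinian R (I.H m n) := Groth.Agent.Lib.Helper20.GrArt.isArtinian_H 𝒜 hpos m hm I n
  haveI hfin : ∀ i, Module.Finite (GrLC.deg0 𝒜) (GrLC.comp 𝒜 (I.Hgr m n) i) := by
    intro i
    have h1 := Groth.Agent.Lib.Helper20.GrFin.s13226 𝒜 m hmsp 𝒜 I n i
    have e1 : GrLC.comp 𝒜 (I.Hgr m n) i = I.Hcomp m n i := Submodule.ext (fun _ => Iff.rfl)
    rw [e1]
    exact h1
  obtain ⟨r, hr⟩ := Groth.Agent.Lib.Helper20.GrFin.s13227 𝒜 m hmsp 𝒜 I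
  have hN : ∀ i, r - 1 < i → I.Hgr m n i = ⊥ := by
    intro i hi
    have h1 := hr n i (by omega)
    rw [eq_bot_iff]
    intro x hx
    have hx' : x ∈ I.Hcomp m n i := hx
    rw [h1] at hx'
    rw [AddSubgroup.mem_bot]
    exact (Submodule.mem_bot _).1 hx'
  haveI hfg : Module.Finite R (gdual 𝒜 (I.Hgr m n) 𝓔) :=
    gd_finite 𝒜 hpos h0 m hm hmsp 𝓔 e he (I.Hgr m n) (r - 1) hN
  let X : GrLC.GMod.{u} 𝒜 :=
    { carrier := gdual 𝒜 (I.Hgr m n) 𝓔, gr := gdGr 𝒜 (I.Hgr m n) 𝓔 }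
  refine ⟨X, hfg, ?_⟩
  let Ψ : (gdual 𝒜 (I.Hgr m n) 𝓔 →ₗ[R] E') ≃ₗ[R] I.H m n :=
    (LinearEquiv.ofBijective (gdEv 𝒜 𝓔 (I.Hgr m n))
      ⟨gdEv_injective 𝒜 hpos h0 m hm 𝓔 e he (I.Hgr m n),
        gdEv_surjective 𝒜 hpos h0 m hm 𝓔 e he (I.Hgr m n)⟩).symm
  refine ⟨Ψ, ?_⟩
  intro d Φ hΦ
  obtain ⟨h, hh, rfl⟩ := exists_gdEv_eq_of_deg 𝒜 hpos h0 m hm 𝓔 e he (I.Hgr m n) Φ hΦ
  have : Ψ (gdEv 𝒜 𝓔 (I.Hgr m n) h) = h :=
    LinearEquiv.symm_apply_apply (LinearEquiv.ofBijective (gdEv 𝒜 𝓔 (I.Hgr m n)) _) h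
  change Ψ (gdEv 𝒜 𝓔 (I.Hgr m n) h) ∈ _
  rw [this]
  exact hh

end Exists

end Groth.Agent.Lib.Helper20.GrVM
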