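import Mathlib
import Groth.Agent.Lib.Helper20.GConv2
import Groth.Agent.Lib.Helper20.GConv3
import Groth.Agent.Lib.Helper20.GType2
import Groth.Agent.Lib.Helper20.GDual11
import Groth.Agent.Lib.Helper20.GrVM5
import Groth.Agent.S18648

/-!
# If a Segre product of standard graded CM rings is Gorenstein then so are the factors
-/

set_option autoImplicit false
set_option linter.unusedSectionVars false
set_option linter.unusedVariables false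
set_option linter.style.haveILetI false

universe u

open TensorProduct DirectSum

namespace Groth.Agent.Lib.Helper20.GConv

open Groth.Agent.Lib.Helper26.GrProj Groth.Agent.Lib.Helper20.GrKit
  Groth.Agent.Lib.Helper20.GrConv Groth.Agent.Lib.Helper20.SegTot
  Groth.Agent.Lib.Helper20.GDual Groth.Agent.Lib.Helper20.GrCanW
  Groth.Agent.Lib.Helper20.SegBij Groth.Agent.Lib.Helper20.SegKun
  Groth.Agent.Lib.Helper20.GType Groth.Agent.Lib.Helper20.GrVN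

section NonVanish

variable {R : Type u} [CommRing R] [Nontrivial R] [LocCoh.IsCohenMacaulayRing R]
  (𝒜 : ℤ → AddSubgroup R) [GradedRing 𝒜]
  (hpos : ∀ n : ℤ, n < 0 → 𝒜 n = ⊥)
  (m : HomogeneousIdeal 𝒜) (hm : GrLC.IsStarLocal 𝒜 m)
  (hmsp : m.toIdeal = Ideal.span (⋃ n ∈ Set.Ioi (0 : ℤ), (𝒜 n : Set R)))
  (hstd : Ideal.span (⋃ n ∈ Set.Ioi (0 : ℤ), (𝒜 n : Set R)) =
    Ideal.span ((𝒜 1 : AddSubgroup R) : Set R))
  (n : ℕ) (hn : ringKrullDim R = n) (h2 : 2 ≤ n) (I : GrLC.StarInjRes 𝒜 𝒜)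

include hpos hm hmsp hstd hn h2 I in
/-- the pieces of a standard graded CM ring of positive dimension do not vanish -/
theorem exists_ne_zero_piece (j : ℤ) (hj : 0 ≤ j) : ∃ x ∈ 𝒜 j, x ≠ 0 := by
  obtain ⟨t, rfl⟩ := Int.eq_ofNat_of_zero_le hj
  induction t with
  | zero =>
    refine ⟨1, ?_, one_ne_zero⟩
    rw [Nat.cast_zero]
    exact SetLike.GradedOne.one_mem
  | succ t ih =>
    obtain ⟨x, hx, hx0⟩ := ih (by omega)
    by_contra hcon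
    push Not at hcon
    apply hx0
    have h : ∀ y ∈ 𝒜 1, y * x = 0 := by
      intro y hy
      apply hcon
      have := SetLike.GradedMul.mul_mem (A := 𝒜) hy hx
      have e1 : (1 : ℤ) + (t : ℤ) = ((t + 1 : ℕ) : ℤ) := by
        push_cast
        ring
      rwa [e1] at this
    apply gam_eq_zero 𝒜 hpos m hm n hn I (by omega) x
    refine ⟨1, fun y hy => ?_⟩
    rw [pow_one, mspan 𝒜 m hmsp hstd] at hy
    have hle : Ideal.span ((𝒜 1 : AddSubgroup R) : Set R) ≤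
        LinearMap.ker (LinearMap.toSpanSingleton R R x) := by
      rw [Ideal.span_le]
      intro y hy
      rw [SetLike.mem_coe, LinearMap.mem_ker, LinearMap.toSpanSingleton_apply, smul_eq_mul]
      exact h y hy
    have := hle hy
    rwa [LinearMap.mem_ker, LinearMap.toSpanSingleton_apply] at this

end NonVanish

theorem s18649 (k : Type u) [Field k] (R : Type u) [CommRing R] [Algebra k R]
    (𝒜 : ℤ → Submodule k R) [GradedAlgebra 𝒜] (hposR : ∀ n : ℤ, n < 0 → 𝒜 n = ⊥)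
    (h0R : 𝒜 0 = Submodule.span k {(1 : R)}) [Algebra.FiniteType k R]
    (S : Type u) [CommRing S] [Algebra k S] (ℬ : ℤ → Submodule k S) [GradedAlgebra ℬ]
    (hposS : ∀ n : ℤ, n < 0 → ℬ n = ⊥) (h0S : ℬ 0 = Submodule.span k {(1 : S)})
    [Algebra.FiniteType k S]
    (T : Type u) [CommRing T] [Algebra k T] (𝒯 : ℤ → Submodule k T) [GradedAlgebra 𝒯]
    (ψ : T →ₐ[k] TensorProduct k R S) (hψ : Function.Injective ψ)
    (hdegT : ∀ n : ℤ, (𝒯 n).map ψ.toLinearMap =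
      Submodule.span k {x : TensorProduct k R S | ∃ a ∈ 𝒜 n, ∃ b ∈ ℬ n, x = a ⊗ₜ[k] b})
    [LocCoh.IsCohenMacaulayRing R] [LocCoh.IsCohenMacaulayRing S]
    (mR : HomogeneousIdeal 𝒜)
    (hmR : mR.toIdeal = Ideal.span (⋃ n ∈ Set.Ioi (0 : ℤ), (𝒜 n : Set R)))
    (hstdR : Ideal.span (⋃ n ∈ Set.Ioi (0 : ℤ), (𝒜 n : Set R)) =
      Ideal.span ((𝒜 1 : Submodule k R) : Set R))
    (I : GrLC.StarInjRes 𝒜 𝒜) (mS : HomogeneousIdeal ℬ)
    (hmS : mS.toIdeal = Ideal.span (⋃ n ∈ Set.Ioi (0 : ℤ), (ℬ n : Set S)))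
    (hstdS : Ideal.span (⋃ n ∈ Set.Ioi (0 : ℤ), (ℬ n : Set S)) =
      Ideal.span ((ℬ 1 : Submodule k S) : Set S))
    (J : GrLC.StarInjRes ℬ ℬ) (r s : ℕ) (hr : ringKrullDim R = r) (hs : ringKrullDim S = s)
    (h2r : 2 ≤ r) (h2s : 2 ≤ s) [LocCoh.IsGorensteinRing T] :
    LocCoh.IsGorensteinRing R ∧ LocCoh.IsGorensteinRing S ∧
      GrLC.endDeg (I.Hgr mR r) = GrLC.endDeg (J.Hgr mS s) ∧ GrLC.endDeg (I.Hgr mR r) < 0 := by
  classical
  haveI : Nontrivial R := Groth.Agent.Lib.Helper20.SegCM.nontrivial_of_dim r hr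
  haveI : Nontrivial S := Groth.Agent.Lib.Helper20.SegCM.nontrivial_of_dim s hs
  haveI : IsNoetherianRing R := Algebra.FiniteType.isNoetherianRing k R
  haveI : IsNoetherianRing S := Algebra.FiniteType.isNoetherianRing k S
  haveI : IsNoetherianRing T :=
    Groth.Agent.S18646.result k R 𝒜 hposR h0R S ℬ hposS h0S T 𝒯 ψ hψ hdegT
  haveI : Algebra.FiniteType k T :=
    Groth.Agent.Lib.Helper20.SegDim.finiteType_segre 𝒜 ℬ 𝒯 ψ hposR h0R hposS h0S hψ hdegT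
  haveI : Nontrivial (R ⊗[k] S) :=
    Algebra.TensorProduct.nontrivial_of_algebraMap_injective_of_flat_left k R S
      (algebraMap k S).injective
  haveI : Nontrivial T := ⟨0, 1, fun h => zero_ne_one (α := R ⊗[k] S)
    (by rw [← map_zero ψ, ← map_one ψ, h])⟩
  haveI hCMT : LocCoh.IsCohenMacaulayRing T :=
    { isCohenMacaulayLocalRing_localization := fun p _ =>
        haveI := LocCoh.IsGorensteinRing.isGorensteinLocalRing_localization (A := T) p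
        Groth.Agent.S0341.result _ }
  have hneg := (Groth.Agent.S18648.result k R 𝒜 hposR h0R S ℬ hposS h0S T 𝒯 ψ hψ hdegT mR hmR
    hstdR I mS hmS hstdS J r s hr hs h2r h2s).1 hCMT
  have h0T : 𝒯 0 = Submodule.span k {(1 : T)} :=
    Groth.Agent.Lib.Helper20.SegDim.piece_zero_eq hψ hdegT h0R h0S
  have hposT : ∀ n : ℤ, n < 0 → 𝒯 n = ⊥ := fun n hn =>
    Groth.Agent.Lib.Helper20.SegDim.piece_eq_bot_of_neg hψ hdegT (hposR n hn)
  have hdimT : ringKrullDim T = ((r + s - 1 : ℕ) : WithBot ℕ∞) :=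
    Groth.Agent.Lib.Helper20.SegDim.ringKrullDim_segre 𝒜 ℬ 𝒯 ψ hposR h0R hposS h0S hψ hdegT r s
      hr hs (by omega) (by omega)
  have hT : GrSeg.IsSegreRing 𝒜 ℬ 𝒯 ψ := ⟨hψ, hdegT⟩
  obtain ⟨mT, hmT⟩ : ∃ mT : HomogeneousIdeal 𝒯,
      mT.toIdeal = Ideal.span (⋃ n ∈ Set.Ioi (0 : ℤ), (𝒯 n : Set T)) :=
    ⟨Groth.Agent.Lib.Helper20.SegCM.irrH 𝒯, Groth.Agent.Lib.Helper20.SegCM.irrH_toIdeal 𝒯⟩
  obtain ⟨IT⟩ : Nonempty (GrLC.StarInjRes 𝒯 𝒯) :=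
    Groth.Agent.Lib.Helper20.SegCM.nonempty_starInjRes'
  -- hulls
  obtain ⟨ER, _, _, 𝓔R, _, _, eR, heR⟩ := exists_hull k R 𝒜 hposR h0R mR hmR
  obtain ⟨ES, _, _, 𝓔S, _, _, eS, heS⟩ := exists_hull k S ℬ hposS h0S mS hmS
  obtain ⟨ET, _, _, 𝓔T, _, _, eT, heT⟩ := exists_hull k T 𝒯 hposT h0T mT hmT
  haveI : SetLike.GradedSMul (asGr 𝒜) 𝓔R :=
    ⟨fun {i j} {a d} ha hx => SetLike.GradedSMul.smul_mem (A := 𝒜) ha hx⟩
  haveI : SetLike.GradedSMul (asGr ℬ) 𝓔S :=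
    ⟨fun {i j} {a d} ha hx => SetLike.GradedSMul.smul_mem (A := ℬ) ha hx⟩
  haveI : SetLike.GradedSMul (asGr 𝒯) 𝓔T :=
    ⟨fun {i j} {a d} ha hx => SetLike.GradedSMul.smul_mem (A := 𝒯) ha hx⟩
  have hposR' := hpos_asGr k R 𝒜 hposR
  have hposS' := hpos_asGr k S ℬ hposS
  have hposT' := hpos_asGr k T 𝒯 hposT
  have hmR' := isStarLocal_asGr k R 𝒜 hposR h0R mR hmR
  have hmS' := isStarLocal_asGr k S ℬ hposS h0S mS hmS
  have hmT' := isStarLocal_asGr k T 𝒯 hposT h0T mT hmT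
  have h0R' : IsField (GrLC.deg0 (asGr 𝒜)) := Groth.Agent.Lib.Helper20.SegCM.isField_deg0 𝒜 h0R
  have h0S' : IsField (GrLC.deg0 (asGr ℬ)) := Groth.Agent.Lib.Helper20.SegCM.isField_deg0 ℬ h0S
  have h0T' : IsField (GrLC.deg0 (asGr 𝒯)) := Groth.Agent.Lib.Helper20.SegCM.isField_deg0 𝒯 h0T
  have heR' := isStarInjHull_toAS 𝒜 mR 𝓔R eR heR
  have heS' := isStarInjHull_toAS ℬ mS 𝓔S eS heS
  have heT' := isStarInjHull_toAS 𝒯 mT 𝓔T eT heT
  -- canonical modules of `R` and `S`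
  let I' : GrLC.StarInjRes (asGr 𝒜) (asGr 𝒜) := resToAS I
  let J' : GrLC.StarInjRes (asGr ℬ) (asGr ℬ) := resToAS J
  letI dHR : DirectSum.Decomposition (I'.Hgr (idealToAS 𝒜 mR) r) :=
    Groth.Agent.Lib.Helper20.GorTop.HgrDecomposition (asGr 𝒜) (asGr 𝒜) I' (idealToAS 𝒜 mR) r
  letI dHS : DirectSum.Decomposition (J'.Hgr (idealToAS ℬ mS) s) :=
    Groth.Agent.Lib.Helper20.GorTop.HgrDecomposition (asGr ℬ) (asGr ℬ) J' (idealToAS ℬ mS) s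
  obtain ⟨XR, hfinR, ψR, hψR⟩ := Groth.Agent.Lib.Helper20.GrVM.exists_starCanonical (asGr 𝒜)
    hposR' h0R' (idealToAS 𝒜 mR) hmR' hmR 𝓔R eR heR' r I'
  obtain ⟨XS, hfinS, ψS, hψS⟩ := Groth.Agent.Lib.Helper20.GrVM.exists_starCanonical (asGr ℬ)
    hposS' h0S' (idealToAS ℬ mS) hmS' hmS 𝓔S eS heS' s J'
  haveI := hfinR
  haveI := hfinS
  haveI : SetLike.GradedSMul 𝒜 XR.gr :=
    ⟨fun {i j} {a d} ha hx => SetLike.GradedSMul.smul_mem (A := asGr 𝒜) ha hx⟩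
  haveI : SetLike.GradedSMul ℬ XS.gr :=
    ⟨fun {i j} {a d} ha hx => SetLike.GradedSMul.smul_mem (A := asGr ℬ) ha hx⟩
  letI : Module k XR.carrier := Module.compHom XR.carrier (algebraMap k R)
  haveI : IsScalarTower k R XR.carrier := ⟨fun c r x => by
    change (c • r) • x = algebraMap k R c • (r • x)
    rw [Algebra.smul_def, mul_smul]⟩
  letI : Module k XS.carrier := Module.compHom XS.carrier (algebraMap k S)
  haveI : IsScalarTower k S XS.carrier := ⟨fun c r x => by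
    change (c • r) • x = algebraMap k S c • (r • x)
    rw [Algebra.smul_def, mul_smul]⟩
  have hCR : GrLC.IsStarCanonical 𝒜 XR.gr 𝓔R mR r I := ⟨hfinR, ψR, fun d f hf => hψR d f hf⟩
  have hCS : GrLC.IsStarCanonical ℬ XS.gr 𝓔S mS s J := ⟨hfinS, ψS, fun d f hf => hψS d f hf⟩
  -- the Segre product of the canonical modules
  have hkA : ∀ c : k, algebraMap k R c ∈ asGr 𝒜 0 := algebraMap_mem_asGr 𝒜
  have hkB : ∀ c : k, algebraMap k S c ∈ asGr ℬ 0 := algebraMap_mem_asGr ℬ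
  have hkT : ∀ c : k, algebraMap k T c ∈ asGr 𝒯 0 := algebraMap_mem_asGr 𝒯
  have hψ' : ∀ n t, t ∈ asGr 𝒯 n → ψ t ∈ GrSeg.segrePiece k (asGr 𝒜) (asGr ℬ) n := by
    intro n t ht
    have h1 : ψ t ∈ (𝒯 n).map ψ.toLinearMap := ⟨t, ht, rfl⟩
    rw [hdegT n] at h1
    exact h1
  have hψs : ∀ n, ∀ z ∈ GrSeg.segrePiece k (asGr 𝒜) (asGr ℬ) n, ∃ t ∈ asGr 𝒯 n, ψ t = z := by
    intro n z hz
    have h1 : z ∈ (𝒯 n).map ψ.toLinearMap := by
      rw [hdegT n]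
      exact hz
    obtain ⟨t, ht, rfl⟩ := h1
    exact ⟨t, ht, rfl⟩
  haveI : SetLike.GradedSMul 𝒯 (W0gr hkA hkB ψ hψ' XR.gr XS.gr) :=
    ⟨fun {i j} {a d} ha hx => SetLike.GradedSMul.smul_mem (A := asGr 𝒯)
      (B := W0gr hkA hkB ψ hψ' XR.gr XS.gr) ha hx⟩
  have hP := isSegreMod_W0 hkA hkB ψ hψ' XR.gr XS.gr
  have hCT := Groth.Agent.Lib.Helper20.GDual.s19757 k R 𝒜 hposR h0R S ℬ hposS h0S T 𝒯 ψ hT
    mR hmR I mS hmS J mT hmT IT r s hr hs h2r h2s ER 𝓔R eR heR XR.carrier XR.gr hCR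
    ES 𝓔S eS heS XS.carrier XS.gr hCS ET 𝓔T eT heT
    ↥(W0 hkA hkB ψ hψ' XR.gr XS.gr) (W0gr hkA hkB ψ hψ' XR.gr XS.gr)
    (w0incl hkA hkB ψ hψ' XR.gr XS.gr) hP
  have hCT' := isStarCanonical_toAS 𝒯 mT 𝓔T (W0gr hkA hkB ψ hψ' XR.gr XS.gr) (r + s - 1) IT hCT
  obtain ⟨a, f, hf, hfa⟩ := (Groth.Agent.Lib.Helper20.GorGr.main (asGr 𝒯) hposT' h0T'
    (idealToAS 𝒯 mT) hmT' hmT (r + s - 1) hdimT (resToAS IT) 𝓔T eT heT'
    (W0gr hkA hkB ψ hψ' XR.gr XS.gr) hCT').1 inferInstance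
  -- the generator
  obtain ⟨u, hu, v, hv, hu0, hv0, huv⟩ := exists_uv hkA hkB hkT ψ hψ' (h0k_asGr k T 𝒯 h0T)
    XR.gr XS.gr f hf a hfa
  have hstdR' : Ideal.span (⋃ n ∈ Set.Ioi (0 : ℤ), (asGr 𝒜 n : Set R)) =
      Ideal.span ((asGr 𝒜 1 : AddSubgroup R) : Set R) := hstdR
  have hstdS' : Ideal.span (⋃ n ∈ Set.Ioi (0 : ℤ), (asGr ℬ n : Set S)) =
      Ideal.span ((asGr ℬ 1 : AddSubgroup S) : Set S) := hstdS
  have hneR := exists_ne_zero_piece (asGr 𝒜) hposR' (idealToAS 𝒜 mR) hmR' hmR hstdR' r hr h2r I'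
  have hneS := exists_ne_zero_piece (asGr ℬ) hposS' (idealToAS ℬ mS) hmS' hmS hstdS' s hs h2s J'
  have hWR := smul_u_inj hkA hkB ψ hψ' hψs hposR' hneS XR.gr XS.gr f hf u v huv
  have hWS := smul_v_inj hkA hkB ψ hψ' hψs hposS' hneR XR.gr XS.gr f hf u v huv
  have hVR := exists_smul_u_eq hkA hkB ψ hψ' hψs hposS' hneR hneS XR.gr XS.gr f hf a hfa u v huv hv
  have hVS := exists_smul_v_eq hkA hkB ψ hψ' hψs hposR' hneR hneS XR.gr XS.gr f hf a hfa u v huv hu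
  have gR := isGorenstein (asGr 𝒜) hposR' h0R' (idealToAS 𝒜 mR) hmR' hmR hstdR' 𝓔R eR heR' XR.gr
    r hr h2r I' ψR hψR a u hu hWR hVR
  have gS := isGorenstein (asGr ℬ) hposS' h0S' (idealToAS ℬ mS) hmS' hmS hstdS' 𝓔S eS heS' XS.gr
    s hs h2s J' ψS hψS a v hv hWS hVS
  have eR := endDeg_eq_neg (asGr 𝒜) hposR' h0R' (idealToAS 𝒜 mR) hmR' hmR hstdR' 𝓔R eR heR' XR.gr
    r hr h2r I' ψR hψR a u hu hu0 hWR hVR
  have eS := endDeg_eq_neg (asGr ℬ) hposS' h0S' (idealToAS ℬ mS) hmS' hmS hstdS' 𝓔S eS heS' XS.gr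
    s hs h2s J' ψS hψS a v hv hv0 hWS hVS
  refine ⟨gR, gS, ?_, hneg.1⟩
  have eR' : GrLC.endDeg (I.Hgr mR r) = (((-a : ℤ) : WithTop ℤ) : WithBot (WithTop ℤ)) := eR
  have eS' : GrLC.endDeg (J.Hgr mS s) = (((-a : ℤ) : WithTop ℤ) : WithBot (WithTop ℤ)) := eS
  rw [eR', eS']

end Groth.Agent.Lib.Helper20.GConv
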