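import Mathlib
import Groth.Agent.Lib.Helper20.GDual6
import Groth.Agent.Lib.Helper20.SegTLK4
import Groth.Agent.Lib.Helper20.SegKun2
import Groth.Agent.Lib.Helper20.GorGr6
import Groth.Agent.Lib.Helper20.SegCM6
import Groth.Agent.Lib.Helper20.SegDim
import Groth.Agent.Lib.Helper14.GrDualLib
import Groth.Agent.Lib.helper11.SG8
import Groth.Agent.S18646

/-!
# A Cohen–Macaulay Segre product of Gorenstein graded rings with equal a-invariants is Gorenstein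
-/

set_option autoImplicit false
set_option linter.unusedSectionVars false
set_option linter.unusedVariables false
set_option linter.style.haveILetI false

universe u

open TensorProduct DirectSum

namespace Groth.Agent.Lib.Helper20.GDual

open Groth.Agent.Lib.Helper26.GrProj Groth.Agent.Lib.Helper20.SegAc Groth.Agent.Lib.Helper20.GrKit
  Groth.Agent.Lib.Helper20.Ku Groth.Agent.Lib.Helper20.SegTot Groth.Agent.Lib.Helper20.GrConv
  Groth.Agent.Lib.Helper20.SegKun Groth.Agent.Lib.Helper20.SegTLK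

theorem s18659 (k : Type u) [Field k] (R : Type u) [CommRing R] [Algebra k R]
    (𝒜 : ℤ → Submodule k R) [GradedAlgebra 𝒜] (hposR : ∀ n : ℤ, n < 0 → 𝒜 n = ⊥)
    (h0R : 𝒜 0 = Submodule.span k {(1 : R)}) [Algebra.FiniteType k R]
    (S : Type u) [CommRing S] [Algebra k S] (ℬ : ℤ → Submodule k S) [GradedAlgebra ℬ]
    (hposS : ∀ n : ℤ, n < 0 → ℬ n = ⊥) (h0S : ℬ 0 = Submodule.span k {(1 : S)})
    [Algebra.FiniteType k S]
    (T : Type u) [CommRing T] [Algebra k T] (𝒯 : ℤ → Submodule k T) [GradedAlgebra 𝒯]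
    (ψ : T →ₐ[k] TensorProduct k R S) (hψ : Function.Injective ψ)
    (hdegT : ∀ n : ℤ, (𝒯 n).map ψ.toLinearMap =
      Submodule.span k {x : TensorProduct k R S | ∃ a ∈ 𝒜 n, ∃ b ∈ ℬ n, x = a ⊗ₜ[k] b})
    [LocCoh.IsGorensteinRing R] [LocCoh.IsGorensteinRing S]
    (mR : HomogeneousIdeal 𝒜)
    (hmR : mR.toIdeal = Ideal.span (⋃ n ∈ Set.Ioi (0 : ℤ), (𝒜 n : Set R)))
    (I : GrLC.StarInjRes 𝒜 𝒜) (mS : HomogeneousIdeal ℬ)
    (hmS : mS.toIdeal = Ideal.span (⋃ n ∈ Set.Ioi (0 : ℤ), (ℬ n : Set S)))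
    (J : GrLC.StarInjRes ℬ ℬ) (r s : ℕ) (hr : ringKrullDim R = r) (hs : ringKrullDim S = s)
    (h2r : 2 ≤ r) (h2s : 2 ≤ s)
    (haeq : GrLC.endDeg (I.Hgr mR r) = GrLC.endDeg (J.Hgr mS s))
    [LocCoh.IsCohenMacaulayRing T] : LocCoh.IsGorensteinRing T := by
  classical
  haveI : Nontrivial R := Groth.Agent.Lib.Helper20.SegCM.nontrivial_of_dim r hr
  haveI : Nontrivial S := Groth.Agent.Lib.Helper20.SegCM.nontrivial_of_dim s hs
  haveI : IsNoetherianRing R := Algebra.FiniteType.isNoetherianRing k R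
  haveI : IsNoetherianRing S := Algebra.FiniteType.isNoetherianRing k S
  haveI : IsNoetherianRing T :=
    Groth.Agent.S18646.result k R 𝒜 hposR h0R S ℬ hposS h0S T 𝒯 ψ hψ hdegT
  haveI : Algebra.FiniteType k T :=
    Groth.Agent.Lib.Helper20.SegDim.finiteType_segre 𝒜 ℬ 𝒯 ψ hposR h0R hposS h0S hψ hdegT
  haveI : IsNoetherianRing (R ⊗[k] S) := Algebra.FiniteType.isNoetherianRing k _
  haveI : Nontrivial (R ⊗[k] S) :=
    Algebra.TensorProduct.nontrivial_of_algebraMap_injective_of_flat_left k R S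
      (algebraMap k S).injective
  haveI : Nontrivial T := ⟨0, 1, fun h => zero_ne_one (α := R ⊗[k] S)
    (by rw [← map_zero ψ, ← map_one ψ, h])⟩
  haveI hCMR : LocCoh.IsCohenMacaulayRing R :=
    { isCohenMacaulayLocalRing_localization := fun p _ =>
        haveI := LocCoh.IsGorensteinRing.isGorensteinLocalRing_localization (A := R) p
        Groth.Agent.S0341.result _ }
  haveI hCMS : LocCoh.IsCohenMacaulayRing S :=
    { isCohenMacaulayLocalRing_localization := fun p _ =>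
        haveI := LocCoh.IsGorensteinRing.isGorensteinLocalRing_localization (A := S) p
        Groth.Agent.S0341.result _ }
  have h0T : 𝒯 0 = Submodule.span k {(1 : T)} :=
    Groth.Agent.Lib.Helper20.SegDim.piece_zero_eq hψ hdegT h0R h0S
  have hposT : ∀ n : ℤ, n < 0 → 𝒯 n = ⊥ := fun n hn =>
    Groth.Agent.Lib.Helper20.SegDim.piece_eq_bot_of_neg hψ hdegT (hposR n hn)
  have hdimT : ringKrullDim T = ((r + s - 1 : ℕ) : WithBot ℕ∞) :=
    Groth.Agent.Lib.Helper20.SegDim.ringKrullDim_segre 𝒜 ℬ 𝒯 ψ hposR h0R hposS h0S hψ hdegT r s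
      hr hs (by omega) (by omega)
  obtain ⟨n, hn⟩ : ∃ n : ℕ, n + 2 = r + s := ⟨r + s - 2, by omega⟩
  have hdimT' : ringKrullDim T = ((n + 1 : ℕ) : WithBot ℕ∞) := by
    rw [hdimT]
    congr 1
    omega
  have hT : GrSeg.IsSegreRing 𝒜 ℬ 𝒯 ψ := ⟨hψ, hdegT⟩
  -- the irrelevant ideal of `T` and a resolution of `T`
  obtain ⟨mT, hmT⟩ : ∃ mT : HomogeneousIdeal 𝒯,
      mT.toIdeal = Ideal.span (⋃ n ∈ Set.Ioi (0 : ℤ), (𝒯 n : Set T)) :=
    ⟨Groth.Agent.Lib.Helper20.SegCM.irrH 𝒯, Groth.Agent.Lib.Helper20.SegCM.irrH_toIdeal 𝒯⟩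
  obtain ⟨IT⟩ : Nonempty (GrLC.StarInjRes 𝒯 𝒯) :=
    Groth.Agent.Lib.Helper20.SegCM.nonempty_starInjRes'
  -- `k`-structures
  letI : ∀ i, Module k ((resToAS I).X i).carrier :=
    fun i => Module.compHom ((resToAS I).X i).carrier (algebraMap k R)
  haveI : ∀ i, IsScalarTower k R ((resToAS I).X i).carrier := fun i => ⟨fun c r x => by
    change (c • r) • x = algebraMap k R c • (r • x)
    rw [Algebra.smul_def, mul_smul]⟩
  letI : ∀ i, Module k ((resToAS J).X i).carrier :=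
    fun i => Module.compHom ((resToAS J).X i).carrier (algebraMap k S)
  haveI : ∀ i, IsScalarTower k S ((resToAS J).X i).carrier := fun i => ⟨fun c r x => by
    change (c • r) • x = algebraMap k S c • (r • x)
    rw [Algebra.smul_def, mul_smul]⟩
  letI : ∀ i, Module k ((resToAS IT).X i).carrier :=
    fun i => Module.compHom ((resToAS IT).X i).carrier (algebraMap k T)
  haveI : ∀ i, IsScalarTower k T ((resToAS IT).X i).carrier := fun i => ⟨fun c r x => by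
    change (c • r) • x = algebraMap k T c • (r • x)
    rw [Algebra.smul_def, mul_smul]⟩
  letI dHR : DirectSum.Decomposition ((resToAS I).Hgr (idealToAS 𝒜 mR) r) :=
    Groth.Agent.Lib.Helper20.GorTop.HgrDecomposition (asGr 𝒜) (asGrM 𝒜) (resToAS I)
      (idealToAS 𝒜 mR) r
  letI dHS : DirectSum.Decomposition ((resToAS J).Hgr (idealToAS ℬ mS) s) :=
    Groth.Agent.Lib.Helper20.GorTop.HgrDecomposition (asGr ℬ) (asGrM ℬ) (resToAS J)
      (idealToAS ℬ mS) s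
  letI dHT : DirectSum.Decomposition ((resToAS IT).Hgr (idealToAS 𝒯 mT) (n + 1)) :=
    Groth.Agent.Lib.Helper20.GorTop.HgrDecomposition (asGr 𝒯) (asGrM 𝒯) (resToAS IT)
      (idealToAS 𝒯 mT) (n + 1)
  -- the top local cohomologies of `R` and `S` are shifted graded duals
  obtain ⟨gR, βR, hGR⟩ := exists_gdual_H k R 𝒜 hposR h0R mR hmR I r hr
  obtain ⟨gS, βS, hGS⟩ := exists_gdual_H k S ℬ hposS h0S mS hmS J s hs
  have hposR' := Groth.Agent.Lib.Helper20.StdOne.hpos_AS 𝒜 hposR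
  have hposS' := Groth.Agent.Lib.Helper20.StdOne.hpos_AS ℬ hposS
  have hposT' := Groth.Agent.Lib.Helper20.StdOne.hpos_AS 𝒯 hposT
  have eR := endDeg_of_shift_gdual (k := k) (asGr 𝒜) hposR'
    ((resToAS I).Hgr (idealToAS 𝒜 mR) r) gR βR hGR
  have eS := endDeg_of_shift_gdual (k := k) (asGr ℬ) hposS'
    ((resToAS J).Hgr (idealToAS ℬ mS) s) gS βS hGS
  have hg : gR = gS := by
    have h1 : GrLC.endDeg ((resToAS I).Hgr (idealToAS 𝒜 mR) r) =
        GrLC.endDeg ((resToAS J).Hgr (idealToAS ℬ mS) s) := haeq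
    rw [eR, eS] at h1
    have h2 := WithTop.coe_injective (WithBot.coe_injective h1)
    omega
  subst hg
  have hkA : ∀ c : k, algebraMap k R c ∈ asGr 𝒜 0 := algebraMap_mem_asGr 𝒜
  have hkB : ∀ c : k, algebraMap k S c ∈ asGr ℬ 0 := algebraMap_mem_asGr ℬ
  have hkT : ∀ c : k, algebraMap k T c ∈ asGr 𝒯 0 := algebraMap_mem_asGr 𝒯
  have hψ' : ∀ n t, t ∈ asGr 𝒯 n → ψ t ∈ GrSeg.segrePiece k (asGr 𝒜) (asGr ℬ) n := by
    intro n t ht
    have h1 : ψ t ∈ (𝒯 n).map ψ.toLinearMap := ⟨t, ht, rfl⟩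
    rw [hdegT n] at h1
    exact h1
  have hψs : ∀ n, ∀ z ∈ GrSeg.segrePiece k (asGr 𝒜) (asGr ℬ) n, ∃ t ∈ asGr 𝒯 n, ψ t = z := by
    intro n z hz
    have h1 : z ∈ (𝒯 n).map ψ.toLinearMap := by
      rw [hdegT n]
      exact hz
    obtain ⟨t, ht, rfl⟩ := h1
    exact ⟨t, ht, rfl⟩
  have hP := isSegreMod_self k R 𝒜 S ℬ T 𝒯 ψ hψ hdegT
  have hφp' : ∀ n : ℤ, ψ.toLinearMap '' (asGrM 𝒯 n : Set T) =
      (GrSeg.segrePiece k (asGrM 𝒜) (asGrM ℬ) n : Set (R ⊗[k] S)) := hP.image_piece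
  have hyp : TorsHyp ψ (resToAS I) (resToAS J) (idealToAS 𝒜 mR) (idealToAS ℬ mS)
      (idealToAS 𝒯 mT).toIdeal := fun z =>
    mem_gam_TP_iff 𝒜 ℬ 𝒯 ψ hT mR hmR mS hmS mT hmT
      (cxOf (k := k) (resToAS I)).T (cxOf (k := k) (resToAS J)).T z
  have hacyc : ∀ j, 1 ≤ j → Subsingleton (LocCoh.H (idealToAS 𝒯 mT).toIdeal j
      (TP ψ (cxOf (k := k) (resToAS I)).T (cxOf (k := k) (resToAS J)).T)) :=
    subsingleton_TP 𝒜 ℬ 𝒯 ψ hT mR hmR mS hmS mT hmT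
      (cxOf (k := k) (resToAS I)).T (cxOf (k := k) (resToAS J)).T
      (fun j hj => subsingleton_tot (resToAS I) (idealToAS 𝒜 mR) j hj)
      (fun j hj => subsingleton_tot (resToAS J) (idealToAS ℬ mS) j hj)
  have hvR : ∀ i, r < i → Subsingleton ((resToAS I).H (idealToAS 𝒜 mR) i) := fun i hi =>
    Groth.Agent.Lib.helper11.SG8.subsingleton_H_of_dim_lt (asGr 𝒜) (idealToAS 𝒜 mR) r hr R
      (asGrM 𝒜) (resToAS I) i hi
  have hvS : ∀ i, s < i → Subsingleton ((resToAS J).H (idealToAS ℬ mS) i) := fun i hi =>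
    Groth.Agent.Lib.helper11.SG8.subsingleton_H_of_dim_lt (asGr ℬ) (idealToAS ℬ mS) s hs S
      (asGrM ℬ) (resToAS J) i hi
  obtain ⟨Φ, hΦi, hΦ⟩ := tlk_AS hkA hkB hkT ψ hψ' (resToAS I) (resToAS J) (idealToAS 𝒜 mR)
    (idealToAS ℬ mS) (idealToAS 𝒯 mT) hyp ψ.toLinearMap hP.injective hφp' hP.map_smul n r s hn
    h2r h2s hvR hvS (resToAS IT) hacyc
  haveI hfA : ∀ n, Module.Finite k (pcK (asGr 𝒜) hkA (asGr 𝒜) n) := fun n => by
    have h : pcK (asGr 𝒜) hkA (asGr 𝒜) n = 𝒜 n := Submodule.ext fun x => Iff.rfl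
    rw [h]
    exact Groth.Agent.Lib.Helper14.GrDualLib.finite_piece_ring 𝒜 hposR h0R n
  haveI hfB : ∀ n, Module.Finite k (pcK (asGr ℬ) hkB (asGr ℬ) n) := fun n => by
    have h : pcK (asGr ℬ) hkB (asGr ℬ) n = ℬ n := Submodule.ext fun x => Iff.rfl
    rw [h]
    exact Groth.Agent.Lib.Helper14.GrDualLib.finite_piece_ring ℬ hposS h0S n
  have hGT0 := isGDual_segre hkA hkB ψ hψ hψ' hψs ((resToAS I).Hgr (idealToAS 𝒜 mR) r)
    ((resToAS J).Hgr (idealToAS ℬ mS) s) βR βS gR hGR hGS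
    ((resToAS IT).Hgr (idealToAS 𝒯 mT) (n + 1)) Φ hΦi hΦ
  haveI : SetLike.GradedSMul 𝒯 (shiftGr ((resToAS IT).Hgr (idealToAS 𝒯 mT) (n + 1)) gR) :=
    ⟨fun {i j} {a d} ha hx => SetLike.GradedSMul.smul_mem (A := asGr 𝒯)
      (B := shiftGr ((resToAS IT).Hgr (idealToAS 𝒯 mT) (n + 1)) gR) ha hx⟩
  have hGT : GrSeg.IsGDual T 𝒯 (shiftGr ((resToAS IT).Hgr (idealToAS 𝒯 mT) (n + 1)) gR)
      (pairT ψ βR βS Φ) := ⟨hGT0.map_smul, hGT0.vanish, hGT0.eq_zero, hGT0.exists_eq⟩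
  obtain ⟨e, he⟩ := exists_isStarInjHull k T 𝒯 hposT h0T mT hmT _
    (shiftGr ((resToAS IT).Hgr (idealToAS 𝒯 mT) (n + 1)) gR) (pairT ψ βR βS Φ) hGT
  have he' := Groth.Agent.Lib.Helper20.GrCanW.isStarInjHull_toAS 𝒯 mT
    (shiftGr ((resToAS IT).Hgr (idealToAS 𝒯 mT) (n + 1)) gR) e he
  have hm' := Groth.Agent.Lib.Helper20.StdOne.isStarLocal_AS 𝒯 hposT h0T mT hmT
  have h0' : IsField (GrLC.deg0 (asGr 𝒯)) := Groth.Agent.Lib.Helper20.SegCM.isField_deg0 𝒯 h0T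
  have hC : GrLC.IsStarCanonical (asGr 𝒯) (shiftGr (asGr 𝒯) gR)
      (shiftGr ((resToAS IT).Hgr (idealToAS 𝒯 mT) (n + 1)) gR) (idealToAS 𝒯 mT) (n + 1)
      (resToAS IT) := by
    refine ⟨Module.Finite.self T,
      LinearMap.ringLmapEquivSelf T T ((resToAS IT).H (idealToAS 𝒯 mT) (n + 1)), ?_⟩
    intro d f hf
    have hf' : GrLC.IsGrHomDeg (shiftGr (asGr 𝒯) gR)
        (shiftGr ((resToAS IT).Hgr (idealToAS 𝒯 mT) (n + 1)) gR) f d := hf
    have h1 : (1 : T) ∈ shiftGr (asGr 𝒯) gR gR := by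
      change (1 : T) ∈ asGr 𝒯 (gR - gR)
      rw [sub_self]
      exact SetLike.GradedOne.one_mem
    have h2 := hf' gR 1 h1
    change f 1 ∈ (resToAS IT).Hgr (idealToAS 𝒯 mT) (n + 1) (gR + d - gR) at h2
    rw [add_sub_cancel_left] at h2
    exact h2
  have hmsp' : (idealToAS 𝒯 mT).toIdeal =
      Ideal.span (⋃ n ∈ Set.Ioi (0 : ℤ), (asGr 𝒯 n : Set T)) := hmT
  refine (Groth.Agent.Lib.Helper20.GorGr.main (asGr 𝒯) hposT' h0' (idealToAS 𝒯 mT) hm' hmsp'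
    (n + 1) hdimT' (resToAS IT) (shiftGr ((resToAS IT).Hgr (idealToAS 𝒯 mT) (n + 1)) gR) e he'
    (shiftGr (asGr 𝒯) gR) hC).2 ⟨gR, LinearMap.id, Function.bijective_id, ?_⟩
  intro j x hx
  change x ∈ asGr 𝒯 (j + gR - gR)
  rw [add_sub_cancel_right]
  exact hx

end Groth.Agent.Lib.Helper20.GDual
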