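import Mathlib
import Groth.Agent.Lib.helper11.InjDimKappa

/-!
# A power-torsion module over a Noetherian local ring is injective as soon as `Ext¹(κ, -)`
vanishes on it
-/

set_option autoImplicit false
set_option linter.unusedSectionVars false
set_option linter.unusedVariables false
set_option linter.style.haveILetI false

namespace Groth.Agent.Lib.Helper20.GInj

open CategoryTheory Abelian IsLocalRing Groth.Agent.Lib.helper11.ExtShift
  Groth.Agent.Lib.helper11.InjDimKappa

universe u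

section Extend

variable {A : Type u} [CommRing A] {F Y : Type u} [AddCommGroup F] [Module A F]
  [AddCommGroup Y] [Module A Y]

/-- extension of maps along a submodule when `Ext¹` of the quotient vanishes -/
theorem exists_extension (P : Submodule A F)
    (hE : Subsingleton (Ext (ModuleCat.of A (F ⧸ P)) (ModuleCat.of A Y) 1)) (g : P →ₗ[A] Y) :
    ∃ h : F →ₗ[A] Y, ∀ p : P, h p = g p := by
  have hS := sc_shortExact (Submodule.subtype P) (Submodule.mkQ P)
    (Submodule.injective_subtype P) (Submodule.mkQ_surjective P)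
    (LinearMap.exact_subtype_mkQ P)
  obtain ⟨x₂, hx₂⟩ := Ext.contravariant_sequence_exact₁ hS (ModuleCat.of A Y)
    (Ext.mk₀ (ModuleCat.ofHom g)) (rfl : 1 + 0 = 1) (Subsingleton.elim _ _)
  obtain ⟨φ, rfl⟩ := (Ext.mk₀_bijective _ _).2 x₂
  rw [Ext.mk₀_comp_mk₀] at hx₂
  have h2 := (Ext.mk₀_bijective _ _).1 hx₂
  refine ⟨φ.hom, fun p => ?_⟩
  have h3 := congrArg (fun ψ => ψ.hom p) h2
  exact h3

end Extend

section Local

variable {A : Type u} [CommRing A] [IsLocalRing A] [IsNoetherianRing A]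
  {Y : Type u} [AddCommGroup Y] [Module A Y]
  (htors : ∀ y : Y, ∃ t : ℕ, ∀ a ∈ maximalIdeal A ^ t, a • y = 0)
  (hext : Subsingleton (Ext (ModuleCat.of A (A ⧸ maximalIdeal A)) (ModuleCat.of A Y) 1))

include hext in
/-- `Ext¹` vanishes on finite modules killed by a power of the maximal ideal -/
theorem ext_one_subsingleton (s : ℕ) (F : Type u) [AddCommGroup F] [Module A F]
    [Module.Finite A F] (hF : ∀ a ∈ maximalIdeal A ^ s, ∀ y : F, a • y = 0) :
    Subsingleton (Ext (ModuleCat.of A F) (ModuleCat.of A Y) 1) := by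
  apply ext_subsingleton_of_primes (maximalIdeal A ^ s) (ModuleCat.of A Y) 1 _ F hF
  intro q hq hle
  have h1 : maximalIdeal A ≤ q := hq.le_of_pow_le hle
  have h2 : maximalIdeal A = q := (maximalIdeal.isMaximal A).eq_of_le hq.ne_top h1
  subst h2
  exact hext

include htors in
/-- finitely generated submodules of a power-torsion module are killed by a power -/
theorem exists_pow_of_fg (P : Submodule A Y) (hP : P.FG) :
    ∃ t : ℕ, ∀ a ∈ maximalIdeal A ^ t, ∀ y ∈ P, a • y = 0 := by
  induction P, hP using Submodule.fg_induction with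
  | singleton x =>
    obtain ⟨t, ht⟩ := htors x
    refine ⟨t, fun a ha y hy => ?_⟩
    obtain ⟨c, rfl⟩ := Submodule.mem_span_singleton.1 hy
    rw [smul_comm, ht a ha, smul_zero]
  | sup N₁ N₂ _ _ h₁ h₂ =>
    obtain ⟨t₁, ht₁⟩ := h₁
    obtain ⟨t₂, ht₂⟩ := h₂
    refine ⟨max t₁ t₂, fun a ha y hy => ?_⟩
    obtain ⟨y₁, hy₁, y₂, hy₂, rfl⟩ := Submodule.mem_sup.1 hy
    rw [smul_add, ht₁ a (Ideal.pow_le_pow_right (le_max_left _ _) ha) y₁ hy₁,
      ht₂ a (Ideal.pow_le_pow_right (le_max_right _ _) ha) y₂ hy₂, add_zero]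

include htors hext in
/-- **a power-torsion module with `Ext¹(κ, Y) = 0` is injective** -/
theorem injective_of_torsion : Module.Injective A Y := by
  apply Module.Baer.injective
  intro 𝔟 g
  set 𝔫 := maximalIdeal A with h𝔫
  -- the image of `g` is killed by a power of the maximal ideal
  have hfg : (LinearMap.range g).FG := by
    rw [LinearMap.range_eq_map]
    exact ((Submodule.fg_top 𝔟).2 (IsNoetherian.noetherian 𝔟)).map g
  obtain ⟨t, ht⟩ := exists_pow_of_fg htors _ hfg
  -- Artin–Rees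
  obtain ⟨k, hk⟩ := Ideal.exists_pow_inf_eq_pow_smul 𝔫 (𝔟 : Submodule A A)
  set s := k + t with hs
  have hkill : ∀ b : 𝔟, (b : A) ∈ 𝔫 ^ s → g b = 0 := by
    intro b hb
    have h1 : (b : A) ∈ 𝔫 ^ s • (⊤ : Submodule A A) ⊓ (𝔟 : Submodule A A) := by
      refine ⟨?_, b.2⟩
      rw [smul_eq_mul, Ideal.mul_top]
      exact hb
    rw [hk s (by omega)] at h1
    have h2 : s - k = t := by omega
    rw [h2] at h1
    have key : 𝔫 ^ t • (𝔫 ^ k • (⊤ : Submodule A A) ⊓ (𝔟 : Submodule A A)) ≤
        (LinearMap.ker g).map 𝔟.subtype := by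
      rw [Submodule.smul_le]
      intro a ha y hy
      have hy' : y ∈ 𝔟 := hy.2
      refine ⟨a • (⟨y, hy'⟩ : 𝔟), ?_, rfl⟩
      change g (a • (⟨y, hy'⟩ : 𝔟)) = 0
      rw [map_smul]
      exact ht a ha _ ⟨_, rfl⟩
    obtain ⟨b', hb', e⟩ := key h1
    have : b' = b := Subtype.ext e
    rw [← this]
    exact hb'
  -- the finite length quotient
  let F := A ⧸ 𝔫 ^ s
  let π : A →ₗ[A] F := Submodule.mkQ (𝔫 ^ s)
  let P : Submodule A F := Submodule.map π 𝔟
  let q : 𝔟 →ₗ[A] P := (π.domRestrict 𝔟).codRestrict P (fun b => ⟨b.1, b.2, rfl⟩)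
  have hq : Function.Surjective q := by
    rintro ⟨_, b, hb, rfl⟩
    exact ⟨⟨b, hb⟩, rfl⟩
  have hle : LinearMap.ker q ≤ LinearMap.ker g := by
    intro b hb
    rw [LinearMap.mem_ker] at hb ⊢
    apply hkill b
    have h1 : π b.1 = 0 := congrArg Subtype.val hb
    rw [Submodule.mkQ_apply, Submodule.Quotient.mk_eq_zero] at h1
    exact h1
  let gbar : P →ₗ[A] Y :=
    (Submodule.liftQ (LinearMap.ker q) g hle) ∘ₗ (q.quotKerEquivOfSurjective hq).symm.toLinearMap
  have hgbar : ∀ b : 𝔟, gbar (q b) = g b := by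
    intro b
    change Submodule.liftQ (LinearMap.ker q) g hle ((q.quotKerEquivOfSurjective hq).symm (q b)) = _
    have : (q.quotKerEquivOfSurjective hq).symm (q b) = Submodule.Quotient.mk b := by
      rw [LinearEquiv.symm_apply_eq]
      rfl
    rw [this, Submodule.liftQ_apply]
  have hFP : ∀ a ∈ 𝔫 ^ s, ∀ y : F ⧸ P, a • y = 0 := by
    intro a ha y
    obtain ⟨y', rfl⟩ := Submodule.mkQ_surjective P y
    obtain ⟨c, rfl⟩ := Submodule.mkQ_surjective (𝔫 ^ s) y'
    rw [← map_smul, ← map_smul]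
    have : π (a • c) = 0 := by
      rw [Submodule.mkQ_apply, Submodule.Quotient.mk_eq_zero, smul_eq_mul]
      exact Ideal.mul_mem_right _ _ ha
    change P.mkQ (π (a • c)) = 0
    rw [this, map_zero]
  haveI : Module.Finite A F := Module.Finite.of_surjective π (Submodule.mkQ_surjective _)
  haveI : Module.Finite A (F ⧸ P) := Module.Finite.of_surjective P.mkQ (Submodule.mkQ_surjective _)
  have hE := ext_one_subsingleton hext s (F ⧸ P) hFP
  obtain ⟨h, hh⟩ := exists_extension P hE gbar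
  refine ⟨h ∘ₗ π, fun x hx => ?_⟩
  have := hh (q ⟨x, hx⟩)
  rw [hgbar] at this
  exact this

end Local

end Groth.Agent.Lib.Helper20.GInj
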