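import Mathlib
import Groth.Agent.Lib.Helper20.GInj1
import Groth.Agent.Lib.Helper20.BassRes3
import Groth.Agent.Lib.Helper20.GorTop4
import Groth.Agent.Lib.Helper20.GorGr3
import Groth.Agent.Lib.Helper20.GrKit11
import Groth.Agent.Lib.Helper20.GrKit12
import Groth.Agent.Lib.Helper20.GrKit17
import Groth.Agent.Lib.Helper20.CanonLoc4
import Groth.Agent.Lib.helper11.GorHull
import Groth.Agent.Lib.helper11.LocalDualityCM
import Groth.Agent.S11175
import Groth.Agent.S0325

/-!
# A Cohen–Macaulay *local ring is Gorenstein iff its top local cohomology is *injective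
-/

set_option autoImplicit false
set_option linter.unusedSectionVars false
set_option linter.unusedVariables false
set_option linter.style.haveILetI false

namespace Groth.Agent.Lib.Helper20.GInj

open CategoryTheory Abelian IsLocalRing TensorProduct DirectSum
  Groth.Agent.Lib.Helper26.GrProj Groth.Agent.Lib.Helper20.GrKit
  Groth.Agent.Lib.Helper20.CanonLoc Groth.Agent.Lib.Helper20.BassCount

universe u

theorem s18650 (R : Type u) [CommRing R] [LocCoh.IsCohenMacaulayRing R]
    (𝒜 : ℤ → AddSubgroup R) [GradedRing 𝒜] (m : HomogeneousIdeal 𝒜)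
    (hm : GrLC.IsStarLocal 𝒜 m) (n : ℕ) (hn : m.toIdeal.height = n)
    (I : GrLC.StarInjRes 𝒜 𝒜) :
    LocCoh.IsGorensteinRing R ↔ ∃ (X : GrLC.GMod.{u} 𝒜) (φ : I.H m n ≃ₗ[R] X.carrier),
      GrLC.IsStarInj 𝒜 X.gr ∧ GrLC.IsGrHom (I.Hgr m n) X.gr φ.toLinearMap := by
  classical
  haveI hprime : m.toIdeal.IsPrime := Groth.Agent.Lib.Helper20.GrCoatom.result' R 𝒜 m hm.1
  constructor
  · intro hG
    have hPh : ∀ g r, r ∈ m.toIdeal → proj 𝒜 g r ∈ m.toIdeal :=
      fun g r hr => m.isHomogeneous g hr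
    letI decQ : DirectSum.Decomposition (quoGr 𝒜 m.toIdeal) :=
      quoDecomposition 𝒜 m.toIdeal hPh
    obtain ⟨X, e, he0⟩ := exists_isStarInjHull 𝒜 (quoGr 𝒜 m.toIdeal)
    have he : GrLC.IsStarInjHull 𝒜 (GrLC.quotGr 𝒜 m) X.gr e := by
      rw [quotGr_eq_quoGr]
      exact he0
    obtain ⟨g₁, ψ, hψ⟩ := Groth.Agent.Lib.Helper20.GorTop.main 𝒜 m hm n hn I X.gr e he
    refine ⟨{ carrier := X.carrier, gr := shiftGr X.gr (-g₁) }, ψ,
      isStarInj_shift 𝒜 X.gr he.starInj (-g₁), ?_⟩
    intro g x hx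
    change ψ x ∈ X.gr (g - -g₁)
    rw [sub_neg_eq_add]
    exact hψ g x hx
  · rintro ⟨X, φ, hX, -⟩
    set A := Localization.AtPrime m.toIdeal with hA
    haveI : IsNoetherianRing A :=
      IsLocalization.isNoetherianRing m.toIdeal.primeCompl A inferInstance
    apply Groth.Agent.Lib.Helper20.GorGr.isGorensteinRing_of_starLocal_int 𝒜 m hm
    rw [Groth.Agent.S11175.result]
    have hdim : ringKrullDim A = n := by
      rw [IsLocalization.AtPrime.ringKrullDim_eq_height m.toIdeal A, hn]
      rfl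
    haveI hCM : LocCoh.IsCohenMacaulayLocalRing A :=
      LocCoh.IsCohenMacaulayRing.isCohenMacaulayLocalRing_localization m.toIdeal
    have hdepth := Groth.Agent.Lib.helper11.LocalDuality.depth_eq_of_CM A n hdim
    refine ⟨n, ?_, ?_⟩
    · intro i hi
      rcases lt_or_gt_of_ne hi with hlt | hgt
      · have hJX : maximalIdeal A • (⊤ : Submodule A A) ≠ ⊤ := by
          rw [smul_eq_mul, Ideal.mul_top]
          exact (IsLocalRing.maximalIdeal.isMaximal A).ne_top
        refine Groth.Agent.Lib.helper11.LCKit.subsingleton_of_lt_idealDepth (maximalIdeal A) i A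
          hJX ?_
        change (i : ℕ∞) < LocCoh.depth A A
        rw [hdepth]
        exact_mod_cast hlt
      · exact Groth.Agent.S0325.result A (maximalIdeal A) n hdim.le (ModuleCat.of A A) i hgt
    · obtain ⟨β⟩ := bridge_starInjRes I m n
      obtain ⟨e2⟩ := nonempty_tensor_H_equiv m.toIdeal n
      let κ : X.carrier ≃ₗ[R] LocCoh.H m.toIdeal n R := φ.symm.trans β
      let et : (A ⊗[R] X.carrier) ≃ₗ[A] (A ⊗[R] LocCoh.H m.toIdeal n R) :=
        TensorProduct.AlgebraTensorModule.congr (LinearEquiv.refl A A) κ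
      let e1 := LocalizedModule.equivTensorProduct m.toIdeal.primeCompl X.carrier
      let eY : LocalizedModule m.toIdeal.primeCompl X.carrier ≃ₗ[A]
          LocCoh.H (maximalIdeal A) n A := e1.trans (et.trans e2)
      have h0 := ext_residue_localized_subsingleton 𝒜 X.gr hX m 0
      have hext : Subsingleton (Ext (ModuleCat.of A (A ⧸ maximalIdeal A))
          (ModuleCat.of A (LocCoh.H (maximalIdeal A) n A)) 1) :=
        (Groth.Agent.Lib.helper11.ExtLocEquiv.extCongrRight
          (ModuleCat.of A (ResidueField A)) 1 eY.toModuleIso).symm.toEquiv.subsingleton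
      exact injective_of_torsion
        (Groth.Agent.Lib.helper11.GorHull.isPowerTorsion_H (maximalIdeal A) (ModuleCat.of A A) n)
        hext

end Groth.Agent.Lib.Helper20.GInj
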