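import Mathlib
import Groth.Agent.Lib.Helper20.StdOne1
import Groth.Agent.Lib.Helper20.GorTop4
import Groth.Agent.Lib.Helper20.GDual6
import Groth.Agent.Lib.Helper20.GrVG4

/-!
# One dimensional graded Gorenstein rings: the socle degree of the quotient by a homogeneous
regular parameter
-/

set_option autoImplicit false
set_option linter.unusedSectionVars false
set_option linter.unusedVariables false
set_option linter.style.haveILetI false

namespace Groth.Agent.Lib.Helper20.GOne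

open DirectSum Groth.Agent.Lib.Helper26.GrProj Groth.Agent.Lib.Helper20.GrKit
  Groth.Agent.Lib.Helper20.GrLES Groth.Agent.Lib.Helper20.GrCanW

universe u

section HZero

variable {ι : Type} [AddCommGroup ι] [DecidableEq ι] {R : Type u} [CommRing R]
  {𝒜 : ι → AddSubgroup R} [GradedRing 𝒜]
  {M : Type u} [AddCommGroup M] [Module R M] {ℳ : ι → AddSubgroup M}
  [DirectSum.Decomposition ℳ] [SetLike.GradedSMul 𝒜 ℳ] (E : GrLC.StarInjRes 𝒜 ℳ)
  (b : HomogeneousIdeal 𝒜) (htors : ∀ x : M, x ∈ GrLC.gam b.toIdeal M)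

/-- the map `M → H^0_b(M)` for a torsion module -/
noncomputable def h0map : M →ₗ[R] E.H b 0 :=
  (E.toH b 0) ∘ₗ (LinearMap.codRestrict (E.cocyc b 0) E.ε
    (fun x => ⟨map_mem_gam E.ε _ (htors x), d_eps E x⟩))

theorem h0map_apply (x : M) :
    h0map E b htors x = E.toH b 0 ⟨E.ε x, ⟨map_mem_gam E.ε _ (htors x), d_eps E x⟩⟩ := rfl

theorem h0map_injective : Function.Injective (h0map E b htors) := by
  rw [← LinearMap.ker_eq_bot, LinearMap.ker_eq_bot']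
  intro x hx
  rw [h0map_apply, toH_eq_zero_iff, mem_cobdy_zero] at hx
  apply E.ε_injective
  rw [map_zero]
  exact hx

theorem h0map_mem {n : ι} {x : M} (hx : x ∈ ℳ n) : h0map E b htors x ∈ E.Hgr b 0 n :=
  ⟨⟨E.ε x, ⟨map_mem_gam E.ε _ (htors x), d_eps E x⟩⟩, E.ε_grHom n x hx, rfl⟩

theorem exists_of_mem_Hgr {n : ι} {w : E.H b 0} (hw : w ∈ E.Hgr b 0 n) :
    ∃ x ∈ ℳ n, h0map E b htors x = w := by
  obtain ⟨c, hc, rfl⟩ := hw
  have hk : (c : (E.X 0).carrier) ∈ LinearMap.ker (E.d 0) := c.2.2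
  rw [E.exact_zero] at hk
  obtain ⟨x, hx⟩ := hk
  have hxn : x = proj ℳ n x := by
    apply E.ε_injective
    rw [← proj_hom ℳ (E.X 0).gr E.ε E.ε_grHom n x, hx, proj_of_mem_same _ hc]
  refine ⟨x, ?_, ?_⟩
  · rw [hxn]
    exact proj_mem ℳ n x
  · rw [h0map_apply]
    congr 1
    exact Subtype.ext hx

end HZero

section Main

variable {k : Type u} [Field k] {T : Type u} [CommRing T] [Algebra k T]
  (𝒜 : ℤ → AddSubgroup T) [GradedRing 𝒜]
  (hkA : ∀ c : k, algebraMap k T c ∈ 𝒜 0)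
  (h0k : ∀ t ∈ 𝒜 0, ∃ c : k, t = algebraMap k T c)
  (hpos : ∀ n : ℤ, n < 0 → 𝒜 n = ⊥)
  (m : HomogeneousIdeal 𝒜) (hm : GrLC.IsStarLocal 𝒜 m)
  (hdim : ringKrullDim T = ((1 : ℕ) : WithBot ℕ∞))
  (I : GrLC.StarInjRes 𝒜 𝒜)
  {E' : Type u} [AddCommGroup E'] [Module T E'] [Module k E'] [IsScalarTower k T E']
  (𝓔 : ℤ → AddSubgroup E') [DirectSum.Decomposition 𝓔] [SetLike.GradedSMul 𝒜 𝓔]
  (e : (T ⧸ m.toIdeal) →ₗ[T] E') (he : GrLC.IsStarInjHull 𝒜 (GrLC.quotGr 𝒜 m) 𝓔 e)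
  (β : E' →ₗ[k] T →ₗ[k] k) (hβ : GrSeg.IsGDual T 𝒜 𝓔 β)

include hkA h0k hβ in
/-- the degree zero piece of a graded dual of the ring is a line -/
theorem exists_gen_zero [Nontrivial T] :
    ∃ d₀ ∈ 𝓔 0, d₀ ≠ 0 ∧ ∀ d ∈ 𝓔 0, ∃ c : k, d = algebraMap k T c • d₀ := by
  classical
  obtain ⟨f, hf⟩ : ∃ f : Module.Dual k T, f 1 ≠ 0 := by
    by_contra hcon
    push Not at hcon
    exact one_ne_zero ((Module.forall_dual_apply_eq_zero_iff k (1 : T)).1 hcon)
  obtain ⟨d₀, hd₀, hd₀f⟩ := hβ.exists_eq 0 f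
  have h1mem : (1 : T) ∈ 𝒜 (-0) := by
    rw [neg_zero]
    exact SetLike.GradedOne.one_mem
  have hb1 : β d₀ 1 ≠ 0 := by
    rw [hd₀f 1 h1mem]
    exact hf
  refine ⟨d₀, hd₀, ?_, ?_⟩
  · intro h
    apply hb1
    rw [h, map_zero, LinearMap.zero_apply]
  · intro d hd
    refine ⟨β d 1 / β d₀ 1, ?_⟩
    set c : k := β d 1 / β d₀ 1 with hc
    have hmem : algebraMap k T c • d₀ ∈ 𝓔 0 := by
      have := SetLike.GradedSMul.smul_mem (A := 𝒜) (B := 𝓔) (hkA c) hd₀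
      rwa [vadd_eq_add, zero_add] at this
    have hsub : d - algebraMap k T c • d₀ ∈ 𝓔 0 := sub_mem hd hmem
    have hz := hβ.eq_zero 0 _ hsub (by
      intro x hx
      rw [neg_zero] at hx
      obtain ⟨c', rfl⟩ := h0k x hx
      rw [algebraMap_smul, map_sub, LinearMap.sub_apply, map_smul, LinearMap.smul_apply,
        Algebra.algebraMap_eq_smul_one, map_smul, map_smul, smul_eq_mul, smul_eq_mul, smul_eq_mul,
        hc]
      field_simp
      ring)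
    exact sub_eq_zero.1 hz

include hkA h0k hpos hm hdim he hβ I in
/-- **the socle of the quotient by a homogeneous regular parameter** -/
theorem main [LocCoh.IsGorensteinRing T] [Nontrivial T] (z : T) (d : ℤ) (hd : 0 < d)
    (hz : z ∈ 𝒜 d) (hreg : IsSMulRegular T z)
    (j : ℕ) (hj : m.toIdeal ^ j ≤ Ideal.span {z}) :
    ∃ n₀ : ℤ, (∃ u ∈ 𝒜 n₀, u ∉ Ideal.span {z} ∧
        ∀ t ∈ 𝒜 n₀, ∃ c : k, t - algebraMap k T c * u ∈ Ideal.span {z}) ∧
      ∀ n : ℤ, n₀ < n → ∀ t ∈ 𝒜 n, t ∈ Ideal.span {z} := by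
  classical
  haveI hCM : LocCoh.IsCohenMacaulayRing T :=
    { isCohenMacaulayLocalRing_localization := fun p _ =>
        haveI := LocCoh.IsGorensteinRing.isGorensteinLocalRing_localization (A := T) p
        Groth.Agent.S0341.result _ }
  have hht : m.toIdeal.height = ((1 : ℕ) : ℕ∞) := by
    have := Groth.Agent.Lib.Helper20.GrStarLoc.height_eq_dim 𝒜 hpos m hm
    rw [hdim] at this
    exact_mod_cast this
  obtain ⟨g₀, φ, hφ⟩ := Groth.Agent.Lib.Helper20.GorTop.main 𝒜 m hm 1 hht I 𝓔 e he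
  letI := Groth.Agent.Lib.Helper20.GorTop.HgrDecomposition 𝒜 𝒜 I m 1
  obtain ⟨d₀, hd₀, hd₀ne, hd₀gen⟩ := exists_gen_zero 𝒜 hkA h0k 𝓔 β hβ
  set h₀ := φ.symm d₀ with hh₀
  have hh₀mem : h₀ ∈ I.Hgr m 1 (0 - g₀) :=
    Groth.Agent.Lib.Helper20.GrVG.symm_mem (I.Hgr m 1) 𝓔 φ g₀ hφ hd₀
  have hh₀ne : h₀ ≠ 0 := fun h => hd₀ne (by
    rw [← φ.apply_symm_apply d₀, ← hh₀, h, map_zero])
  have hgen : ∀ h ∈ I.Hgr m 1 (0 - g₀), ∃ c : k, h = algebraMap k T c • h₀ := by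
    intro h hh
    have h1 : φ h ∈ 𝓔 (0 - g₀ + g₀) := hφ _ h hh
    rw [sub_add_cancel] at h1
    obtain ⟨c, hc⟩ := hd₀gen _ h1
    refine ⟨c, ?_⟩
    apply φ.injective
    rw [map_smul, hh₀, φ.apply_symm_apply, hc]
  have hvan : ∀ n : ℤ, 0 - g₀ < n → ∀ h ∈ I.Hgr m 1 n, h = 0 := by
    intro n hn h hh
    have h1 : φ h ∈ 𝓔 (n + g₀) := hφ _ h hh
    rw [Groth.Agent.Lib.Helper20.GDual.gd_pos_bot 𝒜 hpos 𝓔 β hβ (n + g₀) (by omega),
      AddSubgroup.mem_bot] at h1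
    exact φ.injective (by rw [h1, map_zero])
  -- the quotient
  set J : Submodule T T := (Ideal.span {z} : Submodule T T) with hJdef
  have hJ : ∀ g y, y ∈ J → proj 𝒜 g y ∈ J :=
    Groth.Agent.Lib.Helper20.StdOne.span_singleton_proj_stable 𝒜 z d hz
  letI : DirectSum.Decomposition (quoGr 𝒜 J) := quoDecomposition 𝒜 J hJ
  obtain ⟨F⟩ := nonempty_starInjRes 𝒜 (quoGr 𝒜 J)
  have htors : ∀ x : T ⧸ J, x ∈ GrLC.gam m.toIdeal (T ⧸ J) := by
    intro x
    obtain ⟨y, rfl⟩ := J.mkQ_surjective x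
    refine ⟨j, fun r hr => ?_⟩
    rw [← map_smul, Submodule.mkQ_apply, Submodule.Quotient.mk_eq_zero, smul_eq_mul]
    exact Ideal.mul_mem_right _ _ (hj hr)
  have hker : LinearMap.ker J.mkQ = LinearMap.range (z • (LinearMap.id : T →ₗ[T] T)) := by
    rw [Submodule.ker_mkQ, range_smul_id_eq_span]
  obtain ⟨βm, δ, hβgr, hδdeg, h3, h4, h5, h6, h7, h8, h9, h10⟩ :=
    les_regular I F z d hz hreg J.mkQ J.mkQ_surjective (mkQ_isGrHom 𝒜 J) hker m
  haveI hsub : Subsingleton (I.H m 0) :=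
    subsingleton_H_of_lt_dim 𝒜 hpos m hm I 1 hdim 0 (by omega)
  have hδinj : ∀ w : F.H m 0, δ 0 w = 0 → w = 0 := by
    intro w hw
    have hw' : w ∈ LinearMap.ker (δ 0) := hw
    rw [h10 0] at hw'
    obtain ⟨y, rfl⟩ := hw'
    rw [Subsingleton.elim y 0, map_zero]
  refine ⟨0 - g₀ + d, ?_, ?_⟩
  · have hzh : z • h₀ = 0 := by
      apply hvan (d + (0 - g₀)) (by omega)
      exact smul_mem_Hgr I m 1 hz hh₀mem
    obtain ⟨w₀, hw₀, hδw₀⟩ := h7 0 (0 - g₀) h₀ hh₀mem hzh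
    obtain ⟨x₀, hx₀, rfl⟩ := exists_of_mem_Hgr F m htors hw₀
    obtain ⟨u, hu, rfl⟩ := (mem_quoGr 𝒜).1 hx₀
    refine ⟨u, hu, ?_, ?_⟩
    · intro huJ
      apply hh₀ne
      have : J.mkQ u = 0 := by
        rw [Submodule.mkQ_apply, Submodule.Quotient.mk_eq_zero]
        exact huJ
      rw [← hδw₀, this, map_zero, map_zero]
    · intro t ht
      have hw : h0map F m htors (J.mkQ t) ∈ F.Hgr m 0 (0 - g₀ + d) :=
        h0map_mem F m htors (mkQ_mem_quoGr 𝒜 ht)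
      have h1 := hδdeg 0 _ _ hw
      rw [add_sub_cancel_right] at h1
      obtain ⟨c, hc⟩ := hgen _ h1
      refine ⟨c, ?_⟩
      have h2 : δ 0 (h0map F m htors (J.mkQ t) -
          algebraMap k T c • h0map F m htors (J.mkQ u)) = 0 := by
        rw [map_sub, map_smul, hδw₀, hc, sub_self]
      have h3' := hδinj _ h2
      rw [← map_smul, ← map_sub, ← map_smul, ← map_sub] at h3'
      have h4' := h0map_injective F m htors (h3'.trans (map_zero _).symm)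
      rw [Submodule.mkQ_apply, Submodule.Quotient.mk_eq_zero, smul_eq_mul] at h4'
      exact h4'
  · intro n hn t ht
    have hw : h0map F m htors (J.mkQ t) ∈ F.Hgr m 0 n :=
      h0map_mem F m htors (mkQ_mem_quoGr 𝒜 ht)
    have h1 := hδdeg 0 _ _ hw
    have h2 := hvan (n - d) (by omega) _ h1
    have h3' := hδinj _ h2
    have h4' := h0map_injective F m htors (h3'.trans (map_zero _).symm)
    rw [Submodule.mkQ_apply, Submodule.Quotient.mk_eq_zero] at h4'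
    exact h4'

end Main

end Groth.Agent.Lib.Helper20.GOne
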