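import Mathlib

/-!
# A counting lemma: a "generic linear form" that is a non-zero-divisor forces
`dim V ≤ dim W` whenever `x_i V ⊆ W`

Let `K` be a field, `R` a commutative `K`-algebra, `V W` finite dimensional subspaces of `R`
and `x_1, …, x_s ∈ R` with `x_i V ⊆ W` and no nonzero element of `R` killed by all `x_i`.
By McCoy's theorem `L = ∑ x_i Xⁱ` is a non-zero-divisor of `R[X]`, so multiplication by `L`
embeds `V^N` (polynomials of degree `< N` with coefficients in `V`) into `W^(N+s)`; letting
`N → ∞` gives `dim V ≤ dim W`.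
-/

set_option autoImplicit false
set_option linter.unusedSectionVars false
set_option linter.unusedVariables false

namespace Groth.Agent.Lib.Helper20.HilbMono

open Polynomial

universe u v

section

variable {K : Type v} [Field K] {R : Type u} [CommRing R] [Algebra K R]
  (V W : Submodule K R) (s : ℕ) (x : Fin s → R)

open Classical in
/-- the generic linear form -/
noncomputable def genForm : R[X] := Polynomial.ofFn s x

open Classical in
/-- the coefficient maps of `y ↦ L * (∑ y_i Xⁱ)` -/
noncomputable def coeffMap (N j : ℕ) : (Fin N → V) →ₗ[K] R :=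
  ((Polynomial.lcoeff R j).restrictScalars K) ∘ₗ (LinearMap.mulLeft K (genForm s x)) ∘ₗ
    ((Polynomial.ofFn N).restrictScalars K) ∘ₗ (V.subtype.compLeft (Fin N))

open Classical in
theorem coeffMap_apply (N j : ℕ) (y : Fin N → V) :
    coeffMap V s x N j y = (genForm s x * Polynomial.ofFn N (fun i => (y i : R))).coeff j := rfl

open Classical in
theorem coeff_genForm_mul (N j : ℕ) (y : Fin N → V) :
    (genForm s x * Polynomial.ofFn N (fun i => (y i : R))).coeff j =
      ∑ p ∈ Finset.HasAntidiagonal.antidiagonal j, (genForm s x).coeff p.1 *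
        (Polynomial.ofFn N (fun i => (y i : R))).coeff p.2 :=
  Polynomial.coeff_mul _ _ _

variable (hx : ∀ i, ∀ v ∈ V, x i * v ∈ W)

include hx in
theorem coeffMap_mem (N j : ℕ) (y : Fin N → V) : coeffMap V s x N j y ∈ W := by
  classical
  rw [coeffMap_apply, coeff_genForm_mul]
  refine Submodule.sum_mem _ fun p _ => ?_
  by_cases h1 : p.1 < s
  · by_cases h2 : p.2 < N
    · rw [genForm, Polynomial.ofFn_coeff_eq_val_of_lt _ h1, Polynomial.ofFn_coeff_eq_val_of_lt _ h2]
      exact hx _ _ (y _).2
    · rw [Polynomial.ofFn_coeff_eq_zero_of_ge _ (not_lt.1 h2), mul_zero]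
      exact zero_mem _
  · rw [genForm, Polynomial.ofFn_coeff_eq_zero_of_ge _ (not_lt.1 h1), zero_mul]
    exact zero_mem _

/-- the embedding `V^N → W^(N+s)` -/
noncomputable def embMap (N : ℕ) : (Fin N → V) →ₗ[K] (Fin (N + s) → W) :=
  LinearMap.pi fun j : Fin (N + s) =>
    LinearMap.codRestrict W (coeffMap V s x N (j : ℕ)) (coeffMap_mem V W s x hx N j)

variable (hreg : ∀ a : R, (∀ i, a * x i = 0) → a = 0)

include hreg in
theorem genForm_regular (Q : R[X]) (hQ : genForm s x * Q = 0) : Q = 0 := by
  classical
  refine Polynomial.eq_zero_of_mul_eq_zero_of_smul (genForm s x) (fun r hr => ?_) Q hQ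
  apply hreg
  intro i
  have h1 := congrArg (fun P : R[X] => P.coeff (i : ℕ)) hr
  simp only [Polynomial.coeff_smul, Polynomial.coeff_zero, smul_eq_mul] at h1
  rw [genForm, Polynomial.ofFn_coeff_eq_val_of_lt _ i.2] at h1
  exact h1

include hreg in
theorem embMap_injective (N : ℕ) : Function.Injective (embMap V W s x hx N) := by
  classical
  rw [← LinearMap.ker_eq_bot, LinearMap.ker_eq_bot']
  intro y hy
  have hcoef : ∀ j : ℕ, j < N + s →
      (genForm s x * Polynomial.ofFn N (fun i => (y i : R))).coeff j = 0 := by
    intro j hj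
    have h1 := congrFun hy ⟨j, hj⟩
    have h2 := congrArg Subtype.val h1
    exact h2
  have hprod : genForm s x * Polynomial.ofFn N (fun i => (y i : R)) = 0 := by
    ext j
    rw [Polynomial.coeff_zero]
    by_cases hj : j < N + s
    · exact hcoef j hj
    · rw [coeff_genForm_mul]
      refine Finset.sum_eq_zero fun p hp => ?_
      rw [Finset.HasAntidiagonal.mem_antidiagonal] at hp
      by_cases h1 : p.1 < s
      · have h2 : N ≤ p.2 := by omega
        rw [Polynomial.ofFn_coeff_eq_zero_of_ge _ h2, mul_zero]
      · rw [genForm, Polynomial.ofFn_coeff_eq_zero_of_ge _ (not_lt.1 h1), zero_mul]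
  have hQ := genForm_regular s x hreg _ hprod
  funext i
  apply Subtype.ext
  have h3 := congrArg (fun P : R[X] => P.coeff (i : ℕ)) hQ
  simp only [Polynomial.coeff_zero] at h3
  rw [Polynomial.ofFn_coeff_eq_val_of_lt _ i.2] at h3
  exact h3

include hx hreg in
theorem finrank_le_of_regular_forms [FiniteDimensional K V] [FiniteDimensional K W] :
    Module.finrank K V ≤ Module.finrank K W := by
  have key : ∀ N : ℕ, N * Module.finrank K V ≤ (N + s) * Module.finrank K W := by
    intro N
    have h1 := LinearMap.finrank_le_finrank_of_injective (embMap_injective V W s x hx hreg N)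
    rw [Module.finrank_pi_fintype, Module.finrank_pi_fintype] at h1
    simpa using h1
  by_contra hlt
  rw [not_le] at hlt
  have h2 := key (s * Module.finrank K W + 1)
  have h3 : (s * Module.finrank K W + 1) * (Module.finrank K W + 1) ≤
      (s * Module.finrank K W + 1) * Module.finrank K V :=
    Nat.mul_le_mul_left _ hlt
  have h4 := h3.trans h2
  nlinarith

end

end Groth.Agent.Lib.Helper20.HilbMono
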