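import Mathlib
import Groth.Agent.Lib.Helper20.HilbMono1
import Groth.Agent.Lib.Helper20.HilbMono2

/-!
# The Hilbert function of a standard graded Cohen–Macaulay ring of positive dimension
is non-decreasing
-/

set_option autoImplicit false
set_option linter.unusedSectionVars false
set_option linter.unusedVariables false
set_option linter.style.haveILetI false

namespace Groth.Agent.Lib.Helper20.HilbMono

universe u

theorem hilbert_mono (R : Type u) [CommRing R] [LocCoh.IsCohenMacaulayRing R]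
    (𝒜 : ℤ → AddSubgroup R) [GradedRing 𝒜] (hpos : ∀ n : ℤ, n < 0 → 𝒜 n = ⊥)
    (h0 : IsField (GrLC.deg0 𝒜))
    (hstd : Ideal.span (⋃ n ∈ Set.Ioi (0 : ℤ), (𝒜 n : Set R)) =
      Ideal.span ((𝒜 1 : AddSubgroup R) : Set R))
    (h1 : 1 ≤ ringKrullDim R) (n : ℤ) :
    Module.finrank (GrLC.deg0 𝒜) (GrLC.comp 𝒜 𝒜 n) ≤
      Module.finrank (GrLC.deg0 𝒜) (GrLC.comp 𝒜 𝒜 (n + 1)) := by
  obtain ⟨s, x, hx1, hxspan⟩ := exists_gens_deg_one 𝒜
  have hreg : ∀ a : R, (∀ i, a * x i = 0) → a = 0 := by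
    intro a ha
    apply eq_zero_of_irr_le_colon 𝒜 hpos h0 h1 a
    rw [irr_toIdeal, hstd, ← hxspan, Ideal.span_le]
    rintro _ ⟨i, rfl⟩
    change x i ∈ (⊥ : Submodule R R).colon {a}
    rw [Submodule.mem_colon_singleton, Submodule.mem_bot, smul_eq_mul, mul_comm]
    exact ha i
  letI := h0.toField
  haveI : FiniteDimensional (GrLC.deg0 𝒜) (GrLC.comp 𝒜 𝒜 n) :=
    Module.Finite.iff_fg.2 (comp_fg 𝒜 n)
  haveI : FiniteDimensional (GrLC.deg0 𝒜) (GrLC.comp 𝒜 𝒜 (n + 1)) :=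
    Module.Finite.iff_fg.2 (comp_fg 𝒜 (n + 1))
  refine finrank_le_of_regular_forms (GrLC.comp 𝒜 𝒜 n) (GrLC.comp 𝒜 𝒜 (n + 1)) s x ?_ hreg
  intro i v hv
  have h2 : x i * v ∈ 𝒜 (1 + n) := SetLike.GradedMul.mul_mem (hx1 i) hv
  rw [add_comm] at h2
  exact h2

end Groth.Agent.Lib.Helper20.HilbMono
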