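import Mathlib
import Groth.Agent.Lib.Helper20.HilbMono3
import Groth.Agent.Lib.Helper20.GDual10
import Groth.Agent.Lib.Helper14.GrDualLib

/-!
# Hilbert functions of one dimensional standard graded Cohen–Macaulay algebras and of Segre
products: numerics
-/

set_option autoImplicit false
set_option linter.unusedSectionVars false
set_option linter.unusedVariables false
set_option linter.style.haveILetI false

namespace Groth.Agent.Lib.Helper20.GOne

open TensorProduct DirectSum Groth.Agent.Lib.Helper20.GrConv Groth.Agent.Lib.Helper20.HilbMono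

universe u

section Mono

variable {k : Type u} [Field k] {R : Type u} [CommRing R] [Algebra k R]
  (𝒜 : ℤ → Submodule k R) [GradedAlgebra 𝒜]
  (hposR : ∀ n : ℤ, n < 0 → 𝒜 n = ⊥) (h0R : 𝒜 0 = Submodule.span k {(1 : R)})
  [Algebra.FiniteType k R] [LocCoh.IsCohenMacaulayRing R] [Nontrivial R]
  (hstd : Ideal.span (⋃ n ∈ Set.Ioi (0 : ℤ), (𝒜 n : Set R)) =
    Ideal.span ((𝒜 1 : Submodule k R) : Set R))
  (h1 : 1 ≤ ringKrullDim R)

include hposR h0R h1 in
/-- nothing is killed by the irrelevant ideal -/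
theorem eq_zero_of_irr_mul (a : R)
    (ha : ∀ y ∈ Ideal.span (⋃ n ∈ Set.Ioi (0 : ℤ), (𝒜 n : Set R)), y * a = 0) : a = 0 := by
  have hpos' := Groth.Agent.Lib.Helper20.GDual.hpos_asGr k R 𝒜 hposR
  have h0' : IsField (GrLC.deg0 (asGr 𝒜)) := Groth.Agent.Lib.Helper20.SegCM.isField_deg0 𝒜 h0R
  apply eq_zero_of_irr_le_colon (asGr 𝒜) hpos' h0' h1 a
  intro y hy
  rw [Submodule.mem_colon_singleton, Submodule.mem_bot, smul_eq_mul]
  exact ha y hy

include hposR h0R hstd h1 in
/-- the Hilbert function is non-decreasing -/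
theorem finrank_mono (n : ℤ) : Module.finrank k (𝒜 n) ≤ Module.finrank k (𝒜 (n + 1)) := by
  classical
  haveI : IsNoetherianRing R := Algebra.FiniteType.isNoetherianRing k R
  obtain ⟨s, x, hx1, hxspan⟩ := exists_gens_deg_one (asGr 𝒜)
  have hreg : ∀ a : R, (∀ i, a * x i = 0) → a = 0 := by
    intro a ha
    apply eq_zero_of_irr_mul 𝒜 hposR h0R h1 a
    intro y hy
    rw [hstd] at hy
    have hy' : y ∈ Ideal.span (Set.range x) := by
      rw [hxspan]
      exact hy
    have hle : Ideal.span (Set.range x) ≤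
        LinearMap.ker (LinearMap.toSpanSingleton R R a) := by
      rw [Ideal.span_le]
      rintro _ ⟨i, rfl⟩
      rw [SetLike.mem_coe, LinearMap.mem_ker, LinearMap.toSpanSingleton_apply, smul_eq_mul,
        mul_comm]
      exact ha i
    have := hle hy'
    rwa [LinearMap.mem_ker, LinearMap.toSpanSingleton_apply, smul_eq_mul] at this
  haveI : FiniteDimensional k (𝒜 n) :=
    Groth.Agent.Lib.Helper14.GrDualLib.finite_piece_ring 𝒜 hposR h0R n
  haveI : FiniteDimensional k (𝒜 (n + 1)) :=
    Groth.Agent.Lib.Helper14.GrDualLib.finite_piece_ring 𝒜 hposR h0R (n + 1)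
  refine finrank_le_of_regular_forms (𝒜 n) (𝒜 (n + 1)) s x ?_ hreg
  intro i v hv
  have h2 : x i * v ∈ 𝒜 (1 + n) := SetLike.GradedMul.mul_mem (hx1 i) hv
  rw [add_comm] at h2
  exact h2

include hposR h0R hstd h1 in
theorem finrank_mono_le {a b : ℤ} (hab : a ≤ b) :
    Module.finrank k (𝒜 a) ≤ Module.finrank k (𝒜 b) := by
  obtain ⟨t, rfl⟩ := Int.le.dest hab
  induction t with
  | zero => rw [Nat.cast_zero, add_zero]
  | succ t ih =>
    refine (ih (by omega)).trans ?_
    have := finrank_mono 𝒜 hposR h0R hstd h1 (a + (t : ℤ))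
    have e1 : a + ((t + 1 : ℕ) : ℤ) = a + (t : ℤ) + 1 := by
      push_cast
      ring
    rwa [e1]

end Mono

section Segre

variable {k : Type u} [Field k] {R : Type u} [CommRing R] [Algebra k R]
  {S : Type u} [CommRing S] [Algebra k S] {T : Type u} [CommRing T] [Algebra k T]
  (A : Submodule k R) (B : Submodule k S) (C : Submodule k T)
  (ψ : T →ₐ[k] R ⊗[k] S) (hψ : Function.Injective ψ)
  (hC : C.map ψ.toLinearMap =
    Submodule.span k {x : R ⊗[k] S | ∃ a ∈ A, ∃ b ∈ B, x = a ⊗ₜ[k] b})

include hψ hC in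
/-- the dimension of a piece of a Segre product -/
theorem finrank_segre : Module.finrank k C = Module.finrank k A * Module.finrank k B := by
  have h1 : Module.finrank k C = Module.finrank k (C.map ψ.toLinearMap) :=
    (LinearEquiv.finrank_eq (Submodule.equivMapOfInjective ψ.toLinearMap hψ C))
  rw [h1, hC]
  have hrange : Submodule.span k {x : R ⊗[k] S | ∃ a ∈ A, ∃ b ∈ B, x = a ⊗ₜ[k] b} =
      LinearMap.range (TensorProduct.mapIncl A B) := by
    apply le_antisymm
    · rw [Submodule.span_le]
      rintro _ ⟨a, ha, b, hb, rfl⟩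
      exact ⟨(⟨a, ha⟩ : A) ⊗ₜ[k] (⟨b, hb⟩ : B), rfl⟩
    · rintro _ ⟨w, rfl⟩
      induction w using TensorProduct.induction_on with
      | zero => rw [map_zero]; exact zero_mem _
      | tmul a b =>
        exact Submodule.subset_span ⟨a.1, a.2, b.1, b.2, rfl⟩
      | add x y hx hy => rw [map_add]; exact add_mem hx hy
  rw [hrange]
  have hinj : Function.Injective (TensorProduct.mapIncl A B) :=
    TensorProduct.map_injective_of_flat_flat _ _ (Submodule.injective_subtype _)
      (Submodule.injective_subtype _)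
  rw [LinearMap.finrank_range_of_inj hinj, Module.finrank_tensorProduct]

end Segre

end Groth.Agent.Lib.Helper20.GOne
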