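import Mathlib

/-!
# Numerics for Hilbert functions: a homogeneous regular element, and the arithmetic of products
-/

set_option autoImplicit false
set_option linter.unusedSectionVars false
set_option linter.unusedVariables false
set_option linter.style.haveILetI false

namespace Groth.Agent.Lib.Helper20.GOne

open DirectSum

universe u

section Regular

variable {k : Type u} [Field k] {T : Type u} [CommRing T] [Algebra k T]
  (𝒯 : ℤ → Submodule k T) [GradedAlgebra 𝒯]
  (z : T) (d : ℤ) (hz : z ∈ 𝒯 d) (hreg : IsSMulRegular T z)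

include hz in
theorem mul_mem_piece (n : ℤ) (t : T) (ht : t ∈ 𝒯 (n - d)) : z * t ∈ 𝒯 n := by
  have := SetLike.GradedMul.mul_mem hz ht
  rwa [add_sub_cancel] at this

/-- multiplication by `z` on pieces -/
noncomputable def mulz (n : ℤ) : 𝒯 (n - d) →ₗ[k] 𝒯 n :=
  LinearMap.codRestrict (𝒯 n) ((LinearMap.mulLeft k z).comp (𝒯 (n - d)).subtype)
    (fun t => mul_mem_piece 𝒯 z d hz n t.1 t.2)

theorem mulz_apply (n : ℤ) (t : 𝒯 (n - d)) : ((mulz 𝒯 z d hz n t : 𝒯 n) : T) = z * t.1 := rfl

include hreg in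
theorem mulz_injective (n : ℤ) : Function.Injective (mulz 𝒯 z d hz n) := by
  intro a b hab
  have h1 := congrArg Subtype.val hab
  rw [mulz_apply, mulz_apply] at h1
  exact Subtype.ext (hreg h1)

include hz in
theorem exists_of_mem_span {n : ℤ} {t : T} (ht : t ∈ 𝒯 n) (hts : t ∈ Ideal.span {z}) :
    ∃ t' ∈ 𝒯 (n - d), t = z * t' := by
  classical
  obtain ⟨s, rfl⟩ := Ideal.mem_span_singleton'.1 hts
  have h1 := DirectSum.coe_decompose_mul_add_of_left_mem 𝒯 (i := d) (j := n - d) (b := s) hz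
  have e1 : d + (n - d) = n := by ring
  rw [e1, mul_comm, DirectSum.decompose_of_mem_same 𝒯 ht] at h1
  exact ⟨_, SetLike.coe_mem _, h1⟩

include hz hreg in
theorem finrank_eq_of_le_span (n : ℤ) (h : ∀ t ∈ 𝒯 n, t ∈ Ideal.span {z}) :
    Module.finrank k (𝒯 n) = Module.finrank k (𝒯 (n - d)) := by
  have hsurj : Function.Surjective (mulz 𝒯 z d hz n) := by
    intro t
    obtain ⟨t', ht', e⟩ := exists_of_mem_span 𝒯 z d hz t.2 (h t.1 t.2)
    exact ⟨⟨t', ht'⟩, Subtype.ext e.symm⟩
  exact (LinearEquiv.finrank_eq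
    (LinearEquiv.ofBijective _ ⟨mulz_injective 𝒯 z d hz hreg n, hsurj⟩)).symm

include hz hreg in
theorem finrank_eq_succ (n : ℤ) [FiniteDimensional k (𝒯 (n - d))] (u : T) (hu : u ∈ 𝒯 n)
    (hus : u ∉ Ideal.span {z})
    (h : ∀ t ∈ 𝒯 n, ∃ c : k, t - algebraMap k T c * u ∈ Ideal.span {z}) :
    Module.finrank k (𝒯 n) = Module.finrank k (𝒯 (n - d)) + 1 := by
  let g : (𝒯 (n - d) × k) →ₗ[k] 𝒯 n :=
    (mulz 𝒯 z d hz n).coprod (LinearMap.toSpanSingleton k (𝒯 n) ⟨u, hu⟩)
  have hg : ∀ p : 𝒯 (n - d) × k, ((g p : 𝒯 n) : T) = z * p.1.1 + p.2 • u := by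
    intro p
    rfl
  have hinj : Function.Injective g := by
    rw [← LinearMap.ker_eq_bot, LinearMap.ker_eq_bot']
    intro p hp
    have h1 : z * p.1.1 + p.2 • u = 0 := by
      rw [← hg, hp]
      rfl
    have hc : p.2 = 0 := by
      by_contra hne
      apply hus
      have h2 : u = z * (-(p.2⁻¹ • p.1.1)) := by
        have h3 : p.2 • u = -(z * p.1.1) := eq_neg_of_add_eq_zero_right h1
        calc u = p.2⁻¹ • (p.2 • u) := by rw [smul_smul, inv_mul_cancel₀ hne, one_smul]
          _ = z * (-(p.2⁻¹ • p.1.1)) := by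
            rw [h3, smul_neg, mul_neg, mul_smul_comm]
      rw [h2]
      exact Ideal.mul_mem_right _ _ (Ideal.subset_span rfl)
    rw [hc, zero_smul, add_zero] at h1
    have h4 : p.1 = 0 := by
      apply Subtype.ext
      apply hreg
      change z * p.1.1 = z * 0
      rw [h1, mul_zero]
    exact Prod.ext h4 hc
  have hsurj : Function.Surjective g := by
    intro t
    obtain ⟨c, hc⟩ := h t.1 t.2
    have hmem : t.1 - algebraMap k T c * u ∈ 𝒯 n := by
      rw [← Algebra.smul_def]
      exact sub_mem t.2 ((𝒯 n).smul_mem c hu)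
    obtain ⟨t', ht', e⟩ := exists_of_mem_span 𝒯 z d hz hmem hc
    refine ⟨(⟨t', ht'⟩, c), Subtype.ext ?_⟩
    rw [hg]
    change z * t' + c • u = t.1
    rw [← e, Algebra.smul_def]
    ring
  have := LinearEquiv.finrank_eq (LinearEquiv.ofBijective g ⟨hinj, hsurj⟩)
  rw [← this, Module.finrank_prod, Module.finrank_self]

end Regular

section Arith

theorem mono_le (H : ℤ → ℕ) (hm : ∀ n, H n ≤ H (n + 1)) {a b : ℤ} (hab : a ≤ b) :
    H a ≤ H b := by
  obtain ⟨t, rfl⟩ := Int.le.dest hab
  induction t with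
  | zero => rw [Nat.cast_zero, add_zero]
  | succ t ih =>
    refine (ih (by omega)).trans ?_
    have := hm (a + (t : ℤ))
    have e1 : a + ((t + 1 : ℕ) : ℤ) = a + (t : ℤ) + 1 := by
      push_cast
      ring
    rwa [e1]

/-- the arithmetic heart of the matter -/
theorem arith (HR HS : ℤ → ℕ) (d n₀ : ℤ) (hd : 0 < d)
    (hRm : ∀ n, HR n ≤ HR (n + 1)) (hSm : ∀ n, HS n ≤ HS (n + 1))
    (hR1 : ∀ n, 0 ≤ n → 1 ≤ HR n) (hS1 : ∀ n, 0 ≤ n → 1 ≤ HS n)
    (h1 : HR n₀ * HS n₀ = HR (n₀ - d) * HS (n₀ - d) + 1)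
    (h2 : ∀ n, n₀ < n → HR n * HS n = HR (n - d) * HS (n - d)) :
    HR 1 = 1 ∨ HS 1 = 1 := by
  have hR := fun a b (h : a ≤ b) => mono_le HR hRm h
  have hS := fun a b (h : a ≤ b) => mono_le HS hSm h
  set P : ℤ → ℕ := fun n => HR n * HS n with hP
  have hPm : ∀ a b, a ≤ b → P a ≤ P b := fun a b h => Nat.mul_le_mul (hR a b h) (hS a b h)
  have hP2 : ∀ n, n₀ < n → P n = P (n - d) := h2
  -- `P` is constant from `n₀` on
  have hstep : ∀ n, n₀ ≤ n → P (n + 1) = P n := by
    intro n hn
    apply le_antisymm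
    · rw [hP2 (n + 1) (by omega)]
      exact hPm _ _ (by omega)
    · exact hPm _ _ (by omega)
  have hconst : ∀ n, n₀ ≤ n → P n = P n₀ := by
    intro n hn
    obtain ⟨t, rfl⟩ := Int.le.dest hn
    induction t with
    | zero => rw [Nat.cast_zero, add_zero]
    | succ t ih =>
      have e1 : n₀ + ((t + 1 : ℕ) : ℤ) = n₀ + (t : ℤ) + 1 := by
        push_cast
        ring
      rw [e1, hstep _ (by omega)]
      exact ih (by omega)
  set a := n₀ - d with ha
  have hconst' : ∀ n, a < n → P n = P n₀ := by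
    intro n hn
    by_cases hn0 : n₀ ≤ n
    · exact hconst n hn0
    · apply le_antisymm
      · exact hPm _ _ (by omega)
      · have h3 : P (n₀ + 1) = P (n₀ + 1 - d) := hP2 _ (by omega)
        rw [← hconst (n₀ + 1) (by omega), h3]
        exact hPm _ _ (by omega)
  set e := P n₀ with he
  have hea : e = P a + 1 := h1
  have hpos : ∀ n, a < n → 1 ≤ HR n ∧ 1 ≤ HS n := by
    intro n hn
    have h3 : HR n * HS n = e := hconst' n hn
    have h4 : 0 < HR n * HS n := by rw [h3, hea]; omega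
    exact ⟨Nat.pos_of_mul_pos_right h4 |> fun h => h, Nat.pos_of_mul_pos_left h4 |> fun h => h⟩
  have hRS : ∀ n, a < n → HR (n + 1) = HR n ∧ HS (n + 1) = HS n := by
    intro n hn
    have h3 : HR n * HS n = HR (n + 1) * HS (n + 1) := by
      have e1 : P n = e := hconst' n hn
      have e2 : P (n + 1) = e := hconst' (n + 1) (by omega)
      exact e1.trans e2.symm
    have h4 := hRm n
    have h5 := hSm n
    obtain ⟨h6, h7⟩ := hpos n hn
    constructor
    · by_contra hne
      have hlt : HR n < HR (n + 1) := lt_of_le_of_ne h4 (Ne.symm hne)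
      have : HR n * HS n < HR (n + 1) * HS (n + 1) :=
        calc HR n * HS n < HR (n + 1) * HS n := Nat.mul_lt_mul_of_pos_right hlt h7
          _ ≤ HR (n + 1) * HS (n + 1) := Nat.mul_le_mul_left _ h5
      omega
    · by_contra hne
      have hlt : HS n < HS (n + 1) := lt_of_le_of_ne h5 (Ne.symm hne)
      have : HR n * HS n < HR (n + 1) * HS (n + 1) :=
        calc HR n * HS n < HR n * HS (n + 1) := Nat.mul_lt_mul_of_pos_left hlt h6
          _ ≤ HR (n + 1) * HS (n + 1) := Nat.mul_le_mul_right _ h4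
      omega
  have hRc : ∀ n, a < n → HR n = HR (a + 1) ∧ HS n = HS (a + 1) := by
    intro n hn
    obtain ⟨t, rfl⟩ := Int.le.dest (show a + 1 ≤ n by omega)
    induction t with
    | zero => rw [Nat.cast_zero, add_zero]; exact ⟨rfl, rfl⟩
    | succ t ih =>
      have e1 : a + 1 + ((t + 1 : ℕ) : ℤ) = a + 1 + (t : ℤ) + 1 := by
        push_cast
        ring
      rw [e1]
      obtain ⟨i1, i2⟩ := ih (by omega)
      obtain ⟨j1, j2⟩ := hRS (a + 1 + (t : ℤ)) (by omega)
      exact ⟨j1.trans i1, j2.trans i2⟩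
  set eR := HR (a + 1) with heR
  set eS := HS (a + 1) with heS
  have hprod : eR * eS = HR a * HS a + 1 := by
    have : P (a + 1) = e := hconst' (a + 1) (by omega)
    rw [← hea]
    exact this
  have hRa : HR a ≤ eR := hRm a
  have hSa : HS a ≤ eS := hSm a
  have hone : eR = 1 ∨ eS = 1 := by
    by_cases c1 : HR a = eR
    · left
      rw [c1] at hprod
      have hdvd : eR ∣ 1 := (Nat.dvd_add_right (Dvd.intro _ rfl)).1 (Dvd.intro _ hprod)
      exact Nat.dvd_one.1 hdvd
    · by_cases c2 : HS a = eS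
      · right
        rw [c2] at hprod
        have hdvd : eS ∣ 1 :=
          (Nat.dvd_add_right (Dvd.intro_left _ rfl)).1 (Dvd.intro_left _ hprod)
        exact Nat.dvd_one.1 hdvd
      · have h3 : HR a + 1 ≤ eR := by omega
        have h4 : HS a + 1 ≤ eS := by omega
        have h5 : (HR a + 1) * (HS a + 1) ≤ eR * eS := Nat.mul_le_mul h3 h4
        rw [hprod] at h5
        have h6 : HR a = 0 ∧ HS a = 0 := by
          constructor <;> nlinarith
        rw [h6.1, h6.2] at hprod
        left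
        exact Nat.eq_one_of_mul_eq_one_right (by simpa using hprod)
  rcases hone with h | h
  · left
    by_cases c : a < 1
    · rw [(hRc 1 c).1]
      exact h
    · apply le_antisymm
      · rw [← h]
        exact hR 1 (a + 1) (by omega)
      · exact hR1 1 (by omega)
  · right
    by_cases c : a < 1
    · rw [(hRc 1 c).2]
      exact h
    · apply le_antisymm
      · rw [← h]
        exact hS 1 (a + 1) (by omega)
      · exact hS1 1 (by omega)

end Arith

end Groth.Agent.Lib.Helper20.GOne
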