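import Mathlib
import Groth.Prelude.Def_GrSeg
import Groth.Prelude.Def_GrLC
import Groth.Agent.Lib.Helper14.GrDualLib
import Groth.Agent.Lib.Helper20.GrConv
import Groth.Agent.Lib.Helper20.GrKit10

/-!
# Graded `k`-duality: basic lemmas (flip of a graded dual, separation, component calculus)
-/

set_option autoImplicit false
set_option linter.unusedSectionVars false
set_option linter.unusedVariables false
set_option linter.style.haveILetI false

namespace Groth.Agent.Lib.Helper20.GrDu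

open DirectSum Groth.Agent.Lib.Helper26.GrProj Groth.Agent.Lib.Helper20.GrKit
  Groth.Agent.Lib.Helper20.GrConv Groth.Agent.Lib.Helper14.GrDualLib

universe u

section Basic

variable {k : Type u} [Field k] {R : Type u} [CommRing R] [Algebra k R]
  (𝒜 : ℤ → Submodule k R) [GradedAlgebra 𝒜]
  {M : Type u} [AddCommGroup M] [Module R M]
  (ℳ : ℤ → AddSubgroup M) [DirectSum.Decomposition ℳ] [SetLike.GradedSMul 𝒜 ℳ]

/-- the module is also graded over the additive-subgroup version of the grading of the ring -/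
instance asGrSMul : SetLike.GradedSMul (asGr 𝒜) ℳ where
  smul_mem := by
    intro i j r x hr hx
    exact SetLike.GradedSMul.smul_mem (A := 𝒜) (B := ℳ) hr hx

theorem proj_smul_hom {i : ℤ} {r : R} (hr : r ∈ 𝒜 i) (n : ℤ) (x : M) :
    proj ℳ n (r • x) = r • proj ℳ (n - i) x :=
  proj_smul_of_mem (asGr 𝒜) ℳ hr n x

theorem proj_smul_right {i : ℤ} {x : M} (hx : x ∈ ℳ i) (n : ℤ) (r : R) :
    proj ℳ n (r • x) = (DirectSum.decompose 𝒜 r (n - i) : R) • x := by
  rw [proj_smul_of_mem_right (asGr 𝒜) ℳ hx n r, proj_asGr]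


end Basic

section Dual

variable {k : Type u} [Field k] {R : Type u} [CommRing R] [Algebra k R]
  (𝒜 : ℤ → Submodule k R) [GradedAlgebra 𝒜]
  {M : Type u} [AddCommGroup M] [Module R M] [Module k M] [IsScalarTower k R M]
  (ℳ : ℤ → AddSubgroup M) [DirectSum.Decomposition ℳ] [SetLike.GradedSMul 𝒜 ℳ]
  {D : Type u} [AddCommGroup D] [Module R D] [Module k D] [IsScalarTower k R D]
  (𝒟 : ℤ → AddSubgroup D) [DirectSum.Decomposition 𝒟] [SetLike.GradedSMul 𝒜 𝒟]
  (β : D →ₗ[k] M →ₗ[k] k) (hD : GrSeg.IsGDual R ℳ 𝒟 β)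
  (hfin : ∀ n, Module.Finite k (pieceK 𝒜 ℳ n))

include hD hfin in
theorem flip_isGDual : GrSeg.IsGDual R 𝒟 ℳ β.flip where
  map_smul r x d := by
    rw [LinearMap.flip_apply, LinearMap.flip_apply]
    exact (hD.map_smul r d x).symm
  vanish n x hx m' hm' d hd := by
    rw [LinearMap.flip_apply]
    exact hD.vanish m' d hd n (by omega) x hx
  eq_zero n x hx h := by
    by_contra hne
    obtain ⟨φ, hφ⟩ : ∃ φ : Module.Dual k M, φ x ≠ 0 := by
      by_contra hcon
      push Not at hcon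
      exact hne ((Module.forall_dual_apply_eq_zero_iff k _).mp hcon)
    obtain ⟨d, hd, hdφ⟩ := hD.exists_eq (-n) φ
    have h1 := hdφ x (by rwa [neg_neg])
    have h2 := h d hd
    rw [LinearMap.flip_apply] at h2
    exact hφ (by rw [← h1, h2])
  exists_eq n g := by
    haveI := hfin n
    obtain ⟨y, hy, hyd⟩ := exists_rep_functional 𝒜 ℳ 𝒟 β hD n (pieceK 𝒜 ℳ n)
      (fun x => Iff.rfl) g
    exact ⟨y, hy, fun d hd => hyd d hd⟩

include hD hfin in
theorem exists_sep {j : ℤ} (W : Submodule k D) (hW : ∀ w ∈ W, w ∈ 𝒟 j) {c : D} (hc : c ∈ 𝒟 j)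
    (hcW : c ∉ W) : ∃ y ∈ ℳ (-j), (∀ w ∈ W, β w y = 0) ∧ β c y ≠ 0 := by
  obtain ⟨ψ, hψc, hψW⟩ := Submodule.exists_dual_map_eq_bot_of_notMem hcW inferInstance
  haveI := hfin (-j)
  obtain ⟨y, hy, hyd⟩ := exists_rep_functional 𝒜 ℳ 𝒟 β hD (-j) (pieceK 𝒜 ℳ (-j))
    (fun _ => Iff.rfl) ψ
  refine ⟨y, hy, fun w hw => ?_, ?_⟩
  · rw [hyd w (by rw [neg_neg]; exact hW w hw)]
    have : ψ w ∈ W.map ψ := ⟨w, hw, rfl⟩
    rw [hψW] at this
    exact (Submodule.mem_bot k).1 this
  · rw [hyd c (by rwa [neg_neg])]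
    exact hψc

include hD in
/-- the pairing of `d` with a homogeneous element only sees one component of `d` -/
theorem pair_proj_left (d : D) {n : ℤ} {x : M} (hx : x ∈ ℳ n) :
    β d x = β (proj 𝒟 (-n) d) x :=
  pair_decompose_left ℳ 𝒟 β hD d hx

include hD in
theorem pair_proj_right {n : ℤ} {d : D} (hd : d ∈ 𝒟 n) (x : M) :
    β d x = β d (proj ℳ (-n) x) :=
  pair_decompose_right ℳ 𝒟 β hD hd x

end Dual

end Groth.Agent.Lib.Helper20.GrDu
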