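import Mathlib
import Groth.Prelude.Def_GrSeg
import Groth.Prelude.Def_GrLC
import Groth.Agent.Lib.Helper20.GrDu1

/-!
# The graded dual of a Noetherian graded module is Artinian (lowest forms argument)
-/

set_option autoImplicit false
set_option linter.unusedSectionVars false
set_option linter.unusedVariables false
set_option linter.style.haveILetI false
set_option maxHeartbeats 800000

namespace Groth.Agent.Lib.Helper20.GrDu

open DirectSum Groth.Agent.Lib.Helper26.GrProj Groth.Agent.Lib.Helper20.GrKit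
  Groth.Agent.Lib.Helper20.GrConv Groth.Agent.Lib.Helper14.GrDualLib

universe u

theorem proj_sub {M : Type u} [AddCommGroup M] (ℳ : ℤ → AddSubgroup M)
    [DirectSum.Decomposition ℳ] (n : ℤ) (a b : M) :
    proj ℳ n (a - b) = proj ℳ n a - proj ℳ n b := by
  have h := proj_add ℳ n (a - b) b
  rw [sub_add_cancel] at h
  rw [h, add_sub_cancel_right]

variable {k : Type u} [Field k] {R : Type u} [CommRing R] [Algebra k R]
  (𝒜 : ℤ → Submodule k R) [GradedAlgebra 𝒜]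
  (hposR : ∀ n : ℤ, n < 0 → 𝒜 n = ⊥)
  {M : Type u} [AddCommGroup M] [Module R M] [Module k M] [IsScalarTower k R M]
  (ℳ : ℤ → AddSubgroup M) [DirectSum.Decomposition ℳ] [SetLike.GradedSMul 𝒜 ℳ]
  {D : Type u} [AddCommGroup D] [Module R D] [Module k D] [IsScalarTower k R D]
  (𝒟 : ℤ → AddSubgroup D) [DirectSum.Decomposition 𝒟] [SetLike.GradedSMul 𝒜 𝒟]
  (β : D →ₗ[k] M →ₗ[k] k) (hD : GrSeg.IsGDual R ℳ 𝒟 β)
  (hfin : ∀ n, Module.Finite k (pieceK 𝒜 ℳ n))

/-- the lowest forms of degree `j` of the elements of `N` -/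
def lowPiece (N : Submodule R D) (j : ℤ) : Submodule k D where
  carrier := {c | c ∈ 𝒟 j ∧ ∃ d ∈ N, ∀ i ≤ j, proj 𝒟 i (d - c) = 0}
  zero_mem' := ⟨zero_mem _, 0, zero_mem _, fun i _ => by rw [sub_zero, proj_zero]⟩
  add_mem' := by
    rintro a b ⟨ha, d, hd, hda⟩ ⟨hb, d', hd', hdb⟩
    refine ⟨add_mem ha hb, d + d', add_mem hd hd', fun i hi => ?_⟩
    have : d + d' - (a + b) = (d - a) + (d' - b) := by abel
    rw [this, proj_add, hda i hi, hdb i hi, add_zero]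
  smul_mem' := by
    rintro c a ⟨ha, d, hd, hda⟩
    have hc0 : algebraMap k R c ∈ 𝒜 0 := SetLike.algebraMap_mem_graded 𝒜 c
    refine ⟨(pieceK 𝒜 𝒟 j).smul_mem c ha, c • d, ?_, fun i hi => ?_⟩
    · rw [← algebraMap_smul R c d]
      exact N.smul_mem _ hd
    · rw [← smul_sub, ← algebraMap_smul R c (d - a), proj_smul_hom 𝒜 𝒟 hc0, sub_zero, hda i hi,
        smul_zero]

theorem mem_lowPiece {N : Submodule R D} {j : ℤ} {c : D} :
    c ∈ lowPiece 𝒜 𝒟 N j ↔ c ∈ 𝒟 j ∧ ∃ d ∈ N, ∀ i ≤ j, proj 𝒟 i (d - c) = 0 := Iff.rfl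

theorem lowPiece_mono {N N' : Submodule R D} (h : N ≤ N') (j : ℤ) :
    lowPiece 𝒜 𝒟 N j ≤ lowPiece 𝒜 𝒟 N' j := by
  rintro c ⟨hc, d, hd, hdc⟩
  exact ⟨hc, d, h hd, hdc⟩

include hposR in
theorem smul_mem_lowPiece {N : Submodule R D} {i j : ℤ} {r : R} (hr : r ∈ 𝒜 i) {c : D}
    (hc : c ∈ lowPiece 𝒜 𝒟 N j) : r • c ∈ lowPiece 𝒜 𝒟 N (i + j) := by
  by_cases hi : i < 0
  · rw [hposR i hi, Submodule.mem_bot] at hr
    rw [hr, zero_smul]
    exact zero_mem _
  push Not at hi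
  obtain ⟨hcj, d, hd, hdc⟩ := hc
  refine ⟨smul_mem_piece 𝒜 𝒟 hr hcj, r • d, N.smul_mem r hd, fun l hl => ?_⟩
  rw [← smul_sub, proj_smul_hom 𝒜 𝒟 hr, hdc (l - i) (by omega), smul_zero]

/-- the orthogonal in `M` of the module of lowest forms of `N` -/
def perpLow (N : Submodule R D) : Submodule R M where
  carrier := {x | ∀ j, ∀ c ∈ lowPiece 𝒜 𝒟 N j, β c x = 0}
  zero_mem' := fun j c _ => map_zero _
  add_mem' := by
    intro x y hx hy j c hc
    rw [map_add, hx j c hc, hy j c hc, add_zero]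
  smul_mem' := by
    classical
    intro r x hx j c hc
    rw [← hD.map_smul, ← DirectSum.sum_support_decompose 𝒜 r, Finset.sum_smul, map_sum,
      LinearMap.sum_apply]
    apply Finset.sum_eq_zero
    intro i _
    exact hx (i + j) _ (smul_mem_lowPiece 𝒜 hposR 𝒟 (DirectSum.decompose 𝒜 r i).2 hc)

theorem perpLow_anti {N N' : Submodule R D} (h : N ≤ N') :
    perpLow 𝒜 hposR ℳ 𝒟 β hD N' ≤ perpLow 𝒜 hposR ℳ 𝒟 β hD N := by
  intro x hx j c hc
  exact hx j c (lowPiece_mono 𝒜 𝒟 h j hc)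

include hfin in
theorem lowPiece_le_of_perpLow_le {N N' : Submodule R D}
    (hle : perpLow 𝒜 hposR ℳ 𝒟 β hD N ≤ perpLow 𝒜 hposR ℳ 𝒟 β hD N') (j : ℤ) :
    lowPiece 𝒜 𝒟 N' j ≤ lowPiece 𝒜 𝒟 N j := by
  intro c hc
  by_contra hcW
  obtain ⟨y, hy, hyW, hyc⟩ := exists_sep 𝒜 ℳ 𝒟 β hD hfin (lowPiece 𝒜 𝒟 N j)
    (fun w hw => hw.1) hc.1 hcW
  have hyN : y ∈ perpLow 𝒜 hposR ℳ 𝒟 β hD N := by
    intro j' c' hc'
    by_cases hj : j' = j
    · subst hj
      exact hyW c' hc'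
    · exact hD.vanish j' c' hc'.1 (-j) (by omega) y hy
  exact hyc (hle hyN j c hc)

include hfin in
theorem le_of_perpLow_le (N₀ : ℤ) (hbdd : ∀ n, N₀ < n → ∀ d ∈ 𝒟 n, d = 0)
    {N N' : Submodule R D} (hNN : N ≤ N')
    (hle : perpLow 𝒜 hposR ℳ 𝒟 β hD N ≤ perpLow 𝒜 hposR ℳ 𝒟 β hD N') : N' ≤ N := by
  classical
  have hlow := lowPiece_le_of_perpLow_le 𝒜 hposR ℳ 𝒟 β hD hfin hle
  have key : ∀ t : ℕ, ∀ d ∈ N', (∀ i ≤ N₀ - t, proj 𝒟 i d = 0) → d ∈ N := by
    intro t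
    induction t with
    | zero =>
      intro d _ hd
      have : d = 0 := by
        rw [← sum_proj 𝒟 d]
        apply Finset.sum_eq_zero
        intro i _
        by_cases hi : i ≤ N₀
        · exact hd i (by simpa using hi)
        · exact hbdd i (by omega) _ (proj_mem 𝒟 i d)
      rw [this]
      exact zero_mem _
    | succ t ih =>
      intro d hdN' hd
      set j : ℤ := N₀ - t with hj
      have hc : proj 𝒟 j d ∈ lowPiece 𝒜 𝒟 N' j := by
        refine ⟨proj_mem 𝒟 j d, d, hdN', fun i hi => ?_⟩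
        rw [proj_sub]
        rcases eq_or_lt_of_le hi with h | h
        · rw [h, proj_of_mem_same 𝒟 (proj_mem 𝒟 j d), sub_self]
        · rw [hd i (by push_cast; omega), proj_of_mem_ne 𝒟 (proj_mem 𝒟 j d) (by omega), sub_zero]
      obtain ⟨-, d₁, hd₁, hd₁c⟩ := hlow j hc
      have h2 : d - d₁ ∈ N := by
        apply ih (d - d₁) (N'.sub_mem hdN' (hNN hd₁))
        intro i hi
        have h3 : d - d₁ = (d - proj 𝒟 j d) - (d₁ - proj 𝒟 j d) := by abel
        rw [h3, proj_sub, hd₁c i hi, sub_zero, proj_sub]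
        rcases eq_or_lt_of_le hi with h | h
        · rw [h, proj_of_mem_same 𝒟 (proj_mem 𝒟 j d), sub_self]
        · rw [hd i (by push_cast; omega), proj_of_mem_ne 𝒟 (proj_mem 𝒟 j d) (by omega), sub_zero]
      have : d = (d - d₁) + d₁ := by abel
      rw [this]
      exact N.add_mem h2 hd₁
  intro d hd
  -- the support of `d` is bounded below
  obtain ⟨t, ht⟩ : ∃ t : ℕ, ∀ i ≤ N₀ - t, proj 𝒟 i d = 0 := by
    by_cases hne : (DirectSum.decompose 𝒟 d).support.Nonempty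
    · refine ⟨(N₀ - (DirectSum.decompose 𝒟 d).support.min' hne + 1).toNat, fun i hi => ?_⟩
      apply proj_eq_zero_of_notMem
      intro hmem
      have := Finset.min'_le _ i hmem
      omega
    · refine ⟨0, fun i _ => ?_⟩
      apply proj_eq_zero_of_notMem
      intro hmem
      exact hne ⟨i, hmem⟩
  exact key t d hd ht

include hposR hD hfin in
theorem isArtinian_dual [IsNoetherian R M] (N₀ : ℤ) (hbdd : ∀ n, N₀ < n → ∀ d ∈ 𝒟 n, d = 0) :
    IsArtinian R D := by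
  have hanti : StrictAnti (perpLow 𝒜 hposR ℳ 𝒟 β hD) := by
    intro N N' h
    refine lt_of_le_not_ge (perpLow_anti 𝒜 hposR ℳ 𝒟 β hD h.le) (fun hle => ?_)
    exact h.not_ge (le_of_perpLow_le 𝒜 hposR ℳ 𝒟 β hD hfin N₀ hbdd h.le hle)
  haveI : WellFoundedGT (Submodule R M) := isNoetherian_iff'.1 inferInstance
  exact hanti.wellFoundedLT

end Groth.Agent.Lib.Helper20.GrDu
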