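import Mathlib
import Groth.Prelude.Def_GrSeg
import Groth.Prelude.Def_GrLC
import Groth.Agent.Lib.Helper20.GrDu2
import Groth.Agent.Lib.Helper20.GrLES17

/-!
# The graded dual of an Artinian graded module is finitely generated
-/

set_option autoImplicit false
set_option linter.unusedSectionVars false
set_option linter.unusedVariables false
set_option linter.style.haveILetI false
set_option maxHeartbeats 800000

namespace Groth.Agent.Lib.Helper20.GrDu

open DirectSum Groth.Agent.Lib.Helper26.GrProj Groth.Agent.Lib.Helper20.GrKit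
  Groth.Agent.Lib.Helper20.GrConv Groth.Agent.Lib.Helper14.GrDualLib

universe u

theorem span_proj_stable {R : Type u} [CommRing R] (𝒜₀ : ℤ → AddSubgroup R) [GradedRing 𝒜₀]
    {M : Type u} [AddCommGroup M] [Module R M] (ℳ : ℤ → AddSubgroup M)
    [DirectSum.Decomposition ℳ] [SetLike.GradedSMul 𝒜₀ ℳ] (S : Set M)
    (hS : ∀ u ∈ S, ∃ j, u ∈ ℳ j) :
    ∀ x ∈ Submodule.span R S, ∀ i, proj ℳ i x ∈ Submodule.span R S := by
  classical
  intro x hx
  induction hx using Submodule.span_induction with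
  | mem u hu =>
    intro i
    obtain ⟨j, hj⟩ := hS u hu
    by_cases h : j = i
    · subst h
      rw [proj_of_mem_same ℳ hj]
      exact Submodule.subset_span hu
    · rw [proj_of_mem_ne ℳ hj h]
      exact zero_mem _
  | zero =>
    intro i
    rw [proj_zero]
    exact zero_mem _
  | add x y _ _ hx hy =>
    intro i
    rw [proj_add]
    exact add_mem (hx i) (hy i)
  | smul r x _ hx =>
    intro i
    rw [← sum_proj 𝒜₀ r, Finset.sum_smul, proj_sum]
    apply Submodule.sum_mem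
    intro l _
    rw [proj_smul_of_mem 𝒜₀ ℳ (proj_mem 𝒜₀ l r)]
    exact Submodule.smul_mem _ _ (hx _)

variable {k : Type u} [Field k] {R : Type u} [CommRing R] [Algebra k R]
  (𝒜 : ℤ → Submodule k R) [GradedAlgebra 𝒜]
  (hposR : ∀ n : ℤ, n < 0 → 𝒜 n = ⊥) (h0R : 𝒜 0 = Submodule.span k {(1 : R)})
  {M : Type u} [AddCommGroup M] [Module R M] [Module k M] [IsScalarTower k R M]
  (ℳ : ℤ → AddSubgroup M) [DirectSum.Decomposition ℳ] [SetLike.GradedSMul 𝒜 ℳ]
  {D : Type u} [AddCommGroup D] [Module R D] [Module k D] [IsScalarTower k R D]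
  (𝒟 : ℤ → AddSubgroup D) [DirectSum.Decomposition 𝒟] [SetLike.GradedSMul 𝒜 𝒟]
  (β : D →ₗ[k] M →ₗ[k] k) (hD : GrSeg.IsGDual R ℳ 𝒟 β)

/-- the `R`-submodule generated by a `k`-subspace of a piece -/
def genK (n : ℤ) (W : Submodule k (pieceK 𝒜 ℳ n)) : Submodule R M :=
  Submodule.span R ((fun y : pieceK 𝒜 ℳ n => (y : M)) '' (W : Set (pieceK 𝒜 ℳ n)))

include h0R in
theorem mem_of_mem_genK (n : ℤ) (W : Submodule k (pieceK 𝒜 ℳ n)) (y : pieceK 𝒜 ℳ n)
    (hy : (y : M) ∈ genK 𝒜 ℳ n W) : y ∈ W := by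
  classical
  obtain ⟨s, f, g, hs⟩ := Submodule.mem_span_set'.1 hy
  have hg : ∀ i, ∃ z : pieceK 𝒜 ℳ n, z ∈ W ∧ (z : M) = (g i : M) := by
    intro i
    obtain ⟨z, hz, e⟩ := (g i).2
    exact ⟨z, hz, e⟩
  choose z hz hzg using hg
  have hc : ∀ i, ∃ c : k, c • (1 : R) = (DirectSum.decompose 𝒜 (f i) 0 : R) := by
    intro i
    have h1 : (DirectSum.decompose 𝒜 (f i) 0 : R) ∈ 𝒜 0 := (DirectSum.decompose 𝒜 (f i) 0).2
    have h2 : (DirectSum.decompose 𝒜 (f i) 0 : R) ∈ Submodule.span k {(1 : R)} := h0R ▸ h1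
    exact Submodule.mem_span_singleton.1 h2
  choose c hc using hc
  have hyn : (y : M) ∈ ℳ n := y.2
  have h1 : (y : M) = ∑ i, c i • (g i : M) := by
    conv_lhs => rw [← proj_of_mem_same ℳ hyn, ← hs, proj_sum]
    refine Finset.sum_congr rfl fun i _ => ?_
    have hgi : (g i : M) ∈ ℳ n := by
      rw [← hzg i]
      exact (z i).2
    rw [proj_smul_right 𝒜 ℳ hgi n (f i), sub_self, ← hc i, smul_assoc, one_smul]
  have h2 : y = ∑ i, c i • z i := by
    apply Subtype.ext
    rw [h1, Submodule.coe_sum]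
    refine Finset.sum_congr rfl fun i _ => ?_
    rw [Submodule.coe_smul, hzg i]
  rw [h2]
  exact W.sum_mem fun i _ => W.smul_mem _ (hz i)

include h0R in
theorem genK_strictMono (n : ℤ) : StrictMono (genK 𝒜 ℳ n) := by
  intro N N' h
  have hmono : genK 𝒜 ℳ n N ≤ genK 𝒜 ℳ n N' := Submodule.span_mono (Set.image_mono h.le)
  refine lt_of_le_of_ne hmono ?_
  intro heq
  apply h.not_ge
  intro y hy
  apply mem_of_mem_genK 𝒜 h0R ℳ n N y
  rw [heq]
  exact Submodule.subset_span ⟨y, hy, rfl⟩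

include h0R in
theorem finite_piece_of_isArtinian [IsArtinian R M] (n : ℤ) :
    Module.Finite k (pieceK 𝒜 ℳ n) := by
  haveI : IsArtinian k (pieceK 𝒜 ℳ n) := (genK_strictMono 𝒜 h0R ℳ n).wellFoundedLT
  haveI : IsNoetherian k (pieceK 𝒜 ℳ n) := IsSemiprimaryRing.isNoetherian_iff_isArtinian.2 inferInstance
  infer_instance

include hposR in
theorem exists_bound_above [IsArtinian R M] : ∃ N₁ : ℤ, ∀ n, N₁ ≤ n → ∀ x ∈ ℳ n, x = 0 := by
  have hpos' : ∀ n : ℤ, n < 0 → asGr 𝒜 n = ⊥ := by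
    intro n hn
    rw [eq_bot_iff]
    intro x hx
    have hx' : x ∈ 𝒜 n := hx
    rw [hposR n hn, Submodule.mem_bot] at hx'
    rw [AddSubgroup.mem_bot]
    exact hx'
  obtain ⟨N₁, hN₁⟩ := Groth.Agent.Lib.Helper20.GrLES.exists_pieces_eq_bot (asGr 𝒜) hpos' ℳ
  refine ⟨N₁, fun n hn x hx => ?_⟩
  rw [hN₁ n hn, AddSubgroup.mem_bot] at hx
  exact hx

include hD in
/-- pieces of the dual of a module with finite-dimensional pieces are finite-dimensional -/
theorem finite_piece_dual (hfin : ∀ n, Module.Finite k (pieceK 𝒜 ℳ n)) (j : ℤ) :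
    Module.Finite k (pieceK 𝒜 𝒟 j) := by
  haveI := hfin (-j)
  let ev : pieceK 𝒜 𝒟 j →ₗ[k] Module.Dual k (pieceK 𝒜 ℳ (-j)) :=
    { toFun := fun d => (β d.1).comp (pieceK 𝒜 ℳ (-j)).subtype
      map_add' := fun a b => by
        ext x
        simp only [Submodule.coe_add, map_add, LinearMap.add_apply, LinearMap.comp_apply]
      map_smul' := fun c a => by
        ext x
        simp only [Submodule.coe_smul, map_smul, LinearMap.smul_apply, LinearMap.comp_apply,
          RingHom.id_apply] }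
  have hinj : Function.Injective ev := by
    rw [← LinearMap.ker_eq_bot, eq_bot_iff]
    intro d hd
    rw [LinearMap.mem_ker] at hd
    rw [Submodule.mem_bot]
    apply Subtype.ext
    apply hD.eq_zero j d.1 d.2
    intro x hx
    have := LinearMap.congr_fun hd ⟨x, hx⟩
    exact this
  exact Module.Finite.of_injective ev hinj

/-- the orthogonal of a submodule of `D` -/
def perp (P : Submodule R D) : Submodule R M where
  carrier := {x | ∀ d ∈ P, β d x = 0}
  zero_mem' := fun d _ => map_zero _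
  add_mem' := by
    intro x y hx hy d hd
    rw [map_add, hx d hd, hy d hd, add_zero]
  smul_mem' := by
    intro r x hx d hd
    rw [← hD.map_smul]
    exact hx _ (P.smul_mem r hd)

theorem perp_anti {P P' : Submodule R D} (h : P ≤ P') : perp ℳ 𝒟 β hD P' ≤ perp ℳ 𝒟 β hD P :=
  fun x hx d hd => hx d (h hd)

include hposR h0R hD in
theorem finite_dual_of_isArtinian [IsArtinian R M] : Module.Finite R D := by
  classical
  have hfin : ∀ n, Module.Finite k (pieceK 𝒜 ℳ n) := finite_piece_of_isArtinian 𝒜 h0R ℳ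
  obtain ⟨N₁, hN₁⟩ := exists_bound_above 𝒜 hposR ℳ
  have hD0 : ∀ j, j ≤ -N₁ → ∀ d ∈ 𝒟 j, d = 0 := by
    intro j hj d hd
    apply hD.eq_zero j d hd
    intro x hx
    rw [hN₁ (-j) (by omega) x hx, map_zero]
  let G : ℕ → Submodule R D := fun s =>
    (Finset.Icc (-N₁) (-N₁ + s)).sup (fun j => Submodule.span R (𝒟 j : Set D))
  have hGfg : ∀ s, (G s).FG := by
    intro s
    apply Submodule.fg_finset_sup
    intro j _
    haveI := finite_piece_dual 𝒜 ℳ 𝒟 β hD hfin j
    obtain ⟨S, hS⟩ := (Module.Finite.iff_fg (R := k) (N := pieceK 𝒜 𝒟 j)).1 inferInstance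
    refine ⟨S, le_antisymm (Submodule.span_le.2 fun x hx => Submodule.subset_span ?_)
      (Submodule.span_le.2 fun x hx => ?_)⟩
    · have : x ∈ Submodule.span k (S : Set D) := Submodule.subset_span hx
      rw [hS] at this
      exact this
    · have hx' : x ∈ pieceK 𝒜 𝒟 j := hx
      rw [← hS] at hx'
      exact Submodule.span_le_restrictScalars k R (S : Set D) hx'
  have hGspan : ∀ s, G s = Submodule.span R (⋃ j ∈ Finset.Icc (-N₁) (-N₁ + (s : ℤ)), (𝒟 j : Set D)) := by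
    intro s
    rw [Submodule.span_iUnion₂]
    exact Finset.sup_eq_iSup _ _
  have hGst : ∀ s, ∀ d ∈ G s, ∀ i, proj 𝒟 i d ∈ G s := by
    intro s d hd
    rw [hGspan s] at hd ⊢
    apply span_proj_stable (asGr 𝒜) 𝒟 _ _ d hd
    intro u hu
    simp only [Set.mem_iUnion, SetLike.mem_coe, exists_prop] at hu
    obtain ⟨j, -, hj⟩ := hu
    exact ⟨j, hj⟩
  have hGmem : ∀ s : ℕ, ∀ j, j ≤ -N₁ + s → ∀ c ∈ 𝒟 j, c ∈ G s := by
    intro s j hj c hc
    by_cases hj' : j < -N₁
    · rw [hD0 j hj'.le c hc]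
      exact zero_mem _
    · have hmem : j ∈ Finset.Icc (-N₁) (-N₁ + (s : ℤ)) := Finset.mem_Icc.2 ⟨by omega, hj⟩
      exact (Finset.le_sup (f := fun j => Submodule.span R (𝒟 j : Set D)) hmem)
        (Submodule.subset_span hc)
  have hGmono : Monotone G := by
    intro s s' h
    apply Finset.sup_mono
    intro j hj
    rw [Finset.mem_Icc] at hj ⊢
    have : (s : ℤ) ≤ s' := by exact_mod_cast h
    exact ⟨hj.1, by omega⟩
  let f : ℕ →o (Submodule R M)ᵒᵈ :=
    ⟨fun s => OrderDual.toDual (perp ℳ 𝒟 β hD (G s)), fun s s' h =>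
      perp_anti ℳ 𝒟 β hD (hGmono h)⟩
  obtain ⟨s₀, hs₀⟩ := IsArtinian.monotone_stabilizes f
  have hall : ∀ j, ∀ c ∈ 𝒟 j, c ∈ G s₀ := by
    intro j c hc
    by_cases hj : j ≤ -N₁ + s₀
    · exact hGmem s₀ j hj c hc
    by_contra hcG
    set s : ℕ := (j + N₁).toNat with hs
    have hs' : (s : ℤ) = j + N₁ := Int.toNat_of_nonneg (by omega)
    have hcs : c ∈ G s := hGmem s j (by omega) c hc
    let W : Submodule k D := (G s₀).restrictScalars k ⊓ pieceK 𝒜 𝒟 j
    obtain ⟨y, hy, hyW, hyc⟩ := exists_sep 𝒜 ℳ 𝒟 β hD hfin W (fun w hw => hw.2) hc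
      (fun hcW => hcG hcW.1)
    have hyperp : y ∈ perp ℳ 𝒟 β hD (G s₀) := by
      intro d hd
      have h1 := pair_proj_left ℳ 𝒟 β hD d hy
      rw [neg_neg] at h1
      rw [h1]
      exact hyW _ ⟨hGst s₀ d hd j, proj_mem 𝒟 j d⟩
    have heq : perp ℳ 𝒟 β hD (G s₀) = perp ℳ 𝒟 β hD (G s) := by
      have := hs₀ s (by omega)
      exact OrderDual.toDual.injective this
    rw [heq] at hyperp
    exact hyc (hyperp c hcs)
  have htop : G s₀ = ⊤ := by
    rw [eq_top_iff]
    intro d _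
    rw [← sum_proj 𝒟 d]
    exact Submodule.sum_mem _ (fun i _ => hall i _ (proj_mem 𝒟 i d))
  refine ⟨?_⟩
  rw [← htop]
  exact hGfg s₀

end Groth.Agent.Lib.Helper20.GrDu
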