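import Mathlib
import Groth.Prelude.Def_GrSeg
import Groth.Prelude.Def_GrLC
import Groth.Agent.Lib.Helper20.GrDu3

/-!
# S19760: a graded module is Artinian iff it embeds in a finite sum of shifted copies of `R^*`
-/

set_option autoImplicit false
set_option linter.unusedSectionVars false
set_option linter.unusedVariables false
set_option linter.style.haveILetI false
set_option maxHeartbeats 800000

namespace Groth.Agent.Lib.Helper20.GrDu

open DirectSum Groth.Agent.Lib.Helper26.GrProj Groth.Agent.Lib.Helper20.GrKit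
  Groth.Agent.Lib.Helper20.GrConv Groth.Agent.Lib.Helper14.GrDualLib

universe u

variable {k : Type u} [Field k] {R : Type u} [CommRing R] [Algebra k R]
  (𝒜 : ℤ → Submodule k R) [GradedAlgebra 𝒜]
  (hposR : ∀ n : ℤ, n < 0 → 𝒜 n = ⊥) (h0R : 𝒜 0 = Submodule.span k {(1 : R)})
  {D : Type u} [AddCommGroup D] [Module R D] [Module k D] [IsScalarTower k R D]
  (𝒟 : ℤ → AddSubgroup D) [DirectSum.Decomposition 𝒟] [SetLike.GradedSMul 𝒜 𝒟]
  (β : D →ₗ[k] R →ₗ[k] k) (hD : GrSeg.IsGDual R 𝒜 𝒟 β)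
  {M : Type u} [AddCommGroup M] [Module R M] [Module k M] [IsScalarTower k R M]
  (ℳ : ℤ → AddSubgroup M) [DirectSum.Decomposition ℳ] [SetLike.GradedSMul 𝒜 ℳ]

/-- the ring as a graded module over itself, pieces as additive subgroups -/
instance asGrSelfSMul : SetLike.GradedSMul 𝒜 (asGr 𝒜) where
  smul_mem := by
    intro i j r x hr hx
    exact SetLike.mul_mem_graded (A := 𝒜) hr hx

include hD in
theorem isGDual_asGr : GrSeg.IsGDual R (asGr 𝒜) 𝒟 β :=
  ⟨hD.map_smul, hD.vanish, hD.eq_zero, hD.exists_eq⟩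

include hposR h0R hD in
/-- `R^*` is an Artinian module -/
theorem isArtinian_dual_ring [Algebra.FiniteType k R] : IsArtinian R D := by
  haveI : IsNoetherianRing R := Algebra.FiniteType.isNoetherianRing k R
  have hD' := isGDual_asGr 𝒜 𝒟 β hD
  have hfin : ∀ n, Module.Finite k (pieceK 𝒜 (asGr 𝒜) n) := fun n =>
    finite_piece_module 𝒜 (asGr 𝒜) hposR h0R n
  have hbdd : ∀ n, (0 : ℤ) < n → ∀ d ∈ 𝒟 n, d = 0 := by
    intro n hn d hd
    apply hD.eq_zero n d hd
    intro x hx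
    rw [hposR (-n) (by omega), Submodule.mem_bot] at hx
    rw [hx, map_zero]
  exact isArtinian_dual 𝒜 hposR (asGr 𝒜) 𝒟 β hD' hfin 0 hbdd

include hD in
/-- a homogeneous functional on `M` gives a homogeneous map `M → R^*` -/
theorem exists_hom_of_functional (s : ℤ) (lam : M →ₗ[k] k)
    (hlam : ∀ j, j ≠ s → ∀ x ∈ ℳ j, lam x = 0) :
    ∃ f : M →ₗ[R] D, (∀ g x, x ∈ ℳ g → f x ∈ 𝒟 (g + -s)) ∧ ∀ x, β (f x) 1 = lam x := by
  classical
  let μ : M → (R →ₗ[k] k) := fun x =>
    lam ∘ₗ ((LinearMap.toSpanSingleton R M x).restrictScalars k)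
  have hμ : ∀ x r, μ x r = lam (r • x) := fun x r => rfl
  have hex1 : ∀ g x, x ∈ ℳ g → ∃ d ∈ 𝒟 (g + -s), ∀ r, β d r = lam (r • x) := by
    intro g x hx
    obtain ⟨d, hd, hdμ⟩ := hD.exists_eq (g + -s) (μ x)
    refine ⟨d, hd, fun r => ?_⟩
    rw [← DirectSum.sum_support_decompose 𝒜 r, map_sum, Finset.sum_smul, map_sum]
    apply Finset.sum_congr rfl
    intro i _
    by_cases hi : i = -(g + -s)
    · subst hi
      rw [hdμ _ (DirectSum.decompose 𝒜 r _).2, hμ]
    · rw [hD.vanish (g + -s) d hd i hi _ (DirectSum.decompose 𝒜 r i).2]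
      symm
      apply hlam (i + g) (by omega)
      exact smul_mem_piece 𝒜 ℳ (DirectSum.decompose 𝒜 r i).2 hx
  have hex : ∀ x, ∃ d, ∀ r, β d r = lam (r • x) := by
    intro x
    choose! dd hdd hdd' using hex1
    refine ⟨∑ g ∈ (DirectSum.decompose ℳ x).support, dd g (proj ℳ g x), fun r => ?_⟩
    rw [map_sum, LinearMap.sum_apply]
    conv_rhs => rw [← sum_proj ℳ x, Finset.smul_sum, map_sum]
    apply Finset.sum_congr rfl
    intro g _
    exact hdd' g _ (proj_mem ℳ g x) r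
  choose F hF using hex
  have huniq : ∀ d d' : D, (∀ r, β d r = β d' r) → d = d' := by
    intro d d' h
    rw [← sub_eq_zero]
    apply sep_left 𝒜 𝒟 β hD
    intro r
    rw [map_sub, LinearMap.sub_apply, h r, sub_self]
  let f : M →ₗ[R] D :=
    { toFun := F
      map_add' := fun x y => by
        apply huniq
        intro r
        rw [hF, map_add, LinearMap.add_apply, hF, hF, smul_add, map_add]
      map_smul' := fun a x => by
        apply huniq
        intro r
        rw [hF, RingHom.id_apply, hD.map_smul, hF, smul_eq_mul, mul_smul, smul_comm] }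
  refine ⟨f, fun g x hx => ?_, fun x => ?_⟩
  · obtain ⟨d, hd, hdr⟩ := hex1 g x hx
    have : f x = d := by
      apply huniq
      intro r
      rw [hdr]
      exact hF x r
    rw [this]
    exact hd
  · have := hF x 1
    rw [one_smul] at this
    exact this

include hD in
/-- a nonzero element is detected by some homogeneous map to `R^*` -/
theorem exists_hom_ne_zero {x : M} (hx : x ≠ 0) :
    ∃ (sh : ℤ) (f : M →ₗ[R] D), (∀ g y, y ∈ ℳ g → f y ∈ 𝒟 (g + sh)) ∧ f x ≠ 0 := by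
  classical
  obtain ⟨g, hg⟩ : ∃ g, proj ℳ g x ≠ 0 := by
    by_contra hcon
    push Not at hcon
    apply hx
    rw [← sum_proj ℳ x]
    exact Finset.sum_eq_zero (fun i _ => hcon i)
  obtain ⟨φ, hφ⟩ : ∃ φ : Module.Dual k M, φ (proj ℳ g x) ≠ 0 := by
    by_contra hcon
    push Not at hcon
    exact hg ((Module.forall_dual_apply_eq_zero_iff k _).mp hcon)
  let P : M →ₗ[k] M :=
    { toFun := proj ℳ g
      map_add' := proj_add ℳ g
      map_smul' := fun c y => by
        have hc0 : algebraMap k R c ∈ 𝒜 0 := SetLike.algebraMap_mem_graded 𝒜 c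
        rw [RingHom.id_apply, ← algebraMap_smul R c y, proj_smul_hom 𝒜 ℳ hc0, sub_zero,
          algebraMap_smul] }
  obtain ⟨f, hf, hf1⟩ := exists_hom_of_functional 𝒜 𝒟 β hD ℳ g (φ ∘ₗ P) (by
    intro j hj y hy
    change φ (proj ℳ g y) = 0
    rw [proj_of_mem_ne ℳ hy hj, map_zero])
  refine ⟨-g, f, hf, fun h0 => ?_⟩
  have := hf1 x
  rw [h0, map_zero, LinearMap.zero_apply] at this
  exact hφ this.symm

include hD in
theorem exists_embedding [IsArtinian R M] :
    ∃ (t : ℕ) (sh : Fin t → ℤ) (f : M →ₗ[R] (Fin t → D)), Function.Injective f ∧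
      ∀ (i : Fin t) (g : ℤ) (x : M), x ∈ ℳ g → f x i ∈ 𝒟 (g + sh i) := by
  classical
  let 𝒮 : Set (Submodule R M) := {K | ∃ (t : ℕ) (sh : Fin t → ℤ) (f : M →ₗ[R] (Fin t → D)),
    (∀ (i : Fin t) (g : ℤ) (x : M), x ∈ ℳ g → f x i ∈ 𝒟 (g + sh i)) ∧ K = LinearMap.ker f}
  have hne : 𝒮.Nonempty := ⟨⊤, 0, Fin.elim0, 0, fun i => i.elim0, by
    rw [LinearMap.ker_zero]⟩
  obtain ⟨K₀, ⟨t, sh, f, hf, rfl⟩, hmin⟩ := IsArtinian.set_has_minimal 𝒮 hne
  refine ⟨t, sh, f, ?_, hf⟩
  rw [← LinearMap.ker_eq_bot, eq_bot_iff]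
  intro x hx
  rw [Submodule.mem_bot]
  by_contra hx0
  obtain ⟨s', f', hf', hf'x⟩ := exists_hom_ne_zero 𝒜 𝒟 β hD ℳ hx0
  let f₁ : M →ₗ[R] (Fin (t + 1) → D) :=
    LinearMap.pi (fun i : Fin (t + 1) => Fin.cases f' (fun i' => LinearMap.proj i' ∘ₗ f) i)
  let sh₁ : Fin (t + 1) → ℤ := fun i => Fin.cases s' sh i
  have hf₁0 : ∀ y, f₁ y 0 = f' y := fun y => rfl
  have hf₁s : ∀ y (i : Fin t), f₁ y i.succ = f y i := fun y i => rfl
  have hmem : LinearMap.ker f₁ ∈ 𝒮 := by
    refine ⟨t + 1, sh₁, f₁, fun i g y hy => ?_, rfl⟩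
    refine Fin.cases ?_ (fun i' => ?_) i
    · rw [hf₁0]
      exact hf' g y hy
    · rw [hf₁s]
      exact hf i' g y hy
  apply hmin _ hmem
  refine lt_of_le_of_ne ?_ ?_
  · intro y hy
    rw [LinearMap.mem_ker] at hy ⊢
    funext i
    have := congrFun hy i.succ
    rw [hf₁s] at this
    exact this
  · intro heq
    have hx1 : x ∈ LinearMap.ker f₁ := by rw [heq]; exact hx
    rw [LinearMap.mem_ker] at hx1
    have := congrFun hx1 0
    rw [hf₁0] at this
    exact hf'x this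

end Groth.Agent.Lib.Helper20.GrDu
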