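import Mathlib
import Groth.Agent.Lib.Helper20.SegQuot
import Groth.Agent.Lib.Helper20.SegUnmixed
import Groth.Agent.Lib.Helper20.SegCM6
import Groth.Agent.Lib.Helper20.GrDu5

/-!
# One dimensional graded Cohen–Macaulay algebras: a homogeneous regular parameter
-/

set_option autoImplicit false
set_option linter.unusedSectionVars false
set_option linter.unusedVariables false
set_option linter.style.haveILetI false

namespace Groth.Agent.Lib.Helper20.StdOne

open DirectSum Groth.Agent.Lib.Helper20.SegQuot Groth.Agent.Lib.Helper20.GrConv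
  Groth.Agent.Lib.Helper20.SegUnmixed

universe u

section Gen

variable {k : Type u} [Field k] {R : Type u} [CommRing R] [Algebra k R]
  (𝒜 : ℤ → Submodule k R) [GradedAlgebra 𝒜]

theorem isHomogeneous_of_mem_minimalPrimes {J P : Ideal R} (hJ : J.IsHomogeneous 𝒜)
    (hP : P ∈ J.minimalPrimes) : P.IsHomogeneous 𝒜 := by
  have hp' := hP.1.1
  have hcore : (P.homogeneousCore 𝒜).toIdeal.IsPrime := Ideal.IsPrime.homogeneousCore hp'
  have hle : J ≤ (P.homogeneousCore 𝒜).toIdeal := by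
    have h1 := Ideal.homogeneousCore_mono 𝒜 hP.1.2
    rw [← hJ.toIdeal_homogeneousCore_eq_self]
    exact h1
  have h2 := hP.2 ⟨hcore, hle⟩ (Ideal.toIdeal_homogeneousCore_le 𝒜 P)
  have heq : (P.homogeneousCore 𝒜).toIdeal = P :=
    le_antisymm (Ideal.toIdeal_homogeneousCore_le 𝒜 P) h2
  rw [← heq]
  exact (P.homogeneousCore 𝒜).isHomogeneous

theorem not_chain3 (hdim : ringKrullDim R = ((1 : ℕ) : WithBot ℕ∞)) (p q r : Ideal R) [p.IsPrime]
    [q.IsPrime] [r.IsPrime] (h1 : p < q) (h2 : q < r) : False := by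
  have e1 := Ideal.height_add_one_le_of_lt_of_isPrime h1
  have e2 := Ideal.height_add_one_le_of_lt_of_isPrime h2
  have e3 : (r.height : WithBot ℕ∞) ≤ ringKrullDim R := Ideal.height_le_ringKrullDim_of_isPrime
  rw [hdim] at e3
  have e4 : r.height ≤ 1 := by exact_mod_cast e3
  have e5 : (2 : ℕ∞) ≤ r.height := by
    calc (2 : ℕ∞) = 0 + 1 + 1 := by norm_num
      _ ≤ p.height + 1 + 1 := by gcongr; exact bot_le
      _ ≤ q.height + 1 := by gcongr
      _ ≤ r.height := e2
  have : (2 : ℕ∞) ≤ 1 := e5.trans e4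
  exact absurd this (by norm_num)

variable (hposR : ∀ n : ℤ, n < 0 → 𝒜 n = ⊥) (h0R : 𝒜 0 = Submodule.span k {(1 : R)})

include hposR h0R in
theorem irrIdeal_ne_top [Nontrivial R] : irrIdeal 𝒜 ≠ ⊤ :=
  (isMaximal_irrIdeal 𝒜 hposR h0R).ne_top

include hposR h0R in
/-- a nonzero homogeneous element of the irrelevant ideal has positive degree -/
theorem pos_of_mem_irrIdeal [Nontrivial R] {n : ℤ} {z : R} (hz : z ∈ 𝒜 n)
    (hzm : z ∈ irrIdeal 𝒜) (hz0 : z ≠ 0) : 0 < n := by
  rcases lt_trichotomy n 0 with hn | hn | hn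
  · exfalso
    rw [hposR n hn, Submodule.mem_bot] at hz
    exact hz0 hz
  · exfalso
    subst hn
    rw [h0R, Submodule.mem_span_singleton] at hz
    obtain ⟨c, rfl⟩ := hz
    have hc : c ≠ 0 := by
      rintro rfl
      exact hz0 (zero_smul _ _)
    apply irrIdeal_ne_top 𝒜 hposR h0R
    rw [Ideal.eq_top_iff_one]
    have : (1 : R) = (c⁻¹ • (1 : R)) * (c • (1 : R)) := by
      rw [smul_mul_smul_comm, mul_one, inv_mul_cancel₀ hc, one_smul]
    rw [this]
    exact Ideal.mul_mem_left _ _ hzm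
  · exact hn

theorem irrIdeal_isHomogeneous : (irrIdeal 𝒜).IsHomogeneous 𝒜 := by
  apply Ideal.homogeneous_span
  intro x hx
  simp only [Set.mem_iUnion, Set.mem_Ioi, SetLike.mem_coe] at hx
  obtain ⟨n, -, hxn⟩ := hx
  exact ⟨n, hxn⟩

include hposR h0R in
/-- **homogeneous prime avoidance** for pairwise incomparable homogeneous primes -/
theorem exists_homogeneous_avoid [Nontrivial R] (s : Finset (Ideal R))
    (hprime : ∀ P ∈ s, P.IsPrime) (hhom : ∀ P ∈ s, P.IsHomogeneous 𝒜)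
    (hinc : ∀ P ∈ s, ∀ Q ∈ s, P ≤ Q → P = Q) (hm : ∀ P ∈ s, ¬ irrIdeal 𝒜 ≤ P) :
    ∃ d : ℤ, 0 < d ∧ ∃ x ∈ 𝒜 d, ∀ P ∈ s, x ∉ P := by
  classical
  induction s using Finset.induction_on with
  | empty => exact ⟨1, one_pos, 0, zero_mem _, fun P hP => absurd hP (Finset.notMem_empty P)⟩
  | insert P s hPs ih =>
    obtain ⟨d₁, hd₁, x₁, hx₁, hx₁s⟩ := ih
      (fun Q hQ => hprime Q (Finset.mem_insert_of_mem hQ))
      (fun Q hQ => hhom Q (Finset.mem_insert_of_mem hQ))
      (fun Q hQ Q' hQ' h => hinc Q (Finset.mem_insert_of_mem hQ) Q' (Finset.mem_insert_of_mem hQ') h)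
      (fun Q hQ => hm Q (Finset.mem_insert_of_mem hQ))
    haveI hPp : P.IsPrime := hprime P (Finset.mem_insert_self P s)
    by_cases hx₁P : x₁ ∈ P
    · -- find a homogeneous element of all `Q ∈ s` and of `m`, outside `P`
      have hnle : ¬ (s.inf id ⊓ irrIdeal 𝒜 ≤ P) := by
        intro hle
        rcases (Ideal.IsPrime.inf_le hPp).1 hle with h | h
        · obtain ⟨Q, hQ, hQP⟩ := (Ideal.IsPrime.inf_le' hPp).1 h
          have := hinc Q (Finset.mem_insert_of_mem hQ) P (Finset.mem_insert_self P s) hQP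
          rw [this] at hQ
          exact hPs hQ
        · exact hm P (Finset.mem_insert_self P s) h
      obtain ⟨z', hz', hz'P⟩ := SetLike.not_le_iff_exists.1 hnle
      have hz's : ∀ Q ∈ s, z' ∈ Q := fun Q hQ => (Submodule.mem_finsetInf.1 hz'.1) Q hQ
      have hz'm : z' ∈ irrIdeal 𝒜 := hz'.2
      obtain ⟨n, hnP⟩ : ∃ n : ℤ, (DirectSum.decompose 𝒜 z' n : R) ∉ P := by
        by_contra hcon
        push Not at hcon
        apply hz'P
        rw [← DirectSum.sum_support_decompose 𝒜 z']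
        exact Ideal.sum_mem _ fun i _ => hcon i
      set z : R := (DirectSum.decompose 𝒜 z' n : R) with hzdef
      have hzn : z ∈ 𝒜 n := SetLike.coe_mem _
      have hzs : ∀ Q ∈ s, z ∈ Q := fun Q hQ =>
        hhom Q (Finset.mem_insert_of_mem hQ) n (hz's Q hQ)
      have hzm : z ∈ irrIdeal 𝒜 := irrIdeal_isHomogeneous 𝒜 n hz'm
      have hz0 : z ≠ 0 := by
        intro h
        apply hnP
        rw [h]
        exact zero_mem _
      have hn : 0 < n := pos_of_mem_irrIdeal 𝒜 hposR h0R hzn hzm hz0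
      obtain ⟨a, ha⟩ : ∃ a : ℕ, (a : ℤ) = n := ⟨n.toNat, Int.toNat_of_nonneg hn.le⟩
      obtain ⟨b, hb⟩ : ∃ b : ℕ, (b : ℤ) = d₁ := ⟨d₁.toNat, Int.toNat_of_nonneg hd₁.le⟩
      have ha0 : a ≠ 0 := by rintro rfl; simp at ha; omega
      have hb0 : b ≠ 0 := by rintro rfl; simp at hb; omega
      have h1 : x₁ ^ a ∈ 𝒜 (n * d₁) := by
        have := SetLike.pow_mem_graded a hx₁
        rwa [nsmul_eq_mul, ha] at this
      have h2 : z ^ b ∈ 𝒜 (n * d₁) := by
        have := SetLike.pow_mem_graded b hzn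
        rwa [nsmul_eq_mul, hb, mul_comm] at this
      refine ⟨n * d₁, mul_pos hn hd₁, x₁ ^ a + z ^ b, add_mem h1 h2, ?_⟩
      intro Q hQ
      rw [Finset.mem_insert] at hQ
      rcases hQ with rfl | hQ
      · intro hmem
        have h3 : z ^ b ∈ Q := by
          have := Q.sub_mem hmem (Ideal.pow_mem_of_mem Q hx₁P a (Nat.pos_of_ne_zero ha0))
          rwa [add_sub_cancel_left] at this
        exact hnP (hPp.mem_of_pow_mem b h3)
      · intro hmem
        haveI : Q.IsPrime := hprime Q (Finset.mem_insert_of_mem hQ)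
        have h3 : x₁ ^ a ∈ Q := by
          have := Q.sub_mem hmem (Ideal.pow_mem_of_mem Q (hzs Q hQ) b (Nat.pos_of_ne_zero hb0))
          rwa [add_sub_cancel_right] at this
        exact hx₁s Q hQ (Ideal.IsPrime.mem_of_pow_mem inferInstance a h3)
    · refine ⟨d₁, hd₁, x₁, hx₁, ?_⟩
      intro Q hQ
      rw [Finset.mem_insert] at hQ
      rcases hQ with rfl | hQ
      · exact hx₁P
      · exact hx₁s Q hQ

end Gen

end Groth.Agent.Lib.Helper20.StdOne
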