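import Mathlib
import Groth.Agent.Lib.Helper20.StdOne3

/-!
# One dimensional graded Cohen–Macaulay algebras: existence of a homogeneous regular parameter
-/

set_option autoImplicit false
set_option linter.unusedSectionVars false
set_option linter.unusedVariables false
set_option linter.style.haveILetI false
set_option linter.overlappingInstances false

namespace Groth.Agent.Lib.Helper20.StdOne

open DirectSum Groth.Agent.Lib.Helper20.SegQuot Groth.Agent.Lib.Helper20.GrConv
  Groth.Agent.Lib.Helper20.SegUnmixed Groth.Agent.Lib.Helper20.SegGr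
  Groth.Agent.Lib.Helper20.GrDu

universe u

section Param

variable {k : Type u} [Field k] {R : Type u} [CommRing R] [Algebra k R]
  (𝒜 : ℤ → Submodule k R) [GradedAlgebra 𝒜] [IsNoetherianRing R] [Nontrivial R]
  (hposR : ∀ n : ℤ, n < 0 → 𝒜 n = ⊥) (h0R : 𝒜 0 = Submodule.span k {(1 : R)})
  (hdim : ringKrullDim R = ((1 : ℕ) : WithBot ℕ∞))

include hposR h0R hdim in
/-- in positive dimension the irrelevant ideal is not a minimal prime -/
theorem not_irrIdeal_le_minimalPrime (P : Ideal R) (hP : P ∈ minimalPrimes R) :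
    ¬ irrIdeal 𝒜 ≤ P := by
  intro hle
  have hd : ringKrullDim (R ⧸ (⊥ : Ideal R)) = ((1 : ℕ) : WithBot ℕ∞) := by
    rw [ringKrullDim_eq_of_ringEquiv (RingEquiv.quotientBot R), hdim]
  obtain ⟨l, hlen, hl⟩ := exists_chain 𝒜 ⊥ (Ideal.IsHomogeneous.bot 𝒜) hposR h0R 1 hd
  have hlt : l 0 < l (Fin.last l.length) := by
    apply l.strictMono
    rw [Fin.lt_def]
    simp only [Fin.val_zero, Fin.val_last]
    omega
  have h1 : (l (Fin.last l.length)).asIdeal ≤ P := (hl _).2.trans hle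
  have hlt' : (l 0).asIdeal < (l (Fin.last l.length)).asIdeal :=
    (PrimeSpectrum.asIdeal_lt_asIdeal _ _).2 hlt
  have h2 : (l 0).asIdeal ≤ P := (le_of_lt hlt').trans h1
  have h3 : P ≤ (l 0).asIdeal := hP.2 ⟨(l 0).isPrime, bot_le⟩ h2
  have h4 : (l (Fin.last l.length)).asIdeal ≤ (l 0).asIdeal := h1.trans h3
  exact absurd (lt_of_lt_of_le hlt' h4) (lt_irrefl _)

include hposR h0R hdim in
/-- a homogeneous element of positive degree avoiding all minimal primes -/
theorem exists_avoid : ∃ e : ℤ, 0 < e ∧ ∃ x ∈ 𝒜 e, ∀ P ∈ minimalPrimes R, x ∉ P := by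
  classical
  have hfin : (minimalPrimes R).Finite := minimalPrimes.finite_of_isNoetherianRing R
  obtain ⟨e, he, x, hx, hxs⟩ := exists_homogeneous_avoid 𝒜 hposR h0R hfin.toFinset
    (fun P hP => ((hfin.mem_toFinset).1 hP).1.1)
    (fun P hP => isHomogeneous_of_mem_minimalPrimes 𝒜 (Ideal.IsHomogeneous.bot 𝒜)
      ((hfin.mem_toFinset).1 hP))
    (fun P hP Q hQ hPQ => le_antisymm hPQ
      (((hfin.mem_toFinset).1 hQ).2 ((hfin.mem_toFinset).1 hP).1 hPQ))
    (fun P hP => not_irrIdeal_le_minimalPrime 𝒜 hposR h0R hdim P ((hfin.mem_toFinset).1 hP))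
  exact ⟨e, he, x, hx, fun P hP => hxs P ((hfin.mem_toFinset).2 hP)⟩

variable [LocCoh.IsCohenMacaulayRing R]

include hposR h0R hdim in
/-- a homogeneous element avoiding all minimal primes is a nonzerodivisor -/
theorem isSMulRegular_of_avoid {e : ℤ} {x : R} (hx : x ∈ 𝒜 e)
    (hxs : ∀ P ∈ minimalPrimes R, x ∉ P) : IsSMulRegular R x := by
  classical
  have hhom : ∀ (n : ℤ) (a : R), a ∈ 𝒜 n → x * a = 0 → a = 0 := by
    intro n a ha hxa
    by_contra ha0
    have hd : Module.supportDim R R = ((1 : ℕ) : WithBot ℕ∞) := by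
      rw [Module.supportDim_self_eq_ringKrullDim, hdim]
    have ha' : a ∈ asGr 𝒜 n := ha
    have hdq := dim_quotient_ker_eq_of_cm 𝒜 (asGr 𝒜) hposR h0R
      (Groth.Agent.Lib.Helper20.SegCM.isCMRing_iff_module.1 inferInstance) 1 hd ha' ha0
    have hhomI := ker_toSpanSingleton_isHomogeneous 𝒜 (asGr 𝒜) ha'
    obtain ⟨l, hlen, hl⟩ := exists_chain 𝒜 _ hhomI hposR h0R 1 hdq
    have hlt : l 0 < l (Fin.last l.length) := by
      apply l.strictMono
      rw [Fin.lt_def]
      simp only [Fin.val_zero, Fin.val_last]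
      omega
    have hxl : x ∈ (l 0).asIdeal := by
      apply (hl 0).1
      rw [LinearMap.mem_ker, LinearMap.toSpanSingleton_apply, smul_eq_mul]
      exact hxa
    haveI := (l 0).isPrime
    haveI := (l (Fin.last l.length)).isPrime
    obtain ⟨P, hP, hPl⟩ := Ideal.exists_minimalPrimes_le (I := (⊥ : Ideal R))
      (J := (l 0).asIdeal) bot_le
    haveI := hP.1.1
    have hPlt : P < (l 0).asIdeal := by
      refine lt_of_le_of_ne hPl fun h => ?_
      apply hxs P hP
      rw [h]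
      exact hxl
    exact not_chain3 hdim P (l 0).asIdeal (l (Fin.last l.length)).asIdeal hPlt
      ((PrimeSpectrum.asIdeal_lt_asIdeal _ _).2 hlt)
  have hall : ∀ a : R, x * a = 0 → a = 0 := by
    intro a hxa
    rw [← DirectSum.sum_support_decompose 𝒜 a]
    refine Finset.sum_eq_zero fun n _ => ?_
    apply hhom n _ (SetLike.coe_mem _)
    have := DirectSum.coe_decompose_mul_add_of_left_mem 𝒜 (i := e) (j := n) (b := a) hx
    rw [← this, hxa, DirectSum.decompose_zero]
    rfl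
  intro a b hab
  have : x * (a - b) = 0 := by
    rw [mul_sub, sub_eq_zero]
    exact hab
  exact sub_eq_zero.1 (hall _ this)

include hposR h0R hdim in
/-- a homogeneous element of the irrelevant ideal avoiding all minimal primes is a parameter -/
theorem exists_pow_le_of_avoid {e : ℤ} {x : R} (hx : x ∈ 𝒜 e)
    (hxs : ∀ P ∈ minimalPrimes R, x ∉ P) : ∃ j : ℕ, irrIdeal 𝒜 ^ j ≤ Ideal.span {x} := by
  apply Ideal.exists_pow_le_of_le_radical_of_fg _ (IsNoetherian.noetherian _)
  rw [Ideal.radical_eq_sInf]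
  apply le_sInf
  rintro Q ⟨hxQ, hQp⟩
  haveI := hQp
  obtain ⟨Q', hQ', hQ'Q⟩ := Ideal.exists_minimalPrimes_le hxQ
  haveI := hQ'.1.1
  have hspanhom : (Ideal.span {x}).IsHomogeneous 𝒜 := by
    apply Ideal.homogeneous_span
    intro y hy
    rw [Set.mem_singleton_iff] at hy
    rw [hy]
    exact ⟨e, hx⟩
  have hQ'hom := isHomogeneous_of_mem_minimalPrimes 𝒜 hspanhom hQ'
  have hQ'm : Q' ≤ irrIdeal 𝒜 := le_irrIdeal 𝒜 Q' hQ'hom hposR h0R hQ'.1.1.ne_top
  have hxQ' : x ∈ Q' := hQ'.1.2 (Ideal.subset_span rfl)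
  obtain ⟨P, hP, hPQ'⟩ := Ideal.exists_minimalPrimes_le (I := (⊥ : Ideal R)) (J := Q') bot_le
  haveI := hP.1.1
  have hPlt : P < Q' := by
    refine lt_of_le_of_ne hPQ' fun h => ?_
    apply hxs P hP
    rw [h]
    exact hxQ'
  haveI hmax := isMaximal_irrIdeal 𝒜 hposR h0R
  haveI := hmax.isPrime
  by_cases hne : Q' = irrIdeal 𝒜
  · rw [← hne]
    exact hQ'Q
  · exfalso
    exact not_chain3 hdim P Q' (irrIdeal 𝒜) hPlt (lt_of_le_of_ne hQ'm hne)

end Param

end Groth.Agent.Lib.Helper20.StdOne
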