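import Mathlib
import Groth.Agent.Lib.Helper20.StdOne2
import Groth.Agent.Lib.Helper20.StdOne4

/-!
# One dimensional standard graded Cohen–Macaulay algebras with negative a-invariant are polynomial
rings
-/

set_option autoImplicit false
set_option linter.unusedSectionVars false
set_option linter.unusedVariables false
set_option linter.style.haveILetI false
set_option linter.overlappingInstances false

namespace Groth.Agent.Lib.Helper20.StdOne

open DirectSum Groth.Agent.Lib.Helper20.SegQuot Groth.Agent.Lib.Helper20.GrConv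
  Groth.Agent.Lib.Helper20.SegUnmixed

universe u

section Main

variable {k : Type u} [Field k] {R : Type u} [CommRing R] [Algebra k R]
  (𝒜 : ℤ → Submodule k R) [GradedAlgebra 𝒜] [IsNoetherianRing R] [Nontrivial R]
  (hposR : ∀ n : ℤ, n < 0 → 𝒜 n = ⊥) (h0R : 𝒜 0 = Submodule.span k {(1 : R)})
  (hdim : ringKrullDim R = ((1 : ℕ) : WithBot ℕ∞))
  (hstd : Ideal.span (⋃ n ∈ Set.Ioi (0 : ℤ), (𝒜 n : Set R)) =
    Ideal.span ((𝒜 1 : Submodule k R) : Set R))

include h0R in
theorem exists_smul_of_mem_zero {r : R} (hr : r ∈ 𝒜 0) : ∃ c : k, r = c • (1 : R) := by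
  rw [h0R, Submodule.mem_span_singleton] at hr
  obtain ⟨c, rfl⟩ := hr
  exact ⟨c, rfl⟩

include h0R in
/-- a homogeneous multiple of a homogeneous element, in the same degree, is a scalar multiple -/
theorem eq_smul_of_mem_span {e : ℤ} {x z : R} (hx : x ∈ 𝒜 e) (hz : z ∈ 𝒜 e)
    (hzx : z ∈ Ideal.span {x}) : ∃ c : k, z = c • x := by
  classical
  obtain ⟨r, rfl⟩ := Ideal.mem_span_singleton'.1 hzx
  have h1 := DirectSum.coe_decompose_mul_add_of_right_mem 𝒜 (i := 0) (a := r) hx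
  rw [zero_add, DirectSum.decompose_of_mem_same 𝒜 hz] at h1
  obtain ⟨c, hc⟩ := exists_smul_of_mem_zero 𝒜 h0R (SetLike.coe_mem (DirectSum.decompose 𝒜 r 0))
  refine ⟨c, ?_⟩
  rw [h1, hc, smul_mul_assoc, one_mul]

include hposR h0R hdim hstd in
/-- the elements of degree one are not all nilpotent -/
theorem exists_pow_ne_zero (n : ℕ) : ∃ y ∈ 𝒜 1, y ^ n ≠ 0 := by
  by_contra hcon
  push Not at hcon
  haveI hmax := isMaximal_irrIdeal 𝒜 hposR h0R
  haveI := hmax.isPrime
  obtain ⟨P, hP, hPm⟩ := Ideal.exists_minimalPrimes_le (I := (⊥ : Ideal R))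
    (J := irrIdeal 𝒜) bot_le
  haveI := hP.1.1
  apply not_irrIdeal_le_minimalPrime 𝒜 hposR h0R hdim P hP
  unfold irrIdeal
  rw [hstd, Ideal.span_le]
  intro y hy
  have h0 : y ^ n = 0 := hcon y hy
  exact Ideal.IsPrime.mem_of_pow_mem inferInstance n (by rw [h0]; exact zero_mem _)

variable [LocCoh.IsCohenMacaulayRing R]
  (mR : HomogeneousIdeal 𝒜)
  (hmR : mR.toIdeal = Ideal.span (⋃ n ∈ Set.Ioi (0 : ℤ), (𝒜 n : Set R)))
  (I : GrLC.StarInjRes 𝒜 𝒜)

include hposR h0R hdim hstd hmR in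
/-- **negative a-invariant forces the irrelevant ideal to be principal** -/
theorem exists_principal_of_aInv_neg (ha : ∀ d : ℤ, 0 ≤ d → I.Hcomp mR 1 d = ⊥) :
    ∃ y ∈ 𝒜 1, IsSMulRegular R y ∧ irrIdeal 𝒜 = Ideal.span {y} := by
  classical
  have hm_eq : mR.toIdeal = irrIdeal 𝒜 := hmR
  obtain ⟨e, he, x, hx, hxs⟩ := exists_avoid 𝒜 hposR h0R hdim
  have hreg := isSMulRegular_of_avoid 𝒜 hposR h0R hdim hx hxs
  obtain ⟨j, hj⟩ := exists_pow_le_of_avoid 𝒜 hposR h0R hdim hx hxs
  have hxm : x ∈ mR.toIdeal := by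
    rw [hmR]
    apply Ideal.subset_span
    simp only [Set.mem_iUnion, Set.mem_Ioi, SetLike.mem_coe, exists_prop]
    exact ⟨e, he, hx⟩
  have D1 := mem_span_of_aInv_neg 𝒜 hposR h0R mR hmR I hdim x e hx hxm hreg j
    (by rw [hm_eq]; exact hj) ha
  obtain ⟨e', he'⟩ : ∃ e' : ℕ, (e' : ℤ) = e := ⟨e.toNat, Int.toNat_of_nonneg he.le⟩
  have he'0 : e' ≠ 0 := by rintro rfl; simp at he'; omega
  obtain ⟨y, hy, hyn⟩ := exists_pow_ne_zero 𝒜 hposR h0R hdim hstd e'
  have hye : y ^ e' ∈ 𝒜 e := by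
    have := SetLike.pow_mem_graded e' hy
    rwa [nsmul_eq_mul, mul_one, he'] at this
  obtain ⟨c, hc⟩ := eq_smul_of_mem_span 𝒜 h0R hx hye (D1 e le_rfl _ hye)
  have hc0 : c ≠ 0 := by
    rintro rfl
    rw [zero_smul] at hc
    exact hyn hc
  have hregpow : IsSMulRegular R (y ^ e') := by
    intro a b hab
    apply hreg
    have h1 : c • (x * a) = c • (x * b) := by
      have : (y ^ e') * a = (y ^ e') * b := hab
      rw [hc, smul_mul_assoc, smul_mul_assoc] at this
      exact this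
    have h2 := congrArg (fun t => c⁻¹ • t) h1
    simp only [smul_smul, inv_mul_cancel₀ hc0, one_smul] at h2
    exact h2
  have hregy : IsSMulRegular R y := (IsSMulRegular.pow_iff (Nat.pos_of_ne_zero he'0)).1 hregpow
  have hxy : x ∈ Ideal.span {y} := by
    have hx' : x = c⁻¹ • y ^ e' := by
      rw [hc, smul_smul, inv_mul_cancel₀ hc0, one_smul]
    rw [hx', Ideal.mem_span_singleton']
    refine ⟨c⁻¹ • y ^ (e' - 1), ?_⟩
    rw [smul_mul_assoc, ← pow_succ, Nat.sub_add_cancel (Nat.pos_of_ne_zero he'0)]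
  have hspan : Ideal.span {x} ≤ Ideal.span {y} := by
    rw [Ideal.span_le]
    intro z hz
    rw [Set.mem_singleton_iff] at hz
    rw [hz]
    exact hxy
  have hym : y ∈ mR.toIdeal := by
    rw [hmR]
    apply Ideal.subset_span
    simp only [Set.mem_iUnion, Set.mem_Ioi, SetLike.mem_coe, exists_prop]
    exact ⟨1, one_pos, hy⟩
  have D1' := mem_span_of_aInv_neg 𝒜 hposR h0R mR hmR I hdim y 1 hy hym hregy j
    (by rw [hm_eq]; exact hj.trans hspan) ha
  refine ⟨y, hy, hregy, le_antisymm ?_ ?_⟩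
  · unfold irrIdeal
    rw [Ideal.span_le]
    intro z hz
    simp only [Set.mem_iUnion, Set.mem_Ioi, SetLike.mem_coe, exists_prop] at hz
    obtain ⟨n, hn, hzn⟩ := hz
    exact D1' n (by omega) z hzn
  · rw [Ideal.span_le]
    intro z hz
    rw [Set.mem_singleton_iff] at hz
    rw [hz, ← hm_eq]
    exact hym

end Main

end Groth.Agent.Lib.Helper20.StdOne
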