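import Mathlib
import Groth.Agent.Lib.Helper20.StdOne5

/-!
# Graded algebras whose irrelevant ideal is generated by a regular element of degree one are
polynomial rings, and conversely
-/

set_option autoImplicit false
set_option linter.unusedSectionVars false
set_option linter.unusedVariables false
set_option linter.style.haveILetI false
set_option linter.overlappingInstances false

namespace Groth.Agent.Lib.Helper20.StdOne

open DirectSum Groth.Agent.Lib.Helper20.SegQuot Groth.Agent.Lib.Helper20.GrConv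
  Groth.Agent.Lib.Helper20.SegUnmixed Polynomial

universe u

section Poly

variable {k : Type u} [Field k] {R : Type u} [CommRing R] [Algebra k R]
  (𝒜 : ℤ → Submodule k R) [GradedAlgebra 𝒜] [IsNoetherianRing R] [Nontrivial R]
  (hposR : ∀ n : ℤ, n < 0 → 𝒜 n = ⊥) (h0R : 𝒜 0 = Submodule.span k {(1 : R)})

include hposR in
theorem eq_zero_of_neg {n : ℤ} (hn : n < 0) {z : R} (hz : z ∈ 𝒜 n) : z = 0 := by
  rw [hposR n hn, Submodule.mem_bot] at hz
  exact hz

include h0R in
/-- the pieces of a graded algebra with principal irrelevant ideal -/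
theorem piece_eq_smul_pow (y : R) (hy : y ∈ 𝒜 1) (hspan : irrIdeal 𝒜 = Ideal.span {y}) :
    ∀ (n : ℕ) (z : R), z ∈ 𝒜 (n : ℤ) → ∃ c : k, z = c • y ^ n := by
  classical
  intro n
  induction n with
  | zero =>
    intro z hz
    obtain ⟨c, hc⟩ := exists_smul_of_mem_zero 𝒜 h0R (by simpa using hz)
    exact ⟨c, by rw [hc, pow_zero]⟩
  | succ n ih =>
    intro z hz
    have hzm : z ∈ irrIdeal 𝒜 := by
      apply Ideal.subset_span
      simp only [Set.mem_iUnion, Set.mem_Ioi, SetLike.mem_coe, exists_prop]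
      exact ⟨((n + 1 : ℕ) : ℤ), by positivity, hz⟩
    rw [hspan] at hzm
    obtain ⟨r, rfl⟩ := Ideal.mem_span_singleton'.1 hzm
    have h1 := DirectSum.coe_decompose_mul_add_of_right_mem 𝒜 (i := (n : ℤ)) (a := r) hy
    have hcast : ((n + 1 : ℕ) : ℤ) = (n : ℤ) + 1 := by push_cast; ring
    rw [hcast] at hz
    rw [DirectSum.decompose_of_mem_same 𝒜 hz] at h1
    obtain ⟨c, hc⟩ := ih _ (SetLike.coe_mem (DirectSum.decompose 𝒜 r (n : ℤ)))
    refine ⟨c, ?_⟩
    rw [h1, hc, smul_mul_assoc, ← pow_succ]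

include hposR h0R in
/-- **a graded algebra whose irrelevant ideal is generated by a regular element of degree one is a
polynomial ring** -/
theorem nonempty_algEquiv_polynomial (y : R) (hy : y ∈ 𝒜 1) (hreg : IsSMulRegular R y)
    (hspan : irrIdeal 𝒜 = Ideal.span {y}) : Nonempty (R ≃ₐ[k] Polynomial k) := by
  classical
  have hpiece := piece_eq_smul_pow 𝒜 h0R y hy hspan
  have hpow_ne : ∀ n : ℕ, y ^ n ≠ 0 := by
    intro n h
    have h1 : IsSMulRegular R (y ^ n) := hreg.pow n
    have h2 : (y ^ n) • (1 : R) = (y ^ n) • (0 : R) := by rw [h]; simp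
    exact one_ne_zero (h1 h2)
  have hpow_mem : ∀ n : ℕ, y ^ n ∈ 𝒜 (n : ℤ) := by
    intro n
    have := SetLike.pow_mem_graded n hy
    rwa [nsmul_eq_mul, mul_one] at this
  let φ : Polynomial k →ₐ[k] R := Polynomial.aeval y
  have hsurj : Function.Surjective φ := by
    intro r
    have hr : r ∈ φ.range := by
      rw [← DirectSum.sum_support_decompose 𝒜 r]
      refine Subalgebra.sum_mem _ fun n _ => ?_
      by_cases hn : n < 0
      · rw [eq_zero_of_neg 𝒜 hposR hn (SetLike.coe_mem (DirectSum.decompose 𝒜 r n))]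
        exact Subalgebra.zero_mem _
      · obtain ⟨n', rfl⟩ := Int.eq_ofNat_of_zero_le (not_lt.1 hn)
        obtain ⟨c, hc⟩ := hpiece n' _ (SetLike.coe_mem (DirectSum.decompose 𝒜 r (n' : ℤ)))
        rw [hc]
        refine ⟨Polynomial.C c * Polynomial.X ^ n', ?_⟩
        change Polynomial.aeval y (Polynomial.C c * Polynomial.X ^ n') = _
        rw [map_mul, Polynomial.aeval_C, map_pow, Polynomial.aeval_X, Algebra.smul_def]
    exact hr
  have hcomp : ∀ (p : Polynomial k) (n : ℕ),
      (DirectSum.decompose 𝒜 (φ p) (n : ℤ) : R) = p.coeff n • y ^ n := by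
    intro p n
    change (DirectSum.decompose 𝒜 (Polynomial.aeval y p) (n : ℤ) : R) = _
    rw [Polynomial.aeval_eq_sum_range, DirectSum.decompose_sum, DFinsupp.finset_sum_apply,
      AddSubmonoidClass.coe_finset_sum]
    have hmem : ∀ i : ℕ, p.coeff i • y ^ i ∈ 𝒜 (i : ℤ) :=
      fun i => (𝒜 (i : ℤ)).smul_mem _ (hpow_mem i)
    rw [Finset.sum_eq_single n]
    · rw [DirectSum.decompose_of_mem_same 𝒜 (hmem n)]
    · intro i _ hin
      rw [DirectSum.decompose_of_mem_ne 𝒜 (hmem i) (by exact_mod_cast hin)]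
    · intro hn
      rw [Finset.mem_range, not_lt] at hn
      rw [Polynomial.coeff_eq_zero_of_natDegree_lt (by omega), zero_smul,
        DirectSum.decompose_zero]
      rfl
  have hinj : Function.Injective φ := by
    rw [injective_iff_map_eq_zero]
    intro p hp
    ext n
    have h1 := hcomp p n
    rw [hp, DirectSum.decompose_zero] at h1
    have h2 : p.coeff n • y ^ n = 0 := h1.symm
    rw [Polynomial.coeff_zero]
    by_contra hc
    apply hpow_ne n
    have := congrArg (fun t => (p.coeff n)⁻¹ • t) h2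
    simpa [smul_smul, inv_mul_cancel₀ hc] using this
  exact ⟨(AlgEquiv.ofBijective φ ⟨hinj, hsurj⟩).symm⟩

end Poly

section Conv

variable {k : Type u} [Field k] {R : Type u} [CommRing R] [Algebra k R]
  (𝒜 : ℤ → Submodule k R) [GradedAlgebra 𝒜] [IsNoetherianRing R] [Nontrivial R]
  (hposR : ∀ n : ℤ, n < 0 → 𝒜 n = ⊥) (h0R : 𝒜 0 = Submodule.span k {(1 : R)})
  (hdim : ringKrullDim R = ((1 : ℕ) : WithBot ℕ∞))
  (hstd : Ideal.span (⋃ n ∈ Set.Ioi (0 : ℤ), (𝒜 n : Set R)) =
    Ideal.span ((𝒜 1 : Submodule k R) : Set R))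

include hposR h0R in
/-- the degree one component of a product with an element of the irrelevant ideal -/
theorem decompose_mul_one (f : R) (hf : f ∈ irrIdeal 𝒜) (g : R) :
    (DirectSum.decompose 𝒜 (g * f) 1 : R) =
      (DirectSum.decompose 𝒜 g 0 : R) * (DirectSum.decompose 𝒜 f 1 : R) := by
  classical
  have hf0 : (DirectSum.decompose 𝒜 f 0 : R) = 0 := by
    by_contra h
    have h1 : (DirectSum.decompose 𝒜 f 0 : R) ∈ irrIdeal 𝒜 := irrIdeal_isHomogeneous 𝒜 0 hf
    have := pos_of_mem_irrIdeal 𝒜 hposR h0R (SetLike.coe_mem _) h1 h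
    exact absurd this (lt_irrefl 0)
  have hfneg : ∀ n : ℤ, n < 0 → (DirectSum.decompose 𝒜 f n : R) = 0 := by
    intro n hn
    exact eq_zero_of_neg 𝒜 hposR hn (SetLike.coe_mem (DirectSum.decompose 𝒜 f n))
  induction g using DirectSum.Decomposition.inductionOn 𝒜 with
  | zero => simp
  | add a b ha hb =>
    rw [add_mul, DirectSum.decompose_add, DirectSum.add_apply, AddMemClass.coe_add, ha, hb,
      DirectSum.decompose_add, DirectSum.add_apply, AddMemClass.coe_add, add_mul]
  | homogeneous a =>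
    rename_i i
    have h1 := DirectSum.coe_decompose_mul_add_of_left_mem 𝒜 (i := i) (j := 1 - i) (b := f) a.2
    have hi : i + (1 - i) = 1 := by ring
    rw [hi] at h1
    rw [h1]
    by_cases hi0 : i = 0
    · subst hi0
      rw [DirectSum.decompose_coe, DirectSum.of_eq_same, sub_zero]
    · rw [DirectSum.decompose_coe, DirectSum.of_eq_of_ne _ _ _ (Ne.symm hi0)]
      simp only [ZeroMemClass.coe_zero, zero_mul]
      rcases lt_trichotomy i 0 with hneg | hzero | hposi
      · rw [eq_zero_of_neg 𝒜 hposR hneg a.2, zero_mul]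
      · exact absurd hzero hi0
      · by_cases hi1 : i = 1
        · subst hi1
          rw [sub_self, hf0, mul_zero]
        · rw [hfneg (1 - i) (by omega), mul_zero]

include hposR h0R hdim hstd in
/-- **a standard graded algebra abstractly isomorphic to a polynomial ring in one variable has its
irrelevant ideal generated by a regular element of degree one** -/
theorem exists_principal_of_algEquiv (h : Nonempty (R ≃ₐ[k] Polynomial k)) :
    ∃ y ∈ 𝒜 1, IsSMulRegular R y ∧ irrIdeal 𝒜 = Ideal.span {y} := by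
  classical
  obtain ⟨e⟩ := h
  haveI : IsDomain R := MulEquiv.isDomain (Polynomial k) e.toRingEquiv.toMulEquiv
  haveI : IsPrincipalIdealRing R :=
    IsPrincipalIdealRing.of_surjective (e.symm.toRingEquiv : Polynomial k →+* R)
      e.symm.surjective
  obtain ⟨f, hf⟩ := (IsPrincipalIdealRing.principal (irrIdeal 𝒜)).principal
  have hf' : irrIdeal 𝒜 = Ideal.span {f} := hf
  have hfm : f ∈ irrIdeal 𝒜 := by
    rw [hf']
    exact Ideal.subset_span rfl
  set y : R := (DirectSum.decompose 𝒜 f 1 : R) with hydef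
  have hy : y ∈ 𝒜 1 := SetLike.coe_mem _
  have h1 : ∀ z ∈ 𝒜 1, z ∈ Ideal.span {y} := by
    intro z hz
    have hzm : z ∈ irrIdeal 𝒜 := by
      apply Ideal.subset_span
      simp only [Set.mem_iUnion, Set.mem_Ioi, SetLike.mem_coe, exists_prop]
      exact ⟨1, one_pos, hz⟩
    rw [hf'] at hzm
    obtain ⟨g, rfl⟩ := Ideal.mem_span_singleton'.1 hzm
    have h2 := decompose_mul_one 𝒜 hposR h0R f hfm g
    rw [DirectSum.decompose_of_mem_same 𝒜 hz] at h2
    rw [h2]
    exact Ideal.mul_mem_left _ _ (Ideal.subset_span rfl)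
  have hspan : irrIdeal 𝒜 = Ideal.span {y} := by
    apply le_antisymm
    · unfold irrIdeal
      rw [hstd, Ideal.span_le]
      exact h1
    · rw [Ideal.span_le]
      intro z hz
      rw [Set.mem_singleton_iff] at hz
      rw [hz]
      apply Ideal.subset_span
      simp only [Set.mem_iUnion, Set.mem_Ioi, SetLike.mem_coe, exists_prop]
      exact ⟨1, one_pos, hy⟩
  have hy0 : y ≠ 0 := by
    intro h0
    haveI hmax := isMaximal_irrIdeal 𝒜 hposR h0R
    haveI := hmax.isPrime
    obtain ⟨P, hP, hPm⟩ := Ideal.exists_minimalPrimes_le (I := (⊥ : Ideal R))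
      (J := irrIdeal 𝒜) bot_le
    apply not_irrIdeal_le_minimalPrime 𝒜 hposR h0R hdim P hP
    rw [hspan, h0, Ideal.span_le]
    intro z hz
    rw [Set.mem_singleton_iff] at hz
    rw [hz]
    exact zero_mem _
  exact ⟨y, hy, fun a b hab => mul_left_cancel₀ hy0 hab, hspan⟩

end Conv

end Groth.Agent.Lib.Helper20.StdOne
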