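import Mathlib
import Groth.Agent.Lib.Helper20.StdOne6
import Groth.Agent.Lib.Helper20.GOne2
import Groth.Agent.Lib.Helper5.GorIso

/-!
# Segre products with a polynomial ring in one variable
-/

set_option autoImplicit false
set_option linter.unusedSectionVars false
set_option linter.unusedVariables false
set_option linter.style.haveILetI false
set_option linter.overlappingInstances false

namespace Groth.Agent.Lib.Helper20.GOne

open TensorProduct DirectSum Groth.Agent.Lib.Helper20.SegQuot Groth.Agent.Lib.Helper20.GrConv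
  Groth.Agent.Lib.Helper20.StdOne Polynomial

universe u

section GorEquiv

/-- the Gorenstein property of rings is invariant under ring isomorphisms -/
theorem isGorensteinRing_of_ringEquiv {A B : Type u} [CommRing A] [CommRing B] (e : A ≃+* B)
    [h : LocCoh.IsGorensteinRing A] : LocCoh.IsGorensteinRing B := by
  haveI hN : IsNoetherianRing B := isNoetherianRing_of_ringEquiv A e
  refine { isGorensteinLocalRing_localization := fun q _ => ?_ }
  have H : (q.comap (e : A →+* B)).primeCompl.map e.toMonoidHom = q.primeCompl := by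
    ext x
    constructor
    · rintro ⟨y, hy, rfl⟩
      exact hy
    · intro hx
      refine ⟨e.symm x, ?_, e.apply_symm_apply x⟩
      change e.symm x ∉ q.comap (e : A →+* B)
      rw [Ideal.mem_comap]
      change e (e.symm x) ∉ q
      rw [e.apply_symm_apply]
      exact hx
  haveI := LocCoh.IsGorensteinRing.isGorensteinLocalRing_localization (A := A)
    (q.comap (e : A →+* B))
  exact Groth.Agent.Lib.Helper5.GorIso.isGorensteinLocalRing_of_ringEquiv
    (IsLocalization.ringEquivOfRingEquiv (Localization.AtPrime (q.comap (e : A →+* B)))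
      (Localization.AtPrime q) e H)

end GorEquiv

section Poly

variable {k : Type u} [Field k] {R : Type u} [CommRing R] [Algebra k R]
  (𝒜 : ℤ → Submodule k R) [GradedAlgebra 𝒜] [IsNoetherianRing R] [Nontrivial R]
  (hposR : ∀ n : ℤ, n < 0 → 𝒜 n = ⊥) (h0R : 𝒜 0 = Submodule.span k {(1 : R)})

include hposR h0R in
/-- **evaluation at a regular generator of the irrelevant ideal is bijective** -/
theorem aeval_bijective (y : R) (hy : y ∈ 𝒜 1) (hreg : IsSMulRegular R y)
    (hspan : irrIdeal 𝒜 = Ideal.span {y}) :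
    Function.Bijective (Polynomial.aeval y : Polynomial k →ₐ[k] R) := by
  classical
  have hpiece := piece_eq_smul_pow 𝒜 h0R y hy hspan
  have hpow_ne : ∀ n : ℕ, y ^ n ≠ 0 := by
    intro n h
    have h1 : IsSMulRegular R (y ^ n) := hreg.pow n
    have h2 : (y ^ n) • (1 : R) = (y ^ n) • (0 : R) := by rw [h]; simp
    exact one_ne_zero (h1 h2)
  have hpow_mem : ∀ n : ℕ, y ^ n ∈ 𝒜 (n : ℤ) := by
    intro n
    have := SetLike.pow_mem_graded n hy
    rwa [nsmul_eq_mul, mul_one] at this
  let φ : Polynomial k →ₐ[k] R := Polynomial.aeval y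
  have hsurj : Function.Surjective φ := by
    intro r
    have hr : r ∈ φ.range := by
      rw [← DirectSum.sum_support_decompose 𝒜 r]
      refine Subalgebra.sum_mem _ fun n _ => ?_
      by_cases hn : n < 0
      · rw [eq_zero_of_neg 𝒜 hposR hn (SetLike.coe_mem (DirectSum.decompose 𝒜 r n))]
        exact Subalgebra.zero_mem _
      · obtain ⟨n', rfl⟩ := Int.eq_ofNat_of_zero_le (not_lt.1 hn)
        obtain ⟨c, hc⟩ := hpiece n' _ (SetLike.coe_mem (DirectSum.decompose 𝒜 r (n' : ℤ)))
        rw [hc]
        refine ⟨Polynomial.C c * Polynomial.X ^ n', ?_⟩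
        change Polynomial.aeval y (Polynomial.C c * Polynomial.X ^ n') = _
        rw [map_mul, Polynomial.aeval_C, map_pow, Polynomial.aeval_X, Algebra.smul_def]
    exact hr
  have hcomp : ∀ (p : Polynomial k) (n : ℕ),
      (DirectSum.decompose 𝒜 (φ p) (n : ℤ) : R) = p.coeff n • y ^ n := by
    intro p n
    change (DirectSum.decompose 𝒜 (Polynomial.aeval y p) (n : ℤ) : R) = _
    rw [Polynomial.aeval_eq_sum_range, DirectSum.decompose_sum, DFinsupp.finset_sum_apply,
      AddSubmonoidClass.coe_finset_sum]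
    have hmem : ∀ i : ℕ, p.coeff i • y ^ i ∈ 𝒜 (i : ℤ) :=
      fun i => (𝒜 (i : ℤ)).smul_mem _ (hpow_mem i)
    rw [Finset.sum_eq_single n]
    · rw [DirectSum.decompose_of_mem_same 𝒜 (hmem n)]
    · intro i _ hin
      rw [DirectSum.decompose_of_mem_ne 𝒜 (hmem i) (by exact_mod_cast hin)]
    · intro hn
      rw [Finset.mem_range, not_lt] at hn
      rw [Polynomial.coeff_eq_zero_of_natDegree_lt (by omega), zero_smul,
        DirectSum.decompose_zero]
      rfl
  have hinj : Function.Injective φ := by
    rw [injective_iff_map_eq_zero]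
    intro p hp
    ext n
    have h1 := hcomp p n
    rw [hp, DirectSum.decompose_zero] at h1
    have h2 : p.coeff n • y ^ n = 0 := h1.symm
    rw [Polynomial.coeff_zero]
    by_contra hc
    apply hpow_ne n
    have := congrArg (fun t => (p.coeff n)⁻¹ • t) h2
    simpa [smul_smul, inv_mul_cancel₀ hc] using this
  exact ⟨hinj, hsurj⟩

include hposR h0R in
/-- an augmentation sending the generator to one -/
theorem exists_augmentation (y : R) (hy : y ∈ 𝒜 1) (hreg : IsSMulRegular R y)
    (hspan : irrIdeal 𝒜 = Ideal.span {y}) : ∃ ε : R →ₐ[k] k, ε y = 1 := by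
  have hb := aeval_bijective 𝒜 hposR h0R y hy hreg hspan
  let φ : Polynomial k ≃ₐ[k] R := AlgEquiv.ofBijective (Polynomial.aeval y) hb
  refine ⟨(Polynomial.aeval (1 : k)).comp φ.symm.toAlgHom, ?_⟩
  have h1 : φ.symm y = Polynomial.X := by
    apply φ.injective
    rw [AlgEquiv.apply_symm_apply]
    change y = Polynomial.aeval y Polynomial.X
    rw [Polynomial.aeval_X]
  change Polynomial.aeval (1 : k) (φ.symm y) = 1
  rw [h1, Polynomial.aeval_X]

end Poly

section Principal

variable {k : Type u} [Field k] {R : Type u} [CommRing R] [Algebra k R]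
  (𝒜 : ℤ → Submodule k R) [GradedAlgebra 𝒜]
  (hposR : ∀ n : ℤ, n < 0 → 𝒜 n = ⊥) (h0R : 𝒜 0 = Submodule.span k {(1 : R)})
  [Algebra.FiniteType k R] [LocCoh.IsCohenMacaulayRing R] [Nontrivial R]
  (hstd : Ideal.span (⋃ n ∈ Set.Ioi (0 : ℤ), (𝒜 n : Set R)) =
    Ideal.span ((𝒜 1 : Submodule k R) : Set R))
  (h1 : 1 ≤ ringKrullDim R)

include hposR h0R hstd h1 in
/-- if the degree one piece is a line then the irrelevant ideal is generated by a regular linear
form -/
theorem exists_principal_of_finrank_one (h : Module.finrank k (𝒜 1) = 1) :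
    ∃ y ∈ 𝒜 1, IsSMulRegular R y ∧ irrIdeal 𝒜 = Ideal.span {y} := by
  obtain ⟨v, hv0, hv⟩ := finrank_eq_one_iff'.1 h
  have hspan : irrIdeal 𝒜 = Ideal.span {(v : R)} := by
    change Ideal.span (⋃ n ∈ Set.Ioi (0 : ℤ), (𝒜 n : Set R)) = _
    rw [hstd]
    apply le_antisymm
    · rw [Ideal.span_le]
      intro b hb
      obtain ⟨c, hc⟩ := hv ⟨b, hb⟩
      have hc' : c • (v : R) = b := congrArg Subtype.val hc
      rw [SetLike.mem_coe, ← hc', Algebra.smul_def]
      exact Ideal.mul_mem_left _ _ (Ideal.subset_span rfl)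
    · rw [Ideal.span_le]
      intro b hb
      rw [Set.mem_singleton_iff] at hb
      rw [hb]
      exact Ideal.subset_span v.2
  refine ⟨v, v.2, ?_, hspan⟩
  intro a b hab
  have hab' : (v : R) * (a - b) = 0 := by
    change (v : R) * a = (v : R) * b at hab
    rw [mul_sub, hab, sub_self]
  have := eq_zero_of_irr_mul 𝒜 hposR h0R h1 (a - b) (by
    intro w hw
    have hw' : w ∈ Ideal.span {(v : R)} := by
      rw [← hspan]
      exact hw
    obtain ⟨s, rfl⟩ := Ideal.mem_span_singleton'.1 hw'
    rw [mul_assoc, hab', mul_zero])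
  exact sub_eq_zero.1 this

end Principal

end Groth.Agent.Lib.Helper20.GOne
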