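import Mathlib
import Groth.Agent.Lib.Helper20.GOne4
import Groth.Agent.Lib.Helper20.SegDim

/-!
# The Segre product with a polynomial ring in one variable is the other factor
-/

set_option autoImplicit false
set_option linter.unusedSectionVars false
set_option linter.unusedVariables false
set_option linter.style.haveILetI false
set_option linter.overlappingInstances false
set_option linter.deprecated false

namespace Groth.Agent.Lib.Helper20.GOne

open TensorProduct DirectSum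

universe u

section DecMap

variable {k : Type u} [Field k] {R : Type u} [CommRing R] [Algebra k R]
  (𝒜 : ℤ → Submodule k R) [GradedAlgebra 𝒜]
  {T : Type u} [CommRing T] [Algebra k T] (𝒯 : ℤ → Submodule k T) [GradedAlgebra 𝒯]

theorem decompose_map (f : T →ₗ[k] R) (hf : ∀ n t, t ∈ 𝒯 n → f t ∈ 𝒜 n) (t : T) (n : ℤ) :
    (DirectSum.decompose 𝒜 (f t) n : R) = f (DirectSum.decompose 𝒯 t n) := by
  classical
  conv_lhs => rw [← DirectSum.sum_support_decompose 𝒯 t]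
  rw [map_sum, DirectSum.decompose_sum, DFinsupp.finset_sum_apply,
    AddSubmonoidClass.coe_finset_sum]
  rw [Finset.sum_eq_single n]
  · rw [DirectSum.decompose_of_mem_same 𝒜 (hf n _ (SetLike.coe_mem _))]
  · intro i _ hin
    rw [DirectSum.decompose_of_mem_ne 𝒜 (hf i _ (SetLike.coe_mem _)) hin]
  · intro hn
    rw [DFinsupp.notMem_support_iff] at hn
    rw [hn]
    simp

end DecMap

section Rho

variable {k : Type u} [Field k] {R : Type u} [CommRing R] [Algebra k R]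
  (𝒜 : ℤ → Submodule k R) [GradedAlgebra 𝒜] (hposR : ∀ n : ℤ, n < 0 → 𝒜 n = ⊥)
  {S : Type u} [CommRing S] [Algebra k S] (ℬ : ℤ → Submodule k S) [GradedAlgebra ℬ]
  {T : Type u} [CommRing T] [Algebra k T] (𝒯 : ℤ → Submodule k T) [GradedAlgebra 𝒯]
  (ψ : T →ₐ[k] R ⊗[k] S) (hψ : Function.Injective ψ)
  (hdegT : ∀ n : ℤ, (𝒯 n).map ψ.toLinearMap =
    Submodule.span k {x : R ⊗[k] S | ∃ a ∈ 𝒜 n, ∃ b ∈ ℬ n, x = a ⊗ₜ[k] b})
  (y : S) (hy : y ∈ ℬ 1)
  (hpiece : ∀ (n : ℕ) (b : S), b ∈ ℬ (n : ℤ) → ∃ c : k, b = c • y ^ n)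
  (ε : S →ₐ[k] k) (hε : ε y = 1)

/-- the projection of the Segre product to the first factor -/
noncomputable def rho : T →ₐ[k] R :=
  (Algebra.TensorProduct.rid k k R).toAlgHom.comp
    ((Algebra.TensorProduct.map (AlgHom.id k R) ε).comp ψ)

theorem rho_apply_of (t : T) (a : R) (b : S) (h : ψ t = a ⊗ₜ[k] b) :
    rho ψ ε t = ε b • a := by
  change (Algebra.TensorProduct.rid k k R)
    ((Algebra.TensorProduct.map (AlgHom.id k R) ε) (ψ t)) = _
  rw [h, Algebra.TensorProduct.map_tmul, Algebra.TensorProduct.rid_tmul]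
  rfl

include hdegT hpiece in
theorem psi_eq_tmul_pow (n : ℕ) (t : T) (ht : t ∈ 𝒯 (n : ℤ)) :
    ∃ a ∈ 𝒜 (n : ℤ), ψ t = a ⊗ₜ[k] (y ^ n) := by
  have h1 : ψ t ∈ (𝒯 (n : ℤ)).map ψ.toLinearMap := ⟨t, ht, rfl⟩
  rw [hdegT] at h1
  have key : ∀ x ∈ Submodule.span k
      {x : R ⊗[k] S | ∃ a ∈ 𝒜 (n : ℤ), ∃ b ∈ ℬ (n : ℤ), x = a ⊗ₜ[k] b},
      ∃ a ∈ 𝒜 (n : ℤ), x = a ⊗ₜ[k] (y ^ n) := by
    intro x hx
    induction hx using Submodule.span_induction with
    | mem x hx =>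
      obtain ⟨a, ha, b, hb, rfl⟩ := hx
      obtain ⟨c, rfl⟩ := hpiece n b hb
      exact ⟨c • a, (𝒜 (n : ℤ)).smul_mem c ha, by rw [TensorProduct.tmul_smul,
        TensorProduct.smul_tmul']⟩
    | zero => exact ⟨0, zero_mem _, by rw [TensorProduct.zero_tmul]⟩
    | add x z _ _ hx hz =>
      obtain ⟨a, ha, rfl⟩ := hx
      obtain ⟨a', ha', rfl⟩ := hz
      exact ⟨a + a', add_mem ha ha', by rw [TensorProduct.add_tmul]⟩
    | smul c x _ hx =>
      obtain ⟨a, ha, rfl⟩ := hx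
      exact ⟨c • a, (𝒜 (n : ℤ)).smul_mem c ha, by rw [TensorProduct.smul_tmul']⟩
  exact key _ h1

include hposR hψ hdegT in
theorem eq_zero_of_neg' {n : ℤ} (hn : n < 0) {t : T} (ht : t ∈ 𝒯 n) : t = 0 := by
  have := Groth.Agent.Lib.Helper20.SegDim.piece_eq_bot_of_neg hψ hdegT (hposR n hn)
  rw [this, Submodule.mem_bot] at ht
  exact ht

include hε in
theorem eps_pow (n : ℕ) : ε (y ^ n) = 1 := by rw [map_pow, hε, one_pow]

include hposR hψ hdegT hpiece hε in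
theorem rho_mem (n : ℤ) (t : T) (ht : t ∈ 𝒯 n) : rho ψ ε t ∈ 𝒜 n := by
  by_cases hn : n < 0
  · rw [eq_zero_of_neg' 𝒜 hposR ℬ 𝒯 ψ hψ hdegT hn ht, map_zero]
    exact zero_mem _
  · obtain ⟨n', rfl⟩ := Int.eq_ofNat_of_zero_le (not_lt.1 hn)
    obtain ⟨a, ha, h⟩ := psi_eq_tmul_pow 𝒜 ℬ 𝒯 ψ hdegT y hpiece n' t ht
    rw [rho_apply_of ψ ε t a _ h, eps_pow y ε hε, one_smul]
    exact ha

include hposR hψ hdegT hpiece hε in
theorem eq_zero_of_rho_eq_zero (n : ℤ) (t : T) (ht : t ∈ 𝒯 n) (h0 : rho ψ ε t = 0) : t = 0 := by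
  by_cases hn : n < 0
  · exact eq_zero_of_neg' 𝒜 hposR ℬ 𝒯 ψ hψ hdegT hn ht
  · obtain ⟨n', rfl⟩ := Int.eq_ofNat_of_zero_le (not_lt.1 hn)
    obtain ⟨a, ha, h⟩ := psi_eq_tmul_pow 𝒜 ℬ 𝒯 ψ hdegT y hpiece n' t ht
    rw [rho_apply_of ψ ε t a _ h, eps_pow y ε hε, one_smul] at h0
    apply hψ
    rw [h, h0, TensorProduct.zero_tmul, map_zero]

include hposR hψ hdegT hpiece hε in
theorem rho_injective : Function.Injective (rho ψ ε) := by
  classical
  rw [injective_iff_map_eq_zero]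
  intro t ht
  have hcomp : ∀ n, (DirectSum.decompose 𝒯 t n : T) = 0 := by
    intro n
    apply eq_zero_of_rho_eq_zero 𝒜 hposR ℬ 𝒯 ψ hψ hdegT y hpiece ε hε n _ (SetLike.coe_mem _)
    have := decompose_map 𝒜 𝒯 (rho ψ ε).toLinearMap
      (rho_mem 𝒜 hposR ℬ 𝒯 ψ hψ hdegT y hpiece ε hε) t n
    change (DirectSum.decompose 𝒜 (rho ψ ε t) n : R) = rho ψ ε _ at this
    rw [← this, ht, DirectSum.decompose_zero]
    rfl
  rw [← DirectSum.sum_support_decompose 𝒯 t]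
  exact Finset.sum_eq_zero fun n _ => hcomp n

include hposR hdegT hy hε in
theorem rho_surjective : Function.Surjective (rho ψ ε) := by
  classical
  intro r
  have hr : r ∈ (rho ψ ε).range := by
    rw [← DirectSum.sum_support_decompose 𝒜 r]
    refine Subalgebra.sum_mem _ fun n _ => ?_
    by_cases hn : n < 0
    · have h1 : (DirectSum.decompose 𝒜 r n : R) ∈ 𝒜 n := SetLike.coe_mem _
      have h2 := (le_of_eq (hposR n hn)) h1
      rw [Submodule.mem_bot] at h2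
      rw [h2]
      exact Subalgebra.zero_mem _
    · obtain ⟨n', rfl⟩ := Int.eq_ofNat_of_zero_le (not_lt.1 hn)
      have hpow_mem : y ^ n' ∈ ℬ (n' : ℤ) := by
        have := SetLike.pow_mem_graded n' hy
        rwa [nsmul_eq_mul, mul_one] at this
      have h1 : (DirectSum.decompose 𝒜 r (n' : ℤ) : R) ⊗ₜ[k] (y ^ n') ∈
          (𝒯 (n' : ℤ)).map ψ.toLinearMap := by
        rw [hdegT]
        exact Submodule.subset_span ⟨_, SetLike.coe_mem _, _, hpow_mem, rfl⟩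
      obtain ⟨t, -, ht⟩ := h1
      refine ⟨t, ?_⟩
      change rho ψ ε t = _
      have ht' : ψ t = (DirectSum.decompose 𝒜 r (n' : ℤ) : R) ⊗ₜ[k] (y ^ n') := ht
      rw [rho_apply_of ψ ε t _ _ ht', eps_pow y ε hε, one_smul]
  exact hr

include hposR hψ hdegT hy hpiece hε in
/-- **the Segre product with `k[y]` is isomorphic to the other factor** -/
theorem nonempty_ringEquiv : Nonempty (T ≃+* R) :=
  ⟨(AlgEquiv.ofBijective (rho ψ ε)
    ⟨rho_injective 𝒜 hposR ℬ 𝒯 ψ hψ hdegT y hpiece ε hε,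
      rho_surjective 𝒜 hposR ℬ 𝒯 ψ hdegT y hy ε hε⟩).toRingEquiv⟩

end Rho

end Groth.Agent.Lib.Helper20.GOne
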