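import Mathlib
import Groth.Agent.Lib.Helper20.GOne1
import Groth.Agent.Lib.Helper20.GOne3
import Groth.Agent.Lib.Helper20.GOne5
import Groth.Agent.Lib.Helper20.GType2
import Groth.Agent.Lib.Helper20.StdOne4
import Groth.Agent.Lib.Helper20.SegCM6
import Groth.Agent.S18646

/-!
# A Gorenstein Segre product of one dimensional standard graded Cohen–Macaulay rings
-/

set_option autoImplicit false
set_option linter.unusedSectionVars false
set_option linter.unusedVariables false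
set_option linter.style.haveILetI false
set_option linter.overlappingInstances false

universe u

open TensorProduct DirectSum

namespace Groth.Agent.Lib.Helper20.GOne

open Groth.Agent.Lib.Helper26.GrProj Groth.Agent.Lib.Helper20.GrKit
  Groth.Agent.Lib.Helper20.GrConv Groth.Agent.Lib.Helper20.SegTot
  Groth.Agent.Lib.Helper20.GDual Groth.Agent.Lib.Helper20.GrCanW
  Groth.Agent.Lib.Helper20.SegQuot Groth.Agent.Lib.Helper20.StdOne

theorem s18660 (k : Type u) [Field k] (R : Type u) [CommRing R] [Algebra k R]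
    (𝒜 : ℤ → Submodule k R) [GradedAlgebra 𝒜] (hposR : ∀ n : ℤ, n < 0 → 𝒜 n = ⊥)
    (h0R : 𝒜 0 = Submodule.span k {(1 : R)}) [Algebra.FiniteType k R]
    (S : Type u) [CommRing S] [Algebra k S] (ℬ : ℤ → Submodule k S) [GradedAlgebra ℬ]
    (hposS : ∀ n : ℤ, n < 0 → ℬ n = ⊥) (h0S : ℬ 0 = Submodule.span k {(1 : S)})
    [Algebra.FiniteType k S]
    (T : Type u) [CommRing T] [Algebra k T] (𝒯 : ℤ → Submodule k T) [GradedAlgebra 𝒯]
    (ψ : T →ₐ[k] TensorProduct k R S) (hψ : Function.Injective ψ)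
    (hdegT : ∀ n : ℤ, (𝒯 n).map ψ.toLinearMap =
      Submodule.span k {x : TensorProduct k R S | ∃ a ∈ 𝒜 n, ∃ b ∈ ℬ n, x = a ⊗ₜ[k] b})
    [LocCoh.IsCohenMacaulayRing R] [LocCoh.IsCohenMacaulayRing S]
    (hstdR : Ideal.span (⋃ n ∈ Set.Ioi (0 : ℤ), (𝒜 n : Set R)) =
      Ideal.span ((𝒜 1 : Submodule k R) : Set R))
    (hstdS : Ideal.span (⋃ n ∈ Set.Ioi (0 : ℤ), (ℬ n : Set S)) =
      Ideal.span ((ℬ 1 : Submodule k S) : Set S))
    (hr : ringKrullDim R = 1) (hs : ringKrullDim S = 1)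
    (hR : IsEmpty (R ≃ₐ[k] Polynomial k)) [LocCoh.IsGorensteinRing T] :
    Nonempty (S ≃ₐ[k] Polynomial k) ∧ LocCoh.IsGorensteinRing R := by
  classical
  have hr' : ringKrullDim R = ((1 : ℕ) : WithBot ℕ∞) := by rw [hr]; rfl
  have hs' : ringKrullDim S = ((1 : ℕ) : WithBot ℕ∞) := by rw [hs]; rfl
  haveI : Nontrivial R := Groth.Agent.Lib.Helper20.SegCM.nontrivial_of_dim 1 hr'
  haveI : Nontrivial S := Groth.Agent.Lib.Helper20.SegCM.nontrivial_of_dim 1 hs'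
  haveI : IsNoetherianRing R := Algebra.FiniteType.isNoetherianRing k R
  haveI : IsNoetherianRing S := Algebra.FiniteType.isNoetherianRing k S
  haveI : IsNoetherianRing T :=
    Groth.Agent.S18646.result k R 𝒜 hposR h0R S ℬ hposS h0S T 𝒯 ψ hψ hdegT
  haveI : Algebra.FiniteType k T :=
    Groth.Agent.Lib.Helper20.SegDim.finiteType_segre 𝒜 ℬ 𝒯 ψ hposR h0R hposS h0S hψ hdegT
  haveI : Nontrivial (R ⊗[k] S) :=
    Algebra.TensorProduct.nontrivial_of_algebraMap_injective_of_flat_left k R S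
      (algebraMap k S).injective
  haveI : Nontrivial T := ⟨0, 1, fun h => zero_ne_one (α := R ⊗[k] S)
    (by rw [← map_zero ψ, ← map_one ψ, h])⟩
  haveI hCMT : LocCoh.IsCohenMacaulayRing T :=
    { isCohenMacaulayLocalRing_localization := fun p _ =>
        haveI := LocCoh.IsGorensteinRing.isGorensteinLocalRing_localization (A := T) p
        Groth.Agent.S0341.result _ }
  have h0T : 𝒯 0 = Submodule.span k {(1 : T)} :=
    Groth.Agent.Lib.Helper20.SegDim.piece_zero_eq hψ hdegT h0R h0S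
  have hposT : ∀ n : ℤ, n < 0 → 𝒯 n = ⊥ := fun n hn =>
    Groth.Agent.Lib.Helper20.SegDim.piece_eq_bot_of_neg hψ hdegT (hposR n hn)
  have hdimT : ringKrullDim T = ((1 : ℕ) : WithBot ℕ∞) :=
    Groth.Agent.Lib.Helper20.SegDim.ringKrullDim_segre 𝒜 ℬ 𝒯 ψ hposR h0R hposS h0S hψ hdegT 1 1
      hr' hs' le_rfl le_rfl
  obtain ⟨mT, hmT⟩ : ∃ mT : HomogeneousIdeal 𝒯,
      mT.toIdeal = Ideal.span (⋃ n ∈ Set.Ioi (0 : ℤ), (𝒯 n : Set T)) :=
    ⟨Groth.Agent.Lib.Helper20.SegCM.irrH 𝒯, Groth.Agent.Lib.Helper20.SegCM.irrH_toIdeal 𝒯⟩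
  obtain ⟨IT⟩ : Nonempty (GrLC.StarInjRes (asGr 𝒯) (asGr 𝒯)) :=
    nonempty_starInjRes (asGr 𝒯) (asGr 𝒯)
  -- a homogeneous regular parameter
  obtain ⟨d, hd, z, hz, hzs⟩ := exists_avoid 𝒯 hposT h0T hdimT
  have hreg := isSMulRegular_of_avoid 𝒯 hposT h0T hdimT hz hzs
  obtain ⟨j, hj⟩ := exists_pow_le_of_avoid 𝒯 hposT h0T hdimT hz hzs
  -- the hull with its pairing
  have hkT : ∀ c : k, algebraMap k T c ∈ asGr 𝒯 0 :=
    Groth.Agent.Lib.Helper20.SegKun.algebraMap_mem_asGr 𝒯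
  letI dD : DirectSum.Decomposition (gdGr (k := k) (asGr 𝒯) (asGr 𝒯)) :=
    gdDec (k := k) (asGr 𝒯) hkT (asGr 𝒯)
  have hD0 : GrSeg.IsGDual T (asGr 𝒯) (gdGr (k := k) (asGr 𝒯) (asGr 𝒯))
      (gdPair (asGr 𝒯) (asGr 𝒯)) := isGDual_gd (k := k) (asGr 𝒯) hkT (asGr 𝒯)
  haveI iG : SetLike.GradedSMul 𝒯 (gdGr (k := k) (asGr 𝒯) (asGr 𝒯)) :=
    ⟨fun {i j} {a d} ha hx => SetLike.GradedSMul.smul_mem (A := asGr 𝒯) ha hx⟩
  have hD : GrSeg.IsGDual T 𝒯 (gdGr (k := k) (asGr 𝒯) (asGr 𝒯)) (gdPair (asGr 𝒯) (asGr 𝒯)) :=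
    ⟨hD0.map_smul, hD0.vanish, hD0.eq_zero, hD0.exists_eq⟩
  obtain ⟨e, he⟩ := exists_isStarInjHull k T 𝒯 hposT h0T mT hmT _
    (gdGr (k := k) (asGr 𝒯) (asGr 𝒯)) (gdPair (asGr 𝒯) (asGr 𝒯)) hD
  have he' := isStarInjHull_toAS 𝒯 mT (gdGr (k := k) (asGr 𝒯) (asGr 𝒯)) e he
  have hposT' := hpos_asGr k T 𝒯 hposT
  have hmT' := isStarLocal_asGr k T 𝒯 hposT h0T mT hmT
  have hj' : (idealToAS 𝒯 mT).toIdeal ^ j ≤ Ideal.span {z} := by
    have : (idealToAS 𝒯 mT).toIdeal = irrIdeal 𝒯 := hmT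
    rw [this]
    exact hj
  obtain ⟨n₀, ⟨u, hu, hus, hgen⟩, hvan⟩ := main (k := k) (asGr 𝒯) hkT (h0k_asGr k T 𝒯 h0T)
    hposT' (idealToAS 𝒯 mT) hmT' hdimT IT (gdGr (k := k) (asGr 𝒯) (asGr 𝒯)) e he'
    (gdPair (asGr 𝒯) (asGr 𝒯)) hD0 z d hd hz hreg j hj'
  -- numerics
  have h1R : (1 : WithBot ℕ∞) ≤ ringKrullDim R := by rw [hr]
  have h1S : (1 : WithBot ℕ∞) ≤ ringKrullDim S := by rw [hs]
  set HR : ℤ → ℕ := fun n => Module.finrank k (𝒜 n) with hHR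
  set HS : ℤ → ℕ := fun n => Module.finrank k (ℬ n) with hHS
  have hT : ∀ n, Module.finrank k (𝒯 n) = HR n * HS n := fun n =>
    finrank_segre (𝒜 n) (ℬ n) (𝒯 n) ψ hψ (hdegT n)
  haveI : ∀ n, FiniteDimensional k (𝒯 n) := fun n =>
    Groth.Agent.Lib.Helper14.GrDualLib.finite_piece_ring 𝒯 hposT h0T n
  have e1 : HR n₀ * HS n₀ = HR (n₀ - d) * HS (n₀ - d) + 1 := by
    rw [← hT, ← hT]
    exact finrank_eq_succ 𝒯 z d hz hreg n₀ u hu hus hgen
  have e2 : ∀ n, n₀ < n → HR n * HS n = HR (n - d) * HS (n - d) := by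
    intro n hn
    rw [← hT, ← hT]
    exact finrank_eq_of_le_span 𝒯 z d hz hreg n (hvan n hn)
  have hRm : ∀ n, HR n ≤ HR (n + 1) := finrank_mono 𝒜 hposR h0R hstdR h1R
  have hSm : ∀ n, HS n ≤ HS (n + 1) := finrank_mono ℬ hposS h0S hstdS h1S
  have hR0 : HR 0 = 1 := by
    change Module.finrank k (𝒜 0) = 1
    rw [h0R]
    exact finrank_span_singleton one_ne_zero
  have hS0 : HS 0 = 1 := by
    change Module.finrank k (ℬ 0) = 1
    rw [h0S]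
    exact finrank_span_singleton one_ne_zero
  have hR1 : ∀ n, 0 ≤ n → 1 ≤ HR n := fun n hn => by
    rw [← hR0]
    exact mono_le HR hRm hn
  have hS1 : ∀ n, 0 ≤ n → 1 ≤ HS n := fun n hn => by
    rw [← hS0]
    exact mono_le HS hSm hn
  rcases arith HR HS d n₀ hd hRm hSm hR1 hS1 e1 e2 with h | h
  · exfalso
    obtain ⟨y, hy, hyreg, hyspan⟩ := exists_principal_of_finrank_one 𝒜 hposR h0R hstdR h1R h
    exact hR.false (nonempty_algEquiv_polynomial 𝒜 hposR h0R y hy hyreg hyspan).some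
  · obtain ⟨y, hy, hyreg, hyspan⟩ := exists_principal_of_finrank_one ℬ hposS h0S hstdS h1S h
    refine ⟨nonempty_algEquiv_polynomial ℬ hposS h0S y hy hyreg hyspan, ?_⟩
    obtain ⟨ε, hε⟩ := exists_augmentation ℬ hposS h0S y hy hyreg hyspan
    have hpiece := piece_eq_smul_pow ℬ h0S y hy hyspan
    obtain ⟨eq⟩ := nonempty_ringEquiv 𝒜 hposR ℬ 𝒯 ψ hψ hdegT y hy hpiece ε hε
    exact isGorensteinRing_of_ringEquiv eq

end Groth.Agent.Lib.Helper20.GOne
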