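import Mathlib
import Groth.Agent.Lib.Helper20.SegTot1
import Groth.Agent.Lib.Helper26.GrProj

/-!
# The number of generators of a graded module generated by its lowest piece
-/

set_option autoImplicit false
set_option linter.unusedSectionVars false
set_option linter.unusedVariables false
set_option linter.style.haveILetI false

universe u

open TensorProduct DirectSum

namespace Groth.Agent.Lib.Helper20.GType

open Groth.Agent.Lib.Helper26.GrProj Groth.Agent.Lib.Helper20.SegTot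

variable {k : Type u} [Field k] {T : Type u} [CommRing T] [Algebra k T]
  (𝒯 : ℤ → AddSubgroup T) [GradedRing 𝒯] (hkT : ∀ c : k, algebraMap k T c ∈ 𝒯 0)
  (hpos : ∀ n : ℤ, n < 0 → 𝒯 n = ⊥) (h0k : ∀ x ∈ 𝒯 0, ∃ c : k, x = algebraMap k T c)
  (m : Ideal T) [hmax : m.IsMaximal]
  (hmsp : m = Ideal.span (⋃ n ∈ Set.Ioi (0 : ℤ), (𝒯 n : Set T)))
  {P : Type u} [AddCommGroup P] [Module T P] [Module k P] [IsScalarTower k T P]
  (𝒬 : ℤ → AddSubgroup P) [DirectSum.Decomposition 𝒬] [SetLike.GradedSMul 𝒯 𝒬]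
  (n₀ : ℤ) (hlow : ∀ n, n < n₀ → 𝒬 n = ⊥)
  (hgen : ∀ n, n₀ < n → ∀ x ∈ 𝒬 n, x ∈ (m • ⊤ : Submodule T P))

include hpos hmsp in
theorem proj_zero_of_mem (t : T) (ht : t ∈ m) : proj 𝒯 0 t = 0 := by
  classical
  rw [hmsp] at ht
  refine Submodule.span_induction (p := fun t _ => proj 𝒯 0 t = 0) ?_ ?_ ?_ ?_ ht
  · intro x hx
    simp only [Set.mem_iUnion, Set.mem_Ioi, SetLike.mem_coe, exists_prop] at hx
    obtain ⟨n, hn, hxn⟩ := hx
    exact proj_of_mem_ne 𝒯 hxn (by omega)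
  · exact proj_zero 𝒯 0
  · intro x y _ _ hx hy
    rw [proj_add, hx, hy, add_zero]
  · intro a x _ hx
    -- `proj 0 (a * x) = Σ_j proj_j a * proj_{-j} x`, and only `j = 0` could contribute
    rw [smul_eq_mul, ← sum_proj 𝒯 a, Finset.sum_mul, proj_sum]
    apply Finset.sum_eq_zero
    intro j _
    have h1 := proj_smul_of_mem (𝒜 := 𝒯) (ℳ := 𝒯) (proj_mem 𝒯 j a) 0 x
    rw [smul_eq_mul] at h1
    rw [h1]
    rcases lt_trichotomy j 0 with hj | hj | hj
    · have := proj_mem 𝒯 j a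
      rw [hpos j hj, AddSubgroup.mem_bot] at this
      rw [this, zero_smul]
    · rw [hj, sub_zero, hx, smul_zero]
    · have := proj_mem 𝒯 (0 - j) x
      rw [hpos (0 - j) (by omega), AddSubgroup.mem_bot] at this
      rw [this, smul_zero]

include hpos hmsp hlow in
theorem proj_eq_zero_of_mem_smul_top (x : P) (hx : x ∈ (m • ⊤ : Submodule T P)) :
    proj 𝒬 n₀ x = 0 := by
  classical
  refine Submodule.smul_induction_on hx ?_ ?_
  · intro t ht p _
    rw [← sum_proj 𝒯 t, Finset.sum_smul, proj_sum]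
    apply Finset.sum_eq_zero
    intro j _
    rw [proj_smul_of_mem (𝒜 := 𝒯) (ℳ := 𝒬) (proj_mem 𝒯 j t) n₀ p]
    rcases lt_trichotomy j 0 with hj | hj | hj
    · have := proj_mem 𝒯 j t
      rw [hpos j hj, AddSubgroup.mem_bot] at this
      rw [this, zero_smul]
    · rw [hj, proj_zero_of_mem 𝒯 hpos m hmsp t ht, zero_smul]
    · have := proj_mem 𝒬 (n₀ - j) p
      rw [hlow (n₀ - j) (by omega), AddSubgroup.mem_bot] at this
      rw [this, smul_zero]
  · intro x y hx hy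
    rw [proj_add, hx, hy, add_zero]

include hlow hgen in
theorem sub_proj_mem (p : P) : p - proj 𝒬 n₀ p ∈ (m • ⊤ : Submodule T P) := by
  classical
  set q := p - proj 𝒬 n₀ p with hq
  rw [← sum_proj 𝒬 q]
  apply Submodule.sum_mem
  intro j _
  have hj : proj 𝒬 j q = proj 𝒬 j p - proj 𝒬 j (proj 𝒬 n₀ p) := by
    rw [hq, sub_eq_add_neg, proj_add, sub_eq_add_neg]
    congr 1
    have : proj 𝒬 j (-(proj 𝒬 n₀ p)) + proj 𝒬 j (proj 𝒬 n₀ p) = 0 := by
      rw [← proj_add, neg_add_cancel, proj_zero]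
    exact eq_neg_of_add_eq_zero_left this
  rw [hj]
  by_cases hjn : j = n₀
  · rw [hjn, proj_of_mem_same 𝒬 (proj_mem 𝒬 n₀ p), sub_self]
    exact zero_mem _
  · rw [proj_of_mem_ne 𝒬 (proj_mem 𝒬 n₀ p) (Ne.symm hjn), sub_zero]
    rcases lt_or_gt_of_ne hjn with h | h
    · have := proj_mem 𝒬 j p
      rw [hlow j h, AddSubgroup.mem_bot] at this
      rw [this]
      exact zero_mem _
    · exact hgen j h _ (proj_mem 𝒬 j p)

/-- the lowest piece maps isomorphically onto `P / m P` -/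
noncomputable def lowMap : ↥(pcK 𝒯 hkT 𝒬 n₀) →ₗ[k] P ⧸ (m • ⊤ : Submodule T P) :=
  ((Submodule.mkQ (m • ⊤ : Submodule T P)).restrictScalars k) ∘ₗ (pcK 𝒯 hkT 𝒬 n₀).subtype

include hpos hmsp hlow hgen in
theorem lowMap_bijective : Function.Bijective (lowMap 𝒯 hkT m 𝒬 n₀) := by
  constructor
  · rw [← LinearMap.ker_eq_bot, LinearMap.ker_eq_bot']
    intro x hx
    have h1 : (x : P) ∈ (m • ⊤ : Submodule T P) := (Submodule.Quotient.mk_eq_zero _).1 hx
    have h2 := proj_eq_zero_of_mem_smul_top 𝒯 hpos m hmsp 𝒬 n₀ hlow x h1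
    rw [proj_of_mem_same 𝒬 x.2] at h2
    exact Subtype.ext h2
  · intro y
    obtain ⟨p, rfl⟩ := Submodule.Quotient.mk_surjective _ y
    refine ⟨⟨proj 𝒬 n₀ p, proj_mem 𝒬 n₀ p⟩, ?_⟩
    change Submodule.Quotient.mk (proj 𝒬 n₀ p) = Submodule.Quotient.mk p
    rw [eq_comm, Submodule.Quotient.eq]
    exact sub_proj_mem m 𝒬 n₀ hlow hgen p

include hpos hmsp in
theorem sub_proj_zero_mem (t : T) : t - proj 𝒯 0 t ∈ m := by
  classical
  set q := t - proj 𝒯 0 t with hq
  rw [← sum_proj 𝒯 q]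
  apply Ideal.sum_mem
  intro j _
  have hj : proj 𝒯 j q = proj 𝒯 j t - proj 𝒯 j (proj 𝒯 0 t) := by
    rw [hq, sub_eq_add_neg, proj_add, sub_eq_add_neg]
    congr 1
    have : proj 𝒯 j (-(proj 𝒯 0 t)) + proj 𝒯 j (proj 𝒯 0 t) = 0 := by
      rw [← proj_add, neg_add_cancel, proj_zero]
    exact eq_neg_of_add_eq_zero_left this
  rw [hj]
  by_cases hjn : j = 0
  · rw [hjn, proj_of_mem_same 𝒯 (proj_mem 𝒯 0 t), sub_self]
    exact zero_mem _
  · rw [proj_of_mem_ne 𝒯 (proj_mem 𝒯 0 t) (Ne.symm hjn), sub_zero]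
    rcases lt_or_gt_of_ne hjn with h | h
    · have := proj_mem 𝒯 j t
      rw [hpos j h, AddSubgroup.mem_bot] at this
      rw [this]
      exact zero_mem _
    · rw [hmsp]
      apply Ideal.subset_span
      simp only [Set.mem_iUnion, Set.mem_Ioi, SetLike.mem_coe, exists_prop]
      exact ⟨j, h, proj_mem 𝒯 j t⟩

include hpos h0k hmsp in
theorem algebraMap_quot_bijective : Function.Bijective (algebraMap k (T ⧸ m)) := by
  haveI : Nontrivial (T ⧸ m) := Ideal.Quotient.nontrivial_iff.2 hmax.ne_top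
  refine ⟨(algebraMap k (T ⧸ m)).injective, ?_⟩
  intro q
  obtain ⟨t, rfl⟩ := Ideal.Quotient.mk_surjective q
  obtain ⟨c, hc⟩ := h0k (proj 𝒯 0 t) (proj_mem 𝒯 0 t)
  refine ⟨c, ?_⟩
  have h1 : algebraMap k (T ⧸ m) c = Ideal.Quotient.mk m (algebraMap k T c) := rfl
  rw [h1, ← hc, eq_comm, Ideal.Quotient.eq]
  exact sub_proj_zero_mem 𝒯 hpos m hmsp t

include hkT hpos h0k hmsp hlow hgen in
/-- **The number of generators of a graded module generated by its lowest piece.** -/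
theorem finrank_tensor_eq :
    Module.finrank (T ⧸ m) ((T ⧸ m) ⊗[T] P) = Module.finrank k ↥(pcK 𝒯 hkT 𝒬 n₀) := by
  classical
  letI : Field (T ⧸ m) := Ideal.Quotient.field m
  have hbij := algebraMap_quot_bijective (k := k) 𝒯 hpos h0k m hmsp
  have h1 : Module.finrank k (T ⧸ m) = 1 := by
    rw [← (LinearEquiv.ofBijective (Algebra.linearMap k (T ⧸ m)) hbij).finrank_eq,
      Module.finrank_self]
  have h2 := Module.finrank_mul_finrank k (T ⧸ m) ((T ⧸ m) ⊗[T] P)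
  rw [h1, one_mul] at h2
  rw [h2]
  have e1 := (TensorProduct.quotTensorEquivQuotSMul P m).restrictScalars k
  rw [e1.finrank_eq]
  exact (LinearEquiv.ofBijective _
    (lowMap_bijective 𝒯 hkT hpos m hmsp 𝒬 n₀ hlow hgen)).finrank_eq.symm

end Groth.Agent.Lib.Helper20.GType
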