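import Mathlib
import Groth.Agent.Lib.Helper20.GType3
import Groth.Agent.Lib.helper11.SG10

/-!
# `R(a) # S(b)` is generated by its lowest piece when `R` and `S` are standard graded
-/

set_option autoImplicit false
set_option linter.unusedSectionVars false
set_option linter.unusedVariables false
set_option linter.style.haveILetI false

universe u

open TensorProduct DirectSum

namespace Groth.Agent.Lib.Helper20.GType

open Groth.Agent.Lib.Helper26.GrProj Groth.Agent.Lib.Helper20.GrKit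
  Groth.Agent.Lib.Helper20.SegTot Groth.Agent.Lib.Helper20.SegBij Groth.Agent.Lib.Helper20.SegAc
  Groth.Agent.Lib.Helper20.GDual

variable {k : Type u} [Field k] {R S T : Type u} [CommRing R] [CommRing S] [CommRing T]
  [Algebra k R] [Algebra k S] [Algebra k T] [IsNoetherianRing R] [IsNoetherianRing S]
  {𝒜 : ℤ → AddSubgroup R} [GradedRing 𝒜] (hkA : ∀ c : k, algebraMap k R c ∈ 𝒜 0)
  {ℬ : ℤ → AddSubgroup S} [GradedRing ℬ] (hkB : ∀ c : k, algebraMap k S c ∈ ℬ 0)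
  {𝒯 : ℤ → AddSubgroup T} [GradedRing 𝒯]
  (ψ : T →ₐ[k] R ⊗[k] S) (hψ : ∀ n t, t ∈ 𝒯 n → ψ t ∈ GrSeg.segrePiece k 𝒜 ℬ n)
  (hψs : ∀ n, ∀ z ∈ GrSeg.segrePiece k 𝒜 ℬ n, ∃ t ∈ 𝒯 n, ψ t = z)
  (hstdR : Ideal.span (⋃ n ∈ Set.Ioi (0 : ℤ), (𝒜 n : Set R)) =
    Ideal.span ((𝒜 1 : AddSubgroup R) : Set R))
  (hstdS : Ideal.span (⋃ n ∈ Set.Ioi (0 : ℤ), (ℬ n : Set S)) =
    Ideal.span ((ℬ 1 : AddSubgroup S) : Set S))
  (m : Ideal T) (hmsp : m = Ideal.span (⋃ n ∈ Set.Ioi (0 : ℤ), (𝒯 n : Set T)))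
  (gR gS : ℤ) (hg : gR ≤ gS)

omit [IsNoetherianRing R] [IsNoetherianRing S] in
theorem ksmul_mem_TP (Q : Submodule T (TP ψ R S)) (c : k) (u : TP ψ R S) (hu : u ∈ Q) :
    c • u ∈ Q := Submodule.smul_of_tower_mem Q c hu

include hψs hstdR hstdS hmsp hg in
theorem tmul_mem_map (n : ℤ) (hn : gS < n) (a : R) (ha : a ∈ 𝒜 (n - gR)) (b : S)
    (hb : b ∈ ℬ (n - gS)) :
    (a ⊗ₜ[k] b : TP ψ R S) ∈
      (m • ⊤ : Submodule T ↥(W0 hkA hkB ψ hψ (shiftGr 𝒜 gR) (shiftGr ℬ gS))).map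
        (W0 hkA hkB ψ hψ (shiftGr 𝒜 gR) (shiftGr ℬ gS)).subtype := by
  classical
  obtain ⟨sR, x, hx, hxspan⟩ := Groth.Agent.Lib.helper11.SG10.exists_gens 𝒜
  obtain ⟨sS, y, hy, hyspan⟩ := Groth.Agent.Lib.helper11.SG10.exists_gens ℬ
  have e1 : n - gR - 1 + 1 = n - gR := by ring
  have e2 : n - gS - 1 + 1 = n - gS := by ring
  obtain ⟨a', ha', rfl⟩ := Groth.Agent.Lib.helper11.SG10.exists_coeffs 𝒜 hstdR x hx hxspan
    (n - gR - 1) (by omega) a (by rw [e1]; exact ha)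
  obtain ⟨b', hb', rfl⟩ := Groth.Agent.Lib.helper11.SG10.exists_coeffs ℬ hstdS y hy hyspan
    (n - gS - 1) (by omega) b (by rw [e2]; exact hb)
  have hsum : ((∑ i, a' i * x i) ⊗ₜ[k] (∑ l, b' l * y l) : R ⊗[k] S) =
      ∑ i, ∑ l, (a' i * x i) ⊗ₜ[k] (b' l * y l) := by
    rw [TensorProduct.sum_tmul]
    exact Finset.sum_congr rfl fun i _ => TensorProduct.tmul_sum _ _ _
  have key : ∀ i l, ((a' i * x i) ⊗ₜ[k] (b' l * y l) : TP ψ R S) ∈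
      (m • ⊤ : Submodule T ↥(W0 hkA hkB ψ hψ (shiftGr 𝒜 gR) (shiftGr ℬ gS))).map
        (W0 hkA hkB ψ hψ (shiftGr 𝒜 gR) (shiftGr ℬ gS)).subtype := by
    intro i l
    obtain ⟨t, ht, hψt⟩ := hψs 1 (x i ⊗ₜ[k] y l)
      (Submodule.subset_span ⟨x i, hx i, y l, hy l, rfl⟩)
    have htm : t ∈ m := by
      rw [hmsp]
      apply Ideal.subset_span
      simp only [Set.mem_iUnion, Set.mem_Ioi, SetLike.mem_coe, exists_prop]
      exact ⟨1, by norm_num, ht⟩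
    have hw : (a' i ⊗ₜ[k] b' l : R ⊗[k] S) ∈
        GrSeg.segrePiece k (shiftGr 𝒜 gR) (shiftGr ℬ gS) (n - 1) := by
      apply Submodule.subset_span
      refine ⟨a' i, ?_, b' l, ?_, rfl⟩
      · change a' i ∈ 𝒜 (n - 1 - gR)
        have : n - 1 - gR = n - gR - 1 := by ring
        rw [this]
        exact ha' i
      · change b' l ∈ ℬ (n - 1 - gS)
        have : n - 1 - gS = n - gS - 1 := by ring
        rw [this]
        exact hb' l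
    have hwW := mem_W0_of_mem_segrePiece hkA hkB ψ hψ (shiftGr 𝒜 gR) (shiftGr ℬ gS) hw
    refine ⟨t • ⟨_, hwW⟩, Submodule.smul_mem_smul htm Submodule.mem_top, ?_⟩
    change GrSeg.act k R S R S (ψ t) (a' i ⊗ₜ[k] b' l) = _
    rw [hψt, GrSeg.act_tmul, smul_eq_mul, smul_eq_mul, mul_comm (x i), mul_comm (y l)]
  change ((∑ i, a' i * x i) ⊗ₜ[k] (∑ l, b' l * y l) : R ⊗[k] S) ∈ _
  rw [hsum]
  exact Submodule.sum_mem _ fun i _ => Submodule.sum_mem _ fun l _ => key i l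

include hψs hstdR hstdS hmsp hg in
/-- **`R(a) # S(b)` is generated by its lowest piece.** -/
theorem mem_smul_top_of_mem_W0gr (n : ℤ) (hn : gS < n)
    (z : ↥(W0 hkA hkB ψ hψ (shiftGr 𝒜 gR) (shiftGr ℬ gS)))
    (hz : z ∈ W0gr hkA hkB ψ hψ (shiftGr 𝒜 gR) (shiftGr ℬ gS) n) :
    z ∈ (m • ⊤ : Submodule T ↥(W0 hkA hkB ψ hψ (shiftGr 𝒜 gR) (shiftGr ℬ gS))) := by
  have hz' : pp 𝒜 hkA ℬ hkB (shiftGr 𝒜 gR) (shiftGr ℬ gS) n z.1 = z.1 := hz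
  have h1 := pp_mem_segrePiece hkA hkB (shiftGr 𝒜 gR) (shiftGr ℬ gS) n z.1
  rw [hz'] at h1
  have h2 : (z.1 : TP ψ R S) ∈
      (m • ⊤ : Submodule T ↥(W0 hkA hkB ψ hψ (shiftGr 𝒜 gR) (shiftGr ℬ gS))).map
        (W0 hkA hkB ψ hψ (shiftGr 𝒜 gR) (shiftGr ℬ gS)).subtype := by
    refine Submodule.span_induction (p := fun (w : R ⊗[k] S) _ => (w : TP ψ R S) ∈
      (m • ⊤ : Submodule T ↥(W0 hkA hkB ψ hψ (shiftGr 𝒜 gR) (shiftGr ℬ gS))).map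
        (W0 hkA hkB ψ hψ (shiftGr 𝒜 gR) (shiftGr ℬ gS)).subtype) ?_ ?_ ?_ ?_ h1
    · rintro _ ⟨a, ha, b, hb, rfl⟩
      exact tmul_mem_map hkA hkB ψ hψ hψs hstdR hstdS m hmsp gR gS hg n hn a ha b hb
    · exact zero_mem _
    · intro u v _ _ hu hv
      exact add_mem hu hv
    · intro c u _ hu
      exact ksmul_mem_TP ψ _ c u hu
  obtain ⟨q, hq, hqz⟩ := h2
  have : q = z := Subtype.ext hqz
  rw [← this]
  exact hq

end Groth.Agent.Lib.Helper20.GType
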