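import Mathlib
import Groth.Agent.Lib.Helper20.GType1
import Groth.Agent.Lib.Helper20.GType2
import Groth.Agent.Lib.Helper20.GType4
import Groth.Agent.Lib.Helper20.GDual11
import Groth.Agent.Lib.Helper20.CanonType4

/-!
# The type of a Cohen–Macaulay Segre product of standard graded Gorenstein rings
-/

set_option autoImplicit false
set_option linter.unusedSectionVars false
set_option linter.unusedVariables false
set_option linter.style.haveILetI false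

universe u

open TensorProduct DirectSum

namespace Groth.Agent.Lib.Helper20.GType

open Groth.Agent.Lib.Helper26.GrProj Groth.Agent.Lib.Helper20.GrKit
  Groth.Agent.Lib.Helper20.GrConv Groth.Agent.Lib.Helper20.SegTot
  Groth.Agent.Lib.Helper20.GDual Groth.Agent.Lib.Helper20.GrCanW
  Groth.Agent.Lib.Helper20.SegBij Groth.Agent.Lib.Helper20.SegKun

theorem s18665 (k : Type u) [Field k] (R : Type u) [CommRing R] [Algebra k R]
    (𝒜 : ℤ → Submodule k R) [GradedAlgebra 𝒜] (hposR : ∀ n : ℤ, n < 0 → 𝒜 n = ⊥)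
    (h0R : 𝒜 0 = Submodule.span k {(1 : R)}) [Algebra.FiniteType k R]
    (S : Type u) [CommRing S] [Algebra k S] (ℬ : ℤ → Submodule k S) [GradedAlgebra ℬ]
    (hposS : ∀ n : ℤ, n < 0 → ℬ n = ⊥) (h0S : ℬ 0 = Submodule.span k {(1 : S)})
    [Algebra.FiniteType k S]
    (T : Type u) [CommRing T] [Algebra k T] (𝒯 : ℤ → Submodule k T) [GradedAlgebra 𝒯]
    (ψ : T →ₐ[k] TensorProduct k R S) (hψ : Function.Injective ψ)
    (hdegT : ∀ n : ℤ, (𝒯 n).map ψ.toLinearMap =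
      Submodule.span k {x : TensorProduct k R S | ∃ a ∈ 𝒜 n, ∃ b ∈ ℬ n, x = a ⊗ₜ[k] b})
    [LocCoh.IsGorensteinRing R] [LocCoh.IsGorensteinRing S]
    (mR : HomogeneousIdeal 𝒜)
    (hmR : mR.toIdeal = Ideal.span (⋃ n ∈ Set.Ioi (0 : ℤ), (𝒜 n : Set R)))
    (hstdR : Ideal.span (⋃ n ∈ Set.Ioi (0 : ℤ), (𝒜 n : Set R)) =
      Ideal.span ((𝒜 1 : Submodule k R) : Set R))
    (I : GrLC.StarInjRes 𝒜 𝒜) (mS : HomogeneousIdeal ℬ)
    (hmS : mS.toIdeal = Ideal.span (⋃ n ∈ Set.Ioi (0 : ℤ), (ℬ n : Set S)))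
    (hstdS : Ideal.span (⋃ n ∈ Set.Ioi (0 : ℤ), (ℬ n : Set S)) =
      Ideal.span ((ℬ 1 : Submodule k S) : Set S))
    (J : GrLC.StarInjRes ℬ ℬ) (r s : ℕ) (hr : ringKrullDim R = r) (hs : ringKrullDim S = s)
    (h2r : 2 ≤ r) (h2s : 2 ≤ s) (a b : ℤ)
    (ha : GrLC.endDeg (I.Hgr mR r) = ((a : WithTop ℤ) : WithBot (WithTop ℤ)))
    (hb : GrLC.endDeg (J.Hgr mS s) = ((b : WithTop ℤ) : WithBot (WithTop ℤ))) (hab : b ≤ a)
    [LocCoh.IsCohenMacaulayRing T] (mT : HomogeneousIdeal 𝒯) [mT.toIdeal.IsMaximal]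
    (hmT : mT.toIdeal = Ideal.span (⋃ n ∈ Set.Ioi (0 : ℤ), (𝒯 n : Set T))) :
    GrLC.bassNum mT.toIdeal T (r + s - 1) = (Module.finrank k (𝒜 (a - b)) : ℕ∞) := by
  classical
  haveI : Nontrivial R := Groth.Agent.Lib.Helper20.SegCM.nontrivial_of_dim r hr
  haveI : Nontrivial S := Groth.Agent.Lib.Helper20.SegCM.nontrivial_of_dim s hs
  haveI : IsNoetherianRing R := Algebra.FiniteType.isNoetherianRing k R
  haveI : IsNoetherianRing S := Algebra.FiniteType.isNoetherianRing k S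
  haveI : IsNoetherianRing T :=
    Groth.Agent.S18646.result k R 𝒜 hposR h0R S ℬ hposS h0S T 𝒯 ψ hψ hdegT
  haveI : Algebra.FiniteType k T :=
    Groth.Agent.Lib.Helper20.SegDim.finiteType_segre 𝒜 ℬ 𝒯 ψ hposR h0R hposS h0S hψ hdegT
  haveI : Nontrivial (R ⊗[k] S) :=
    Algebra.TensorProduct.nontrivial_of_algebraMap_injective_of_flat_left k R S
      (algebraMap k S).injective
  haveI : Nontrivial T := ⟨0, 1, fun h => zero_ne_one (α := R ⊗[k] S)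
    (by rw [← map_zero ψ, ← map_one ψ, h])⟩
  have h0T : 𝒯 0 = Submodule.span k {(1 : T)} :=
    Groth.Agent.Lib.Helper20.SegDim.piece_zero_eq hψ hdegT h0R h0S
  have hposT : ∀ n : ℤ, n < 0 → 𝒯 n = ⊥ := fun n hn =>
    Groth.Agent.Lib.Helper20.SegDim.piece_eq_bot_of_neg hψ hdegT (hposR n hn)
  have hdimT : ringKrullDim T = ((r + s - 1 : ℕ) : WithBot ℕ∞) :=
    Groth.Agent.Lib.Helper20.SegDim.ringKrullDim_segre 𝒜 ℬ 𝒯 ψ hposR h0R hposS h0S hψ hdegT r s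
      hr hs (by omega) (by omega)
  have hT : GrSeg.IsSegreRing 𝒜 ℬ 𝒯 ψ := ⟨hψ, hdegT⟩
  obtain ⟨IT⟩ : Nonempty (GrLC.StarInjRes 𝒯 𝒯) :=
    Groth.Agent.Lib.Helper20.SegCM.nonempty_starInjRes'
  -- the canonical modules of `R` and `S`, the hull of `T`
  obtain ⟨ER, _, _, 𝓔R, _, _, eR, heR, gR, _, hCR, hendR⟩ :=
    exists_canonical_self k R 𝒜 hposR h0R mR hmR I r hr
  obtain ⟨ES, _, _, 𝓔S, _, _, eS, heS, gS, _, hCS, hendS⟩ :=
    exists_canonical_self k S ℬ hposS h0S mS hmS J s hs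
  obtain ⟨ET, _, _, 𝓔T, _, _, eT, heT⟩ := exists_hull k T 𝒯 hposT h0T mT hmT
  have hgR : gR = -a := by
    rw [hendR] at ha
    have := WithTop.coe_injective (WithBot.coe_injective ha)
    omega
  have hgS : gS = -b := by
    rw [hendS] at hb
    have := WithTop.coe_injective (WithBot.coe_injective hb)
    omega
  have hg : gR ≤ gS := by omega
  -- the Segre product of the canonical modules
  have hkA : ∀ c : k, algebraMap k R c ∈ asGr 𝒜 0 := algebraMap_mem_asGr 𝒜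
  have hkB : ∀ c : k, algebraMap k S c ∈ asGr ℬ 0 := algebraMap_mem_asGr ℬ
  have hkT : ∀ c : k, algebraMap k T c ∈ asGr 𝒯 0 := algebraMap_mem_asGr 𝒯
  have hψ' : ∀ n t, t ∈ asGr 𝒯 n → ψ t ∈ GrSeg.segrePiece k (asGr 𝒜) (asGr ℬ) n := by
    intro n t ht
    have h1 : ψ t ∈ (𝒯 n).map ψ.toLinearMap := ⟨t, ht, rfl⟩
    rw [hdegT n] at h1
    exact h1
  have hψs : ∀ n, ∀ z ∈ GrSeg.segrePiece k (asGr 𝒜) (asGr ℬ) n, ∃ t ∈ asGr 𝒯 n, ψ t = z := by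
    intro n z hz
    have h1 : z ∈ (𝒯 n).map ψ.toLinearMap := by
      rw [hdegT n]
      exact hz
    obtain ⟨t, ht, rfl⟩ := h1
    exact ⟨t, ht, rfl⟩
  haveI : SetLike.GradedSMul 𝒯 (W0gr hkA hkB ψ hψ' (shiftGr (asGr 𝒜) gR) (shiftGr (asGr ℬ) gS)) :=
    ⟨fun {i j} {a d} ha hx => SetLike.GradedSMul.smul_mem (A := asGr 𝒯)
      (B := W0gr hkA hkB ψ hψ' (shiftGr (asGr 𝒜) gR) (shiftGr (asGr ℬ) gS)) ha hx⟩
  have hP := isSegreMod_W0 hkA hkB ψ hψ' (shiftGr (asGr 𝒜) gR) (shiftGr (asGr ℬ) gS)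
  have hCT := Groth.Agent.Lib.Helper20.GDual.s19757 k R 𝒜 hposR h0R S ℬ hposS h0S T 𝒯 ψ hT
    mR hmR I mS hmS J mT hmT IT r s hr hs h2r h2s ER 𝓔R eR heR R (shiftGr (asGr 𝒜) gR) hCR
    ES 𝓔S eS heS S (shiftGr (asGr ℬ) gS) hCS ET 𝓔T eT heT
    ↥(W0 hkA hkB ψ hψ' (shiftGr (asGr 𝒜) gR) (shiftGr (asGr ℬ) gS))
    (W0gr hkA hkB ψ hψ' (shiftGr (asGr 𝒜) gR) (shiftGr (asGr ℬ) gS))
    (w0incl hkA hkB ψ hψ' (shiftGr (asGr 𝒜) gR) (shiftGr (asGr ℬ) gS)) hP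
  -- Bass numbers
  haveI : SetLike.GradedSMul (asGr 𝒯) 𝓔T :=
    ⟨fun {i j} {a d} ha hx => SetLike.GradedSMul.smul_mem (A := 𝒯) ha hx⟩
  have hCT' := isStarCanonical_toAS 𝒯 mT 𝓔T
    (W0gr hkA hkB ψ hψ' (shiftGr (asGr 𝒜) gR) (shiftGr (asGr ℬ) gS)) (r + s - 1) IT hCT
  have heT' := isStarInjHull_toAS 𝒯 mT 𝓔T eT heT
  have hposT' := hpos_asGr k T 𝒯 hposT
  have hmT' := isStarLocal_asGr k T 𝒯 hposT h0T mT hmT
  have h0T' : IsField (GrLC.deg0 (asGr 𝒯)) := Groth.Agent.Lib.Helper20.SegCM.isField_deg0 𝒯 h0T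
  haveI : (idealToAS 𝒯 mT).toIdeal.IsMaximal := ‹mT.toIdeal.IsMaximal›
  have hbass := (Groth.Agent.Lib.Helper20.CanonType.bass_main (asGr 𝒯) hposT' h0T'
    (idealToAS 𝒯 mT) hmT' hmT (r + s - 1) hdimT (resToAS IT) 𝓔T eT heT'
    (W0gr hkA hkB ψ hψ' (shiftGr (asGr 𝒜) gR) (shiftGr (asGr ℬ) gS)) hCT').2
  -- the count of generators
  have hstdR' : Ideal.span (⋃ n ∈ Set.Ioi (0 : ℤ), (asGr 𝒜 n : Set R)) =
      Ideal.span ((asGr 𝒜 1 : AddSubgroup R) : Set R) := hstdR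
  have hstdS' : Ideal.span (⋃ n ∈ Set.Ioi (0 : ℤ), (asGr ℬ n : Set S)) =
      Ideal.span ((asGr ℬ 1 : AddSubgroup S) : Set S) := hstdS
  have hlow : ∀ n, n < gS →
      W0gr hkA hkB ψ hψ' (shiftGr (asGr 𝒜) gR) (shiftGr (asGr ℬ) gS) n = ⊥ := by
    intro n hn
    apply W0gr_eq_bot_of_right
    intro y hy
    have hy' : y ∈ ℬ (n - gS) := hy
    rw [hposS (n - gS) (by omega), Submodule.mem_bot] at hy'
    exact hy'
  have hgen := mem_smul_top_of_mem_W0gr hkA hkB ψ hψ' hψs hstdR' hstdS' mT.toIdeal hmT gR gS hg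
  have hcount := finrank_tensor_eq (k := k) (asGr 𝒯) hkT hposT' (h0k_asGr k T 𝒯 h0T) mT.toIdeal
    hmT (W0gr hkA hkB ψ hψ' (shiftGr (asGr 𝒜) gR) (shiftGr (asGr ℬ) gS)) gS hlow hgen
  rw [finrank_W0gr hkA hkB hkT ψ hψ' (shiftGr (asGr 𝒜) gR) (shiftGr (asGr ℬ) gS) gS] at hcount
  have hpR : pcK (asGr 𝒜) hkA (shiftGr (asGr 𝒜) gR) gS = 𝒜 (a - b) := by
    have e : gS - gR = a - b := by omega
    rw [← e]
    exact Submodule.ext fun x => Iff.rfl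
  have hpS : pcK (asGr ℬ) hkB (shiftGr (asGr ℬ) gS) gS = Submodule.span k {(1 : S)} := by
    rw [← h0S]
    apply Submodule.ext
    intro x
    change x ∈ ℬ (gS - gS) ↔ x ∈ ℬ 0
    rw [sub_self]
  rw [hpR, hpS, finrank_span_singleton (one_ne_zero), mul_one] at hcount
  rw [← hcount]
  exact hbass

end Groth.Agent.Lib.Helper20.GType
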