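import Groth.Agent.Lib.Helper20.GaCharMain
import Groth.Prelude.Def_AlphaPn
import Groth.Prelude.Def_SekSuwa
import Mathlib.RingTheory.Coalgebra.GroupLike
import Mathlib.RingTheory.Bialgebra.Hom

/-!
# Characters of `α_{p^n}` lift to characters of `G_a` (helper20)
-/

set_option autoImplicit false

universe u

namespace Groth.Agent.Lib.Helper20.GaChar

open Polynomial TensorProduct

section Hopf

variable {p : ℕ} [hp : Fact p.Prime] {A : Type*} [CommRing A] [CharP A p]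
  {B : Type*} [CommRing B] [Algebra A B]

lemma E_char' (a : A) (ha : a ^ p = 0) (l : ℕ) (x y : B)
    (hxy : (x + y) ^ p ^ l = x ^ p ^ l + y ^ p ^ l) :
    aeval (x + y) (E p a l) = aeval x (E p a l) * aeval y (E p a l) := by
  rw [aeval_E, aeval_E, aeval_E, hxy, expp_add a ha]

theorem prod_E_char' (a : ℕ → A) (m : ℕ) (ha : ∀ l < m, a l ^ p = 0) (x y : B)
    (hxy : ∀ l, (x + y) ^ p ^ l = x ^ p ^ l + y ^ p ^ l) :
    aeval (x + y) (∏ l ∈ Finset.range m, E p (a l) l) =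
      aeval x (∏ l ∈ Finset.range m, E p (a l) l) * aeval y (∏ l ∈ Finset.range m, E p (a l) l) := by
  rw [map_prod, map_prod, map_prod, ← Finset.prod_mul_distrib]
  apply Finset.prod_congr rfl
  intro l hl
  rw [Finset.mem_range] at hl
  exact E_char' (a l) (ha l hl) l x y (hxy l)

end Hopf

section Lift

theorem alphaPn_lift (p : ℕ) [hp : Fact p.Prime] (A : Type u) [CommRing A] [CharP A p]
    (n : ℕ) (hn : 1 ≤ n) (φ : SekSuwa.A A 0 →ₐc[A] AlphaPn.A p n A)
    (hφ : φ SekSuwa.A.t = AlphaPn.x p n A)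
    (u : AlphaPn.A p n A) (hu : IsGroupLikeElem A u) :
    ∃ g : SekSuwa.A A 0, IsGroupLikeElem A g ∧ φ g = u := by
  haveI : Nontrivial A := CharP.nontrivial_of_char_ne_one (R := A) hp.out.ne_one
  -- Step 1: a representative of small degree
  obtain ⟨f₀, hf₀⟩ := AlphaPn.mk_surjective p n A u
  have hmonic : ((X : A[X]) ^ (p ^ n)).Monic := monic_X_pow _
  have hq1 : 1 ≤ p ^ n := Nat.one_le_pow _ _ hp.out.pos
  have hne1 : ((X : A[X]) ^ (p ^ n)) ≠ 1 := by
    intro h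
    have := congrArg Polynomial.natDegree h
    rw [natDegree_X_pow, natDegree_one] at this
    omega
  set f : A[X] := f₀ %ₘ (X ^ (p ^ n)) with hf
  have hdeg : f.natDegree < p ^ n := by
    have := natDegree_modByMonic_lt f₀ hmonic hne1
    rwa [natDegree_X_pow] at this
  have hfu : AlphaPn.mk p n A f = u := by
    rw [← hf₀]
    show AdjoinRoot.mk _ f = AdjoinRoot.mk _ f₀
    rw [AdjoinRoot.mk_eq_mk]
    refine ⟨-(f₀ /ₘ (X ^ (p ^ n))), ?_⟩
    have := modByMonic_add_div f₀ ((X : A[X]) ^ (p ^ n))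
    rw [hf]
    linear_combination this
  have hux : aeval (AlphaPn.x p n A) f = u := by rw [AlphaPn.aeval_x, hfu]
  -- Step 2: f(0) = 1
  have h0 : f.eval 0 = 1 := by
    have h1 := hu.counit_eq_one
    rw [← hux] at h1
    have h2 : Coalgebra.counit (R := A) (aeval (AlphaPn.x p n A) f) =
        AlphaPn.counitAlg p n A (aeval (AlphaPn.x p n A) f) := rfl
    rw [h2, ← Polynomial.aeval_algHom_apply, AlphaPn.counitAlg_x] at h1
    rw [← h1, Polynomial.coe_aeval_eq_eval]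
  -- Step 3: the truncated character identity
  set J : Ideal (MvPolynomial (Fin 2) A) :=
    Ideal.span {(MvPolynomial.X 0 ^ p ^ n : MvPolynomial (Fin 2) A), MvPolynomial.X 1 ^ p ^ n} with hJ
  set mkJ : MvPolynomial (Fin 2) A →ₐ[A] (MvPolynomial (Fin 2) A ⧸ J) := Ideal.Quotient.mkₐ A J
    with hmkJ
  have hX0 : mkJ (MvPolynomial.X 0) ^ p ^ n = 0 := by
    rw [← map_pow, hmkJ, Ideal.Quotient.mkₐ_eq_mk, Ideal.Quotient.eq_zero_iff_mem]
    exact Ideal.subset_span (by simp)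
  have hX1 : mkJ (MvPolynomial.X 1) ^ p ^ n = 0 := by
    rw [← map_pow, hmkJ, Ideal.Quotient.mkₐ_eq_mk, Ideal.Quotient.eq_zero_iff_mem]
    exact Ideal.subset_span (by simp)
  set l0 := AlphaPn.lift p n A (mkJ (MvPolynomial.X 0)) hX0 with hl0
  set l1 := AlphaPn.lift p n A (mkJ (MvPolynomial.X 1)) hX1 with hl1
  set ψ := Algebra.TensorProduct.productMap l0 l1 with hψ
  have hmul : Ideal.Quotient.mk J
        (Polynomial.aeval (MvPolynomial.X 0 + MvPolynomial.X 1 : MvPolynomial (Fin 2) A) f) =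
      Ideal.Quotient.mk J
        (Polynomial.aeval (MvPolynomial.X 0 : MvPolynomial (Fin 2) A) f *
          Polynomial.aeval (MvPolynomial.X 1 : MvPolynomial (Fin 2) A) f) := by
    have h1 := congrArg ψ hu.comul_eq_tmul_self
    have h2 : Coalgebra.comul (R := A) u = AlphaPn.comulAlg p n A u := rfl
    rw [h2, ← hux, ← Polynomial.aeval_algHom_apply, AlphaPn.comulAlg_x,
      ← Polynomial.aeval_algHom_apply] at h1
    have h3 : ψ (AlphaPn.x p n A ⊗ₜ[A] 1 + 1 ⊗ₜ[A] AlphaPn.x p n A) =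
        mkJ (MvPolynomial.X 0 + MvPolynomial.X 1) := by
      rw [map_add, hψ, Algebra.TensorProduct.productMap_apply_tmul,
        Algebra.TensorProduct.productMap_apply_tmul, map_one, map_one, mul_one, one_mul,
        hl0, hl1, AlphaPn.lift_x, AlphaPn.lift_x, map_add]
    rw [h3, Polynomial.aeval_algHom_apply] at h1
    have h4 : ψ (aeval (AlphaPn.x p n A) f ⊗ₜ[A] aeval (AlphaPn.x p n A) f) =
        mkJ (Polynomial.aeval (MvPolynomial.X 0 : MvPolynomial (Fin 2) A) f *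
          Polynomial.aeval (MvPolynomial.X 1 : MvPolynomial (Fin 2) A) f) := by
      rw [hψ, Algebra.TensorProduct.productMap_apply_tmul, ← Polynomial.aeval_algHom_apply,
        ← Polynomial.aeval_algHom_apply, hl0, hl1, AlphaPn.lift_x, AlphaPn.lift_x, map_mul,
        Polynomial.aeval_algHom_apply, Polynomial.aeval_algHom_apply]
    rw [h4] at h1
    exact h1
  -- Step 4: the product formula
  obtain ⟨a, ha, hfP⟩ := alphaPn_character p A n f hdeg h0 hmul
  set P : A[X] := ∏ i ∈ Finset.range n, E p (a i) i with hP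
  have hfP' : f = P := hfP
  -- Step 5: the lift
  refine ⟨aeval (SekSuwa.A.t : SekSuwa.A A 0) P, ⟨?_, ?_⟩, ?_⟩
  · -- counit
    have h2 : Coalgebra.counit (R := A) (aeval (SekSuwa.A.t : SekSuwa.A A 0) P) =
        Bialgebra.counitAlgHom A (SekSuwa.A A 0) (aeval (SekSuwa.A.t : SekSuwa.A A 0) P) := rfl
    rw [h2, ← Polynomial.aeval_algHom_apply, Bialgebra.counitAlgHom_apply, SekSuwa.A.counit_t,
      Polynomial.coe_aeval_eq_eval, hP, Polynomial.eval_prod]
    apply Finset.prod_eq_one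
    intro l _
    exact E_eval_zero p A (a l) l
  · -- comultiplication
    have h2 : Coalgebra.comul (R := A) (aeval (SekSuwa.A.t : SekSuwa.A A 0) P) =
        Bialgebra.comulAlgHom A (SekSuwa.A A 0) (aeval (SekSuwa.A.t : SekSuwa.A A 0) P) := rfl
    rw [h2, ← Polynomial.aeval_algHom_apply, Bialgebra.comulAlgHom_apply, SekSuwa.A.comul_t,
      zero_smul, add_zero]
    have hadd : ∀ l, ((SekSuwa.A.t : SekSuwa.A A 0) ⊗ₜ[A] (1 : SekSuwa.A A 0) +
        (1 : SekSuwa.A A 0) ⊗ₜ[A] (SekSuwa.A.t : SekSuwa.A A 0)) ^ p ^ l =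
        ((SekSuwa.A.t : SekSuwa.A A 0) ⊗ₜ[A] (1 : SekSuwa.A A 0)) ^ p ^ l +
        ((1 : SekSuwa.A A 0) ⊗ₜ[A] (SekSuwa.A.t : SekSuwa.A A 0)) ^ p ^ l := by
      intro l
      exact AlphaPn.add_pow_prime_pow p l A (Commute.all _ _)
    rw [hP, prod_E_char' a n (fun l _ => ha l) _ _ hadd, ← hP]
    have e1 : aeval ((SekSuwa.A.t : SekSuwa.A A 0) ⊗ₜ[A] (1 : SekSuwa.A A 0)) P =
        (aeval (SekSuwa.A.t : SekSuwa.A A 0) P) ⊗ₜ[A] (1 : SekSuwa.A A 0) := by
      have := Polynomial.aeval_algHom_apply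
        (Algebra.TensorProduct.includeLeft : SekSuwa.A A 0 →ₐ[A] SekSuwa.A A 0 ⊗[A] SekSuwa.A A 0)
        (SekSuwa.A.t : SekSuwa.A A 0) P
      simpa using this
    have e2 : aeval ((1 : SekSuwa.A A 0) ⊗ₜ[A] (SekSuwa.A.t : SekSuwa.A A 0)) P =
        (1 : SekSuwa.A A 0) ⊗ₜ[A] (aeval (SekSuwa.A.t : SekSuwa.A A 0) P) := by
      have := Polynomial.aeval_algHom_apply
        (Algebra.TensorProduct.includeRight : SekSuwa.A A 0 →ₐ[A] SekSuwa.A A 0 ⊗[A] SekSuwa.A A 0)
        (SekSuwa.A.t : SekSuwa.A A 0) P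
      simpa using this
    rw [e1, e2, Algebra.TensorProduct.tmul_mul_tmul, mul_one, one_mul]
  · -- image under φ
    have h2 : φ (aeval (SekSuwa.A.t : SekSuwa.A A 0) P) =
        (φ : SekSuwa.A A 0 →ₐ[A] AlphaPn.A p n A) (aeval (SekSuwa.A.t : SekSuwa.A A 0) P) := rfl
    rw [h2, ← Polynomial.aeval_algHom_apply]
    have h3 : (φ : SekSuwa.A A 0 →ₐ[A] AlphaPn.A p n A) SekSuwa.A.t = AlphaPn.x p n A := hφ
    rw [h3, ← hfP', hux]

end Lift

end Groth.Agent.Lib.Helper20.GaChar
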