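import Groth.Agent.Lib.Helper20.GaCharCore
import Groth.Agent.Lib.Helper20.GaCharIface
import Mathlib.RingTheory.PowerSeries.Trunc
import Mathlib.RingTheory.MvPolynomial.Basic
import Mathlib.RingTheory.PowerSeries.Exp

/-!
# Characters of the additive group: main theorems (helper20)
-/

set_option autoImplicit false

namespace Groth.Agent.Lib.Helper20.GaChar

open Polynomial

section CharPMain

variable (p : ℕ) [hp : Fact p.Prime] (A : Type*) [CommRing A] [CharP A p]

lemma E_eval_zero (a : A) (l : ℕ) : (E p a l).eval 0 = 1 := by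
  unfold E
  rw [Polynomial.eval_finsetSum, Finset.sum_eq_single 0]
  · simp [Ring.inverse_one]
  · intro k _ hk
    rw [Polynomial.eval_mul, Polynomial.eval_pow, Polynomial.eval_X,
      zero_pow (Nat.mul_ne_zero hk (pow_ne_zero _ hp.out.ne_zero)), mul_zero]
  · intro h
    exact absurd (Finset.mem_range.mpr hp.out.pos) h

theorem formalCharacter_charP_iff (χ : PowerSeries A) :
    (PowerSeries.constantCoeff χ = 1 ∧
      PowerSeries.subst (MvPowerSeries.X 0 + MvPowerSeries.X 1 : MvPowerSeries (Fin 2) A) χ =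
        PowerSeries.subst (MvPowerSeries.X 0 : MvPowerSeries (Fin 2) A) χ *
          PowerSeries.subst (MvPowerSeries.X 1 : MvPowerSeries (Fin 2) A) χ) ↔
      ∃ a : ℕ → A, (∀ n, a n ^ p = 0) ∧ ∀ m : ℕ,
        PowerSeries.trunc (p ^ m) χ = ∏ n ∈ Finset.range m, ∑ j ∈ Finset.range p,
          Polynomial.C (Ring.inverse (j.factorial : A) * a n ^ j) * Polynomial.X ^ (j * p ^ n) := by
  constructor
  · rintro ⟨h0, hchar⟩
    have H := (ps_char_iff χ).mp hchar
    set c : ℕ → A := fun n => PowerSeries.coeff n χ with hc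
    have hc0 : c 0 = 1 := by
      rw [hc]; simpa using h0
    refine ⟨fun l => c (p ^ l), ?_, ?_⟩
    · intro l
      exact pow_p_eq_zero c (l + 1) hc0 (fun i j _ _ => H i j) l (by omega)
    · intro m
      ext j
      rw [PowerSeries.coeff_trunc]
      exact (core_coeff c m hc0 (fun i j _ _ => H i j) m le_rfl j).symm
  · rintro ⟨a, ha, htr⟩
    set c : ℕ → A := fun n => PowerSeries.coeff n χ with hc
    have hc0 : c 0 = 1 := by
      have h := congrArg (fun P : A[X] => P.coeff 0) (htr 0)
      simp only [PowerSeries.coeff_trunc, pow_zero, Finset.range_zero, Finset.prod_empty,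
        Polynomial.coeff_one] at h
      simpa [hc] using h
    refine ⟨by simpa [hc] using hc0, ?_⟩
    rw [ps_char_iff]
    intro i j
    set m := i + j + 1 with hm
    have hlt : i + j < p ^ m := by
      have : m < p ^ m := Nat.lt_pow_self hp.out.one_lt
      omega
    have hP := prod_E_char (B := MvPolynomial (Fin 2) A) a m (fun l _ => ha l)
      (MvPolynomial.X 0) (MvPolynomial.X 1)
    rw [poly_char_iff] at hP
    have hPi := hP i j
    have hcoef : ∀ t, t < p ^ m → (∏ l ∈ Finset.range m, E p (a l) l).coeff t =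
        PowerSeries.coeff t χ := by
      intro t ht
      have h := congrArg (fun P : A[X] => P.coeff t) (htr m)
      simp only [PowerSeries.coeff_trunc, if_pos ht] at h
      rw [h]
      rfl
    rw [hcoef _ hlt, hcoef i (by omega), hcoef j (by omega)] at hPi
    exact hPi

theorem polyCharacter_charP_iff (f : Polynomial A) :
    (f.eval 0 = 1 ∧
      Polynomial.aeval (MvPolynomial.X 0 + MvPolynomial.X 1 : MvPolynomial (Fin 2) A) f =
        Polynomial.aeval (MvPolynomial.X 0 : MvPolynomial (Fin 2) A) f *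
          Polynomial.aeval (MvPolynomial.X 1 : MvPolynomial (Fin 2) A) f) ↔
      ∃ (N : ℕ) (a : ℕ → A), (∀ n, a n ^ p = 0) ∧
        f = ∏ n ∈ Finset.range N, ∑ j ∈ Finset.range p,
          Polynomial.C (Ring.inverse (j.factorial : A) * a n ^ j) * Polynomial.X ^ (j * p ^ n) := by
  constructor
  · rintro ⟨h0, hchar⟩
    have H := (poly_char_iff f).mp hchar
    have hc0 : f.coeff 0 = 1 := by rw [Polynomial.coeff_zero_eq_eval_zero]; exact h0
    refine ⟨f.natDegree + 1, fun l => f.coeff (p ^ l), ?_, ?_⟩
    · intro l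
      exact pow_p_eq_zero f.coeff (l + 1) hc0 (fun i j _ _ => H i j) l (by omega)
    · ext j
      have h := core_coeff f.coeff (f.natDegree + 1) hc0 (fun i j _ _ => H i j)
        (f.natDegree + 1) le_rfl j
      refine Eq.trans ?_ h.symm
      split_ifs with hj
      · rfl
      · apply Polynomial.coeff_eq_zero_of_natDegree_lt
        have : f.natDegree + 1 < p ^ (f.natDegree + 1) := Nat.lt_pow_self hp.out.one_lt
        omega
  · rintro ⟨N, a, ha, rfl⟩
    constructor
    · rw [Polynomial.eval_prod]
      apply Finset.prod_eq_one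
      intro l _
      exact E_eval_zero p A (a l) l
    · exact prod_E_char (B := MvPolynomial (Fin 2) A) a N (fun l _ => ha l)
        (MvPolynomial.X 0) (MvPolynomial.X 1)

theorem alphaPn_character (n : ℕ) (f : Polynomial A) (hdeg : f.natDegree < p ^ n)
    (h0 : f.eval 0 = 1)
    (hmul : Ideal.Quotient.mk
        (Ideal.span {(MvPolynomial.X 0 ^ p ^ n : MvPolynomial (Fin 2) A), MvPolynomial.X 1 ^ p ^ n})
        (Polynomial.aeval (MvPolynomial.X 0 + MvPolynomial.X 1 : MvPolynomial (Fin 2) A) f) =
      Ideal.Quotient.mk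
        (Ideal.span {(MvPolynomial.X 0 ^ p ^ n : MvPolynomial (Fin 2) A), MvPolynomial.X 1 ^ p ^ n})
        (Polynomial.aeval (MvPolynomial.X 0 : MvPolynomial (Fin 2) A) f *
          Polynomial.aeval (MvPolynomial.X 1 : MvPolynomial (Fin 2) A) f)) :
    ∃ a : ℕ → A, (∀ i, a i ^ p = 0) ∧
      f = ∏ i ∈ Finset.range n, ∑ j ∈ Finset.range p,
          Polynomial.C (Ring.inverse (j.factorial : A) * a i ^ j) * Polynomial.X ^ (j * p ^ i) := by
  have H := trunc_char (p ^ n) f hmul
  have hc0 : f.coeff 0 = 1 := by rw [Polynomial.coeff_zero_eq_eval_zero]; exact h0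
  refine ⟨fun l => if l < n then f.coeff (p ^ l) else 0, ?_, ?_⟩
  · intro l
    beta_reduce
    split_ifs with hl
    · exact pow_p_eq_zero f.coeff n hc0 H l hl
    · exact zero_pow hp.out.ne_zero
  · have hprod : (∏ i ∈ Finset.range n, ∑ j ∈ Finset.range p,
          Polynomial.C (Ring.inverse (j.factorial : A) *
            (fun l => if l < n then f.coeff (p ^ l) else 0) i ^ j) * Polynomial.X ^ (j * p ^ i)) =
        ∏ l ∈ Finset.range n, E p (f.coeff (p ^ l)) l := by
      apply Finset.prod_congr rfl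
      intro i hi
      rw [Finset.mem_range] at hi
      beta_reduce
      rw [if_pos hi]
      rfl
    rw [hprod]
    ext j
    have h := core_coeff f.coeff n hc0 H n le_rfl j
    refine Eq.trans ?_ h.symm
    split_ifs with hj
    · rfl
    · apply Polynomial.coeff_eq_zero_of_natDegree_lt
      omega

end CharPMain

section RatMain

variable (A : Type*) [CommRing A] [Algebra ℚ A]

lemma fact_mul_inv (n : ℕ) : ((n.factorial : ℕ) : A) * algebraMap ℚ A (1 / (n.factorial : ℚ)) = 1 := by
  rw [← map_natCast (algebraMap ℚ A), ← map_mul]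
  have : ((n.factorial : ℕ) : ℚ) * (1 / (n.factorial : ℚ)) = 1 := by
    have h : ((n.factorial : ℕ) : ℚ) ≠ 0 := by exact_mod_cast Nat.factorial_ne_zero n
    field_simp
  rw [this, map_one]

variable {A}

lemma Q1 (c : ℕ → A) (h0 : c 0 = 1)
    (H : ∀ i j, ((Nat.choose (i + j) i : ℕ) : A) * c (i + j) = c i * c j) (n : ℕ) :
    c n = c 1 ^ n * algebraMap ℚ A (1 / (n.factorial : ℚ)) := by
  have key : ∀ n, c n * ((n.factorial : ℕ) : A) = c 1 ^ n := by
    intro n
    induction n with
    | zero => simp [h0]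
    | succ n ih =>
      have h := H n 1
      rw [Nat.choose_symm_add, Nat.choose_one_right] at h
      rw [Nat.factorial_succ, Nat.cast_mul, pow_succ, ← ih]
      calc c (n + 1) * (((n + 1 : ℕ) : A) * ((n.factorial : ℕ) : A))
          = (((n + 1 : ℕ) : A) * c (n + 1)) * ((n.factorial : ℕ) : A) := by ring
        _ = _ := by rw [h]; ring
  rw [← key n, mul_assoc, fact_mul_inv, mul_one]

lemma Q2 (a : A) (i j : ℕ) :
    ((Nat.choose (i + j) i : ℕ) : A) * (a ^ (i + j) * algebraMap ℚ A (1 / ((i + j).factorial : ℚ))) =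
      (a ^ i * algebraMap ℚ A (1 / (i.factorial : ℚ))) *
        (a ^ j * algebraMap ℚ A (1 / (j.factorial : ℚ))) := by
  have hq : ((Nat.choose (i + j) i : ℕ) : ℚ) * (1 / ((i + j).factorial : ℚ)) =
      (1 / (i.factorial : ℚ)) * (1 / (j.factorial : ℚ)) := by
    have h1 : ((i.factorial : ℕ) : ℚ) ≠ 0 := by exact_mod_cast Nat.factorial_ne_zero i
    have h2 : ((j.factorial : ℕ) : ℚ) ≠ 0 := by exact_mod_cast Nat.factorial_ne_zero j
    have h3 : (((i + j).factorial : ℕ) : ℚ) ≠ 0 := by exact_mod_cast Nat.factorial_ne_zero (i + j)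
    have h4 : ((Nat.choose (i + j) i : ℕ) : ℚ) * (i.factorial : ℚ) * (j.factorial : ℚ) =
        ((i + j).factorial : ℚ) := by
      have := Nat.add_choose_mul_factorial_mul_factorial i j
      rw [← Nat.choose_symm_add] at this
      exact_mod_cast this
    field_simp
    linear_combination h4
  have hA := congrArg (algebraMap ℚ A) hq
  rw [map_mul, map_mul, map_natCast] at hA
  rw [pow_add]
  calc ((Nat.choose (i + j) i : ℕ) : A) *
        (a ^ i * a ^ j * algebraMap ℚ A (1 / ((i + j).factorial : ℚ)))
      = a ^ i * a ^ j * (((Nat.choose (i + j) i : ℕ) : A) *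
          algebraMap ℚ A (1 / ((i + j).factorial : ℚ))) := by ring
    _ = _ := by rw [hA]; ring

theorem formalCharacter_rat_iff (χ : PowerSeries A) :
    (PowerSeries.constantCoeff χ = 1 ∧
      PowerSeries.subst (MvPowerSeries.X 0 + MvPowerSeries.X 1 : MvPowerSeries (Fin 2) A) χ =
        PowerSeries.subst (MvPowerSeries.X 0 : MvPowerSeries (Fin 2) A) χ *
          PowerSeries.subst (MvPowerSeries.X 1 : MvPowerSeries (Fin 2) A) χ) ↔
      ∃ a : A, χ = PowerSeries.rescale a (PowerSeries.exp A) := by
  constructor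
  · rintro ⟨h0, hchar⟩
    have H := (ps_char_iff χ).mp hchar
    have hc0 : PowerSeries.coeff 0 χ = 1 := by simpa using h0
    refine ⟨PowerSeries.coeff 1 χ, ?_⟩
    ext n
    rw [PowerSeries.coeff_rescale, PowerSeries.coeff_exp]
    exact Q1 (fun n => PowerSeries.coeff n χ) hc0 H n
  · rintro ⟨a, rfl⟩
    constructor
    · rw [← PowerSeries.coeff_zero_eq_constantCoeff_apply, PowerSeries.coeff_rescale,
        PowerSeries.coeff_exp]
      simp
    · rw [ps_char_iff]
      intro i j
      simp only [PowerSeries.coeff_rescale, PowerSeries.coeff_exp]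
      exact Q2 a i j

theorem polyCharacter_rat_iff (f : Polynomial A) :
    (f.eval 0 = 1 ∧
      Polynomial.aeval (MvPolynomial.X 0 + MvPolynomial.X 1 : MvPolynomial (Fin 2) A) f =
        Polynomial.aeval (MvPolynomial.X 0 : MvPolynomial (Fin 2) A) f *
          Polynomial.aeval (MvPolynomial.X 1 : MvPolynomial (Fin 2) A) f) ↔
      ∃ a : A, IsNilpotent a ∧ (f : PowerSeries A) = PowerSeries.rescale a (PowerSeries.exp A) := by
  constructor
  · rintro ⟨h0, hchar⟩
    have H := (poly_char_iff f).mp hchar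
    have hc0 : f.coeff 0 = 1 := by rw [Polynomial.coeff_zero_eq_eval_zero]; exact h0
    have hQ := Q1 f.coeff hc0 H
    refine ⟨f.coeff 1, ⟨f.natDegree + 1, ?_⟩, ?_⟩
    · have h1 := hQ (f.natDegree + 1)
      rw [Polynomial.coeff_eq_zero_of_natDegree_lt (by omega)] at h1
      have h2 := congrArg (fun x => x * (((f.natDegree + 1).factorial : ℕ) : A)) h1
      simp only [zero_mul] at h2
      rw [mul_assoc, mul_comm (algebraMap ℚ A _), fact_mul_inv, mul_one] at h2
      exact h2.symm
    · ext n
      rw [Polynomial.coeff_coe, PowerSeries.coeff_rescale, PowerSeries.coeff_exp]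
      exact hQ n
  · rintro ⟨a, _, hf⟩
    have hcoef : ∀ n, f.coeff n = a ^ n * algebraMap ℚ A (1 / (n.factorial : ℚ)) := by
      intro n
      rw [← Polynomial.coeff_coe, hf, PowerSeries.coeff_rescale, PowerSeries.coeff_exp]
    constructor
    · rw [← Polynomial.coeff_zero_eq_eval_zero, hcoef]
      simp
    · rw [poly_char_iff]
      intro i j
      rw [hcoef, hcoef, hcoef]
      exact Q2 a i j

end RatMain

end Groth.Agent.Lib.Helper20.GaChar
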