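import Groth.Agent.Lib.Helper20.GrpCohAvg

/-! # `H^n(G, R^×) → H^n(G, k^×)` is bijective for `n ≥ 1`, `R` henselian local, `|G|` prime to
the residue characteristic. -/

namespace Groth.Agent.Lib.Helper20.GalCohUnits

open CategoryTheory CategoryTheory.Limits groupCohomology IsLocalRing

section roots
variable {R : Type*} [CommRing R] [HenselianLocalRing R]

lemma exists_root (N : ℕ) (hN : IsUnit (N : R)) (hN0 : N ≠ 0) (u : R)
    (hu : u - 1 ∈ maximalIdeal R) :
    ∃ a : R, a ^ N = u ∧ a - 1 ∈ maximalIdeal R := by
  obtain ⟨a, ha, ha1⟩ := HenselianLocalRing.is_henselian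
    (Polynomial.X ^ N - Polynomial.C u) (Polynomial.monic_X_pow_sub_C u hN0) 1
    (by
      have : (1 : R) - u = -(u - 1) := by ring
      simp only [Polynomial.eval_sub, Polynomial.eval_pow, Polynomial.eval_X, one_pow,
        Polynomial.eval_C, this]
      exact neg_mem hu)
    (by simpa [Polynomial.derivative_X_pow] using hN)
  refine ⟨a, ?_, ha1⟩
  simpa [Polynomial.IsRoot, sub_eq_zero] using ha

lemma root_unique (N : ℕ) (hN : IsUnit (N : R)) (a b : R)
    (ha : a - 1 ∈ maximalIdeal R) (hb : b - 1 ∈ maximalIdeal R) (hab : a ^ N = b ^ N) :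
    a = b := by
  have hra : residue R a = 1 := by
    rw [← sub_eq_zero, ← map_one (residue R), ← map_sub, residue_eq_zero_iff]; exact ha
  have hrb : residue R b = 1 := by
    rw [← sub_eq_zero, ← map_one (residue R), ← map_sub, residue_eq_zero_iff]; exact hb
  set S := ∑ i ∈ Finset.range N, a ^ i * b ^ (N - 1 - i) with hS
  have h1 : S * (a - b) = 0 := by
    rw [hS, (Commute.all a b).geom_sum₂_mul, hab, sub_self]
  have h2 : residue R S = residue R (N : R) := by
    rw [hS, map_sum]
    simp [hra, hrb]
  have h3 : IsUnit S := by
    apply isUnit_of_map_unit (residue R)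
    rw [h2]
    exact hN.map (residue R)
  exact sub_eq_zero.mp ((h3.mul_right_eq_zero).mp h1)

end roots

section main

attribute [local instance] Units.mulDistribMulActionRight

variable (R : Type) [CommRing R] [HenselianLocalRing R]
  (G : Type) [Group G] [Fintype G] [MulSemiringAction G R]

theorem main
    (hN : ((Fintype.card G : ℕ) : ResidueField R) ≠ 0)
    (φ : Rep.ofMulDistribMulAction G Rˣ ⟶ Rep.ofMulDistribMulAction G (ResidueField R)ˣ)
    (hφ : ∀ x : Rˣ, Additive.toMul (φ.hom (Additive.ofMul x)) =
      Units.map (residue R).toMonoidHom x)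
    (n : ℕ) (hn : 1 ≤ n) :
    Function.Bijective ((groupCohomology.functor ℤ G n).map φ).hom := by
  set N := Fintype.card G with hNdef
  have hN0 : N ≠ 0 := Fintype.card_ne_zero
  have hNu : IsUnit (N : R) := by
    apply isUnit_of_map_unit (residue R)
    rw [map_natCast]
    exact isUnit_iff_ne_zero.mpr hN
  have hsurj : Function.Surjective φ.hom := by
    intro y
    obtain ⟨r, hr⟩ := residue_surjective (R := R)
      ((Additive.toMul y : (ResidueField R)ˣ) : ResidueField R)
    have hru : IsUnit r := by
      apply isUnit_of_map_unit (residue R)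
      rw [hr]
      exact (Additive.toMul y).isUnit
    refine ⟨Additive.ofMul hru.unit, ?_⟩
    apply Additive.toMul.injective
    rw [hφ]
    apply Units.ext
    show residue R r = ((Additive.toMul y : (ResidueField R)ˣ) : ResidueField R)
    exact hr
  obtain ⟨hι, hker, hzero⟩ := Groth.Agent.Lib.Helper20.GrpCohAvg.kernel_desc φ
  -- elements of the kernel reduce to 1
  have hres : ∀ x : Additive Rˣ, φ.hom x = 0 →
      ((Additive.toMul x : Rˣ) : R) - 1 ∈ maximalIdeal R := by
    intro x hx
    have h1 := hφ (Additive.toMul x)
    change Additive.toMul (φ.hom x) = _ at h1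
    rw [hx] at h1
    have h2 : residue R ((Additive.toMul x : Rˣ) : R) = 1 := by
      have := congrArg (fun u : (ResidueField R)ˣ => (u : ResidueField R)) h1
      exact this.symm
    rw [← residue_eq_zero_iff, map_sub, h2, map_one, sub_self]
  have hbij : Function.Bijective (fun a : (kernel φ : Rep ℤ G) => (Fintype.card G) • a) := by
    constructor
    · intro y y' hyy
      have hyy' : N • y = N • y' := hyy
      have h1 : N • ((kernel.ι φ).hom (y - y')) = 0 := by
        rw [← map_nsmul, smul_sub, hyy', sub_self, map_zero]
      set x : Additive Rˣ := (kernel.ι φ).hom (y - y') with hx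
      have hx1 : (Additive.toMul x : Rˣ) ^ N = 1 := by
        have := congrArg Additive.toMul h1
        exact this
      have hx2 := hres x (hzero _)
      have hx3 : ((Additive.toMul x : Rˣ) : R) = 1 := by
        apply root_unique N hNu _ _ hx2 (by simp)
        rw [one_pow, ← Units.val_pow_eq_pow_val, hx1, Units.val_one]
      have hx4 : x = 0 := by
        apply Additive.toMul.injective
        apply Units.ext
        rw [hx3]
        rfl
      have := hι (hx4.trans (map_zero (kernel.ι φ).hom).symm)
      exact sub_eq_zero.mp this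
    · intro y
      set x : Additive Rˣ := (kernel.ι φ).hom y with hx
      obtain ⟨a, ha, ha1⟩ := exists_root N hNu hN0 ((Additive.toMul x : Rˣ) : R)
        (hres x (hzero _))
      have hra : residue R a = 1 := by
        rw [← sub_eq_zero, ← map_one (residue R), ← map_sub, residue_eq_zero_iff]; exact ha1
      have hau : IsUnit a := by
        apply isUnit_of_map_unit (residue R)
        rw [hra]
        exact isUnit_one
      have hker' : φ.hom (Additive.ofMul hau.unit) = 0 := by
        apply Additive.toMul.injective
        rw [hφ]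
        apply Units.ext
        show residue R a = 1
        exact hra
      obtain ⟨y', hy'⟩ := hker _ hker'
      refine ⟨y', ?_⟩
      apply hι
      show (kernel.ι φ).hom (N • y') = (kernel.ι φ).hom y
      rw [map_nsmul, hy']
      apply Additive.toMul.injective
      apply Units.ext
      show ((hau.unit ^ N : Rˣ) : R) = ((Additive.toMul x : Rˣ) : R)
      rw [Units.val_pow_eq_pow_val, IsUnit.unit_spec, ha]
  have hvan : ∀ m : ℕ, Subsingleton (groupCohomology (kernel φ : Rep ℤ G) (m + 1)) := fun m =>
    Groth.Agent.Lib.Helper20.GrpCohAvg.subsingleton_of_card_nsmul_bijective _ hbij m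
  obtain ⟨m, rfl⟩ : ∃ m, n = m + 1 := ⟨n - 1, by omega⟩
  exact Groth.Agent.Lib.Helper20.GrpCohAvg.bijective_of_vanishing φ hsurj hvan m

end main

end Groth.Agent.Lib.Helper20.GalCohUnits
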