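import Groth.Agent.Lib.Helper20.TestFam

/-!
# Helper library (helper20): the diagonal argument — transfer of filtration information from the
test rings to an arbitrary augmented `K`-λ-algebra
-/

set_option autoImplicit false
universe u v w

open Finset

namespace Groth.Agent.Lib.Helper20.GD

open LambdaRing MvPolynomial Groth.Agent.Lib.Helper20.TR Groth.Agent.Lib.Helper20.TF
  Groth.Agent.Lib.Helper20.TFam Groth.Agent.Lib.Helper20.DL Groth.Agent.Lib.Helper20.GF

section gammaComp
variable {A : Type v} {B : Type w} [CommRing A] [CommRing B] [LambdaOps A] [LambdaOps B]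

lemma gamma_fst (k : ℕ) (p : A × B) : (gamma k p).1 = gamma k p.1 := by
  unfold gamma
  split_ifs with hk
  · rfl
  · rw [Prod.fst_sum]
    apply Finset.sum_congr rfl
    intro j _
    rw [Prod.fst_mul, Prod.fst_natCast]
    congr 1
    split_ifs <;> rfl

lemma gamma_snd (k : ℕ) (p : A × B) : (gamma k p).2 = gamma k p.2 := by
  unfold gamma
  split_ifs with hk
  · rfl
  · rw [Prod.snd_sum]
    apply Finset.sum_congr rfl
    intro j _
    rw [Prod.snd_mul, Prod.snd_natCast]
    congr 1
    split_ifs <;> rfl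

end gammaComp

section gammaPi
variable {I : Type*} {B : I → Type w} [∀ i, CommRing (B i)] [∀ i, LambdaOps (B i)]

lemma gamma_apply (k : ℕ) (p : ∀ i, B i) (i : I) : (gamma k p) i = gamma k (p i) := by
  unfold gamma
  split_ifs with hk
  · rfl
  · rw [Finset.sum_apply]
    apply Finset.sum_congr rfl
    intro j _
    rw [Pi.mul_apply, Pi.natCast_apply]
    congr 1
    split_ifs <;> rfl

end gammaPi

section filA
variable {K : Type u} {A : Type v} [CommRing K] [CommRing A] [LambdaOps A] [Algebra K A]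
  (ε : A →+* K)

lemma fil_pow_mem {x : A} {w : ℕ} (h : x ∈ gammaFil ε w) (k : ℕ) :
    x ^ k ∈ gammaFil ε (k * w) := by
  induction k with
  | zero => rw [pow_zero, Nat.zero_mul, gammaFil_zero]; trivial
  | succ k ih => rw [pow_succ, Nat.succ_mul]; exact gammaFil_mul ε ih h

lemma fil_prod_mem {κ : Type*} (s : Finset κ) (f : κ → A) (w : κ → ℕ)
    (h : ∀ i ∈ s, f i ∈ gammaFil ε (w i)) :
    ∏ i ∈ s, f i ∈ gammaFil ε (∑ i ∈ s, w i) := by
  classical
  induction s using Finset.induction_on with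
  | empty => rw [Finset.prod_empty, Finset.sum_empty, gammaFil_zero]; trivial
  | insert a s ha ih =>
    rw [Finset.prod_insert ha, Finset.sum_insert ha]
    exact gammaFil_mul ε (h a (mem_insert_self a s)) (ih fun i hi => h i (mem_insert_of_mem hi))

/-- a polynomial of weight `≥ w` in the `γ^j(x_s)`, `ε(x_s) = 0`, lies in `Fil^w` -/
lemma aeval_gamma_mem_fil {ι : Type*} (N : ℕ) (x : ι → A) (hx : ∀ s, ε (x s) = 0) (w : ℕ)
    (G : MvPolynomial (ι × Fin N) K)
    (hG : ∀ d ∈ G.support, w ≤ Finsupp.weight (fun p : ι × Fin N => (p.2 : ℕ) + 1) d) :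
    aeval (fun p : ι × Fin N => gamma ((p.2 : ℕ) + 1) (x p.1)) G ∈ gammaFil ε w := by
  rw [G.as_sum, map_sum]
  apply Ideal.sum_mem
  intro d hd
  rw [aeval_monomial]
  apply Ideal.mul_mem_left
  apply gammaFil_anti ε (hG d hd)
  rw [Finsupp.prod, Finsupp.weight_apply, Finsupp.sum]
  apply fil_prod_mem
  intro i _
  rw [smul_eq_mul]
  exact fil_pow_mem ε (gamma_mem_gammaFil ε (hx i.1) _) _

end filA

section diag
variable {K : Type u} [CommRing K] [LambdaOps K] [BinomialRing K]
  {A : Type v} [CommRing A] [LambdaOps A] [Algebra K A]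
  {ι : Type} [Finite ι]

/-- the diagonal ring -/
abbrev DR (K : Type u) [CommRing K] (A : Type v) (ι : Type) : Type (max u v) :=
  A × (∀ N : ℕ, MvPolynomial (ι × Fin N) K)

/-- the diagonal family -/
noncomputable def ξ (x : ι → A) : ι → DR K A ι := fun s => (x s, fun N => xhat N s)

variable (hKb : IsBinomial K) (hA : IsSpecial A) (hKA : IsLambdaAlg K A)
  (hP : ∀ n : ℕ, ∃ P : MvPolynomial (Fin n ⊕ Fin n) ℤ, IsMulPoly n P)
  (hQ : ∀ i j : ℕ, ∃ Q : MvPolynomial (Fin (i * j)) ℤ, IsCompPoly i j Q)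

include hA in
omit [LambdaOps K] [Finite ι] in
lemma isSpecial_DR : IsSpecial (DR K A ι) :=
  isSpecial_prod hA (isSpecial_pi fun _ => TR.isSpecial)

include hKb hKA in
omit [Finite ι] in
lemma isLambdaAlg_DR : IsLambdaAlg K (DR K A ι) := by
  intro n c
  refine Prod.ext ?_ ?_
  · exact hKA n c
  · funext N
    exact TR.isLambdaAlg hKb n c

/-- transfer: an element of the diagonal sub-λ-algebra whose test components lie in the `w`-th
power of the augmentation ideal has its `A`-component in `Fil^w` -/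
theorem fst_mem_gammaFil (ε : A →+* K) (x : ι → A) (hx : ∀ s, ε (x s) = 0)
    (f : DR K A ι) (hf : f ∈ Adj K (ξ (K := K) x)) (w : ℕ) (hw : ∀ N, f.2 N ∈ Jn w) :
    f.1 ∈ gammaFil ε w := by
  classical
  obtain ⟨G, hG⟩ := exists_rep (ξ (K := K) x) f hf
  -- bound the variables
  let N : ℕ := (G.vars.image Prod.snd).sup id + 1
  have hN : ∀ p ∈ G.vars, p.2 < N := by
    intro p hp
    have : p.2 ≤ (G.vars.image Prod.snd).sup id :=
      Finset.le_sup (f := id) (Finset.mem_image_of_mem Prod.snd hp)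
    omega
  let emb : ι × Fin N → ι × ℕ := fun p => (p.1, (p.2 : ℕ))
  have hemb : Function.Injective emb := by
    rintro ⟨s, j⟩ ⟨s', j'⟩ h
    simp only [emb, Prod.mk.injEq] at h
    exact Prod.ext h.1 (Fin.ext h.2)
  obtain ⟨G', hG'⟩ := exists_rename_eq_of_vars_subset_range G emb hemb (by
    intro p hp
    exact ⟨(p.1, ⟨p.2, hN p hp⟩), rfl⟩)
  rw [← hG', aeval_rename] at hG
  -- the two components
  have h1 : f.1 = aeval (fun p : ι × Fin N => gamma ((p.2 : ℕ) + 1) (x p.1)) G' := by
    rw [hG]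
    have e1 : (aeval ((fun p : ι × ℕ => gamma (p.2 + 1) (ξ (K := K) x p.1)) ∘ emb) G').1 =
        (AlgHom.fst K A (∀ N : ℕ, MvPolynomial (ι × Fin N) K))
          (aeval ((fun p : ι × ℕ => gamma (p.2 + 1) (ξ (K := K) x p.1)) ∘ emb) G') := rfl
    rw [e1, comp_aeval_apply]
    refine congrArg (fun f => aeval f G') ?_
    funext p
    simp only [Function.comp_apply, AlgHom.fst_apply, emb]
    rw [gamma_fst]
    rfl
  have h2 : f.2 N = aeval (fun p : ι × Fin N => gamma ((p.2 : ℕ) + 1) (xhat (K := K) N p.1)) G' := by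
    rw [hG]
    have e1 : (aeval ((fun p : ι × ℕ => gamma (p.2 + 1) (ξ (K := K) x p.1)) ∘ emb) G').2 N =
        ((Pi.evalAlgHom K (fun N : ℕ => MvPolynomial (ι × Fin N) K) N).comp
          (AlgHom.snd K A (∀ N : ℕ, MvPolynomial (ι × Fin N) K)))
          (aeval ((fun p : ι × ℕ => gamma (p.2 + 1) (ξ (K := K) x p.1)) ∘ emb) G') := rfl
    rw [e1, comp_aeval_apply]
    refine congrArg (fun f => aeval f G') ?_
    funext p
    simp only [Function.comp_apply, AlgHom.coe_comp, AlgHom.snd_apply, Pi.evalAlgHom_apply, emb]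
    rw [gamma_snd, gamma_apply]
    rfl
  rw [h1]
  apply aeval_gamma_mem_fil ε N x hx w G'
  apply weight_of_mem_Jn N w G'
  rw [← h2]
  exact hw N

end diag

end Groth.Agent.Lib.Helper20.GD
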