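import Groth.Agent.Lib.Helper20.TestFam2

/-!
# Helper library (helper20): the diagonal argument with one family of fixed rank `d`, and the
filtration level of `γ^p(x · λ_{-1}(N)) / λ_{-1}(N)`
-/

set_option autoImplicit false
universe u v w

open Finset

namespace Groth.Agent.Lib.Helper20.GDiv

open LambdaRing MvPolynomial Groth.Agent.Lib.Helper20.Sym Groth.Agent.Lib.Helper20.TR
  Groth.Agent.Lib.Helper20.TF Groth.Agent.Lib.Helper20.TFam Groth.Agent.Lib.Helper20.DL
  Groth.Agent.Lib.Helper20.GF Groth.Agent.Lib.Helper20.GD Groth.Agent.Lib.Helper20.LR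
  Groth.Agent.Lib.Helper20.GM Groth.Agent.Lib.Helper20.GK Groth.Agent.Lib.Helper20.LD
  Groth.Agent.Lib.Helper20.TFam2

section rank
variable {K : Type u} [CommRing K] [LambdaOps K]

lemma gammaSeries_one' (h1 : ∀ k : ℕ, 2 ≤ k → LambdaOps.lam k (1 : K) = 0) :
    gammaSeries (1 : K) = PowerSeries.mk 1 := by
  rw [Groth.Agent.S8651.gammaSeries_of_line_like 1 h1, sub_self, map_zero, zero_mul, add_zero,
    one_mul]

lemma gammaSeries_natCast' (h1 : ∀ k : ℕ, 2 ≤ k → LambdaOps.lam k (1 : K) = 0) (n : ℕ) :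
    gammaSeries ((n : K)) = (PowerSeries.mk 1) ^ n := by
  induction n with
  | zero => rw [Nat.cast_zero, gammaSeries_zero, pow_zero]
  | succ n ih => rw [Nat.cast_succ, gammaSeries_add, ih, gammaSeries_one' h1, pow_succ]

lemma gammaSeries_sub_natCast' (h1 : ∀ k : ℕ, 2 ≤ k → LambdaOps.lam k (1 : K) = 0) (e : K)
    (n : ℕ) : gammaSeries (e - (n : K)) = gammaSeries e * (1 - PowerSeries.X) ^ n := by
  have h := gammaSeries_add (e - (n : K)) (n : K)
  rw [sub_add_cancel, gammaSeries_natCast' h1] at h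
  rw [h, mul_assoc, ← mul_pow, PowerSeries.mk_one_mul_one_sub_eq_one, one_pow, mul_one]

lemma lamSeries_eq_coe' (e : K) (m : ℕ) (he : ∀ k : ℕ, m < k → LambdaOps.lam k e = 0) :
    lamSeries e = ((lamPoly e m : Polynomial K) : PowerSeries K) := by
  ext k
  rw [coeff_lamSeries, Polynomial.coeff_coe, lamPoly, Polynomial.finsetSum_coeff]
  simp only [Polynomial.coeff_C_mul_X_pow]
  by_cases hk : k ≤ m
  · rw [Finset.sum_eq_single k]
    · rw [if_pos rfl]
    · intro b _ hb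
      rw [if_neg (Ne.symm hb)]
    · intro h
      exact absurd (Finset.mem_range.mpr (by omega)) h
  · rw [Finset.sum_eq_zero]
    · exact he k (by omega)
    · intro i hi
      rw [if_neg]
      have := Finset.mem_range.mp hi
      omega

lemma gammaSeries_sub_eq_coe' (h1 : ∀ k : ℕ, 2 ≤ k → LambdaOps.lam k (1 : K) = 0) (e : K) (m : ℕ)
    (he : ∀ k : ℕ, m < k → LambdaOps.lam k e = 0) :
    gammaSeries (e - ((m : ℕ) : K)) = ((qPoly e m : Polynomial K) : PowerSeries K) := by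
  rw [gammaSeries_sub_natCast' h1, gammaSeries_eq_subst, lamSeries_eq_coe' e m he,
    PowerSeries.subst_coe hasSubst_sSer, lamPoly, qPoly, map_sum, Finset.sum_mul]
  have hcoe : ∀ p : Polynomial K, ((p : Polynomial K) : PowerSeries K) =
      Polynomial.coeToPowerSeries.ringHom p := fun p => rfl
  rw [hcoe, map_sum]
  apply Finset.sum_congr rfl
  intro i hi
  have hi' : i ≤ m := by have := Finset.mem_range.mp hi; omega
  have hL : Polynomial.aeval (sSer K) (Polynomial.C (LambdaOps.lam i e) * Polynomial.X ^ i) =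
      PowerSeries.C (LambdaOps.lam i e) * (sSer K) ^ i := by
    rw [map_mul, map_pow, Polynomial.aeval_C, Polynomial.aeval_X]
    rfl
  have hR : Polynomial.coeToPowerSeries.ringHom (Polynomial.C (LambdaOps.lam i e) *
      (Polynomial.X ^ i * (1 - Polynomial.X) ^ (m - i))) =
      PowerSeries.C (LambdaOps.lam i e) * (PowerSeries.X ^ i * (1 - PowerSeries.X) ^ (m - i)) := by
    rw [← hcoe, Polynomial.coe_mul, Polynomial.coe_mul, Polynomial.coe_pow, Polynomial.coe_pow,
      Polynomial.coe_sub, Polynomial.coe_one, Polynomial.coe_C, Polynomial.coe_X]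
  rw [hL, hR]
  have h1' : (sSer K) ^ i * (1 - PowerSeries.X) ^ m =
      PowerSeries.X ^ i * (1 - PowerSeries.X) ^ (m - i) := by
    rw [sSer, mul_pow]
    have : (1 - PowerSeries.X : PowerSeries K) ^ m =
        (1 - PowerSeries.X) ^ i * (1 - PowerSeries.X) ^ (m - i) := by
      rw [← pow_add]; congr 1; omega
    have h2 : (PowerSeries.mk 1 : PowerSeries K) ^ i * (1 - PowerSeries.X) ^ i = 1 := by
      rw [← mul_pow, PowerSeries.mk_one_mul_one_sub_eq_one, one_pow]
    rw [this, mul_assoc (PowerSeries.X ^ i), ← mul_assoc (PowerSeries.mk 1 ^ i), h2, one_mul]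
  rw [mul_assoc, h1']

/-- for `e` of rank at most `m`, `γ^k(e - m) = 0` for `k > m` -/
lemma gamma_sub_eq_zero (h1 : ∀ k : ℕ, 2 ≤ k → LambdaOps.lam k (1 : K) = 0) (e : K) (m : ℕ)
    (he : ∀ k : ℕ, m < k → LambdaOps.lam k e = 0) (k : ℕ) (hk : m < k) :
    gamma k (e - ((m : ℕ) : K)) = 0 := by
  rw [← coeff_gammaSeries, gammaSeries_sub_eq_coe' h1 e m he, Polynomial.coeff_coe]
  exact Polynomial.coeff_eq_zero_of_natDegree_lt (lt_of_le_of_lt (natDegree_qPoly_le e m) hk)

end rank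

section diag2
variable {K : Type u} [CommRing K] [LambdaOps K] [BinomialRing K]
  {A : Type v} [CommRing A] [LambdaOps A] [Algebra K A]
  {ι : Type} [Finite ι] (d : ℕ)

/-- the diagonal ring with one family of size `d` -/
abbrev DR2 (K : Type u) [CommRing K] (A : Type v) (d : ℕ) (ι : Type) : Type (max u v) :=
  A × (∀ N : ℕ, MvPolynomial (Fin d ⊕ ι × Fin N) K)

/-- the diagonal family: `none` is the family of rank `d` -/
noncomputable def ξ2 (n' : A) (x : ι → A) : Option ι → DR2 K A d ι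
  | none => (n', fun N => nhat d N ι)
  | some s => (x s, fun N => xhat2 d N s)

omit [LambdaOps K] [Finite ι] in
lemma isSpecial_DR2 (hA : IsSpecial A) : IsSpecial (DR2 K A d ι) :=
  isSpecial_prod hA (isSpecial_pi fun _ => TR.isSpecial)

omit [Finite ι] in
lemma isLambdaAlg_DR2 (hKb : IsBinomial K) (hKA : IsLambdaAlg K A) :
    IsLambdaAlg K (DR2 K A d ι) := by
  intro n c
  refine Prod.ext ?_ ?_
  · exact hKA n c
  · funext N
    exact TR.isLambdaAlg hKb n c

omit [LambdaOps K] [Finite ι] in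
lemma gamma_ξ2_none_eq_zero (n' : A) (x : ι → A) (hrank : ∀ k : ℕ, d < k → gamma k n' = 0)
    (k : ℕ) (hk : d < k) : gamma k (ξ2 (K := K) d n' x none) = 0 := by
  refine Prod.ext ?_ ?_
  · rw [gamma_fst]
    exact hrank k hk
  · funext N'
    rw [gamma_snd, gamma_apply]
    exact gamma_nhat_eq_zero d N' k hk

/-- transfer for the mixed diagonal ring -/
theorem fst_mem_gammaFil2 (ε : A →+* K) (n' : A) (hn' : ε n' = 0)
    (hrank : ∀ k : ℕ, d < k → gamma k n' = 0) (x : ι → A) (hx : ∀ s, ε (x s) = 0)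
    (f : DR2 K A d ι) (hf : f ∈ Adj K (ξ2 (K := K) d n' x)) (w : ℕ) (hw : ∀ N, f.2 N ∈ Jn w) :
    f.1 ∈ gammaFil ε w := by
  classical
  obtain ⟨G, hG⟩ := exists_rep (ξ2 (K := K) d n' x) f hf
  let N : ℕ := (G.vars.image Prod.snd).sup id + 1
  have hN : ∀ p ∈ G.vars, p.2 < N := by
    intro p hp
    have : p.2 ≤ (G.vars.image Prod.snd).sup id :=
      Finset.le_sup (f := id) (Finset.mem_image_of_mem Prod.snd hp)
    omega
  let emb : Option ι × Fin N → Option ι × ℕ := fun p => (p.1, (p.2 : ℕ))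
  have hemb : Function.Injective emb := by
    rintro ⟨s, j⟩ ⟨s', j'⟩ h
    simp only [emb, Prod.mk.injEq] at h
    exact Prod.ext h.1 (Fin.ext h.2)
  obtain ⟨G₀, hG₀⟩ := exists_rename_eq_of_vars_subset_range G emb hemb (by
    intro p hp
    exact ⟨(p.1, ⟨p.2, hN p hp⟩), rfl⟩)
  rw [← hG₀, aeval_rename] at hG
  let θ : Option ι × Fin N → MvPolynomial (Fin d ⊕ ι × Fin N) K := fun p =>
    match p with
    | (none, j) => if h : (j : ℕ) < d then X (Sum.inl ⟨j, h⟩) else 0
    | (some s, j) => X (Sum.inr (s, j))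
  let Γ : Fin d ⊕ ι × Fin N → DR2 K A d ι :=
    Sum.elim (fun j => gamma ((j : ℕ) + 1) (ξ2 (K := K) d n' x none))
      (fun p => gamma ((p.2 : ℕ) + 1) (ξ2 (K := K) d n' x (some p.1)))
  have hfΓ : f = aeval Γ (aeval θ G₀) := by
    rw [hG, comp_aeval_apply]
    refine congrArg (fun f => aeval f G₀) ?_
    funext p
    rcases p with ⟨_ | s, j⟩
    · simp only [Function.comp_apply, emb, θ]
      split_ifs with h
      · rw [aeval_X]
        rfl
      · rw [map_zero]
        exact gamma_ξ2_none_eq_zero d n' x hrank _ (by omega)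
    · simp only [Function.comp_apply, emb, θ]
      rw [aeval_X]
      rfl
  have h1 : f.1 = aeval (Sum.elim (fun j : Fin d => gamma ((j : ℕ) + 1) n')
      (fun p : ι × Fin N => gamma ((p.2 : ℕ) + 1) (x p.1))) (aeval θ G₀) := by
    rw [hfΓ]
    have e1 : (aeval Γ (aeval θ G₀)).1 =
        (AlgHom.fst K A (∀ N : ℕ, MvPolynomial (Fin d ⊕ ι × Fin N) K))
          (aeval Γ (aeval θ G₀)) := rfl
    rw [e1, comp_aeval_apply]
    refine congrArg (fun f => aeval f (aeval θ G₀)) ?_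
    funext t
    rcases t with j | p
    · simp only [AlgHom.fst_apply, Γ, Sum.elim_inl]
      rw [gamma_fst]
      rfl
    · simp only [AlgHom.fst_apply, Γ, Sum.elim_inr]
      rw [gamma_fst]
      rfl
  have h2 : f.2 N = aeval (gens2 (K := K) d N) (aeval θ G₀) := by
    rw [hfΓ]
    have e1 : (aeval Γ (aeval θ G₀)).2 N =
        ((Pi.evalAlgHom K (fun N : ℕ => MvPolynomial (Fin d ⊕ ι × Fin N) K) N).comp
          (AlgHom.snd K A (∀ N : ℕ, MvPolynomial (Fin d ⊕ ι × Fin N) K)))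
          (aeval Γ (aeval θ G₀)) := rfl
    rw [e1, comp_aeval_apply]
    refine congrArg (fun f => aeval f (aeval θ G₀)) ?_
    funext t
    rcases t with j | p
    · simp only [AlgHom.coe_comp, Function.comp_apply, AlgHom.snd_apply, Pi.evalAlgHom_apply, Γ,
        Sum.elim_inl]
      rw [gamma_snd, gamma_apply]
      rfl
    · simp only [AlgHom.coe_comp, Function.comp_apply, AlgHom.snd_apply, Pi.evalAlgHom_apply, Γ,
        Sum.elim_inr]
      rw [gamma_snd, gamma_apply]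
      rfl
  rw [h1]
  apply aeval_mem_of_weight (gammaFil ε) (gammaFil_zero ε) (fun a b hab => gammaFil_anti ε hab)
    (fun a b u v hu hv => gammaFil_mul ε hu hv) _ (wt2 d N ι) _ w (aeval θ G₀)
  · apply weight_of_mem_Jn2
    rw [← h2]
    exact hw N
  · rintro (j | p)
    · exact gamma_mem_gammaFil ε hn' _
    · exact gamma_mem_gammaFil ε (hx p.1) _

end diag2

section picomp
variable {I : Type*} {B : I → Type w} [∀ i, CommRing (B i)] [∀ i, LambdaOps (B i)]

lemma lamNeg_apply (d : ℕ) (p : ∀ i, B i) (i : I) : (lamNeg d p) i = lamNeg d (p i) := by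
  unfold lamNeg
  rw [Finset.sum_apply]
  apply Finset.sum_congr rfl
  intro j _
  rw [Pi.mul_apply, Pi.pow_apply, Pi.neg_apply, Pi.one_apply]
  rfl

end picomp

section divtransfer
variable {K : Type u} [CommRing K] [LambdaOps K] [BinomialRing K]
  {A : Type v} [CommRing A] [LambdaOps A] [Algebra K A]
  (hKb : IsBinomial K) (hA : IsSpecial A)
  (hP : ∀ n : ℕ, ∃ P : MvPolynomial (Fin n ⊕ Fin n) ℤ, IsMulPoly n P)
  (hQ : ∀ i j : ℕ, ∃ Q : MvPolynomial (Fin (i * j)) ℤ, IsCompPoly i j Q)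
  (ε : A →ₐ[K] K) (hε : IsAugLambdaAlg K A ε)
  {ι : Type} [Finite ι] (d : ℕ)

omit [LambdaOps K] [Finite ι] in
lemma prod_one_sub_mem_Jn (N' : ℕ) :
    (∏ a : Fin d, (1 - X (Sum.inl a)) : MvPolynomial (Fin d ⊕ ι × Fin N') K) ∈ Jn d := by
  have := Jn_prod_mem (K := K) (Finset.univ : Finset (Fin d))
    (fun a => (1 - X (Sum.inl a) : MvPolynomial (Fin d ⊕ ι × Fin N') K)) (fun _ => 1) (by
      intro a _
      have h := X_sub_one_mem (K := K) (Sum.inl a : Fin d ⊕ ι × Fin N')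
      have e : (1 - X (Sum.inl a) : MvPolynomial (Fin d ⊕ ι × Fin N') K) =
          -(X (Sum.inl a) - 1) := by ring
      rw [e]
      exact (Jn 1).neg_mem h)
  simpa using this

include hKb hA hP hQ hε in
omit [Finite ι] in
/-- the universal quotient `γ^p(X · λ_{-1}(N)) / λ_{-1}(N)` in the diagonal ring -/
theorem div_transfer (N : A) (hN : ∀ k : ℕ, d < k → LambdaOps.lam k N = 0)
    (hnzd : lamNeg d N ∈ nonZeroDivisors A) (x : ι → A) (Xt : DR2 K A d ι)
    (hXt : Xt ∈ Adj K (ξ2 (K := K) d (N - (d : A)) x)) (p : ℕ) (hp : 1 ≤ p) (y : A)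
    (hy : y * lamNeg d N = gamma p (Xt.1 * lamNeg d N)) :
    ∃ yt ∈ Adj K (ξ2 (K := K) d (N - (d : A)) x), yt.1 = y ∧
      ∀ N' : ℕ, (∏ a : Fin d, (1 - X (Sum.inl a))) * yt.2 N' =
        gamma p (Xt.2 N' * ∏ a : Fin d, (1 - X (Sum.inl a))) := by
  classical
  have hsp : IsSpecial (DR2 K A d ι) := isSpecial_DR2 d hA
  have hla : IsLambdaAlg K (DR2 K A d ι) := isLambdaAlg_DR2 d hKb hε.isLambdaAlg
  set ξ := ξ2 (K := K) d (N - (d : A)) x with hξ
  -- the element `Ñ`
  set Nt : DR2 K A d ι := ξ none + (d : DR2 K A d ι) with hNt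
  have hNtS : Nt ∈ Adj K ξ :=
    Subalgebra.add_mem _ (gen_mem ξ none) (natCast_mem _ d)
  have hNt1 : Nt.1 = N := by
    rw [hNt, Prod.fst_add, Prod.fst_natCast]
    change N - (d : A) + (d : A) = N
    ring
  have hNt2 : ∀ N' : ℕ, Nt.2 N' = Nhat (K := K) (Sum.inl : Fin d → Fin d ⊕ ι × Fin N') := by
    intro N'
    rw [hNt, Prod.snd_add, Prod.snd_natCast, Pi.add_apply, Pi.natCast_apply]
    change nhat d N' ι + (d : MvPolynomial (Fin d ⊕ ι × Fin N') K) = _
    unfold nhat Nhat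
    ring
  have hrank : ∀ k : ℕ, d < k → LambdaOps.lam k Nt = 0 := by
    intro k hk
    refine Prod.ext ?_ ?_
    · rw [lam_fst, hNt1]
      exact hN k hk
    · funext N'
      rw [lam_snd, lam_apply, hNt2]
      exact lam_Nhat_eq_zero _ k hk
  obtain ⟨wt, hwtS, hwt⟩ := gamma_mul_lamNeg hKb hsp hla hP hQ (Adj K ξ)
    (fun r hr n => lam_mem_Adj ξ hsp hla hP hQ r hr n) d Nt hNtS hrank Xt hXt p hp
  refine ⟨wt, hwtS, ?_, ?_⟩
  · have h1 := congrArg Prod.fst hwt
    rw [gamma_fst, Prod.fst_mul, Prod.fst_mul, lamNeg_fst, hNt1, ← hy] at h1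
    have h2 : (y - wt.1) * lamNeg d N = 0 := by
      rw [sub_mul, h1]
      ring
    have := (mem_nonZeroDivisors_iff_right.mp hnzd) _ h2
    exact (sub_eq_zero.mp this).symm
  · intro N'
    have h1 := congrArg (fun f : DR2 K A d ι => f.2 N') hwt
    beta_reduce at h1
    rw [gamma_snd, gamma_apply, Prod.snd_mul, Prod.snd_mul, Pi.mul_apply, Pi.mul_apply, lamNeg_snd,
      lamNeg_apply, hNt2, lamNeg_Nhat] at h1
    exact h1.symm

end divtransfer

section final
variable {K : Type u} [CommRing K] [LambdaOps K] [BinomialRing K]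
  {A : Type v} [CommRing A] [LambdaOps A] [Algebra K A]
  (hKb : IsBinomial K) (hA : IsSpecial A)
  (hP : ∀ n : ℕ, ∃ P : MvPolynomial (Fin n ⊕ Fin n) ℤ, IsMulPoly n P)
  (hQ : ∀ i j : ℕ, ∃ Q : MvPolynomial (Fin (i * j)) ℤ, IsCompPoly i j Q)
  (ε : A →ₐ[K] K) (hε : IsAugLambdaAlg K A ε)

include hKb hA hP hQ hε in
/-- `γ^p(x · λ_{-1}(N)) / λ_{-1}(N) ∈ Fil^(p-d)` -/
theorem quotient_mem_fil (d : ℕ) (hd : 1 ≤ d) (N : A)
    (hN : ∀ k : ℕ, d < k → LambdaOps.lam k N = 0) (hNε : ε N = (d : K))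
    (hnzd : lamNeg d N ∈ nonZeroDivisors A) (p : ℕ) (hp : 1 ≤ p) (x y : A)
    (hy : y * lamNeg d N = gamma p (x * lamNeg d N)) :
    y ∈ gammaFil (ε : A →+* K) (p - d) := by
  classical
  let x' : Unit → A := fun _ => x - algebraMap K A (ε x)
  have hx' : ∀ s, ε (x' s) = 0 := by
    intro s
    change ε (x - algebraMap K A (ε x)) = 0
    rw [map_sub, AlgHom.commutes]
    simp
  set ξ := ξ2 (K := K) d (N - (d : A)) x' with hξ
  let Xt : DR2 K A d Unit := algebraMap K (DR2 K A d Unit) (ε x) + ξ (some ())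
  have hXt : Xt ∈ Adj K ξ :=
    Subalgebra.add_mem _ (Subalgebra.algebraMap_mem _ _) (gen_mem ξ (some ()))
  have hXt1 : Xt.1 = x := by
    change algebraMap K A (ε x) + (x - algebraMap K A (ε x)) = x
    ring
  rw [← hXt1] at hy
  obtain ⟨yt, hytS, hyt1, hyt2⟩ := div_transfer hKb hA hP hQ ε hε d N hN hnzd x' Xt hXt p hp y hy
  rw [← hyt1]
  have hn' : (ε : A →+* K) (N - (d : A)) = 0 := by
    change ε (N - (d : A)) = 0
    rw [map_sub, hNε, map_natCast, sub_self]
  refine fst_mem_gammaFil2 d (ε : A →+* K) (N - (d : A)) hn'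
    (gamma_sub_eq_zero hA.lam_one_eq_zero N d hN) x' hx' yt hytS (p - d) ?_
  intro N'
  apply Jn_of_prod_mul (Sum.inl)
  rw [hyt2 N']
  apply gamma_mem_of_one
  exact Jn_anti hd (Ideal.mul_mem_left _ _ (prod_one_sub_mem_Jn d N'))

omit [LambdaOps K] [LambdaOps A] [Algebra K A] in
lemma gamma_xhat2_mem {ι : Type} (d N' : ℕ) (s : ι) (k : ℕ) :
    gamma k (xhat2 (K := K) d N' s) ∈ Jn k := by
  rw [gamma_xhat2]
  apply Ideal.sum_mem
  intro t ht
  have hc : t.card = k := (Finset.mem_powersetCard.mp ht).2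
  have := Jn_prod_mem (K := K) t
    (fun a => (X (Sum.inr (s, a)) - 1 : MvPolynomial (Fin d ⊕ ι × Fin N') K)) (fun _ => 1)
    (fun a _ => X_sub_one_mem _)
  simpa [hc] using this

include hKb hA hP hQ hε in
/-- for `x ∈ Fil^i`, `γ^(d+i)(x · λ_{-1}(N)) / λ_{-1}(N) ≡ (-1)^(d+i-1) (d+i-1)! x` modulo
`Fil^(i+1)` -/
theorem quotient_sub_mem_fil (d : ℕ) (hd : 1 ≤ d) (N : A)
    (hN : ∀ k : ℕ, d < k → LambdaOps.lam k N = 0) (hNε : ε N = (d : K))
    (hnzd : lamNeg d N ∈ nonZeroDivisors A) (i : ℕ) (x : A)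
    (hx : x ∈ gammaFil (ε : A →+* K) i) (y : A)
    (hy : y * lamNeg d N = gamma (d + i) (x * lamNeg d N)) :
    y - (-1 : A) ^ (d + i - 1) * ((d + i - 1).factorial : A) * x ∈
      gammaFil (ε : A →+* K) (i + 1) := by
  classical
  -- representation of `x`
  have hcl := mem_closure_GenK ε i x hx
  obtain ⟨L, hL, hLsum⟩ := AddSubmonoid.exists_list_of_mem_closure hcl
  have hdata : ∀ t : Fin L.length, ∃ (c : K) (l : List (ℕ × A)), (∀ p ∈ l, ε p.2 = 0) ∧
      i ≤ (l.map Prod.fst).sum ∧ L[t.1] = c • (l.map fun p => gamma p.1 p.2).prod :=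
    fun t => hL (L[t.1]) (List.getElem_mem _)
  choose c l h1 h2 h3 using hdata
  let ι := Σ t : Fin L.length, Fin (l t).length
  let z : ι → A := fun q => ((l q.1)[q.2.1]).2
  have hz : ∀ q, ε (z q) = 0 := fun q => h1 q.1 _ (List.getElem_mem _)
  have hsp : IsSpecial (DR2 K A d ι) := isSpecial_DR2 d hA
  have hla : IsLambdaAlg K (DR2 K A d ι) := isLambdaAlg_DR2 d hKb hε.isLambdaAlg
  set ξ := ξ2 (K := K) d (N - (d : A)) z with hξ
  let Xt : DR2 K A d ι := ∑ t : Fin L.length,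
    c t • ∏ s : Fin (l t).length, gamma ((l t)[s.1]).1 (ξ (some ⟨t, s⟩))
  have hXt : Xt ∈ Adj K ξ := by
    apply Subalgebra.sum_mem
    intro t _
    apply Subalgebra.smul_mem
    apply Subalgebra.prod_mem
    intro s _
    exact gamma_mem_Adj ξ hsp hla hP hQ _ (gen_mem ξ _) _
  have hXt1 : Xt.1 = x := by
    rw [← hLsum]
    have e0 : L.sum = ∑ t : Fin L.length, L[t.1] := by
      have := Fin.sum_univ_fun_getElem L id
      rw [List.map_id] at this
      exact this.symm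
    rw [e0, Prod.fst_sum]
    apply Finset.sum_congr rfl
    intro t _
    rw [h3 t, Prod.smul_fst, Prod.fst_prod]
    congr 1
    rw [← Fin.prod_univ_fun_getElem (l t) fun p => gamma p.1 p.2]
    apply Finset.prod_congr rfl
    intro s _
    rw [gamma_fst]
    rfl
  have hXt2 : ∀ N' : ℕ, Xt.2 N' ∈ Jn i := by
    intro N'
    have e : Xt.2 N' = ∑ t : Fin L.length, c t • ∏ s : Fin (l t).length,
        gamma ((l t)[s.1]).1 (xhat2 (K := K) d N' (⟨t, s⟩ : ι)) := by
      rw [Prod.snd_sum, Finset.sum_apply]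
      apply Finset.sum_congr rfl
      intro t _
      rw [Prod.smul_snd, Pi.smul_apply, Prod.snd_prod, Finset.prod_apply]
      congr 1
      apply Finset.prod_congr rfl
      intro s _
      rw [gamma_snd, gamma_apply]
      rfl
    rw [e]
    apply Ideal.sum_mem
    intro t _
    rw [Algebra.smul_def]
    apply Ideal.mul_mem_left
    have := Jn_prod_mem (K := K) (Finset.univ : Finset (Fin (l t).length))
      (fun s => gamma ((l t)[s.1]).1 (xhat2 (K := K) d N' (⟨t, s⟩ : ι)))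
      (fun s => ((l t)[s.1]).1) (fun s _ => gamma_xhat2_mem d N' _ _)
    refine Jn_anti ?_ this
    rw [Fin.sum_univ_fun_getElem (l t) Prod.fst]
    exact h2 t
  have hpos : 1 ≤ d + i := by omega
  rw [← hXt1] at hy ⊢
  obtain ⟨yt, hytS, hyt1, hyt2⟩ := div_transfer hKb hA hP hQ ε hε d N hN hnzd z Xt hXt (d + i) hpos
    y hy
  have hs : sInt (d + i) (d + i) = (-1) ^ (d + i - 1) * ((d + i - 1).factorial : ℤ) :=
    sInt_self (d + i) hpos
  let f : DR2 K A d ι := yt - sInt (d + i) (d + i) • Xt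
  have hf : f ∈ Adj K ξ := Subalgebra.sub_mem _ hytS (Subalgebra.zsmul_mem _ hXt _)
  have hf1 : f.1 = y - (-1 : A) ^ (d + i - 1) * ((d + i - 1).factorial : A) * Xt.1 := by
    have e1 : f.1 = yt.1 - sInt (d + i) (d + i) • Xt.1 := rfl
    rw [e1, hyt1, zsmul_eq_mul, hs]
    push_cast
    ring
  rw [← hf1]
  have hn' : (ε : A →+* K) (N - (d : A)) = 0 := by
    change ε (N - (d : A)) = 0
    rw [map_sub, hNε, map_natCast, sub_self]
  refine fst_mem_gammaFil2 d (ε : A →+* K) (N - (d : A)) hn'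
    (gamma_sub_eq_zero hA.lam_one_eq_zero N d hN) z hz f hf (i + 1) ?_
  intro N'
  have e : f.2 N' = yt.2 N' - sInt (d + i) (d + i) • Xt.2 N' := rfl
  rw [e]
  have hmem : Xt.2 N' * ∏ a : Fin d, (1 - X (Sum.inl a)) ∈ Jn (d + i) := by
    rw [add_comm]
    exact Jn_mul (hXt2 N') (prod_one_sub_mem_Jn d N')
  have key : (∏ a : Fin d, (1 - X (Sum.inl a))) * (yt.2 N' - sInt (d + i) (d + i) • Xt.2 N') ∈
      Jn (d + i + 1) := by
    rw [mul_sub, hyt2 N', mul_smul_comm, mul_comm (∏ a : Fin d, (1 - X (Sum.inl a))) (Xt.2 N')]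
    exact TF.gamma_sub_mem hpos hmem (d + i) hpos
  have := Jn_of_prod_mul (Sum.inl) key
  have e2 : d + i + 1 - d = i + 1 := by omega
  rwa [e2] at this

end final

end Groth.Agent.Lib.Helper20.GDiv
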