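import Groth.Agent.Lib.Helper20.GammaMain
import Groth.Agent.S8651

/-!
# Helper library (helper20): `γ^i` of an element of augmentation zero lies in the `i`-th step of
any multiplicative filtration containing the `γ^j` of the generators
-/

set_option autoImplicit false
universe u v w

open Finset

namespace Groth.Agent.Lib.Helper20.GK

open LambdaRing MvPolynomial Groth.Agent.Lib.Helper20.Sym Groth.Agent.Lib.Helper20.TR
  Groth.Agent.Lib.Helper20.TF Groth.Agent.Lib.Helper20.TFam Groth.Agent.Lib.Helper20.DL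
  Groth.Agent.Lib.Helper20.GF Groth.Agent.Lib.Helper20.GD Groth.Agent.Lib.Helper20.LR
  Groth.Agent.Lib.Helper20.GM

section series
variable {R : Type*} [CommRing R]

/-- chain rule for the logarithmic derivative -/
lemma ld_subst {f s : PowerSeries R} (hf : PowerSeries.constantCoeff f = 1)
    (hs : PowerSeries.HasSubst s) (hc : PowerSeries.constantCoeff (f.subst s) = 1) :
    ld (f.subst s) = (ld f).subst s * PowerSeries.derivative R s := by
  apply ld_eq_of_mul hc
  rw [PowerSeries.derivative_subst hs, deriv_eq_mul_ld hf, PowerSeries.subst_mul hs, mul_assoc]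

end series

section pre
variable {R : Type u} [CommRing R] [LambdaOps R]

/-- the logarithmic derivative of the γ-series -/
noncomputable def Dg (z : R) : PowerSeries R := ld (gammaSeries z)

lemma constantCoeff_gammaSeries (z : R) : PowerSeries.constantCoeff (gammaSeries z) = 1 := by
  rw [← PowerSeries.coeff_zero_eq_constantCoeff_apply, coeff_gammaSeries, gamma_zero_left]

lemma Dg_eq (z : R) :
    Dg z = (ld (lamSeries z)).subst (sSer R) * PowerSeries.derivative R (sSer R) := by
  unfold Dg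
  have h := constantCoeff_gammaSeries z
  rw [gammaSeries_eq_subst] at h ⊢
  exact ld_subst (LR.constantCoeff_lamSeries z) hasSubst_sSer h

lemma Dg_add (z w : R) : Dg (z + w) = Dg z + Dg w := by
  unfold Dg
  rw [gammaSeries_add, ld_mul (constantCoeff_gammaSeries z) (constantCoeff_gammaSeries w)]

lemma Dg_zero : Dg (0 : R) = 0 := by
  unfold Dg
  rw [gammaSeries_zero, ld_one]

lemma Dg_sum {κ : Type*} (s : Finset κ) (f : κ → R) : Dg (∑ i ∈ s, f i) = ∑ i ∈ s, Dg (f i) := by
  classical
  induction s using Finset.induction_on with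
  | empty => simp [Dg_zero]
  | insert a s ha ih => rw [Finset.sum_insert ha, Finset.sum_insert ha, Dg_add, ih]

/-- Newton's identity for the γ-operations -/
lemma gamma_newton (z : R) (n : ℕ) :
    ((n + 1 : ℕ) : R) * gamma (n + 1) z =
      ∑ p ∈ antidiagonal n, gamma p.1 z * PowerSeries.coeff p.2 (Dg z) := by
  have h := congrArg (PowerSeries.coeff n) (deriv_eq_mul_ld (constantCoeff_gammaSeries z))
  rw [PowerSeries.coeff_derivative, PowerSeries.coeff_mul, coeff_gammaSeries] at h
  have e : gamma (n + 1) z * ((n : R) + 1) = ((n + 1 : ℕ) : R) * gamma (n + 1) z := by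
    push_cast; ring
  rw [← e, h]
  apply Finset.sum_congr rfl
  intro p _
  rw [coeff_gammaSeries]
  rfl

end pre

section maps
variable {A : Type v} {B : Type w} [CommRing A] [CommRing B] [LambdaOps A] [LambdaOps B]

lemma map_gamma' (f : A →+* B) (hf : ∀ (n : ℕ) (a : A), f (LambdaOps.lam n a) = LambdaOps.lam n (f a))
    (k : ℕ) (x : A) : f (gamma k x) = gamma k (f x) := by
  unfold gamma
  by_cases hk : k = 0
  · rw [if_pos hk, if_pos hk, map_one]
  · rw [if_neg hk, if_neg hk, map_sum]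
    apply Finset.sum_congr rfl
    intro j _
    rw [map_mul, map_natCast]
    by_cases hj : j = 0
    · rw [if_pos hj, if_pos hj, map_zero]
    · rw [if_neg hj, if_neg hj, hf]

end maps

section test
variable {σ : Type*} {K : Type u} [CommRing K] [BinomialRing K]

lemma coeff_ld_lam (z : MvPolynomial σ K) (k : ℕ) :
    PowerSeries.coeff k (ld (lamSeries z)) = (-1) ^ k * MvPolynomial.expand (k + 1) z := by
  have h : adamsOp (k + 1) z = (-1) ^ k * PowerSeries.coeff k (ld (lamSeries z)) := rfl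
  rw [adamsOp_eq_expand] at h
  rw [h, ← mul_assoc, ← mul_pow]
  simp

lemma ld_lam_smul (c : K) (z : MvPolynomial σ K) :
    ld (lamSeries (c • z)) = (MvPolynomial.C c : MvPolynomial σ K) • ld (lamSeries z) := by
  refine PowerSeries.ext fun k => ?_
  rw [PowerSeries.coeff_smul, coeff_ld_lam, coeff_ld_lam, map_smul, Algebra.smul_def,
    MvPolynomial.algebraMap_eq, smul_eq_mul]
  ring

lemma Dg_smul (c : K) (z : MvPolynomial σ K) :
    Dg (c • z) = (MvPolynomial.C c : MvPolynomial σ K) • Dg z := by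
  rw [Dg_eq, Dg_eq, ld_lam_smul, PowerSeries.subst_smul hasSubst_sSer, smul_mul_assoc]

lemma coeff_Dg_line (m : σ →₀ ℕ) (k : ℕ) :
    PowerSeries.coeff k (Dg (MvPolynomial.monomial m (1 : K) - 1)) =
      (-1) ^ k * (MvPolynomial.monomial m (1 : K) - 1) ^ (k + 1) := by
  unfold Dg
  rw [Groth.Agent.S8651.gammaSeries_sub_one_of_line_like (fun j hj => lam_one' j hj) _
    (fun j hj => lam_monomial m j hj), ld_lin, PowerSeries.coeff_mk]

omit [BinomialRing K] in
lemma constantCoeff_sh (z : MvPolynomial σ K) :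
    constantCoeff (sh z) = aeval (fun _ : σ => (1 : K)) z := by
  have h := MvPolynomial.aeval_zero (S₁ := K) (sh z)
  rw [Algebra.algebraMap_self_apply] at h
  rw [← h]
  unfold sh
  rw [MvPolynomial.comp_aeval_apply]
  refine congrArg (fun f => aeval f z) ?_
  funext i
  simp

omit [BinomialRing K] in
lemma aeval_one_eq_sum (z : MvPolynomial σ K) :
    aeval (fun _ : σ => (1 : K)) z = ∑ m ∈ z.support, MvPolynomial.coeff m z := by
  conv_lhs => rw [← MvPolynomial.support_sum_monomial_coeff z, map_sum]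
  apply Finset.sum_congr rfl
  intro m _
  rw [MvPolynomial.aeval_monomial]
  simp

omit [BinomialRing K] in
lemma mem_Jn_one_iff (z : MvPolynomial σ K) :
    z ∈ Jn 1 ↔ ∑ m ∈ z.support, MvPolynomial.coeff m z = 0 := by
  rw [← aeval_one_eq_sum, ← constantCoeff_sh, mem_Jn, pow_one]
  constructor
  · intro h
    have h' : sh z ∈ idealOfVars σ K ^ 1 := by rwa [pow_one]
    rw [mem_pow_idealOfVars_iff'] at h'
    have := h' 0 (by simp)
    rw [MvPolynomial.constantCoeff_eq]
    exact this
  · exact mem_idealOfVars_of_constantCoeff _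

omit [BinomialRing K] in
lemma eq_sum_of_mem_Jn_one {z : MvPolynomial σ K} (hz : z ∈ Jn 1) :
    z = ∑ m ∈ z.support, MvPolynomial.coeff m z • (MvPolynomial.monomial m (1 : K) - 1) := by
  have h0 := (mem_Jn_one_iff z).mp hz
  simp only [smul_sub, Finset.sum_sub_distrib, ← Finset.sum_smul, h0, zero_smul, sub_zero,
    MvPolynomial.smul_monomial, smul_eq_mul, mul_one]
  exact (MvPolynomial.support_sum_monomial_coeff z).symm

omit [BinomialRing K] in
lemma monomial_sub_one_mem (m : σ →₀ ℕ) : (MvPolynomial.monomial m (1 : K) - 1) ∈ Jn 1 := by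
  rw [mem_Jn, pow_one]
  apply mem_idealOfVars_of_constantCoeff
  have h1 : sh (1 : MvPolynomial σ K) = 1 := map_one _
  have h2 : constantCoeff (1 : MvPolynomial σ K) = 1 := map_one _
  rw [map_sub, h1, map_sub, h2, constantCoeff_sh, MvPolynomial.aeval_monomial]
  simp

lemma coeff_Dg_mem {z : MvPolynomial σ K} (hz : z ∈ Jn 1) (k : ℕ) :
    PowerSeries.coeff k (Dg z) ∈ Jn (k + 1) := by
  rw [eq_sum_of_mem_Jn_one hz, Dg_sum, map_sum]
  apply Ideal.sum_mem
  intro m _
  rw [Dg_smul, PowerSeries.coeff_smul, coeff_Dg_line, smul_eq_mul]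
  apply Ideal.mul_mem_left
  apply Ideal.mul_mem_left
  have := Jn_prod_mem (Finset.range (k + 1)) (fun _ => MvPolynomial.monomial m (1 : K) - 1)
    (fun _ => 1) (fun _ _ => monomial_sub_one_mem m)
  simpa using this

/-- in the test ring, `γ^i` of an element of the augmentation ideal lies in its `i`-th power -/
theorem gamma_mem_of_one {z : MvPolynomial σ K} (hz : z ∈ Jn 1) (i : ℕ) : gamma i z ∈ Jn i := by
  induction i using Nat.strong_induction_on with
  | _ i ih =>
    rcases i with _ | n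
    · rw [Jn_zero]; trivial
    · apply Jn_saturated (Nat.succ_ne_zero n)
      rw [gamma_newton]
      apply Ideal.sum_mem
      rintro ⟨a, b⟩ hp
      have hab : a + b = n := mem_antidiagonal.mp hp
      have h1 := ih a (by omega)
      have h2 : PowerSeries.coeff b (Dg z) ∈ Jn (b + 1) := coeff_Dg_mem hz b
      exact Jn_anti (by omega) (Jn_mul h1 h2)

end test

section filt
variable {K : Type u} {A : Type v} [CommRing K] [CommRing A] [Algebra K A]
  (I : ℕ → Ideal A) (hI0 : I 0 = ⊤) (hIanti : ∀ a b, a ≤ b → I b ≤ I a)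
  (hImul : ∀ a b (u v : A), u ∈ I a → v ∈ I b → u * v ∈ I (a + b))

include hI0 hImul in
lemma I_pow_mem {x : A} {w : ℕ} (h : x ∈ I w) (k : ℕ) : x ^ k ∈ I (k * w) := by
  induction k with
  | zero => rw [pow_zero, Nat.zero_mul, hI0]; trivial
  | succ k ih => rw [pow_succ, Nat.succ_mul]; exact hImul _ _ _ _ ih h

include hI0 hImul in
lemma I_prod_mem {κ : Type*} (s : Finset κ) (f : κ → A) (w : κ → ℕ)
    (h : ∀ i ∈ s, f i ∈ I (w i)) : ∏ i ∈ s, f i ∈ I (∑ i ∈ s, w i) := by
  classical
  induction s using Finset.induction_on with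
  | empty => rw [Finset.prod_empty, Finset.sum_empty, hI0]; trivial
  | insert a s ha ih =>
    rw [Finset.prod_insert ha, Finset.sum_insert ha]
    exact hImul _ _ _ _ (h a (mem_insert_self a s)) (ih fun i hi => h i (mem_insert_of_mem hi))

include hI0 hIanti hImul in
/-- a polynomial of weight `≥ w` in elements `g t ∈ I (wt t)` lies in `I w` -/
lemma aeval_mem_of_weight {τ : Type*} (g : τ → A) (wt : τ → ℕ) (hg : ∀ t, g t ∈ I (wt t)) (w : ℕ)
    (G : MvPolynomial τ K) (hG : ∀ d ∈ G.support, w ≤ Finsupp.weight wt d) :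
    aeval g G ∈ I w := by
  rw [G.as_sum, map_sum]
  apply Ideal.sum_mem
  intro d hd
  rw [aeval_monomial]
  apply Ideal.mul_mem_left
  apply hIanti _ _ (hG d hd)
  rw [Finsupp.prod, Finsupp.weight_apply, Finsupp.sum]
  apply I_prod_mem I hI0 hImul
  intro i _
  rw [smul_eq_mul]
  exact I_pow_mem I hI0 hImul (hg i) _

end filt

section diag
variable {K : Type u} [CommRing K] [LambdaOps K] [BinomialRing K]
  {A : Type v} [CommRing A] [LambdaOps A] [Algebra K A]
  {ι : Type} [Finite ι]

/-- transfer, polynomial form -/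
theorem exists_poly (x : ι → A)
    (f : DR K A ι) (hf : f ∈ Adj K (GD.ξ (K := K) x)) (w : ℕ) (hw : ∀ N, f.2 N ∈ Jn w) :
    ∃ (N : ℕ) (G : MvPolynomial (ι × Fin N) K),
      f.1 = aeval (fun p : ι × Fin N => gamma ((p.2 : ℕ) + 1) (x p.1)) G ∧
        ∀ d ∈ G.support, w ≤ Finsupp.weight (fun p : ι × Fin N => (p.2 : ℕ) + 1) d := by
  classical
  obtain ⟨G, hG⟩ := exists_rep (GD.ξ (K := K) x) f hf
  -- bound the variables
  let N : ℕ := (G.vars.image Prod.snd).sup id + 1
  have hN : ∀ p ∈ G.vars, p.2 < N := by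
    intro p hp
    have : p.2 ≤ (G.vars.image Prod.snd).sup id :=
      Finset.le_sup (f := id) (Finset.mem_image_of_mem Prod.snd hp)
    omega
  let emb : ι × Fin N → ι × ℕ := fun p => (p.1, (p.2 : ℕ))
  have hemb : Function.Injective emb := by
    rintro ⟨s, j⟩ ⟨s', j'⟩ h
    simp only [emb, Prod.mk.injEq] at h
    exact Prod.ext h.1 (Fin.ext h.2)
  obtain ⟨G', hG'⟩ := exists_rename_eq_of_vars_subset_range G emb hemb (by
    intro p hp
    exact ⟨(p.1, ⟨p.2, hN p hp⟩), rfl⟩)
  rw [← hG', aeval_rename] at hG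
  -- the two components
  have h1 : f.1 = aeval (fun p : ι × Fin N => gamma ((p.2 : ℕ) + 1) (x p.1)) G' := by
    rw [hG]
    have e1 : (aeval ((fun p : ι × ℕ => gamma (p.2 + 1) (GD.ξ (K := K) x p.1)) ∘ emb) G').1 =
        (AlgHom.fst K A (∀ N : ℕ, MvPolynomial (ι × Fin N) K))
          (aeval ((fun p : ι × ℕ => gamma (p.2 + 1) (GD.ξ (K := K) x p.1)) ∘ emb) G') := rfl
    rw [e1, comp_aeval_apply]
    refine congrArg (fun f => aeval f G') ?_
    funext p
    simp only [Function.comp_apply, AlgHom.fst_apply, emb]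
    rw [gamma_fst]
    rfl
  have h2 : f.2 N = aeval (fun p : ι × Fin N => gamma ((p.2 : ℕ) + 1) (xhat (K := K) N p.1)) G' := by
    rw [hG]
    have e1 : (aeval ((fun p : ι × ℕ => gamma (p.2 + 1) (GD.ξ (K := K) x p.1)) ∘ emb) G').2 N =
        ((Pi.evalAlgHom K (fun N : ℕ => MvPolynomial (ι × Fin N) K) N).comp
          (AlgHom.snd K A (∀ N : ℕ, MvPolynomial (ι × Fin N) K)))
          (aeval ((fun p : ι × ℕ => gamma (p.2 + 1) (GD.ξ (K := K) x p.1)) ∘ emb) G') := rfl
    rw [e1, comp_aeval_apply]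
    refine congrArg (fun f => aeval f G') ?_
    funext p
    simp only [Function.comp_apply, AlgHom.coe_comp, AlgHom.snd_apply, Pi.evalAlgHom_apply, emb]
    rw [gamma_snd, gamma_apply]
    rfl
  refine ⟨N, G', h1, ?_⟩
  apply weight_of_mem_Jn N w G'
  rw [← h2]
  exact hw N

end diag

section key
variable {K : Type u} [CommRing K] [LambdaOps K] [BinomialRing K]
  {A : Type v} [CommRing A] [LambdaOps A] [Algebra K A]
  (hKb : IsBinomial K) (hA : IsSpecial A)
  (hP : ∀ n : ℕ, ∃ P : MvPolynomial (Fin n ⊕ Fin n) ℤ, IsMulPoly n P)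
  (hQ : ∀ i j : ℕ, ∃ Q : MvPolynomial (Fin (i * j)) ℤ, IsCompPoly i j Q)
  (ε : A →ₐ[K] K) (hε : IsAugLambdaAlg K A ε)

include hKb hA hP hQ hε in
/-- the key theorem: if `I` is a multiplicative filtration with `γ^j(y_s) ∈ I_j`, then
`γ^i(z) ∈ I_i` for every `z` of augmentation zero in the sub-λ-algebra generated by the `y_s` -/
theorem key {ι : Type} [Finite ι] (y : ι → A) (hy : ∀ s, ε (y s) = 0)
    (I : ℕ → Ideal A) (hI0 : I 0 = ⊤) (hIanti : ∀ a b, a ≤ b → I b ≤ I a)
    (hImul : ∀ a b (u v : A), u ∈ I a → v ∈ I b → u * v ∈ I (a + b))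
    (hyI : ∀ s j, gamma (j + 1) (y s) ∈ I (j + 1))
    (z : A) (hz : z ∈ Adj K y) (hεz : ε z = 0) (i : ℕ) : gamma i z ∈ I i := by
  classical
  obtain ⟨F, hF⟩ := exists_rep y z hz
  have hεγ : ∀ p : ι × ℕ, ε (gamma (p.2 + 1) (y p.1)) = 0 := by
    intro p
    have h := map_gamma' (ε : A →+* K) (fun n a => hε.map_lam n a) (p.2 + 1) (y p.1)
    have h0 : (ε : A →+* K) (y p.1) = 0 := hy p.1
    rw [h0, gamma_zero_right (by omega)] at h
    exact h
  have hF0 : constantCoeff F = 0 := by
    have h := hεz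
    rw [hF, MvPolynomial.comp_aeval_apply] at h
    have e : (fun p : ι × ℕ => ε (gamma (p.2 + 1) (y p.1))) = fun _ => 0 := funext hεγ
    rw [e, aeval_zero'] at h
    exact h
  have hsp : IsSpecial (DR K A ι) := isSpecial_DR hA
  have hla : IsLambdaAlg K (DR K A ι) := isLambdaAlg_DR hKb hε.isLambdaAlg
  set ξ' := GD.ξ (K := K) y with hξ
  let zh : DR K A ι := aeval (fun p : ι × ℕ => gamma (p.2 + 1) (ξ' p.1)) F
  have hzh : zh ∈ Adj K ξ' := by
    have : zh ∈ Algebra.adjoin K (Set.range fun p : ι × ℕ => gamma (p.2 + 1) (ξ' p.1)) := by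
      rw [Algebra.adjoin_range_eq_range_aeval]
      exact ⟨F, rfl⟩
    rw [Adj_eq_Adjγ]
    exact this
  have h1 : zh.1 = z := by
    rw [hF]
    have e1 : zh.1 = (AlgHom.fst K A (∀ N : ℕ, MvPolynomial (ι × Fin N) K)) zh := rfl
    rw [e1, comp_aeval_apply]
    refine congrArg (fun f => aeval f F) ?_
    funext p
    simp only [AlgHom.fst_apply]
    rw [gamma_fst]
    rfl
  have h2 : ∀ N, zh.2 N = aeval (fun p : ι × ℕ => gamma (p.2 + 1) (xhat (K := K) N p.1)) F := by
    intro N
    have e1 : zh.2 N = ((Pi.evalAlgHom K (fun N : ℕ => MvPolynomial (ι × Fin N) K) N).comp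
        (AlgHom.snd K A (∀ N : ℕ, MvPolynomial (ι × Fin N) K))) zh := rfl
    rw [e1, comp_aeval_apply]
    refine congrArg (fun f => aeval f F) ?_
    funext p
    simp only [AlgHom.coe_comp, Function.comp_apply, AlgHom.snd_apply, Pi.evalAlgHom_apply]
    rw [gamma_snd, gamma_apply]
    rfl
  have h2mem : ∀ N, zh.2 N ∈ Jn 1 := by
    intro N
    rw [h2]
    have hFmem : F ∈ idealOfVars (ι × ℕ) K := mem_idealOfVars_of_constantCoeff F hF0
    have hle : idealOfVars (ι × ℕ) K ≤ Ideal.comap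
        (aeval (fun p : ι × ℕ => gamma (p.2 + 1) (xhat (K := K) N p.1)) :
          MvPolynomial (ι × ℕ) K →ₐ[K] MvPolynomial (ι × Fin N) K) (Jn 1) := by
      rw [Ideal.span_le]
      rintro _ ⟨p, rfl⟩
      change aeval _ (X p) ∈ Jn 1
      rw [aeval_X]
      exact Jn_anti (by omega) (gamma_xhat_mem N p.1 (p.2 + 1))
    exact hle hFmem
  have hg : gamma i zh ∈ Adj K ξ' := gamma_mem_Adj ξ' hsp hla hP hQ _ hzh _
  obtain ⟨N, G, hG1, hG2⟩ := exists_poly y (gamma i zh) hg i (by
    intro N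
    rw [gamma_snd, gamma_apply]
    exact gamma_mem_of_one (h2mem N) i)
  rw [gamma_fst, h1] at hG1
  rw [hG1]
  exact aeval_mem_of_weight I hI0 hIanti hImul _ (fun p : ι × Fin N => (p.2 : ℕ) + 1)
    (fun p => hyI p.1 p.2) i G hG2

end key

end Groth.Agent.Lib.Helper20.GK
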