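import Groth.Agent.Lib.Helper20.GammaDiag

/-!
# Helper library (helper20): the γ-operations on the graded pieces of the γ-filtration of an
augmented `K`-λ-algebra
-/

set_option autoImplicit false
universe u v

open Finset

namespace Groth.Agent.Lib.Helper20.GM

open LambdaRing MvPolynomial Groth.Agent.Lib.Helper20.TR Groth.Agent.Lib.Helper20.TF
  Groth.Agent.Lib.Helper20.TFam Groth.Agent.Lib.Helper20.DL Groth.Agent.Lib.Helper20.GF
  Groth.Agent.Lib.Helper20.GD Groth.Agent.Lib.Helper20.LR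

section test
variable {ι : Type v} {K : Type u} [CommRing K] [BinomialRing K] (N : ℕ)

lemma gamma_xhat_mem (s : ι) (i : ℕ) : gamma i (xhat (K := K) N s) ∈ Jn i := by
  rw [mem_Jn, sh_gamma_xhat]
  apply Ideal.sum_mem
  intro t ht
  have hc : t.card = i := (Finset.mem_powersetCard.mp ht).2
  have : ∏ a ∈ t, (X (s, a) : MvPolynomial (ι × Fin N) K) ∈
      ∏ _a ∈ t, idealOfVars (ι × Fin N) K := by
    apply Ideal.prod_mem_prod
    intro a _
    exact Ideal.subset_span ⟨(s, a), rfl⟩
  rwa [Finset.prod_const, hc] at this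

omit [BinomialRing K] in
lemma Jn_prod_mem {σ κ : Type*} (S : Finset κ) (f : κ → MvPolynomial σ K) (w : κ → ℕ)
    (h : ∀ i ∈ S, f i ∈ Jn (w i)) : ∏ i ∈ S, f i ∈ Jn (∑ i ∈ S, w i) := by
  classical
  induction S using Finset.induction_on with
  | empty => rw [Finset.prod_empty, Finset.sum_empty, Jn_zero]; trivial
  | insert a S ha ih =>
    rw [Finset.prod_insert ha, Finset.sum_insert ha]
    exact Jn_mul (h a (mem_insert_self a S)) (ih fun i hi => h i (mem_insert_of_mem hi))

end test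

section main
variable {K : Type u} [CommRing K] [LambdaOps K] [BinomialRing K]
  {A : Type v} [CommRing A] [LambdaOps A] [Algebra K A]
  (hKb : IsBinomial K) (hA : IsSpecial A)
  (hP : ∀ n : ℕ, ∃ P : MvPolynomial (Fin n ⊕ Fin n) ℤ, IsMulPoly n P)
  (hQ : ∀ i j : ℕ, ∃ Q : MvPolynomial (Fin (i * j)) ℤ, IsCompPoly i j Q)
  (ε : A →ₐ[K] K) (hε : IsAugLambdaAlg K A ε)

include hKb hA hP hQ hε in
/-- the generator lemma -/
theorem gen_fam {r : ℕ} (x : Fin r → A) (hx : ∀ s, ε (x s) = 0) (i : Fin r → ℕ) (c : K)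
    (k : ℕ) (hk : 1 ≤ k) (W : ℕ) (hW : W = ∑ s, i s) (hW1 : 1 ≤ W) :
    gamma k (c • ∏ s, gamma (i s) (x s)) ∈ gammaFil (ε : A →+* K) W ∧
      gamma k (c • ∏ s, gamma (i s) (x s)) - sInt W k • (c • ∏ s, gamma (i s) (x s)) ∈
        gammaFil (ε : A →+* K) (W + 1) := by
  have hsp : IsSpecial (DR K A (Fin r)) := isSpecial_DR hA
  have hla : IsLambdaAlg K (DR K A (Fin r)) := isLambdaAlg_DR hKb hε.isLambdaAlg
  set ξ' := GD.ξ (K := K) x with hξ
  -- the generic product
  have hg : ∏ s, gamma (i s) (ξ' s) ∈ Adj K ξ' := by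
    apply Subalgebra.prod_mem
    intro s _
    exact gamma_mem_Adj ξ' hsp hla hP hQ _ (gen_mem ξ' s) _
  have hcg : c • ∏ s, gamma (i s) (ξ' s) ∈ Adj K ξ' := Subalgebra.smul_mem _ hg c
  have hf1 : gamma k (c • ∏ s, gamma (i s) (ξ' s)) ∈ Adj K ξ' :=
    gamma_mem_Adj ξ' hsp hla hP hQ _ hcg _
  have hf2 : gamma k (c • ∏ s, gamma (i s) (ξ' s)) - sInt W k • (c • ∏ s, gamma (i s) (ξ' s)) ∈
      Adj K ξ' := Subalgebra.sub_mem _ hf1 (Subalgebra.zsmul_mem _ hcg _)
  -- components
  have e1 : (c • ∏ s, gamma (i s) (ξ' s)).1 = c • ∏ s, gamma (i s) (x s) := by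
    rw [Prod.smul_fst, Prod.fst_prod]
    congr 1
    apply Finset.prod_congr rfl
    intro s _
    rw [gamma_fst]
    rfl
  have e2 : ∀ N, (c • ∏ s, gamma (i s) (ξ' s)).2 N = c • ∏ s, gamma (i s) (xhat (K := K) N s) := by
    intro N
    rw [Prod.smul_snd, Pi.smul_apply, Prod.snd_prod, Finset.prod_apply]
    congr 1
    apply Finset.prod_congr rfl
    intro s _
    rw [gamma_snd, gamma_apply]
    rfl
  have hJ : ∀ N, c • ∏ s, gamma (i s) (xhat (K := K) N s) ∈ Jn W := by
    intro N
    rw [Algebra.smul_def, hW]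
    apply Ideal.mul_mem_left
    exact Jn_prod_mem _ _ _ fun s _ => gamma_xhat_mem N s (i s)
  constructor
  · have := fst_mem_gammaFil (ε : A →+* K) x hx _ hf1 W (by
      intro N
      rw [gamma_snd, gamma_apply, e2]
      exact TF.gamma_mem (hJ N) k hk)
    rwa [gamma_fst, e1] at this
  · have := fst_mem_gammaFil (ε : A →+* K) x hx _ hf2 (W + 1) (by
      intro N
      have e3 : (sInt W k • (c • ∏ s, gamma (i s) (ξ' s))).2 N =
          sInt W k • ((c • ∏ s, gamma (i s) (ξ' s)).2 N) := rfl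
      rw [Prod.snd_sub, Pi.sub_apply, e3, gamma_snd, gamma_apply, e2]
      exact TF.gamma_sub_mem hW1 (hJ N) k hk)
    have e4 : (sInt W k • (c • ∏ s, gamma (i s) (ξ' s))).1 =
        sInt W k • ((c • ∏ s, gamma (i s) (ξ' s)).1) := rfl
    rwa [Prod.fst_sub, e4, gamma_fst, e1] at this

/-- the `K`-multiples of the generators of `Fil^m` -/
def GenK (m : ℕ) : Set A :=
  {y | ∃ (c : K) (l : List (ℕ × A)), (∀ p ∈ l, ε p.2 = 0) ∧ m ≤ (l.map Prod.fst).sum ∧
    y = c • (l.map fun p => gamma p.1 p.2).prod}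

omit [LambdaOps K] [BinomialRing K] in
lemma GenK_subset (m : ℕ) : GenK ε m ⊆ gammaFil (ε : A →+* K) m := by
  rintro y ⟨c, l, h1, h2, rfl⟩
  rw [Algebra.smul_def]
  apply Ideal.mul_mem_left
  exact Ideal.subset_span ⟨l, h1, h2, rfl⟩

omit [LambdaOps K] [BinomialRing K] in
lemma mem_closure_GenK (m : ℕ) (z : A) (hz : z ∈ gammaFil (ε : A →+* K) m) :
    z ∈ AddSubmonoid.closure (GenK ε m) := by
  have hmul : ∀ (a y : A), y ∈ AddSubmonoid.closure (GenK ε m) →
      a * y ∈ AddSubmonoid.closure (GenK ε m) := by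
    intro a y hy
    induction hy using AddSubmonoid.closure_induction with
    | mem y hy =>
      obtain ⟨c, l, h1, h2, rfl⟩ := hy
      have e : a * c • (l.map fun p => gamma p.1 p.2).prod =
          (ε a * c) • (l.map fun p => gamma p.1 p.2).prod +
            c • (((1, a - algebraMap K A (ε a)) :: l).map fun p => gamma p.1 p.2).prod := by
        rw [List.map_cons, List.prod_cons, gamma_one_left]
        simp only [Algebra.smul_def, map_mul]
        ring
      rw [e]
      apply AddSubmonoid.add_mem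
      · exact AddSubmonoid.subset_closure ⟨_, l, h1, h2, rfl⟩
      · apply AddSubmonoid.subset_closure
        refine ⟨c, _, ?_, ?_, rfl⟩
        · intro p hp
          rcases List.mem_cons.mp hp with rfl | hp
          · change ε (a - algebraMap K A (ε a)) = 0
            rw [map_sub, AlgHom.commutes]
            simp
          · exact h1 p hp
        · rw [List.map_cons, List.sum_cons]
          omega
    | zero => rw [mul_zero]; exact AddSubmonoid.zero_mem _
    | add x y _ _ hx hy => rw [mul_add]; exact AddSubmonoid.add_mem _ hx hy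
  unfold gammaFil at hz
  induction hz using Submodule.span_induction with
  | mem y hy =>
    obtain ⟨l, h1, h2, rfl⟩ := hy
    apply AddSubmonoid.subset_closure
    exact ⟨1, l, h1, h2, by rw [one_smul]⟩
  | zero => exact AddSubmonoid.zero_mem _
  | add x y _ _ hx hy => exact AddSubmonoid.add_mem _ hx hy
  | smul a y _ hy => exact hmul a y hy

include hKb hA hP hQ hε in
/-- `Fil^m` is stable under the `γ^k`, `k ≥ 1`, which act on `Fil^m / Fil^(m+1)` by `sInt m k` -/
theorem gamma_fil (m : ℕ) (hm : 1 ≤ m) (z : A) (hz : z ∈ gammaFil (ε : A →+* K) m) :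
    ∀ k : ℕ, 1 ≤ k → gamma k z ∈ gammaFil (ε : A →+* K) m ∧
      gamma k z - sInt m k • z ∈ gammaFil (ε : A →+* K) (m + 1) := by
  have hcl := mem_closure_GenK ε m z hz
  induction hcl using AddSubmonoid.closure_induction with
  | mem y hy =>
    intro k hk
    obtain ⟨c, l, h1, h2, rfl⟩ := hy
    have hprod : (l.map fun p => gamma p.1 p.2).prod =
        ∏ s : Fin l.length, gamma (l[s.1]).1 (l[s.1]).2 :=
      (Fin.prod_univ_fun_getElem l fun p => gamma p.1 p.2).symm
    have hsum : (l.map Prod.fst).sum = ∑ s : Fin l.length, (l[s.1]).1 :=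
      (Fin.sum_univ_fun_getElem l Prod.fst).symm
    have hW1 : 1 ≤ (l.map Prod.fst).sum := le_trans hm h2
    have := gen_fam hKb hA hP hQ ε hε (fun s : Fin l.length => (l[s.1]).2)
      (fun s => h1 _ (List.getElem_mem _)) (fun s : Fin l.length => (l[s.1]).1) c k hk
      (l.map Prod.fst).sum hsum hW1
    rw [← hprod] at this
    obtain ⟨t1, t2⟩ := this
    refine ⟨gammaFil_anti _ h2 t1, ?_⟩
    rcases h2.eq_or_lt with heq | hlt
    · rw [heq]; exact t2
    · have h3 : c • (l.map fun p => gamma p.1 p.2).prod ∈ gammaFil (ε : A →+* K) (m + 1) :=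
        gammaFil_anti _ hlt (GenK_subset ε _ ⟨c, l, h1, le_refl _, rfl⟩)
      apply Ideal.sub_mem _ (gammaFil_anti _ hlt t1)
      rw [zsmul_eq_mul]
      exact Ideal.mul_mem_left _ _ h3
  | zero =>
    intro k hk
    rw [gamma_zero_right hk, smul_zero, sub_zero]
    exact ⟨Ideal.zero_mem _, Ideal.zero_mem _⟩
  | add u v hu hv ihu ihv =>
    have hu' : u ∈ gammaFil (ε : A →+* K) m :=
      (AddSubmonoid.closure_le (S := (gammaFil (ε : A →+* K) m).toAddSubmonoid)).mpr
        (GenK_subset ε m) hu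
    have hv' : v ∈ gammaFil (ε : A →+* K) m :=
      (AddSubmonoid.closure_le (S := (gammaFil (ε : A →+* K) m).toAddSubmonoid)).mpr
        (GenK_subset ε m) hv
    intro k hk
    obtain ⟨k', rfl⟩ : ∃ k', k = k' + 1 := ⟨k - 1, by omega⟩
    rw [gamma_add, Finset.sum_range_succ', Finset.sum_range_succ]
    simp only [Nat.sub_zero, gamma_zero_left, one_mul, Nat.sub_self, mul_one]
    have hmid : ∑ j ∈ range k', gamma (j + 1) u * gamma (k' + 1 - (j + 1)) v ∈
        gammaFil (ε : A →+* K) (m + 1) := by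
      apply Ideal.sum_mem
      intro j hj
      have hj' := Finset.mem_range.mp hj
      have := gammaFil_mul (ε : A →+* K) (ihu hu' (j + 1) (by omega)).1
        (ihv hv' (k' + 1 - (j + 1)) (by omega)).1
      exact gammaFil_anti _ (by omega) this
    constructor
    · apply Ideal.add_mem _ (Ideal.add_mem _ _ (ihu hu' _ hk).1) (ihv hv' _ hk).1
      exact gammaFil_anti _ (Nat.le_succ m) hmid
    · have e : ∑ j ∈ range k', gamma (j + 1) u * gamma (k' + 1 - (j + 1)) v + gamma (k' + 1) u +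
          gamma (k' + 1) v - sInt m (k' + 1) • (u + v) =
          ∑ j ∈ range k', gamma (j + 1) u * gamma (k' + 1 - (j + 1)) v +
            (gamma (k' + 1) u - sInt m (k' + 1) • u) + (gamma (k' + 1) v - sInt m (k' + 1) • v) := by
        rw [smul_add]; ring
      rw [e]
      exact Ideal.add_mem _ (Ideal.add_mem _ hmid (ihu hu' _ hk).2) (ihv hv' _ hk).2

end main

end Groth.Agent.Lib.Helper20.GM
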