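import Mathlib

namespace Groth.Agent.Lib.Helper20.HomPrimeAvoid

open Finset DirectSum

variable {R S : Type*} [CommRing R] [CommRing S] [Algebra R S]
variable (𝒜 : ℕ → Submodule R S) [GradedAlgebra 𝒜]

theorem single (I : HomogeneousIdeal 𝒜) (hI : I ≤ HomogeneousIdeal.irrelevant 𝒜)
    (P : Ideal S) (h : ¬ I.toIdeal ≤ P) :
    ∃ x : S, ∃ d : ℕ, 0 < d ∧ x ∈ 𝒜 d ∧ x ∈ I.toIdeal ∧ x ∉ P := by
  classical
  obtain ⟨y, hyI, hyP⟩ := SetLike.not_le_iff_exists.1 h
  have hy0 : (decompose 𝒜 y 0 : S) = 0 := by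
    have := hI (HomogeneousIdeal.mem_iff.1 hyI)
    rw [HomogeneousIdeal.mem_irrelevant_iff, GradedRing.proj_apply] at this
    exact this
  have hex : ∃ d, (decompose 𝒜 y d : S) ∉ P := by
    by_contra hall
    push_neg at hall
    apply hyP
    rw [← DirectSum.sum_support_decompose 𝒜 y]
    exact Ideal.sum_mem _ fun d _ => hall d
  obtain ⟨d, hd⟩ := hex
  refine ⟨(decompose 𝒜 y d : S), d, ?_, SetLike.coe_mem _, I.isHomogeneous d hyI, hd⟩
  rcases Nat.eq_zero_or_pos d with h0 | h0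
  · exfalso
    apply hd
    rw [h0, hy0]
    exact P.zero_mem
  · exact h0

theorem avoid {ι : Type*} [DecidableEq ι] (p : ι → Ideal S) (I : HomogeneousIdeal 𝒜)
    (hI : I ≤ HomogeneousIdeal.irrelevant 𝒜) :
    ∀ (n : ℕ) (s : Finset ι), s.card = n → (∀ i ∈ s, (p i).IsPrime) →
      (∀ i ∈ s, ¬ I.toIdeal ≤ p i) →
      ∃ x : S, ∃ d : ℕ, 0 < d ∧ x ∈ 𝒜 d ∧ x ∈ I.toIdeal ∧ ∀ i ∈ s, x ∉ p i := by
  intro n
  induction n with
  | zero =>
    intro s hs _ _
    rw [Finset.card_eq_zero] at hs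
    subst hs
    exact ⟨0, 1, Nat.one_pos, Submodule.zero_mem _, Ideal.zero_mem _, fun i hi => by simp at hi⟩
  | succ n ih =>
    intro s hs hprime hnot
    have hx : ∀ i ∈ s, ∃ x : S, ∃ d : ℕ, 0 < d ∧ x ∈ 𝒜 d ∧ x ∈ I.toIdeal ∧
        ∀ j ∈ s.erase i, x ∉ p j := fun i hi =>
      ih (s.erase i) (by rw [Finset.card_erase_of_mem hi, hs]; rfl)
        (fun j hj => hprime j (Finset.mem_of_mem_erase hj))
        (fun j hj => hnot j (Finset.mem_of_mem_erase hj))
    choose! x d hd hxd hxI hxp using hx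
    by_cases hex : ∃ i ∈ s, x i ∉ p i
    · obtain ⟨i, hi, hxi⟩ := hex
      refine ⟨x i, d i, hd i hi, hxd i hi, hxI i hi, fun j hj => ?_⟩
      by_cases hji : j = i
      · rw [hji]
        exact hxi
      · exact hxp i hi j (Finset.mem_erase.2 ⟨hji, hj⟩)
    · push_neg at hex
      obtain ⟨a, ha⟩ : s.Nonempty := Finset.card_pos.1 (by omega)
      rcases (s.erase a).eq_empty_or_nonempty with ht | ht
      · obtain ⟨y, e, he, hye, hyI, hyP⟩ := single 𝒜 I hI (p a) (hnot a ha)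
        refine ⟨y, e, he, hye, hyI, fun j hj => ?_⟩
        have hja : j = a := by
          by_contra h
          have : j ∈ s.erase a := Finset.mem_erase.2 ⟨h, hj⟩
          rw [ht] at this
          simp at this
        rw [hja]
        exact hyP
      · have hD : 0 < ∑ j ∈ s.erase a, d j :=
          Finset.sum_pos (fun j hj => hd j (Finset.mem_of_mem_erase hj)) ht
        have hyD : ∏ j ∈ s.erase a, x j ∈ 𝒜 (∑ j ∈ s.erase a, d j) :=
          SetLike.prod_mem_graded 𝒜 d x fun j hj => hxd j (Finset.mem_of_mem_erase hj)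
        obtain ⟨j0, hj0⟩ := ht
        have hyI : ∏ j ∈ s.erase a, x j ∈ I.toIdeal :=
          Ideal.prod_mem _ hj0 (hxI j0 (Finset.mem_of_mem_erase hj0))
        have hnotpa : ∏ j ∈ s.erase a, x j ∉ p a := by
          haveI := hprime a ha
          rw [Ideal.IsPrime.prod_mem_iff]
          rintro ⟨j, hj, hxj⟩
          have hja : j ≠ a := (Finset.mem_erase.1 hj).1
          exact hxp j (Finset.mem_of_mem_erase hj) a (Finset.mem_erase.2 ⟨hja.symm, ha⟩) hxj
        refine ⟨x a ^ (∑ j ∈ s.erase a, d j) + (∏ j ∈ s.erase a, x j) ^ (d a),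
          d a * ∑ j ∈ s.erase a, d j, Nat.mul_pos (hd a ha) hD, ?_, ?_, ?_⟩
        · refine Submodule.add_mem _ ?_ ?_
          · have := SetLike.pow_mem_graded (∑ j ∈ s.erase a, d j) (hxd a ha)
            rw [smul_eq_mul, mul_comm] at this
            exact this
          · have := SetLike.pow_mem_graded (d a) hyD
            rw [smul_eq_mul] at this
            exact this
        · exact Ideal.add_mem _ (Ideal.pow_mem_of_mem _ (hxI a ha) _ hD)
            (Ideal.pow_mem_of_mem _ hyI _ (hd a ha))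
        · intro j hj hz
          by_cases hja : j = a
          · rw [hja] at hz
            have h1 : x a ^ (∑ j ∈ s.erase a, d j) ∈ p a :=
              Ideal.pow_mem_of_mem _ (hex a ha) _ hD
            have h2 : (∏ j ∈ s.erase a, x j) ^ (d a) ∈ p a :=
              (Ideal.add_mem_iff_right _ h1).1 hz
            exact hnotpa ((hprime a ha).mem_of_pow_mem _ h2)
          · have hjt : j ∈ s.erase a := Finset.mem_erase.2 ⟨hja, hj⟩
            have h1 : ∏ j ∈ s.erase a, x j ∈ p j := Ideal.prod_mem _ hjt (hex j hj)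
            have h2 : (∏ j ∈ s.erase a, x j) ^ (d a) ∈ p j :=
              Ideal.pow_mem_of_mem _ h1 _ (hd a ha)
            have h3 : x a ^ (∑ j ∈ s.erase a, d j) ∈ p j :=
              (Ideal.add_mem_iff_left _ h2).1 hz
            exact hxp a ha j hjt ((hprime j hj).mem_of_pow_mem _ h3)

theorem result' {r : ℕ} (p : Fin r → HomogeneousIdeal 𝒜) (hp : ∀ i, (p i).toIdeal.IsPrime)
    (I : HomogeneousIdeal 𝒜) (hI : I ≤ HomogeneousIdeal.irrelevant 𝒜) (h : ∀ i, ¬ I ≤ p i) :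
    ∃ x : S, ∃ d : ℕ, 0 < d ∧ x ∈ 𝒜 d ∧ x ∈ I ∧ ∀ i, x ∉ p i := by
  obtain ⟨x, d, hd, hxd, hxI, hxp⟩ := avoid 𝒜 (fun i => (p i).toIdeal) I hI r Finset.univ
    (by simp) (fun i _ => hp i)
    (fun i _ hle => h i (_root_.toIdeal_le_toIdeal_iff.1 hle))
  exact ⟨x, d, hd, hxd, HomogeneousIdeal.mem_iff.1 hxI, fun i hi =>
    hxp i (Finset.mem_univ i) (HomogeneousIdeal.mem_iff.2 hi)⟩

end Groth.Agent.Lib.Helper20.HomPrimeAvoid
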