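import Mathlib
import Groth.Prelude.Def_W4c2ratsingkovacsGH
import Groth.Agent.Lib.Helper20.HomPrimeAvoid

/-!
# Geometric height: homogeneous sequences cutting down the charts of `Proj`

The primes of `A_(f)` correspond to the homogeneous primes of `A` not containing `f`
(Mathlib's `ProjIsoSpecTopComponent`), compatibly with `W4c2ratsingkovacs.locIdeal`.
-/

set_option autoImplicit false

namespace Groth.Agent.Lib.Helper20.GeomHt

open W4c2ratsingkovacs AlgebraicGeometry DirectSum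
open AlgebraicGeometry.ProjIsoSpecTopComponent

universe u v
variable {R : Type u} {A : Type v} [CommRing R] [CommRing A] [Algebra R A]
variable {𝒜 : ℕ → Submodule R A} [GradedRing 𝒜]

theorem locIdeal_mono {I I' : Ideal A} (h : I ≤ I') (f : A) :
    locIdeal 𝒜 I f ≤ locIdeal 𝒜 I' f :=
  Ideal.comap_mono (Ideal.map_mono h)

theorem mk_mem_locIdeal {f : A} {I : Ideal A}
    (z : HomogeneousLocalization.NumDenSameDeg 𝒜 (.powers f)) (h : z.num.1 ∈ I) :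
    HomogeneousLocalization.mk z ∈ locIdeal 𝒜 I f := by
  rw [locIdeal, Ideal.mem_comap, HomogeneousLocalization.algebraMap_apply,
    HomogeneousLocalization.val_mk, Localization.mk_eq_mk', IsLocalization.mk'_eq_mul_mk'_one]
  exact Ideal.mul_mem_right _ _ (Ideal.mem_map_of_mem _ h)

theorem locIdeal_isPrime {f : A} {𝔭 : Ideal A} [h𝔭 : 𝔭.IsPrime] (hf : f ∉ 𝔭) :
    (locIdeal 𝒜 𝔭 f).IsPrime := by
  refine Ideal.IsPrime.comap _ (hK := ?_)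
  exact IsLocalization.isPrime_of_isPrime_disjoint (Submonoid.powers f) _ _ h𝔭
    ((Ideal.disjoint_powers_iff_notMem_of_isPrime _).mpr hf)

theorem locIdeal_ne_top {f : A} {J : Ideal A} (hfJ : f ∉ J.radical) : locIdeal 𝒜 J f ≠ ⊤ := by
  intro h
  have h1 : (1 : HomogeneousLocalization.Away 𝒜 f) ∈ locIdeal 𝒜 J f := h ▸ Submodule.mem_top
  rw [locIdeal, Ideal.mem_comap, map_one] at h1
  have h2 : J.map (algebraMap A (Localization.Away f)) = ⊤ := (Ideal.eq_top_iff_one _).2 h1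
  have h3 := (IsLocalization.map_algebraMap_ne_top_iff_disjoint (Submonoid.powers f)
    (Localization.Away f) J).not.1 (not_not.2 h2)
  rw [Set.not_disjoint_iff] at h3
  obtain ⟨x, ⟨k, rfl⟩, hxJ⟩ := h3
  exact hfJ ⟨k, hxJ⟩

theorem isHomogeneous_of_mem_minimalPrimes {I 𝔭 : Ideal A} (hI : I.IsHomogeneous 𝒜)
    (h : 𝔭 ∈ I.minimalPrimes) : 𝔭.IsHomogeneous 𝒜 := by
  have : 𝔭.IsPrime := h.1.1
  have hc : (𝔭.homogeneousCore 𝒜).toIdeal.IsPrime := Ideal.IsPrime.homogeneousCore this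
  have hIc : I ≤ (𝔭.homogeneousCore 𝒜).toIdeal := by
    rw [← hI.toIdeal_homogeneousCore_eq_self]
    exact Ideal.homogeneousCore_mono 𝒜 h.1.2
  have := h.2 ⟨hc, hIc⟩ (Ideal.toIdeal_homogeneousCore_le 𝒜 𝔭)
  rw [Ideal.IsHomogeneous.iff_eq]
  exact le_antisymm (Ideal.toIdeal_homogeneousCore_le 𝒜 𝔭) this

section chart

variable {f : A} {n : ℕ} (f_deg : f ∈ 𝒜 n) (hn : 0 < n)

/-- the homogeneous prime of `A` attached to a prime of `A_(f)` -/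
noncomputable def P (Q : PrimeSpectrum (HomogeneousLocalization.Away 𝒜 f)) : Ideal A :=
  FromSpec.carrier.asIdeal f_deg hn Q

theorem P_isPrime (Q : PrimeSpectrum (HomogeneousLocalization.Away 𝒜 f)) :
    (P f_deg hn Q).IsPrime := FromSpec.carrier.asIdeal.prime f_deg hn Q

theorem P_homog (Q : PrimeSpectrum (HomogeneousLocalization.Away 𝒜 f)) :
    (P f_deg hn Q).IsHomogeneous 𝒜 := FromSpec.carrier.asIdeal.homogeneous f_deg hn Q

theorem f_notMem_P (Q : PrimeSpectrum (HomogeneousLocalization.Away 𝒜 f)) :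
    f ∉ P f_deg hn Q := FromSpec.carrier.denom_notMem f_deg hn Q

theorem locIdeal_P (Q : PrimeSpectrum (HomogeneousLocalization.Away 𝒜 f)) :
    locIdeal 𝒜 (P f_deg hn Q) f = Q.asIdeal :=
  congrArg PrimeSpectrum.asIdeal (toSpec_fromSpec 𝒜 f_deg hn Q)

theorem P_mono {Q Q' : PrimeSpectrum (HomogeneousLocalization.Away 𝒜 f)}
    (h : Q.asIdeal ≤ Q'.asIdeal) : P f_deg hn Q ≤ P f_deg hn Q' := fun a ha =>
  show a ∈ FromSpec.carrier f_deg Q' from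
    fun i => h ((show a ∈ FromSpec.carrier f_deg Q from ha) i)

/-- `z ^ n / f ^ d` for `z` of degree `d` -/
noncomputable def frac (z : A) (d : ℕ) (hz : z ∈ 𝒜 d) : HomogeneousLocalization.Away 𝒜 f :=
  HomogeneousLocalization.mk ⟨n * d, ⟨z ^ n, SetLike.pow_mem_graded n hz⟩,
    ⟨f ^ d, by rw [mul_comm]; exact SetLike.pow_mem_graded d f_deg⟩, ⟨_, rfl⟩⟩

theorem mem_P_iff (Q : PrimeSpectrum (HomogeneousLocalization.Away 𝒜 f)) {z : A} {d : ℕ}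
    (hz : z ∈ 𝒜 d) : z ∈ P f_deg hn Q ↔ frac f_deg z d hz ∈ Q.asIdeal :=
  FromSpec.mem_carrier_iff_of_mem f_deg hn Q z hz

include hn in
theorem frac_mem_locIdeal {I : Ideal A} {z : A} {d : ℕ} (hz : z ∈ 𝒜 d) (hzI : z ∈ I) :
    frac f_deg z d hz ∈ locIdeal 𝒜 I f :=
  mk_mem_locIdeal _ (I.pow_mem_of_mem hzI n hn)

theorem le_P_of_locIdeal_le {I : Ideal A} (hI : I.IsHomogeneous 𝒜)
    (Q : PrimeSpectrum (HomogeneousLocalization.Away 𝒜 f))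
    (h : locIdeal 𝒜 I f ≤ Q.asIdeal) : I ≤ P f_deg hn Q := by
  intro a ha
  show a ∈ FromSpec.carrier f_deg Q
  intro i
  apply h
  apply mk_mem_locIdeal
  exact I.pow_mem_of_mem (hI i ha) n hn

theorem P_locIdeal {𝔭 : Ideal A} [h𝔭 : 𝔭.IsPrime] (h𝔭h : 𝔭.IsHomogeneous 𝒜) (hf : f ∉ 𝔭) :
    P f_deg hn ⟨locIdeal 𝒜 𝔭 f, locIdeal_isPrime hf⟩ = 𝔭 := by
  have hrel : ¬ HomogeneousIdeal.irrelevant 𝒜 ≤ (⟨𝔭, h𝔭h⟩ : HomogeneousIdeal 𝒜) := fun h =>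
    hf (h (HomogeneousIdeal.mem_irrelevant_of_mem 𝒜 hn f_deg))
  let x : ProjectiveSpectrum 𝒜 := ⟨⟨𝔭, h𝔭h⟩, h𝔭, hrel⟩
  have := fromSpec_toSpec 𝒜 f_deg hn ⟨x, hf⟩
  exact congrArg (fun y => y.1.asHomogeneousIdeal.toIdeal) this

theorem height_le_height_P (Q : PrimeSpectrum (HomogeneousLocalization.Away 𝒜 f)) :
    Q.asIdeal.height ≤ (P f_deg hn Q).height := by
  let g : PrimeSpectrum (HomogeneousLocalization.Away 𝒜 f) → PrimeSpectrum A :=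
    fun Q => ⟨P f_deg hn Q, P_isPrime f_deg hn Q⟩
  have hg : StrictMono g := by
    intro Q Q' hlt
    refine lt_of_le_of_ne ?_ ?_
    · exact P_mono f_deg hn hlt.le
    · intro heq
      have h1 : P f_deg hn Q = P f_deg hn Q' := congrArg PrimeSpectrum.asIdeal heq
      have h2 : Q.asIdeal = Q'.asIdeal := by
        rw [← locIdeal_P f_deg hn Q, ← locIdeal_P f_deg hn Q', h1]
      exact hlt.ne (PrimeSpectrum.ext h2)
  have := Order.height_le_height_apply_of_strictMono g hg Q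
  rwa [← PrimeSpectrum.height_eq_orderHeight, ← PrimeSpectrum.height_eq_orderHeight] at this

theorem P_mem_minimalPrimes {I : Ideal A} (hI : I.IsHomogeneous 𝒜)
    (Q : PrimeSpectrum (HomogeneousLocalization.Away 𝒜 f))
    (hQ : Q.asIdeal ∈ (locIdeal 𝒜 I f).minimalPrimes) :
    P f_deg hn Q ∈ I.minimalPrimes := by
  refine ⟨⟨P_isPrime f_deg hn Q, le_P_of_locIdeal_le f_deg hn hI Q hQ.1.2⟩, ?_⟩
  rintro 𝔮 ⟨h𝔮, hI𝔮⟩ h𝔮P
  have h𝔠p : (𝔮.homogeneousCore 𝒜).toIdeal.IsPrime := h𝔮.homogeneousCore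
  have h𝔠h : (𝔮.homogeneousCore 𝒜).toIdeal.IsHomogeneous 𝒜 := (𝔮.homogeneousCore 𝒜).isHomogeneous
  have h𝔠𝔮 : (𝔮.homogeneousCore 𝒜).toIdeal ≤ 𝔮 := Ideal.toIdeal_homogeneousCore_le 𝒜 𝔮
  have hI𝔠 : I ≤ (𝔮.homogeneousCore 𝒜).toIdeal := by
    rw [← hI.toIdeal_homogeneousCore_eq_self]
    exact Ideal.homogeneousCore_mono 𝒜 hI𝔮
  have hf𝔠 : f ∉ (𝔮.homogeneousCore 𝒜).toIdeal := fun h =>
    f_notMem_P f_deg hn Q (h𝔮P (h𝔠𝔮 h))
  have h1 : locIdeal 𝒜 I f ≤ locIdeal 𝒜 (𝔮.homogeneousCore 𝒜).toIdeal f := locIdeal_mono hI𝔠 f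
  have h2 : locIdeal 𝒜 (𝔮.homogeneousCore 𝒜).toIdeal f ≤ Q.asIdeal := by
    rw [← locIdeal_P f_deg hn Q]
    exact locIdeal_mono (h𝔠𝔮.trans h𝔮P) f
  have h3 : Q.asIdeal ≤ locIdeal 𝒜 (𝔮.homogeneousCore 𝒜).toIdeal f :=
    hQ.2 ⟨locIdeal_isPrime hf𝔠, h1⟩ h2
  calc P f_deg hn Q
      ≤ P f_deg hn ⟨locIdeal 𝒜 (𝔮.homogeneousCore 𝒜).toIdeal f, locIdeal_isPrime hf𝔠⟩ :=
        P_mono f_deg hn h3
    _ = (𝔮.homogeneousCore 𝒜).toIdeal := P_locIdeal f_deg hn h𝔠h hf𝔠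
    _ ≤ 𝔮 := h𝔠𝔮

include f_deg hn in
theorem locIdeal_mem_minimalPrimes {I 𝔭 : Ideal A} (hI : I.IsHomogeneous 𝒜)
    (h𝔭 : 𝔭 ∈ I.minimalPrimes) (hf : f ∉ 𝔭) :
    locIdeal 𝒜 𝔭 f ∈ (locIdeal 𝒜 I f).minimalPrimes := by
  have : 𝔭.IsPrime := h𝔭.1.1
  have h𝔭h := isHomogeneous_of_mem_minimalPrimes hI h𝔭
  refine ⟨⟨locIdeal_isPrime hf, locIdeal_mono h𝔭.1.2 f⟩, ?_⟩
  rintro Q' ⟨hQ'p, hQ'I⟩ hQ'𝔭
  have h1 : I ≤ P f_deg hn ⟨Q', hQ'p⟩ := le_P_of_locIdeal_le f_deg hn hI ⟨Q', hQ'p⟩ hQ'I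
  have h2 : P f_deg hn ⟨Q', hQ'p⟩ ≤ 𝔭 := by
    calc P f_deg hn ⟨Q', hQ'p⟩ ≤ P f_deg hn ⟨locIdeal 𝒜 𝔭 f, locIdeal_isPrime hf⟩ :=
          P_mono f_deg hn hQ'𝔭
      _ = 𝔭 := P_locIdeal f_deg hn h𝔭h hf
  have h3 : 𝔭 ≤ P f_deg hn ⟨Q', hQ'p⟩ := h𝔭.2 ⟨P_isPrime f_deg hn ⟨Q', hQ'p⟩, h1⟩ h2
  calc locIdeal 𝒜 𝔭 f ≤ locIdeal 𝒜 (P f_deg hn ⟨Q', hQ'p⟩) f := locIdeal_mono h3 f
    _ = Q' := locIdeal_P f_deg hn ⟨Q', hQ'p⟩

include f_deg hn in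
theorem height_le_length [IsNoetherianRing A] (zs : List A)
    (hzs : ∀ z ∈ zs, SetLike.IsHomogeneousElem 𝒜 z)
    (Q : PrimeSpectrum (HomogeneousLocalization.Away 𝒜 f))
    (hQ : Q.asIdeal ∈ (locIdeal 𝒜 (Ideal.ofList zs) f).minimalPrimes) :
    Q.asIdeal.height ≤ zs.length := by
  classical
  have hI : (Ideal.ofList zs).IsHomogeneous 𝒜 := Ideal.homogeneous_span 𝒜 _ (fun z hz => hzs z hz)
  have h1 := P_mem_minimalPrimes f_deg hn hI Q hQ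
  have h2 : (P f_deg hn Q).height ≤ zs.toFinset.card := by
    apply Ideal.height_le_card_of_mem_minimalPrimes_span_finset
    convert h1 using 2
    congr 1
    ext x
    simp
  calc Q.asIdeal.height ≤ (P f_deg hn Q).height := height_le_height_P f_deg hn Q
    _ ≤ zs.toFinset.card := h2
    _ ≤ zs.length := by exact_mod_cast List.toFinset_card_le zs

end chart

end Groth.Agent.Lib.Helper20.GeomHt
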