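import Mathlib
import Groth.Agent.Lib.Helper20.GeomHt

set_option autoImplicit false

namespace Groth.Agent.Lib.Helper20.GeomHt

open W4c2ratsingkovacs AlgebraicGeometry DirectSum

universe u v
variable {R : Type u} {A : Type v} [CommRing R] [CommRing A] [Algebra R A]
variable (𝒜 : ℕ → Submodule R A) [GradedRing 𝒜]

theorem geomHeight_ofList_nil {f : A} {J : Ideal A} (hfJ : f ∉ J.radical) :
    geomHeight 𝒜 (Ideal.ofList ([] : List A)) f = 0 := by
  have hne := locIdeal_ne_top (𝒜 := 𝒜) hfJ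
  haveI : Nontrivial (HomogeneousLocalization.Away 𝒜 f) := by
    by_contra hnt
    rw [not_nontrivial_iff_subsingleton] at hnt
    exact hne (Subsingleton.elim _ _)
  have hbot : locIdeal 𝒜 (⊥ : Ideal A) f = ⊥ := by
    rw [locIdeal, Ideal.map_bot, ← RingHom.ker_eq_comap_bot]
    exact (RingHom.injective_iff_ker_eq_bot _).1
      (HomogeneousLocalization.val_injective (𝒜 := 𝒜) (x := Submonoid.powers f))
  show (locIdeal 𝒜 (Ideal.ofList ([] : List A)) f).height = 0
  rw [Ideal.ofList_nil, hbot, Ideal.height_bot]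

theorem main [IsNoetherianRing A] (J : Ideal A) (hJ : J.IsHomogeneous 𝒜) (h : ℕ)
    (hJh : HasUniformGeomHeight 𝒜 J h) (Pf : Finset (Ideal A))
    (hP : ∀ q ∈ Pf, q.IsPrime ∧ ¬ J ≤ q ∧ ¬ (HomogeneousIdeal.irrelevant 𝒜).toIdeal ≤ q) :
    ∀ j : ℕ, j ≤ h → ∃ zs : List A, zs.length = j ∧
      (∀ z ∈ zs, (∃ n : ℕ, 0 < n ∧ z ∈ 𝒜 n) ∧ z ∈ J ∧ ∀ q ∈ Pf, z ∉ q) ∧
      ∀ (f : A) (n : ℕ), 0 < n → f ∈ 𝒜 n → f ∉ J.radical →
        ∀ i : ℕ, i ≤ j → geomHeight 𝒜 (Ideal.ofList (zs.take i)) f = i := by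
  classical
  intro j
  induction j with
  | zero =>
    intro _
    refine ⟨[], rfl, by simp, ?_⟩
    intro f n hn f_deg hfJ i hi
    obtain rfl : i = 0 := by omega
    simpa using geomHeight_ofList_nil 𝒜 hfJ
  | succ j ih =>
    intro hj
    obtain ⟨zs, hlen, hzs, hht⟩ := ih (by omega)
    have hzsh : ∀ z ∈ zs, SetLike.IsHomogeneousElem 𝒜 z := fun z hz => by
      obtain ⟨⟨n, -, hzn⟩, -⟩ := hzs z hz
      exact ⟨n, hzn⟩
    have hI : (Ideal.ofList zs).IsHomogeneous 𝒜 := Ideal.homogeneous_span 𝒜 _ (fun z hz => hzsh z hz)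
    have hIJ : Ideal.ofList zs ≤ J := Ideal.span_le.2 fun z hz => (hzs z hz).2.1
    -- the minimal primes of `I` in the charts do not contain `J`
    have hkey : ∀ 𝔭 ∈ (Ideal.ofList zs).minimalPrimes,
        ¬ (HomogeneousIdeal.irrelevant 𝒜).toIdeal ≤ 𝔭 → ¬ J ≤ 𝔭 := by
      intro 𝔭 h𝔭 hirr hJ𝔭
      have h𝔭p : 𝔭.IsPrime := h𝔭.1.1
      obtain ⟨f, d, hd, f_deg, -, hf𝔭⟩ :=
        HomPrimeAvoid.single 𝒜 (HomogeneousIdeal.irrelevant 𝒜) le_rfl 𝔭 hirr
      have hfJ : f ∉ J.radical := fun hf => hf𝔭 ((h𝔭p.radical_le_iff.2 hJ𝔭) hf)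
      have hQ := locIdeal_mem_minimalPrimes f_deg hd hI h𝔭 hf𝔭
      have hQp : (locIdeal 𝒜 𝔭 f).IsPrime := hQ.1.1
      have h1 := height_le_length f_deg hd zs hzsh ⟨locIdeal 𝒜 𝔭 f, hQp⟩ hQ
      have h2 : (locIdeal 𝒜 J f).height = h := hJh f d hd f_deg hfJ
      have h3 : (locIdeal 𝒜 J f).height ≤ (locIdeal 𝒜 𝔭 f).height :=
        Ideal.height_mono (locIdeal_mono hJ𝔭 f)
      rw [h2] at h3
      have h4 : (h : ℕ∞) ≤ zs.length := h3.trans h1
      have : h ≤ zs.length := by exact_mod_cast h4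
      omega
    -- the set of primes to avoid
    have hfin : {𝔭 ∈ (Ideal.ofList zs).minimalPrimes |
        ¬ (HomogeneousIdeal.irrelevant 𝒜).toIdeal ≤ 𝔭}.Finite :=
      (Ideal.finite_minimalPrimes_of_isNoetherianRing A _).subset (Set.sep_subset _ _)
    obtain ⟨z, d, hd, hzd, hzJ, hzav⟩ := HomPrimeAvoid.avoid 𝒜 (id : Ideal A → Ideal A)
      ((⟨J, hJ⟩ : HomogeneousIdeal 𝒜) ⊓ HomogeneousIdeal.irrelevant 𝒜) inf_le_right
      (Pf ∪ hfin.toFinset).card (Pf ∪ hfin.toFinset) rfl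
      (by
        intro 𝔭 h𝔭
        rcases Finset.mem_union.1 h𝔭 with h | h
        · exact (hP 𝔭 h).1
        · exact ((Set.Finite.mem_toFinset hfin).1 h).1.1.1)
      (by
        intro 𝔭 h𝔭 hle
        rw [HomogeneousIdeal.toIdeal_inf] at hle
        rcases Finset.mem_union.1 h𝔭 with h | h
        · have hpr : 𝔭.IsPrime := (hP 𝔭 h).1
          rcases (Ideal.IsPrime.inf_le hpr).1 hle with h' | h'
          · exact (hP 𝔭 h).2.1 h'
          · exact (hP 𝔭 h).2.2 h'
        · have hm := (Set.Finite.mem_toFinset hfin).1 h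
          have hpr : 𝔭.IsPrime := hm.1.1.1
          rcases (Ideal.IsPrime.inf_le hpr).1 hle with h' | h'
          · exact hkey 𝔭 hm.1 hm.2 h'
          · exact hm.2 h')
    rw [HomogeneousIdeal.toIdeal_inf] at hzJ
    have hzJ' : z ∈ J := hzJ.1
    refine ⟨zs ++ [z], by simp [hlen], ?_, ?_⟩
    · intro w hw
      rcases List.mem_append.1 hw with hw | hw
      · exact hzs w hw
      · obtain rfl : w = z := by simpa using hw
        exact ⟨⟨d, hd, hzd⟩, hzJ', fun q hq => hzav q (Finset.mem_union_left _ hq)⟩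
    · intro f n hn f_deg hfJ i hi
      rcases Nat.lt_or_ge i (j + 1) with hlt | hge
      · rw [List.take_append_of_le_length (by omega)]
        exact hht f n hn f_deg hfJ i (by omega)
      obtain rfl : i = j + 1 := by omega
      rw [List.take_of_length_le (by simp [hlen])]
      have hzs'h : ∀ w ∈ zs ++ [z], SetLike.IsHomogeneousElem 𝒜 w := by
        intro w hw
        rcases List.mem_append.1 hw with hw | hw
        · exact hzsh w hw
        · obtain rfl : w = z := by simpa using hw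
          exact ⟨d, hzd⟩
      have hI'J : Ideal.ofList (zs ++ [z]) ≤ J := by
        refine Ideal.span_le.2 fun w hw => ?_
        rcases List.mem_append.1 hw with hw | hw
        · exact (hzs w hw).2.1
        · obtain rfl : w = z := by simpa using hw
          exact hzJ'
      have hII' : Ideal.ofList zs ≤ Ideal.ofList (zs ++ [z]) := by
        rw [Ideal.ofList_append]; exact le_sup_left
      have hzI' : z ∈ Ideal.ofList (zs ++ [z]) := Ideal.subset_span (by simp)
      have hne : locIdeal 𝒜 (Ideal.ofList (zs ++ [z])) f ≠ ⊤ := fun htop =>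
        locIdeal_ne_top (𝒜 := 𝒜) hfJ (top_le_iff.1 (htop ▸ locIdeal_mono hI'J f))
      show (locIdeal 𝒜 (Ideal.ofList (zs ++ [z])) f).height = ((j + 1 : ℕ) : ℕ∞)
      apply le_antisymm
      · obtain ⟨M, hM, hIM⟩ := Ideal.exists_le_maximal _ hne
        have hMp : M.IsPrime := hM.isPrime
        obtain ⟨Q, hQ, -⟩ := Ideal.exists_minimalPrimes_le hIM
        have hQp : Q.IsPrime := hQ.1.1
        have h1 := height_le_length f_deg hn (zs ++ [z]) hzs'h ⟨Q, hQp⟩ hQ
        calc (locIdeal 𝒜 (Ideal.ofList (zs ++ [z])) f).height ≤ Q.height :=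
              Ideal.height_mono hQ.1.2
          _ ≤ ((zs ++ [z]).length : ℕ∞) := h1
          _ = ((j + 1 : ℕ) : ℕ∞) := by simp [hlen]
      · rw [Ideal.height_eq_inf_minimalPrimes]
        refine le_iInf₂ fun Q hQ => ?_
        have hQp : Q.IsPrime := hQ.1.1
        have hIQ : locIdeal 𝒜 (Ideal.ofList zs) f ≤ Q := (locIdeal_mono hII' f).trans hQ.1.2
        obtain ⟨Q', hQ', hQ'Q⟩ := Ideal.exists_minimalPrimes_le hIQ
        have hQ'p : Q'.IsPrime := hQ'.1.1
        have hPm := P_mem_minimalPrimes f_deg hn hI ⟨Q', hQ'p⟩ hQ'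
        have hfP := f_notMem_P f_deg hn ⟨Q', hQ'p⟩
        have hirr : ¬ (HomogeneousIdeal.irrelevant 𝒜).toIdeal ≤ P f_deg hn ⟨Q', hQ'p⟩ := fun hle =>
          hfP (hle (HomogeneousIdeal.mem_irrelevant_of_mem 𝒜 hn f_deg))
        have hzP : z ∉ P f_deg hn ⟨Q', hQ'p⟩ :=
          hzav _ (Finset.mem_union_right _ ((Set.Finite.mem_toFinset hfin).2 ⟨hPm, hirr⟩))
        have hfrac : frac f_deg z d hzd ∉ Q' := fun hmem =>
          hzP ((mem_P_iff f_deg hn ⟨Q', hQ'p⟩ hzd).2 hmem)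
        have hfracQ : frac f_deg z d hzd ∈ Q := hQ.1.2 (frac_mem_locIdeal f_deg hn hzd hzI')
        have hlt : Q' < Q := lt_of_le_of_ne hQ'Q (fun heq => hfrac (heq ▸ hfracQ))
        have h1 : Q'.height + 1 ≤ Q.height := Ideal.height_add_one_le_of_lt_of_isPrime hlt
        have h2 : (locIdeal 𝒜 (Ideal.ofList zs) f).height = (j : ℕ∞) := by
          have := hht f n hn f_deg hfJ j le_rfl
          rwa [List.take_of_length_le (by omega)] at this
        have h3 : (j : ℕ∞) ≤ Q'.height := h2 ▸ Ideal.height_mono hQ'.1.2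
        calc ((j + 1 : ℕ) : ℕ∞) = (j : ℕ∞) + 1 := by push_cast; rfl
          _ ≤ Q'.height + 1 := by gcongr
          _ ≤ Q.height := h1

end Groth.Agent.Lib.Helper20.GeomHt
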