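import Mathlib

/-! Gleason covers: existence and uniqueness of minimal extremally disconnected covers. -/

set_option autoImplicit false

namespace Groth.Agent.Lib.Helper20.Gleason

open Set Function TopologicalSpace Topology

universe u

/-- An endomorphism of an irreducible cover over the base is the identity. -/
theorem eq_id_of_irreducible {E X : Type*} [TopologicalSpace E] [T2Space E]
    (π : E → X) (hsurj : Surjective π)
    (hirr : ∀ E₀ : Set E, IsClosed E₀ → E₀ ≠ univ → π '' E₀ ≠ univ)
    (h : E → E) (hh : Continuous h) (hπh : π ∘ h = π) : h = id := by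
  by_contra hne
  have : ∃ e, h e ≠ e := by
    by_contra hall
    apply hne
    funext e
    by_contra he
    exact hall ⟨e, he⟩
  obtain ⟨e, he⟩ := this
  obtain ⟨U₁, U₂, hU₁, hU₂, h1, h2, hdisj⟩ := t2_separation he
  set U : Set E := U₂ ∩ h ⁻¹' U₁ with hU
  have hUo : IsOpen U := hU₂.inter (hU₁.preimage hh)
  have heU : e ∈ U := ⟨h2, h1⟩
  have hhU : ∀ e' ∈ U, h e' ∉ U := by
    intro e' he' hcontra
    exact Set.disjoint_left.mp hdisj he'.2 hcontra.1
  apply hirr Uᶜ hUo.isClosed_compl
  · intro hcontra
    have : e ∈ Uᶜ := hcontra ▸ mem_univ e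
    exact this heU
  · rw [eq_univ_iff_forall]
    intro x
    obtain ⟨e', rfl⟩ := hsurj x
    by_cases he' : e' ∈ U
    · exact ⟨h e', hhU e' he', congr_fun hπh e'⟩
    · exact ⟨e', he', rfl⟩

/-- discrete copy of a type -/
structure Disc (X : Type u) : Type u where
  val : X

instance (X : Type u) : TopologicalSpace (Disc X) := ⊥
instance (X : Type u) : DiscreteTopology (Disc X) := ⟨rfl⟩

/-- A retract of a projective compact Hausdorff space is projective. -/
theorem projective_of_retract {Z E : Type u} [TopologicalSpace Z] [TopologicalSpace E]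
    (hZ : CompactT2.Projective Z) (i : E → Z) (r : Z → E) (hi : Continuous i) (hr : Continuous r)
    (hri : r ∘ i = id) : CompactT2.Projective E := by
  intro B C _ _ _ _ _ _ f g hf hg hgs
  obtain ⟨h, hh, hgh⟩ := hZ (hf.comp hr) hg hgs
  refine ⟨h ∘ i, hh.comp hi, ?_⟩
  rw [← comp_assoc, hgh, comp_assoc, hri, comp_id]

theorem existence (X : Type u) [TopologicalSpace X] [CompactSpace X] [T2Space X] :
    ∃ (X' : Type u) (_ : TopologicalSpace X') (_ : CompactSpace X') (_ : T2Space X')
        (_ : ExtremallyDisconnected X')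
        (p : X' → X), Continuous p ∧ Function.Surjective p ∧
        ∀ E : Set X', IsClosed E → E ≠ Set.univ → p '' E ≠ Set.univ := by
  have hval : Continuous (Disc.val : Disc X → X) := continuous_of_discreteTopology
  let p₀ : StoneCech (Disc X) → X := stoneCechExtend hval
  have hp₀ : Continuous p₀ := continuous_stoneCechExtend hval
  have hp₀s : Surjective p₀ := fun x => ⟨stoneCechUnit ⟨x⟩, stoneCechExtend_stoneCechUnit hval ⟨x⟩⟩
  obtain ⟨E, hEc, hEim, hEmin⟩ := exists_compact_surjective_zorn_subset hp₀ hp₀s
  let p : E → X := E.domRestrict p₀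
  have hp : Continuous p := hp₀.comp continuous_subtype_val
  have hps : Surjective p := by
    intro x
    have : x ∈ p₀ '' E := hEim ▸ mem_univ x
    obtain ⟨z, hz, rfl⟩ := this
    exact ⟨⟨z, hz⟩, rfl⟩
  have hirr : ∀ E₀ : Set E, IsClosed E₀ → E₀ ≠ univ → p '' E₀ ≠ univ :=
    fun E₀ h1 h2 => hEmin E₀ h2 h1
  -- retraction
  obtain ⟨r, hr, hpr⟩ := (StoneCech.projective (X := Disc X)) hp₀ hp hps
  have hri : r ∘ (Subtype.val : E → StoneCech (Disc X)) = id := by
    apply eq_id_of_irreducible p hps hirr _ (hr.comp continuous_subtype_val)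
    rw [← comp_assoc, hpr]
    rfl
  have hproj : CompactT2.Projective E :=
    projective_of_retract StoneCech.projective Subtype.val r continuous_subtype_val hr hri
  exact ⟨E, inferInstance, hEc, inferInstance, hproj.extremallyDisconnected, p, hp, hps, hirr⟩

theorem uniqueness (X : Type u) [TopologicalSpace X] [CompactSpace X] [T2Space X]
    (X' X'' : Type u) [TopologicalSpace X'] [CompactSpace X'] [T2Space X']
    [ExtremallyDisconnected X']
    [TopologicalSpace X''] [CompactSpace X''] [T2Space X''] [ExtremallyDisconnected X'']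
    (p : X' → X) (q : X'' → X)
    (hp : Continuous p) (hps : Function.Surjective p)
    (hpi : ∀ E : Set X', IsClosed E → E ≠ Set.univ → p '' E ≠ Set.univ)
    (hq : Continuous q) (hqs : Function.Surjective q)
    (hqi : ∀ E : Set X'', IsClosed E → E ≠ Set.univ → q '' E ≠ Set.univ) :
    ∃ h : X' ≃ₜ X'', q ∘ h = p := by
  obtain ⟨h, hh, hqh⟩ := (CompactT2.ExtremallyDisconnected.projective (A := X')) hp hq hqs
  obtain ⟨k, hk, hpk⟩ := (CompactT2.ExtremallyDisconnected.projective (A := X'')) hq hp hps
  have hkh : k ∘ h = id := by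
    apply eq_id_of_irreducible p hps hpi _ (hk.comp hh)
    rw [← comp_assoc, hpk, hqh]
  have hhk : h ∘ k = id := by
    apply eq_id_of_irreducible q hqs hqi _ (hh.comp hk)
    rw [← comp_assoc, hqh, hpk]
  exact ⟨{ toFun := h, invFun := k, left_inv := congr_fun hkh, right_inv := congr_fun hhk,
           continuous_toFun := hh, continuous_invFun := hk }, hqh⟩

end Groth.Agent.Lib.Helper20.Gleason
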