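import Mathlib

namespace Groth.Agent.Lib.Helper20.Glue

universe u v

variable (A : Type u) [CommRing A] (B : Type v) [CommRing B] [Algebra A B]

/-- `b` is locally equal to the function `f` -/
def IsGlue (f : LocallyConstant (PrimeSpectrum B) A) (b : B) : Prop :=
  ∀ y : PrimeSpectrum B, ∃ e : B, e ∉ y.asIdeal ∧ e * (b - algebraMap A B (f y)) = 0

variable {A B}

theorem eq_zero_of_locally {b : B}
    (h : ∀ y : PrimeSpectrum B, ∃ e : B, e ∉ y.asIdeal ∧ e * b = 0) : b = 0 := by
  have hann : (Submodule.span B {b}).annihilator = ⊤ := by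
    by_contra hne
    obtain ⟨m, hm, hJm⟩ := Ideal.exists_le_maximal _ hne
    obtain ⟨e, he, heb⟩ := h ⟨m, hm.isPrime⟩
    apply he
    apply hJm
    rw [Submodule.mem_annihilator_span_singleton, smul_eq_mul]
    exact heb
  have : (1 : B) ∈ (Submodule.span B {b}).annihilator := by
    rw [hann]
    trivial
  rw [Submodule.mem_annihilator_span_singleton, one_smul] at this
  exact this

theorem isGlue_unique {f : LocallyConstant (PrimeSpectrum B) A} {b b' : B}
    (h : IsGlue A B f b) (h' : IsGlue A B f b') : b = b' := by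
  rw [← sub_eq_zero]
  apply eq_zero_of_locally
  intro y
  obtain ⟨e, he, h1⟩ := h y
  obtain ⟨e', he', h2⟩ := h' y
  refine ⟨e * e', y.isPrime.mul_notMem he he', ?_⟩
  have : e * e' * (b - b') = e' * (e * (b - algebraMap A B (f y))) -
      e * (e' * (b' - algebraMap A B (f y))) := by ring
  rw [this, h1, h2]
  ring

theorem exists_isGlue (f : LocallyConstant (PrimeSpectrum B) A) : ∃ b, IsGlue A B f b := by
  have key : ∃ (U : Set (PrimeSpectrum B)) (_ : IsClopen U), Set.univ ⊆ U ∧
      ∃ b : B, ∀ y ∈ U, ∃ e : B, e ∉ y.asIdeal ∧ e * (b - algebraMap A B (f y)) = 0 := by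
    refine isCompact_univ.induction_on
      (p := fun S => ∃ (U : Set (PrimeSpectrum B)) (_ : IsClopen U), S ⊆ U ∧
        ∃ b : B, ∀ y ∈ U, ∃ e : B, e ∉ y.asIdeal ∧ e * (b - algebraMap A B (f y)) = 0) ?_ ?_ ?_ ?_
    · exact ⟨∅, isClopen_empty, subset_rfl, 0, fun y hy => absurd hy (Set.notMem_empty y)⟩
    · rintro S S' hSS' ⟨U, hU, hS'U, hb⟩
      exact ⟨U, hU, hSS'.trans hS'U, hb⟩
    · rintro S S' ⟨U, hU, hSU, b, hb⟩ ⟨V, hV, hSV, b', hb'⟩
      obtain ⟨eU, heU, hUe⟩ := PrimeSpectrum.isClopen_iff.mp hU
      have E : eU * eU = eU := heU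
      refine ⟨U ∪ V, hU.union hV, Set.union_subset_union hSU hSV, eU * b + (1 - eU) * b', ?_⟩
      intro y hy
      by_cases hyU : y ∈ U
      · obtain ⟨e, he, h1⟩ := hb y hyU
        have heUy : eU ∉ y.asIdeal := by
          rw [hUe] at hyU
          exact hyU
        refine ⟨eU * e, y.isPrime.mul_notMem heUy he, ?_⟩
        have : eU * e * (eU * b + (1 - eU) * b' - algebraMap A B (f y)) =
            (eU * eU) * (e * (b - algebraMap A B (f y))) +
              (eU - eU * eU) * (e * (b' - algebraMap A B (f y))) := by ring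
        rw [this, h1, E]
        ring
      · have hyV : y ∈ V := hy.resolve_left hyU
        obtain ⟨e, he, h1⟩ := hb' y hyV
        have heUy : 1 - eU ∉ y.asIdeal := by
          intro h
          apply hyU
          rw [hUe]
          show eU ∉ y.asIdeal
          intro h'
          apply y.isPrime.one_notMem
          have := y.asIdeal.add_mem h h'
          rwa [sub_add_cancel] at this
        refine ⟨(1 - eU) * e, y.isPrime.mul_notMem heUy he, ?_⟩
        have : (1 - eU) * e * (eU * b + (1 - eU) * b' - algebraMap A B (f y)) =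
            (1 - eU) * (e * (b' - algebraMap A B (f y))) +
              (eU - eU * eU) * (e * (b - b')) := by ring
        rw [this, h1, E]
        ring
    · intro y _
      have hU : IsClopen (f ⁻¹' {f y}) := f.isLocallyConstant.isClopen_fiber _
      refine ⟨f ⁻¹' {f y}, mem_nhdsWithin_of_mem_nhds (hU.isOpen.mem_nhds rfl), _, hU,
        subset_rfl, algebraMap A B (f y), ?_⟩
      intro y' hy'
      have : f y' = f y := hy'
      exact ⟨1, y'.isPrime.one_notMem, by rw [this, sub_self, mul_zero]⟩
  obtain ⟨U, _, hUu, b, hb⟩ := key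
  exact ⟨b, fun y => hb y (hUu (Set.mem_univ y))⟩

/-- the glued element -/
noncomputable def glueFun (f : LocallyConstant (PrimeSpectrum B) A) : B :=
  (exists_isGlue f).choose

theorem isGlue_glueFun (f : LocallyConstant (PrimeSpectrum B) A) : IsGlue A B f (glueFun f) :=
  (exists_isGlue f).choose_spec

theorem glueFun_eq {f : LocallyConstant (PrimeSpectrum B) A} {b : B} (h : IsGlue A B f b) :
    glueFun f = b :=
  isGlue_unique (isGlue_glueFun f) h

variable (A B)

/-- the gluing homomorphism -/
noncomputable def glue : LocallyConstant (PrimeSpectrum B) A →+* B where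
  toFun := glueFun
  map_one' := glueFun_eq fun y => ⟨1, y.isPrime.one_notMem, by simp⟩
  map_zero' := glueFun_eq fun y => ⟨1, y.isPrime.one_notMem, by simp⟩
  map_mul' f g := glueFun_eq fun y => by
    obtain ⟨e, he, h1⟩ := isGlue_glueFun f y
    obtain ⟨e', he', h2⟩ := isGlue_glueFun g y
    refine ⟨e * e', y.isPrime.mul_notMem he he', ?_⟩
    have : e * e' * (glueFun f * glueFun g - algebraMap A B ((f * g) y)) =
        e' * glueFun g * (e * (glueFun f - algebraMap A B (f y))) +
          e * algebraMap A B (f y) * (e' * (glueFun g - algebraMap A B (g y))) := by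
      rw [LocallyConstant.mul_apply, map_mul]
      ring
    rw [this, h1, h2]
    ring
  map_add' f g := glueFun_eq fun y => by
    obtain ⟨e, he, h1⟩ := isGlue_glueFun f y
    obtain ⟨e', he', h2⟩ := isGlue_glueFun g y
    refine ⟨e * e', y.isPrime.mul_notMem he he', ?_⟩
    have : e * e' * (glueFun f + glueFun g - algebraMap A B ((f + g) y)) =
        e' * (e * (glueFun f - algebraMap A B (f y))) +
          e * (e' * (glueFun g - algebraMap A B (g y))) := by
      rw [LocallyConstant.add_apply, map_add]
      ring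
    rw [this, h1, h2]
    ring

variable {A B}

theorem isGlue_glue (f : LocallyConstant (PrimeSpectrum B) A) : IsGlue A B f (glue A B f) :=
  isGlue_glueFun f

theorem glue_algebraMap (a : A) :
    glue A B (algebraMap A (LocallyConstant (PrimeSpectrum B) A) a) = algebraMap A B a :=
  glueFun_eq fun y => ⟨1, y.isPrime.one_notMem, by
    have : (algebraMap A (LocallyConstant (PrimeSpectrum B) A) a) y = a := rfl
    rw [this, sub_self, mul_zero]⟩

theorem glue_mem_iff (f : LocallyConstant (PrimeSpectrum B) A) (y : PrimeSpectrum B) :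
    glue A B f ∈ y.asIdeal ↔ algebraMap A B (f y) ∈ y.asIdeal := by
  obtain ⟨e, he, h1⟩ := isGlue_glue f y
  have h2 : e * glue A B f = e * algebraMap A B (f y) := by
    rw [← sub_eq_zero, ← mul_sub]
    exact h1
  constructor
  · intro h
    have : e * algebraMap A B (f y) ∈ y.asIdeal := h2 ▸ y.asIdeal.mul_mem_left e h
    exact (y.isPrime.mem_or_mem this).resolve_left he
  · intro h
    have : e * glue A B f ∈ y.asIdeal := h2 ▸ y.asIdeal.mul_mem_left e h
    exact (y.isPrime.mem_or_mem this).resolve_left he

end Groth.Agent.Lib.Helper20.Glue
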