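import Mathlib

/-! Good stratifications of Noetherian spaces refining a finite locally closed partition. -/

namespace Groth.Agent.Lib.Helper20.GoodStrat

open Set TopologicalSpace Topology

universe u

/-- Finite Baire-type argument: if a nonempty relatively open part of `Y` is covered by finitely
many locally closed subsets of `Y`, one of them contains a nonempty relatively open subset. -/
theorem exists_open_piece {X : Type*} [TopologicalSpace X] {ι : Type*} (P : ι → Set X)
    (hP : ∀ i, IsLocallyClosed (P i)) (Y : Set X) (hPY : ∀ i, P i ⊆ Y) (s : Finset ι) :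
    ∀ W : Set X, IsOpen W → (Y ∩ W).Nonempty → Y ∩ W ⊆ ⋃ i ∈ s, P i →
      ∃ i ∈ s, ∃ V, IsOpen V ∧ (Y ∩ V).Nonempty ∧ Y ∩ V ⊆ P i := by
  classical
  induction s using Finset.induction_on with
  | empty =>
    intro W _ hne hsub
    obtain ⟨y, hy⟩ := hne
    have := hsub hy
    simp at this
  | insert a s' ha ih =>
    intro W hW hne hsub
    by_cases hcase : (Y ∩ (W ∩ (closure (P a))ᶜ)).Nonempty
    · have hW' : IsOpen (W ∩ (closure (P a))ᶜ) := hW.inter isClosed_closure.isOpen_compl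
      have hsub' : Y ∩ (W ∩ (closure (P a))ᶜ) ⊆ ⋃ i ∈ s', P i := by
        rintro x ⟨hxY, hxW, hxa⟩
        have := hsub ⟨hxY, hxW⟩
        simp only [Finset.mem_insert, iUnion_iUnion_eq_or_left, mem_union, mem_iUnion,
          exists_prop] at this
        rcases this with h | ⟨i, hi, hxi⟩
        · exact absurd (subset_closure h) hxa
        · exact mem_iUnion₂.mpr ⟨i, hi, hxi⟩
      obtain ⟨i, hi, V, hV, hne', hsubV⟩ := ih _ hW' hcase hsub'
      exact ⟨i, Finset.mem_insert_of_mem hi, V, hV, hne', hsubV⟩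
    · have hall : Y ∩ W ⊆ closure (P a) := by
        rintro x ⟨hxY, hxW⟩
        by_contra hx
        exact hcase ⟨x, hxY, hxW, hx⟩
      obtain ⟨y, hyY, hyW⟩ := hne
      have hycl : y ∈ closure (P a) := hall ⟨hyY, hyW⟩
      obtain ⟨z, hzW, hza⟩ := mem_closure_iff.mp hycl W hW hyW
      refine ⟨a, Finset.mem_insert_self _ _, W ∩ coborder (P a),
        hW.inter (hP a).isOpen_coborder, ⟨z, hPY a hza, hzW, subset_coborder hza⟩, ?_⟩
      rintro x ⟨hxY, hxW, hxc⟩
      have : x ∈ closure (P a) ∩ coborder (P a) := ⟨hall ⟨hxY, hxW⟩, hxc⟩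
      rwa [closure_inter_coborder] at this

/-- Existence of a nonempty relatively open piece inside one part. -/
theorem exists_open_piece' {X : Type*} [TopologicalSpace X] {ι : Type*} [Finite ι] (P : ι → Set X)
    (hP : ∀ i, IsLocallyClosed (P i)) (Y : Set X) (hcov : ⋃ i, P i = Y) (hne : Y.Nonempty) :
    ∃ i, ∃ V, IsOpen V ∧ (Y ∩ V).Nonempty ∧ Y ∩ V ⊆ P i := by
  classical
  haveI := Fintype.ofFinite ι
  have hPY : ∀ i, P i ⊆ Y := fun i => hcov ▸ subset_iUnion P i
  obtain ⟨i, _, V, hV, h1, h2⟩ := exists_open_piece P hP Y hPY Finset.univ univ isOpen_univ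
    (by simpa using hne) (by
      intro x hx
      have : x ∈ ⋃ i, P i := hcov ▸ hx.1
      obtain ⟨i, hi⟩ := mem_iUnion.mp this
      exact mem_iUnion₂.mpr ⟨i, Finset.mem_univ _, hi⟩)
  exact ⟨i, V, hV, h1, h2⟩

/-- The statement proved by Noetherian induction. -/
def Goal {X : Type u} [TopologicalSpace X] (Y : Set X) : Prop :=
  ∀ (ι : Type) [Finite ι] (P : ι → Set X), (∀ i, IsLocallyClosed (P i)) → (⋃ i, P i = Y) →
    (∀ i j, i ≠ j → Disjoint (P i) (P j)) →
    ∃ (κ : Type) (_ : Finite κ) (S : κ → Set X),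
      (∀ k, IsLocallyClosed (S k)) ∧ (⋃ k, S k = Y) ∧ (∀ i j, i ≠ j → Disjoint (S i) (S j)) ∧
      (∀ i j, (S i ∩ closure (S j)).Nonempty → S i ⊆ closure (S j)) ∧
      (∀ k i, (S k ∩ P i).Nonempty → S k ⊆ P i)

theorem goal_step {X : Type u} [TopologicalSpace X] (Y : Set X) (hY : IsClosed Y)
    (ih : ∀ Y' : Set X, IsClosed Y' → Y' ⊂ Y → Goal Y') : Goal Y := by
  classical
  intro ι _ P hP hcov hdisj
  by_cases hne : Y.Nonempty
  swap
  · have hYe : Y = ∅ := not_nonempty_iff_eq_empty.mp hne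
    refine ⟨PEmpty, inferInstance, fun k => k.elim, fun k => k.elim, ?_, fun k => k.elim,
      fun k => k.elim, fun k => k.elim⟩
    rw [hYe]
    simp
  obtain ⟨i₀, V, hV, hUne, hUsub⟩ := exists_open_piece' P hP Y hcov hne
  set U : Set X := Y ∩ V with hUdef
  set Y' : Set X := Y ∩ Vᶜ with hY'def
  have hY'cl : IsClosed Y' := hY.inter hV.isClosed_compl
  have hY'ss : Y' ⊂ Y := by
    refine ⟨inter_subset_left, fun h => ?_⟩
    obtain ⟨y, hyY, hyV⟩ := hUne
    exact (h hyY).2 hyV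
  have hUY' : Disjoint U Y' := by
    rw [Set.disjoint_left]
    rintro x ⟨_, hxV⟩ ⟨_, hxV'⟩
    exact hxV' hxV
  have hUY'un : U ∪ Y' = Y := by
    ext x
    simp only [hUdef, hY'def, mem_union, mem_inter_iff, mem_compl_iff]
    tauto
  have hPY : ∀ i, P i ⊆ Y := fun i => hcov ▸ subset_iUnion P i
  -- new partition of Y'
  let Q : ι × Bool → Set X := fun p =>
    if p.2 then P p.1 ∩ Y' ∩ closure U else P p.1 ∩ Y' ∩ (closure U)ᶜ
  have hQlc : ∀ p, IsLocallyClosed (Q p) := by
    rintro ⟨i, b⟩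
    cases b
    · exact ((hP i).inter hY'cl.isLocallyClosed).inter
        isClosed_closure.isOpen_compl.isLocallyClosed
    · exact ((hP i).inter hY'cl.isLocallyClosed).inter isClosed_closure.isLocallyClosed
  have hQsubP : ∀ p, Q p ⊆ P p.1 := by
    rintro ⟨i, b⟩ x hx
    cases b
    · exact hx.1.1
    · exact hx.1.1
  have hQtrue : ∀ i, Q (i, true) ⊆ closure U := fun i x hx => hx.2
  have hQfalse : ∀ i, Q (i, false) ⊆ (closure U)ᶜ := fun i x hx => hx.2
  have hQcov : ⋃ p, Q p = Y' := by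
    ext x
    constructor
    · intro hx
      obtain ⟨⟨i, b⟩, hx⟩ := mem_iUnion.mp hx
      cases b
      · exact hx.1.2
      · exact hx.1.2
    · intro hx
      have : x ∈ ⋃ i, P i := hcov ▸ hx.1
      obtain ⟨i, hi⟩ := mem_iUnion.mp this
      by_cases hxc : x ∈ closure U
      · exact mem_iUnion.mpr ⟨(i, true), ⟨hi, hx⟩, hxc⟩
      · exact mem_iUnion.mpr ⟨(i, false), ⟨hi, hx⟩, hxc⟩
  have hQdisj : ∀ p q, p ≠ q → Disjoint (Q p) (Q q) := by
    rintro ⟨i, b⟩ ⟨j, c⟩ hne
    rw [Set.disjoint_left]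
    intro x hxp hxq
    by_cases hij : i = j
    · subst hij
      have hbc : b ≠ c := fun h => hne (by rw [h])
      cases b <;> cases c
      · exact hbc rfl
      · exact hxp.2 hxq.2
      · exact hxq.2 hxp.2
      · exact hbc rfl
    · exact Set.disjoint_left.mp (hdisj i j hij) (hQsubP _ hxp) (hQsubP _ hxq)
  obtain ⟨κ, hκ, S, hSlc, hScov, hSdisj, hSgood, hSref⟩ :=
    ih Y' hY'cl hY'ss (ι × Bool) Q hQlc hQcov hQdisj
  have hSY' : ∀ k, S k ⊆ Y' := fun k => hScov ▸ subset_iUnion S k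
  have hUlc : IsLocallyClosed U := hY.isLocallyClosed.inter hV.isLocallyClosed
  let T : Option κ → Set X := fun o => o.elim U S
  have hclS : ∀ k, closure (S k) ⊆ Y' := fun k => closure_minimal (hSY' k) hY'cl
  refine ⟨Option κ, inferInstance, T, ?_, ?_, ?_, ?_, ?_⟩
  · rintro (_ | k)
    · exact hUlc
    · exact hSlc k
  · ext x
    constructor
    · intro hx
      obtain ⟨o, ho⟩ := mem_iUnion.mp hx
      rcases o with _ | k
      · exact ho.1
      · exact (hSY' k ho).1
    · intro hx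
      rw [← hUY'un] at hx
      rcases hx with hx | hx
      · exact mem_iUnion.mpr ⟨none, hx⟩
      · rw [← hScov] at hx
        obtain ⟨k, hk⟩ := mem_iUnion.mp hx
        exact mem_iUnion.mpr ⟨some k, hk⟩
  · rintro (_ | i) (_ | j) hne
    · exact absurd rfl hne
    · exact hUY'.mono_right (hSY' j)
    · exact (hUY'.mono_right (hSY' i)).symm
    · exact hSdisj i j (fun h => hne (by rw [h]))
  · rintro (_ | i) (_ | j) hne
    · exact subset_closure
    · obtain ⟨x, hxU, hxcl⟩ := hne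
      exact absurd (hclS j hxcl) (Set.disjoint_left.mp hUY' hxU)
    · obtain ⟨x, hxS, hxcl⟩ := hne
      have hxY' : x ∈ Y' := hSY' i hxS
      rw [← hQcov] at hxY'
      obtain ⟨⟨l, b⟩, hxQ⟩ := mem_iUnion.mp hxY'
      cases b
      · exact absurd hxcl (hQfalse l hxQ)
      · exact (hSref i (l, true) ⟨x, hxS, hxQ⟩).trans (hQtrue l)
    · exact hSgood i j hne
  · rintro (_ | k) i hne
    · obtain ⟨x, hxU, hxP⟩ := hne
      have hii : i₀ = i := by
        by_contra h
        exact Set.disjoint_left.mp (hdisj i₀ i h) (hUsub hxU) hxP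
      exact hii ▸ hUsub
    · obtain ⟨x, hxS, hxP⟩ := hne
      have hxY' : x ∈ Y' := hSY' k hxS
      rw [← hQcov] at hxY'
      obtain ⟨⟨l, b⟩, hxQ⟩ := mem_iUnion.mp hxY'
      have hli : l = i := by
        by_contra h
        exact Set.disjoint_left.mp (hdisj l i h) (hQsubP _ hxQ) hxP
      subst hli
      exact (hSref k (l, b) ⟨x, hxS, hxQ⟩).trans (hQsubP _)

theorem goal_all {X : Type u} [TopologicalSpace X] [NoetherianSpace X] (Y : Closeds X) :
    Goal (Y : Set X) := by
  induction Y using WellFoundedLT.induction with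
  | ind Y ih =>
    refine goal_step (Y : Set X) Y.isClosed' ?_
    intro Y' hY' hss
    exact ih ⟨Y', hY'⟩ (by exact hss)

theorem main {X : Type u} [TopologicalSpace X] [NoetherianSpace X]
    {n : ℕ} (P : Fin n → Set X) (hP : ∀ k, IsLocallyClosed (P k)) (hcov : ⋃ k, P k = Set.univ)
    (hdisj : ∀ k k', k ≠ k' → Disjoint (P k) (P k')) :
    ∃ (m : ℕ) (S : Fin m → Set X),
      (∀ i, IsLocallyClosed (S i)) ∧ (⋃ i, S i = Set.univ) ∧ (∀ i j, i ≠ j → Disjoint (S i) (S j)) ∧
      (∀ i j, (S i ∩ closure (S j)).Nonempty → S i ⊆ closure (S j)) ∧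
      (∀ i k, (S i ∩ P k).Nonempty → S i ⊆ P k) := by
  obtain ⟨κ, hκ, S, h1, h2, h3, h4, h5⟩ :=
    goal_all (⊤ : Closeds X) (Fin n) P hP (by simpa using hcov) hdisj
  let e := Finite.equivFin κ
  refine ⟨Nat.card κ, fun i => S (e.symm i), fun i => h1 _, ?_, ?_, fun i j => h4 _ _,
    fun i k => h5 _ _⟩
  · ext x
    simp only [mem_iUnion, mem_univ, iff_true]
    have : x ∈ ⋃ k, S k := by rw [h2]; trivial
    obtain ⟨k, hk⟩ := mem_iUnion.mp this
    exact ⟨e k, by simpa using hk⟩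
  · intro i j hij
    exact h3 _ _ (fun h => hij (e.symm.injective h))

end Groth.Agent.Lib.Helper20.GoodStrat
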