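import Mathlib
import Groth.Prelude.Def_GrSeg
import Groth.Prelude.Def_GrLC
import Groth.Agent.Lib.Helper20.GrDu3

/-!
# S19761: graded Matlis duality between Noetherian and Artinian graded modules
-/

set_option autoImplicit false
set_option linter.unusedSectionVars false
set_option linter.unusedVariables false
set_option linter.style.haveILetI false

namespace Groth.Agent.Lib.Helper20.GrDu

open DirectSum Groth.Agent.Lib.Helper14.GrDualLib

universe u

theorem s19761 (k : Type u) [Field k] (R : Type u) [CommRing R] [Algebra k R]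
    (𝒜 : ℤ → Submodule k R) [GradedAlgebra 𝒜] (hposR : ∀ n : ℤ, n < 0 → 𝒜 n = ⊥)
    (h0R : 𝒜 0 = Submodule.span k {(1 : R)}) [Algebra.FiniteType k R] (M : Type u)
    [AddCommGroup M] [Module R M] [Module k M] [IsScalarTower k R M] (ℳ : ℤ → AddSubgroup M)
    [DirectSum.Decomposition ℳ] [SetLike.GradedSMul 𝒜 ℳ] (D : Type u) [AddCommGroup D]
    [Module R D] [Module k D] [IsScalarTower k R D] (𝒟 : ℤ → AddSubgroup D)
    [DirectSum.Decomposition 𝒟] [SetLike.GradedSMul 𝒜 𝒟] (β : D →ₗ[k] M →ₗ[k] k)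
    (hD : GrSeg.IsGDual R ℳ 𝒟 β) :
    (Module.Finite R M → IsArtinian R D ∧ GrSeg.IsGDual R 𝒟 ℳ β.flip) ∧
      (IsArtinian R M → Module.Finite R D ∧ GrSeg.IsGDual R 𝒟 ℳ β.flip) := by
  classical
  haveI : IsNoetherianRing R := Algebra.FiniteType.isNoetherianRing k R
  constructor
  · intro hM
    haveI := hM
    haveI : IsNoetherian R M := isNoetherian_of_isNoetherianRing_of_finite R M
    have hfin : ∀ n, Module.Finite k (pieceK 𝒜 ℳ n) := fun n =>
      finite_piece_module 𝒜 ℳ hposR h0R n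
    obtain ⟨N, hN⟩ := exists_bound_below 𝒜 ℳ hposR
    have hbdd : ∀ n, -N < n → ∀ d ∈ 𝒟 n, d = 0 := by
      intro n hn d hd
      apply hD.eq_zero n d hd
      intro x hx
      rw [hN (-n) (by omega) x hx, map_zero]
    exact ⟨isArtinian_dual 𝒜 hposR ℳ 𝒟 β hD hfin (-N) hbdd, flip_isGDual 𝒜 ℳ 𝒟 β hD hfin⟩
  · intro hA
    haveI := hA
    exact ⟨finite_dual_of_isArtinian 𝒜 hposR h0R ℳ 𝒟 β hD,
      flip_isGDual 𝒜 ℳ 𝒟 β hD (finite_piece_of_isArtinian 𝒜 h0R ℳ)⟩

end Groth.Agent.Lib.Helper20.GrDu
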