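import Mathlib

/-! The coaction-type map `A → R'[M]` of a graded algebra twisted by an algebra map `F : A → R'`. -/

set_option autoImplicit false

namespace Groth.Agent.Lib.Helper20.GrHomMonAlg

universe u v w u'

variable (R : Type u) [CommRing R]
    (A : Type v) [CommRing A] [Algebra R A] (M : Type w) [AddCommMonoid M] [DecidableEq M]
    (𝒜 : M → Submodule R A) [GradedAlgebra 𝒜] (R' : Type u') [CommRing R']
    [Algebra R R'] (F : A →ₐ[R] R')

/-- the linear map `a ↦ ∑ single m (F a_m)` -/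
noncomputable def fLin : A →ₗ[R] AddMonoidAlgebra R' M :=
  (DirectSum.toModule R M (AddMonoidAlgebra R' M)
    (fun i => (AddMonoidAlgebra.lsingle (R := R) i : R' →ₗ[R] AddMonoidAlgebra R' M) ∘ₗ
      F.toLinearMap ∘ₗ (𝒜 i).subtype)) ∘ₗ (DirectSum.decomposeLinearEquiv 𝒜).toLinearMap

theorem fLin_hom (m : M) (a : A) (ha : a ∈ 𝒜 m) :
    fLin R A M 𝒜 R' F a = AddMonoidAlgebra.single m (F a) := by
  unfold fLin
  rw [LinearMap.comp_apply, LinearEquiv.coe_coe, DirectSum.decomposeLinearEquiv_apply,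
    DirectSum.decompose_of_mem 𝒜 ha]
  erw [DirectSum.toModule_lof]
  rfl

theorem fLin_one : fLin R A M 𝒜 R' F 1 = 1 := by
  rw [fLin_hom R A M 𝒜 R' F 0 1 (SetLike.one_mem_graded 𝒜), map_one]
  rfl

theorem fLin_mul (a b : A) :
    fLin R A M 𝒜 R' F (a * b) = fLin R A M 𝒜 R' F a * fLin R A M 𝒜 R' F b := by
  induction a using DirectSum.Decomposition.inductionOn 𝒜 with
  | zero => simp
  | add a1 a2 h1 h2 => rw [add_mul, map_add, map_add, add_mul, h1, h2]
  | homogeneous a =>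
    rename_i i
    induction b using DirectSum.Decomposition.inductionOn 𝒜 with
    | zero => simp
    | add b1 b2 h1 h2 => rw [mul_add, map_add, map_add, mul_add, h1, h2]
    | homogeneous b =>
      rename_i j
      rw [fLin_hom R A M 𝒜 R' F i a a.2, fLin_hom R A M 𝒜 R' F j b b.2,
        fLin_hom R A M 𝒜 R' F (i + j) _ (SetLike.mul_mem_graded a.2 b.2),
        AddMonoidAlgebra.single_mul_single, map_mul]

noncomputable def fAlg : A →ₐ[R] AddMonoidAlgebra R' M :=
  AlgHom.ofLinearMap (fLin R A M 𝒜 R' F) (fLin_one R A M 𝒜 R' F) (fLin_mul R A M 𝒜 R' F)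

theorem fAlg_hom (m : M) (a : A) (ha : a ∈ 𝒜 m) :
    fAlg R A M 𝒜 R' F a = AddMonoidAlgebra.single m (F a) :=
  fLin_hom R A M 𝒜 R' F m a ha

theorem counit_single' (m : M) (r : R') :
    Bialgebra.counitAlgHom R' (AddMonoidAlgebra R' M) (AddMonoidAlgebra.single m r) = r := by
  rw [Bialgebra.counitAlgHom_apply, AddMonoidAlgebra.counit_single]
  rfl

theorem main (N : AddSubmonoid M) (hF : ∀ m, m ∉ N → ∀ a ∈ 𝒜 m, F a = 0) :
    ∃! f : A →ₐ[R] AddMonoidAlgebra R' M,
      (∀ m, ∀ a ∈ 𝒜 m, f a =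
          AddMonoidAlgebra.single m (Bialgebra.counitAlgHom R' (AddMonoidAlgebra R' M) (f a))) ∧
      (∀ m, m ∉ N → ∀ a ∈ 𝒜 m, f a = 0) ∧
      ∀ a, Bialgebra.counitAlgHom R' (AddMonoidAlgebra R' M) (f a) = F a := by
  have h3 : ∀ a, Bialgebra.counitAlgHom R' (AddMonoidAlgebra R' M) (fAlg R A M 𝒜 R' F a) = F a := by
    intro a
    induction a using DirectSum.Decomposition.inductionOn 𝒜 with
    | zero => simp
    | add a1 a2 h1 h2 => rw [map_add, map_add, map_add, h1, h2]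
    | homogeneous a =>
      rename_i i
      rw [fAlg_hom R A M 𝒜 R' F i a a.2, counit_single']
  refine ⟨fAlg R A M 𝒜 R' F, ⟨?_, ?_, h3⟩, ?_⟩
  · intro m a ha
    rw [h3, fAlg_hom R A M 𝒜 R' F m a ha]
  · intro m hm a ha
    rw [fAlg_hom R A M 𝒜 R' F m a ha, hF m hm a ha]
    simp
  · rintro g ⟨hg1, -, hg3⟩
    apply AlgHom.ext
    intro a
    induction a using DirectSum.Decomposition.inductionOn 𝒜 with
    | zero => simp
    | add a1 a2 h1 h2 => rw [map_add, map_add, h1, h2]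
    | homogeneous a =>
      rename_i i
      rw [hg1 i a a.2, hg3, fAlg_hom R A M 𝒜 R' F i a a.2]

end Groth.Agent.Lib.Helper20.GrHomMonAlg
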