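import Mathlib
import Groth.Prelude.Def_GrLC
import Groth.Prelude.Def_GrSyz
import Groth.Agent.Lib.Helper20.GrLES17

/-!
# S15419: the quotient of a weakly `d`-regular module by a quasi-regular linear form
-/

set_option autoImplicit false
set_option linter.unusedSectionVars false
set_option linter.unusedVariables false
set_option linter.style.haveILetI false

namespace Groth.Agent.Lib.Helper20.GrLES

open DirectSum Groth.Agent.Lib.Helper26.GrProj Groth.Agent.Lib.Helper20.GrKit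
  Groth.Agent.Lib.Helper20.GrConv Groth.Agent.Lib.Helper20.HilbDim MvPolynomial
  Groth.Agent.Lib.Helper20.SegQuot
open scoped Pointwise

universe u

section Std

variable (k : Type u) [Field k] (σ : Type)

theorem asGr_stdGr_neg (n : ℤ) (hn : n < 0) : asGr (GrSyz.stdGr k σ) n = ⊥ := by
  rw [AddSubgroup.eq_bot_iff_forall]
  intro p hp
  have hp' : p ∈ GrSyz.stdGr k σ n := hp
  rw [stdGr_neg k σ n hn] at hp'
  exact hp'

theorem irrel_toIdeal_eq :
    (idealToAS (GrSyz.stdGr k σ) (GrSyz.irrel (GrSyz.stdGr k σ))).toIdeal =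
      Ideal.span (⋃ n ∈ Set.Ioi (0 : ℤ), (asGr (GrSyz.stdGr k σ) n : Set (MvPolynomial σ k))) := by
  change Ideal.span {p : MvPolynomial σ k | ∃ n : ℤ, 0 < n ∧ p ∈ GrSyz.stdGr k σ n} = _
  congr 1
  ext p
  simp only [Set.mem_setOf_eq, Set.mem_iUnion, Set.mem_Ioi, SetLike.mem_coe, exists_prop]
  rfl

theorem irrel_toIdeal_eq_span_one :
    (idealToAS (GrSyz.stdGr k σ) (GrSyz.irrel (GrSyz.stdGr k σ))).toIdeal =
      Ideal.span ((asGr (GrSyz.stdGr k σ) 1 : AddSubgroup (MvPolynomial σ k)) :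
        Set (MvPolynomial σ k)) := by
  apply le_antisymm
  · rw [irrel_toIdeal_eq]
    have h1 : Ideal.span (⋃ n ∈ Set.Ioi (0 : ℤ),
        (asGr (GrSyz.stdGr k σ) n : Set (MvPolynomial σ k))) = irrIdeal (GrSyz.stdGr k σ) := rfl
    rw [h1, irrIdeal_stdGr]
    unfold idealOfVars
    rw [Ideal.span_le]
    rintro _ ⟨i, rfl⟩
    apply Ideal.subset_span
    change (X i : MvPolynomial σ k) ∈ GrSyz.stdGr k σ 1
    rw [GrSyz.mem_stdGr_iff]
    exact isWeightedHomogeneous_X k (fun _ : σ => (1 : ℤ)) i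
  · rw [irrel_toIdeal_eq]
    apply Ideal.span_mono
    intro p hp
    simp only [Set.mem_iUnion, Set.mem_Ioi, SetLike.mem_coe]
    exact ⟨1, one_pos, hp⟩

end Std

theorem s15419 (k : Type u) [Field k] (r : ℕ)
    (M : Type u) [AddCommGroup M] [Module k M] [Module (MvPolynomial (Fin (r + 1)) k) M]
    [IsScalarTower k (MvPolynomial (Fin (r + 1)) k) M]
    (ℳ : ℤ → Submodule k M) [DirectSum.Decomposition ℳ]
    [SetLike.GradedSMul (GrSyz.stdGr k (Fin (r + 1))) ℳ]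
    (x : MvPolynomial (Fin (r + 1)) k) (hx : x ∈ GrSyz.stdGr k (Fin (r + 1)) 1)
    (hq : IsFiniteLength (MvPolynomial (Fin (r + 1)) k)
      ↥(Submodule.torsionBy (MvPolynomial (Fin (r + 1)) k) M x))
    (N : Type u) [AddCommGroup N] [Module k N] [Module (MvPolynomial (Fin (r + 1)) k) N]
    [IsScalarTower k (MvPolynomial (Fin (r + 1)) k) N]
    (𝒩 : ℤ → Submodule k N) [DirectSum.Decomposition 𝒩]
    [SetLike.GradedSMul (GrSyz.stdGr k (Fin (r + 1))) 𝒩]
    (π : M →ₗ[MvPolynomial (Fin (r + 1)) k] N) (hπ : Function.Surjective π)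
    (hπg : GrLC.IsGrHom ℳ 𝒩 π)
    (hker : LinearMap.ker π =
      LinearMap.range (x • (LinearMap.id : M →ₗ[MvPolynomial (Fin (r + 1)) k] M)))
    (E : GrLC.StarInjRes (GrSyz.stdGr k (Fin (r + 1))) ℳ)
    (E' : GrLC.StarInjRes (GrSyz.stdGr k (Fin (r + 1))) 𝒩) (d : ℤ)
    (hM : ∀ i : ℕ, 0 < i →
      E.Hcomp (GrSyz.irrel (GrSyz.stdGr k (Fin (r + 1)))) i (d - (i : ℤ) + 1) = ⊥)
    (i : ℕ) (hi : 0 < i) :
    E'.Hcomp (GrSyz.irrel (GrSyz.stdGr k (Fin (r + 1)))) i (d - (i : ℤ) + 1) = ⊥ := by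
  classical
  set 𝒜₀ := GrSyz.stdGr k (Fin (r + 1)) with h𝒜₀
  set a := idealToAS 𝒜₀ (GrSyz.irrel 𝒜₀) with hadef
  have hpos := asGr_stdGr_neg k (Fin (r + 1))
  have ha := irrel_toIdeal_eq k (Fin (r + 1))
  have hhom := irrel_toIdeal_eq_span_one k (Fin (r + 1))
  -- the torsion submodule
  set K : Submodule (MvPolynomial (Fin (r + 1)) k) M :=
    LinearMap.ker (x • (LinearMap.id : M →ₗ[MvPolynomial (Fin (r + 1)) k] M)) with hKdef
  have hKeq : K = Submodule.torsionBy (MvPolynomial (Fin (r + 1)) k) M x := by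
    ext m
    rw [Submodule.mem_torsionBy_iff]
    rfl
  have hKfl : IsFiniteLength (MvPolynomial (Fin (r + 1)) k) K := by
    rw [hKeq]
    exact hq
  have hx' : x ∈ asGr 𝒜₀ 1 := hx
  have hKst : ∀ g y, y ∈ K → proj (asGrM ℳ) g y ∈ K :=
    ker_smul_proj_stable (𝒜 := asGr 𝒜₀) (ℳ := asGrM ℳ) x 1 hx'
  letI : DirectSum.Decomposition (subGr (asGrM ℳ) K) := subDecomposition (asGrM ℳ) K hKst
  have hK : ∀ j : ℕ, 1 ≤ j → Subsingleton (LocCoh.H a.toIdeal j K) := fun j hj =>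
    subsingleton_H_of_isFiniteLength (asGr 𝒜₀) hpos a ha hhom (subGr (asGrM ℳ) K) hKfl j hj
  have conv : ∀ (j : ℕ) (g : ℤ),
      E.Hcomp (GrSyz.irrel 𝒜₀) j g = ⊥ → (resToAS E).Hgr a j g = ⊥ := by
    intro j g h
    rw [AddSubgroup.eq_bot_iff_forall]
    intro w hw
    have hw' : convH E (GrSyz.irrel 𝒜₀) j w ∈ E.Hcomp (GrSyz.irrel 𝒜₀) j g := hw
    rw [h, Submodule.mem_bot] at hw'
    exact hw'
  have h1 := conv i (d - (i : ℤ) + 1) (hM i hi)
  have h2 : (resToAS E).Hgr a (i + 1) (d - (i : ℤ) + 1 - 1) = ⊥ := by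
    have := conv (i + 1) (d - ((i + 1 : ℕ) : ℤ) + 1) (hM (i + 1) (Nat.succ_pos i))
    have e : d - ((i + 1 : ℕ) : ℤ) + 1 = d - (i : ℤ) + 1 - 1 := by
      push_cast
      ring
    rw [e] at this
    exact this
  have h3 := quasi_regular_step a x 1 hx' hK π hπ (𝒩 := asGrM 𝒩) hπg hker (resToAS E)
    (resToAS E') i (d - (i : ℤ) + 1) h1 h2
  rw [Submodule.eq_bot_iff]
  intro w hw
  have hw' : (convH E' (GrSyz.irrel 𝒜₀) i).symm w ∈
      (resToAS E').Hgr a i (d - (i : ℤ) + 1) := hw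
  rw [h3, AddSubgroup.mem_bot] at hw'
  exact hw'

end Groth.Agent.Lib.Helper20.GrLES
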