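import Mathlib
import Groth.Prelude.Def_GrLC

/-!
# Linear forms avoiding finitely many primes (infinite residue field), linear regular elements
-/

set_option autoImplicit false
set_option linter.unusedSectionVars false
set_option linter.unusedVariables false
set_option linter.style.haveILetI false

namespace Groth.Agent.Lib.Helper20.GrLin

open DirectSum

universe u

section Avoid

variable {R : Type u} [CommRing R] (𝒜 : ℤ → AddSubgroup R) [GradedRing 𝒜]
  (m₀ : Ideal (GrLC.deg0 𝒜)) (hloc : ∀ I : Ideal (GrLC.deg0 𝒜), I ≠ ⊤ → I ≤ m₀)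
  [hinf : Infinite (GrLC.deg0 𝒜 ⧸ m₀)]

/-- the trace of an ideal on the degree one piece -/
def tr (P : Ideal R) : Submodule (GrLC.deg0 𝒜) (GrLC.comp 𝒜 𝒜 1) :=
  Submodule.comap (GrLC.comp 𝒜 𝒜 1).subtype (P.restrictScalars (GrLC.deg0 𝒜))

theorem mem_tr (P : Ideal R) (v : GrLC.comp 𝒜 𝒜 1) : v ∈ tr 𝒜 P ↔ (v : R) ∈ P := Iff.rfl

include hloc in
theorem not_finite_quot (P : Ideal R) [hP : P.IsPrime] (x : R) (hx : x ∈ 𝒜 1) (hxP : x ∉ P) :
    ¬ Finite ((GrLC.comp 𝒜 𝒜 1) ⧸ tr 𝒜 P) := by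
  intro hfin
  let xv : GrLC.comp 𝒜 𝒜 1 := ⟨x, hx⟩
  let f : (GrLC.deg0 𝒜 ⧸ m₀) → ((GrLC.comp 𝒜 𝒜 1) ⧸ tr 𝒜 P) :=
    fun κ => Submodule.Quotient.mk ((Quotient.out κ : GrLC.deg0 𝒜) • xv)
  have hf : Function.Injective f := by
    intro κ κ' h
    have h1 : (Quotient.out κ : GrLC.deg0 𝒜) • xv - (Quotient.out κ' : GrLC.deg0 𝒜) • xv ∈
        tr 𝒜 P := (Submodule.Quotient.eq _).1 h
    have h1' : (((Quotient.out κ : GrLC.deg0 𝒜) • xv - (Quotient.out κ' : GrLC.deg0 𝒜) • xv :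
        GrLC.comp 𝒜 𝒜 1) : R) ∈ P := h1
    have e1 : (((Quotient.out κ : GrLC.deg0 𝒜) • xv - (Quotient.out κ' : GrLC.deg0 𝒜) • xv :
        GrLC.comp 𝒜 𝒜 1) : R) = ((Quotient.out κ - Quotient.out κ' : GrLC.deg0 𝒜) : R) * x := by
      change ((Quotient.out κ : GrLC.deg0 𝒜) : R) * x - ((Quotient.out κ' : GrLC.deg0 𝒜) : R) * x =
        (((Quotient.out κ : GrLC.deg0 𝒜) : R) - ((Quotient.out κ' : GrLC.deg0 𝒜) : R)) * x
      ring
    rw [e1] at h1'
    have h2 : ((Quotient.out κ - Quotient.out κ' : GrLC.deg0 𝒜) : R) * x ∈ P := h1'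
    have h3 : ((Quotient.out κ - Quotient.out κ' : GrLC.deg0 𝒜) : R) ∈ P :=
      (hP.mem_or_mem h2).resolve_right hxP
    have h4 : (Quotient.out κ - Quotient.out κ' : GrLC.deg0 𝒜) ∈
        Ideal.comap (GrLC.deg0 𝒜).subtype P := h3
    have hne : Ideal.comap (GrLC.deg0 𝒜).subtype P ≠ ⊤ := (Ideal.IsPrime.comap _).ne_top
    have h5 := hloc _ hne h4
    rw [← Ideal.Quotient.mk_out κ, ← Ideal.Quotient.mk_out κ']
    exact Ideal.Quotient.eq.2 h5
  haveI := Finite.of_injective f hf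
  exact not_finite (GrLC.deg0 𝒜 ⧸ m₀)

include hloc in
/-- linear forms avoiding finitely many primes -/
theorem exists_linear_avoid (T : Finset (Ideal R))
    (hT : ∀ P ∈ T, P.IsPrime ∧ ∃ x ∈ 𝒜 1, x ∉ P) : ∃ y ∈ 𝒜 1, ∀ P ∈ T, y ∉ P := by
  by_contra hcon
  push Not at hcon
  have hcov : ⋃ P ∈ T, ((tr 𝒜 P : Submodule (GrLC.deg0 𝒜) (GrLC.comp 𝒜 𝒜 1)) :
      Set (GrLC.comp 𝒜 𝒜 1)) = Set.univ := by
    ext v
    simp only [Set.mem_iUnion, SetLike.mem_coe, Set.mem_univ, iff_true, exists_prop]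
    obtain ⟨P, hP, h⟩ := hcon (v : R) v.2
    exact ⟨P, hP, h⟩
  obtain ⟨P, hP, hfi⟩ := Submodule.exists_finiteIndex_of_cover hcov
  haveI : Finite ((GrLC.comp 𝒜 𝒜 1) ⧸ tr 𝒜 P) := AddSubgroup.finite_quotient_of_finiteIndex
  obtain ⟨hPprime, x, hx, hxP⟩ := hT P hP
  exact not_finite_quot 𝒜 m₀ hloc P x hx hxP this

variable [IsNoetherianRing R] (a : Ideal R)
  (ha1 : a = Ideal.span ((𝒜 1 : AddSubgroup R) : Set R))

include hloc ha1 in
/-- if `Γ_a(M) = 0` with `a` generated by linear forms, there is a linear `M`-regular form -/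
theorem exists_linear_regular (M : Type u) [AddCommGroup M] [Module R M] [Module.Finite R M]
    (htf : ∀ z : M, z ∈ GrLC.gam a M → z = 0) : ∃ y ∈ 𝒜 1, IsSMulRegular M y := by
  classical
  have hfin := associatedPrimes.finite R M
  obtain ⟨y, hy, hav⟩ := exists_linear_avoid 𝒜 m₀ hloc hfin.toFinset (by
    intro P hP
    rw [Set.Finite.mem_toFinset] at hP
    obtain ⟨hprime, z, hz⟩ := isAssociatedPrime_iff.1 hP
    refine ⟨hprime, ?_⟩
    by_contra hcon
    push Not at hcon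
    have hle : a ≤ P := by
      rw [ha1, Ideal.span_le]
      intro r hr
      exact hcon r hr
    have hz0 : z = 0 := by
      apply htf
      refine ⟨1, fun r hr => ?_⟩
      rw [pow_one] at hr
      have := hle hr
      rw [hz, Submodule.mem_colon_singleton, Submodule.mem_bot] at this
      exact this
    apply hprime.ne_top
    rw [hz, hz0]
    ext r
    simp [Submodule.mem_colon_singleton])
  refine ⟨y, hy, ?_⟩
  by_contra hreg
  have : y ∈ {r : R | IsSMulRegular M r}ᶜ := hreg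
  rw [← biUnion_associatedPrimes_eq_compl_regular] at this
  simp only [Set.mem_iUnion, SetLike.mem_coe, exists_prop] at this
  obtain ⟨P, hP, hxP⟩ := this
  exact hav P (hfin.mem_toFinset.2 hP) hxP

end Avoid

end Groth.Agent.Lib.Helper20.GrLin
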