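import Mathlib
import Groth.Prelude.Def_GrLC
import Groth.Agent.Lib.Helper20.GrLin1
import Groth.Agent.Lib.Helper20.GrLES15
import Groth.Agent.Lib.helper11.SG7

/-!
# Linear regular sequences in standard graded Cohen–Macaulay rings (infinite residue field)
-/

set_option autoImplicit false
set_option linter.unusedSectionVars false
set_option linter.unusedVariables false
set_option linter.style.haveILetI false

namespace Groth.Agent.Lib.Helper20.GrLin

open DirectSum Groth.Agent.Lib.Helper26.GrProj Groth.Agent.Lib.Helper20.GrKit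
  Groth.Agent.Lib.Helper20.GrLES Groth.Agent.Lib.Helper20.GrStarLoc
  Groth.Agent.Lib.helper11.SG7

universe u

section Gam

variable {R : Type u} [CommRing R] {𝒜 : ℤ → AddSubgroup R} [GradedRing 𝒜]
  {M : Type u} [AddCommGroup M] [Module R M] {ℳ : ℤ → AddSubgroup M}
  [DirectSum.Decomposition ℳ] [SetLike.GradedSMul 𝒜 ℳ]

theorem eq_zero_of_mem_gam (E : GrLC.StarInjRes 𝒜 ℳ) (a : HomogeneousIdeal 𝒜)
    [Subsingleton (E.H a 0)] (z : M) (hz : z ∈ GrLC.gam a.toIdeal M) : z = 0 := by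
  obtain ⟨n, hn⟩ := hz
  have hc : E.ε z ∈ E.cocyc a 0 := by
    refine ⟨⟨n, fun r hr => ?_⟩, ?_⟩
    · rw [← map_smul, hn r hr, map_zero]
    · rw [E.exact_zero]
      exact ⟨z, rfl⟩
  have h1 : E.toH a 0 ⟨E.ε z, hc⟩ = 0 := Subsingleton.elim _ _
  have h2 := (Submodule.Quotient.mk_eq_zero _).1 h1
  have h3 : E.ε z ∈ E.cobdy a 0 := h2
  have h4 : E.ε z = 0 := by
    have : E.cobdy a 0 = ⊥ := rfl
    rw [this, Submodule.mem_bot] at h3
    exact h3
  exact E.ε_injective (by rw [h4, map_zero])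

end Gam

section Local

variable {R : Type u} [CommRing R] [IsNoetherianRing R] (𝒜 : ℤ → AddSubgroup R) [GradedRing 𝒜]
  [IsArtinianRing (GrLC.deg0 𝒜)]
  (hpos : ∀ n : ℤ, n < 0 → 𝒜 n = ⊥)
  (m : HomogeneousIdeal 𝒜) (hm : GrLC.IsStarLocal 𝒜 m)

include hpos hm in
theorem m0_isMaximal : (m0 𝒜 m).IsMaximal := by
  haveI hmax : m.toIdeal.IsMaximal := isMaximal 𝒜 hpos m hm
  haveI : m.toIdeal.IsPrime := hmax.isPrime
  haveI : (m0 𝒜 m).IsPrime := Ideal.IsPrime.comap _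
  exact IsArtinianRing.isMaximal_of_isPrime _

include hpos hm in
theorem le_m0 (J : Ideal (GrLC.deg0 𝒜)) (hJ : J ≠ ⊤) : J ≤ m0 𝒜 m := by
  obtain ⟨n₀, hn₀, hle⟩ := Ideal.exists_le_maximal J hJ
  have h1 := m0_le_of_isMaximal 𝒜 hpos m hm n₀ hn₀
  have h2 := (m0_isMaximal 𝒜 hpos m hm).eq_of_le hn₀.ne_top h1
  rw [h2]
  exact hle

include hpos hm in
theorem infinite_quot_m0 [hinf : Infinite (R ⧸ m.toIdeal)] :
    Infinite (GrLC.deg0 𝒜 ⧸ m0 𝒜 m) := by
  let f : (GrLC.deg0 𝒜 ⧸ m0 𝒜 m) →+* (R ⧸ m.toIdeal) :=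
    Ideal.quotientMap m.toIdeal (GrLC.deg0 𝒜).subtype (le_refl _)
  have hf : Function.Surjective f := by
    intro y
    obtain ⟨x, rfl⟩ := Ideal.Quotient.mk_surjective y
    refine ⟨Ideal.Quotient.mk _ ⟨proj 𝒜 0 x, proj_mem 𝒜 0 x⟩, ?_⟩
    change Ideal.Quotient.mk m.toIdeal (proj 𝒜 0 x) = Ideal.Quotient.mk m.toIdeal x
    rw [eq_comm, Ideal.Quotient.eq]
    exact sub_proj_zero_mem 𝒜 hpos m hm x
  exact Infinite.of_surjective f hf

end Local

section Seq

variable {R : Type u} [CommRing R] [LocCoh.IsCohenMacaulayRing R] (𝒜 : ℤ → AddSubgroup R)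
  [GradedRing 𝒜] [IsArtinianRing (GrLC.deg0 𝒜)]
  (hpos : ∀ n : ℤ, n < 0 → 𝒜 n = ⊥)
  (hstd : Ideal.span (⋃ n ∈ Set.Ioi (0 : ℤ), (𝒜 n : Set R)) =
    Ideal.span ((𝒜 1 : AddSubgroup R) : Set R))
  (m : HomogeneousIdeal 𝒜) (hm : GrLC.IsStarLocal 𝒜 m)
  [hinf : Infinite (R ⧸ m.toIdeal)]
  (d : ℕ) (hd : ringKrullDim R = d) (I : GrLC.StarInjRes 𝒜 𝒜)

include hpos hm in
theorem one_mem_m (x : R) (hx : x ∈ 𝒜 1) : x ∈ m.toIdeal :=
  pos_mem 𝒜 hpos m hm 1 one_pos x hx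

include hpos hstd hm hinf hd I in
/-- linear regular sequences of every length `≤ dim R` -/
theorem exists_linear_seq : ∀ i : ℕ, i ≤ d →
    ∃ y : Fin i → R, (∀ j, y j ∈ 𝒜 1) ∧
      RingTheory.Sequence.IsWeaklyRegular R (List.ofFn y) := by
  classical
  intro i
  induction i with
  | zero =>
    intro _
    refine ⟨Fin.elim0, fun j => j.elim0, ?_⟩
    rw [List.ofFn_zero]
    exact RingTheory.Sequence.IsWeaklyRegular.nil R R
  | succ i ih =>
    intro hi
    obtain ⟨y, hy, hreg⟩ := ih (by omega)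
    haveI : Infinite (GrLC.deg0 𝒜 ⧸ m0 𝒜 m) := infinite_quot_m0 𝒜 hpos m hm
    set J : Submodule R R := (Ideal.ofList (List.ofFn y) • ⊤ : Submodule R R) with hJdef
    have hJeq : J = Ideal.span (Set.range y) := by
      rw [hJdef, ofList_ofFn', smul_eq_mul, Ideal.mul_top]
    have hJm : J ≤ m.toIdeal := by
      rw [hJeq, Ideal.span_le]
      rintro _ ⟨j, rfl⟩
      exact one_mem_m 𝒜 hpos m hm _ (hy j)
    have hmne : m.toIdeal ≠ ⊤ := by
      intro h
      apply hm.1.1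
      apply HomogeneousIdeal.toIdeal_injective
      rw [h, HomogeneousIdeal.toIdeal_top]
    have hJ : ∀ g x, x ∈ J → proj 𝒜 g x ∈ J := by
      intro g x hx
      rw [hJeq] at hx ⊢
      have hhom : (Ideal.span (Set.range y)).IsHomogeneous 𝒜 := by
        apply Ideal.homogeneous_span
        rintro _ ⟨j, rfl⟩
        exact ⟨1, hy j⟩
      exact hhom g hx
    letI : DirectSum.Decomposition (quoGr 𝒜 J) := quoDecomposition 𝒜 J hJ
    obtain ⟨F⟩ := nonempty_starInjRes 𝒜 (quoGr 𝒜 J)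
    haveI : Nontrivial (R ⧸ J) := by
      apply Submodule.Quotient.nontrivial_iff.mpr
      intro h
      apply hmne
      rw [eq_top_iff, ← h]
      exact hJm
    have hker : LinearMap.ker J.mkQ = Ideal.span (Set.range y) • (⊤ : Submodule R R) := by
      rw [Submodule.ker_mkQ, hJdef, ofList_ofFn']
    have hch := (chain 𝒜 hpos m i R 𝒜 I d (by omega)
      (fun j hj => subsingleton_H_of_lt_dim 𝒜 hpos m hm I d hd j hj) y (fun _ => 1) hy
      (fun j => one_mem_m 𝒜 hpos m hm _ (hy j)) hreg (R ⧸ J) (quoGr 𝒜 J) J.mkQ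
      J.mkQ_surjective (mkQ_isGrHom 𝒜 J) hker F).1
    haveI : Subsingleton (F.H m 0) := hch 0 (by omega)
    have htf : ∀ z : R ⧸ J, z ∈ GrLC.gam (irr 𝒜).toIdeal (R ⧸ J) → z = 0 := by
      intro z hz
      rw [← gam_eq 𝒜 hpos m hm] at hz
      exact eq_zero_of_mem_gam F m z hz
    have ha1 : (irr 𝒜).toIdeal = Ideal.span ((𝒜 1 : AddSubgroup R) : Set R) := by
      rw [irr_toIdeal, hstd]
    obtain ⟨y', hy', hreg'⟩ := exists_linear_regular 𝒜 (m0 𝒜 m) (le_m0 𝒜 hpos m hm)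
      (irr 𝒜).toIdeal ha1 (R ⧸ J) htf
    refine ⟨Fin.snoc y y', ?_, ?_⟩
    · intro j
      refine Fin.lastCases ?_ (fun j' => ?_) j
      · rw [Fin.snoc_last]
        exact hy'
      · rw [Fin.snoc_castSucc]
        exact hy j'
    · have hfun : (fun j : Fin i => (Fin.snoc y y' : Fin (i + 1) → R) j.castSucc) = y := by
        funext j
        simp
      rw [List.ofFn_succ', hfun, Fin.snoc_last, List.concat_eq_append,
        RingTheory.Sequence.isWeaklyRegular_append_iff,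
        RingTheory.Sequence.isWeaklyRegular_singleton_iff]
      exact ⟨hreg, hreg'⟩

end Seq

end Groth.Agent.Lib.Helper20.GrLin
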