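import Mathlib
import Groth.Prelude.Def_GrLC
import Groth.Agent.Lib.Helper20.GrLin2
import Groth.Agent.Lib.Helper20.GrCanW1
import Groth.Agent.Lib.Helper20.GrLES17
import Groth.Agent.Lib.helper11.SG5

/-!
# A maximal linear regular sequence generates the irrelevant ideal when `a(R) = -dim R`
-/

set_option autoImplicit false
set_option linter.unusedSectionVars false
set_option linter.unusedVariables false
set_option linter.style.haveILetI false

namespace Groth.Agent.Lib.Helper20.GrLin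

open DirectSum Groth.Agent.Lib.Helper26.GrProj Groth.Agent.Lib.Helper20.GrKit
  Groth.Agent.Lib.Helper20.GrLES Groth.Agent.Lib.Helper20.GrStarLoc
  Groth.Agent.Lib.Helper20.GrCanW
  Groth.Agent.Lib.helper11.SG7

universe u

section Dim

open RingTheory.Sequence Module

variable {R : Type u} [CommRing R] [IsNoetherianRing R]

theorem supportDim_add_length_le {M : Type u} [AddCommGroup M] [Module R M] [Module.Finite R M]
    (rs : List R) (reg : IsWeaklyRegular M rs) :
    supportDim R (M ⧸ Ideal.ofList rs • (⊤ : Submodule R M)) + rs.length ≤ supportDim R M := by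
  induction rs generalizing M with
  | nil =>
    rw [Ideal.ofList_nil, Submodule.bot_smul]
    simpa using (supportDim_eq_of_equiv (Submodule.quotEquivOfEqBot ⊥ rfl)).le
  | cons x rs' ih =>
    obtain ⟨h1, h2⟩ := (isWeaklyRegular_cons_iff M _ _).mp reg
    rw [supportDim_eq_of_equiv (Submodule.quotOfListConsSMulTopEquivQuotSMulTopInner M x _)]
    have e : (((x :: rs').length : ℕ) : WithBot ℕ∞) = (rs'.length : WithBot ℕ∞) + 1 := by simp
    rw [e, ← add_assoc]
    refine le_trans (add_le_add_left (ih h2) 1) ?_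
    exact supportDim_quotSMulTop_succ_le_of_notMem_minimalPrimes
      (fun _ => h1.notMem_of_mem_minimalPrimes)

theorem ringKrullDim_add_length_le (rs : List R) (reg : IsWeaklyRegular R rs) :
    ringKrullDim (R ⧸ Ideal.ofList rs) + rs.length ≤ ringKrullDim R := by
  have eq : Ideal.ofList rs = Ideal.ofList rs • (⊤ : Ideal R) := by simp
  rw [ringKrullDim_eq_of_ringEquiv (Ideal.quotientEquivAlgOfEq R eq).toRingEquiv,
    ← supportDim_quotient_eq_ringKrullDim, ← supportDim_self_eq_ringKrullDim]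
  exact supportDim_add_length_le rs reg

end Dim

section Main

variable {R : Type u} [CommRing R] [LocCoh.IsCohenMacaulayRing R] (𝒜 : ℤ → AddSubgroup R)
  [GradedRing 𝒜] [IsArtinianRing (GrLC.deg0 𝒜)]
  (hpos : ∀ n : ℤ, n < 0 → 𝒜 n = ⊥)
  (m : HomogeneousIdeal 𝒜) (hm : GrLC.IsStarLocal 𝒜 m)
  (d : ℕ) (hd : ringKrullDim R = d) (I : GrLC.StarInjRes 𝒜 𝒜)

include hpos hm hd in
theorem one_le_span (y : Fin d → R) (hy : ∀ j, y j ∈ 𝒜 1)
    (hreg : RingTheory.Sequence.IsWeaklyRegular R (List.ofFn y))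
    (ha : GrLC.endDeg (I.Hgr m d) = (((-(d : ℤ) : ℤ) : WithTop ℤ) : WithBot (WithTop ℤ))) :
    ∀ x ∈ 𝒜 1, x ∈ Ideal.span (Set.range y) := by
  classical
  have hmne : m.toIdeal ≠ ⊤ := by
    intro h
    apply hm.1.1
    apply HomogeneousIdeal.toIdeal_injective
    rw [h, HomogeneousIdeal.toIdeal_top]
  let J : Submodule R R := Ideal.span (Set.range y)
  have hym : ∀ j, y j ∈ m.toIdeal := fun j => pos_mem 𝒜 hpos m hm 1 one_pos _ (hy j)
  have hJm : J ≤ m.toIdeal := by
    change Ideal.span (Set.range y) ≤ m.toIdeal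
    rw [Ideal.span_le]
    rintro _ ⟨j, rfl⟩
    exact hym j
  have hJ : ∀ g x, x ∈ J → proj 𝒜 g x ∈ J := by
    intro g x hx
    have hhom : (Ideal.span (Set.range y)).IsHomogeneous 𝒜 := by
      apply Ideal.homogeneous_span
      rintro _ ⟨j, rfl⟩
      exact ⟨1, hy j⟩
    exact hhom g hx
  letI : DirectSum.Decomposition (quoGr 𝒜 J) := quoDecomposition 𝒜 J hJ
  obtain ⟨F⟩ := nonempty_starInjRes 𝒜 (quoGr 𝒜 J)
  have hregX : RingTheory.Sequence.IsRegular R (List.ofFn y) := by
    refine ⟨hreg, ?_⟩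
    rw [ofList_ofFn', Ideal.smul_eq_mul, Ideal.mul_top]
    intro h
    apply hmne
    rw [eq_top_iff, h]
    exact hJm
  have hchain := s18645 𝒜 hpos m hm d hd I d le_rfl y (fun _ => 1) hy hym hregX
    (R ⧸ J) (quoGr 𝒜 J) J.mkQ (mkQ_isGrHom 𝒜 J) J.mkQ_surjective (Submodule.ker_mkQ J) F
  rw [Nat.sub_self, ha] at hchain
  have harith : ((((-(d : ℤ)) : ℤ) : WithTop ℤ) : WithBot (WithTop ℤ)) +
      ((((Finset.univ : Finset (Fin d)).sum fun _ => (1 : ℤ) : ℤ) : WithTop ℤ) :
        WithBot (WithTop ℤ)) = (((0 : ℤ) : WithTop ℤ) : WithBot (WithTop ℤ)) := by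
    rw [← WithBot.coe_add, ← WithTop.coe_add]
    simp
  rw [harith] at hchain
  -- `R ⧸ J` is Artinian
  have hdim : ringKrullDim (R ⧸ (Ideal.span (Set.range y) : Ideal R)) ≤ 0 := by
    have h1 := ringKrullDim_add_length_le (List.ofFn y) hreg
    rw [ofList_ofFn', List.length_ofFn, hd] at h1
    generalize ringKrullDim (R ⧸ (Ideal.span (Set.range y) : Ideal R)) = t at h1 ⊢
    induction t using WithBot.recBotCoe with
    | bot => exact bot_le
    | coe t =>
      induction t using ENat.recTopCoe with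
      | top =>
        exfalso
        have h2 : ((⊤ : ℕ∞) : WithBot ℕ∞) + (d : WithBot ℕ∞) = ((⊤ : ℕ∞) : WithBot ℕ∞) := by
          rw [show (d : WithBot ℕ∞) = ((d : ℕ∞) : WithBot ℕ∞) from rfl, ← WithBot.coe_add, top_add]
        rw [h2] at h1
        have h3 : (⊤ : ℕ∞) ≤ (d : ℕ∞) := by exact_mod_cast h1
        exact absurd h3 (by simp)
      | coe t =>
        have h2 : t + d ≤ d := by exact_mod_cast h1
        have h3 : t = 0 := by omega
        rw [h3]
        rfl
  haveI : Ring.KrullDimLE 0 (R ⧸ (Ideal.span (Set.range y) : Ideal R)) :=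
    Ring.krullDimLE_iff.2 (by exact_mod_cast hdim)
  haveI : IsArtinianRing (R ⧸ (Ideal.span (Set.range y) : Ideal R)) :=
    IsNoetherianRing.isArtinianRing_of_krullDimLE_zero
  haveI : IsArtinian R (R ⧸ J) :=
    isArtinian_of_surjective_algebraMap (R := R ⧸ (Ideal.span (Set.range y) : Ideal R)) (S := R)
      (M := R ⧸ (Ideal.span (Set.range y) : Ideal R)) Ideal.Quotient.mk_surjective
  obtain ⟨n₀, hn₀⟩ := exists_pieces_eq_bot 𝒜 hpos (quoGr 𝒜 J)
  have htors : ∀ z : R ⧸ J, z ∈ GrLC.gam m.toIdeal (R ⧸ J) := by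
    intro z
    rw [gam_eq 𝒜 hpos m hm]
    exact Groth.Agent.Lib.helper11.SG5.torsion_of_bounded 𝒜 hpos (irr 𝒜) (irr_toIdeal 𝒜)
      (quoGr 𝒜 J) n₀ hn₀ z
  have hendF : GrLC.endDeg (F.Hgr m 0) = GrLC.endDeg (quoGr 𝒜 J) :=
    endDeg_congr _ _ (fun g => Hgr_zero_eq_bot_iff F m htors g)
  rw [hendF] at hchain
  have hbot : quoGr 𝒜 J 1 = ⊥ := by
    apply piece_eq_bot_of_endDeg_lt
    rw [hchain, WithBot.coe_lt_coe, WithTop.coe_lt_coe]
    exact one_pos
  intro x hx
  have h1 : J.mkQ x ∈ quoGr 𝒜 J 1 := mkQ_mem_quoGr 𝒜 hx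
  rw [hbot, AddSubgroup.mem_bot, Submodule.mkQ_apply, Submodule.Quotient.mk_eq_zero] at h1
  exact h1

end Main

end Groth.Agent.Lib.Helper20.GrLin
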