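import Mathlib
import Groth.Prelude.Def_GrLC
import Groth.Agent.Lib.Helper20.GrLin3
import Groth.Agent.Lib.Helper20.GrPoly1
import Groth.Agent.Lib.Helper21.QuasiReg

/-!
# S19881: `a(R) = -d` implies `R ≅ R_0[T_1, …, T_d]` (infinite residue field)
-/

set_option autoImplicit false
set_option linter.unusedSectionVars false
set_option linter.unusedVariables false
set_option linter.style.haveILetI false

namespace Groth.Agent.Lib.Helper20.GrLin

open DirectSum Groth.Agent.Lib.Helper26.GrProj Groth.Agent.Lib.Helper20.GrKit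
  Groth.Agent.Lib.Helper20.GrLES Groth.Agent.Lib.Helper20.GrStarLoc
  MvPolynomial

universe u

section Eval

variable {R : Type u} [CommRing R] [IsNoetherianRing R] (𝒜 : ℤ → AddSubgroup R) [GradedRing 𝒜]
  (hpos : ∀ n : ℤ, n < 0 → 𝒜 n = ⊥)
  {d : ℕ} (y : Fin d → R) (hy : ∀ j, y j ∈ 𝒜 1)

include hy in
theorem prod_pow_mem (s : Fin d →₀ ℕ) :
    (s.prod fun i k => y i ^ k) ∈ 𝒜 ((∑ i ∈ s.support, s i : ℕ) : ℤ) := by
  have := SetLike.prod_pow_mem_graded 𝒜 (fun _ : Fin d => (1 : ℤ)) y (F := s.support) (fun i => s i)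
    (fun k _ => hy k)
  have e : (∑ k ∈ s.support, s k • (1 : ℤ)) = ((∑ i ∈ s.support, s i : ℕ) : ℤ) := by
    push_cast
    refine Finset.sum_congr rfl fun i _ => ?_
    simp
  rw [e] at this
  exact this

include hy in
theorem aeval_mem (n : ℕ) (p : MvPolynomial (Fin d) (GrLC.deg0 𝒜)) (hp : p.IsHomogeneous n) :
    aeval y p ∈ 𝒜 (n : ℤ) := by
  classical
  rw [← p.support_sum_monomial_coeff, map_sum]
  apply AddSubgroup.sum_mem
  intro s hs
  rw [aeval_monomial]
  have h1 := prod_pow_mem 𝒜 y hy s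
  rw [← hp.degree_eq_sum_deg_support hs] at h1
  have h2 : algebraMap (GrLC.deg0 𝒜) R (coeff s p) ∈ 𝒜 0 := (coeff s p).2
  have h3 := SetLike.mul_mem_graded h2 h1
  rwa [zero_add] at h3

include hpos hy in
theorem proj_zero_of_mem_span_range (x : R) (hx : x ∈ Ideal.span (Set.range y)) :
    proj 𝒜 0 x = 0 := by
  apply proj_zero_of_mem_span 𝒜 hpos x
  refine Ideal.span_mono ?_ hx
  rintro _ ⟨j, rfl⟩
  simp only [Set.mem_iUnion, Set.mem_Ioi, SetLike.mem_coe, exists_prop]
  exact ⟨1, one_pos, hy j⟩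

include hpos hy in
theorem aeval_injective (hqr : Groth.Agent.Lib.Helper21.QuasiReg.QR y) :
    Function.Injective (aeval (R := GrLC.deg0 𝒜) y) := by
  classical
  rw [injective_iff_map_eq_zero]
  intro p hp
  have hcomp : ∀ n, homogeneousComponent n p = 0 := by
    intro n
    by_cases hn : p.totalDegree < n
    · exact homogeneousComponent_eq_zero n p hn
    have hq : (homogeneousComponent n p).IsHomogeneous n := homogeneousComponent_isHomogeneous n p
    have hmem : ∀ i : ℕ, aeval y (homogeneousComponent i p) ∈ 𝒜 (i : ℤ) :=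
      fun i => aeval_mem 𝒜 y hy i _ (homogeneousComponent_isHomogeneous i p)
    have hq0 : aeval y (homogeneousComponent n p) = 0 := by
      have hsum : aeval y p =
          ∑ i ∈ Finset.range (p.totalDegree + 1), aeval y (homogeneousComponent i p) := by
        conv_lhs => rw [← sum_homogeneousComponent p, map_sum]
      have h1 := congrArg (proj 𝒜 (n : ℤ)) hsum
      rw [hp, proj_zero, proj_sum, Finset.sum_eq_single n] at h1
      · rw [proj_of_mem_same 𝒜 (hmem n)] at h1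
        exact h1.symm
      · intro i _ hin
        apply proj_of_mem_ne 𝒜 (hmem i)
        intro h
        apply hin
        exact_mod_cast h
      · intro h
        exfalso
        apply h
        rw [Finset.mem_range]
        omega
    -- quasi-regularity
    set q := homogeneousComponent n p with hqdef
    have hP : (map (algebraMap (GrLC.deg0 𝒜) R) q).IsHomogeneous n := hq.map _
    have hev : eval y (map (algebraMap (GrLC.deg0 𝒜) R) q) = 0 := by
      rw [eval_map, ← aeval_def]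
      exact hq0
    ext s
    rw [coeff_zero]
    have h2 := hqr n _ hP (by rw [hev]; exact zero_mem _) s
    rw [coeff_map] at h2
    have h3 := proj_zero_of_mem_span_range 𝒜 hpos y hy _ h2
    have h4 : algebraMap (GrLC.deg0 𝒜) R (coeff s q) ∈ 𝒜 0 := (coeff s q).2
    rw [proj_of_mem_same 𝒜 h4] at h3
    have h5 : ((coeff s q : GrLC.deg0 𝒜) : R) = ((0 : GrLC.deg0 𝒜) : R) := h3
    exact h5
  rw [← sum_homogeneousComponent p]
  exact Finset.sum_eq_zero fun i _ => hcomp i

end Eval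

section Main

variable {R : Type u} [CommRing R] [LocCoh.IsCohenMacaulayRing R] (𝒜 : ℤ → AddSubgroup R)
  [GradedRing 𝒜] [IsArtinianRing (GrLC.deg0 𝒜)]
  (hpos : ∀ n : ℤ, n < 0 → 𝒜 n = ⊥)
  (hstd : Ideal.span (⋃ n ∈ Set.Ioi (0 : ℤ), (𝒜 n : Set R)) =
    Ideal.span ((𝒜 1 : AddSubgroup R) : Set R))
  (m : HomogeneousIdeal 𝒜) (hm : GrLC.IsStarLocal 𝒜 m)
  (hinf : Infinite (R ⧸ m.toIdeal))
  (d : ℕ) (hd : ringKrullDim R = d) (I : GrLC.StarInjRes 𝒜 𝒜)

include hpos hstd in
theorem aeval_surjective (y : Fin d → R) (hy : ∀ j, y j ∈ 𝒜 1)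
    (h1 : ∀ x ∈ 𝒜 1, x ∈ Ideal.span (Set.range y)) :
    Function.Surjective (aeval (R := GrLC.deg0 𝒜) y) := by
  classical
  set φ := aeval (R := GrLC.deg0 𝒜) y with hφ
  have hX : ∀ i, y i ∈ φ.range := fun i => ⟨X i, aeval_X _ i⟩
  intro x
  have hx : x ∈ φ.range.toSubring := by
    apply Groth.Agent.Lib.Helper20.GrPoly.mem_subring 𝒜 hpos hstd
    · intro a ha
      refine ⟨C ⟨a, ha⟩, ?_⟩
      rw [AlgHom.toRingHom_eq_coe, RingHom.coe_coe, hφ, aeval_C]
      rfl
    · intro a ha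
      obtain ⟨c, hc⟩ := (Submodule.mem_span_range_iff_exists_fun R).1 (h1 a ha)
      have h2 : a = ∑ j, proj 𝒜 0 (c j) * y j := by
        conv_lhs => rw [← proj_of_mem_same 𝒜 ha, ← hc, proj_sum]
        refine Finset.sum_congr rfl fun j _ => ?_
        have := proj_smul_of_mem_right 𝒜 𝒜 (hy j) 1 (c j)
        rw [sub_self, smul_eq_mul] at this
        exact this
      change a ∈ φ.range
      rw [h2]
      refine Subalgebra.sum_mem _ fun j _ => Subalgebra.mul_mem _ ?_ (hX j)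
      exact ⟨C ⟨proj 𝒜 0 (c j), proj_mem 𝒜 0 (c j)⟩, by
        rw [AlgHom.toRingHom_eq_coe, RingHom.coe_coe, hφ, aeval_C]; rfl⟩
  exact hx

include hpos hstd hm hinf hd in
theorem s19881
    (ha : GrLC.endDeg (I.Hgr m d) = (((-(d : ℤ) : ℤ) : WithTop ℤ) : WithBot (WithTop ℤ))) :
    ∃ e : MvPolynomial (Fin d) (GrLC.deg0 𝒜) ≃ₐ[GrLC.deg0 𝒜] R,
      ∀ t : Fin d, e (MvPolynomial.X t) ∈ 𝒜 1 := by
  haveI := hinf
  obtain ⟨y, hy, hreg⟩ := exists_linear_seq 𝒜 hpos hstd m hm d hd I d le_rfl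
  have h1 := one_le_span 𝒜 hpos m hm d hd I y hy hreg ha
  have hsurj := aeval_surjective 𝒜 hpos hstd d y hy h1
  have hinj := aeval_injective 𝒜 hpos y hy
    (Groth.Agent.Lib.Helper21.QuasiReg.qr_of_isWeaklyRegular y hreg)
  refine ⟨AlgEquiv.ofBijective (aeval (R := GrLC.deg0 𝒜) y) ⟨hinj, hsurj⟩, fun t => ?_⟩
  rw [AlgEquiv.coe_ofBijective, aeval_X]
  exact hy t

end Main

end Groth.Agent.Lib.Helper20.GrLin
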