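import Mathlib

/-! Graded Nakayama lemma for non-negatively graded modules. -/

set_option autoImplicit false

namespace Groth.Agent.Lib.Helper20.GrNak

universe u

theorem graded_nakayama {R : Type u} [CommRing R] {σ : Type u} [SetLike σ R] [AddSubmonoidClass σ R]
    (𝒜 : ℕ → σ) [GradedRing 𝒜]
    {M : Type u} [AddCommGroup M] [Module R M] {τ : Type u} [SetLike τ M] [AddSubmonoidClass τ M]
    (ℳ : ℕ → τ) [DirectSum.Decomposition ℳ] [SetLike.GradedSMul 𝒜 ℳ]
    (N : Submodule R M) (hN : ∀ x ∈ N, ∀ i : ℕ, (DirectSum.decompose ℳ x i : M) ∈ N)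
    (h : (HomogeneousIdeal.irrelevant 𝒜).toIdeal • (⊤ : Submodule R M) ⊔ N = ⊤) :
    N = ⊤ := by
  classical
  have hhom : ∀ d : ℕ, ∀ x ∈ ℳ d, x ∈ N := by
    intro d
    induction d using Nat.strong_induction_on with
    | _ d ih =>
      have key : ∀ y ∈ (HomogeneousIdeal.irrelevant 𝒜).toIdeal • (⊤ : Submodule R M),
          ((DirectSum.decompose ℳ y d : ℳ d) : M) ∈ N := by
        intro y hy
        refine Submodule.smul_induction_on
          (p := fun y => ((DirectSum.decompose ℳ y d : ℳ d) : M) ∈ N) hy ?_ ?_
        · intro r hr m _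
          have e : r • m = ∑ i ∈ (DirectSum.decompose 𝒜 r).support,
              ∑ j ∈ (DirectSum.decompose ℳ m).support,
                ((DirectSum.decompose 𝒜 r i : 𝒜 i) : R) • ((DirectSum.decompose ℳ m j : ℳ j) : M) := by
            conv_lhs => rw [← DirectSum.sum_support_decompose 𝒜 r,
              ← DirectSum.sum_support_decompose ℳ m]
            rw [Finset.sum_smul]
            simp_rw [Finset.smul_sum]
          rw [e, DirectSum.decompose_sum, DFinsupp.finsetSum_apply, AddSubmonoidClass.coe_finsetSum]
          apply N.sum_mem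
          intro i _
          rw [DirectSum.decompose_sum, DFinsupp.finsetSum_apply, AddSubmonoidClass.coe_finsetSum]
          apply N.sum_mem
          intro j _
          have hmem : ((DirectSum.decompose 𝒜 r i : 𝒜 i) : R) •
              ((DirectSum.decompose ℳ m j : ℳ j) : M) ∈ ℳ (i + j) := by
            have := SetLike.GradedSMul.smul_mem (A := 𝒜) (B := ℳ)
              (SetLike.coe_mem (DirectSum.decompose 𝒜 r i))
              (SetLike.coe_mem (DirectSum.decompose ℳ m j))
            rwa [vadd_eq_add] at this
          by_cases hij : i + j = d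
          · rw [DirectSum.decompose_of_mem_same ℳ (hij ▸ hmem)]
            by_cases hi : i = 0
            · subst hi
              have h0 := (HomogeneousIdeal.mem_irrelevant_iff 𝒜 r).mp hr
              rw [GradedRing.proj_apply] at h0
              rw [h0, zero_smul]
              exact N.zero_mem
            · have hjd : j < d := by omega
              exact N.smul_mem _ (ih j hjd _ (SetLike.coe_mem _))
          · rw [DirectSum.decompose_of_mem_ne ℳ hmem hij]
            exact N.zero_mem
        · intro y1 y2 h1 h2
          show ((DirectSum.decompose ℳ (y1 + y2) d : ℳ d) : M) ∈ N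
          rw [DirectSum.decompose_add, DirectSum.add_apply, AddMemClass.coe_add]
          exact N.add_mem h1 h2
      intro x hx
      have hxtop : x ∈ (HomogeneousIdeal.irrelevant 𝒜).toIdeal • (⊤ : Submodule R M) ⊔ N := by
        rw [h]; trivial
      obtain ⟨y, hy, z, hz, hyz⟩ := Submodule.mem_sup.mp hxtop
      have hcomp : ((DirectSum.decompose ℳ x d : ℳ d) : M) = x :=
        DirectSum.decompose_of_mem_same ℳ hx
      rw [← hcomp, ← hyz, DirectSum.decompose_add, DirectSum.add_apply, AddMemClass.coe_add]
      exact N.add_mem (key y hy) (hN z hz d)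
  rw [eq_top_iff]
  intro x _
  rw [← DirectSum.sum_support_decompose ℳ x]
  apply N.sum_mem
  intro i _
  exact hhom i _ (SetLike.coe_mem _)

end Groth.Agent.Lib.Helper20.GrNak
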