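import Groth.Agent.Lib.Helper20.GrNak

/-! Homogeneous elements generating modulo the irrelevant ideal generate. -/

set_option autoImplicit false

namespace Groth.Agent.Lib.Helper20.GrNak2

universe u

theorem span_eq_top {R S : Type u} [CommRing R] [CommRing S] [Algebra R S]
    (𝒜 : ℕ → Submodule R S) [GradedAlgebra 𝒜]
    (M : Type u) [AddCommGroup M] [Module R M] [Module S M] [IsScalarTower R S M]
    (ℳ : ℕ → Submodule R M) [DirectSum.Decomposition ℳ] [SetLike.GradedSMul 𝒜 ℳ]
    {n : ℕ} (x : Fin n → M) (hx : ∀ i, SetLike.IsHomogeneousElem ℳ (x i))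
    (h : Submodule.span S (Set.range x) ⊔
      (HomogeneousIdeal.irrelevant 𝒜).toIdeal • (⊤ : Submodule S M) = ⊤) :
    Submodule.span S (Set.range x) = ⊤ := by
  classical
  apply GrNak.graded_nakayama 𝒜 ℳ (Submodule.span S (Set.range x)) _ (by rw [sup_comm]; exact h)
  -- homogeneity of the span
  have key : ∀ y ∈ Submodule.span S (Set.range x), ∀ (s : S) (d : ℕ),
      ((DirectSum.decompose ℳ (s • y) d : ℳ d) : M) ∈ Submodule.span S (Set.range x) := by
    intro y hy
    induction hy using Submodule.span_induction with
    | mem y hy =>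
      obtain ⟨i, rfl⟩ := hy
      obtain ⟨e, he⟩ := hx i
      intro s d
      have hs := DirectSum.sum_support_decompose 𝒜 s
      have e1 : s • x i = ∑ j ∈ (DirectSum.decompose 𝒜 s).support,
          ((DirectSum.decompose 𝒜 s j : 𝒜 j) : S) • x i := by
        rw [← Finset.sum_smul, hs]
      rw [e1, DirectSum.decompose_sum, DFinsupp.finsetSum_apply, AddSubmonoidClass.coe_finsetSum]
      apply Submodule.sum_mem
      intro j _
      have hmem : ((DirectSum.decompose 𝒜 s j : 𝒜 j) : S) • x i ∈ ℳ (j + e) := by
        have := SetLike.GradedSMul.smul_mem (A := 𝒜) (B := ℳ)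
          (SetLike.coe_mem (DirectSum.decompose 𝒜 s j)) he
        rwa [vadd_eq_add] at this
      by_cases hj : j + e = d
      · rw [DirectSum.decompose_of_mem_same ℳ (hj ▸ hmem)]
        exact Submodule.smul_mem _ _ (Submodule.subset_span ⟨i, rfl⟩)
      · rw [DirectSum.decompose_of_mem_ne ℳ hmem hj]
        exact Submodule.zero_mem _
    | zero =>
      intro s d
      rw [smul_zero, DirectSum.decompose_zero]
      simp
    | add u v _ _ hu hv =>
      intro s d
      rw [smul_add, DirectSum.decompose_add, DirectSum.add_apply, Submodule.coe_add]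
      exact Submodule.add_mem _ (hu s d) (hv s d)
    | smul a u _ hu =>
      intro s d
      rw [← mul_smul]
      exact hu (s * a) d
  intro y hy d
  have := key y hy 1 d
  rwa [one_smul] at this

end Groth.Agent.Lib.Helper20.GrNak2
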