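import Mathlib

namespace Groth.Agent.Lib.Helper20.GrPieceMul

open DirectSum Finset

universe u

variable {R A : Type u} [CommRing R] [CommRing A] [Algebra R A]
variable (𝒜 : ℤ → Submodule R A) [GradedAlgebra 𝒜]
variable {p : ℕ} (f : Fin p → A) (deg : Fin p → ℤ)

/-- monomial in the generators -/
noncomputable def mon (α : Fin p → ℕ) : A := ∏ i, f i ^ α i

/-- degree of monomial -/
def dg (α : Fin p → ℕ) : ℤ := ∑ i, α i • deg i

variable {f deg}

theorem mon_mem (hf : ∀ i, f i ∈ 𝒜 (deg i)) (α : Fin p → ℕ) : mon f α ∈ 𝒜 (dg deg α) := by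
  unfold mon dg
  exact SetLike.prod_mem_graded 𝒜 (fun i => α i • deg i) (fun i => f i ^ α i)
    (fun i _ => SetLike.pow_mem_graded (α i) (hf i))

omit [GradedAlgebra 𝒜] in
theorem mon_add_single (α : Fin p → ℕ) (i : Fin p) :
    mon f (α + Pi.single i 1) = mon f α * f i := by
  unfold mon
  simp only [Pi.add_apply, pow_add]
  rw [Finset.prod_mul_distrib]
  congr 1
  rw [Finset.prod_eq_single i]
  · rw [Pi.single_eq_same, pow_one]
  · intro j _ hj
    rw [Pi.single_eq_of_ne hj, pow_zero]
  · intro h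
    exact absurd (Finset.mem_univ i) h

theorem dg_add_single (α : Fin p → ℕ) (i : Fin p) :
    dg deg (α + Pi.single i 1) = dg deg α + deg i := by
  unfold dg
  simp only [Pi.add_apply, add_smul]
  rw [Finset.sum_add_distrib]
  congr 1
  rw [Finset.sum_eq_single i]
  · rw [Pi.single_eq_same, one_smul]
  · intro j _ hj
    rw [Pi.single_eq_of_ne hj, zero_smul]
  · intro h
    exact absurd (Finset.mem_univ i) h

omit [GradedAlgebra 𝒜] in
theorem mon_split (α : Fin p → ℕ) (i : Fin p) (e : ℕ) (he : e ≤ α i) :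
    mon f α = f i ^ e * mon f (Function.update α i (α i - e)) := by
  unfold mon
  rw [← Finset.mul_prod_erase univ _ (Finset.mem_univ i),
    ← Finset.mul_prod_erase univ (fun j => f j ^ Function.update α i (α i - e) j) (Finset.mem_univ i)]
  rw [Function.update_self, ← mul_assoc, ← pow_add, Nat.add_sub_cancel' he]
  congr 1
  refine Finset.prod_congr rfl fun j hj => ?_
  rw [Function.update_of_ne (Finset.ne_of_mem_erase hj)]

theorem dg_split (α : Fin p → ℕ) (i : Fin p) (e : ℕ) (he : e ≤ α i) :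
    dg deg α = e • deg i + dg deg (Function.update α i (α i - e)) := by
  unfold dg
  rw [← Finset.add_sum_erase univ _ (Finset.mem_univ i),
    ← Finset.add_sum_erase univ (fun j => Function.update α i (α i - e) j • deg j) (Finset.mem_univ i)]
  rw [Function.update_self, ← add_assoc, ← add_smul, Nat.add_sub_cancel' he]
  congr 1
  refine Finset.sum_congr rfl fun j hj => ?_
  rw [Function.update_of_ne (Finset.ne_of_mem_erase hj)]

/-- homogeneous coefficients -/
theorem exists_coeffs (hf : ∀ i, f i ∈ 𝒜 (deg i))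
    (hgen : Ideal.span {a : A | ∃ n : ℤ, 0 < n ∧ a ∈ 𝒜 n} = Ideal.span (Set.range f))
    (n : ℤ) (hn : 0 < n) (c : A) (hc : c ∈ 𝒜 n) :
    ∃ b : Fin p → A, (∀ i, b i ∈ 𝒜 (n - deg i)) ∧ c = ∑ i, b i * f i := by
  have hmem : c ∈ Ideal.span (Set.range f) := by
    rw [← hgen]
    exact Ideal.subset_span ⟨n, hn, hc⟩
  obtain ⟨a, ha⟩ := Ideal.mem_span_range_iff_exists_fun.1 hmem
  refine ⟨fun i => (decompose 𝒜 (a i) (n - deg i) : A), fun i => SetLike.coe_mem _, ?_⟩
  have h1 : c = (decompose 𝒜 c n : A) := (DirectSum.decompose_of_mem_same 𝒜 hc).symm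
  rw [h1, ← ha, DirectSum.decompose_sum, DFinsupp.finsetSum_apply, AddSubmonoidClass.coe_finsetSum]
  refine Finset.sum_congr rfl fun i _ => ?_
  have := DirectSum.coe_decompose_mul_add_of_right_mem 𝒜 (i := n - deg i) (a := a i) (hf i)
  rw [sub_add_cancel] at this
  exact this

theorem main (hdeg : ∀ i, 0 < deg i) (hf : ∀ i, f i ∈ 𝒜 (deg i))
    (hgen : Ideal.span {a : A | ∃ n : ℤ, 0 < n ∧ a ∈ 𝒜 n} = Ideal.span (Set.range f))
    (d : ℤ) (e : Fin p → ℕ) (he : ∀ i, d = e i • deg i) (N : ℤ)
    (hN : ∑ i, (d - deg i) < N) :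
    ∀ (k : ℕ) (α : Fin p → ℕ), ∑ i, e i ≤ ∑ i, α i + k → ∀ c ∈ 𝒜 (N - dg deg α),
      mon f α * c ∈ 𝒜 d * 𝒜 (N - d) := by
  -- the direct case
  have direct : ∀ (α : Fin p → ℕ) (i : Fin p), e i ≤ α i → ∀ c ∈ 𝒜 (N - dg deg α),
      mon f α * c ∈ 𝒜 d * 𝒜 (N - d) := by
    intro α i hi c hc
    rw [mon_split α i (e i) hi, mul_assoc]
    refine Submodule.mul_mem_mul ?_ ?_
    · rw [he i]
      exact SetLike.pow_mem_graded (e i) (hf i)
    · have h1 := mon_mem 𝒜 hf (Function.update α i (α i - e i))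
      have h2 := SetLike.mul_mem_graded h1 hc
      have h3 : dg deg (Function.update α i (α i - e i)) + (N - dg deg α) = N - d := by
        rw [dg_split α i (e i) hi, ← he i]
        ring
      rw [h3] at h2
      exact h2
  -- the inductive step
  have step : ∀ (α : Fin p → ℕ), (∀ i, α i < e i) →
      (∀ i, ∀ b ∈ 𝒜 (N - dg deg (α + Pi.single i 1)), mon f (α + Pi.single i 1) * b ∈
        𝒜 d * 𝒜 (N - d)) → ∀ c ∈ 𝒜 (N - dg deg α), mon f α * c ∈ 𝒜 d * 𝒜 (N - d) := by
    intro α hex ih c hc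
    have hdg : dg deg α ≤ ∑ i, (d - deg i) := by
      unfold dg
      refine Finset.sum_le_sum fun i _ => ?_
      have h1 : α i + 1 ≤ e i := hex i
      have h2 : (α i + 1) • deg i ≤ e i • deg i :=
        nsmul_le_nsmul_left (hdeg i).le h1
      rw [he i]
      rw [add_smul, one_smul] at h2
      linarith
    have hpos : 0 < N - dg deg α := by linarith
    obtain ⟨b, hb, hcb⟩ := exists_coeffs 𝒜 hf hgen _ hpos c hc
    rw [hcb, Finset.mul_sum]
    refine Submodule.sum_mem _ fun i _ => ?_
    have h1 : mon f α * (b i * f i) = mon f (α + Pi.single i 1) * b i := by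
      rw [mon_add_single]
      ring
    rw [h1]
    refine ih i (b i) ?_
    have := hb i
    rw [dg_add_single]
    have h2 : N - (dg deg α + deg i) = N - dg deg α - deg i := by ring
    rw [h2]
    exact this
  have hsum : ∀ (α : Fin p → ℕ) (i : Fin p),
      ∑ j, (α + Pi.single i 1 : Fin p → ℕ) j = ∑ j, α j + 1 := by
    intro α i
    simp only [Pi.add_apply]
    rw [Finset.sum_add_distrib]
    congr 1
    rw [Finset.sum_eq_single i]
    · rw [Pi.single_eq_same]
    · intro j _ hj
      rw [Pi.single_eq_of_ne hj]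
    · intro h
      exact absurd (Finset.mem_univ i) h
  intro k
  induction k with
  | zero =>
    intro α hα c hc
    by_cases hex : ∃ i, e i ≤ α i
    · obtain ⟨i, hi⟩ := hex
      exact direct α i hi c hc
    · push_neg at hex
      refine step α hex (fun i => ?_) c hc
      exfalso
      have : ∑ i, α i < ∑ i, e i :=
        Finset.sum_lt_sum_of_nonempty ⟨i, Finset.mem_univ _⟩ (fun i _ => hex i)
      omega
  | succ k ih =>
    intro α hα c hc
    by_cases hex : ∃ i, e i ≤ α i
    · obtain ⟨i, hi⟩ := hex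
      exact direct α i hi c hc
    · push_neg at hex
      refine step α hex (fun i b hb => ?_) c hc
      refine ih (α + Pi.single i 1) ?_ b hb
      rw [hsum]
      omega

theorem result' (hdeg : ∀ i, 0 < deg i) (hf : ∀ i, f i ∈ 𝒜 (deg i))
    (hgen : Ideal.span {a : A | ∃ n : ℤ, 0 < n ∧ a ∈ 𝒜 n} = Ideal.span (Set.range f))
    (d : ℤ) (hd : 0 < d) (hdvd : ∀ i, deg i ∣ d) (N : ℤ) (hN : d * p - ∑ i, deg i < N) :
    𝒜 N = 𝒜 d * 𝒜 (N - d) := by
  apply le_antisymm
  · have hex : ∀ i, ∃ e : ℕ, d = e • deg i := by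
      intro i
      obtain ⟨c, hc⟩ := hdvd i
      have hcpos : 0 < c := by
        by_contra hneg
        push_neg at hneg
        have : deg i * c ≤ 0 := mul_nonpos_of_nonneg_of_nonpos (hdeg i).le hneg
        linarith
      refine ⟨c.toNat, ?_⟩
      rw [nsmul_eq_mul, Int.toNat_of_nonneg hcpos.le, hc]
      ring
    choose e he using hex
    have hN' : ∑ i : Fin p, (d - deg i) < N := by
      rw [Finset.sum_sub_distrib, Finset.sum_const, Finset.card_univ, Fintype.card_fin,
        nsmul_eq_mul]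
      linarith
    intro x hx
    have := main 𝒜 hdeg hf hgen d e he N hN' (∑ i, e i) 0 (by simp) x (by
      have : dg deg (0 : Fin p → ℕ) = 0 := by
        unfold dg
        simp
      rw [this, sub_zero]
      exact hx)
    have h1 : mon f (0 : Fin p → ℕ) = 1 := by
      unfold mon
      simp
    rw [h1, one_mul] at this
    exact this
  · rw [Submodule.mul_le]
    intro a ha b hb
    have := SetLike.mul_mem_graded ha hb
    rw [add_sub_cancel] at this
    exact this

end Groth.Agent.Lib.Helper20.GrPieceMul
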