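import Mathlib
import Groth.Prelude.Def_GrLC
import Groth.Agent.Lib.Helper20.GrPoly1
import Groth.Agent.Lib.helper11.SG8

/-!
# Standard graded rings over a field: `R ⧸ m^t` and the Hilbert function
-/

set_option autoImplicit false
set_option linter.unusedSectionVars false
set_option linter.unusedVariables false
set_option linter.style.haveILetI false

namespace Groth.Agent.Lib.Helper20.GrPoly

open DirectSum Groth.Agent.Lib.Helper26.GrProj Groth.Agent.Lib.Helper20.GrKit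
  Groth.Agent.Lib.Helper20.GrLES Groth.Agent.Lib.Helper20.GrArt
  Groth.Agent.Lib.Helper20.GrStarLoc

universe u

section Field

variable {R : Type u} [CommRing R] (𝒜 : ℤ → AddSubgroup R) [GradedRing 𝒜]
  (hpos : ∀ n : ℤ, n < 0 → 𝒜 n = ⊥) (h0 : IsField (GrLC.deg0 𝒜))
  (m : HomogeneousIdeal 𝒜) (hm : GrLC.IsStarLocal 𝒜 m)
  (hmsp : m.toIdeal = Ideal.span (⋃ n ∈ Set.Ioi (0 : ℤ), (𝒜 n : Set R)))
  (hstd : Ideal.span (⋃ n ∈ Set.Ioi (0 : ℤ), (𝒜 n : Set R)) =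
    Ideal.span ((𝒜 1 : AddSubgroup R) : Set R))

/-- the Hilbert function -/
noncomputable def hf (i : ℕ) : ℕ := Module.finrank (GrLC.deg0 𝒜) (GrLC.comp 𝒜 𝒜 (i : ℤ))

theorem proj_sub (l : ℤ) (x y : R) : proj 𝒜 l (x - y) = proj 𝒜 l x - proj 𝒜 l y := by
  have h : x = (x - y) + y := by ring
  conv_rhs => rw [h, proj_add]
  ring

/-- the sum map `⊕_{i<t} R_i → R ⧸ m^t` -/
noncomputable def sumMap (t : ℕ) :
    (∀ i : Fin t, GrLC.comp 𝒜 𝒜 ((i : ℕ) : ℤ)) →ₗ[GrLC.deg0 𝒜] (R ⧸ m.toIdeal ^ t) :=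
  ((Submodule.mkQ (m.toIdeal ^ t)).restrictScalars (GrLC.deg0 𝒜)).comp
    (∑ i : Fin t, (GrLC.comp 𝒜 𝒜 ((i : ℕ) : ℤ)).subtype.comp (LinearMap.proj i))

theorem sumMap_apply (t : ℕ) (f : ∀ i : Fin t, GrLC.comp 𝒜 𝒜 ((i : ℕ) : ℤ)) :
    sumMap 𝒜 m t f = Submodule.Quotient.mk (∑ i : Fin t, (f i : R)) := by
  simp only [sumMap, LinearMap.coe_comp, LinearMap.coe_restrictScalars, Function.comp_apply,
    LinearMap.sum_apply, Submodule.coe_subtype, LinearMap.proj_apply, Submodule.mkQ_apply]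

theorem proj_sum_pieces (t : ℕ) (f : ∀ i : Fin t, GrLC.comp 𝒜 𝒜 ((i : ℕ) : ℤ)) (j : Fin t) :
    proj 𝒜 ((j : ℕ) : ℤ) (∑ i : Fin t, (f i : R)) = (f j : R) := by
  classical
  rw [proj_sum, Finset.sum_eq_single j]
  · exact proj_of_mem_same 𝒜 (f j).2
  · intro i _ hij
    apply proj_of_mem_ne 𝒜 (f i).2
    intro h
    apply hij
    apply Fin.ext
    exact_mod_cast h
  · intro h
    exact absurd (Finset.mem_univ j) h

include hpos hmsp in
theorem sumMap_injective (t : ℕ) : Function.Injective (sumMap 𝒜 m t) := by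
  rw [← LinearMap.ker_eq_bot, LinearMap.ker_eq_bot']
  intro f hf
  rw [sumMap_apply, Submodule.Quotient.mk_eq_zero] at hf
  have h1 := pow_le_geSub 𝒜 hpos m hmsp t hf
  funext j
  apply Subtype.ext
  rw [← proj_sum_pieces 𝒜 t f j]
  have hlt : ((j : ℕ) : ℤ) < (t : ℤ) := by exact_mod_cast j.2
  rw [h1 _ hlt]
  rfl

include hpos hmsp hstd in
theorem sumMap_surjective (t : ℕ) : Function.Surjective (sumMap 𝒜 m t) := by
  classical
  intro y
  obtain ⟨x, rfl⟩ := Submodule.Quotient.mk_surjective _ y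
  refine ⟨fun i => ⟨proj 𝒜 ((i : ℕ) : ℤ) x, proj_mem 𝒜 _ x⟩, ?_⟩
  rw [sumMap_apply, eq_comm, ← sub_eq_zero, ← Submodule.Quotient.mk_sub,
    Submodule.Quotient.mk_eq_zero]
  apply geSub_le_pow 𝒜 hpos m hmsp hstd t
  intro l hl
  rw [proj_sub]
  by_cases hl0 : l < 0
  · have h1 := proj_mem 𝒜 l x
    have h2 := proj_mem 𝒜 l (∑ i : Fin t, proj 𝒜 ((i : ℕ) : ℤ) x)
    rw [hpos l hl0, AddSubgroup.mem_bot] at h1 h2
    rw [h1, h2, sub_zero]
  · have hl' : ((l.toNat : ℕ) : ℤ) = l := Int.toNat_of_nonneg (by omega)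
    have hlt : l.toNat < t := by omega
    have := proj_sum_pieces 𝒜 t (fun i => ⟨proj 𝒜 ((i : ℕ) : ℤ) x, proj_mem 𝒜 _ x⟩)
      ⟨l.toNat, hlt⟩
    simp only [hl'] at this
    rw [this, sub_self]

include hpos hmsp hstd in
theorem finite_quot_pow [IsNoetherianRing R] (t : ℕ) :
    Module.Finite (GrLC.deg0 𝒜) (R ⧸ m.toIdeal ^ t) := by
  haveI : ∀ i : Fin t, Module.Finite (GrLC.deg0 𝒜) (GrLC.comp 𝒜 𝒜 ((i : ℕ) : ℤ)) := by
    intro i
    haveI := isNoetherian_comp 𝒜 𝒜 ((i : ℕ) : ℤ)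
    infer_instance
  exact Module.Finite.of_surjective (sumMap 𝒜 m t) (sumMap_surjective 𝒜 hpos m hmsp hstd t)

include hpos h0 hmsp hstd in
theorem finrank_quot_pow [IsNoetherianRing R] (t : ℕ) :
    Module.finrank (GrLC.deg0 𝒜) (R ⧸ m.toIdeal ^ t) = ∑ i ∈ Finset.range t, hf 𝒜 i := by
  letI : Field (GrLC.deg0 𝒜) := h0.toField
  haveI : ∀ i : Fin t, Module.Finite (GrLC.deg0 𝒜) (GrLC.comp 𝒜 𝒜 ((i : ℕ) : ℤ)) := by
    intro i
    haveI := isNoetherian_comp 𝒜 𝒜 ((i : ℕ) : ℤ)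
    infer_instance
  have e := LinearEquiv.ofBijective (sumMap 𝒜 m t)
    ⟨sumMap_injective 𝒜 hpos m hmsp t, sumMap_surjective 𝒜 hpos m hmsp hstd t⟩
  rw [← e.finrank_eq, Module.finrank_pi_fintype, ← Fin.sum_univ_eq_sum_range]
  rfl

include hpos hm in
theorem algebraMap_surjective [IsNoetherianRing R] :
    Function.Surjective (algebraMap (GrLC.deg0 𝒜) (R ⧸ m.toIdeal)) := by
  intro y
  obtain ⟨x, rfl⟩ := Ideal.Quotient.mk_surjective y
  refine ⟨⟨proj 𝒜 0 x, proj_mem 𝒜 0 x⟩, ?_⟩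
  change Ideal.Quotient.mk m.toIdeal (proj 𝒜 0 x) = Ideal.Quotient.mk m.toIdeal x
  rw [eq_comm, Ideal.Quotient.eq]
  exact sub_proj_zero_mem 𝒜 hpos m hm x

include h0 in
/-- the Hilbert function as a length -/
theorem hilb_eq_hf [IsNoetherianRing R] (i : ℕ) :
    Groth.Agent.Lib.helper11.SG2.hilb 𝒜 𝒜 (i : ℤ) = (hf 𝒜 i : ℚ) := by
  letI : Field (GrLC.deg0 𝒜) := h0.toField
  haveI := isNoetherian_comp 𝒜 𝒜 ((i : ℕ) : ℤ)
  unfold Groth.Agent.Lib.helper11.SG2.hilb Groth.Agent.Lib.helper11.SG1.L hf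
  rw [Module.length_eq_finrank]
  rfl

end Field

end Groth.Agent.Lib.Helper20.GrPoly
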