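import Mathlib

/-!
# Two auxiliary facts: a polynomial with prescribed roots, and surjections from polynomial rings
-/

set_option autoImplicit false
set_option linter.unusedSectionVars false
set_option linter.unusedVariables false
set_option linter.style.haveILetI false

namespace Groth.Agent.Lib.Helper20.GrPoly

universe u

open Polynomial in
/-- a polynomial of degree `< r` vanishing at `-1, …, -(r-1)` with value `1` at `0` takes the
value `r` at `1` (it is `binom (X + r - 1) (r - 1)`). -/
theorem eval_one_eq (r : ℕ) (P : ℚ[X]) (hdeg : P.degree < (r : WithBot ℕ))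
    (hroots : ∀ j : ℕ, 1 ≤ j → j < r → P.eval (-(j : ℚ)) = 0)
    (h0 : 0 < r → P.eval 0 = 1) : P.eval 1 = (r : ℚ) := by
  classical
  rcases Nat.eq_zero_or_pos r with hr | hr
  · subst hr
    have hP : P = 0 := by
      by_contra h
      rw [Polynomial.degree_eq_natDegree h] at hdeg
      have : P.natDegree < 0 := by exact_mod_cast hdeg
      omega
    rw [hP]
    simp
  · obtain ⟨q, rfl⟩ : ∃ q, r = q + 1 := ⟨r - 1, by omega⟩
    set Q : ℚ[X] := ∏ j ∈ Finset.range q, (X + C ((j : ℚ) + 1)) with hQ
    have hQ0 : Q.eval 0 = (q.factorial : ℚ) := by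
      rw [hQ, Polynomial.eval_prod]
      simp only [eval_add, eval_X, eval_C, zero_add]
      rw [← Finset.prod_range_add_one_eq_factorial]
      push_cast
      rfl
    have hQ1 : Q.eval 1 = ((q + 1).factorial : ℚ) := by
      rw [hQ, Polynomial.eval_prod]
      simp only [eval_add, eval_X, eval_C]
      rw [← Finset.prod_range_add_one_eq_factorial, Finset.prod_range_succ']
      push_cast
      rw [mul_one]
      refine Finset.prod_congr rfl fun j _ => ?_
      ring
    have hQroot : ∀ j : ℕ, 1 ≤ j → j < q + 1 → Q.eval (-(j : ℚ)) = 0 := by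
      intro j hj1 hjq
      rw [hQ, Polynomial.eval_prod]
      apply Finset.prod_eq_zero (i := j - 1) (Finset.mem_range.2 (by omega))
      simp only [eval_add, eval_X, eval_C]
      have : ((j - 1 : ℕ) : ℚ) = (j : ℚ) - 1 := by
        rw [Nat.cast_sub hj1]; simp
      rw [this]
      ring
    have hQdeg : Q.degree ≤ (q : WithBot ℕ) := by
      rw [hQ]
      refine le_trans (Polynomial.degree_prod_le _ _) ?_
      calc ∑ i ∈ Finset.range q, (X + C ((i : ℚ) + 1)).degree
          ≤ ∑ i ∈ Finset.range q, (1 : WithBot ℕ) := by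
            apply Finset.sum_le_sum
            intro i _
            rw [Polynomial.degree_X_add_C]
        _ = (q : WithBot ℕ) := by simp
    have hqf : (q.factorial : ℚ) ≠ 0 := by exact_mod_cast q.factorial_ne_zero
    set c : ℚ := 1 / (q.factorial : ℚ) with hc
    have hD : P - C c * Q = 0 := by
      apply Polynomial.eq_zero_of_degree_lt_of_eval_finset_eq_zero
        ((Finset.range (q + 1)).image (fun j : ℕ => -(j : ℚ)))
      · have hcard : ((Finset.range (q + 1)).image (fun j : ℕ => -(j : ℚ))).card = q + 1 := by
          rw [Finset.card_image_of_injective, Finset.card_range]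
          intro a b hab
          have : (a : ℚ) = b := neg_injective hab
          exact_mod_cast this
        rw [hcard]
        refine lt_of_le_of_lt (Polynomial.degree_sub_le _ _) ?_
        rw [max_lt_iff]
        refine ⟨hdeg, ?_⟩
        rw [Polynomial.degree_C_mul (by rw [hc]; positivity)]
        refine lt_of_le_of_lt hQdeg ?_
        exact_mod_cast Nat.lt_succ_self q
      · intro x hx
        obtain ⟨j, hj, rfl⟩ := Finset.mem_image.1 hx
        have hj' : j < q + 1 := Finset.mem_range.1 hj
        rw [eval_sub, eval_mul, eval_C]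
        rcases Nat.eq_zero_or_pos j with hj0 | hj0
        · subst hj0
          simp only [Nat.cast_zero, neg_zero]
          rw [h0 (Nat.succ_pos q), hQ0, hc]
          field_simp
          ring
        · rw [hroots j hj0 hj', hQroot j hj0 hj', mul_zero, sub_zero]
    have hP : P = C c * Q := sub_eq_zero.1 hD
    rw [hP, eval_mul, eval_C, hQ1, hc, Nat.factorial_succ]
    push_cast
    field_simp

/-- a surjection from a polynomial ring in `s ≤ dim A` variables over a field onto `A` is
bijective, and `s = dim A`. -/
theorem injective_of_dim {K : Type u} [Field K] {A : Type u} [CommRing A] [Algebra K A] (s r : ℕ)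
    (φ : MvPolynomial (Fin s) K →ₐ[K] A) (hφ : Function.Surjective φ)
    (hr : ringKrullDim A = r) (hsr : s ≤ r) : s = r ∧ Function.Injective φ := by
  have hs : ringKrullDim (MvPolynomial (Fin s) K) = s := by
    rw [MvPolynomial.ringKrullDim_of_isNoetherianRing, ringKrullDim_eq_zero_of_field, zero_add]
    simp
  have h1 : ringKrullDim A ≤ ringKrullDim (MvPolynomial (Fin s) K) :=
    ringKrullDim_le_of_surjective φ.toRingHom hφ
  rw [hr, hs] at h1
  have hrs : r ≤ s := by exact_mod_cast h1
  have hsr' : s = r := le_antisymm hsr hrs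
  refine ⟨hsr', ?_⟩
  rw [injective_iff_map_eq_zero]
  intro f hf
  by_contra hne
  have hnzd : f ∈ nonZeroDivisors (MvPolynomial (Fin s) K) := mem_nonZeroDivisors_of_ne_zero hne
  have h2 := ringKrullDim_quotient_succ_le_of_nonZeroDivisor hnzd
  have hker : ∀ a ∈ Ideal.span {f}, φ.toRingHom a = 0 := by
    intro a ha
    obtain ⟨b, rfl⟩ := Ideal.mem_span_singleton'.1 ha
    change φ (b * f) = 0
    rw [map_mul, hf, mul_zero]
  have h3 : ringKrullDim A ≤ ringKrullDim (MvPolynomial (Fin s) K ⧸ Ideal.span {f}) :=
    ringKrullDim_le_of_surjective (Ideal.Quotient.lift (Ideal.span {f}) φ.toRingHom hker)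
      (Ideal.Quotient.lift_surjective_of_surjective _ hker hφ)
  rw [hs] at h2
  rw [hr] at h3
  have h4 : ((r : ℕ) : WithBot ℕ∞) + 1 ≤ (s : WithBot ℕ∞) :=
    le_trans (add_le_add_left h3 1) h2
  rw [hsr'] at h4
  have h5 : r + 1 ≤ r := by exact_mod_cast h4
  omega

end Groth.Agent.Lib.Helper20.GrPoly
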