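import Mathlib

/-!
# The dimension of `k[X] ⧸ (I + (X)^t)` for a homogeneous ideal `I`
-/

set_option autoImplicit false
set_option linter.unusedSectionVars false
set_option linter.unusedVariables false
set_option linter.style.haveILetI false

universe u v

namespace Groth.Agent.Lib.Helper20.HilbDim

open MvPolynomial

attribute [local instance] MvPolynomial.gradedAlgebra

variable {k : Type u} [Field k] {σ : Type v} [Finite σ] (I : Ideal (MvPolynomial σ k))

instance finite_piece (m : ℕ) : Module.Finite k ↥(homogeneousSubmodule σ k m) :=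
  Module.Finite.iff_fg.2 (homogeneousSubmodule_fg σ k m)

/-- `I ∩ R_i` as a subspace of `R_i`. -/
noncomputable def pieceI (i : ℕ) : Submodule k ↥(homogeneousSubmodule σ k i) :=
  (Submodule.restrictScalars k I).comap (homogeneousSubmodule σ k i).subtype

/-- the Hilbert function of `R ⧸ I` -/
noncomputable def hf (i : ℕ) : ℕ :=
  Module.finrank k ↥(homogeneousSubmodule σ k i) -
    Module.finrank k ↥(Submodule.restrictScalars k I ⊓ homogeneousSubmodule σ k i)

theorem finrank_inf_le (i : ℕ) :
    Module.finrank k ↥(Submodule.restrictScalars k I ⊓ homogeneousSubmodule σ k i) ≤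
      Module.finrank k ↥(homogeneousSubmodule σ k i) :=
  Submodule.finrank_mono inf_le_right

theorem finrank_pieceI (i : ℕ) :
    Module.finrank k ↥(pieceI I i) =
      Module.finrank k ↥(Submodule.restrictScalars k I ⊓ homogeneousSubmodule σ k i) := by
  have e : ↥(pieceI I i) ≃ₗ[k]
      ↥(Submodule.restrictScalars k I ⊓ homogeneousSubmodule σ k i) := by
    have hmem : ∀ x : ↥(pieceI I i),
        ((homogeneousSubmodule σ k i).subtype ∘ₗ (pieceI I i).subtype) x ∈
          Submodule.restrictScalars k I ⊓ homogeneousSubmodule σ k i :=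
      fun x => Submodule.mem_inf.2 ⟨x.2, x.1.2⟩
    refine LinearEquiv.ofBijective
      (LinearMap.codRestrict _ ((homogeneousSubmodule σ k i).subtype ∘ₗ (pieceI I i).subtype)
        hmem) ⟨?_, ?_⟩
    · intro x y hxy
      apply Subtype.ext
      apply Subtype.ext
      exact congrArg (fun z : ↥(Submodule.restrictScalars k I ⊓ homogeneousSubmodule σ k i) =>
        (z : MvPolynomial σ k)) hxy
    · rintro ⟨y, hy1, hy2⟩
      exact ⟨⟨⟨y, hy2⟩, hy1⟩, rfl⟩
  exact e.finrank_eq

/-- the graded piece `R_i ⧸ I_i` of `R ⧸ I` -/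
def Qt (i : ℕ) : Type (max u v) := ↥(homogeneousSubmodule σ k i) ⧸ pieceI I i

noncomputable instance (i : ℕ) : AddCommGroup (Qt I i) :=
  inferInstanceAs (AddCommGroup (↥(homogeneousSubmodule σ k i) ⧸ pieceI I i))

noncomputable instance (i : ℕ) : Module k (Qt I i) :=
  inferInstanceAs (Module k (↥(homogeneousSubmodule σ k i) ⧸ pieceI I i))

instance (i : ℕ) : Module.Finite k (Qt I i) :=
  inferInstanceAs (Module.Finite k (↥(homogeneousSubmodule σ k i) ⧸ pieceI I i))

/-- the quotient map `R_i → R_i ⧸ I_i` -/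
noncomputable def qmk (i : ℕ) : ↥(homogeneousSubmodule σ k i) →ₗ[k] Qt I i := (pieceI I i).mkQ

theorem qmk_surjective (i : ℕ) : Function.Surjective (qmk I i) :=
  Submodule.mkQ_surjective _

theorem qmk_eq_zero_iff (i : ℕ) (x : ↥(homogeneousSubmodule σ k i)) :
    qmk I i x = 0 ↔ (x : MvPolynomial σ k) ∈ I :=
  Submodule.Quotient.mk_eq_zero _

theorem finrank_quot_pieceI (i : ℕ) :
    Module.finrank k (Qt I i) = hf I i := by
  have := Submodule.finrank_quotient_add_finrank (pieceI I i)
  rw [finrank_pieceI] at this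
  unfold hf
  change Module.finrank k (↥(homogeneousSubmodule σ k i) ⧸ pieceI I i) = _
  omega

/-- the truncated "Hilbert map" -/
noncomputable def phi (t : ℕ) :
    MvPolynomial σ k →ₗ[k] ((i : Fin t) → Qt I i) :=
  LinearMap.pi fun i : Fin t =>
    qmk I i ∘ₗ LinearMap.codRestrict (homogeneousSubmodule σ k i)
      (homogeneousComponent (i : ℕ)) (fun x => homogeneousComponent_mem _ x)

theorem phi_apply (t : ℕ) (x : MvPolynomial σ k) (i : Fin t) :
    phi I t x i = qmk I i ⟨homogeneousComponent (i : ℕ) x, homogeneousComponent_mem _ x⟩ :=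
  rfl

theorem phi_eq_zero_iff (t : ℕ) (x : MvPolynomial σ k) :
    phi I t x = 0 ↔ ∀ i < t, homogeneousComponent i x ∈ I := by
  constructor
  · intro h i hi
    have := congrFun h ⟨i, hi⟩
    rw [phi_apply, Pi.zero_apply, qmk_eq_zero_iff] at this
    exact this
  · intro h
    funext i
    rw [phi_apply, Pi.zero_apply, qmk_eq_zero_iff]
    exact h i i.2

theorem phi_surjective (t : ℕ) : Function.Surjective (phi I t) := by
  classical
  intro y
  choose z hz using fun i : Fin t => qmk_surjective I i (y i)
  refine ⟨∑ i : Fin t, (z i : MvPolynomial σ k), ?_⟩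
  funext j
  rw [phi_apply, ← hz j]
  congr 1
  apply Subtype.ext
  change homogeneousComponent (j : ℕ) (∑ i : Fin t, (z i : MvPolynomial σ k)) = (z j : _)
  rw [map_sum, Finset.sum_eq_single j]
  · rw [homogeneousComponent_of_mem (z j).2, if_pos rfl]
  · intro i _ hij
    rw [homogeneousComponent_of_mem (z i).2, if_neg]
    intro h
    exact hij (Fin.ext h.symm)
  · intro h
    exact absurd (Finset.mem_univ j) h

theorem mem_pow_iff (t : ℕ) (x : MvPolynomial σ k) :
    x ∈ idealOfVars σ k ^ t ↔ ∀ i < t, homogeneousComponent i x = 0 := by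
  rw [mem_pow_idealOfVars_iff']
  constructor
  · intro h i hi
    ext d
    rw [coeff_homogeneousComponent, coeff_zero]
    split_ifs with hd
    · exact h d (hd ▸ hi)
    · rfl
  · intro h d hd
    have := congrArg (coeff d) (h _ hd)
    rwa [coeff_homogeneousComponent, if_pos rfl, coeff_zero] at this

variable (hI : I.IsHomogeneous (homogeneousSubmodule σ k))

include hI in
theorem mem_ker_phi (t : ℕ) (x : MvPolynomial σ k) :
    phi I t x = 0 ↔ x ∈ I ⊔ idealOfVars σ k ^ t := by
  classical
  rw [phi_eq_zero_iff]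
  constructor
  · intro h
    have hy : ∑ i ∈ Finset.range t, homogeneousComponent i x ∈ I :=
      Ideal.sum_mem _ fun i hi => h i (Finset.mem_range.1 hi)
    have hz : x - ∑ i ∈ Finset.range t, homogeneousComponent i x ∈ idealOfVars σ k ^ t := by
      rw [mem_pow_iff]
      intro j hj
      rw [map_sub, map_sum, Finset.sum_eq_single j]
      · rw [homogeneousComponent_of_mem (homogeneousComponent_mem j x), if_pos rfl, sub_self]
      · intro i _ hij
        rw [homogeneousComponent_of_mem (homogeneousComponent_mem i x), if_neg (Ne.symm hij)]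
      · intro hj'
        exact absurd (Finset.mem_range.2 hj) hj'
    have := Submodule.add_mem_sup hy hz
    rwa [add_sub_cancel] at this
  · intro hx i hi
    obtain ⟨y, hy, z, hz, rfl⟩ := Submodule.mem_sup.1 hx
    rw [map_add, (mem_pow_iff t z).1 hz i hi, add_zero]
    exact homogeneousComponent_mem_of_mem hI hy i

include hI in
theorem ker_phi (t : ℕ) :
    LinearMap.ker (phi I t) =
      LinearMap.ker (Ideal.Quotient.mkₐ k (I ⊔ idealOfVars σ k ^ t)).toLinearMap := by
  ext x
  rw [LinearMap.mem_ker, LinearMap.mem_ker, mem_ker_phi I hI]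
  change _ ↔ Ideal.Quotient.mk _ x = 0
  rw [Ideal.Quotient.eq_zero_iff_mem]


/-- the quotient by an ideal as the quotient by the kernel of the quotient map -/
noncomputable def e0 {R : Type v} [CommRing R] [Algebra k R] (J : Ideal R) :
    (R ⧸ LinearMap.ker (Ideal.Quotient.mkₐ k J).toLinearMap) ≃ₗ[k] (R ⧸ J) :=
  (Ideal.Quotient.mkₐ k J).toLinearMap.quotKerEquivOfSurjective
    (Ideal.Quotient.mkₐ_surjective k _)

include hI in
/-- the comparison isomorphism -/
noncomputable def quotEquiv (t : ℕ) :
    (MvPolynomial σ k ⧸ (I ⊔ idealOfVars σ k ^ t)) ≃ₗ[k]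
      ((i : Fin t) → Qt I i) := by
  have e1 := (e0 (k := k) (I ⊔ idealOfVars σ k ^ t)).symm
  have e2 : (MvPolynomial σ k ⧸ LinearMap.ker (phi I t)) ≃ₗ[k]
      ((i : Fin t) → Qt I i) :=
    LinearMap.quotKerEquivOfSurjective (phi I t) (phi_surjective I t)
  rw [ker_phi I hI t] at e2
  exact e1.trans e2

include hI in
theorem finrank_quot (t : ℕ) :
    Module.finrank k (MvPolynomial σ k ⧸ (I ⊔ idealOfVars σ k ^ t)) =
      ∑ i ∈ Finset.range t, hf I i := by
  rw [(quotEquiv I hI t).finrank_eq, Module.finrank_pi_fintype]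
  simp only [finrank_quot_pieceI]
  rw [Finset.sum_range]

include hI in
theorem finite_quot (t : ℕ) :
    Module.Finite k (MvPolynomial σ k ⧸ (I ⊔ idealOfVars σ k ^ t)) :=
  Module.Finite.equiv (quotEquiv I hI t).symm

end Groth.Agent.Lib.Helper20.HilbDim
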