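import Mathlib

/-!
# Length over a `k`-algebra with residue field `k` equals dimension over `k`
for modules killed by a power of the maximal ideal.
-/

set_option autoImplicit false
set_option linter.unusedSectionVars false
set_option linter.unusedVariables false
set_option linter.style.haveILetI false

universe u v w

namespace Groth.Agent.Lib.Helper20.HilbDim

section

variable {k : Type u} [Field k] {A : Type v} [CommRing A] [Algebra k A] (𝔪 : Ideal A)
  (h : Function.Surjective (algebraMap k (A ⧸ 𝔪)))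

include h in
/-- A module killed by `𝔪`, where `k → A ⧸ 𝔪` is onto: the `A`-length is the `k`-length. -/
theorem length_quot_smul_top (N : Type w) [AddCommGroup N] [Module A N] [Module k N]
    [IsScalarTower k A N] :
    Module.length A (N ⧸ 𝔪 • (⊤ : Submodule A N)) =
      Module.length k (N ⧸ 𝔪 • (⊤ : Submodule A N)) := by
  haveI : IsScalarTower k (A ⧸ 𝔪) (N ⧸ 𝔪 • (⊤ : Submodule A N)) := by
    refine ⟨fun c x y => ?_⟩
    obtain ⟨a, rfl⟩ := Ideal.Quotient.mk_surjective x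
    obtain ⟨n, rfl⟩ := Submodule.Quotient.mk_surjective _ y
    change (c • Ideal.Quotient.mk 𝔪 a) • Submodule.Quotient.mk n =
      c • (Ideal.Quotient.mk 𝔪 a • Submodule.Quotient.mk n)
    have h1 : c • Ideal.Quotient.mk 𝔪 a = Ideal.Quotient.mk 𝔪 (c • a) := rfl
    rw [h1, Module.Quotient.mk_smul_mk, Module.Quotient.mk_smul_mk, smul_assoc]
    rfl
  rw [Module.length_eq_of_surjective (S := A) (R := A ⧸ 𝔪) Ideal.Quotient.mk_surjective,
    Module.length_eq_of_surjective (S := k) (R := A ⧸ 𝔪) h]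

include h in
theorem length_eq_of_pow_smul_eq_bot (t : ℕ) :
    ∀ (N : Type w) [AddCommGroup N] [Module A N] [Module k N] [IsScalarTower k A N],
      𝔪 ^ t • (⊤ : Submodule A N) = ⊥ → Module.length A N = Module.length k N := by
  induction t with
  | zero =>
    intro N _ _ _ _ hN
    rw [pow_zero, Ideal.one_eq_top, Submodule.top_smul] at hN
    haveI : Subsingleton N := by
      refine ⟨fun a b => ?_⟩
      have ha : a ∈ (⊤ : Submodule A N) := Submodule.mem_top
      have hb : b ∈ (⊤ : Submodule A N) := Submodule.mem_top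
      rw [hN, Submodule.mem_bot] at ha hb
      rw [ha, hb]
    rw [Module.length_eq_zero, Module.length_eq_zero]
  | succ t ih =>
    intro N _ _ _ _ hN
    set N' : Submodule A N := 𝔪 • (⊤ : Submodule A N) with hN'
    have hA := Module.length_eq_add_of_exact N'.subtype N'.mkQ N'.injective_subtype
      (Submodule.mkQ_surjective _) (LinearMap.exact_subtype_mkQ N')
    have hk := Module.length_eq_add_of_exact (N'.subtype.restrictScalars k)
      (N'.mkQ.restrictScalars k) N'.injective_subtype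
      (Submodule.mkQ_surjective _) (LinearMap.exact_subtype_mkQ N')
    have h1 : 𝔪 ^ t • (⊤ : Submodule A N') = ⊥ := by
      apply Submodule.map_injective_of_injective N'.injective_subtype
      rw [Submodule.map_smul'', Submodule.map_top, Submodule.range_subtype, Submodule.map_bot, hN',
        ← mul_smul, ← pow_succ]
      exact hN
    rw [hA, hk, ih N' h1, length_quot_smul_top 𝔪 h N]

end

section loc

variable {k : Type u} [Field k] {A : Type v} [CommRing A] [Algebra k A] (𝔪 : Ideal A)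
  [hmax : 𝔪.IsMaximal] (h : Function.Surjective (algebraMap k (A ⧸ 𝔪)))

theorem pow_smul_top_eq_bot (t : ℕ) :
    𝔪 ^ t • (⊤ : Submodule A (A ⧸ 𝔪 ^ t)) = ⊥ := by
  rw [eq_bot_iff, Submodule.smul_le]
  intro r hr n _
  obtain ⟨a, rfl⟩ := Ideal.Quotient.mk_surjective n
  rw [Submodule.mem_bot]
  change Ideal.Quotient.mk _ (r * a) = 0
  rw [Ideal.Quotient.eq_zero_iff_mem]
  exact Ideal.mul_mem_right _ _ hr

include h in
/-- the `A`-length of `A ⧸ 𝔪^t` -/
theorem length_quot_pow (t : ℕ) [Module.Finite k (A ⧸ 𝔪 ^ t)] :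
    Module.length A (A ⧸ 𝔪 ^ t) = (Module.finrank k (A ⧸ 𝔪 ^ t) : ℕ∞) := by
  rw [length_eq_of_pow_smul_eq_bot (k := k) 𝔪 h t _ (pow_smul_top_eq_bot 𝔪 t),
    Module.length_eq_finrank]

/-- the localization at the maximal ideal -/
abbrev Sl : Type v := Localization.AtPrime 𝔪

theorem algebraMap_surjective_loc (t : ℕ) :
    Function.Surjective (algebraMap A (Sl 𝔪 ⧸ IsLocalRing.maximalIdeal (Sl 𝔪) ^ t)) := by
  intro y
  obtain ⟨x, rfl⟩ :=
    (IsLocalization.AtPrime.equivQuotMaximalIdealPow 𝔪 (Sl 𝔪) t).surjective y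
  obtain ⟨a, rfl⟩ := Ideal.Quotient.mk_surjective x
  exact ⟨a, rfl⟩

include h in
theorem length_loc_aux (t : ℕ) [Module.Finite k (A ⧸ 𝔪 ^ t)] :
    Module.length (Sl 𝔪) (Sl 𝔪 ⧸ IsLocalRing.maximalIdeal (Sl 𝔪) ^ t) =
      (Module.finrank k (A ⧸ 𝔪 ^ t) : ℕ∞) := by
  rw [Module.length_eq_of_surjective (S := Sl 𝔪) (R := Sl 𝔪 ⧸ IsLocalRing.maximalIdeal (Sl 𝔪) ^ t)
      Ideal.Quotient.mk_surjective,
    ← Module.length_eq_of_surjective (S := A)
      (R := Sl 𝔪 ⧸ IsLocalRing.maximalIdeal (Sl 𝔪) ^ t) (algebraMap_surjective_loc 𝔪 t),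
    ← (IsLocalization.AtPrime.equivQuotMaximalIdealPow 𝔪 (Sl 𝔪) t).toLinearEquiv.length_eq,
    length_quot_pow 𝔪 h t]

include h in
/-- **The Samuel function of `A_𝔪`** is `t ↦ dim_k A ⧸ 𝔪^t`. -/
theorem length_loc (t : ℕ) [Module.Finite k (A ⧸ 𝔪 ^ t)] :
    Module.length (Sl 𝔪) (Sl 𝔪 ⧸ (Ring.jacobson (Sl 𝔪) ^ t • (⊤ : Submodule (Sl 𝔪) (Sl 𝔪)))) =
      (Module.finrank k (A ⧸ 𝔪 ^ t) : ℕ∞) := by
  have h1 : Ring.jacobson (Sl 𝔪) = IsLocalRing.maximalIdeal (Sl 𝔪) := by
    rw [← Ideal.jacobson_bot, IsLocalRing.jacobson_eq_maximalIdeal ⊥ bot_ne_top]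
  have h2 : (Ring.jacobson (Sl 𝔪) ^ t • (⊤ : Submodule (Sl 𝔪) (Sl 𝔪))) =
      IsLocalRing.maximalIdeal (Sl 𝔪) ^ t := by
    rw [h1, smul_eq_mul, Ideal.mul_top]
  rw [(Submodule.quotEquivOfEq _ _ h2).length_eq]
  exact length_loc_aux 𝔪 h t

end loc

end Groth.Agent.Lib.Helper20.HilbDim
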