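import Mathlib
import Groth.Agent.Lib.Helper20.HilbDim1
import Groth.Agent.Lib.Helper7.HilbertSection
import Groth.Agent.S3405

/-!
# Dimension from the Hilbert polynomial: the abstract statement

A Noetherian `k`-algebra `A` with a maximal ideal `𝔪` of height `dim A` and residue field `k`,
such that `dim_k A ⧸ 𝔪^t = ∑_{i<t} H i` with `H` eventually polynomial `P ≠ 0`, has dimension
`deg P + 1`.
-/

set_option autoImplicit false
set_option linter.unusedSectionVars false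
set_option linter.unusedVariables false
set_option linter.style.haveILetI false

universe u v

namespace Groth.Agent.Lib.Helper20.HilbDim

open Polynomial

/-- if `Q(t) = ∑_{i<t} H i` and `P(m) = H m` for large `t, m`, and `P ≠ 0`, then
`deg Q = deg P + 1`. -/
theorem natDegree_eq_of_sum (P Q : ℚ[X]) (hP0 : P ≠ 0) (H : ℕ → ℕ)
    (hQ : ∃ N : ℕ, ∀ t : ℕ, N ≤ t → Q.eval (t : ℚ) = ((∑ i ∈ Finset.range t, H i : ℕ) : ℚ))
    (hP : ∃ m₀ : ℕ, ∀ m : ℕ, m₀ ≤ m → P.eval (m : ℚ) = (H m : ℚ)) :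
    Q.natDegree = P.natDegree + 1 := by
  obtain ⟨N, hN⟩ := hQ
  obtain ⟨m₀, hm₀⟩ := hP
  have key : Q - taylor (-((1 : ℕ) : ℚ)) Q = taylor (-((1 : ℕ) : ℚ)) P := by
    apply Polynomial.eq_of_infinite_eval_eq
    apply Set.Infinite.mono (s := (fun t : ℕ => (t : ℚ)) '' {t : ℕ | N + m₀ + 1 ≤ t})
    · rintro _ ⟨t, ht, rfl⟩
      have ht' : N + m₀ + 1 ≤ t := ht
      obtain ⟨s, rfl⟩ : ∃ s, t = s + 1 := ⟨t - 1, by omega⟩
      simp only [Set.mem_ofPred_eq, eval_sub, taylor_eval]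
      have h1 : ((s + 1 : ℕ) : ℚ) + -((1 : ℕ) : ℚ) = (s : ℚ) := by push_cast; ring
      rw [h1, hN (s + 1) (by omega), hN s (by omega), hm₀ s (by omega), Finset.sum_range_succ]
      push_cast
      ring
    · apply Set.Infinite.image
      · intro a _ b _ hab
        exact Nat.cast_injective hab
      · exact Set.infinite_of_not_bddAbove (by
          rintro ⟨b, hb⟩
          have := hb (show N + m₀ + 1 + b + 1 ∈ {t : ℕ | N + m₀ + 1 ≤ t} from
            (by omega : N + m₀ + 1 ≤ N + m₀ + 1 + b + 1))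
          omega)
  have hQ1 : 1 ≤ Q.natDegree := by
    by_contra hlt
    have h0 : Q.natDegree = 0 := by omega
    obtain ⟨c, hc⟩ : ∃ c, Q = C c := ⟨Q.coeff 0, eq_C_of_natDegree_eq_zero h0⟩
    rw [hc, taylor_C, sub_self] at key
    apply hP0
    apply Polynomial.taylor_injective (-((1 : ℕ) : ℚ))
    rw [← key, map_zero]
  have h2 := (Groth.Agent.Lib.Helper7.HilbSec.natDegree_sub_taylor (P := Q) (d := 1) one_pos hQ1).1
  rw [key, natDegree_taylor] at h2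
  exact h2.symm

section main

variable {k : Type u} [Field k] {A : Type v} [CommRing A] [Algebra k A] [IsNoetherianRing A]
  (𝔪 : Ideal A) [hmax : 𝔪.IsMaximal] (h : Function.Surjective (algebraMap k (A ⧸ 𝔪)))

include h in
theorem dim_eq_natDegree_add_one (hfin : ∀ t : ℕ, Module.Finite k (A ⧸ 𝔪 ^ t))
    (hht : (𝔪.height : WithBot ℕ∞) = ringKrullDim A) (H : ℕ → ℕ)
    (hH : ∀ t : ℕ, Module.finrank k (A ⧸ 𝔪 ^ t) = ∑ i ∈ Finset.range t, H i)
    (P : ℚ[X]) (hP0 : P ≠ 0)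
    (hP : ∃ m₀ : ℕ, ∀ m : ℕ, m₀ ≤ m → P.eval (m : ℚ) = (H m : ℚ)) :
    ringKrullDim A = (P.natDegree : WithBot ℕ∞) + 1 := by
  haveI : IsNoetherianRing (Sl 𝔪) :=
    IsLocalization.isNoetherianRing 𝔪.primeCompl (Sl 𝔪) inferInstance
  obtain ⟨Q, ⟨N, hN⟩, hdeg⟩ := Groth.Agent.S3405.result (Sl 𝔪) (Sl 𝔪)
  rw [Module.supportDim_self_eq_ringKrullDim,
    IsLocalization.AtPrime.ringKrullDim_eq_height 𝔪 (Sl 𝔪), hht] at hdeg
  have hQ : ∃ N : ℕ, ∀ t : ℕ, N ≤ t →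
      Q.eval (t : ℚ) = ((∑ i ∈ Finset.range t, H i : ℕ) : ℚ) := by
    refine ⟨N, fun t ht => ?_⟩
    obtain ⟨ℓ, hℓ1, hℓ2⟩ := hN t ht
    haveI := hfin t
    rw [length_loc 𝔪 h t, hH t] at hℓ1
    have : ℓ = ∑ i ∈ Finset.range t, H i := by exact_mod_cast hℓ1.symm
    rw [← hℓ2, this]
  have hnd := natDegree_eq_of_sum P Q hP0 H hQ hP
  rw [← hdeg, hnd]
  push_cast
  rfl

end main

end Groth.Agent.Lib.Helper20.HilbDim
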