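import Mathlib
import Groth.Agent.Lib.Helper20.HilbDim2
import Groth.Agent.Lib.Helper20.HilbDim3
import Groth.Agent.Lib.Helper20.HilbDim4

/-!
# `dim k[X] ⧸ I = deg (Hilbert polynomial) + 1`
-/

set_option autoImplicit false
set_option linter.unusedSectionVars false
set_option linter.unusedVariables false
set_option linter.style.haveILetI false

universe u

namespace Groth.Agent.Lib.Helper20.HilbDim

open MvPolynomial

attribute [local instance] MvPolynomial.gradedAlgebra

variable {k : Type u} [Field k] {σ : Type} [Finite σ] (I : Ideal (MvPolynomial σ k))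
  (hI : I.IsHomogeneous (homogeneousSubmodule σ k))

/-- the irrelevant ideal of `k[X] ⧸ I` -/
noncomputable def mm : Ideal (MvPolynomial σ k ⧸ I) :=
  Ideal.map (Ideal.Quotient.mk I) (idealOfVars σ k)

theorem mm_pow (t : ℕ) :
    mm I ^ t = Ideal.map (Ideal.Quotient.mkₐ k I) (idealOfVars σ k ^ t) := by
  rw [mm, ← Ideal.map_pow]
  rfl

/-- `(R ⧸ I) ⧸ 𝔪^t ≃ R ⧸ (I + 𝔫^t)` -/
noncomputable def quotPowEquiv (t : ℕ) :
    ((MvPolynomial σ k ⧸ I) ⧸ mm I ^ t) ≃ₗ[k]
      (MvPolynomial σ k ⧸ (I ⊔ idealOfVars σ k ^ t)) :=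
  ((Ideal.quotientEquivAlgOfEq k (mm_pow I t)).trans
    (DoubleQuot.quotQuotEquivQuotSupₐ k I (idealOfVars σ k ^ t))).toLinearEquiv

include hI in
theorem finite_quot_mm_pow (t : ℕ) :
    Module.Finite k ((MvPolynomial σ k ⧸ I) ⧸ mm I ^ t) :=
  haveI := finite_quot I hI t
  Module.Finite.equiv (quotPowEquiv I t).symm

include hI in
theorem finrank_quot_mm_pow (t : ℕ) :
    Module.finrank k ((MvPolynomial σ k ⧸ I) ⧸ mm I ^ t) = ∑ i ∈ Finset.range t, hf I i := by
  rw [(quotPowEquiv I t).finrank_eq, finrank_quot I hI t]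

include hI in
theorem main (P : Polynomial ℚ) (hP0 : P ≠ 0)
    (hP : ∃ m₀ : ℕ, ∀ m : ℕ, m₀ ≤ m → P.eval (m : ℚ) =
      (Module.finrank k ↥(homogeneousSubmodule σ k m) : ℚ) -
        Module.finrank k ↥(Submodule.restrictScalars k I ⊓ homogeneousSubmodule σ k m)) :
    ringKrullDim (MvPolynomial σ k ⧸ I) = (P.natDegree : WithBot ℕ∞) + 1 := by
  obtain ⟨m₀, hm₀⟩ := hP
  have hne : I ≠ ⊤ := by
    rintro rfl
    apply hP0
    apply Polynomial.eq_of_infinite_eval_eq
    apply Set.Infinite.mono (s := (fun t : ℕ => (t : ℚ)) '' {t : ℕ | m₀ ≤ t})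
    · rintro _ ⟨t, ht, rfl⟩
      have ht' : m₀ ≤ t := ht
      change P.eval (t : ℚ) = Polynomial.eval (t : ℚ) 0
      rw [hm₀ t ht', Polynomial.eval_zero, Submodule.restrictScalars_top, top_inf_eq, sub_self]
    · apply Set.Infinite.image
      · intro a _ b _ hab
        exact Nat.cast_injective hab
      · exact Set.infinite_of_not_bddAbove (by
          rintro ⟨b, hb⟩
          have := hb (show m₀ + b + 1 ∈ {t : ℕ | m₀ ≤ t} from
            (by omega : m₀ ≤ m₀ + b + 1))
          omega)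
  obtain ⟨hmax, hht⟩ := height_map_idealOfVars hI hne
  haveI : (mm I).IsMaximal := hmax
  refine dim_eq_natDegree_add_one (k := k) (mm I) (algebraMap_surjective_quot I)
    (finite_quot_mm_pow I hI) hht (hf I) (finrank_quot_mm_pow I hI) P hP0 ⟨m₀, fun m hm => ?_⟩
  rw [hm₀ m hm, hf, Nat.cast_sub (finrank_inf_le I m)]

end Groth.Agent.Lib.Helper20.HilbDim
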