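import Mathlib
import Groth.Agent.Lib.Helper20.HilbDim5

/-!
# Existence of the Hilbert polynomial of `k[X] ⧸ I` with the degree bound
-/

set_option autoImplicit false
set_option linter.unusedSectionVars false
set_option linter.unusedVariables false
set_option linter.style.haveILetI false

universe u v

namespace Groth.Agent.Lib.Helper20.HilbDim

open Polynomial

section main

variable {k : Type u} [Field k] {A : Type v} [CommRing A] [Algebra k A] [IsNoetherianRing A]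
  (𝔪 : Ideal A) [hmax : 𝔪.IsMaximal] (h : Function.Surjective (algebraMap k (A ⧸ 𝔪)))

include h in
theorem exists_samuel (hfin : ∀ t : ℕ, Module.Finite k (A ⧸ 𝔪 ^ t))
    (hht : (𝔪.height : WithBot ℕ∞) = ringKrullDim A) (H : ℕ → ℕ)
    (hH : ∀ t : ℕ, Module.finrank k (A ⧸ 𝔪 ^ t) = ∑ i ∈ Finset.range t, H i) :
    ∃ Q : ℚ[X], (∃ N : ℕ, ∀ t : ℕ, N ≤ t →
        Q.eval (t : ℚ) = ((∑ i ∈ Finset.range t, H i : ℕ) : ℚ)) ∧
      (Q.natDegree : WithBot ℕ∞) = ringKrullDim A := by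
  haveI : IsNoetherianRing (Sl 𝔪) :=
    IsLocalization.isNoetherianRing 𝔪.primeCompl (Sl 𝔪) inferInstance
  obtain ⟨Q, ⟨N, hN⟩, hdeg⟩ := Groth.Agent.S3405.result (Sl 𝔪) (Sl 𝔪)
  rw [Module.supportDim_self_eq_ringKrullDim,
    IsLocalization.AtPrime.ringKrullDim_eq_height 𝔪 (Sl 𝔪), hht] at hdeg
  refine ⟨Q, ⟨N, fun t ht => ?_⟩, hdeg⟩
  obtain ⟨ℓ, hℓ1, hℓ2⟩ := hN t ht
  haveI := hfin t
  rw [length_loc 𝔪 h t, hH t] at hℓ1
  have : ℓ = ∑ i ∈ Finset.range t, H i := by exact_mod_cast hℓ1.symm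
  rw [← hℓ2, this]

end main

/-- the forward difference of a polynomial with a degree bound -/
theorem exists_diff (Q : ℚ[X]) (H : ℕ → ℕ) (e : ℕ) (hQe : Q.natDegree ≤ e)
    (hQ : ∃ N : ℕ, ∀ t : ℕ, N ≤ t → Q.eval (t : ℚ) = ((∑ i ∈ Finset.range t, H i : ℕ) : ℚ)) :
    ∃ P : ℚ[X], P.degree < (e : WithBot ℕ) ∧
      ∃ N : ℕ, ∀ n : ℕ, N ≤ n → (H n : ℚ) = P.eval (n : ℚ) := by
  obtain ⟨N, hN⟩ := hQ
  have hev : ∀ n : ℕ, N ≤ n → (H n : ℚ) = (taylor 1 Q - Q).eval (n : ℚ) := by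
    intro n hn
    rw [eval_sub, taylor_eval]
    have h1 : (n : ℚ) + 1 = ((n + 1 : ℕ) : ℚ) := by push_cast; ring
    rw [h1, hN (n + 1) (by omega), hN n hn, Finset.sum_range_succ]
    push_cast
    ring
  by_cases hQ1 : 1 ≤ Q.natDegree
  · refine ⟨taylor 1 Q - Q, ?_, N, hev⟩
    have h2 := (Groth.Agent.Lib.Helper7.HilbSec.natDegree_sub_taylor (P := Q) (d := 1)
      one_pos hQ1).1
    have h3 : taylor 1 (Q - taylor (-((1 : ℕ) : ℚ)) Q) = taylor 1 Q - Q := by
      rw [map_sub, taylor_taylor]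
      simp
    rw [← h3]
    by_cases h0 : taylor 1 (Q - taylor (-((1 : ℕ) : ℚ)) Q) = 0
    · rw [h0, degree_zero]
      exact WithBot.bot_lt_coe _
    · rw [degree_eq_natDegree h0, natDegree_taylor]
      have : (Q - taylor (-((1 : ℕ) : ℚ)) Q).natDegree < e := by omega
      exact_mod_cast this
  · refine ⟨0, ?_, N, fun n hn => ?_⟩
    · rw [degree_zero]
      exact WithBot.bot_lt_coe _
    · rw [hev n hn]
      have h0 : Q.natDegree = 0 := by omega
      obtain ⟨c, hc⟩ : ∃ c, Q = C c := ⟨Q.coeff 0, eq_C_of_natDegree_eq_zero h0⟩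
      rw [hc, taylor_C, sub_self]

section poly

open MvPolynomial

attribute [local instance] MvPolynomial.gradedAlgebra

variable {k : Type u} [Field k] {σ : Type} [Finite σ] (I : Ideal (MvPolynomial σ k))
  (hI : I.IsHomogeneous (homogeneousSubmodule σ k))

theorem ringKrullDim_quot_le (hI0 : I ≠ ⊥) :
    ringKrullDim (MvPolynomial σ k ⧸ I) + 1 ≤ (Nat.card σ : WithBot ℕ∞) := by
  obtain ⟨r, hrI, hr0⟩ := Submodule.exists_mem_ne_zero_of_ne_bot hI0
  have h1 := ringKrullDim_quotient_succ_le_of_nonZeroDivisor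
    (mem_nonZeroDivisors_of_ne_zero hr0)
  rw [MvPolynomial.ringKrullDim_of_isNoetherianRing, ringKrullDim_eq_zero_of_field,
    zero_add] at h1
  refine le_trans ?_ h1
  gcongr
  exact ringKrullDim_le_of_surjective
    (Ideal.Quotient.factor ((Ideal.span_singleton_le_iff_mem I).2 hrI))
    (Ideal.Quotient.factor_surjective _)

include hI in
theorem exists_hilbertPoly (hI0 : I ≠ ⊥) :
    ∃ P : ℚ[X], P.degree < ((Nat.card σ - 1 : ℕ) : WithBot ℕ) ∧
      ∃ N : ℕ, ∀ n : ℕ, N ≤ n →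
        ((Module.finrank k ↥(homogeneousSubmodule σ k n) : ℚ) -
          (Module.finrank k ↥(I.restrictScalars k ⊓ homogeneousSubmodule σ k n) : ℚ)) =
        P.eval (n : ℚ) := by
  have hcast : ∀ n : ℕ, ((Module.finrank k ↥(homogeneousSubmodule σ k n) : ℚ) -
      (Module.finrank k ↥(I.restrictScalars k ⊓ homogeneousSubmodule σ k n) : ℚ)) =
      (hf I n : ℚ) := by
    intro n
    rw [hf, Nat.cast_sub (finrank_inf_le I n)]
  by_cases hne : I = ⊤
  · subst hne
    refine ⟨0, ?_, 0, fun n _ => ?_⟩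
    · rw [degree_zero]
      exact WithBot.bot_lt_coe _
    · rw [Submodule.restrictScalars_top, top_inf_eq, sub_self, Polynomial.eval_zero]
  · obtain ⟨hmax, hht⟩ := height_map_idealOfVars hI hne
    haveI : (mm I).IsMaximal := hmax
    obtain ⟨Q, hQ, hdeg⟩ := exists_samuel (k := k) (mm I) (algebraMap_surjective_quot I)
      (finite_quot_mm_pow I hI) hht (hf I) (finrank_quot_mm_pow I hI)
    have hle := ringKrullDim_quot_le I hI0
    rw [← hdeg] at hle
    have hQe : Q.natDegree ≤ Nat.card σ - 1 := by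
      have : Q.natDegree + 1 ≤ Nat.card σ := by exact_mod_cast hle
      omega
    obtain ⟨P, hPd, N, hN⟩ := exists_diff Q (hf I) (Nat.card σ - 1) hQe hQ
    refine ⟨P, hPd, N, fun n hn => ?_⟩
    rw [hcast, hN n hn]

end poly

end Groth.Agent.Lib.Helper20.HilbDim
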