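import Mathlib
import Groth.Prelude.Def_GrLC
import Groth.Agent.Lib.Helper20.GrPoly2
import Groth.Agent.Lib.Helper20.GrPoly3
import Groth.Agent.Lib.Helper20.HilbDim6
import Groth.Agent.Lib.Helper20.GrLES15
import Groth.Agent.Lib.helper11.SG8

/-!
# `a(R) = -r` implies `R` is a polynomial ring (standard graded CM over a field)
-/

set_option autoImplicit false
set_option linter.unusedSectionVars false
set_option linter.unusedVariables false
set_option linter.style.haveILetI false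

namespace Groth.Agent.Lib.Helper20.GrPoly

open DirectSum Groth.Agent.Lib.Helper26.GrProj Groth.Agent.Lib.Helper20.GrKit
  Groth.Agent.Lib.Helper20.GrLES Groth.Agent.Lib.Helper20.GrArt
  Groth.Agent.Lib.Helper20.GrStarLoc
  Groth.Agent.Lib.helper11.SG1 Groth.Agent.Lib.helper11.SG2

universe u

section Hilb

variable {R : Type u} [CommRing R] [IsNoetherianRing R] (𝒜 : ℤ → AddSubgroup R) [GradedRing 𝒜]
  (hpos : ∀ n : ℤ, n < 0 → 𝒜 n = ⊥) (h0 : IsField (GrLC.deg0 𝒜))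
  (m : HomogeneousIdeal 𝒜) (hm : GrLC.IsStarLocal 𝒜 m)
  (hmsp : m.toIdeal = Ideal.span (⋃ n ∈ Set.Ioi (0 : ℤ), (𝒜 n : Set R)))
  (hstd : Ideal.span (⋃ n ∈ Set.Ioi (0 : ℤ), (𝒜 n : Set R)) =
    Ideal.span ((𝒜 1 : AddSubgroup R) : Set R))

include hpos h0 hm hmsp hstd in
/-- existence of the Hilbert polynomial with the degree bound `deg P < dim R` -/
theorem exists_hilbPoly (r : ℕ) (hr : ringKrullDim R = r) :
    ∃ P : Polynomial ℚ, P.degree < (r : WithBot ℕ) ∧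
      ∃ N : ℕ, ∀ n : ℕ, N ≤ n → (hf 𝒜 n : ℚ) = P.eval (n : ℚ) := by
  letI : Field (GrLC.deg0 𝒜) := h0.toField
  haveI : m.toIdeal.IsMaximal := isMaximal 𝒜 hpos m hm
  obtain ⟨Q, hQ, hQdeg⟩ := Groth.Agent.Lib.Helper20.HilbDim.exists_samuel (k := GrLC.deg0 𝒜)
    m.toIdeal (algebraMap_surjective 𝒜 hpos m hm)
    (finite_quot_pow 𝒜 hpos m hmsp hstd) (height_eq_dim 𝒜 hpos m hm) (hf 𝒜)
    (finrank_quot_pow 𝒜 hpos h0 m hmsp hstd)
  rw [hr] at hQdeg
  have hQr : Q.natDegree = r := by exact_mod_cast hQdeg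
  exact Groth.Agent.Lib.Helper20.HilbDim.exists_diff Q (hf 𝒜) r (le_of_eq hQr) hQ

include h0 in
theorem hf_zero : hf 𝒜 0 = 1 := by
  letI : Field (GrLC.deg0 𝒜) := h0.toField
  unfold hf
  let e : GrLC.deg0 𝒜 →ₗ[GrLC.deg0 𝒜] GrLC.comp 𝒜 𝒜 ((0 : ℕ) : ℤ) :=
    { toFun := fun b => ⟨(b : R), by
        change (b : R) ∈ 𝒜 ((0 : ℕ) : ℤ)
        rw [Nat.cast_zero]
        exact b.2⟩
      map_add' := fun a b => rfl
      map_smul' := fun c b => rfl }
  have he : Function.Bijective e := by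
    constructor
    · intro a b hab
      apply Subtype.ext
      exact congrArg (fun z : GrLC.comp 𝒜 𝒜 ((0 : ℕ) : ℤ) => (z : R)) hab
    · intro y
      have hy : (y : R) ∈ 𝒜 0 := by
        simpa using (show (y : R) ∈ 𝒜 ((0 : ℕ) : ℤ) from y.2)
      exact ⟨⟨(y : R), hy⟩, rfl⟩
  rw [← (LinearEquiv.ofBijective e he).finrank_eq, Module.finrank_self]

end Hilb

section CM

variable {R : Type u} [CommRing R] [LocCoh.IsCohenMacaulayRing R] (𝒜 : ℤ → AddSubgroup R)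
  [GradedRing 𝒜]
  (hpos : ∀ n : ℤ, n < 0 → 𝒜 n = ⊥) (h0 : IsField (GrLC.deg0 𝒜))
  (m : HomogeneousIdeal 𝒜) (hm : GrLC.IsStarLocal 𝒜 m)
  (hmsp : m.toIdeal = Ideal.span (⋃ n ∈ Set.Ioi (0 : ℤ), (𝒜 n : Set R)))
  (hstd : Ideal.span (⋃ n ∈ Set.Ioi (0 : ℤ), (𝒜 n : Set R)) =
    Ideal.span ((𝒜 1 : AddSubgroup R) : Set R))
  (r : ℕ) (hr : ringKrullDim R = r) (I : GrLC.StarInjRes 𝒜 𝒜)

include hpos h0 hm hr in
/-- above the a-invariant the Hilbert function agrees with the Hilbert polynomial -/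
theorem hilb_eq_eval (P : Polynomial ℚ)
    (hP : ∃ N : ℕ, ∀ n : ℕ, N ≤ n → (hf 𝒜 n : ℚ) = P.eval (n : ℚ))
    (ha : GrLC.endDeg (I.Hgr m r) = (((-(r : ℤ) : ℤ) : WithTop ℤ) : WithBot (WithTop ℤ)))
    (n : ℤ) (hn : -(r : ℤ) < n) : hilb 𝒜 𝒜 n = P.eval (n : ℚ) := by
  letI : Field (GrLC.deg0 𝒜) := h0.toField
  haveI : IsArtinianRing (GrLC.deg0 𝒜) := inferInstance
  obtain ⟨N, hN⟩ := hP
  have hP' : ∃ N : ℤ, ∀ n : ℤ, N ≤ n → P.eval (n : ℚ) = hilb 𝒜 𝒜 n := by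
    refine ⟨(N : ℤ), fun n hn => ?_⟩
    have hn' : ((n.toNat : ℕ) : ℤ) = n := Int.toNat_of_nonneg (by omega)
    have h1 := hN n.toNat (by omega)
    have h2 := hilb_eq_hf 𝒜 h0 n.toNat
    rw [hn'] at h2
    rw [h2, h1]
    congr 1
    have : ((n.toNat : ℕ) : ℚ) = (((n.toNat : ℕ) : ℤ) : ℚ) := by push_cast; rfl
    rw [this, hn']
  have hform := Groth.Agent.Lib.helper11.SG8.formula 𝒜 hpos m hm r hr R 𝒜 I P hP' n
  have hchi : chi 𝒜 m I r n = 0 := by
    unfold chi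
    apply Finset.sum_eq_zero
    intro i hi
    have hi' : i < r + 1 := Finset.mem_range.1 hi
    have hL : L (GrLC.deg0 𝒜) (I.Hcomp m i n) = 0 := by
      rcases Nat.lt_succ_iff_lt_or_eq.1 hi' with hlt | heq
      · haveI := subsingleton_H_of_lt_dim 𝒜 hpos m hm I r hr i hlt
        exact L_of_subsingleton _
      · subst heq
        have hbot : I.Hgr m i n = ⊥ := by
          apply piece_eq_bot_of_endDeg_lt
          rw [ha, WithBot.coe_lt_coe, WithTop.coe_lt_coe]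
          exact hn
        haveI : Subsingleton (I.Hcomp m i n) := by
          refine ⟨fun x y => Subtype.ext ?_⟩
          have hx : (x : I.H m i) ∈ I.Hgr m i n := x.2
          have hy : (y : I.H m i) ∈ I.Hgr m i n := y.2
          rw [hbot, AddSubgroup.mem_bot] at hx hy
          rw [hx, hy]
        exact L_of_subsingleton _
    rw [hL, mul_zero]
  rw [hchi] at hform
  exact sub_eq_zero.1 hform

include hpos h0 hm hmsp hstd hr in
/-- if `a(R) = -r` then `dim_k R_1 = r` -/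
theorem hf_one_eq
    (ha : GrLC.endDeg (I.Hgr m r) = (((-(r : ℤ) : ℤ) : WithTop ℤ) : WithBot (WithTop ℤ))) :
    hf 𝒜 1 = r := by
  letI : Field (GrLC.deg0 𝒜) := h0.toField
  haveI : IsArtinianRing (GrLC.deg0 𝒜) := inferInstance
  obtain ⟨P, hdeg, hP⟩ := exists_hilbPoly 𝒜 hpos h0 m hm hmsp hstd r hr
  have key := hilb_eq_eval 𝒜 hpos h0 m hm r hr I P hP ha
  have h1 : P.eval 1 = (r : ℚ) := by
    apply eval_one_eq r P hdeg
    · intro j hj1 hjr
      have := key (-(j : ℤ)) (by omega)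
      rw [Groth.Agent.Lib.helper11.SG6.hilb_eq_zero_of_bot 𝒜 𝒜 (-(j : ℤ))
        (hpos (-(j : ℤ)) (by omega))] at this
      rw [this]
      push_cast
      rfl
    · intro hr0
      have := key 0 (by omega)
      have h2 := hilb_eq_hf 𝒜 h0 0
      rw [Nat.cast_zero] at h2
      rw [h2, hf_zero 𝒜 h0] at this
      rw [← Int.cast_zero (R := ℚ), ← this]
      simp
  have h2 := key 1 (by omega)
  have h3 := hilb_eq_hf 𝒜 h0 1
  rw [Nat.cast_one] at h3
  rw [h3, Int.cast_one, h1] at h2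
  exact_mod_cast h2

end CM

end Groth.Agent.Lib.Helper20.GrPoly
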