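import Mathlib
import Groth.Prelude.Def_GrLC
import Groth.Agent.Lib.Helper20.GrPoly4

/-!
# Presenting a standard graded ring over a field as a quotient of a polynomial ring
-/

set_option autoImplicit false
set_option linter.unusedSectionVars false
set_option linter.unusedVariables false
set_option linter.style.haveILetI false

namespace Groth.Agent.Lib.Helper20.GrPoly

open DirectSum Groth.Agent.Lib.Helper26.GrProj Groth.Agent.Lib.Helper20.GrKit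
  Groth.Agent.Lib.Helper20.GrLES Groth.Agent.Lib.Helper20.GrArt
  Groth.Agent.Lib.Helper20.GrStarLoc

universe u

section Pres

variable {R : Type u} [CommRing R] [IsNoetherianRing R] (𝒜 : ℤ → AddSubgroup R) [GradedRing 𝒜]
  (hpos : ∀ n : ℤ, n < 0 → 𝒜 n = ⊥) (h0 : IsField (GrLC.deg0 𝒜))
  (hstd : Ideal.span (⋃ n ∈ Set.Ioi (0 : ℤ), (𝒜 n : Set R)) =
    Ideal.span ((𝒜 1 : AddSubgroup R) : Set R))

include hpos h0 hstd in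
theorem exists_surjection (s : ℕ) (hs : hf 𝒜 1 = s) :
    ∃ x : Fin s → R, (∀ i, x i ∈ 𝒜 1) ∧ (∀ a ∈ 𝒜 1, a ∈ Ideal.span (Set.range x)) ∧
      Function.Surjective (MvPolynomial.aeval (R := GrLC.deg0 𝒜) x) := by
  classical
  letI : Field (GrLC.deg0 𝒜) := h0.toField
  haveI : Module.Finite (GrLC.deg0 𝒜) (GrLC.comp 𝒜 𝒜 ((1 : ℕ) : ℤ)) := by
    haveI := isNoetherian_comp 𝒜 𝒜 ((1 : ℕ) : ℤ)
    infer_instance
  have hs' : Module.finrank (GrLC.deg0 𝒜) (GrLC.comp 𝒜 𝒜 ((1 : ℕ) : ℤ)) = s := hs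
  let b := Module.finBasisOfFinrankEq (GrLC.deg0 𝒜) (GrLC.comp 𝒜 𝒜 ((1 : ℕ) : ℤ)) hs'
  have hx1 : ∀ i, ((b i : GrLC.comp 𝒜 𝒜 ((1 : ℕ) : ℤ)) : R) ∈ 𝒜 1 := by
    intro i
    simpa using (show ((b i : GrLC.comp 𝒜 𝒜 ((1 : ℕ) : ℤ)) : R) ∈ 𝒜 ((1 : ℕ) : ℤ) from (b i).2)
  have hrepr : ∀ a (ha' : a ∈ 𝒜 ((1 : ℕ) : ℤ)),
      ∑ i, (b.repr (⟨a, ha'⟩ : GrLC.comp 𝒜 𝒜 ((1 : ℕ) : ℤ)) i) •
        ((b i : GrLC.comp 𝒜 𝒜 ((1 : ℕ) : ℤ)) : R) = a := by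
    intro a ha'
    have h1 := b.sum_repr (⟨a, ha'⟩ : GrLC.comp 𝒜 𝒜 ((1 : ℕ) : ℤ))
    have h2 := congrArg (fun z : GrLC.comp 𝒜 𝒜 ((1 : ℕ) : ℤ) => (z : R)) h1
    simpa only [Submodule.coe_sum, Submodule.coe_smul] using h2
  refine ⟨fun i => ((b i : GrLC.comp 𝒜 𝒜 ((1 : ℕ) : ℤ)) : R), hx1, ?_, ?_⟩
  · intro a ha
    have ha' : a ∈ 𝒜 ((1 : ℕ) : ℤ) := by simpa using ha
    rw [← hrepr a ha']
    apply Ideal.sum_mem
    intro i _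
    change ((b.repr (⟨a, ha'⟩ : GrLC.comp 𝒜 𝒜 ((1 : ℕ) : ℤ)) i : GrLC.deg0 𝒜) : R) *
      ((b i : GrLC.comp 𝒜 𝒜 ((1 : ℕ) : ℤ)) : R) ∈ _
    exact Ideal.mul_mem_left _ _ (Ideal.subset_span ⟨i, rfl⟩)
  set φ := MvPolynomial.aeval (R := GrLC.deg0 𝒜)
    (fun i => ((b i : GrLC.comp 𝒜 𝒜 ((1 : ℕ) : ℤ)) : R)) with hφ
  have hX : ∀ i, ((b i : GrLC.comp 𝒜 𝒜 ((1 : ℕ) : ℤ)) : R) ∈ φ.range :=
    fun i => ⟨MvPolynomial.X i, MvPolynomial.aeval_X _ i⟩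
  intro y
  have hy : y ∈ φ.range.toSubring := by
    apply mem_subring 𝒜 hpos hstd
    · intro a ha
      refine ⟨MvPolynomial.C ⟨a, ha⟩, ?_⟩
      rw [AlgHom.toRingHom_eq_coe, RingHom.coe_coe, hφ, MvPolynomial.aeval_C]
      rfl
    · intro a ha
      have ha' : a ∈ 𝒜 ((1 : ℕ) : ℤ) := by simpa using ha
      change a ∈ φ.range
      rw [← hrepr a ha']
      exact Subalgebra.sum_mem _ fun i _ => Subalgebra.smul_mem _ (hX i) _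
  exact hy

end Pres

section Dim

variable {R : Type u} [CommRing R] [IsNoetherianRing R] (𝒜 : ℤ → AddSubgroup R) [GradedRing 𝒜]
  (hpos : ∀ n : ℤ, n < 0 → 𝒜 n = ⊥) (h0 : IsField (GrLC.deg0 𝒜))
  (hstd : Ideal.span (⋃ n ∈ Set.Ioi (0 : ℤ), (𝒜 n : Set R)) =
    Ideal.span ((𝒜 1 : AddSubgroup R) : Set R))

include hpos h0 hstd in
theorem exists_bijection (r : ℕ) (hr : ringKrullDim R = r) (s : ℕ) (hs : hf 𝒜 1 = s)
    (hsr : s ≤ r) :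
    s = r ∧ ∃ x : Fin s → R, (∀ i, x i ∈ 𝒜 1) ∧ (∀ a ∈ 𝒜 1, a ∈ Ideal.span (Set.range x)) ∧
      Function.Bijective (MvPolynomial.aeval (R := GrLC.deg0 𝒜) x) := by
  obtain ⟨x, hx, hxs, hsurj⟩ := exists_surjection 𝒜 hpos h0 hstd s hs
  letI : Field (GrLC.deg0 𝒜) := h0.toField
  obtain ⟨h1, h2⟩ := injective_of_dim (K := GrLC.deg0 𝒜) s r
    (MvPolynomial.aeval (R := GrLC.deg0 𝒜) x) hsurj hr hsr
  exact ⟨h1, x, hx, hxs, h2, hsurj⟩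

end Dim

end Groth.Agent.Lib.Helper20.GrPoly
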