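import Mathlib
import Groth.Prelude.Def_GrLC
import Groth.Agent.Lib.Helper20.GrPoly5
import Groth.Agent.Lib.Helper20.GrCanW3
import Groth.Agent.Lib.Helper22.RegTensorFields

/-!
# S18644: `a(R) = -r` iff `R` is a polynomial ring
-/

set_option autoImplicit false
set_option linter.unusedSectionVars false
set_option linter.unusedVariables false
set_option linter.style.haveILetI false

namespace Groth.Agent.Lib.Helper20.GrPoly

open DirectSum Groth.Agent.Lib.Helper26.GrProj Groth.Agent.Lib.Helper20.GrKit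
  Groth.Agent.Lib.Helper20.GrLES Groth.Agent.Lib.Helper20.GrArt
  Groth.Agent.Lib.Helper20.GrStarLoc Groth.Agent.Lib.Helper20.GrCanW

universe u

section Loc

variable {R : Type u} [CommRing R] [IsNoetherianRing R]

/-- numerators of a minimal generating set of the maximal ideal of a regular localization -/
theorem exists_numerators (p : Ideal R) [p.IsPrime]
    [IsRegularLocalRing (Localization.AtPrime p)] (d : ℕ)
    (hd : ringKrullDim (Localization.AtPrime p) = d) :
    ∃ Y : Finset R, Y.card ≤ d ∧ (∀ y ∈ Y, y ∈ p) ∧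
      ∀ x ∈ p, ∃ v, v ∉ p ∧ v * x ∈ Ideal.span (Y : Set R) := by
  classical
  have hfg : (IsLocalRing.maximalIdeal (Localization.AtPrime p)).FG :=
    IsNoetherian.noetherian _
  obtain ⟨G, hGcard, hGspan⟩ := Submodule.FG.exists_span_finset_card_eq_spanFinrank hfg
  have hsf : (IsLocalRing.maximalIdeal (Localization.AtPrime p)).spanFinrank = d := by
    have := IsRegularLocalRing.spanFinrank_maximalIdeal (R := Localization.AtPrime p)
    rw [hd] at this
    exact_mod_cast this
  let num : Localization.AtPrime p → R := fun g => (IsLocalization.sec p.primeCompl g).1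
  let den : Localization.AtPrime p → p.primeCompl := fun g => (IsLocalization.sec p.primeCompl g).2
  have hspec : ∀ g : Localization.AtPrime p,
      g * algebraMap R (Localization.AtPrime p) (den g) =
        algebraMap R (Localization.AtPrime p) (num g) :=
    fun g => IsLocalization.sec_spec p.primeCompl g
  refine ⟨G.image num, ?_, ?_, ?_⟩
  · calc (G.image num).card ≤ G.card := Finset.card_image_le
      _ = d := by rw [hGcard, hsf]
  · intro y hy
    obtain ⟨g, hg, rfl⟩ := Finset.mem_image.1 hy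
    have hgm : g ∈ IsLocalRing.maximalIdeal (Localization.AtPrime p) := by
      rw [← hGspan]
      exact Submodule.subset_span hg
    have : algebraMap R (Localization.AtPrime p) (num g) ∈
        IsLocalRing.maximalIdeal (Localization.AtPrime p) := by
      rw [← hspec]
      exact Ideal.mul_mem_right _ _ hgm
    exact (IsLocalization.AtPrime.to_map_mem_maximal_iff (Localization.AtPrime p) p (num g)).1 this
  · intro x hx
    have hxm : algebraMap R (Localization.AtPrime p) x ∈
        IsLocalRing.maximalIdeal (Localization.AtPrime p) :=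
      (IsLocalization.AtPrime.to_map_mem_maximal_iff (Localization.AtPrime p) p x).2 hx
    have hle : IsLocalRing.maximalIdeal (Localization.AtPrime p) ≤
        Ideal.map (algebraMap R (Localization.AtPrime p))
          (Ideal.span ((G.image num : Finset R) : Set R)) := by
      rw [← hGspan, Submodule.span_le]
      intro g hg
      have hu : IsUnit (algebraMap R (Localization.AtPrime p) (den g)) :=
        IsLocalization.map_units (Localization.AtPrime p) (den g)
      have hg' : g = algebraMap R (Localization.AtPrime p) (num g) * ↑hu.unit⁻¹ := by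
        rw [← hspec g, mul_assoc, IsUnit.mul_val_inv, mul_one]
      rw [SetLike.mem_coe, hg']
      apply Ideal.mul_mem_right
      apply Ideal.mem_map_of_mem
      apply Ideal.subset_span
      exact Finset.mem_coe.2 (Finset.mem_image_of_mem num hg)
    obtain ⟨⟨j, s⟩, hjs⟩ :=
      (IsLocalization.mem_map_algebraMap_iff p.primeCompl (Localization.AtPrime p)).1 (hle hxm)
    rw [← map_mul] at hjs
    obtain ⟨c, hc⟩ := (IsLocalization.eq_iff_exists p.primeCompl (Localization.AtPrime p)).1 hjs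
    refine ⟨((c * s : p.primeCompl) : R), (c * s).2, ?_⟩
    have : ((c * s : p.primeCompl) : R) * x = c * (x * s) := by
      push_cast
      ring
    rw [this, hc]
    exact Ideal.mul_mem_left _ _ j.2

end Loc

section Gr

variable {R : Type u} [CommRing R] [IsNoetherianRing R] (𝒜 : ℤ → AddSubgroup R) [GradedRing 𝒜]
  (hpos : ∀ n : ℤ, n < 0 → 𝒜 n = ⊥) (h0 : IsField (GrLC.deg0 𝒜))
  (m : HomogeneousIdeal 𝒜) (hm : GrLC.IsStarLocal 𝒜 m)
  (hmsp : m.toIdeal = Ideal.span (⋃ n ∈ Set.Ioi (0 : ℤ), (𝒜 n : Set R)))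
  (hstd : Ideal.span (⋃ n ∈ Set.Ioi (0 : ℤ), (𝒜 n : Set R)) =
    Ideal.span ((𝒜 1 : AddSubgroup R) : Set R))

include hpos in
theorem proj_one_mul (a y : R) (hy0 : proj 𝒜 0 y = 0) :
    proj 𝒜 1 (a * y) = proj 𝒜 0 a * proj 𝒜 1 y := by
  classical
  have ha : a = ∑ j ∈ (DirectSum.decompose 𝒜 a).support, proj 𝒜 j a := (sum_proj 𝒜 a).symm
  conv_lhs => rw [ha, Finset.sum_mul, proj_sum]
  rw [Finset.sum_eq_single 0]
  · have := proj_smul_of_mem 𝒜 𝒜 (proj_mem 𝒜 0 a) 1 y
    rw [smul_eq_mul, sub_zero] at this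
    rw [this, smul_eq_mul]
  · intro j _ hj
    have := proj_smul_of_mem 𝒜 𝒜 (proj_mem 𝒜 j a) 1 y
    rw [smul_eq_mul] at this
    rw [this]
    rcases lt_or_gt_of_ne hj with hlt | hgt
    · have h1 := proj_mem 𝒜 j a
      rw [hpos j hlt, AddSubgroup.mem_bot] at h1
      rw [h1, zero_smul]
    · by_cases hj1 : j = 1
      · subst hj1
        rw [sub_self, hy0, smul_zero]
      · have h1 := proj_mem 𝒜 (1 - j) y
        rw [hpos (1 - j) (by omega), AddSubgroup.mem_bot] at h1
        rw [h1, smul_zero]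
  · intro h
    rw [proj_eq_zero_of_notMem 𝒜 h, zero_mul, proj_zero]

include hpos h0 hm hmsp hstd in
theorem hf_one_le (Y : Finset R) (hYm : ∀ y ∈ Y, y ∈ m.toIdeal)
    (hY : ∀ x ∈ m.toIdeal, ∃ v, v ∉ m.toIdeal ∧ v * x ∈ Ideal.span (Y : Set R)) :
    hf 𝒜 1 ≤ Y.card := by
  classical
  letI : Field (GrLC.deg0 𝒜) := h0.toField
  set T : Finset R := Y.image (proj 𝒜 1) with hT
  have hle : GrLC.comp 𝒜 𝒜 ((1 : ℕ) : ℤ) ≤ Submodule.span (GrLC.deg0 𝒜) (T : Set R) := by
    intro x hx
    have hx1 : x ∈ 𝒜 1 := by simpa using (show x ∈ 𝒜 ((1 : ℕ) : ℤ) from hx)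
    have hxm : x ∈ m.toIdeal := one_mem_irr 𝒜 m hmsp hstd x hx1
    obtain ⟨v, hv, hvx⟩ := hY x hxm
    obtain ⟨f, -, hsum⟩ := Submodule.mem_span_finset.1 hvx
    have h1 : proj 𝒜 1 (v * x) = proj 𝒜 0 v * x := by
      have := proj_smul_of_mem_right 𝒜 𝒜 hx1 1 v
      rw [smul_eq_mul, smul_eq_mul, sub_self] at this
      exact this
    have h2 : proj 𝒜 1 (∑ a ∈ Y, f a • a) = ∑ a ∈ Y, proj 𝒜 0 (f a) * proj 𝒜 1 a := by
      rw [proj_sum]
      refine Finset.sum_congr rfl fun a ha => ?_
      rw [smul_eq_mul]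
      exact proj_one_mul 𝒜 hpos (f a) a
        (proj_zero_of_mem_irrelevant 𝒜 m hpos hmsp a (hYm a ha))
    rw [hsum, h1] at h2
    -- the unit
    have hu : proj 𝒜 0 v ≠ 0 := by
      intro h
      apply hv
      have := sub_proj_zero_mem 𝒜 hpos m hm v
      rwa [h, sub_zero] at this
    set u : GrLC.deg0 𝒜 := ⟨proj 𝒜 0 v, proj_mem 𝒜 0 v⟩ with hudef
    have hu' : u ≠ 0 := by
      intro h
      apply hu
      exact congrArg Subtype.val h
    have h3 : u • x ∈ Submodule.span (GrLC.deg0 𝒜) (T : Set R) := by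
      change proj 𝒜 0 v * x ∈ _
      rw [h2]
      apply Submodule.sum_mem
      intro a ha
      have : proj 𝒜 0 (f a) * proj 𝒜 1 a =
          (⟨proj 𝒜 0 (f a), proj_mem 𝒜 0 (f a)⟩ : GrLC.deg0 𝒜) • proj 𝒜 1 a := rfl
      rw [this]
      apply Submodule.smul_mem
      apply Submodule.subset_span
      exact Finset.mem_coe.2 (Finset.mem_image_of_mem _ ha)
    have h4 := Submodule.smul_mem _ u⁻¹ h3
    rwa [inv_smul_smul₀ hu'] at h4
  have h5 : hf 𝒜 1 ≤ Module.finrank (GrLC.deg0 𝒜)
      (Submodule.span (GrLC.deg0 𝒜) (T : Set R)) := Submodule.finrank_mono hle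
  have h6 : Module.finrank (GrLC.deg0 𝒜) (Submodule.span (GrLC.deg0 𝒜) (T : Set R)) ≤ T.card :=
    finrank_span_finset_le_card T
  exact le_trans h5 (le_trans h6 Finset.card_image_le)

end Gr

section Chain

variable {R : Type u} [CommRing R] [LocCoh.IsCohenMacaulayRing R] (𝒜 : ℤ → AddSubgroup R)
  [GradedRing 𝒜] (hpos : ∀ n : ℤ, n < 0 → 𝒜 n = ⊥)
  (m : HomogeneousIdeal 𝒜) (hm : GrLC.IsStarLocal 𝒜 m)
  (hmsp : m.toIdeal = Ideal.span (⋃ n ∈ Set.Ioi (0 : ℤ), (𝒜 n : Set R)))

include hpos hm hmsp in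
/-- the a-invariant when the irrelevant ideal is generated by a homogeneous regular sequence -/
theorem endDeg_of_regular_gens (n : ℕ) (hn : ringKrullDim R = n) (I : GrLC.StarInjRes 𝒜 𝒜)
    (f : Fin n → R) (deg : Fin n → ℤ) (hfdeg : ∀ i, f i ∈ 𝒜 (deg i))
    (hspan : m.toIdeal = Ideal.span (Set.range f))
    (hreg : RingTheory.Sequence.IsWeaklyRegular R (List.ofFn f)) :
    GrLC.endDeg (I.Hgr m n) =
      (((-((Finset.univ : Finset (Fin n)).sum deg) : ℤ) : WithTop ℤ) : WithBot (WithTop ℤ)) := by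
  classical
  have hmne : m.toIdeal ≠ ⊤ := by
    intro h
    apply hm.1.1
    apply HomogeneousIdeal.toIdeal_injective
    rw [h, HomogeneousIdeal.toIdeal_top]
  let J : Submodule R R := Ideal.span (Set.range f)
  have hJ : ∀ g y, y ∈ J → proj 𝒜 g y ∈ J := by
    intro g y hy
    have hy' : y ∈ m.toIdeal := by rw [hspan]; exact hy
    have := m.isHomogeneous g hy'
    rw [hspan] at this
    exact this
  letI : DirectSum.Decomposition (quoGr 𝒜 J) := quoDecomposition 𝒜 J hJ
  obtain ⟨F⟩ := nonempty_starInjRes 𝒜 (quoGr 𝒜 J)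
  have hfm : ∀ i : Fin n, f i ∈ m.toIdeal := by
    intro i
    rw [hspan]
    exact Ideal.subset_span ⟨i, rfl⟩
  have hregX : RingTheory.Sequence.IsRegular R (List.ofFn f) := by
    refine ⟨hreg, ?_⟩
    rw [ofList_ofFn', Ideal.smul_eq_mul, Ideal.mul_top, ← hspan]
    exact fun h => hmne h.symm
  have hchain := s18645 𝒜 hpos m hm n hn I n le_rfl f deg hfdeg hfm hregX
    (R ⧸ J) (quoGr 𝒜 J) J.mkQ (mkQ_isGrHom 𝒜 J) J.mkQ_surjective (Submodule.ker_mkQ J) F
  rw [Nat.sub_self] at hchain
  have htors : ∀ x : R ⧸ J, x ∈ GrLC.gam m.toIdeal (R ⧸ J) := by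
    intro x
    obtain ⟨y, rfl⟩ := J.mkQ_surjective x
    refine ⟨1, fun r hr => ?_⟩
    rw [pow_one, hspan] at hr
    rw [← map_smul, Submodule.mkQ_apply, Submodule.Quotient.mk_eq_zero, smul_eq_mul]
    exact Ideal.mul_mem_right _ _ hr
  have hend0 : GrLC.endDeg (quoGr 𝒜 J) = (((0 : ℤ) : WithTop ℤ) : WithBot (WithTop ℤ)) := by
    apply le_antisymm
    · rw [endDeg_le_iff]
      intro g hg
      rw [WithBot.coe_le_coe, WithTop.coe_le_coe]
      by_contra hpos'
      apply hg
      rw [eq_bot_iff]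
      rintro _ ⟨x, hx, rfl⟩
      rw [AddSubgroup.mem_bot]
      have hxm : x ∈ m.toIdeal := by
        rw [hmsp]
        apply Ideal.subset_span
        simp only [Set.mem_iUnion, Set.mem_Ioi, SetLike.mem_coe, exists_prop]
        exact ⟨g, by omega, hx⟩
      rw [hspan] at hxm
      exact (Submodule.Quotient.mk_eq_zero J).2 hxm
    · apply le_endDeg
      intro hbot
      have h1 : J.mkQ (1 : R) ∈ quoGr 𝒜 J 0 := ⟨1, SetLike.GradedOne.one_mem, rfl⟩
      rw [hbot, AddSubgroup.mem_bot, Submodule.mkQ_apply, Submodule.Quotient.mk_eq_zero] at h1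
      apply hmne
      rw [hspan]
      exact (Ideal.eq_top_iff_one _).2 h1
  have hendF : GrLC.endDeg (F.Hgr m 0) = (((0 : ℤ) : WithTop ℤ) : WithBot (WithTop ℤ)) := by
    rw [← hend0]
    exact endDeg_congr _ _ (fun g => Hgr_zero_eq_bot_iff F m htors g)
  rw [hendF] at hchain
  exact coe_add_eq_zero _ _ hchain.symm

end Chain

end Groth.Agent.Lib.Helper20.GrPoly
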