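import Mathlib
import Groth.Prelude.Def_GrLC
import Groth.Agent.Lib.Helper20.GrPoly6

/-!
# S18644: `a(R) = -r` iff `R` is a polynomial ring (final statement)
-/

set_option autoImplicit false
set_option linter.unusedSectionVars false
set_option linter.unusedVariables false
set_option linter.style.haveILetI false

namespace Groth.Agent.Lib.Helper20.GrPoly

open DirectSum Groth.Agent.Lib.Helper26.GrProj Groth.Agent.Lib.Helper20.GrKit
  Groth.Agent.Lib.Helper20.GrLES Groth.Agent.Lib.Helper20.GrArt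
  Groth.Agent.Lib.Helper20.GrStarLoc Groth.Agent.Lib.Helper20.GrCanW

universe u

variable {R : Type u} [CommRing R] [LocCoh.IsCohenMacaulayRing R] (𝒜 : ℤ → AddSubgroup R)
  [GradedRing 𝒜]
  (hpos : ∀ n : ℤ, n < 0 → 𝒜 n = ⊥) (h0 : IsField (GrLC.deg0 𝒜))
  (m : HomogeneousIdeal 𝒜) (hm : GrLC.IsStarLocal 𝒜 m)
  (hmsp : m.toIdeal = Ideal.span (⋃ n ∈ Set.Ioi (0 : ℤ), (𝒜 n : Set R)))
  (hstd : Ideal.span (⋃ n ∈ Set.Ioi (0 : ℤ), (𝒜 n : Set R)) =
    Ideal.span ((𝒜 1 : AddSubgroup R) : Set R))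
  (r : ℕ) (hr : ringKrullDim R = r) (I : GrLC.StarInjRes 𝒜 𝒜)

include hpos h0 hm hmsp hstd hr in
theorem endDeg_of_equiv (e : R ≃+* MvPolynomial (Fin r) (GrLC.deg0 𝒜)) :
    GrLC.endDeg (I.Hgr m r) = (((-(r : ℤ) : ℤ) : WithTop ℤ) : WithBot (WithTop ℤ)) := by
  classical
  haveI : IsRegularRing (GrLC.deg0 𝒜) :=
    Groth.Agent.Lib.Helper22.RegTensorFields.isRegularRing_of_isField h0
  haveI : IsRegularRing (MvPolynomial (Fin r) (GrLC.deg0 𝒜)) := inferInstance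
  haveI : IsRegularRing R := IsRegularRing.of_ringEquiv e.symm
  haveI hmax : m.toIdeal.IsMaximal := isMaximal 𝒜 hpos m hm
  haveI : m.toIdeal.IsPrime := hmax.isPrime
  have hd : ringKrullDim (Localization.AtPrime m.toIdeal) = r := by
    rw [IsLocalization.AtPrime.ringKrullDim_eq_height m.toIdeal (Localization.AtPrime m.toIdeal),
      height_eq_dim 𝒜 hpos m hm, hr]
  obtain ⟨Y, hYcard, hYm, hY⟩ := exists_numerators m.toIdeal r hd
  have hle : hf 𝒜 1 ≤ r := le_trans (hf_one_le 𝒜 hpos h0 m hm hmsp hstd Y hYm hY) hYcard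
  obtain ⟨s, hs⟩ : ∃ s, hf 𝒜 1 = s := ⟨_, rfl⟩
  rw [hs] at hle
  obtain ⟨hsr, x, hx, hxs, hbij⟩ := exists_bijection 𝒜 hpos h0 hstd r hr s hs hle
  subst hsr
  have hspan : m.toIdeal = Ideal.span (Set.range x) := by
    apply le_antisymm
    · rw [hmsp, hstd, Ideal.span_le]
      intro a ha
      exact hxs a ha
    · rw [Ideal.span_le]
      rintro _ ⟨i, rfl⟩
      exact one_mem_irr 𝒜 m hmsp hstd _ (hx i)
  have hlist : (List.ofFn fun i : Fin s =>
      (MvPolynomial.X i : MvPolynomial (Fin s) (GrLC.deg0 𝒜))).map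
        (MvPolynomial.aeval (R := GrLC.deg0 𝒜) x) = List.ofFn x := by
    rw [List.map_ofFn]
    congr 1
    funext i
    exact MvPolynomial.aeval_X x i
  have hreg : RingTheory.Sequence.IsWeaklyRegular R (List.ofFn x) := by
    rw [← hlist]
    refine (AddEquiv.isWeaklyRegular_congr
      (e := (AlgEquiv.ofBijective (MvPolynomial.aeval (R := GrLC.deg0 𝒜) x) hbij).toAddEquiv)
      ?_).1 (Groth.Agent.Lib.Helper5.Lci.isWeaklyRegular_X s)
    refine List.forall₂_map_right_iff.mpr (List.forall₂_same.mpr fun p _ z => ?_)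
    exact map_mul (MvPolynomial.aeval (R := GrLC.deg0 𝒜) x) p z
  have := endDeg_of_regular_gens 𝒜 hpos m hm hmsp s hr I x (fun _ => 1) hx hspan hreg
  rw [this]
  simp

include hpos h0 hm hmsp hstd hr in
theorem s18644 :
    GrLC.endDeg (I.Hgr m r) = (((-(r : ℤ) : ℤ) : WithTop ℤ) : WithBot (WithTop ℤ)) ↔
      Nonempty (R ≃+* MvPolynomial (Fin r) (GrLC.deg0 𝒜)) := by
  constructor
  · intro ha
    have h1 := hf_one_eq 𝒜 hpos h0 m hm hmsp hstd r hr I ha
    obtain ⟨-, x, hx, hxs, hbij⟩ := exists_bijection 𝒜 hpos h0 hstd r hr r h1 le_rfl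
    exact ⟨(AlgEquiv.ofBijective (MvPolynomial.aeval (R := GrLC.deg0 𝒜) x) hbij).symm.toRingEquiv⟩
  · rintro ⟨e⟩
    exact endDeg_of_equiv 𝒜 hpos h0 m hm hmsp hstd r hr I e

end Groth.Agent.Lib.Helper20.GrPoly
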