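import Mathlib

namespace Groth.Agent.Lib.Helper20.GrPowPiece

open DirectSum Finset

universe u

section comb

variable {s : ℕ}

theorem exists_le_sum (q : Fin s → ℕ) : ∀ t, t ≤ ∑ i, q i →
    ∃ q' : Fin s → ℕ, (∀ i, q' i ≤ q i) ∧ ∑ i, q' i = t := by
  intro t
  induction t with
  | zero => exact fun _ => ⟨0, fun i => Nat.zero_le _, by simp⟩
  | succ t ih =>
    intro ht
    obtain ⟨q', hq', hsum⟩ := ih (by omega)
    have hex : ∃ i, q' i < q i := by
      by_contra hcon
      push_neg at hcon
      have : ∑ i, q i ≤ ∑ i, q' i := Finset.sum_le_sum fun i _ => hcon i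
      omega
    obtain ⟨i, hi⟩ := hex
    refine ⟨q' + Pi.single i 1, fun j => ?_, ?_⟩
    · by_cases hj : j = i
      · subst hj
        simp only [Pi.add_apply, Pi.single_eq_same]
        omega
      · simp only [Pi.add_apply, Pi.single_eq_of_ne hj, add_zero]
        exact hq' j
    · simp only [Pi.add_apply]
      rw [Finset.sum_add_distrib, hsum]
      congr 1
      rw [Finset.sum_eq_single i]
      · rw [Pi.single_eq_same]
      · intro j _ hj
        rw [Pi.single_eq_of_ne hj]
      · intro h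
        exact absurd (Finset.mem_univ i) h

/-- degree of monomial -/
def dg (deg : Fin s → ℕ) (α : Fin s → ℕ) : ℕ := ∑ i, α i * deg i

theorem dg_add (deg : Fin s → ℕ) (α β : Fin s → ℕ) : dg deg (α + β) = dg deg α + dg deg β := by
  unfold dg
  simp only [Pi.add_apply, add_mul]
  rw [Finset.sum_add_distrib]

theorem exists_sub (deg : Fin s → ℕ) (hdeg : ∀ i, 0 < deg i) (a : ℕ) (ha : s - 1 ≤ a) (k : ℕ)
    (α : Fin s → ℕ) (hα : dg deg α = (k + 1) * (a * Finset.univ.lcm deg)) :
    ∃ β γ : Fin s → ℕ, α = β + γ ∧ dg deg β = a * Finset.univ.lcm deg := by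
  set l := Finset.univ.lcm deg with hl
  have hdvd : ∀ i, deg i ∣ l := fun i => Finset.dvd_lcm (Finset.mem_univ i)
  have hlpos : 0 < l := by
    rw [Nat.pos_iff_ne_zero, hl]
    intro h0
    rw [Finset.lcm_eq_zero_iff] at h0
    obtain ⟨i, _, hi⟩ := h0
    exact absurd hi (hdeg i).ne'
  have hex : ∀ i, ∃ ei, ei * deg i = l ∧ 0 < ei := by
    intro i
    refine ⟨l / deg i, Nat.div_mul_cancel (hdvd i), ?_⟩
    exact Nat.div_pos (Nat.le_of_dvd hlpos (hdvd i)) (hdeg i)
  choose e hel hepos using hex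
  have hqr : ∀ i, ∃ qi ri, α i = e i * qi + ri ∧ ri < e i := fun i =>
    ⟨α i / e i, α i % e i, (Nat.div_add_mod _ _).symm, Nat.mod_lt _ (hepos i)⟩
  choose q r hαi hri using hqr
  have hsplit : dg deg α = l * ∑ i, q i + ∑ i, r i * deg i := by
    unfold dg
    rw [Finset.mul_sum, ← Finset.sum_add_distrib]
    refine Finset.sum_congr rfl fun i _ => ?_
    rw [hαi i, add_mul]
    congr 1
    calc e i * q i * deg i = (e i * deg i) * q i := by ring
      _ = l * q i := by rw [hel i]
  have hldvd : l ∣ ∑ i, r i * deg i := by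
    have h1 : l ∣ l * ∑ i, q i + ∑ i, r i * deg i := by
      rw [← hsplit, hα]
      exact ⟨(k + 1) * a, by ring⟩
    exact (Nat.dvd_add_right (Dvd.intro _ rfl)).1 h1
  obtain ⟨c, hc⟩ := hldvd
  have hbound : l * c + ∑ i, deg i ≤ s * l := by
    rw [← hc, ← Finset.sum_add_distrib]
    calc ∑ i, (r i * deg i + deg i) ≤ ∑ _i : Fin s, l := by
          refine Finset.sum_le_sum fun i _ => ?_
          have h1 : (r i + 1) * deg i ≤ e i * deg i := Nat.mul_le_mul_right _ (hri i)
          rw [hel i] at h1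
          calc r i * deg i + deg i = (r i + 1) * deg i := by ring
            _ ≤ l := h1
      _ = s * l := by rw [Finset.sum_const, Finset.card_univ, Fintype.card_fin, smul_eq_mul]
  have hca : c ≤ a := by
    by_contra hcon
    push_neg at hcon
    have hsc : s ≤ c := by omega
    have h1 : l * s ≤ l * c := Nat.mul_le_mul_left l hsc
    have h2 : l * c ≤ l * s := by
      have : l * c ≤ s * l := by omega
      rw [mul_comm s l] at this
      exact this
    have hcs : c = s := by
      have := Nat.le_of_mul_le_mul_left h2 hlpos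
      omega
    have hspos : 0 < s := by omega
    have hsum0 : ∑ i, deg i = 0 := by
      rw [mul_comm s l] at hbound
      omega
    have : 0 < ∑ i, deg i :=
      Finset.sum_pos (fun i _ => hdeg i) ⟨⟨0, hspos⟩, Finset.mem_univ _⟩
    omega
  have hQ : ∑ i, q i + c = (k + 1) * a := by
    apply Nat.eq_of_mul_eq_mul_left hlpos
    have := hsplit
    rw [hα, hc] at this
    rw [Nat.mul_add, ← this]
    ring
  have hQge : a - c ≤ ∑ i, q i := by
    have : a ≤ (k + 1) * a := Nat.le_mul_of_pos_left a (Nat.succ_pos k)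
    omega
  obtain ⟨q', hq', hq'sum⟩ := exists_le_sum q (a - c) hQge
  refine ⟨fun i => e i * q' i + r i, fun i => e i * (q i - q' i), ?_, ?_⟩
  · funext i
    simp only [Pi.add_apply]
    rw [hαi i]
    have : e i * q i = e i * q' i + e i * (q i - q' i) := by
      rw [← Nat.mul_add, Nat.add_sub_cancel' (hq' i)]
    rw [this]
    ring
  · have h1 : dg deg (fun i => e i * q' i + r i) = l * ∑ i, q' i + ∑ i, r i * deg i := by
      unfold dg
      rw [Finset.mul_sum, ← Finset.sum_add_distrib]
      refine Finset.sum_congr rfl fun i _ => ?_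
      rw [add_mul]
      congr 1
      calc e i * q' i * deg i = (e i * deg i) * q' i := by ring
        _ = l * q' i := by rw [hel i]
    rw [h1, hq'sum, hc, ← Nat.mul_add, Nat.sub_add_cancel hca, mul_comm]

end comb

section alg

variable {R A : Type u} [CommRing R] [CommRing A] [Algebra R A]
variable (𝒜 : ℕ → Submodule R A) [GradedAlgebra 𝒜]
variable {s : ℕ} (f : Fin s → A) (deg : Fin s → ℕ)

/-- monomial in the generators -/
noncomputable def mon (α : Fin s → ℕ) : A := ∏ i, f i ^ α i

variable {f deg}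

theorem mon_mem (hf : ∀ i, f i ∈ 𝒜 (deg i)) (α : Fin s → ℕ) : mon f α ∈ 𝒜 (dg deg α) := by
  unfold mon dg
  have := SetLike.prod_mem_graded 𝒜 (fun i => α i • deg i) (fun i => f i ^ α i)
    (F := Finset.univ) (fun i _ => SetLike.pow_mem_graded (α i) (hf i))
  simpa only [smul_eq_mul] using this

omit [GradedAlgebra 𝒜] in
theorem mon_add (α β : Fin s → ℕ) : mon f (α + β) = mon f α * mon f β := by
  unfold mon
  simp only [Pi.add_apply, pow_add]
  rw [Finset.prod_mul_distrib]

omit [GradedAlgebra 𝒜] in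
theorem mon_zero : mon f (0 : Fin s → ℕ) = 1 := by
  unfold mon
  simp

omit [GradedAlgebra 𝒜] in
theorem mon_single (i : Fin s) : mon f (Pi.single i 1) = f i := by
  unfold mon
  rw [Finset.prod_eq_single i]
  · rw [Pi.single_eq_same, pow_one]
  · intro j _ hj
    rw [Pi.single_eq_of_ne hj, pow_zero]
  · intro h
    exact absurd (Finset.mem_univ i) h

omit [GradedAlgebra 𝒜] in
theorem closure_mon (m : A) (hm : m ∈ Submonoid.closure (Set.range f)) :
    ∃ α : Fin s → ℕ, m = mon f α := by
  induction hm using Submonoid.closure_induction with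
  | mem x hx =>
    obtain ⟨i, rfl⟩ := hx
    exact ⟨Pi.single i 1, (mon_single i).symm⟩
  | one => exact ⟨0, mon_zero.symm⟩
  | mul x y _ _ hx hy =>
    obtain ⟨α, rfl⟩ := hx
    obtain ⟨β, rfl⟩ := hy
    exact ⟨α + β, (mon_add α β).symm⟩

theorem piece_le_span (hf : ∀ i, f i ∈ 𝒜 (deg i))
    (hgen : Algebra.adjoin R (Set.range f) = ⊤) (N : ℕ) :
    𝒜 N ≤ Submodule.span R {m | ∃ α : Fin s → ℕ, dg deg α = N ∧ m = mon f α} := by
  intro x hx
  have hx1 : x ∈ Submodule.span R (Submonoid.closure (Set.range f) : Set A) := by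
    rw [← Algebra.adjoin_eq_span, hgen]
    exact Submodule.mem_top
  have hx2 : GradedAlgebra.proj 𝒜 N x = x := by
    rw [GradedAlgebra.proj_apply, DirectSum.decompose_of_mem_same 𝒜 hx]
  rw [← hx2]
  have hx3 := Submodule.mem_map_of_mem (f := GradedAlgebra.proj 𝒜 N) hx1
  rw [Submodule.map_span] at hx3
  refine (Submodule.span_le.2 ?_) hx3
  rintro _ ⟨m, hm, rfl⟩
  obtain ⟨α, rfl⟩ := closure_mon m hm
  rw [GradedAlgebra.proj_apply]
  by_cases hα : dg deg α = N
  · rw [DirectSum.decompose_of_mem_same 𝒜 (hα ▸ mon_mem 𝒜 hf α)]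
    exact Submodule.subset_span ⟨α, hα, rfl⟩
  · rw [DirectSum.decompose_of_mem_ne 𝒜 (mon_mem 𝒜 hf α) hα]
    exact Submodule.zero_mem _

theorem mon_mem_pow (hdeg : ∀ i, 0 < deg i) (hf : ∀ i, f i ∈ 𝒜 (deg i)) (a : ℕ) (ha : s - 1 ≤ a) :
    ∀ (k : ℕ) (α : Fin s → ℕ), dg deg α = k * (a * Finset.univ.lcm deg) →
      mon f α ∈ 𝒜 (a * Finset.univ.lcm deg) ^ k := by
  intro k
  induction k with
  | zero =>
    intro α hα
    rw [zero_mul] at hα
    have h0 : α = 0 := by
      funext i
      unfold dg at hα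
      have := (Finset.sum_eq_zero_iff.1 hα) i (Finset.mem_univ i)
      rcases Nat.mul_eq_zero.1 this with h | h
      · exact h
      · exact absurd h (hdeg i).ne'
    rw [h0, mon_zero, pow_zero]
    exact Submodule.one_le.1 le_rfl
  | succ k ih =>
    intro α hα
    obtain ⟨β, γ, rfl, hβ⟩ := exists_sub deg hdeg a ha k α hα
    have hγ : dg deg γ = k * (a * Finset.univ.lcm deg) := by
      rw [dg_add, hβ] at hα
      have : (k + 1) * (a * Finset.univ.lcm deg) =
          a * Finset.univ.lcm deg + k * (a * Finset.univ.lcm deg) := by ring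
      omega
    rw [mon_add, pow_succ']
    refine Submodule.mul_mem_mul ?_ (ih γ hγ)
    rw [← hβ]
    exact mon_mem 𝒜 hf β

theorem result' (hdeg : ∀ i, 0 < deg i) (hf : ∀ i, f i ∈ 𝒜 (deg i))
    (hgen : Algebra.adjoin R (Set.range f) = ⊤) (a : ℕ) (ha : s - 1 ≤ a) (k : ℕ) :
    𝒜 (k * (a * Finset.univ.lcm deg)) = 𝒜 (a * Finset.univ.lcm deg) ^ k := by
  apply le_antisymm
  · refine (piece_le_span 𝒜 hf hgen _).trans ?_
    rw [Submodule.span_le]
    rintro m ⟨α, hα, rfl⟩
    exact mon_mem_pow 𝒜 hdeg hf a ha k α hα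
  · induction k with
    | zero =>
      rw [pow_zero, zero_mul, Submodule.one_le]
      exact SetLike.GradedOne.one_mem
    | succ k ih =>
      rw [pow_succ, Submodule.mul_le]
      intro x hx y hy
      have := SetLike.mul_mem_graded (ih hx) hy
      have h2 : k * (a * Finset.univ.lcm deg) + a * Finset.univ.lcm deg =
          (k + 1) * (a * Finset.univ.lcm deg) := by ring
      rw [h2] at this
      exact this

end alg

end Groth.Agent.Lib.Helper20.GrPowPiece
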