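import Mathlib

/-!
# Helper20 — GrUnit1: ℤ-graded rings (graded by additive subgroups) with homogeneous units:
inverse / integer powers of homogeneous units are homogeneous, ring homs are determined on
homogeneous elements, construction of ring homs out of a graded ring piece by piece, and the
"twist" `r ↦ ∑ φ(rₙ) uⁿ` of a ring hom by a unit.
-/

set_option autoImplicit false
universe u v

namespace Groth.Agent.Lib.Helper20.GrUnit

open DirectSum

section basics

variable {R : Type u} [CommRing R] (𝒜 : ℤ → AddSubgroup R) [GradedRing 𝒜]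

theorem inv_mem (f : Rˣ) (d : ℤ) (hf : (f : R) ∈ 𝒜 d) : ((f⁻¹ : Rˣ) : R) ∈ 𝒜 (-d) := by
  have h1 : ((DirectSum.decompose 𝒜 ((f : R) * ((f⁻¹ : Rˣ) : R)) (d + (-d)) : R)) =
      f * DirectSum.decompose 𝒜 ((f⁻¹ : Rˣ) : R) (-d) :=
    DirectSum.coe_decompose_mul_add_of_left_mem 𝒜 hf
  rw [Units.mul_inv, add_neg_cancel,
    DirectSum.decompose_of_mem_same 𝒜 (SetLike.GradedOne.one_mem)] at h1
  have h2 : ((f⁻¹ : Rˣ) : R) = DirectSum.decompose 𝒜 ((f⁻¹ : Rˣ) : R) (-d) := by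
    calc ((f⁻¹ : Rˣ) : R) = ((f⁻¹ : Rˣ) : R) * 1 := (mul_one _).symm
      _ = ((f⁻¹ : Rˣ) : R) * (f * DirectSum.decompose 𝒜 ((f⁻¹ : Rˣ) : R) (-d)) := by rw [← h1]
      _ = DirectSum.decompose 𝒜 ((f⁻¹ : Rˣ) : R) (-d) := by
        rw [← mul_assoc, Units.inv_mul, one_mul]
  rw [h2]
  exact (DirectSum.decompose 𝒜 ((f⁻¹ : Rˣ) : R) (-d)).2

theorem zpow_mem (f : Rˣ) (d : ℤ) (hf : (f : R) ∈ 𝒜 d) (m : ℤ) :
    ((f ^ m : Rˣ) : R) ∈ 𝒜 (m * d) := by
  cases m with
  | ofNat n =>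
    have := SetLike.pow_mem_graded n hf
    simpa [nsmul_eq_mul] using this
  | negSucc n =>
    have := SetLike.pow_mem_graded (n + 1) (inv_mem 𝒜 f d hf)
    rw [zpow_negSucc, ← inv_pow, Units.val_pow_eq_pow_val]
    convert this using 2
    rw [Int.negSucc_eq, nsmul_eq_mul]
    push_cast
    ring

/-- Ring homs out of a graded ring agreeing on homogeneous elements are equal. -/
theorem ringHom_ext_homog {S : Type v} [Semiring S] (φ ψ : R →+* S)
    (h : ∀ n, ∀ a ∈ 𝒜 n, φ a = ψ a) : φ = ψ := by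
  ext r
  induction r using DirectSum.Decomposition.inductionOn 𝒜 with
  | zero => simp
  | homogeneous a => exact h _ a a.2
  | add a b ha hb => rw [map_add, map_add, ha, hb]

variable {S : Type v} [CommRing S]

/-- Build a ring hom out of a graded ring from additive maps `g n`, relevant on `𝒜 n` only. -/
noncomputable def ofGraded (g : ℤ → R →+ S) (hone : g 0 1 = 1)
    (hmul : ∀ i j a b, a ∈ 𝒜 i → b ∈ 𝒜 j → g (i + j) (a * b) = g i a * g j b) : R →+* S :=
  (DirectSum.toSemiring (fun n => (g n).comp (AddSubgroup.subtype (𝒜 n))) hone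
    (fun {i j} ai aj => hmul i j ai aj ai.2 aj.2)).comp
    (DirectSum.decomposeRingEquiv 𝒜).toRingHom

theorem ofGraded_of_mem (g : ℤ → R →+ S) (hone : g 0 1 = 1)
    (hmul : ∀ i j a b, a ∈ 𝒜 i → b ∈ 𝒜 j → g (i + j) (a * b) = g i a * g j b)
    {n : ℤ} {a : R} (ha : a ∈ 𝒜 n) : ofGraded 𝒜 g hone hmul a = g n a := by
  unfold ofGraded
  rw [RingHom.comp_apply]
  change DirectSum.toSemiring _ _ _ (DirectSum.decompose 𝒜 a) = _
  rw [DirectSum.decompose_of_mem 𝒜 ha, DirectSum.toSemiring_of]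
  rfl

/-- The twist `r ↦ ∑ₙ φ(rₙ) uⁿ` of a ring hom by a unit. -/
noncomputable def twist (φ : R →+* S) (u : Sˣ) : R →+* S :=
  ofGraded 𝒜 (fun n => (AddMonoidHom.mulRight ((u ^ n : Sˣ) : S)).comp φ.toAddMonoidHom)
    (by simp)
    (by
      intro i j a b _ _
      simp only [AddMonoidHom.coe_comp, Function.comp_apply, RingHom.toAddMonoidHom_eq_coe,
        AddMonoidHom.coe_coe, AddMonoidHom.mulRight_apply, map_mul, zpow_add, Units.val_mul]
      ring)

theorem twist_of_mem (φ : R →+* S) (u : Sˣ) {n : ℤ} {a : R} (ha : a ∈ 𝒜 n) :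
    twist 𝒜 φ u a = φ a * ((u ^ n : Sˣ) : S) := by
  unfold twist
  rw [ofGraded_of_mem 𝒜 _ _ _ ha]
  rfl

end basics

end Groth.Agent.Lib.Helper20.GrUnit
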