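import Groth.Agent.Lib.Helper20.GrUnit1
import Mathlib

/-!
# Helper20 — GrUnit2: the ring hom `ψ : R → S`, `r ↦ ∑ₖ ι(r_{kN} t^{-k}) uᵏ` out of a ℤ-graded ring
with a homogeneous unit `t` of degree `N > 0`, for a ring hom `ι : R₀ → S` killing the maximal ideal
of the local ring `R₀`, under the hypothesis `R_i R_j ⊆ 𝔪₀ t` for `i, j > 0`, `i + j = N`.
-/

set_option autoImplicit false
universe u v

namespace Groth.Agent.Lib.Helper20.GrUnit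

open DirectSum

section psi

variable {R : Type u} [CommRing R] (𝒜 : ℤ → AddSubgroup R) [GradedRing 𝒜]

/-- projection to the degree-zero subring -/
noncomputable def proj0 : R →+ SetLike.GradeZero.subring 𝒜 where
  toFun x := ⟨(decompose 𝒜 x 0 : R), (decompose 𝒜 x 0).2⟩
  map_zero' := Subtype.ext (by simp)
  map_add' x y := Subtype.ext (by
    change ((decompose 𝒜 (x + y) 0 : 𝒜 0) : R) = (decompose 𝒜 x 0 : R) + (decompose 𝒜 y 0 : R)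
    rw [decompose_add, DirectSum.add_apply]
    rfl)

theorem proj0_of_mem_zero {x : R} (hx : x ∈ 𝒜 0) : proj0 𝒜 x = ⟨x, hx⟩ :=
  Subtype.ext (by simp [proj0, decompose_of_mem_same 𝒜 hx])

theorem proj0_of_mem_ne {n : ℤ} {x : R} (hx : x ∈ 𝒜 n) (hn : n ≠ 0) : proj0 𝒜 x = 0 :=
  Subtype.ext (by simp [proj0, decompose_of_mem_ne 𝒜 hx hn])

variable {S : Type v} [CommRing S] (ι : SetLike.GradeZero.subring 𝒜 →+* S)

/-- `ι` extended by zero to the other degrees. -/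
noncomputable def iota' : R →+ S := ι.toAddMonoidHom.comp (proj0 𝒜)

theorem iota'_of_mem_zero {x : R} (hx : x ∈ 𝒜 0) : iota' 𝒜 ι x = ι ⟨x, hx⟩ := by
  unfold iota'
  rw [AddMonoidHom.comp_apply, proj0_of_mem_zero 𝒜 hx]
  rfl

theorem iota'_one : iota' 𝒜 ι 1 = 1 := by
  rw [iota'_of_mem_zero 𝒜 ι SetLike.GradedOne.one_mem]
  exact map_one ι

theorem iota'_mul {x y : R} (hx : x ∈ 𝒜 0) (hy : y ∈ 𝒜 0) :
    iota' 𝒜 ι (x * y) = iota' 𝒜 ι x * iota' 𝒜 ι y := by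
  have hxy : x * y ∈ 𝒜 0 := by
    have := SetLike.mul_mem_graded hx hy
    rwa [add_zero] at this
  rw [iota'_of_mem_zero 𝒜 ι hx, iota'_of_mem_zero 𝒜 ι hy, iota'_of_mem_zero 𝒜 ι hxy, ← map_mul]
  rfl

variable (tu : Rˣ) (N : ℕ) (u : Sˣ)

/-- the additive pieces of `ψ` -/
noncomputable def gpsi (n : ℤ) : R →+ S :=
  if (N : ℤ) ∣ n then
    (AddMonoidHom.mulRight ((u ^ (n / N) : Sˣ) : S)).comp
      ((iota' 𝒜 ι).comp (AddMonoidHom.mulRight ((tu ^ (-(n / N)) : Rˣ) : R)))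
  else 0

theorem gpsi_of_dvd (hN : 0 < N) (k : ℤ) (a : R) :
    gpsi 𝒜 ι tu N u (k * N) a = iota' 𝒜 ι (a * ((tu ^ (-k) : Rˣ) : R)) * ((u ^ k : Sˣ) : S) := by
  unfold gpsi
  have hN' : (N : ℤ) ≠ 0 := by exact_mod_cast hN.ne'
  rw [if_pos (dvd_mul_left _ _), Int.mul_ediv_cancel _ hN']
  rfl

theorem gpsi_of_not_dvd {n : ℤ} (hn : ¬ (N : ℤ) ∣ n) (a : R) : gpsi 𝒜 ι tu N u n a = 0 := by
  unfold gpsi
  rw [if_neg hn]
  rfl

variable [IsLocalRing (SetLike.GradeZero.subring 𝒜)]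

theorem gpsi_mul (hN : 0 < N) (ht : (tu : R) ∈ 𝒜 (N : ℤ))
    (hm : ∀ (i j : ℤ), 0 < i → 0 < j → i + j = (N : ℤ) → ∀ a ∈ 𝒜 i, ∀ b ∈ 𝒜 j,
      ∃ c : SetLike.GradeZero.subring 𝒜,
        c ∈ IsLocalRing.maximalIdeal (SetLike.GradeZero.subring 𝒜) ∧ a * b = (c : R) * tu)
    (hι : ∀ c ∈ IsLocalRing.maximalIdeal (SetLike.GradeZero.subring 𝒜), ι c = 0)
    (i j : ℤ) (a b : R) (ha : a ∈ 𝒜 i) (hb : b ∈ 𝒜 j) :
    gpsi 𝒜 ι tu N u (i + j) (a * b) = gpsi 𝒜 ι tu N u i a * gpsi 𝒜 ι tu N u j b := by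
  have hN' : (0 : ℤ) < N := by exact_mod_cast hN
  by_cases hi : (N : ℤ) ∣ i
  · obtain ⟨k, rfl⟩ := hi
    by_cases hj : (N : ℤ) ∣ j
    · obtain ⟨l, rfl⟩ := hj
      have e : (N : ℤ) * k + N * l = (k + l) * N := by ring
      rw [e, mul_comm (N : ℤ) k, mul_comm (N : ℤ) l, gpsi_of_dvd 𝒜 ι tu N u hN,
        gpsi_of_dvd 𝒜 ι tu N u hN, gpsi_of_dvd 𝒜 ι tu N u hN]
      have ha' : a * ((tu ^ (-k) : Rˣ) : R) ∈ 𝒜 0 := by
        have := SetLike.mul_mem_graded ha (zpow_mem 𝒜 tu N ht (-k))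
        have e2 : (N : ℤ) * k + -k * N = 0 := by ring
        rwa [e2] at this
      have hb' : b * ((tu ^ (-l) : Rˣ) : R) ∈ 𝒜 0 := by
        have := SetLike.mul_mem_graded hb (zpow_mem 𝒜 tu N ht (-l))
        have e2 : (N : ℤ) * l + -l * N = 0 := by ring
        rwa [e2] at this
      have e3 : a * b * ((tu ^ (-(k + l)) : Rˣ) : R) =
          (a * ((tu ^ (-k) : Rˣ) : R)) * (b * ((tu ^ (-l) : Rˣ) : R)) := by
        rw [neg_add, zpow_add, Units.val_mul]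
        ring
      rw [e3, iota'_mul 𝒜 ι ha' hb', zpow_add, Units.val_mul]
      ring
    · have hij : ¬ (N : ℤ) ∣ (N * k + j) := by
        intro h
        exact hj ((Int.dvd_add_right (dvd_mul_right _ _)).mp h)
      rw [gpsi_of_not_dvd 𝒜 ι tu N u hij, gpsi_of_not_dvd 𝒜 ι tu N u hj, mul_zero]
  · by_cases hij : (N : ℤ) ∣ (i + j)
    · rw [gpsi_of_not_dvd 𝒜 ι tu N u hi, zero_mul]
      obtain ⟨k, hk⟩ := hij
      have hk' : i + j = k * N := by rw [hk, mul_comm]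
      rw [hk', gpsi_of_dvd 𝒜 ι tu N u hN]
      -- reduce to hm
      set q : ℤ := i / N with hq
      have hQ : i % N + N * q = i := Int.emod_add_mul_ediv i N
      have hi0 : 0 < i % (N : ℤ) := by
        rcases (Int.emod_nonneg i hN'.ne').lt_or_eq with h | h
        · exact h
        · exact absurd (Int.dvd_of_emod_eq_zero h.symm) hi
      have hiN : i % (N : ℤ) < N := Int.emod_lt_of_pos i hN'
      have ha' : a * ((tu ^ (-q) : Rˣ) : R) ∈ 𝒜 (i % N) := by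
        have := SetLike.mul_mem_graded ha (zpow_mem 𝒜 tu N ht (-q))
        have e2 : i + -q * N = i % N := by linear_combination -hQ
        rwa [e2] at this
      have hb' : b * ((tu ^ (-(k - q - 1)) : Rˣ) : R) ∈ 𝒜 (N - i % N) := by
        have := SetLike.mul_mem_graded hb (zpow_mem 𝒜 tu N ht (-(k - q - 1)))
        have e2 : j + -(k - q - 1) * N = N - i % N := by linear_combination hk' + hQ
        rwa [e2] at this
      obtain ⟨c, hc, hab⟩ := hm (i % N) (N - i % N) hi0 (by linarith) (by ring) _ ha' _ hb'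
      have e3 : a * b * ((tu ^ (-k) : Rˣ) : R) = (c : R) := by
        have e4 : (tu ^ (-k) : Rˣ) = tu ^ (-q) * tu ^ (-(k - q - 1)) * tu ^ (-1 : ℤ) := by
          rw [← zpow_add, ← zpow_add]
          congr 1
          ring
        rw [e4, Units.val_mul, Units.val_mul]
        calc a * b * (((tu ^ (-q) : Rˣ) : R) * ((tu ^ (-(k - q - 1)) : Rˣ) : R) *
              ((tu ^ (-1 : ℤ) : Rˣ) : R))
            = (a * ((tu ^ (-q) : Rˣ) : R) * (b * ((tu ^ (-(k - q - 1)) : Rˣ) : R))) *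
              ((tu ^ (-1 : ℤ) : Rˣ) : R) := by ring
          _ = (c : R) * tu * ((tu ^ (-1 : ℤ) : Rˣ) : R) := by rw [hab]
          _ = (c : R) := by
            rw [zpow_neg_one, mul_assoc, Units.mul_inv, mul_one]
      rw [e3, iota'_of_mem_zero 𝒜 ι c.2, hι c hc, zero_mul]
    · rw [gpsi_of_not_dvd 𝒜 ι tu N u hij, gpsi_of_not_dvd 𝒜 ι tu N u hi, zero_mul]

omit [IsLocalRing (SetLike.GradeZero.subring 𝒜)] in
theorem gpsi_one (hN : 0 < N) : gpsi 𝒜 ι tu N u 0 1 = 1 := by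
  have := gpsi_of_dvd 𝒜 ι tu N u hN 0 1
  rw [zero_mul] at this
  rw [this]
  simp [iota'_one]

/-- The ring hom `ψ`. -/
noncomputable def psi (hN : 0 < N) (ht : (tu : R) ∈ 𝒜 (N : ℤ))
    (hm : ∀ (i j : ℤ), 0 < i → 0 < j → i + j = (N : ℤ) → ∀ a ∈ 𝒜 i, ∀ b ∈ 𝒜 j,
      ∃ c : SetLike.GradeZero.subring 𝒜,
        c ∈ IsLocalRing.maximalIdeal (SetLike.GradeZero.subring 𝒜) ∧ a * b = (c : R) * tu)
    (hι : ∀ c ∈ IsLocalRing.maximalIdeal (SetLike.GradeZero.subring 𝒜), ι c = 0) : R →+* S :=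
  ofGraded 𝒜 (gpsi 𝒜 ι tu N u) (gpsi_one 𝒜 ι tu N u hN)
    (gpsi_mul 𝒜 ι tu N u hN ht hm hι)

variable (hN : 0 < N) (ht : (tu : R) ∈ 𝒜 (N : ℤ))
    (hm : ∀ (i j : ℤ), 0 < i → 0 < j → i + j = (N : ℤ) → ∀ a ∈ 𝒜 i, ∀ b ∈ 𝒜 j,
      ∃ c : SetLike.GradeZero.subring 𝒜,
        c ∈ IsLocalRing.maximalIdeal (SetLike.GradeZero.subring 𝒜) ∧ a * b = (c : R) * tu)
    (hι : ∀ c ∈ IsLocalRing.maximalIdeal (SetLike.GradeZero.subring 𝒜), ι c = 0)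

theorem psi_of_mem_mul (k : ℤ) {a : R} (ha : a ∈ 𝒜 (k * N)) :
    psi 𝒜 ι tu N u hN ht hm hι a =
      iota' 𝒜 ι (a * ((tu ^ (-k) : Rˣ) : R)) * ((u ^ k : Sˣ) : S) := by
  unfold psi
  rw [ofGraded_of_mem 𝒜 _ _ _ ha, gpsi_of_dvd 𝒜 ι tu N u hN]

theorem psi_of_not_dvd {n : ℤ} (hn : ¬ (N : ℤ) ∣ n) {a : R} (ha : a ∈ 𝒜 n) :
    psi 𝒜 ι tu N u hN ht hm hι a = 0 := by
  unfold psi
  rw [ofGraded_of_mem 𝒜 _ _ _ ha, gpsi_of_not_dvd 𝒜 ι tu N u hn]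

theorem psi_of_mem_zero {a : R} (ha : a ∈ 𝒜 0) :
    psi 𝒜 ι tu N u hN ht hm hι a = ι ⟨a, ha⟩ := by
  have ha' : a ∈ 𝒜 ((0 : ℤ) * N) := by rwa [zero_mul]
  rw [psi_of_mem_mul 𝒜 ι tu N u hN ht hm hι 0 ha']
  simp [iota'_of_mem_zero 𝒜 ι ha]

theorem psi_tu : psi 𝒜 ι tu N u hN ht hm hι (tu : R) = (u : S) := by
  have ha' : (tu : R) ∈ 𝒜 ((1 : ℤ) * N) := by rwa [one_mul]
  rw [psi_of_mem_mul 𝒜 ι tu N u hN ht hm hι 1 ha']
  simp [iota'_one]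

end psi

end Groth.Agent.Lib.Helper20.GrUnit
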