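import Groth.Agent.Lib.Helper20.GrUnit2
import Mathlib

/-!
# Helper20 — GrUnit3: for a ℤ-graded ring `R` with `R₀` local, a homogeneous unit `t` of degree
`N > 0` and `R_i R_j ⊆ 𝔪₀ t` (`i, j > 0`, `i + j = N`): the augmentation `θ : R → κ` and locality of
`R / (t - 1)`.
-/

set_option autoImplicit false
universe u v

namespace Groth.Agent.Lib.Helper20.GrUnit

open DirectSum IsLocalRing

section theta

variable {R : Type u} [CommRing R] (𝒜 : ℤ → AddSubgroup R) [GradedRing 𝒜]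
  [IsLocalRing (SetLike.GradeZero.subring 𝒜)]
  (tu : Rˣ) (N : ℕ) (hN : 0 < N) (ht : (tu : R) ∈ 𝒜 (N : ℤ))
  (hm : ∀ (i j : ℤ), 0 < i → 0 < j → i + j = (N : ℤ) → ∀ a ∈ 𝒜 i, ∀ b ∈ 𝒜 j,
      ∃ c : SetLike.GradeZero.subring 𝒜,
        c ∈ IsLocalRing.maximalIdeal (SetLike.GradeZero.subring 𝒜) ∧ a * b = (c : R) * tu)

theorem residue_kills : ∀ c ∈ maximalIdeal (SetLike.GradeZero.subring 𝒜),
    residue (SetLike.GradeZero.subring 𝒜) c = 0 :=
  fun c hc => (residue_eq_zero_iff c).2 hc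

/-- the augmentation `θ : R → κ(R₀)` -/
noncomputable def theta : R →+* ResidueField (SetLike.GradeZero.subring 𝒜) :=
  psi 𝒜 (residue (SetLike.GradeZero.subring 𝒜)) tu N 1 hN ht hm (residue_kills 𝒜)

theorem theta_of_mem_zero {a : R} (ha : a ∈ 𝒜 0) :
    theta 𝒜 tu N hN ht hm a = residue (SetLike.GradeZero.subring 𝒜) ⟨a, ha⟩ :=
  psi_of_mem_zero 𝒜 _ tu N 1 hN ht hm _ ha

theorem theta_tu : theta 𝒜 tu N hN ht hm (tu : R) = 1 := by
  unfold theta
  rw [psi_tu]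
  rfl

theorem theta_of_not_dvd {n : ℤ} (hn : ¬ (N : ℤ) ∣ n) {a : R} (ha : a ∈ 𝒜 n) :
    theta 𝒜 tu N hN ht hm a = 0 :=
  psi_of_not_dvd 𝒜 _ tu N 1 hN ht hm _ hn ha

include ht in
omit [IsLocalRing (SetLike.GradeZero.subring 𝒜)] in
theorem mul_zpow_mem_zero (k : ℤ) {a : R} (ha : a ∈ 𝒜 (k * N)) :
    a * ((tu ^ (-k) : Rˣ) : R) ∈ 𝒜 0 := by
  have := SetLike.mul_mem_graded ha (zpow_mem 𝒜 tu N ht (-k))
  have e2 : k * (N : ℤ) + -k * N = 0 := by ring
  rwa [e2] at this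

theorem theta_of_mem_mul (k : ℤ) {a : R} (ha : a ∈ 𝒜 (k * N)) :
    theta 𝒜 tu N hN ht hm a = residue (SetLike.GradeZero.subring 𝒜)
      ⟨a * ((tu ^ (-k) : Rˣ) : R), mul_zpow_mem_zero 𝒜 tu N ht k ha⟩ := by
  unfold theta
  rw [psi_of_mem_mul 𝒜 _ tu N 1 hN ht hm _ k ha, one_zpow, Units.val_one, mul_one,
    iota'_of_mem_zero 𝒜 _ (mul_zpow_mem_zero 𝒜 tu N ht k ha)]

theorem theta_surjective : Function.Surjective (theta 𝒜 tu N hN ht hm) := by
  intro y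
  obtain ⟨c, rfl⟩ := residue_surjective y
  exact ⟨(c : R), by rw [theta_of_mem_zero 𝒜 tu N hN ht hm c.2]⟩

theorem theta_sub_one : theta 𝒜 tu N hN ht hm ((tu : R) - 1) = 0 := by
  rw [map_sub, theta_tu, map_one, sub_self]

/-- `θ` descended to `C = R/(t-1)` -/
noncomputable def thetaBar :
    (R ⧸ Ideal.span {(tu : R) - 1}) →+* ResidueField (SetLike.GradeZero.subring 𝒜) :=
  Ideal.Quotient.lift _ (theta 𝒜 tu N hN ht hm) (by
    intro a ha
    obtain ⟨r, rfl⟩ := Ideal.mem_span_singleton'.1 ha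
    rw [map_mul, theta_sub_one, mul_zero])

theorem thetaBar_mk (r : R) :
    thetaBar 𝒜 tu N hN ht hm (Ideal.Quotient.mk _ r) = theta 𝒜 tu N hN ht hm r := rfl

theorem thetaBar_surjective : Function.Surjective (thetaBar 𝒜 tu N hN ht hm) := by
  intro y
  obtain ⟨r, rfl⟩ := theta_surjective 𝒜 tu N hN ht hm y
  exact ⟨Ideal.Quotient.mk _ r, rfl⟩

theorem ker_thetaBar_isMaximal : (RingHom.ker (thetaBar 𝒜 tu N hN ht hm)).IsMaximal :=
  RingHom.ker_isMaximal_of_surjective _ (thetaBar_surjective 𝒜 tu N hN ht hm)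

omit [IsLocalRing (SetLike.GradeZero.subring 𝒜)] in
theorem mk_tu : Ideal.Quotient.mk (Ideal.span {(tu : R) - 1}) (tu : R) = 1 := by
  rw [← sub_eq_zero, ← map_one (Ideal.Quotient.mk (Ideal.span {(tu : R) - 1})), ← map_sub]
  exact Ideal.Quotient.eq_zero_iff_mem.2 (Ideal.mem_span_singleton_self _)

omit [IsLocalRing (SetLike.GradeZero.subring 𝒜)] in
theorem mk_zpow (k : ℤ) :
    Ideal.Quotient.mk (Ideal.span {(tu : R) - 1}) ((tu ^ k : Rˣ) : R) = 1 := by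
  have h1 : Units.map (Ideal.Quotient.mk (Ideal.span {(tu : R) - 1})).toMonoidHom tu = 1 :=
    Units.ext (mk_tu tu)
  have h2 : Ideal.Quotient.mk (Ideal.span {(tu : R) - 1}) ((tu ^ k : Rˣ) : R) =
      ((Units.map (Ideal.Quotient.mk (Ideal.span {(tu : R) - 1})).toMonoidHom (tu ^ k) :
        (R ⧸ Ideal.span {(tu : R) - 1})ˣ) : R ⧸ Ideal.span {(tu : R) - 1}) := rfl
  rw [h2, map_zpow, h1, one_zpow, Units.val_one]

/-- the `R₀`-algebra structure on `C` -/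
@[instance_reducible]
noncomputable def algC : Algebra (SetLike.GradeZero.subring 𝒜) (R ⧸ Ideal.span {(tu : R) - 1}) :=
  ((Ideal.Quotient.mk (Ideal.span {(tu : R) - 1})).comp
    (SetLike.GradeZero.subring 𝒜).subtype).toAlgebra

include ht in
omit [IsLocalRing (SetLike.GradeZero.subring 𝒜)] in
/-- `N`-th powers of homogeneous elements are, modulo `t - 1`, of degree zero. -/
theorem mk_pow_eq {n : ℤ} {a : R} (ha : a ∈ 𝒜 n) :
    ∃ c : SetLike.GradeZero.subring 𝒜, (c : R) = a ^ N * ((tu ^ (-n) : Rˣ) : R) ∧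
      (Ideal.Quotient.mk (Ideal.span {(tu : R) - 1}) a) ^ N =
        Ideal.Quotient.mk (Ideal.span {(tu : R) - 1}) (c : R) := by
  have h1 : a ^ N ∈ 𝒜 (n * N) := by
    have := SetLike.pow_mem_graded N ha
    rwa [nsmul_eq_mul, mul_comm] at this
  refine ⟨⟨a ^ N * ((tu ^ (-n) : Rˣ) : R), mul_zpow_mem_zero 𝒜 tu N ht n h1⟩, rfl, ?_⟩
  rw [← map_pow]
  change _ = Ideal.Quotient.mk _ (a ^ N * ((tu ^ (-n) : Rˣ) : R))
  rw [map_mul, mk_zpow, mul_one]

include hN ht in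
omit [IsLocalRing (SetLike.GradeZero.subring 𝒜)] in
theorem isIntegral_C :
    @Algebra.IsIntegral (SetLike.GradeZero.subring 𝒜) (R ⧸ Ideal.span {(tu : R) - 1}) _ _
      (algC 𝒜 tu) := by
  let _ := algC 𝒜 tu
  refine ⟨fun x => ?_⟩
  obtain ⟨r, rfl⟩ := Ideal.Quotient.mk_surjective x
  induction r using DirectSum.Decomposition.inductionOn 𝒜 with
  | zero => rw [map_zero]; exact isIntegral_zero
  | homogeneous a =>
    obtain ⟨c, _, hc⟩ := mk_pow_eq 𝒜 tu N ht a.2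
    refine IsIntegral.of_pow hN ?_
    rw [hc]
    exact isIntegral_algebraMap (x := c)
  | add a b ha hb => rw [map_add]; exact ha.add hb

variable (Q : Ideal (R ⧸ Ideal.span {(tu : R) - 1})) [hQ : Q.IsMaximal]

include hN ht hQ in
theorem mk_mem_of_mem_maximalIdeal (c : SetLike.GradeZero.subring 𝒜)
    (hc : c ∈ maximalIdeal (SetLike.GradeZero.subring 𝒜)) :
    Ideal.Quotient.mk (Ideal.span {(tu : R) - 1}) (c : R) ∈ Q := by
  let _ := algC 𝒜 tu
  have := isIntegral_C 𝒜 tu N hN ht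
  have h1 : (Q.comap (algebraMap (SetLike.GradeZero.subring 𝒜)
      (R ⧸ Ideal.span {(tu : R) - 1}))).IsMaximal :=
    Ideal.isMaximal_comap_of_isIntegral_of_isMaximal Q
  have h2 := IsLocalRing.eq_maximalIdeal h1
  have h3 : c ∈ Q.comap (algebraMap (SetLike.GradeZero.subring 𝒜)
      (R ⧸ Ideal.span {(tu : R) - 1})) := by rw [h2]; exact hc
  exact h3

include hN ht hm hQ in
theorem mk_mem_of_not_dvd {n : ℤ} (hn : ¬ (N : ℤ) ∣ n) {a : R} (ha : a ∈ 𝒜 n) :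
    Ideal.Quotient.mk (Ideal.span {(tu : R) - 1}) a ∈ Q := by
  obtain ⟨c, hc1, hc2⟩ := mk_pow_eq 𝒜 tu N ht ha
  have h1 : theta 𝒜 tu N hN ht hm (c : R) = 0 := by
    rw [hc1, map_mul, map_pow, theta_of_not_dvd 𝒜 tu N hN ht hm hn ha, zero_pow hN.ne', zero_mul]
  rw [theta_of_mem_zero 𝒜 tu N hN ht hm c.2] at h1
  have h2 : c ∈ maximalIdeal (SetLike.GradeZero.subring 𝒜) := (residue_eq_zero_iff _).1 h1
  have h3 := mk_mem_of_mem_maximalIdeal 𝒜 tu N hN ht Q c h2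
  rw [← hc2] at h3
  exact hQ.isPrime.mem_of_pow_mem _ h3

include hQ in
theorem exists_deg_zero (x : R ⧸ Ideal.span {(tu : R) - 1}) :
    ∃ c : SetLike.GradeZero.subring 𝒜,
      x - Ideal.Quotient.mk (Ideal.span {(tu : R) - 1}) (c : R) ∈ Q ∧
        thetaBar 𝒜 tu N hN ht hm x = residue (SetLike.GradeZero.subring 𝒜) c := by
  obtain ⟨r, rfl⟩ := Ideal.Quotient.mk_surjective x
  induction r using DirectSum.Decomposition.inductionOn 𝒜 with
  | zero => exact ⟨0, by simp, by simp⟩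
  | @homogeneous n a =>
    by_cases hn : (N : ℤ) ∣ n
    · obtain ⟨k, hk⟩ := hn
      have ha : (a : R) ∈ 𝒜 (k * N) := by rw [mul_comm, ← hk]; exact a.2
      refine ⟨⟨(a : R) * ((tu ^ (-k) : Rˣ) : R), mul_zpow_mem_zero 𝒜 tu N ht k ha⟩, ?_, ?_⟩
      · change Ideal.Quotient.mk _ (a : R) - Ideal.Quotient.mk _ ((a : R) * ((tu ^ (-k) : Rˣ) : R)) ∈ Q
        rw [map_mul, mk_zpow, mul_one, sub_self]
        exact Q.zero_mem
      · rw [thetaBar_mk, theta_of_mem_mul 𝒜 tu N hN ht hm k ha]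
    · refine ⟨0, ?_, ?_⟩
      · simpa using mk_mem_of_not_dvd 𝒜 tu N hN ht hm Q hn a.2
      · rw [thetaBar_mk, theta_of_not_dvd 𝒜 tu N hN ht hm hn a.2, map_zero]
  | add a b ha hb =>
    obtain ⟨c1, h1, h1'⟩ := ha
    obtain ⟨c2, h2, h2'⟩ := hb
    refine ⟨c1 + c2, ?_, ?_⟩
    · have := Q.add_mem h1 h2
      convert this using 1
      simp only [map_add, Subring.coe_add]
      ring
    · rw [map_add, map_add, h1', h2', map_add]

include hQ in
theorem ker_thetaBar_le : RingHom.ker (thetaBar 𝒜 tu N hN ht hm) ≤ Q := by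
  intro x hx
  obtain ⟨c, h1, h2⟩ := exists_deg_zero 𝒜 tu N hN ht hm Q x
  rw [RingHom.mem_ker] at hx
  rw [hx] at h2
  have h3 : c ∈ maximalIdeal (SetLike.GradeZero.subring 𝒜) := (residue_eq_zero_iff _).1 h2.symm
  have h4 := mk_mem_of_mem_maximalIdeal 𝒜 tu N hN ht Q c h3
  have := Q.add_mem h1 h4
  rwa [sub_add_cancel] at this

include 𝒜 N hN ht hm in
theorem isLocalRing_quot : IsLocalRing (R ⧸ Ideal.span {(tu : R) - 1}) := by
  have hmax := ker_thetaBar_isMaximal 𝒜 tu N hN ht hm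
  refine IsLocalRing.of_unique_max_ideal ⟨_, hmax, fun Q hQ => ?_⟩
  have := hQ
  exact (hmax.eq_of_le hQ.ne_top (ker_thetaBar_le 𝒜 tu N hN ht hm Q)).symm

theorem maximalIdeal_quot :
    @maximalIdeal (R ⧸ Ideal.span {(tu : R) - 1}) _ (isLocalRing_quot 𝒜 tu N hN ht hm) =
      RingHom.ker (thetaBar 𝒜 tu N hN ht hm) :=
  letI := isLocalRing_quot 𝒜 tu N hN ht hm
  (IsLocalRing.eq_maximalIdeal (ker_thetaBar_isMaximal 𝒜 tu N hN ht hm)).symm

end theta

end Groth.Agent.Lib.Helper20.GrUnit
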