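import Groth.Agent.Lib.Helper20.GrUnit3
import Groth.Agent.Lib.helper19.RegularLocal
import Mathlib

/-!
# Helper20 — GrUnit4: for a regular ℤ-graded Noetherian ring `R` with `R₀` local, a homogeneous
unit `t` of degree `N > 0` and `R_i R_j ⊆ 𝔪₀ t` (`i, j > 0`, `i + j = N`), the ring `R / (t - 1)` is a
regular local ring.
-/

set_option autoImplicit false
universe u v

namespace Groth.Agent.Lib.Helper20.GrUnit

open DirectSum IsLocalRing TrivSqZeroExt DualNumber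

section square

variable {R : Type u} [CommRing R] (𝒜 : ℤ → AddSubgroup R) [GradedRing 𝒜]
  [IsLocalRing (SetLike.GradeZero.subring 𝒜)]
  (tu : Rˣ) (N : ℕ) (hN : 0 < N) (ht : (tu : R) ∈ 𝒜 (N : ℤ))
  (hm : ∀ (i j : ℤ), 0 < i → 0 < j → i + j = (N : ℤ) → ∀ a ∈ 𝒜 i, ∀ b ∈ 𝒜 j,
      ∃ c : SetLike.GradeZero.subring 𝒜,
        c ∈ IsLocalRing.maximalIdeal (SetLike.GradeZero.subring 𝒜) ∧ a * b = (c : R) * tu)

/-- `R₀ → κ → κ[ε]` -/
noncomputable def iota2 : SetLike.GradeZero.subring 𝒜 →+*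
    DualNumber (ResidueField (SetLike.GradeZero.subring 𝒜)) :=
  (TrivSqZeroExt.inlHom _ _).comp (residue (SetLike.GradeZero.subring 𝒜))

theorem iota2_kills : ∀ c ∈ maximalIdeal (SetLike.GradeZero.subring 𝒜), iota2 𝒜 c = 0 := by
  intro c hc
  unfold iota2
  rw [RingHom.comp_apply, residue_kills 𝒜 c hc, map_zero]

theorem fst_iota2 (c : SetLike.GradeZero.subring 𝒜) :
    (iota2 𝒜 c).fst = residue (SetLike.GradeZero.subring 𝒜) c := rfl

/-- the unit `1 + ε` -/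
noncomputable def u2 (K : Type u) [Field K] : (DualNumber K)ˣ :=
  ⟨1 + ε, 1 - ε, by
    have := eps_mul_eps (R := K)
    linear_combination (-1 : DualNumber K) * this, by
    have := eps_mul_eps (R := K)
    linear_combination (-1 : DualNumber K) * this⟩

theorem fst_u2_zpow (K : Type u) [Field K] (k : ℤ) :
    ((u2 K ^ k : (DualNumber K)ˣ) : DualNumber K).fst = 1 := by
  have h1 : Units.map ((TrivSqZeroExt.fstHom K K K : DualNumber K →ₐ[K] K) :
      DualNumber K →+* K).toMonoidHom (u2 K) = 1 :=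
    Units.ext (by simp [u2])
  have h2 : ((u2 K ^ k : (DualNumber K)ˣ) : DualNumber K).fst =
      ((Units.map ((TrivSqZeroExt.fstHom K K K : DualNumber K →ₐ[K] K) :
      DualNumber K →+* K).toMonoidHom (u2 K ^ k) : Kˣ) : K) := rfl
  rw [h2, map_zpow, h1, one_zpow, Units.val_one]

/-- the ring hom `ψ₂ : R → κ[ε]` -/
noncomputable def psi2 : R →+* DualNumber (ResidueField (SetLike.GradeZero.subring 𝒜)) :=
  psi 𝒜 (iota2 𝒜) tu N (u2 _) hN ht hm (iota2_kills 𝒜)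

theorem fst_psi2 (r : R) :
    (psi2 𝒜 tu N hN ht hm r).fst = theta 𝒜 tu N hN ht hm r := by
  have h : ((TrivSqZeroExt.fstHom (ResidueField (SetLike.GradeZero.subring 𝒜))
      (ResidueField (SetLike.GradeZero.subring 𝒜)) (ResidueField (SetLike.GradeZero.subring 𝒜)) :
      DualNumber (ResidueField (SetLike.GradeZero.subring 𝒜)) →ₐ[_] _) :
      DualNumber (ResidueField (SetLike.GradeZero.subring 𝒜)) →+* _).comp
        (psi2 𝒜 tu N hN ht hm) = theta 𝒜 tu N hN ht hm := by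
    apply ringHom_ext_homog 𝒜
    intro n a ha
    rw [RingHom.comp_apply]
    by_cases hn : (N : ℤ) ∣ n
    · obtain ⟨k, hk⟩ := hn
      have ha' : a ∈ 𝒜 (k * N) := by rw [mul_comm, ← hk]; exact ha
      rw [theta_of_mem_mul 𝒜 tu N hN ht hm k ha']
      unfold psi2
      rw [psi_of_mem_mul 𝒜 _ tu N _ hN ht hm _ k ha',
        iota'_of_mem_zero 𝒜 _ (mul_zpow_mem_zero 𝒜 tu N ht k ha')]
      change (iota2 𝒜 _ * _).fst = _
      rw [fst_mul, fst_u2_zpow, mul_one, fst_iota2]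
    · rw [theta_of_not_dvd 𝒜 tu N hN ht hm hn ha]
      unfold psi2
      rw [psi_of_not_dvd 𝒜 _ tu N _ hN ht hm _ hn ha, map_zero]
  exact RingHom.congr_fun h r

theorem psi2_sub_one : psi2 𝒜 tu N hN ht hm ((tu : R) - 1) = ε := by
  unfold psi2
  rw [map_sub, psi_tu, map_one]
  change (1 + ε : DualNumber _) - 1 = ε
  ring

theorem mul_eq_zero_of_fst {K : Type u} [Field K] (x y : DualNumber K) (hx : x.fst = 0)
    (hy : y.fst = 0) : x * y = 0 := by
  apply TrivSqZeroExt.ext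
  · simp [hx]
  · simp [hx, hy]

theorem psi2_eq_zero_of_mem_sq (r : R) (hr : r ∈ (RingHom.ker (theta 𝒜 tu N hN ht hm)) ^ 2) :
    psi2 𝒜 tu N hN ht hm r = 0 := by
  rw [pow_two] at hr
  refine Submodule.mul_induction_on hr ?_ ?_
  · intro m hm' n hn'
    rw [map_mul]
    apply mul_eq_zero_of_fst
    · rw [fst_psi2]; exact hm'
    · rw [fst_psi2]; exact hn'
  · intro x y hx hy
    rw [map_add, hx, hy, add_zero]

theorem mul_sub_one_notMem_sq (s : R) (hs : theta 𝒜 tu N hN ht hm s ≠ 0) :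
    s * ((tu : R) - 1) ∉ (RingHom.ker (theta 𝒜 tu N hN ht hm)) ^ 2 := by
  intro h
  have h1 := psi2_eq_zero_of_mem_sq 𝒜 tu N hN ht hm _ h
  rw [map_mul, psi2_sub_one] at h1
  have hu : IsUnit (psi2 𝒜 tu N hN ht hm s) := by
    rw [TrivSqZeroExt.isUnit_iff_isUnit_fst, fst_psi2]
    exact isUnit_iff_ne_zero.2 hs
  have h2 : (ε : DualNumber (ResidueField (SetLike.GradeZero.subring 𝒜))) = 0 :=
    (hu.mul_right_eq_zero).1 h1
  have h3 := congrArg TrivSqZeroExt.snd h2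
  rw [snd_eps] at h3
  exact one_ne_zero h3

end square

section main

variable {R : Type u} [CommRing R] (𝒜 : ℤ → AddSubgroup R) [GradedRing 𝒜]
  [IsLocalRing (SetLike.GradeZero.subring 𝒜)]
  (tu : Rˣ) (N : ℕ) (hN : 0 < N) (ht : (tu : R) ∈ 𝒜 (N : ℤ))
  (hm : ∀ (i j : ℤ), 0 < i → 0 < j → i + j = (N : ℤ) → ∀ a ∈ 𝒜 i, ∀ b ∈ 𝒜 j,
      ∃ c : SetLike.GradeZero.subring 𝒜,
        c ∈ IsLocalRing.maximalIdeal (SetLike.GradeZero.subring 𝒜) ∧ a * b = (c : R) * tu)
  (hreg : ∀ (p : Ideal R) [p.IsPrime], IsRegularLocalRing (Localization.AtPrime p))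

include 𝒜 N hN ht hm hreg in
theorem isRegularLocalRing_quot : IsRegularLocalRing (R ⧸ Ideal.span {(tu : R) - 1}) := by
  set P : Ideal R := RingHom.ker (theta 𝒜 tu N hN ht hm) with hP
  have hPmax : P.IsMaximal :=
    RingHom.ker_isMaximal_of_surjective _ (theta_surjective 𝒜 tu N hN ht hm)
  have hPprime : P.IsPrime := hPmax.isPrime
  let Rp := Localization.AtPrime P
  have hRp : IsRegularLocalRing Rp := hreg P
  set x : Rp := algebraMap R Rp ((tu : R) - 1) with hx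
  have hx1 : x ∈ maximalIdeal Rp :=
    (IsLocalization.AtPrime.to_map_mem_maximal_iff Rp P _).2 (theta_sub_one 𝒜 tu N hN ht hm)
  have hx2 : x ∉ maximalIdeal Rp ^ 2 := by
    rw [← Localization.AtPrime.map_eq_maximalIdeal, ← Ideal.map_pow]
    intro h
    obtain ⟨⟨⟨a, ha⟩, ⟨s, hs⟩⟩, h1⟩ := (IsLocalization.mem_map_algebraMap_iff P.primeCompl Rp).1 h
    simp only [hx] at h1
    rw [← map_mul] at h1
    obtain ⟨⟨c, hc⟩, h2⟩ := (IsLocalization.eq_iff_exists P.primeCompl Rp).1 h1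
    simp only at h2
    have h3 : (c * s) * ((tu : R) - 1) ∈ P ^ 2 := by
      have : (c * s) * ((tu : R) - 1) = c * a := by rw [← h2]; ring
      rw [this]
      exact Ideal.mul_mem_left _ _ ha
    refine mul_sub_one_notMem_sq 𝒜 tu N hN ht hm (c * s) ?_ h3
    rw [map_mul]
    exact mul_ne_zero (fun h0 => hc h0) (fun h0 => hs h0)
  have hregQ := (Groth.Agent.Lib.helper19.isRegularLocalRing_quotient_span_singleton
    hx1 hx2).1
  -- transport along `C ≃ R_P / (x)`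
  have hloc := isLocalRing_quot 𝒜 tu N hN ht hm
  have hmaxC := maximalIdeal_quot 𝒜 tu N hN ht hm
  let I : Ideal R := Ideal.span {(tu : R) - 1}
  have hunits : Algebra.algebraMapSubmonoid (R ⧸ I) P.primeCompl ≤ IsUnit.submonoid (R ⧸ I) := by
    rintro _ ⟨y, hy, rfl⟩
    change IsUnit (Ideal.Quotient.mk I y)
    rw [← IsLocalRing.notMem_maximalIdeal, hmaxC, RingHom.mem_ker]
    exact hy
  have e1 : (R ⧸ I) ≃+* (Rp ⧸ I.map (algebraMap R Rp)) :=
    (IsLocalization.atUnits (R ⧸ I) (Algebra.algebraMapSubmonoid (R ⧸ I) P.primeCompl)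
      (S := Rp ⧸ I.map (algebraMap R Rp)) hunits).toRingEquiv
  have hI : I.map (algebraMap R Rp) = Ideal.span {x} := by
    rw [Ideal.map_span, Set.image_singleton]
  have e2 : (Rp ⧸ I.map (algebraMap R Rp)) ≃+* (Rp ⧸ Ideal.span {x}) :=
    Ideal.quotEquivOfEq hI
  exact IsRegularLocalRing.of_ringEquiv (e1.trans e2).symm

end main

end Groth.Agent.Lib.Helper20.GrUnit

namespace Groth.Agent.Lib.Helper20.GrUnit

open IsLocalRing

section hmin

variable {R : Type u} [CommRing R] (𝒜 : ℤ → AddSubgroup R) [GradedRing 𝒜]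
  [IsLocalRing (SetLike.GradeZero.subring 𝒜)]
  (tu : Rˣ) (N : ℕ) (ht : (tu : R) ∈ 𝒜 (N : ℤ))
  (hmin : ∀ (n : ℤ), 0 < n → n < (N : ℤ) → ∀ s ∈ 𝒜 n, ¬ IsUnit s)

include ht hmin in
/-- minimality of the degree of the unit gives the hypothesis `R_i R_j ⊆ 𝔪₀ t`. -/
theorem hm_of_hmin (i j : ℤ) (hi : 0 < i) (hj : 0 < j) (hij : i + j = (N : ℤ)) (a : R)
    (ha : a ∈ 𝒜 i) (b : R) (hb : b ∈ 𝒜 j) :
    ∃ c : SetLike.GradeZero.subring 𝒜,
      c ∈ IsLocalRing.maximalIdeal (SetLike.GradeZero.subring 𝒜) ∧ a * b = (c : R) * tu := by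
  have hab : a * b ∈ 𝒜 ((1 : ℤ) * N) := by
    have := SetLike.mul_mem_graded ha hb
    rwa [hij, ← one_mul (N : ℤ)] at this
  have hc0 := mul_zpow_mem_zero 𝒜 tu N ht 1 hab
  refine ⟨⟨a * b * ((tu ^ (-1 : ℤ) : Rˣ) : R), hc0⟩, ?_, ?_⟩
  · by_contra hc
    have hcu : IsUnit (⟨a * b * ((tu ^ (-1 : ℤ) : Rˣ) : R), hc0⟩ :
        SetLike.GradeZero.subring 𝒜) := IsLocalRing.notMem_maximalIdeal.1 hc
    have hcu' : IsUnit (a * b * ((tu ^ (-1 : ℤ) : Rˣ) : R)) :=
      hcu.map (SetLike.GradeZero.subring 𝒜).subtype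
    have h1 : IsUnit (a * (b * ((tu ^ (-1 : ℤ) : Rˣ) : R))) := by rwa [← mul_assoc]
    have h2 : IsUnit a := isUnit_of_mul_isUnit_left h1
    exact hmin i hi (by linarith) a ha h2
  · change a * b = a * b * ((tu ^ (-1 : ℤ) : Rˣ) : R) * tu
    rw [zpow_neg_one, mul_assoc, Units.inv_mul, mul_one]

end hmin

end Groth.Agent.Lib.Helper20.GrUnit
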