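import Groth.Agent.Lib.Helper20.GrUnit4
import Groth.Agent.Lib.Helper5.SerreLoc
import Groth.Agent.Lib.Helper21.Torus10
import Mathlib

/-!
# Helper20 — GrUnit5: for a ℤ-graded ring `R` with a homogeneous unit `t` of degree `N > 0`,
`R[U]/(U^N - t) ≃ (R/(t-1))[T;T⁻¹]`, and regularity of `R[U]/(U^N - t)`.
-/

set_option autoImplicit false
universe u v

namespace Groth.Agent.Lib.Helper20.GrUnit

open Polynomial LaurentPolynomial

section iso

variable {R : Type u} [CommRing R] (𝒜 : ℤ → AddSubgroup R) [GradedRing 𝒜]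
  (tu : Rˣ) (N : ℕ) (hN : 0 < N) (ht : (tu : R) ∈ 𝒜 (N : ℤ))

/-- `C = R/(t-1)` -/
abbrev Cq : Type u := R ⧸ Ideal.span {(tu : R) - 1}

/-- `R' = R[U]/(U^N - t)` -/
abbrev Rr : Type u := AdjoinRoot (X ^ N - Polynomial.C (tu : R) : R[X])

/-- the unit `T` of the Laurent polynomial ring -/
noncomputable def Tunit (A : Type u) [CommRing A] : (A[T;T⁻¹])ˣ :=
  ⟨T 1, T (-1), by rw [← T_add]; simp, by rw [← T_add]; simp⟩

theorem Tunit_zpow (A : Type u) [CommRing A] (n : ℤ) :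
    ((Tunit A ^ n : (A[T;T⁻¹])ˣ) : A[T;T⁻¹]) = T n := by
  cases n with
  | ofNat k =>
    rw [Int.ofNat_eq_natCast, zpow_natCast, Units.val_pow_eq_pow_val]
    change (T 1 : A[T;T⁻¹]) ^ k = _
    rw [T_pow, mul_one]
  | negSucc k =>
    rw [zpow_negSucc, ← inv_pow, Units.val_pow_eq_pow_val]
    change (T (-1) : A[T;T⁻¹]) ^ (k + 1) = _
    rw [T_pow, Int.negSucc_eq]
    congr 1
    push_cast
    ring

/-- the coaction `R → C[T;T⁻¹]`, `rₙ ↦ r̄ₙ Tⁿ` -/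
noncomputable def coact : R →+* (Cq tu)[T;T⁻¹] :=
  twist 𝒜 ((LaurentPolynomial.C).comp (Ideal.Quotient.mk (Ideal.span {(tu : R) - 1})))
    (Tunit (Cq tu))

theorem coact_of_mem {n : ℤ} {a : R} (ha : a ∈ 𝒜 n) :
    coact 𝒜 tu a = LaurentPolynomial.C (Ideal.Quotient.mk (Ideal.span {(tu : R) - 1}) a) * T n := by
  unfold coact
  rw [twist_of_mem 𝒜 _ _ ha, Tunit_zpow]
  rfl

include ht in
theorem coact_tu : coact 𝒜 tu (tu : R) = T (N : ℤ) := by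
  rw [coact_of_mem 𝒜 tu ht, mk_tu, map_one, one_mul]

/-- `Φ : R' → C[T;T⁻¹]` -/
noncomputable def Phi : Rr tu N →+* (Cq tu)[T;T⁻¹] :=
  AdjoinRoot.lift (coact 𝒜 tu) (T 1) (by
    rw [Polynomial.eval₂_sub, Polynomial.eval₂_pow, Polynomial.eval₂_X, Polynomial.eval₂_C, coact_tu 𝒜 tu N ht, T_pow, mul_one, sub_self])

theorem Phi_of (r : R) : Phi 𝒜 tu N ht (AdjoinRoot.of _ r) = coact 𝒜 tu r := by
  unfold Phi
  rw [AdjoinRoot.lift_of]

theorem Phi_root : Phi 𝒜 tu N ht (AdjoinRoot.root _) = T 1 := by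
  unfold Phi
  rw [AdjoinRoot.lift_root]

omit [GradedRing 𝒜] in
theorem root_pow' : (AdjoinRoot.root (X ^ N - Polynomial.C (tu : R) : R[X])) ^ N =
    AdjoinRoot.of _ (tu : R) := by
  have h := AdjoinRoot.mk_self (f := (X ^ N - Polynomial.C (tu : R) : R[X]))
  rw [map_sub, map_pow, AdjoinRoot.mk_X, AdjoinRoot.mk_C, sub_eq_zero] at h
  exact h

/-- the unit `U` of `R'` -/
noncomputable def Uunit : (Rr tu N)ˣ :=
  ⟨AdjoinRoot.root _, AdjoinRoot.root _ ^ (N - 1) * AdjoinRoot.of _ ((tu⁻¹ : Rˣ) : R), by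
    rw [← mul_assoc, ← pow_succ', Nat.sub_add_cancel hN, root_pow', ← map_mul, Units.mul_inv,
      map_one], by
    rw [mul_comm, ← mul_assoc, ← pow_succ', Nat.sub_add_cancel hN, root_pow', ← map_mul,
      Units.mul_inv, map_one]⟩

theorem Uunit_val : ((Uunit tu N hN : (Rr tu N)ˣ) : Rr tu N) = AdjoinRoot.root _ := rfl

theorem of_tu_eq : AdjoinRoot.of (X ^ N - Polynomial.C (tu : R) : R[X]) (tu : R) =
    ((Uunit tu N hN ^ (N : ℤ) : (Rr tu N)ˣ) : Rr tu N) := by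
  rw [zpow_natCast, Units.val_pow_eq_pow_val, Uunit_val, root_pow']

/-- `γ : R → R'`, `rₙ ↦ rₙ U⁻ⁿ` -/
noncomputable def gamma : R →+* Rr tu N :=
  twist 𝒜 (AdjoinRoot.of _) (Uunit tu N hN)⁻¹

theorem gamma_of_mem {n : ℤ} {a : R} (ha : a ∈ 𝒜 n) :
    gamma 𝒜 tu N hN a = AdjoinRoot.of _ a * (((Uunit tu N hN)⁻¹ ^ n : (Rr tu N)ˣ) : Rr tu N) := by
  unfold gamma
  rw [twist_of_mem 𝒜 _ _ ha]

include ht in
theorem gamma_tu : gamma 𝒜 tu N hN (tu : R) = 1 := by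
  rw [gamma_of_mem 𝒜 tu N hN ht, of_tu_eq tu N hN, ← Units.val_mul, inv_zpow, mul_inv_cancel,
    Units.val_one]

/-- `γ̄ : C → R'` -/
noncomputable def gammaBar : Cq tu →+* Rr tu N :=
  Ideal.Quotient.lift _ (gamma 𝒜 tu N hN) (by
    intro a ha
    obtain ⟨r, rfl⟩ := Ideal.mem_span_singleton'.1 ha
    rw [map_mul, map_sub, gamma_tu 𝒜 tu N hN ht, map_one, sub_self, mul_zero])

theorem gammaBar_mk (r : R) :
    gammaBar 𝒜 tu N hN ht (Ideal.Quotient.mk _ r) = gamma 𝒜 tu N hN r := rfl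

/-- `Ψ : C[T;T⁻¹] → R'` -/
noncomputable def Psi : (Cq tu)[T;T⁻¹] →+* Rr tu N :=
  LaurentPolynomial.eval₂ (gammaBar 𝒜 tu N hN ht) (Uunit tu N hN)

theorem Phi_Uunit_zpow (n : ℤ) :
    Phi 𝒜 tu N ht (((Uunit tu N hN) ^ n : (Rr tu N)ˣ) : Rr tu N) = T n := by
  have h1 : Units.map (Phi 𝒜 tu N ht).toMonoidHom (Uunit tu N hN) = Tunit (Cq tu) :=
    Units.ext (Phi_root 𝒜 tu N ht)
  have h2 : Phi 𝒜 tu N ht (((Uunit tu N hN) ^ n : (Rr tu N)ˣ) : Rr tu N) =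
      ((Units.map (Phi 𝒜 tu N ht).toMonoidHom ((Uunit tu N hN) ^ n) : ((Cq tu)[T;T⁻¹])ˣ) :
        (Cq tu)[T;T⁻¹]) := rfl
  rw [h2, map_zpow, h1, Tunit_zpow]

theorem Psi_Phi : (Psi 𝒜 tu N hN ht).comp (Phi 𝒜 tu N ht) = RingHom.id _ := by
  apply AdjoinRoot.ringHom_ext
  · apply ringHom_ext_homog 𝒜
    intro n a ha
    simp only [RingHom.comp_apply, RingHom.id_apply]
    rw [Phi_of, coact_of_mem 𝒜 tu ha]
    unfold Psi
    rw [LaurentPolynomial.eval₂_C_mul_T, gammaBar_mk, gamma_of_mem 𝒜 tu N hN ha, mul_assoc,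
      ← Units.val_mul, inv_zpow, inv_mul_cancel, Units.val_one, mul_one]
  · simp only [RingHom.comp_apply, RingHom.id_apply]
    rw [Phi_root]
    unfold Psi
    rw [LaurentPolynomial.eval₂_T, zpow_one]
    rfl

theorem Phi_gammaBar (c : Cq tu) :
    Phi 𝒜 tu N ht (gammaBar 𝒜 tu N hN ht c) = LaurentPolynomial.C c := by
  have h : ((Phi 𝒜 tu N ht).comp (gammaBar 𝒜 tu N hN ht)).comp
      (Ideal.Quotient.mk (Ideal.span {(tu : R) - 1})) =
      (LaurentPolynomial.C).comp (Ideal.Quotient.mk (Ideal.span {(tu : R) - 1})) := by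
    apply ringHom_ext_homog 𝒜
    intro n a ha
    simp only [RingHom.comp_apply]
    rw [gammaBar_mk, gamma_of_mem 𝒜 tu N hN ha, map_mul, Phi_of, coact_of_mem 𝒜 tu ha,
      ← zpow_neg_one, ← zpow_mul, Phi_Uunit_zpow, mul_assoc, ← T_add]
    simp
  obtain ⟨r, rfl⟩ := Ideal.Quotient.mk_surjective c
  exact RingHom.congr_fun h r

theorem Phi_Psi : (Phi 𝒜 tu N ht).comp (Psi 𝒜 tu N hN ht) = RingHom.id _ := by
  refine RingHom.ext fun p => ?_
  simp only [RingHom.comp_apply, RingHom.id_apply]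
  induction p using LaurentPolynomial.induction_on' with
  | add p q hp hq => rw [map_add, map_add, hp, hq]
  | C_mul_T n a =>
    unfold Psi
    rw [LaurentPolynomial.eval₂_C_mul_T, map_mul, Phi_gammaBar, Phi_Uunit_zpow]

/-- `R[U]/(U^N - t) ≃ (R/(t-1))[T;T⁻¹]` -/
noncomputable def isoLaurent : Rr tu N ≃+* (Cq tu)[T;T⁻¹] :=
  RingEquiv.ofRingHom (Phi 𝒜 tu N ht) (Psi 𝒜 tu N hN ht) (Phi_Psi 𝒜 tu N hN ht)
    (Psi_Phi 𝒜 tu N hN ht)

end iso

section main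

variable {R : Type u} [CommRing R] (𝒜 : ℤ → AddSubgroup R) [GradedRing 𝒜]
  [IsLocalRing (SetLike.GradeZero.subring 𝒜)]
  (tu : Rˣ) (N : ℕ) (hN : 0 < N) (ht : (tu : R) ∈ 𝒜 (N : ℤ))
  (hm : ∀ (i j : ℤ), 0 < i → 0 < j → i + j = (N : ℤ) → ∀ a ∈ 𝒜 i, ∀ b ∈ 𝒜 j,
      ∃ c : SetLike.GradeZero.subring 𝒜,
        c ∈ IsLocalRing.maximalIdeal (SetLike.GradeZero.subring 𝒜) ∧ a * b = (c : R) * tu)
  (hreg : ∀ (p : Ideal R) [p.IsPrime], IsRegularLocalRing (Localization.AtPrime p))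

include 𝒜 hN ht hm hreg in
theorem isRegularRing_adjoinRoot :
    IsRegularRing (AdjoinRoot (X ^ N - Polynomial.C (tu : R) : R[X])) := by
  have h1 : IsRegularLocalRing (Cq tu) := isRegularLocalRing_quot 𝒜 tu N hN ht hm hreg
  have h2 : IsRegularRing (Cq tu) :=
    ⟨fun p _ => Groth.Agent.Lib.Helper5.SerreLoc.localization_regular (Cq tu) p⟩
  have h3 : IsRegularRing ((Cq tu)[T;T⁻¹]) :=
    Groth.Agent.Lib.Helper21.Torus.isRegularRing_laurent (Cq tu)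
  exact IsRegularRing.of_ringEquiv (isoLaurent 𝒜 tu N hN ht).symm

end main

end Groth.Agent.Lib.Helper20.GrUnit
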