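import Mathlib
import Groth.Agent.Lib.Helper20.GrVG4
import Groth.Agent.Lib.Helper20.GorTop4
import Groth.Agent.Lib.Helper20.CanonLoc4
import Groth.Agent.Lib.Helper20.HilbMono1
import Groth.Agent.Lib.Helper20.GrLES12
import Groth.Agent.Lib.Helper20.GorGr3
import Groth.Agent.Lib.Helper20.GrAcyc3
import Groth.Agent.Lib.Helper20.GrKit8
import Groth.Agent.Lib.Helper20.GrKit17
import Groth.Agent.Lib.Helper20.GrKit11
import Groth.Agent.Lib.helper11.SG8
import Groth.Agent.S11175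
import Groth.Agent.S0341

/-!
# The Veronese subring of a Gorenstein graded ring is Gorenstein when `q` divides the a-invariant
-/

set_option autoImplicit false
set_option linter.unusedSectionVars false
set_option linter.unusedVariables false
set_option linter.style.haveILetI false

namespace Groth.Agent.Lib.Helper20.GrVG

open DirectSum Groth.Agent.Lib.Helper26.GrProj Groth.Agent.Lib.Helper20.GrKit
  Groth.Agent.Lib.Helper20.GrCanW Groth.Agent.Lib.Helper20.GrVer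
  Groth.Agent.Lib.Helper20.GrCoarse Groth.Agent.Lib.Helper20.GrAcyc
  Groth.Agent.Lib.Helper20.GrLES Groth.Agent.Lib.Helper20.HilbMono
  Groth.Agent.Lib.Helper20.CanonLoc IsLocalRing TensorProduct

universe u

theorem s18641 (R : Type u) [CommRing R] [LocCoh.IsGorensteinRing R] (𝒜 : ℤ → AddSubgroup R)
    [GradedRing 𝒜] (hpos : ∀ n : ℤ, n < 0 → 𝒜 n = ⊥) (h0 : IsField (GrLC.deg0 𝒜))
    (m : HomogeneousIdeal 𝒜) (hm : GrLC.IsStarLocal 𝒜 m)
    (hmsp : m.toIdeal = Ideal.span (⋃ n ∈ Set.Ioi (0 : ℤ), (𝒜 n : Set R))) (n : ℕ)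
    (hn : ringKrullDim R = n) (I : GrLC.StarInjRes 𝒜 𝒜) (a : ℤ)
    (ha : GrLC.endDeg (I.Hgr m n) = ((a : WithTop ℤ) : WithBot (WithTop ℤ))) (q : ℕ) (hq : 0 < q)
    (R' : Type u) [CommRing R'] (𝒜' : ℤ → AddSubgroup R') [GradedRing 𝒜'] (φ : R' →+* R)
    (hφ : Function.Injective φ) (hdeg : ∀ j : ℤ, (𝒜' j).map (φ : R' →+ R) = 𝒜 (j * q))
    (hdvd : (q : ℤ) ∣ a) : LocCoh.IsGorensteinRing R' := by
  classical
  haveI : IsNoetherianRing R' := isNoetherianRing_ver 𝒜 q 𝒜' φ hφ hdeg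
  haveI hCM : LocCoh.IsCohenMacaulayRing R :=
    { isCohenMacaulayLocalRing_localization := fun p _ =>
        haveI := LocCoh.IsGorensteinRing.isGorensteinLocalRing_localization (A := R) p
        Groth.Agent.S0341.result _ }
  have hpos' := hpos_ver 𝒜 hpos q hq 𝒜' φ hφ hdeg
  have h0' := isField_deg0_ver 𝒜 h0 q 𝒜' φ hφ hdeg
  set m' : HomogeneousIdeal 𝒜' := irr 𝒜' with hm'def
  have hm' : GrLC.IsStarLocal 𝒜' m' := isStarLocal_irr 𝒜' hpos' h0'
  have hm'sp : m'.toIdeal = Ideal.span (⋃ j ∈ Set.Ioi (0 : ℤ), (𝒜' j : Set R')) := irr_toIdeal 𝒜'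
  haveI hmax' : m'.toIdeal.IsMaximal := isMaximal_irr 𝒜' hpos' h0'
  haveI hprime' : m'.toIdeal.IsPrime := hmax'.isPrime
  -- the hull over `R`
  have hPh : ∀ g r, r ∈ m.toIdeal → proj 𝒜 g r ∈ m.toIdeal := fun g r hr => m.isHomogeneous g hr
  letI decQ : DirectSum.Decomposition (quoGr 𝒜 m.toIdeal) := quoDecomposition 𝒜 m.toIdeal hPh
  obtain ⟨X, e, he0⟩ := exists_isStarInjHull 𝒜 (quoGr 𝒜 m.toIdeal)
  have he : GrLC.IsStarInjHull 𝒜 (GrLC.quotGr 𝒜 m) X.gr e := by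
    rw [quotGr_eq_quoGr]
    exact he0
  have hht : m.toIdeal.height = (n : ℕ∞) := by
    have h1 := GrStarLoc.height_eq_dim 𝒜 hpos m hm
    rw [hn] at h1
    exact WithBot.coe_injective h1
  obtain ⟨g₁, ψ, hψ⟩ := Groth.Agent.Lib.Helper20.GorTop.main 𝒜 m hm n hht I X.gr e he
  have hg₁ : g₁ = -a := shift_pin 𝒜 hpos m hm n I X e he ψ g₁ hψ a ha
  obtain ⟨c, hc⟩ := hdvd
  have hg₁' : g₁ = -((q : ℤ) * c) := by rw [hg₁, hc]
  obtain ⟨Ψ⟩ := nonempty_equiv_ver 𝒜 m hmsp q hq 𝒜' φ hφ hdeg m' hm'sp n I X ψ g₁ hψ c hg₁'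
  set A := verRes 𝒜 q hq 𝒜' φ hdeg 𝒜 𝒜' (phiSL φ) hφ (phiSL_deg 𝒜 q 𝒜' φ hdeg) I with hA
  set V := ver 𝒜 q hq 𝒜' φ hdeg X with hV
  have hacyc : ∀ k, IsAcyc m' (A.X k) := fun k =>
    ver_isAcyc 𝒜 q hq 𝒜' φ hdeg m hmsp m' hm'sp (I.X k) (I.starInj k)
  let F : GrLC.StarInjRes 𝒜' 𝒜' := starInjRes 𝒜' 𝒜'
  obtain ⟨e', he'⟩ := exists_hull_ver 𝒜 hpos h0 m hm hmsp q hq 𝒜' φ hφ hdeg m' hm' hm'sp X e he
  -- the local ring
  haveI : IsNoetherianRing (Localization.AtPrime m'.toIdeal) :=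
    IsLocalization.isNoetherianRing m'.toIdeal.primeCompl (Localization.AtPrime m'.toIdeal)
      inferInstance
  have hG : LocCoh.IsGorensteinLocalRing (Localization.AtPrime m'.toIdeal) := by
    rw [Groth.Agent.S11175.result]
    refine ⟨n, ?_, ?_⟩
    · intro i hi
      obtain ⟨ψB, -, -⟩ := acyclic_computes m' i R' 𝒜' A hacyc F
      obtain ⟨β⟩ := bridge_starInjRes F m' i
      obtain ⟨e2⟩ := nonempty_tensor_H_equiv m'.toIdeal i
      have hI : Subsingleton (I.H m i) := by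
        rcases lt_or_gt_of_ne hi with hlt | hgt
        · exact subsingleton_H_of_lt_dim 𝒜 hpos m hm I n hn i hlt
        · exact Groth.Agent.Lib.helper11.SG8.subsingleton_H_of_dim_lt 𝒜 m n hn R 𝒜 I i hgt
      have hΘinj := theta_injective 𝒜 q hq 𝒜' φ hdeg m hmsp m' hm'sp 𝒜 𝒜' (phiSL φ) hφ
        (phiSL_deg 𝒜 q 𝒜' φ hdeg) I i
      haveI hA' : Subsingleton (A.H m' i) := hΘinj.subsingleton
      haveI hF : Subsingleton (F.H m' i) := ψB.symm.toEquiv.subsingleton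
      haveI hL : Subsingleton (LocCoh.H m'.toIdeal i R') := β.symm.toEquiv.subsingleton
      exact e2.symm.toEquiv.subsingleton
    · obtain ⟨ψB, -, -⟩ := acyclic_computes m' n R' 𝒜' A hacyc F
      obtain ⟨β⟩ := bridge_starInjRes F m' n
      obtain ⟨e2⟩ := nonempty_tensor_H_equiv m'.toIdeal n
      obtain ⟨f₁, hf₁⟩ := exists_hull_localized 𝒜' m' V.gr e' he'
      let κ : V.carrier ≃ₗ[R'] LocCoh.H m'.toIdeal n R' := Ψ.symm.trans (ψB.trans β)
      let et : (Localization.AtPrime m'.toIdeal ⊗[R'] V.carrier) ≃ₗ[Localization.AtPrime m'.toIdeal]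
          (Localization.AtPrime m'.toIdeal ⊗[R'] LocCoh.H m'.toIdeal n R') :=
        TensorProduct.AlgebraTensorModule.congr
          (LinearEquiv.refl (Localization.AtPrime m'.toIdeal) (Localization.AtPrime m'.toIdeal)) κ
      let e1 := LocalizedModule.equivTensorProduct m'.toIdeal.primeCompl V.carrier
      haveI := hf₁.isInjective
      exact Module.Baer.injective (Module.Baer.of_equiv (e1.trans (et.trans e2))
        (Module.Baer.of_injective inferInstance))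
  exact Groth.Agent.Lib.Helper20.GorGr.isGorensteinRing_of_starLocal_int 𝒜' m' hm' hG

end Groth.Agent.Lib.Helper20.GrVG
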