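import Mathlib
import Groth.Prelude.Def_GrLC
import Groth.Agent.Lib.Helper26.GrProj
import Groth.Agent.Lib.Helper20.GrVG1

/-!
# Gluing a semilinear map from a degreewise relation, and the inverse of the hull embedding
-/

set_option autoImplicit false
set_option linter.unusedSectionVars false
set_option linter.unusedVariables false
set_option linter.style.haveILetI false

namespace Groth.Agent.Lib.Helper20.GrVK

open DirectSum Groth.Agent.Lib.Helper26.GrProj Groth.Agent.Lib.Helper20.GrKit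
  Groth.Agent.Lib.Helper20.GrCanW Groth.Agent.Lib.Helper20.GrVG

universe u

section Glue

variable {R R' : Type u} [CommRing R] [CommRing R'] (φ : R' →+* R)
  (𝒜' : ℤ → AddSubgroup R') [GradedRing 𝒜']
  {C' : Type u} [AddCommGroup C'] [Module R' C'] (𝒞' : ℤ → AddSubgroup C')
  [DirectSum.Decomposition 𝒞'] [SetLike.GradedSMul 𝒜' 𝒞']
  {C : Type u} [AddCommGroup C] [Module R C] (𝒞 : ℤ → AddSubgroup C) [DirectSum.Decomposition 𝒞]
  (q : ℕ) (hq : 0 < q) (Rel : ℤ → C' → C → Prop)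
  (hex : ∀ j, ∀ x ∈ 𝒞' j, ∃ c, Rel j x c)
  (huniq : ∀ j x c c', Rel j x c → Rel j x c' → c = c')
  (hadd : ∀ j x y c d, Rel j x c → Rel j y d → Rel j (x + y) (c + d))
  (hsmul : ∀ i j r x c, r ∈ 𝒜' i → Rel j x c → Rel (i + j) (r • x) (φ r • c))
  (hinj : ∀ j x, Rel j x 0 → x = 0)
  (hsurj : ∀ j c, c ∈ 𝒞 (j * q) → ∃ x, Rel j x c)
  (hmem : ∀ j x c, Rel j x c → c ∈ 𝒞 (j * q))
  (hmem' : ∀ j x c, Rel j x c → x ∈ 𝒞' j)

/-- the pieces of the glued map -/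
noncomputable def gluePiece
    (hex : ∀ j, ∀ x ∈ 𝒞' j, ∃ c, Rel j x c)
    (huniq : ∀ j x c c', Rel j x c → Rel j x c' → c = c')
    (hadd : ∀ j x y c d, Rel j x c → Rel j y d → Rel j (x + y) (c + d)) (j : ℤ) : 𝒞' j →+ C :=
  AddMonoidHom.mk' (fun x => Classical.choose (hex j x x.2)) (by
    intro x y
    have hx := Classical.choose_spec (hex j x x.2)
    have hy := Classical.choose_spec (hex j y y.2)
    have hxy := Classical.choose_spec (hex j (x + y : 𝒞' j) (x + y).2)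
    exact huniq j _ _ _ hxy (hadd j _ _ _ _ hx hy))

theorem gluePiece_rel
    (hex : ∀ j, ∀ x ∈ 𝒞' j, ∃ c, Rel j x c)
    (huniq : ∀ j x c c', Rel j x c → Rel j x c' → c = c')
    (hadd : ∀ j x y c d, Rel j x c → Rel j y d → Rel j (x + y) (c + d)) (j : ℤ) (x : 𝒞' j) :
    Rel j x (gluePiece 𝒞' Rel hex huniq hadd j x) :=
  Classical.choose_spec (hex j x x.2)

/-- the glued additive map -/
noncomputable def glueAdd
    (hex : ∀ j, ∀ x ∈ 𝒞' j, ∃ c, Rel j x c)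
    (huniq : ∀ j x c c', Rel j x c → Rel j x c' → c = c')
    (hadd : ∀ j x y c d, Rel j x c → Rel j y d → Rel j (x + y) (c + d)) : C' →+ C :=
  (DirectSum.toAddMonoid (gluePiece 𝒞' Rel hex huniq hadd)).comp
    (DirectSum.decomposeAddEquiv 𝒞').toAddMonoidHom

theorem glueAdd_of_mem
    (hex : ∀ j, ∀ x ∈ 𝒞' j, ∃ c, Rel j x c)
    (huniq : ∀ j x c c', Rel j x c → Rel j x c' → c = c')
    (hadd : ∀ j x y c d, Rel j x c → Rel j y d → Rel j (x + y) (c + d)) {j : ℤ} {x : C'}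
    (hx : x ∈ 𝒞' j) :
    glueAdd 𝒞' Rel hex huniq hadd x = gluePiece 𝒞' Rel hex huniq hadd j ⟨x, hx⟩ := by
  change (DirectSum.toAddMonoid _) (DirectSum.decompose 𝒞' x) = _
  rw [DirectSum.decompose_of_mem 𝒞' hx, DirectSum.toAddMonoid_of]

theorem glueAdd_rel
    (hex : ∀ j, ∀ x ∈ 𝒞' j, ∃ c, Rel j x c)
    (huniq : ∀ j x c c', Rel j x c → Rel j x c' → c = c')
    (hadd : ∀ j x y c d, Rel j x c → Rel j y d → Rel j (x + y) (c + d)) {j : ℤ} {x : C'}
    (hx : x ∈ 𝒞' j) : Rel j x (glueAdd 𝒞' Rel hex huniq hadd x) := by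
  rw [glueAdd_of_mem 𝒞' Rel hex huniq hadd hx]
  exact gluePiece_rel 𝒞' Rel hex huniq hadd j ⟨x, hx⟩

include hq hsmul hinj hsurj hmem hmem' in
theorem glue
    (hex : ∀ j, ∀ x ∈ 𝒞' j, ∃ c, Rel j x c)
    (huniq : ∀ j x c c', Rel j x c → Rel j x c' → c = c')
    (hadd : ∀ j x y c d, Rel j x c → Rel j y d → Rel j (x + y) (c + d)) :
    ∃ g : C' →ₛₗ[φ] C, Function.Injective g ∧
      ∀ j : ℤ, (𝒞' j).map (g : C' →+ C) = 𝒞 (j * q) := by
  classical
  set g₀ := glueAdd 𝒞' Rel hex huniq hadd with hg₀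
  have hrel : ∀ {j : ℤ} {x : C'}, x ∈ 𝒞' j → Rel j x (g₀ x) :=
    fun hx => glueAdd_rel 𝒞' Rel hex huniq hadd hx
  have hsm : ∀ (r : R') (x : C'), g₀ (r • x) = φ r • g₀ x := by
    intro r x
    induction x using DirectSum.Decomposition.inductionOn 𝒞' with
    | zero => simp
    | add x y hx hy => rw [smul_add, map_add, map_add, hx, hy, smul_add]
    | homogeneous x =>
      rename_i j
      induction r using DirectSum.Decomposition.inductionOn 𝒜' with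
      | zero => simp
      | add r s hr hs => rw [add_smul, map_add, hr, hs, map_add, add_smul]
      | homogeneous r =>
        rename_i i
        have hrx : (r : R') • (x : C') ∈ 𝒞' (i + j) := by
          have := SetLike.GradedSMul.smul_mem (A := 𝒜') (B := 𝒞') r.2 x.2
          rwa [vadd_eq_add] at this
        exact huniq (i + j) _ _ _ (hrel hrx) (hsmul i j r x _ r.2 (hrel x.2))
  let g : C' →ₛₗ[φ] C :=
    { toFun := g₀
      map_add' := map_add g₀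
      map_smul' := hsm }
  have hg : ∀ x, g x = g₀ x := fun _ => rfl
  have hq' : (q : ℤ) ≠ 0 := by exact_mod_cast hq.ne'
  have hproj : ∀ (x : C') (j : ℤ), g₀ (proj 𝒞' j x) = proj 𝒞 (j * q) (g₀ x) := by
    intro x j
    conv_rhs => rw [← sum_proj 𝒞' x, map_sum, proj_sum]
    have h2 : ∀ j' ∈ (DirectSum.decompose 𝒞' x).support,
        proj 𝒞 (j * q) (g₀ (proj 𝒞' j' x)) = if j' = j then g₀ (proj 𝒞' j x) else 0 := by
      intro j' _
      have hm1 : g₀ (proj 𝒞' j' x) ∈ 𝒞 (j' * q) := hmem j' _ _ (hrel (proj_mem 𝒞' j' x))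
      split_ifs with hjj
      · rw [hjj] at hm1 ⊢
        exact proj_of_mem_same 𝒞 hm1
      · apply proj_of_mem_ne 𝒞 hm1
        intro he
        exact hjj (mul_right_cancel₀ hq' he)
    rw [Finset.sum_congr rfl h2, Finset.sum_ite_eq']
    split_ifs with hj
    · rfl
    · rw [proj_eq_zero_of_notMem 𝒞' hj, map_zero]
  refine ⟨g, ?_, ?_⟩
  · rw [injective_iff_map_eq_zero]
    intro x hx
    rw [hg] at hx
    rw [← sum_proj 𝒞' x]
    apply Finset.sum_eq_zero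
    intro j _
    apply hinj j
    have h1 := hrel (proj_mem 𝒞' j x)
    rwa [hproj, hx, proj_zero] at h1
  · intro j
    ext c
    constructor
    · rintro ⟨x, hx, rfl⟩
      exact hmem j _ _ (hrel hx)
    · intro hc
      obtain ⟨x, hx⟩ := hsurj j c hc
      have hxj := hmem' j x c hx
      refine ⟨x, hxj, ?_⟩
      exact huniq j x _ _ (hrel hxj) hx

end Glue

section Ebar

variable {R : Type u} [CommRing R] [IsNoetherianRing R] (𝒜 : ℤ → AddSubgroup R) [GradedRing 𝒜]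
  (hpos : ∀ n : ℤ, n < 0 → 𝒜 n = ⊥) (h0 : IsField (GrLC.deg0 𝒜))
  (m : HomogeneousIdeal 𝒜) (hm : GrLC.IsStarLocal 𝒜 m)
  {E' : Type u} [AddCommGroup E'] [Module R E'] (𝓔 : ℤ → AddSubgroup E')
  [DirectSum.Decomposition 𝓔] [SetLike.GradedSMul 𝒜 𝓔] (e : (R ⧸ m.toIdeal) →ₗ[R] E')
  (he : GrLC.IsStarInjHull 𝒜 (GrLC.quotGr 𝒜 m) 𝓔 e)

include hpos h0 hm he in
theorem e_invFun (x : E') : e (Function.invFun e (proj 𝓔 0 x)) = proj 𝓔 0 x := by
  obtain ⟨t, -, ht⟩ := exists_eq_of_mem_zero 𝒜 hpos m hm 𝓔 e he h0 (proj_mem 𝓔 0 x)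
  exact Function.invFun_eq ⟨_, ht.symm⟩

/-- the inverse of the hull embedding, on the degree zero component -/
noncomputable def ebar (hpos : ∀ n : ℤ, n < 0 → 𝒜 n = ⊥) (h0 : IsField (GrLC.deg0 𝒜))
    (hm : GrLC.IsStarLocal 𝒜 m) (he : GrLC.IsStarInjHull 𝒜 (GrLC.quotGr 𝒜 m) 𝓔 e) :
    E' →+ R ⧸ m.toIdeal :=
  AddMonoidHom.mk' (fun x => Function.invFun e (proj 𝓔 0 x)) (by
    intro x y
    apply he.injective
    rw [map_add, e_invFun 𝒜 hpos h0 m hm 𝓔 e he, e_invFun 𝒜 hpos h0 m hm 𝓔 e he,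
      e_invFun 𝒜 hpos h0 m hm 𝓔 e he, proj_add])

theorem e_ebar (x : E') : e (ebar 𝒜 m 𝓔 e hpos h0 hm he x) = proj 𝓔 0 x :=
  e_invFun 𝒜 hpos h0 m hm 𝓔 e he x

theorem e_ebar_of_mem {x : E'} (hx : x ∈ 𝓔 0) : e (ebar 𝒜 m 𝓔 e hpos h0 hm he x) = x := by
  rw [e_ebar, proj_of_mem_same 𝓔 hx]

theorem ebar_e (y : R ⧸ m.toIdeal) : ebar 𝒜 m 𝓔 e hpos h0 hm he (e y) = y := by
  apply he.injective
  rw [e_ebar]
  obtain ⟨t, rfl⟩ := Ideal.Quotient.mk_surjective y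
  exact proj_of_mem_same 𝓔 (E_mk_mem 𝒜 hpos m hm 𝓔 e he t)

theorem ebar_smul {r : R} (hr : r ∈ 𝒜 0) (x : E') :
    ebar 𝒜 m 𝓔 e hpos h0 hm he (r • x) =
      Ideal.Quotient.mk m.toIdeal r * ebar 𝒜 m 𝓔 e hpos h0 hm he x := by
  apply he.injective
  have h1 : Ideal.Quotient.mk m.toIdeal r * ebar 𝒜 m 𝓔 e hpos h0 hm he x =
      r • ebar 𝒜 m 𝓔 e hpos h0 hm he x := by
    obtain ⟨t, ht⟩ := Ideal.Quotient.mk_surjective (ebar 𝒜 m 𝓔 e hpos h0 hm he x)
    rw [← ht]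
    rfl
  rw [h1, LinearMap.map_smul e, e_ebar, e_ebar, proj_smul_of_mem 𝒜 𝓔 hr, sub_zero]

end Ebar

end Groth.Agent.Lib.Helper20.GrVK
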