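import Mathlib
import Groth.Prelude.Def_GrLC
import Groth.Agent.Lib.Helper20.GrVK3
import Groth.Agent.Lib.Helper20.GrVK4
import Groth.Agent.Lib.Helper20.GrVer1
import Groth.Agent.Lib.Helper20.GorGr5

/-!
# The canonical module of a Veronese subring: the abstract duality argument
-/

set_option autoImplicit false
set_option linter.unusedSectionVars false
set_option linter.unusedVariables false
set_option linter.style.haveILetI false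
set_option maxHeartbeats 800000

namespace Groth.Agent.Lib.Helper20.GrVK

open DirectSum Groth.Agent.Lib.Helper26.GrProj Groth.Agent.Lib.Helper20.GrKit
  Groth.Agent.Lib.Helper20.GrCanW Groth.Agent.Lib.Helper20.GrVG Groth.Agent.Lib.Helper20.GrVer

universe u

variable {R : Type u} [CommRing R] [IsNoetherianRing R] (𝒜 : ℤ → AddSubgroup R) [GradedRing 𝒜]
  (hpos : ∀ n : ℤ, n < 0 → 𝒜 n = ⊥) (h0 : IsField (GrLC.deg0 𝒜))
  (m : HomogeneousIdeal 𝒜) (hm : GrLC.IsStarLocal 𝒜 m)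
  {E' : Type u} [AddCommGroup E'] [Module R E'] (𝓔 : ℤ → AddSubgroup E')
  [DirectSum.Decomposition 𝓔] [SetLike.GradedSMul 𝒜 𝓔] (e : (R ⧸ m.toIdeal) →ₗ[R] E')
  (he : GrLC.IsStarInjHull 𝒜 (GrLC.quotGr 𝒜 m) 𝓔 e)
  {C : Type u} [AddCommGroup C] [Module R C] [Module.Finite R C] (𝒞 : ℤ → AddSubgroup C)
  [DirectSum.Decomposition 𝒞] [SetLike.GradedSMul 𝒜 𝒞]
  {H : Type u} [AddCommGroup H] [Module R H] (ℋ : ℤ → AddSubgroup H)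
  [DirectSum.Decomposition ℋ] [SetLike.GradedSMul 𝒜 ℋ]
  (ψ : (C →ₗ[R] E') ≃ₗ[R] H)
  (hψ : GrLC.IsGrHom (fun d => (GrLC.homDeg 𝒜 𝒞 𝓔 d).toAddSubgroup) ℋ ψ.toLinearMap)
  (q : ℕ) (hq : 0 < q)
  {R' : Type u} [CommRing R'] [IsNoetherianRing R'] (𝒜' : ℤ → AddSubgroup R') [GradedRing 𝒜']
  (φ : R' →+* R) (hφ : Function.Injective φ)
  (hdeg : ∀ j : ℤ, (𝒜' j).map (φ : R' →+ R) = 𝒜 (j * q))
  (hpos' : ∀ n : ℤ, n < 0 → 𝒜' n = ⊥) (h0' : IsField (GrLC.deg0 𝒜'))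
  (m' : HomogeneousIdeal 𝒜') (hm' : GrLC.IsStarLocal 𝒜' m')
  (hmm' : m'.toIdeal ≤ m.toIdeal.comap φ)
  {E'' : Type u} [AddCommGroup E''] [Module R' E''] (𝓔'' : ℤ → AddSubgroup E'')
  [DirectSum.Decomposition 𝓔''] [SetLike.GradedSMul 𝒜' 𝓔''] (e' : (R' ⧸ m'.toIdeal) →ₗ[R'] E'')
  (he' : GrLC.IsStarInjHull 𝒜' (GrLC.quotGr 𝒜' m') 𝓔'' e')
  {C' : Type u} [AddCommGroup C'] [Module R' C'] [Module.Finite R' C'] (𝒞' : ℤ → AddSubgroup C')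
  [DirectSum.Decomposition 𝒞'] [SetLike.GradedSMul 𝒜' 𝒞']
  {H' : Type u} [AddCommGroup H'] [Module R' H'] (ℋ' : ℤ → AddSubgroup H')
  [DirectSum.Decomposition ℋ'] [SetLike.GradedSMul 𝒜' ℋ']
  (ψ' : (C' →ₗ[R'] E'') ≃ₗ[R'] H')
  (hψ' : GrLC.IsGrHom (fun d => (GrLC.homDeg 𝒜' 𝒞' 𝓔'' d).toAddSubgroup) ℋ' ψ'.toLinearMap)
  (θ : H' →ₛₗ[φ] H) (hθ : Function.Injective θ)
  (hθ2 : ∀ j : ℤ, ∀ x ∈ ℋ' j, θ x ∈ ℋ (j * q))
  (hθ3 : ∀ j : ℤ, ∀ y ∈ ℋ (j * q), ∃ x ∈ ℋ' j, θ x = y)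

include hdeg in
theorem exists_phi_eq_zero {r : R} (hr : r ∈ 𝒜 0) : ∃ r' ∈ 𝒜' 0, φ r' = r := by
  have h := hdeg 0
  rw [zero_mul] at h
  rw [← h] at hr
  obtain ⟨r', hr', hrr⟩ := hr
  exact ⟨r', hr', hrr⟩

/-- the map of residue fields -/
noncomputable def resMap (hmm' : m'.toIdeal ≤ m.toIdeal.comap φ) :
    R' ⧸ m'.toIdeal →+* R ⧸ m.toIdeal :=
  Ideal.quotientMap m.toIdeal φ hmm'

theorem resMap_mk (r' : R') :
    resMap 𝒜 m 𝒜' φ m' hmm' (Ideal.Quotient.mk m'.toIdeal r') =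
      Ideal.Quotient.mk m.toIdeal (φ r') := by
  rw [resMap, Ideal.quotientMap_mk]

include hpos hm hdeg hpos' h0' hm' in
theorem resMap_bijective (hm'sp : m'.toIdeal = Ideal.span (⋃ j ∈ Set.Ioi (0 : ℤ), (𝒜' j : Set R'))) :
    Function.Bijective (resMap 𝒜 m 𝒜' φ m' hmm') := by
  haveI : m'.toIdeal.IsMaximal :=
    Groth.Agent.Lib.Helper20.GorGr.isMaximal_irrelevant 𝒜' hpos' h0' m' hm' hm'sp
  letI : Field (R' ⧸ m'.toIdeal) := Ideal.Quotient.field m'.toIdeal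
  haveI : Nontrivial (R ⧸ m.toIdeal) :=
    Ideal.Quotient.nontrivial_iff.2 (toIdeal_ne_top 𝒜 m hm)
  refine ⟨RingHom.injective _, ?_⟩
  intro y
  obtain ⟨r, rfl⟩ := Ideal.Quotient.mk_surjective y
  obtain ⟨r', -, hr'⟩ := exists_phi_eq_zero 𝒜 q 𝒜' φ hdeg (proj_mem 𝒜 0 r)
  refine ⟨Ideal.Quotient.mk m'.toIdeal r', ?_⟩
  rw [resMap_mk, hr']
  symm
  rw [Ideal.Quotient.eq]
  exact GrStarLoc.sub_proj_zero_mem 𝒜 hpos m hm r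

end Groth.Agent.Lib.Helper20.GrVK
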