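import Mathlib
import Groth.Prelude.Def_GrLC
import Groth.Agent.Lib.Helper20.GrVK5

/-!
# The canonical module of a Veronese subring: the abstract duality argument, II
-/

set_option autoImplicit false
set_option linter.unusedSectionVars false
set_option linter.unusedVariables false
set_option linter.style.haveILetI false
set_option maxHeartbeats 1000000

namespace Groth.Agent.Lib.Helper20.GrVK

open DirectSum Groth.Agent.Lib.Helper26.GrProj Groth.Agent.Lib.Helper20.GrKit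
  Groth.Agent.Lib.Helper20.GrCanW Groth.Agent.Lib.Helper20.GrVG Groth.Agent.Lib.Helper20.GrVer

universe u

section Tau

variable {R : Type u} [CommRing R] (𝒜 : ℤ → AddSubgroup R) [GradedRing 𝒜]
  {H : Type u} [AddCommGroup H] [Module R H] (ℋ : ℤ → AddSubgroup H)
  [DirectSum.Decomposition ℋ] [SetLike.GradedSMul 𝒜 ℋ]
  (q : ℕ)
  {R' : Type u} [CommRing R'] (𝒜' : ℤ → AddSubgroup R') [GradedRing 𝒜']
  (φ : R' →+* R)
  {H' : Type u} [AddCommGroup H'] [Module R' H'] (ℋ' : ℤ → AddSubgroup H')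
  [DirectSum.Decomposition ℋ'] [SetLike.GradedSMul 𝒜' ℋ']
  (θ : H' →ₛₗ[φ] H) (hθ : Function.Injective θ)
  (hθ3 : ∀ j : ℤ, ∀ y ∈ ℋ (j * q), ∃ x ∈ ℋ' j, θ x = y)

include hθ3 in
theorem theta_invFun (j : ℤ) (h : H) :
    θ (Function.invFun θ (proj ℋ (j * q) h)) = proj ℋ (j * q) h := by
  obtain ⟨x, -, hx⟩ := hθ3 j _ (proj_mem ℋ (j * q) h)
  exact Function.invFun_eq ⟨x, hx⟩

/-- the inverse of `θ` on the piece of degree `j q` -/
noncomputable def tau (hθ : Function.Injective θ)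
    (hθ3 : ∀ j : ℤ, ∀ y ∈ ℋ (j * q), ∃ x ∈ ℋ' j, θ x = y) (j : ℤ) : H →+ H' :=
  AddMonoidHom.mk' (fun h => Function.invFun θ (proj ℋ (j * q) h)) (by
    intro x y
    apply hθ
    rw [map_add, theta_invFun ℋ q φ ℋ' θ hθ3, theta_invFun ℋ q φ ℋ' θ hθ3,
      theta_invFun ℋ q φ ℋ' θ hθ3, proj_add])

theorem theta_tau (j : ℤ) (h : H) :
    θ (tau ℋ q φ ℋ' θ hθ hθ3 j h) = proj ℋ (j * q) h :=
  theta_invFun ℋ q φ ℋ' θ hθ3 j h

theorem tau_mem (j : ℤ) (h : H) : tau ℋ q φ ℋ' θ hθ hθ3 j h ∈ ℋ' j := by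
  obtain ⟨x, hx, hxe⟩ := hθ3 j _ (proj_mem ℋ (j * q) h)
  have : tau ℋ q φ ℋ' θ hθ hθ3 j h = x := by
    apply hθ
    rw [theta_tau, hxe]
  rw [this]
  exact hx

theorem tau_theta (hθ2 : ∀ j : ℤ, ∀ x ∈ ℋ' j, θ x ∈ ℋ (j * q)) {j : ℤ} {x : H'} (hx : x ∈ ℋ' j) :
    tau ℋ q φ ℋ' θ hθ hθ3 j (θ x) = x := by
  apply hθ
  rw [theta_tau, proj_of_mem_same ℋ (hθ2 j x hx)]

include 𝒜 in
theorem tau_smul {r' : R'} (hr : φ r' ∈ 𝒜 0) (j : ℤ) (h : H) :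
    tau ℋ q φ ℋ' θ hθ hθ3 j (φ r' • h) = r' • tau ℋ q φ ℋ' θ hθ hθ3 j h := by
  apply hθ
  rw [theta_tau, map_smulₛₗ, theta_tau, proj_smul_of_mem 𝒜 ℋ hr, sub_zero]

end Tau

end Groth.Agent.Lib.Helper20.GrVK
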