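import Mathlib
import Groth.Prelude.Def_GrLC
import Groth.Agent.Lib.Helper20.GrVK6

/-!
# The canonical module of a Veronese subring: the abstract duality argument, III
-/

set_option autoImplicit false
set_option linter.unusedSectionVars false
set_option linter.unusedVariables false
set_option linter.style.haveILetI false
set_option maxHeartbeats 1000000

namespace Groth.Agent.Lib.Helper20.GrVK

open DirectSum Groth.Agent.Lib.Helper26.GrProj Groth.Agent.Lib.Helper20.GrKit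
  Groth.Agent.Lib.Helper20.GrCanW Groth.Agent.Lib.Helper20.GrVG Groth.Agent.Lib.Helper20.GrVer

universe u

variable {R : Type u} [CommRing R] [IsNoetherianRing R] (𝒜 : ℤ → AddSubgroup R) [GradedRing 𝒜]
  (hpos : ∀ n : ℤ, n < 0 → 𝒜 n = ⊥) (h0 : IsField (GrLC.deg0 𝒜))
  (m : HomogeneousIdeal 𝒜) (hm : GrLC.IsStarLocal 𝒜 m)
  {E' : Type u} [AddCommGroup E'] [Module R E'] (𝓔 : ℤ → AddSubgroup E')
  [DirectSum.Decomposition 𝓔] [SetLike.GradedSMul 𝒜 𝓔] (e : (R ⧸ m.toIdeal) →ₗ[R] E')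
  (he : GrLC.IsStarInjHull 𝒜 (GrLC.quotGr 𝒜 m) 𝓔 e)
  {C : Type u} [AddCommGroup C] [Module R C] [Module.Finite R C] (𝒞 : ℤ → AddSubgroup C)
  [DirectSum.Decomposition 𝒞] [SetLike.GradedSMul 𝒜 𝒞]
  {H : Type u} [AddCommGroup H] [Module R H] (ℋ : ℤ → AddSubgroup H)
  [DirectSum.Decomposition ℋ] [SetLike.GradedSMul 𝒜 ℋ]
  (ψ : (C →ₗ[R] E') ≃ₗ[R] H)
  (hψ : GrLC.IsGrHom (fun d => (GrLC.homDeg 𝒜 𝒞 𝓔 d).toAddSubgroup) ℋ ψ.toLinearMap)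
  (q : ℕ) (hq : 0 < q)
  {R' : Type u} [CommRing R'] [IsNoetherianRing R'] (𝒜' : ℤ → AddSubgroup R') [GradedRing 𝒜']
  (φ : R' →+* R) (hφ : Function.Injective φ)
  (hdeg : ∀ j : ℤ, (𝒜' j).map (φ : R' →+ R) = 𝒜 (j * q))
  (hpos' : ∀ n : ℤ, n < 0 → 𝒜' n = ⊥) (h0' : IsField (GrLC.deg0 𝒜'))
  (m' : HomogeneousIdeal 𝒜') (hm' : GrLC.IsStarLocal 𝒜' m')
  (hm'sp : m'.toIdeal = Ideal.span (⋃ j ∈ Set.Ioi (0 : ℤ), (𝒜' j : Set R')))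
  (hmm' : m'.toIdeal ≤ m.toIdeal.comap φ)
  {E'' : Type u} [AddCommGroup E''] [Module R' E''] (𝓔'' : ℤ → AddSubgroup E'')
  [DirectSum.Decomposition 𝓔''] [SetLike.GradedSMul 𝒜' 𝓔''] (e' : (R' ⧸ m'.toIdeal) →ₗ[R'] E'')
  (he' : GrLC.IsStarInjHull 𝒜' (GrLC.quotGr 𝒜' m') 𝓔'' e')
  {C' : Type u} [AddCommGroup C'] [Module R' C'] [Module.Finite R' C'] (𝒞' : ℤ → AddSubgroup C')
  [DirectSum.Decomposition 𝒞'] [SetLike.GradedSMul 𝒜' 𝒞']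
  {H' : Type u} [AddCommGroup H'] [Module R' H'] (ℋ' : ℤ → AddSubgroup H')
  [DirectSum.Decomposition ℋ'] [SetLike.GradedSMul 𝒜' ℋ']
  (ψ' : (C' →ₗ[R'] E'') ≃ₗ[R'] H')
  (hψ' : GrLC.IsGrHom (fun d => (GrLC.homDeg 𝒜' 𝒞' 𝓔'' d).toAddSubgroup) ℋ' ψ'.toLinearMap)
  (θ : H' →ₛₗ[φ] H) (hθ : Function.Injective θ)
  (hθ2 : ∀ j : ℤ, ∀ x ∈ ℋ' j, θ x ∈ ℋ (j * q))
  (hθ3 : ∀ j : ℤ, ∀ y ∈ ℋ (j * q), ∃ x ∈ ℋ' j, θ x = y)

include hpos h0 hm he hψ hq hφ hdeg hpos' h0' hm' hm'sp hmm' he' hψ' hθ hθ2 hθ3 in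
theorem main_abstract :
    ∃ g : C' →ₛₗ[φ] C, Function.Injective g ∧
      ∀ j : ℤ, (𝒞' j).map (g : C' →+ C) = 𝒞 (j * q) := by
  classical
  let ιe : (R' ⧸ m'.toIdeal) ≃+* (R ⧸ m.toIdeal) :=
    RingEquiv.ofBijective (resMap 𝒜 m 𝒜' φ m' hmm')
      (resMap_bijective 𝒜 hpos m hm q 𝒜' φ hdeg hpos' h0' m' hm' hmm' hm'sp)
  have hι : ∀ r' : R', ιe (Ideal.Quotient.mk m'.toIdeal r') = Ideal.Quotient.mk m.toIdeal (φ r') :=
    fun r' => resMap_mk 𝒜 m 𝒜' φ m' hmm' r'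
  set eb := ebar 𝒜 m 𝓔 e hpos h0 hm he with heb
  set eb' := ebar 𝒜' m' 𝓔'' e' hpos' h0' hm' he' with heb'
  have hθneg : ∀ (j : ℤ) (h' : H'), h' ∈ ℋ' (-j) → θ h' ∈ ℋ (-(j * q)) := by
    intro j h' hh'
    have := hθ2 (-j) h' hh'
    rwa [neg_mul] at this
  let Rel : ℤ → C' → C → Prop := fun j x c =>
    x ∈ 𝒞' j ∧ c ∈ 𝒞 (j * q) ∧
      ∀ h' ∈ ℋ' (-j), (ψ.symm (θ h')) c = e (ιe (eb' ((ψ'.symm h') x)))
  refine glue φ 𝒜' 𝒞' 𝒞 q hq Rel ?_ ?_ ?_ ?_ ?_ ?_ ?_ ?_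
  · -- hsmul
    rintro i j r x c hr ⟨hx, hc, h1⟩
    have hrx : r • x ∈ 𝒞' (i + j) := by
      have := SetLike.GradedSMul.smul_mem (A := 𝒜') (B := 𝒞') hr hx
      rwa [vadd_eq_add] at this
    have hφr : φ r ∈ 𝒜 (i * q) := phi_mem 𝒜 q 𝒜' φ hdeg hr
    have hrc : φ r • c ∈ 𝒞 ((i + j) * q) := by
      have := SetLike.GradedSMul.smul_mem (A := 𝒜) (B := 𝒞) hφr hc
      rw [vadd_eq_add] at this
      rwa [add_mul]
    refine ⟨hrx, hrc, fun h' hh' => ?_⟩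
    have hrh : r • h' ∈ ℋ' (-j) := by
      have := SetLike.GradedSMul.smul_mem (A := 𝒜') (B := ℋ') hr hh'
      rw [vadd_eq_add] at this
      rwa [show i + -(i + j) = -j by ring] at this
    have h2 := h1 (r • h') hrh
    calc (ψ.symm (θ h')) (φ r • c) = φ r • (ψ.symm (θ h')) c := map_smul _ _ _
      _ = (ψ.symm (θ (r • h'))) c := by
          rw [map_smulₛₗ, map_smul, LinearMap.smul_apply]
      _ = e (ιe (eb' ((ψ'.symm (r • h')) x))) := h2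
      _ = e (ιe (eb' ((ψ'.symm h') (r • x)))) := by
          have h3 : (ψ'.symm (r • h')) x = (ψ'.symm h') (r • x) := by
            rw [LinearEquiv.map_smul, LinearMap.smul_apply, LinearMap.map_smul]
          rw [h3]
  · -- hinj
    rintro j x ⟨hx, -, h1⟩
    apply nondeg 𝒜' hpos' h0' m' hm' 𝓔'' e' he' 𝒞' ℋ' ψ' hψ' hx
    intro h' hh'
    have h2 := h1 h' hh'
    rw [map_zero] at h2
    have h3 : ιe (eb' ((ψ'.symm h') x)) = 0 := he.injective (by rw [← h2, map_zero])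
    have h4 : eb' ((ψ'.symm h') x) = 0 := by
      apply ιe.injective
      rw [h3, map_zero]
    have h5 := e_ebar_of_mem 𝒜' hpos' h0' m' hm' 𝓔'' e' he'
      (pair_mem_zero 𝒜' 𝓔'' 𝒞' ℋ' ψ' hψ' hx hh')
    rw [← h5]
    change e' (eb' _) = 0
    rw [h4, map_zero]
  · -- hsurj
    intro j c hc
    let lam' : H' →+ R' ⧸ m'.toIdeal :=
      AddMonoidHom.mk' (fun h' => ιe.symm (eb ((ψ.symm (θ (proj ℋ' (-j) h'))) c))) (by
        intro a b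
        simp only [proj_add, map_add, LinearMap.add_apply])
    have hlam' : ∀ r' ∈ 𝒜' 0, ∀ h' ∈ ℋ' (-j),
        lam' (r' • h') = Ideal.Quotient.mk m'.toIdeal r' * lam' h' := by
      intro r' hr' h' _
      have hφr : φ r' ∈ 𝒜 0 := by
        have := phi_mem 𝒜 q 𝒜' φ hdeg hr'
        rwa [zero_mul] at this
      change ιe.symm (eb ((ψ.symm (θ (proj ℋ' (-j) (r' • h')))) c)) =
        _ * ιe.symm (eb ((ψ.symm (θ (proj ℋ' (-j) h'))) c))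
      rw [proj_smul_of_mem 𝒜' ℋ' hr', sub_zero, map_smulₛₗ, map_smul, LinearMap.smul_apply, heb,
        ebar_smul 𝒜 hpos h0 m hm 𝓔 e he hφr, map_mul]
      congr 1
      rw [RingEquiv.symm_apply_eq, hι]
    obtain ⟨x, hx, hxl⟩ := rep 𝒜' hpos' h0' m' hm' 𝓔'' e' he' 𝒞' ℋ' ψ' hψ' j lam' hlam'
    refine ⟨x, hx, hc, fun h' hh' => ?_⟩
    rw [hxl h' hh', heb', ebar_e]
    change _ = e (ιe (ιe.symm (eb ((ψ.symm (θ (proj ℋ' (-j) h'))) c))))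
    rw [RingEquiv.apply_symm_apply, proj_of_mem_same ℋ' hh', heb, e_ebar_of_mem]
    exact pair_mem_zero 𝒜 𝓔 𝒞 ℋ ψ hψ hc (hθneg j h' hh')
  · -- hmem
    rintro j x c ⟨-, hc, -⟩
    exact hc
  · -- hmem'
    rintro j x c ⟨hx, -, -⟩
    exact hx
  · -- hex
    intro j x hx
    let τ := tau ℋ q φ ℋ' θ hθ hθ3 (-j)
    let lam : H →+ R ⧸ m.toIdeal :=
      AddMonoidHom.mk' (fun h => ιe (eb' ((ψ'.symm (τ h)) x))) (by
        intro a b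
        simp only [map_add, LinearMap.add_apply])
    have hlam : ∀ r ∈ 𝒜 0, ∀ h ∈ ℋ (-(j * q)),
        lam (r • h) = Ideal.Quotient.mk m.toIdeal r * lam h := by
      intro r hr h _
      obtain ⟨r', hr', rfl⟩ := exists_phi_eq_zero 𝒜 q 𝒜' φ hdeg hr
      change ιe (eb' ((ψ'.symm (τ (φ r' • h))) x)) = _ * ιe (eb' ((ψ'.symm (τ h)) x))
      rw [tau_smul 𝒜 ℋ q φ ℋ' θ hθ hθ3 hr, map_smul, LinearMap.smul_apply, heb',
        ebar_smul 𝒜' hpos' h0' m' hm' 𝓔'' e' he' hr', map_mul, hι]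
    obtain ⟨c, hc, hcl⟩ := rep 𝒜 hpos h0 m hm 𝓔 e he 𝒞 ℋ ψ hψ (j * q) lam hlam
    refine ⟨c, hx, hc, fun h' hh' => ?_⟩
    rw [hcl _ (hθneg j h' hh')]
    change e (ιe (eb' ((ψ'.symm (τ (θ h'))) x))) = _
    rw [tau_theta ℋ q φ ℋ' θ hθ hθ3 hθ2 hh']
  · -- huniq
    rintro j x c c' ⟨hx, hc, h1⟩ ⟨-, hc', h2⟩
    rw [← sub_eq_zero]
    apply nondeg 𝒜 hpos h0 m hm 𝓔 e he 𝒞 ℋ ψ hψ (sub_mem hc hc')
    intro h hh
    have hh2 : h ∈ ℋ ((-j) * q) := by rwa [neg_mul]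
    obtain ⟨h', hh', rfl⟩ := hθ3 (-j) h hh2
    rw [map_sub, h1 h' hh', h2 h' hh', sub_self]
  · -- hadd
    rintro j x y c d ⟨hx, hc, h1⟩ ⟨hy, hd, h2⟩
    refine ⟨add_mem hx hy, add_mem hc hd, fun h' hh' => ?_⟩
    rw [map_add, h1 h' hh', h2 h' hh']
    simp only [map_add]

end Groth.Agent.Lib.Helper20.GrVK
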