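import Mathlib
import Groth.Prelude.Def_GrLC
import Groth.Agent.Lib.Helper20.GrVK7
import Groth.Agent.Lib.Helper20.GrVG5

/-!
# S18658: the canonical module of a Veronese subring is the Veronese module of the canonical module
-/

set_option autoImplicit false
set_option linter.unusedSectionVars false
set_option linter.unusedVariables false
set_option linter.style.haveILetI false
set_option maxHeartbeats 1000000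

namespace Groth.Agent.Lib.Helper20.GrVK

open DirectSum Groth.Agent.Lib.Helper26.GrProj Groth.Agent.Lib.Helper20.GrKit
  Groth.Agent.Lib.Helper20.GrCanW Groth.Agent.Lib.Helper20.GrVG Groth.Agent.Lib.Helper20.GrVer
  Groth.Agent.Lib.Helper20.GrAcyc Groth.Agent.Lib.Helper20.GrLES

universe u

theorem s18658 (R : Type u) [CommRing R] [IsNoetherianRing R] (𝒜 : ℤ → AddSubgroup R)
    [GradedRing 𝒜] (hpos : ∀ n : ℤ, n < 0 → 𝒜 n = ⊥) (h0 : IsField (GrLC.deg0 𝒜))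
    (m : HomogeneousIdeal 𝒜) (hm : GrLC.IsStarLocal 𝒜 m)
    (hmsp : m.toIdeal = Ideal.span (⋃ n ∈ Set.Ioi (0 : ℤ), (𝒜 n : Set R))) (n : ℕ)
    (hn : ringKrullDim R = n) (I : GrLC.StarInjRes 𝒜 𝒜) (E' : Type u) [AddCommGroup E']
    [Module R E'] (𝓔 : ℤ → AddSubgroup E') [DirectSum.Decomposition 𝓔] [SetLike.GradedSMul 𝒜 𝓔]
    (e : (R ⧸ m.toIdeal) →ₗ[R] E') (he : GrLC.IsStarInjHull 𝒜 (GrLC.quotGr 𝒜 m) 𝓔 e)
    (C : Type u) [AddCommGroup C] [Module R C] (𝒞 : ℤ → AddSubgroup C)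
    [DirectSum.Decomposition 𝒞] [SetLike.GradedSMul 𝒜 𝒞]
    (hC : GrLC.IsStarCanonical 𝒜 𝒞 𝓔 m n I) (q : ℕ) (hq : 0 < q) (R' : Type u) [CommRing R']
    (𝒜' : ℤ → AddSubgroup R') [GradedRing 𝒜'] (φ : R' →+* R) (hφ : Function.Injective φ)
    (hdeg : ∀ j : ℤ, (𝒜' j).map (φ : R' →+ R) = 𝒜 (j * q)) (m' : HomogeneousIdeal 𝒜')
    (hm' : GrLC.IsStarLocal 𝒜' m')
    (hm'sp : m'.toIdeal = Ideal.span (⋃ j ∈ Set.Ioi (0 : ℤ), (𝒜' j : Set R')))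
    (I' : GrLC.StarInjRes 𝒜' 𝒜') (E'' : Type u) [AddCommGroup E''] [Module R' E'']
    (𝓔'' : ℤ → AddSubgroup E'') [DirectSum.Decomposition 𝓔''] [SetLike.GradedSMul 𝒜' 𝓔'']
    (e' : (R' ⧸ m'.toIdeal) →ₗ[R'] E'')
    (he' : GrLC.IsStarInjHull 𝒜' (GrLC.quotGr 𝒜' m') 𝓔'' e') (C' : Type u) [AddCommGroup C']
    [Module R' C'] (𝒞' : ℤ → AddSubgroup C') [DirectSum.Decomposition 𝒞']
    [SetLike.GradedSMul 𝒜' 𝒞'] (hC' : GrLC.IsStarCanonical 𝒜' 𝒞' 𝓔'' m' n I') :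
    ∃ g : C' →ₛₗ[φ] C, Function.Injective g ∧
      ∀ j : ℤ, (𝒞' j).map (g : C' →+ C) = 𝒞 (j * q) := by
  classical
  haveI : IsNoetherianRing R' := isNoetherianRing_ver 𝒜 q 𝒜' φ hφ hdeg
  have hpos' := hpos_ver 𝒜 hpos q hq 𝒜' φ hφ hdeg
  have h0' := isField_deg0_ver 𝒜 h0 q 𝒜' φ hφ hdeg
  haveI : Module.Finite R C := hC.1
  haveI : Module.Finite R' C' := hC'.1
  obtain ⟨ψ, hψ⟩ := hC.2
  obtain ⟨ψ', hψ'⟩ := hC'.2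
  letI : DirectSum.Decomposition (I.Hgr m n) :=
    Groth.Agent.Lib.Helper20.GorTop.HgrDecomposition 𝒜 𝒜 I m n
  letI : DirectSum.Decomposition (I'.Hgr m' n) :=
    Groth.Agent.Lib.Helper20.GorTop.HgrDecomposition 𝒜' 𝒜' I' m' n
  set A := verRes 𝒜 q hq 𝒜' φ hdeg 𝒜 𝒜' (phiSL φ) hφ (phiSL_deg 𝒜 q 𝒜' φ hdeg) I with hA
  have hacyc : ∀ k, IsAcyc m' (A.X k) := fun k =>
    ver_isAcyc 𝒜 q hq 𝒜' φ hdeg m hmsp m' hm'sp (I.X k) (I.starInj k)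
  obtain ⟨ψB, hψB1, hψB2⟩ := acyclic_computes m' n R' 𝒜' A hacyc I'
  let θA := theta 𝒜 q hq 𝒜' φ hdeg m hmsp m' hm'sp 𝒜 𝒜' (phiSL φ) hφ
    (phiSL_deg 𝒜 q 𝒜' φ hdeg) I n
  let θ : I'.H m' n →ₛₗ[φ] I.H m n := θA.comp ψB.symm.toLinearMap
  have hθapp : ∀ x, θ x = θA (ψB.symm x) := fun _ => rfl
  have hθ : Function.Injective θ := by
    intro x y hxy
    rw [hθapp, hθapp] at hxy
    have := theta_injective 𝒜 q hq 𝒜' φ hdeg m hmsp m' hm'sp 𝒜 𝒜' (phiSL φ) hφ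
      (phiSL_deg 𝒜 q 𝒜' φ hdeg) I n hxy
    exact ψB.symm.injective this
  have hθ2 : ∀ j : ℤ, ∀ x ∈ I'.Hgr m' n j, θ x ∈ I.Hgr m n (j * q) := by
    intro j x hx
    rw [hθapp]
    exact theta_mem_Hgr 𝒜 q hq 𝒜' φ hdeg m hmsp m' hm'sp 𝒜 𝒜' (phiSL φ) hφ
      (phiSL_deg 𝒜 q 𝒜' φ hdeg) I n j _ (hψB2 j x hx)
  have hθ3 : ∀ j : ℤ, ∀ y ∈ I.Hgr m n (j * q), ∃ x ∈ I'.Hgr m' n j, θ x = y := by
    intro j y hy
    obtain ⟨x, hx, hxy⟩ := exists_theta_eq 𝒜 q hq 𝒜' φ hdeg m hmsp m' hm'sp 𝒜 𝒜' (phiSL φ) hφ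
      (phiSL_deg 𝒜 q 𝒜' φ hdeg) I n j y hy
    refine ⟨ψB x, hψB1 j x hx, ?_⟩
    rw [hθapp, LinearEquiv.symm_apply_apply]
    exact hxy
  have hmm' : m'.toIdeal ≤ m.toIdeal.comap φ :=
    Ideal.map_le_iff_le_comap.1 (map_le 𝒜 q hq 𝒜' φ hdeg m hmsp m' hm'sp)
  exact main_abstract 𝒜 hpos h0 m hm 𝓔 e he 𝒞 (I.Hgr m n) ψ hψ q hq 𝒜' φ hφ hdeg hpos' h0' m' hm'
    hm'sp hmm' 𝓔'' e' he' 𝒞' (I'.Hgr m' n) ψ' hψ' θ hθ hθ2 hθ3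

end Groth.Agent.Lib.Helper20.GrVK
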