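import Mathlib
import Groth.Prelude.Def_GrLC
import Groth.Agent.Lib.Helper7.NoetherNormInt

/-!
# A graded ring is integral over its Veronese subring; the dimensions agree
-/

set_option autoImplicit false
set_option linter.unusedSectionVars false
set_option linter.unusedVariables false
set_option linter.style.haveILetI false

namespace Groth.Agent.Lib.Helper20.GrVN

open DirectSum

universe u

variable {R : Type u} [CommRing R] (𝒜 : ℤ → AddSubgroup R) [GradedRing 𝒜]
  (q : ℕ) (hq : 0 < q) {R' : Type u} [CommRing R'] (𝒜' : ℤ → AddSubgroup R') [GradedRing 𝒜']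
  (φ : R' →+* R) (hφ : Function.Injective φ)
  (hdeg : ∀ j : ℤ, (𝒜' j).map (φ : R' →+ R) = 𝒜 (j * q))

include hq hdeg in
theorem isIntegral_ver : φ.IsIntegral := by
  classical
  intro x
  induction x using DirectSum.Decomposition.inductionOn 𝒜 with
  | zero => exact φ.isIntegralElem_zero
  | @homogeneous i x =>
    have h1 : (x : R) ^ q ∈ 𝒜 (q • i) := SetLike.pow_mem_graded q x.2
    have h2 : q • i = i * q := by rw [nsmul_eq_mul, mul_comm]
    rw [h2, ← hdeg i] at h1
    obtain ⟨r', hr', hr'x⟩ := h1
    refine ⟨Polynomial.X ^ q - Polynomial.C r', Polynomial.monic_X_pow_sub_C r' hq.ne', ?_⟩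
    rw [Polynomial.eval₂_sub, Polynomial.eval₂_pow, Polynomial.eval₂_X, Polynomial.eval₂_C]
    have : φ r' = (x : R) ^ q := hr'x
    rw [this, sub_self]
  | add x y hx hy => exact RingHom.IsIntegralElem.add φ hx hy

include hq hφ hdeg in
theorem ringKrullDim_ver : ringKrullDim R' = ringKrullDim R :=
  (Groth.Agent.Lib.Helper7.NNInt.ringKrullDim_eq_of_injective_isIntegral φ hφ
    (isIntegral_ver 𝒜 q hq 𝒜' φ hdeg)).symm

end Groth.Agent.Lib.Helper20.GrVN
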