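import Mathlib
import Groth.Prelude.Def_GrLC
import Groth.Prelude.Def_CAlg
import Groth.Agent.Lib.Helper20.GrVN2
import Groth.Agent.Lib.Helper20.GrVN3
import Groth.Agent.Lib.Helper20.GrVM5
import Groth.Agent.Lib.Helper20.GrVK8
import Groth.Agent.Lib.Helper20.GrVG5
import Groth.Agent.S0341

/-!
# S18642: if a Veronese subring of a standard graded CM ring of dimension at least two is
Gorenstein then so is the ring, and `q` divides the a-invariant (Goto–Watanabe)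
-/

set_option autoImplicit false
set_option linter.unusedSectionVars false
set_option linter.unusedVariables false
set_option linter.style.haveILetI false
set_option maxHeartbeats 1000000

namespace Groth.Agent.Lib.Helper20.GrVN

open DirectSum Groth.Agent.Lib.Helper26.GrProj Groth.Agent.Lib.Helper20.GrKit
  Groth.Agent.Lib.Helper20.GrCanW Groth.Agent.Lib.Helper20.GrVG Groth.Agent.Lib.Helper20.GrVer
  Groth.Agent.Lib.Helper20.GrLES Groth.Agent.Lib.Helper20.HilbMono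

universe u

theorem s18642 (R : Type u) [CommRing R] [LocCoh.IsCohenMacaulayRing R] (𝒜 : ℤ → AddSubgroup R)
    [GradedRing 𝒜] (hpos : ∀ n : ℤ, n < 0 → 𝒜 n = ⊥) (h0 : IsField (GrLC.deg0 𝒜))
    (m : HomogeneousIdeal 𝒜) (hm : GrLC.IsStarLocal 𝒜 m)
    (hmsp : m.toIdeal = Ideal.span (⋃ n ∈ Set.Ioi (0 : ℤ), (𝒜 n : Set R)))
    (hstd : Ideal.span (⋃ n ∈ Set.Ioi (0 : ℤ), (𝒜 n : Set R)) =
      Ideal.span ((𝒜 1 : AddSubgroup R) : Set R)) (n : ℕ)
    (hn : ringKrullDim R = n) (h2 : 2 ≤ n) (I : GrLC.StarInjRes 𝒜 𝒜) (q : ℕ) (hq : 0 < q)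
    (R' : Type u) [CommRing R'] (𝒜' : ℤ → AddSubgroup R') [GradedRing 𝒜'] (φ : R' →+* R)
    (hφ : Function.Injective φ) (hdeg : ∀ j : ℤ, (𝒜' j).map (φ : R' →+ R) = 𝒜 (j * q))
    [hG' : LocCoh.IsGorensteinRing R'] :
    LocCoh.IsGorensteinRing R ∧ ∃ a : ℤ, GrLC.endDeg (I.Hgr m n) =
      ((a : WithTop ℤ) : WithBot (WithTop ℤ)) ∧ (q : ℤ) ∣ a := by
  classical
  haveI hCM' : LocCoh.IsCohenMacaulayRing R' :=
    { isCohenMacaulayLocalRing_localization := fun p _ =>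
        haveI := LocCoh.IsGorensteinRing.isGorensteinLocalRing_localization (A := R') p
        Groth.Agent.S0341.result _ }
  have hpos' := hpos_ver 𝒜 hpos q hq 𝒜' φ hφ hdeg
  have h0' := isField_deg0_ver 𝒜 h0 q 𝒜' φ hφ hdeg
  set m' : HomogeneousIdeal 𝒜' := irr 𝒜' with hm'def
  have hm' : GrLC.IsStarLocal 𝒜' m' := isStarLocal_irr 𝒜' hpos' h0'
  have hm'sp : m'.toIdeal = Ideal.span (⋃ j ∈ Set.Ioi (0 : ℤ), (𝒜' j : Set R')) := irr_toIdeal 𝒜'
  have hn' : ringKrullDim R' = n := by rw [ringKrullDim_ver 𝒜 q hq 𝒜' φ hφ hdeg, hn]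
  -- the hull over `R`
  have hPh : ∀ g r, r ∈ m.toIdeal → proj 𝒜 g r ∈ m.toIdeal := fun g r hr => m.isHomogeneous g hr
  letI decQ : DirectSum.Decomposition (quoGr 𝒜 m.toIdeal) := quoDecomposition 𝒜 m.toIdeal hPh
  obtain ⟨X, e, he0⟩ := exists_isStarInjHull 𝒜 (quoGr 𝒜 m.toIdeal)
  have he : GrLC.IsStarInjHull 𝒜 (GrLC.quotGr 𝒜 m) X.gr e := by
    rw [quotGr_eq_quoGr]
    exact he0
  -- the hull over `R'`
  have hPh' : ∀ g r, r ∈ m'.toIdeal → proj 𝒜' g r ∈ m'.toIdeal :=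
    fun g r hr => m'.isHomogeneous g hr
  letI decQ' : DirectSum.Decomposition (quoGr 𝒜' m'.toIdeal) :=
    quoDecomposition 𝒜' m'.toIdeal hPh'
  obtain ⟨X', e', he0'⟩ := exists_isStarInjHull 𝒜' (quoGr 𝒜' m'.toIdeal)
  have he' : GrLC.IsStarInjHull 𝒜' (GrLC.quotGr 𝒜' m') X'.gr e' := by
    rw [quotGr_eq_quoGr]
    exact he0'
  let I' : GrLC.StarInjRes 𝒜' 𝒜' := starInjRes 𝒜' 𝒜'
  -- the canonical modules
  obtain ⟨K, hK⟩ := Groth.Agent.Lib.Helper20.GrVM.exists_starCanonical 𝒜 hpos h0 m hm hmsp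
    X.gr e he n I
  obtain ⟨K', hK'⟩ := Groth.Agent.Lib.Helper20.GrVM.exists_starCanonical 𝒜' hpos' h0' m' hm' hm'sp
    X'.gr e' he' n I'
  obtain ⟨b, f', hf'bij, hf'deg⟩ := (Groth.Agent.Lib.Helper20.GorGr.main 𝒜' hpos' h0' m' hm' hm'sp
    n hn' I' X'.gr e' he' K'.gr hK').1 hG'
  obtain ⟨g, hginj, hgdeg⟩ := Groth.Agent.Lib.Helper20.GrVK.s18658 R 𝒜 hpos h0 m hm hmsp n hn I
    X.carrier X.gr e he K.carrier K.gr hK q hq R' 𝒜' φ hφ hdeg m' hm' hm'sp I' X'.carrier X'.gr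
    e' he' K'.carrier K'.gr hK'
  set w' : K'.carrier := f' 1 with hw'def
  set w : K.carrier := g w' with hwdef
  have hw' : w' ∈ K'.gr b := by
    have := hf'deg 0 1 SetLike.GradedOne.one_mem
    rwa [zero_add] at this
  have hw : w ∈ K.gr (b * q) := by
    rw [← hgdeg b]
    exact ⟨w', hw', rfl⟩
  have hf'1 : ∀ r' : R', f' r' = r' • w' := by
    intro r'
    rw [hw'def, ← map_smul, smul_eq_mul, mul_one]
  have hgs : ∀ r' : R', g (r' • w') = φ r' • w := by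
    intro r'
    rw [hwdef, map_smulₛₗ]
  have hw0 : w ≠ 0 := by
    intro h
    have h1 : w' = 0 := hginj (by rw [← hwdef, h, map_zero])
    have h2' : (1 : R') = 0 := hf'bij.1 (by rw [← hw'def, h1, map_zero])
    haveI := h0'.nontrivial
    have h3 : (1 : GrLC.deg0 𝒜') = 0 := Subtype.ext h2'
    exact one_ne_zero h3
  have hV : ∀ j : ℤ, ∀ c ∈ K.gr (j * q), ∃ r ∈ 𝒜 ((j - b) * q), c = r • w := by
    intro j c hc
    rw [← hgdeg j] at hc
    obtain ⟨c', hc', hgc⟩ := hc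
    obtain ⟨r', hr'⟩ := hf'bij.2 c'
    rw [hf'1] at hr'
    have h1 := proj_smul_of_mem_right 𝒜' K'.gr hw' j r'
    rw [hr', proj_of_mem_same K'.gr hc'] at h1
    refine ⟨φ (proj 𝒜' (j - b) r'), ?_, ?_⟩
    · rw [← hdeg (j - b)]
      exact ⟨_, proj_mem 𝒜' (j - b) r', rfl⟩
    · rw [← hgs, ← h1]
      exact hgc.symm
  have hW : ∀ j : ℤ, ∀ r ∈ 𝒜 (j * q), r • w = 0 → r = 0 := by
    intro j r hr hrw
    rw [← hdeg j] at hr
    obtain ⟨r', hr', rfl⟩ := hr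
    have h1 : g (f' r') = 0 := by
      rw [hf'1, hgs]
      exact hrw
    have h2' : f' r' = 0 := hginj (by rw [h1, map_zero])
    have h3 : r' = 0 := hf'bij.1 (by rw [h2', map_zero])
    rw [h3]
    exact map_zero φ
  haveI : Module.Finite R K.carrier := hK.1
  obtain ⟨ψ, hψ⟩ := hK.2
  letI : DirectSum.Decomposition (I.Hgr m n) :=
    Groth.Agent.Lib.Helper20.GorTop.HgrDecomposition 𝒜 𝒜 I m n
  refine ⟨?_, -(b * q), ?_, ⟨-b, by ring⟩⟩
  · refine (Groth.Agent.Lib.Helper20.GorGr.main 𝒜 hpos h0 m hm hmsp n hn I X.gr e he K.gr hK).2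
      ⟨b * q, LinearMap.toSpanSingleton R K.carrier w, ⟨?_, ?_⟩, ?_⟩
    · exact F_injective 𝒜 hpos m hm hmsp hstd K.gr n hn h2 I q hq b w hw hW
    · exact F_surjective 𝒜 hpos h0 m hm hmsp hstd X.gr e he K.gr n hn h2 I ψ hψ q hq b w hw hV hW
    · exact F_deg 𝒜 K.gr q b w hw
  · exact endDeg_eq 𝒜 hpos h0 m hm hmsp hstd X.gr e he K.gr n hn h2 I ψ hψ q b w hw hw0 hV

end Groth.Agent.Lib.Helper20.GrVN
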