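import Mathlib
import Groth.Prelude.Def_GrLC
import Groth.Agent.Lib.Helper26.GrProj
import Groth.Agent.Lib.Helper20.GrKit1

/-!
# The Veronese grading on an abstract presentation `φ : R' → R` of a Veronese subring
-/

set_option autoImplicit false
set_option linter.unusedSectionVars false
set_option linter.unusedVariables false

namespace Groth.Agent.Lib.Helper20.GrVP

open DirectSum Groth.Agent.Lib.Helper26.GrProj Groth.Agent.Lib.Helper20.GrKit

universe u

variable {R : Type u} [CommRing R] (𝒜 : ℤ → AddSubgroup R) [GradedRing 𝒜]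
  {R' : Type u} [CommRing R'] (φ : R' →+* R) (q : ℕ)

/-- the Veronese grading pulled back along `φ` -/
def verGr : ℤ → AddSubgroup R' := fun j => (𝒜 (j * q)).comap (φ : R' →+ R)

theorem mem_verGr {j : ℤ} {x : R'} : x ∈ verGr 𝒜 φ q j ↔ φ x ∈ 𝒜 (j * q) := Iff.rfl

theorem mem_range_of_mem
    (hrange : ∀ p : R, p ∈ φ.range ↔ ∀ i : ℤ, ¬ (q : ℤ) ∣ i → proj 𝒜 i p = 0)
    (j : ℤ) (y : R) (hy : y ∈ 𝒜 (j * q)) : y ∈ φ.range := by
  rw [hrange]
  intro i hi
  apply proj_of_mem_ne 𝒜 hy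
  rintro rfl
  exact hi (Dvd.intro_left j rfl)

theorem phi_invFun (hφ : Function.Injective φ)
    (hrange : ∀ p : R, p ∈ φ.range ↔ ∀ i : ℤ, ¬ (q : ℤ) ∣ i → proj 𝒜 i p = 0) (j : ℤ) (x : R') :
    φ (Function.invFun φ (proj 𝒜 (j * q) (φ x))) = proj 𝒜 (j * q) (φ x) := by
  have h := mem_range_of_mem 𝒜 φ q hrange j _ (proj_mem 𝒜 (j * q) (φ x))
  obtain ⟨z, hz⟩ := h
  exact Function.invFun_eq ⟨z, hz⟩

/-- the components of the pulled back grading -/
noncomputable def verProj (hφ : Function.Injective φ)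
    (hrange : ∀ p : R, p ∈ φ.range ↔ ∀ i : ℤ, ¬ (q : ℤ) ∣ i → proj 𝒜 i p = 0) (j : ℤ) :
    R' →+ R' where
  toFun x := Function.invFun φ (proj 𝒜 (j * q) (φ x))
  map_zero' := by
    apply hφ
    rw [phi_invFun 𝒜 φ q hφ hrange, map_zero, proj_zero]
  map_add' x y := by
    apply hφ
    rw [phi_invFun 𝒜 φ q hφ hrange, map_add, map_add, proj_add, phi_invFun 𝒜 φ q hφ hrange,
      phi_invFun 𝒜 φ q hφ hrange]

theorem phi_verProj (hφ : Function.Injective φ)
    (hrange : ∀ p : R, p ∈ φ.range ↔ ∀ i : ℤ, ¬ (q : ℤ) ∣ i → proj 𝒜 i p = 0) (j : ℤ) (x : R') :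
    φ (verProj 𝒜 φ q hφ hrange j x) = proj 𝒜 (j * q) (φ x) :=
  phi_invFun 𝒜 φ q hφ hrange j x

theorem verGr_isInternal (hφ : Function.Injective φ) (hq : 0 < q)
    (hrange : ∀ p : R, p ∈ φ.range ↔ ∀ i : ℤ, ¬ (q : ℤ) ∣ i → proj 𝒜 i p = 0) :
    DirectSum.IsInternal (verGr 𝒜 φ q) := by
  classical
  refine isInternal_of_proj (verGr 𝒜 φ q) (verProj 𝒜 φ q hφ hrange) ?_ ?_ ?_ ?_
  · intro g x
    rw [mem_verGr, phi_verProj]
    exact proj_mem 𝒜 _ _
  · intro g x hx
    apply hφ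
    rw [phi_verProj]
    exact proj_of_mem_same 𝒜 hx
  · intro g h x hx hne
    apply hφ
    rw [phi_verProj, map_zero]
    apply proj_of_mem_ne 𝒜 hx
    intro he
    apply hne
    have hq' : (q : ℤ) ≠ 0 := by exact_mod_cast hq.ne'
    exact mul_right_cancel₀ hq' he
  · intro x
    have hq' : (q : ℤ) ≠ 0 := by exact_mod_cast hq.ne'
    refine ⟨(DirectSum.decompose 𝒜 (φ x)).support.image (fun i => i / (q : ℤ)), ?_⟩
    apply hφ
    rw [map_sum]
    simp only [phi_verProj]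
    have hx : φ x ∈ φ.range := ⟨x, rfl⟩
    rw [hrange] at hx
    conv_lhs => rw [← sum_proj 𝒜 (φ x)]
    have hinj : Set.InjOn (fun g : ℤ => g * (q : ℤ))
        (((DirectSum.decompose 𝒜 (φ x)).support.image (fun i => i / (q : ℤ)) : Finset ℤ) : Set ℤ) := by
      intro a _ b _ hab
      exact mul_right_cancel₀ hq' hab
    rw [← Finset.sum_image (f := fun i => proj 𝒜 i (φ x)) hinj]
    apply Finset.sum_subset
    · intro i hi
      rw [Finset.mem_image]
      refine ⟨i / (q : ℤ), Finset.mem_image_of_mem _ hi, ?_⟩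
      have hdvd : (q : ℤ) ∣ i := by
        by_contra hnd
        have := hx i hnd
        rw [DFinsupp.mem_support_iff] at hi
        apply hi
        apply Subtype.ext
        exact this
      exact Int.ediv_mul_cancel hdvd
    · intro i _ hi
      exact proj_eq_zero_of_notMem 𝒜 hi

/-- the decomposition of the pulled back grading -/
@[reducible] noncomputable def verDecomposition (hφ : Function.Injective φ) (hq : 0 < q)
    (hrange : ∀ p : R, p ∈ φ.range ↔ ∀ i : ℤ, ¬ (q : ℤ) ∣ i → proj 𝒜 i p = 0) :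
    DirectSum.Decomposition (verGr 𝒜 φ q) :=
  (verGr_isInternal 𝒜 φ q hφ hq hrange).chooseDecomposition

theorem verGradedMonoid : SetLike.GradedMonoid (verGr 𝒜 φ q) where
  one_mem := by
    rw [mem_verGr, map_one, zero_mul]
    exact SetLike.GradedOne.one_mem
  mul_mem := fun i j a b ha hb => by
    rw [mem_verGr, map_mul, add_mul]
    exact SetLike.GradedMul.mul_mem ha hb

/-- the pulled back grading is a ring grading -/
@[reducible] noncomputable def verGradedRing (hφ : Function.Injective φ) (hq : 0 < q)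
    (hrange : ∀ p : R, p ∈ φ.range ↔ ∀ i : ℤ, ¬ (q : ℤ) ∣ i → proj 𝒜 i p = 0) :
    GradedRing (verGr 𝒜 φ q) :=
  { verDecomposition 𝒜 φ q hφ hq hrange, verGradedMonoid 𝒜 φ q with }

theorem verGr_map
    (hrange : ∀ p : R, p ∈ φ.range ↔ ∀ i : ℤ, ¬ (q : ℤ) ∣ i → proj 𝒜 i p = 0) (j : ℤ) : (verGr 𝒜 φ q j).map (φ : R' →+ R) = 𝒜 (j * q) := by
  ext y
  constructor
  · rintro ⟨x, hx, rfl⟩
    exact hx
  · intro hy
    obtain ⟨x, rfl⟩ := mem_range_of_mem 𝒜 φ q hrange j y hy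
    exact ⟨x, hy, rfl⟩

end Groth.Agent.Lib.Helper20.GrVP
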