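import Mathlib
import Groth.Prelude.Def_GrLC
import Groth.Agent.Lib.Helper20.GrCanW3

/-!
# The a-invariant of a weighted polynomial ring
-/

set_option autoImplicit false
set_option linter.unusedSectionVars false
set_option linter.unusedVariables false
set_option linter.style.haveILetI false

namespace Groth.Agent.Lib.Helper20.GrVP

open DirectSum Groth.Agent.Lib.Helper26.GrProj Groth.Agent.Lib.Helper20.GrKit
  Groth.Agent.Lib.Helper20.GrLES Groth.Agent.Lib.Helper20.GrConv MvPolynomial
  Groth.Agent.Lib.Helper20.GrCanW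

attribute [local instance] MvPolynomial.weightedGradedAlgebra

universe u

variable {k : Type u} [Field k] {N : ℕ} (w : Fin N → ℤ) (hw : ∀ i, 0 < w i)

include hw in
theorem endDeg_top_weighted
    (m' : HomogeneousIdeal (asGr (weightedHomogeneousSubmodule k w)))
    (hm' : GrLC.IsStarLocal (asGr (weightedHomogeneousSubmodule k w)) m')
    (hmsp' : m'.toIdeal = Ideal.span (⋃ n ∈ Set.Ioi (0 : ℤ),
      (asGr (weightedHomogeneousSubmodule k w) n : Set (MvPolynomial (Fin N) k))))
    (I' : GrLC.StarInjRes (asGr (weightedHomogeneousSubmodule k w))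
      (asGr (weightedHomogeneousSubmodule k w))) :
    GrLC.endDeg (I'.Hgr m' N) =
      (((-((Finset.univ : Finset (Fin N)).sum w) : ℤ) : WithTop ℤ) : WithBot (WithTop ℤ)) := by
  classical
  set 𝒲 := weightedHomogeneousSubmodule k w with h𝒲
  set 𝒜' := asGr 𝒲 with h𝒜'
  have hpos : ∀ n : ℤ, n < 0 → 𝒜' n = ⊥ := asGr_weighted_neg w hw
  have h0 : IsField (GrLC.deg0 𝒜') := isField_deg0 w hw
  have hmX : m'.toIdeal = Ideal.span (Set.range fun i : Fin N =>
      (X i : MvPolynomial (Fin N) k)) := by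
    rw [hmsp']
    exact span_pos_le w hw
  have hmne : m'.toIdeal ≠ ⊤ := by
    intro h
    apply hm'.1.1
    apply HomogeneousIdeal.toIdeal_injective
    rw [h, HomogeneousIdeal.toIdeal_top]
  have hn : ringKrullDim (MvPolynomial (Fin N) k) = N := by
    rw [MvPolynomial.ringKrullDim_of_isNoetherianRing, ringKrullDim_eq_zero_of_field, zero_add]
    simp
  haveI hreg : IsRegularRing (MvPolynomial (Fin N) k) := inferInstance
  haveI hG : LocCoh.IsGorensteinRing (MvPolynomial (Fin N) k) :=
    Groth.Agent.Lib.Helper5.GorFibre.isGorensteinRing_of_isRegularRing _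
  haveI hCM : LocCoh.IsCohenMacaulayRing (MvPolynomial (Fin N) k) :=
    { isCohenMacaulayLocalRing_localization := fun q _ => by
        haveI : LocCoh.IsGorensteinLocalRing (Localization.AtPrime q) :=
          LocCoh.IsGorensteinRing.isGorensteinLocalRing_localization q
        exact Groth.Agent.S0341.result (Localization.AtPrime q) }
  let J : Submodule (MvPolynomial (Fin N) k) (MvPolynomial (Fin N) k) :=
    Ideal.span (Set.range fun i : Fin N => (X i : MvPolynomial (Fin N) k))
  have hJ : ∀ g y, y ∈ J → proj 𝒜' g y ∈ J := by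
    intro g y hy
    have hy' : y ∈ m'.toIdeal := by rw [hmX]; exact hy
    have := m'.isHomogeneous g hy'
    rw [hmX] at this
    exact this
  letI : DirectSum.Decomposition (quoGr 𝒜' J) := quoDecomposition 𝒜' J hJ
  obtain ⟨F⟩ := nonempty_starInjRes 𝒜' (quoGr 𝒜' J)
  have hXdeg : ∀ i : Fin N, (X i : MvPolynomial (Fin N) k) ∈ 𝒜' (w i) :=
    fun i => isWeightedHomogeneous_X k w i
  have hXm : ∀ i : Fin N, (X i : MvPolynomial (Fin N) k) ∈ m'.toIdeal := by
    intro i
    rw [hmX]
    exact Ideal.subset_span ⟨i, rfl⟩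
  have hregX : RingTheory.Sequence.IsRegular (MvPolynomial (Fin N) k)
      (List.ofFn fun i : Fin N => (X i : MvPolynomial (Fin N) k)) := by
    refine ⟨Groth.Agent.Lib.Helper5.Lci.isWeaklyRegular_X N, ?_⟩
    rw [ofList_ofFn', Ideal.smul_eq_mul, Ideal.mul_top, ← hmX]
    exact fun h => hmne h.symm
  have hchain := s18645 𝒜' hpos m' hm' N hn I' N le_rfl
    (fun i : Fin N => (X i : MvPolynomial (Fin N) k)) w hXdeg hXm hregX
    (MvPolynomial (Fin N) k ⧸ J) (quoGr 𝒜' J) J.mkQ (mkQ_isGrHom 𝒜' J) J.mkQ_surjective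
    (Submodule.ker_mkQ J) F
  rw [Nat.sub_self] at hchain
  have htors : ∀ x : MvPolynomial (Fin N) k ⧸ J,
      x ∈ GrLC.gam m'.toIdeal (MvPolynomial (Fin N) k ⧸ J) := by
    intro x
    obtain ⟨y, rfl⟩ := J.mkQ_surjective x
    refine ⟨1, fun r hr => ?_⟩
    rw [pow_one, hmX] at hr
    rw [← map_smul, Submodule.mkQ_apply, Submodule.Quotient.mk_eq_zero, smul_eq_mul]
    exact Ideal.mul_mem_right _ _ hr
  have hend0 : GrLC.endDeg (quoGr 𝒜' J) = (((0 : ℤ) : WithTop ℤ) : WithBot (WithTop ℤ)) := by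
    apply le_antisymm
    · rw [endDeg_le_iff]
      intro g hg
      rw [WithBot.coe_le_coe, WithTop.coe_le_coe]
      by_contra hpos'
      apply hg
      rw [eq_bot_iff]
      rintro _ ⟨x, hx, rfl⟩
      rw [AddSubgroup.mem_bot]
      have hxm : x ∈ m'.toIdeal := by
        rw [hmsp']
        apply Ideal.subset_span
        simp only [Set.mem_iUnion, Set.mem_Ioi, SetLike.mem_coe, exists_prop]
        exact ⟨g, by omega, hx⟩
      rw [hmX] at hxm
      exact (Submodule.Quotient.mk_eq_zero J).2 hxm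
    · apply le_endDeg
      intro hbot
      have h1 : J.mkQ (1 : MvPolynomial (Fin N) k) ∈ quoGr 𝒜' J 0 :=
        ⟨1, SetLike.GradedOne.one_mem, rfl⟩
      rw [hbot, AddSubgroup.mem_bot, Submodule.mkQ_apply, Submodule.Quotient.mk_eq_zero] at h1
      apply hmne
      rw [hmX]
      exact (Ideal.eq_top_iff_one _).2 h1
  have hendF : GrLC.endDeg (F.Hgr m' 0) = (((0 : ℤ) : WithTop ℤ) : WithBot (WithTop ℤ)) := by
    rw [← hend0]
    exact endDeg_congr _ _ (fun g => Hgr_zero_eq_bot_iff F m' htors g)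
  rw [hendF] at hchain
  exact coe_add_eq_zero _ _ hchain.symm

end Groth.Agent.Lib.Helper20.GrVP
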