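import Mathlib
import Groth.Prelude.Def_GrLC
import Groth.Prelude.Def_GrLC2
import Groth.Agent.Lib.Helper20.GrVP1
import Groth.Agent.Lib.Helper20.GrVP2
import Groth.Agent.Lib.Helper26.HypHilb

/-!
# Standard grading of the polynomial ring: translation lemmas
-/

set_option autoImplicit false
set_option linter.unusedSectionVars false
set_option linter.unusedVariables false
set_option linter.style.haveILetI false

namespace Groth.Agent.Lib.Helper20.GrVP

open DirectSum Groth.Agent.Lib.Helper26.GrProj Groth.Agent.Lib.Helper20.GrKit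
  Groth.Agent.Lib.Helper20.GrLES Groth.Agent.Lib.Helper20.GrConv MvPolynomial
  Groth.Agent.Lib.Helper20.GrCanW

attribute [local instance] MvPolynomial.weightedGradedAlgebra

universe u

variable {k : Type u} [Field k] {s : ℕ}

/-- the standard weights -/
abbrev w1 (s : ℕ) : Fin s → ℤ := fun _ => 1

theorem w1_pos (i : Fin s) : 0 < w1 s i := one_pos

/-- the standard grading of the polynomial ring -/
noncomputable abbrev stdGr (k : Type u) [Field k] (s : ℕ) : ℤ → AddSubgroup (MvPolynomial (Fin s) k) :=
  asGr (weightedHomogeneousSubmodule k (w1 s))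

theorem weight_w1 (e : Fin s →₀ ℕ) : Finsupp.weight (w1 s) e = (e.degree : ℤ) := by
  rw [Finsupp.weight_apply, Finsupp.degree_eq_sum, Finsupp.sum_fintype _ _ (by simp)]
  push_cast
  apply Finset.sum_congr rfl
  intro i _
  simp

theorem proj_eq_whc (i : ℤ) (p : MvPolynomial (Fin s) k) :
    proj (stdGr k s) i p = weightedHomogeneousComponent (w1 s) i p := by
  rw [proj_asGr]
  exact weightedDecomposition.decompose'_apply k (w1 s) p i

theorem proj_natCast (j : ℕ) (p : MvPolynomial (Fin s) k) :
    proj (stdGr k s) (j : ℤ) p = homogeneousComponent j p := by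
  classical
  rw [proj_eq_whc]
  ext e
  rw [coeff_weightedHomogeneousComponent, coeff_homogeneousComponent, weight_w1]
  by_cases h : e.degree = j
  · rw [if_pos h, if_pos (by exact_mod_cast h)]
  · rw [if_neg h, if_neg (by exact_mod_cast h)]

theorem mem_iff_isHomogeneous (j : ℕ) (p : MvPolynomial (Fin s) k) :
    p ∈ stdGr k s (j : ℤ) ↔ p ∈ homogeneousSubmodule (Fin s) k j := by
  rw [mem_asGr, mem_weightedHomogeneousSubmodule, mem_homogeneousSubmodule]
  constructor
  · intro h e he
    have := h he
    rw [weight_w1] at this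
    have h2 : e.degree = j := by exact_mod_cast this
    rw [← h2, Finsupp.degree_eq_weight_one]
    rfl
  · intro h e he
    have := h he
    have h2 : e.degree = j := by rw [← this, Finsupp.degree_eq_weight_one]; rfl
    rw [weight_w1]
    exact_mod_cast h2

theorem range_iff (d : ℕ) (p : MvPolynomial (Fin s) k) :
    (∀ i : ℤ, ¬ (d : ℤ) ∣ i → proj (stdGr k s) i p = 0) ↔
      (∀ j : ℕ, ¬ d ∣ j → homogeneousComponent j p = 0) := by
  constructor
  · intro h j hj
    rw [← proj_natCast]
    apply h
    rwa [Int.natCast_dvd_natCast]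
  · intro h i hi
    by_cases hi0 : i < 0
    · have := proj_mem (stdGr k s) i p
      have hbot : stdGr k s i = ⊥ := asGr_weighted_neg (w1 s) w1_pos i hi0
      rw [hbot] at this
      exact this
    · obtain ⟨j, rfl⟩ := Int.eq_ofNat_of_zero_le (not_lt.1 hi0)
      rw [proj_natCast]
      apply h
      rwa [Int.natCast_dvd_natCast] at hi

end Groth.Agent.Lib.Helper20.GrVP
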