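import Mathlib
import Groth.Agent.Lib.Helper20.GrVG4

/-!
# Twisted Veronese modules and the top local cohomology of a Veronese subring
-/

set_option autoImplicit false
set_option linter.unusedSectionVars false
set_option linter.unusedVariables false
set_option linter.style.haveILetI false

namespace Groth.Agent.Lib.Helper20.GrVT

open DirectSum Groth.Agent.Lib.Helper26.GrProj Groth.Agent.Lib.Helper20.GrKit
  Groth.Agent.Lib.Helper20.GrCanW Groth.Agent.Lib.Helper20.GrVer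
  Groth.Agent.Lib.Helper20.GrCoarse Groth.Agent.Lib.Helper20.GrAcyc
  Groth.Agent.Lib.Helper20.GrLES Groth.Agent.Lib.Helper20.GrVG

universe u

section Sh

variable {R : Type u} [CommRing R] {𝒜 : ℤ → AddSubgroup R} [GradedRing 𝒜]

/-- the shifted graded module: the piece of degree `g` is `X_{g - b}` -/
noncomputable abbrev sh (X : GrLC.GMod.{u} 𝒜) (b : ℤ) : GrLC.GMod.{u} 𝒜 :=
  { carrier := X.carrier, gr := shiftGr X.gr b }

theorem mem_sh_gr (X : GrLC.GMod.{u} 𝒜) (b g : ℤ) (x : X.carrier) :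
    x ∈ (sh X b).gr g ↔ x ∈ X.gr (g - b) := Iff.rfl

theorem proj_sh (X : GrLC.GMod.{u} 𝒜) (b g : ℤ) (x : X.carrier) :
    proj (sh X b).gr g x = proj X.gr (g - b) x := proj_shiftGr X.gr b g x

/-- the twisted Veronese is a coarse class -/
theorem mem_coarse_sh (X : GrLC.GMod.{u} 𝒜) (b : ℤ) (q : ℕ) (x : X.carrier) :
    x ∈ coarse (psi q) (sh X b).gr 0 ↔ x ∈ coarse (psi q) X.gr (psi q (-b)) := by
  rw [mem_coarse, mem_coarse]
  constructor
  · intro h g hg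
    have h1 := h (g + b) (by
      intro e
      apply hg
      rw [map_add] at e
      rw [map_neg]
      exact eq_neg_of_add_eq_zero_left e)
    rw [proj_sh, add_sub_cancel_right] at h1
    exact h1
  · intro h g hg
    rw [proj_sh]
    apply h
    intro e
    apply hg
    rw [map_sub, map_neg] at e
    have : psi q g = psi q g - psi q b + psi q b := by abel
    rw [this, e, neg_add_cancel]

end Sh

section Main

variable {R : Type u} [CommRing R] [IsNoetherianRing R] (𝒜 : ℤ → AddSubgroup R) [GradedRing 𝒜]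
  (m : HomogeneousIdeal 𝒜)
  (hmsp : m.toIdeal = Ideal.span (⋃ n ∈ Set.Ioi (0 : ℤ), (𝒜 n : Set R)))
  (q : ℕ) (hq : 0 < q)
  {R' : Type u} [CommRing R'] (𝒜' : ℤ → AddSubgroup R') [GradedRing 𝒜'] (φ : R' →+* R)
  (hφ : Function.Injective φ)
  (hdeg : ∀ j : ℤ, (𝒜' j).map (φ : R' →+ R) = 𝒜 (j * q))
  (m' : HomogeneousIdeal 𝒜')
  (hm'sp : m'.toIdeal = Ideal.span (⋃ j ∈ Set.Ioi (0 : ℤ), (𝒜' j : Set R')))
  (n : ℕ) (I : GrLC.StarInjRes 𝒜 𝒜)
  (X : GrLC.GMod.{u} 𝒜)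
  (ψ : I.H m n ≃ₗ[R] X.carrier) (g₁ : ℤ)
  (hψ : GrLC.IsGrHomDeg (I.Hgr m n) X.gr ψ.toLinearMap g₁)

include hmsp hm'sp hψ in
/-- the top local cohomology of the Veronese subring is the twisted Veronese of the hull -/
theorem nonempty_equiv_ver_sh (a c : ℤ) (hg₁ : g₁ = -(a + q * c)) :
    Nonempty ((verRes 𝒜 q hq 𝒜' φ hdeg 𝒜 𝒜' (phiSL φ) hφ (phiSL_deg 𝒜 q 𝒜' φ hdeg) I).H m' n
      ≃ₗ[R'] (ver 𝒜 q hq 𝒜' φ hdeg (sh X a)).carrier) := by
  classical
  set A := verRes 𝒜 q hq 𝒜' φ hdeg 𝒜 𝒜' (phiSL φ) hφ (phiSL_deg 𝒜 q 𝒜' φ hdeg) I with hA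
  set V := ver 𝒜 q hq 𝒜' φ hdeg (sh X a) with hV
  letI := (Hgr_isInternal I m n).chooseDecomposition
  letI := (A.Hgr_isInternal m' n).chooseDecomposition
  set Θ := theta 𝒜 q hq 𝒜' φ hdeg m hmsp m' hm'sp 𝒜 𝒜' (phiSL φ) hφ
    (phiSL_deg 𝒜 q 𝒜' φ hdeg) I n with hΘ
  have hΘinj : Function.Injective Θ :=
    theta_injective 𝒜 q hq 𝒜' φ hdeg m hmsp m' hm'sp 𝒜 𝒜' (phiSL φ) hφ
      (phiSL_deg 𝒜 q 𝒜' φ hdeg) I n
  have key1 : ∀ x : A.H m' n, ψ (Θ x) ∈ coarse (psi q) (sh X a).gr 0 := by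
    intro x
    rw [← sum_proj (A.Hgr m' n) x, map_sum, map_sum]
    refine sum_mem fun j _ => ?_
    have h1 := theta_mem_Hgr 𝒜 q hq 𝒜' φ hdeg m hmsp m' hm'sp 𝒜 𝒜' (phiSL φ) hφ
      (phiSL_deg 𝒜 q 𝒜' φ hdeg) I n j _ (proj_mem (A.Hgr m' n) j x)
    have h2 := hψ (j * q) _ h1
    have h3 : j * (q : ℤ) + g₁ = (j - c) * q - a := by rw [hg₁]; ring
    rw [h3] at h2
    have h4 : ψ (Θ (proj (A.Hgr m' n) j x)) ∈ (sh X a).gr ((j - c) * q) := h2
    exact mem_ver_of_mem (sh X a).gr q h4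
  let Φ₀ : A.H m' n →ₗ[R'] V.carrier :=
    { toFun := fun x => ⟨ψ (Θ x), key1 x⟩
      map_add' := fun x y => Subtype.ext (by
        change ψ (Θ (x + y)) = ψ (Θ x) + ψ (Θ y)
        rw [map_add, map_add])
      map_smul' := fun r x => Subtype.ext (by
        change ψ (Θ (r • x)) = φ r • ψ (Θ x)
        rw [map_smulₛₗ, map_smul]) }
  have hΦ₀ : ∀ x, ((Φ₀ x).1 : X.carrier) = ψ (Θ x) := fun _ => rfl
  have hinj : Function.Injective Φ₀ := by
    intro x y hxy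
    have h1 : ψ (Θ x) = ψ (Θ y) := congrArg Subtype.val hxy
    exact hΘinj (ψ.injective h1)
  have hsurj : Function.Surjective Φ₀ := by
    intro y
    have hy : (y.1 : X.carrier) ∈ coarse (psi q) (sh X a).gr 0 := y.2
    have hex : ∀ g : ℤ, ∃ x : A.H m' n, ψ (Θ x) = proj (sh X a).gr g (y.1 : X.carrier) := by
      intro g
      by_cases hg : psi q g = 0
      · obtain ⟨j, rfl⟩ := exists_of_psi_eq_zero q hg
        have h0 : proj (sh X a).gr (j * q) (y.1 : X.carrier) ∈ X.gr (j * q - a) :=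
          proj_mem (sh X a).gr (j * q) (y.1 : X.carrier)
        have h1 := symm_mem (I.Hgr m n) X.gr ψ g₁ hψ h0
        have h3 : j * (q : ℤ) - a - g₁ = (j + c) * q := by rw [hg₁]; ring
        rw [h3] at h1
        obtain ⟨x, -, hx⟩ := exists_theta_eq 𝒜 q hq 𝒜' φ hdeg m hmsp m' hm'sp 𝒜 𝒜' (phiSL φ) hφ
          (phiSL_deg 𝒜 q 𝒜' φ hdeg) I n (j + c) _ h1
        refine ⟨x, ?_⟩
        change ψ (Θ x) = _
        rw [hx, LinearEquiv.apply_symm_apply]
      · exact ⟨0, by rw [map_zero, map_zero, hy g hg]⟩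
    choose xs hxs using hex
    refine ⟨∑ g ∈ (DirectSum.decompose (sh X a).gr (y.1 : X.carrier)).support, xs g,
      Subtype.ext ?_⟩
    rw [hΦ₀, map_sum, map_sum]
    conv_rhs => rw [← sum_proj (sh X a).gr (y.1 : X.carrier)]
    exact Finset.sum_congr rfl fun g _ => hxs g
  exact ⟨LinearEquiv.ofBijective Φ₀ ⟨hinj, hsurj⟩⟩

end Main

end Groth.Agent.Lib.Helper20.GrVT
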