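import Mathlib
import Groth.Agent.Lib.Helper20.GrVT1
import Groth.Agent.Lib.Helper20.GrPoly1
import Groth.Agent.Lib.Helper20.GrArt2

/-!
# The twisted Veronese module of a standard graded ring is finitely generated
-/

set_option autoImplicit false
set_option linter.unusedSectionVars false
set_option linter.unusedVariables false
set_option linter.style.haveILetI false

namespace Groth.Agent.Lib.Helper20.GrVT

open DirectSum Groth.Agent.Lib.Helper26.GrProj Groth.Agent.Lib.Helper20.GrKit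
  Groth.Agent.Lib.Helper20.GrCanW Groth.Agent.Lib.Helper20.GrVer
  Groth.Agent.Lib.Helper20.GrCoarse Groth.Agent.Lib.Helper20.GrVG

universe u

section Mult

variable {R : Type u} [CommRing R] (𝒜 : ℤ → AddSubgroup R) [GradedRing 𝒜]
  (hstd : Ideal.span (⋃ n ∈ Set.Ioi (0 : ℤ), (𝒜 n : Set R)) =
    Ideal.span ((𝒜 1 : AddSubgroup R) : Set R))

include hstd in
/-- in a standard graded ring `R_{u+v}` is spanned by `R_u R_v` -/
theorem mem_of_mul_mem (v : ℕ) : ∀ (u : ℕ) (S : AddSubgroup R),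
    (∀ s ∈ 𝒜 (u : ℤ), ∀ y ∈ 𝒜 (v : ℤ), s * y ∈ S) → ∀ x ∈ 𝒜 ((u : ℤ) + v), x ∈ S := by
  intro u
  induction u with
  | zero =>
    intro S h x hx
    rw [Nat.cast_zero, zero_add] at hx
    have h1 : (1 : R) ∈ 𝒜 ((0 : ℕ) : ℤ) := by
      rw [Nat.cast_zero]
      exact SetLike.GradedOne.one_mem
    have := h 1 h1 x hx
    rwa [one_mul] at this
  | succ u ih =>
    intro S h x hx
    have e : ((u + 1 : ℕ) : ℤ) + (v : ℤ) = ((u + v : ℕ) : ℤ) + 1 := by push_cast; ring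
    rw [e] at hx
    obtain ⟨t, c, ht, hc, rfl⟩ := Groth.Agent.Lib.Helper20.GrPoly.exists_decomp 𝒜 hstd (u + v) x hx
    refine sum_mem fun a ha => ?_
    have hca : c a ∈ 𝒜 ((u : ℤ) + v) := by
      have := hc a ha
      rwa [Nat.cast_add] at this
    have key := ih (S.comap (AddMonoidHom.mulRight a)) (by
      intro s hs y hy
      rw [AddSubgroup.mem_comap, AddMonoidHom.mulRight_apply]
      have hsa : s * a ∈ 𝒜 ((u + 1 : ℕ) : ℤ) := by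
        have := SetLike.GradedMul.mul_mem (A := 𝒜) hs (ht a ha)
        rwa [Nat.cast_add, Nat.cast_one]
      have := h (s * a) hsa y hy
      rwa [mul_right_comm] at this) (c a) hca
    rw [AddSubgroup.mem_comap, AddMonoidHom.mulRight_apply] at key
    exact key

end Mult

section RA

variable {R : Type u} [CommRing R] (𝒜 : ℤ → AddSubgroup R) [GradedRing 𝒜]

/-- the ring as a graded module over itself -/
noncomputable abbrev RA : GrLC.GMod.{u} 𝒜 := { carrier := R, gr := 𝒜 }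

end RA

section CMod

variable {R : Type u} [CommRing R] (𝒜 : ℤ → AddSubgroup R) [GradedRing 𝒜]
  (q : ℕ) (hq : 0 < q)
  {R' : Type u} [CommRing R'] (𝒜' : ℤ → AddSubgroup R') [GradedRing 𝒜'] (φ : R' →+* R)
  (hφ : Function.Injective φ)
  (hdeg : ∀ j : ℤ, (𝒜' j).map (φ : R' →+ R) = 𝒜 (j * q))
  (r₀ : ℕ)

/-- the twisted Veronese module `⊕_j R_{jq + r₀}` -/
noncomputable abbrev CM : GrLC.GMod.{u} 𝒜' := ver 𝒜 q hq 𝒜' φ hdeg (sh (RA 𝒜) (-(r₀ : ℤ)))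

theorem cm_mem_aux {j : ℤ} {r : R} (hr : r ∈ 𝒜 (j * q + r₀)) :
    r ∈ coarse (psi q) (sh (RA 𝒜) (-(r₀ : ℤ))).gr 0 := by
  have h : r ∈ (sh (RA 𝒜) (-(r₀ : ℤ))).gr (j * q) := by
    change r ∈ 𝒜 (j * q - -(r₀ : ℤ))
    rw [sub_neg_eq_add]
    exact hr
  exact mem_ver_of_mem (sh (RA 𝒜) (-(r₀ : ℤ))).gr q h

/-- homogeneous elements of the twisted Veronese module -/
noncomputable def cmk (j : ℤ) (r : R) (hr : r ∈ 𝒜 (j * q + r₀)) :
    (CM 𝒜 q hq 𝒜' φ hdeg r₀).carrier := ⟨r, cm_mem_aux 𝒜 q r₀ hr⟩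

theorem cmk_coe (j : ℤ) (r : R) (hr : r ∈ 𝒜 (j * q + r₀)) :
    ((cmk 𝒜 q hq 𝒜' φ hdeg r₀ j r hr).1 : R) = r := rfl

theorem cmk_mem (j : ℤ) (r : R) (hr : r ∈ 𝒜 (j * q + r₀)) :
    cmk 𝒜 q hq 𝒜' φ hdeg r₀ j r hr ∈ (CM 𝒜 q hq 𝒜' φ hdeg r₀).gr j := by
  change r ∈ 𝒜 (j * q - -(r₀ : ℤ))
  rw [sub_neg_eq_add]
  exact hr

theorem coe_mem_of_mem_gr {j : ℤ} {c : (CM 𝒜 q hq 𝒜' φ hdeg r₀).carrier}
    (hc : c ∈ (CM 𝒜 q hq 𝒜' φ hdeg r₀).gr j) : (c.1 : R) ∈ 𝒜 (j * q + r₀) := by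
  have : (c.1 : R) ∈ 𝒜 (j * q - -(r₀ : ℤ)) := hc
  rwa [sub_neg_eq_add] at this

theorem cm_smul_coe (s : R') (c : (CM 𝒜 q hq 𝒜' φ hdeg r₀).carrier) :
    ((s • c : (CM 𝒜 q hq 𝒜' φ hdeg r₀).carrier).1 : R) = φ s * (c.1 : R) := rfl

end CMod

section Finite

variable {R : Type u} [CommRing R] [IsNoetherianRing R] (𝒜 : ℤ → AddSubgroup R) [GradedRing 𝒜]
  (hpos : ∀ n : ℤ, n < 0 → 𝒜 n = ⊥)
  (hstd : Ideal.span (⋃ n ∈ Set.Ioi (0 : ℤ), (𝒜 n : Set R)) =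
    Ideal.span ((𝒜 1 : AddSubgroup R) : Set R))
  (q : ℕ) (hq : 0 < q)
  {R' : Type u} [CommRing R'] (𝒜' : ℤ → AddSubgroup R') [GradedRing 𝒜'] (φ : R' →+* R)
  (hφ : Function.Injective φ)
  (hdeg : ∀ j : ℤ, (𝒜' j).map (φ : R' →+ R) = 𝒜 (j * q))
  (r₀ : ℕ) (hr₀ : r₀ < q)

include hpos hstd hφ hr₀ in
theorem cm_finite : Module.Finite R' (CM 𝒜 q hq 𝒜' φ hdeg r₀).carrier := by
  classical
  set C := CM 𝒜 q hq 𝒜' φ hdeg r₀ with hC
  haveI := Groth.Agent.Lib.Helper20.GrArt.isNoetherian_comp 𝒜 𝒜 (r₀ : ℤ)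
  obtain ⟨s, hs⟩ := (Module.Finite.fg_top :
    (⊤ : Submodule (GrLC.deg0 𝒜) (GrLC.comp 𝒜 𝒜 (r₀ : ℤ))).FG)
  have hmem0 : ∀ y : GrLC.comp 𝒜 𝒜 (r₀ : ℤ), (y.1 : R) ∈ 𝒜 (0 * (q : ℤ) + r₀) := by
    intro y
    rw [zero_mul, zero_add]
    exact y.2
  let ι₀ : GrLC.comp 𝒜 𝒜 (r₀ : ℤ) → C.carrier := fun y => cmk 𝒜 q hq 𝒜' φ hdeg r₀ 0 y.1 (hmem0 y)
  have hι₀ : ∀ y, ((ι₀ y).1 : R) = y.1 := fun _ => rfl
  let P : Submodule R' C.carrier := Submodule.span R' ((s.image ι₀ : Finset C.carrier) : Set C.carrier)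
  have hι₀P : ∀ y, ι₀ y ∈ P := by
    intro y
    have hy : y ∈ Submodule.span (GrLC.deg0 𝒜) (s : Set (GrLC.comp 𝒜 𝒜 (r₀ : ℤ))) := by
      rw [hs]
      trivial
    induction hy using Submodule.span_induction with
    | mem y hy =>
      apply Submodule.subset_span
      exact Finset.mem_coe.2 (Finset.mem_image_of_mem ι₀ hy)
    | zero =>
      have : ι₀ 0 = 0 := Subtype.ext rfl
      rw [this]
      exact P.zero_mem
    | add y z _ _ hy hz =>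
      have : ι₀ (y + z) = ι₀ y + ι₀ z := Subtype.ext rfl
      rw [this]
      exact P.add_mem hy hz
    | smul c y _ hy =>
      have hc0 : (c.1 : R) ∈ 𝒜 (0 * q) := by
        rw [zero_mul]
        exact c.2
      obtain ⟨c', hc'0, hc'φ⟩ := exists_phi_eq 𝒜 q 𝒜' φ hdeg hc0
      have : ι₀ (c • y) = c' • ι₀ y := by
        apply Subtype.ext
        rw [cm_smul_coe, hι₀, hι₀, hc'φ]
        rfl
      rw [this]
      exact P.smul_mem c' hy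
  have hhom : ∀ (j : ℤ) (c : C.carrier), c ∈ C.gr j → c ∈ P := by
    intro j c hc
    have hc1 := coe_mem_of_mem_gr 𝒜 q hq 𝒜' φ hdeg r₀ hc
    by_cases hj : j < 0
    · have hneg : j * (q : ℤ) + r₀ < 0 := by
        have hq' : (r₀ : ℤ) < q := by exact_mod_cast hr₀
        nlinarith
      rw [hpos _ hneg, AddSubgroup.mem_bot] at hc1
      have : c = 0 := Subtype.ext hc1
      rw [this]
      exact P.zero_mem
    · push Not at hj
      obtain ⟨t, rfl⟩ := Int.eq_ofNat_of_zero_le hj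
      let S : AddSubgroup R := (P.toAddSubgroup).map (coarse (psi q) (sh (RA 𝒜) (-(r₀ : ℤ))).gr 0).subtype
      have hS : ∀ s₁ ∈ 𝒜 ((t * q : ℕ) : ℤ), ∀ y ∈ 𝒜 (r₀ : ℤ), s₁ * y ∈ S := by
        intro s₁ hs₁ y hy
        have hs₁' : s₁ ∈ 𝒜 ((t : ℤ) * q) := by
          rwa [Nat.cast_mul] at hs₁
        obtain ⟨s', hs'm, rfl⟩ := exists_phi_eq 𝒜 q 𝒜' φ hdeg hs₁'
        refine ⟨s' • ι₀ ⟨y, hy⟩, P.smul_mem s' (hι₀P _), ?_⟩
        rfl
      have hc2 : (c.1 : R) ∈ 𝒜 (((t * q : ℕ) : ℤ) + (r₀ : ℕ)) := by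
        rwa [Nat.cast_mul]
      obtain ⟨c₂, hc₂P, hc₂⟩ := mem_of_mul_mem 𝒜 hstd r₀ (t * q) S hS _ hc2
      have : c₂ = c := Subtype.ext hc₂
      rw [← this]
      exact hc₂P
  have htop : P = ⊤ := by
    rw [eq_top_iff]
    intro c _
    rw [← sum_proj C.gr c]
    exact P.sum_mem fun j _ => hhom j _ (proj_mem C.gr j c)
  exact ⟨⟨s.image ι₀, htop⟩⟩

end Finite

end Groth.Agent.Lib.Helper20.GrVT
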