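import Mathlib
import Groth.Agent.Lib.Helper20.GrVT2
import Groth.Agent.Lib.Helper20.GrKit2

/-!
# Homomorphisms from the twisted Veronese module to the Veronese of the hull
-/

set_option autoImplicit false
set_option linter.unusedSectionVars false
set_option linter.unusedVariables false
set_option linter.style.haveILetI false

namespace Groth.Agent.Lib.Helper20.GrVT

open DirectSum Groth.Agent.Lib.Helper26.GrProj Groth.Agent.Lib.Helper20.GrKit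
  Groth.Agent.Lib.Helper20.GrCanW Groth.Agent.Lib.Helper20.GrVer
  Groth.Agent.Lib.Helper20.GrCoarse Groth.Agent.Lib.Helper20.GrVG

universe u

section Mu

variable {R : Type u} [CommRing R] (𝒜 : ℤ → AddSubgroup R) [GradedRing 𝒜]
  (q : ℕ) (hq : 0 < q)
  {R' : Type u} [CommRing R'] (𝒜' : ℤ → AddSubgroup R') [GradedRing 𝒜'] (φ : R' →+* R)
  (hdeg : ∀ j : ℤ, (𝒜' j).map (φ : R' →+ R) = 𝒜 (j * q))
  (X : GrLC.GMod.{u} 𝒜) (r₀ : ℕ)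

theorem mu_mem (c : (CM 𝒜 q hq 𝒜' φ hdeg r₀).carrier)
    (x : (ver 𝒜 q hq 𝒜' φ hdeg (sh X (r₀ : ℤ))).carrier) :
    (c.1 : R) • (x.1 : X.carrier) ∈ coarse (psi q) X.gr 0 := by
  have hc := (mem_coarse_sh (RA 𝒜) (-(r₀ : ℤ)) q (c.1 : R)).1 c.2
  have hx := (mem_coarse_sh X (r₀ : ℤ) q (x.1 : X.carrier)).1 x.2
  have h0 : psi q (-(-(r₀ : ℤ))) + psi q (-(r₀ : ℤ)) = 0 := by
    rw [← map_add, neg_add_cancel, map_zero]
  have := coarse_smul 𝒜 X.gr q hc hx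
  rwa [h0] at this

/-- multiplication, as a map from the twisted Veronese of `X` to homomorphisms -/
noncomputable def mu : (ver 𝒜 q hq 𝒜' φ hdeg (sh X (r₀ : ℤ))).carrier →ₗ[R']
    ((CM 𝒜 q hq 𝒜' φ hdeg r₀).carrier →ₗ[R'] (ver 𝒜 q hq 𝒜' φ hdeg X).carrier) where
  toFun x :=
    { toFun := fun c => ⟨(c.1 : R) • (x.1 : X.carrier), mu_mem 𝒜 q hq 𝒜' φ hdeg X r₀ c x⟩
      map_add' := fun c c' => Subtype.ext (by
        change ((c.1 : R) + (c'.1 : R)) • (x.1 : X.carrier) = _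
        rw [add_smul]
        rfl)
      map_smul' := fun s c => Subtype.ext (by
        change (φ s * (c.1 : R)) • (x.1 : X.carrier) = φ s • ((c.1 : R) • (x.1 : X.carrier))
        rw [mul_smul]) }
  map_add' x x' := LinearMap.ext fun c => Subtype.ext (by
    change (c.1 : R) • ((x.1 : X.carrier) + (x'.1 : X.carrier)) = _
    rw [smul_add]
    rfl)
  map_smul' s x := LinearMap.ext fun c => Subtype.ext (by
    change (c.1 : R) • (φ s • (x.1 : X.carrier)) = φ s • ((c.1 : R) • (x.1 : X.carrier))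
    rw [smul_comm])

theorem mu_coe (x : (ver 𝒜 q hq 𝒜' φ hdeg (sh X (r₀ : ℤ))).carrier)
    (c : (CM 𝒜 q hq 𝒜' φ hdeg r₀).carrier) :
    ((mu 𝒜 q hq 𝒜' φ hdeg X r₀ x c).1 : X.carrier) = (c.1 : R) • (x.1 : X.carrier) := rfl

end Mu

section Bij

variable {R : Type u} [CommRing R] [IsNoetherianRing R] (𝒜 : ℤ → AddSubgroup R) [GradedRing 𝒜]
  (hpos : ∀ n : ℤ, n < 0 → 𝒜 n = ⊥)
  (m : HomogeneousIdeal 𝒜) (hm : GrLC.IsStarLocal 𝒜 m)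
  (q : ℕ) (hq : 0 < q)
  {R' : Type u} [CommRing R'] (𝒜' : ℤ → AddSubgroup R') [GradedRing 𝒜'] (φ : R' →+* R)
  (hφ : Function.Injective φ)
  (hdeg : ∀ j : ℤ, (𝒜' j).map (φ : R' →+ R) = 𝒜 (j * q))
  (X : GrLC.GMod.{u} 𝒜) (e : (R ⧸ m.toIdeal) →ₗ[R] X.carrier)
  (he : GrLC.IsStarInjHull 𝒜 (GrLC.quotGr 𝒜 m) X.gr e)
  (r₀ : ℕ)

include hpos hm he in
theorem mu_injective : Function.Injective (mu 𝒜 q hq 𝒜' φ hdeg X r₀) := by
  classical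
  rw [injective_iff_map_eq_zero]
  intro x hx
  apply Subtype.ext
  change (x.1 : X.carrier) = 0
  rw [← sum_proj X.gr (x.1 : X.carrier)]
  refine Finset.sum_eq_zero fun g _ => ?_
  have hxc := (mem_coarse_sh X (r₀ : ℤ) q (x.1 : X.carrier)).1 x.2
  by_cases hg : psi q g = psi q (-(r₀ : ℤ))
  · have hg' : psi q (g + r₀) = 0 := by
      rw [map_add, hg, map_neg, neg_add_cancel]
    obtain ⟨j, hj⟩ := exists_of_psi_eq_zero q hg'
    apply sep 𝒜 hpos m hm X.gr e he (proj_mem X.gr g (x.1 : X.carrier))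
    intro r hr
    have hr' : r ∈ 𝒜 (-j * q + r₀) := by
      have : -g = -j * (q : ℤ) + r₀ := by
        have : g = j * q - r₀ := by omega
        rw [this]
        ring
      rw [← this]
      exact hr
    have h1 := congrArg (fun l => ((l (cmk 𝒜 q hq 𝒜' φ hdeg r₀ (-j) r hr')).1 : X.carrier)) hx
    change r • (x.1 : X.carrier) = 0 at h1
    have h2 := proj_smul_of_mem 𝒜 X.gr hr 0 (x.1 : X.carrier)
    rw [h1, proj_zero, zero_sub, neg_neg] at h2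
    exact h2.symm
  · exact hxc g hg

include hpos hm he hφ in
/-- homogeneous homomorphisms are multiplications -/
theorem mu_surj_hom (v : (CM 𝒜 q hq 𝒜' φ hdeg r₀).carrier →ₗ[R']
      (ver 𝒜 q hq 𝒜' φ hdeg X).carrier) (d : ℤ)
    (hv : GrLC.IsGrHomDeg (CM 𝒜 q hq 𝒜' φ hdeg r₀).gr (ver 𝒜 q hq 𝒜' φ hdeg X).gr v d) :
    ∃ x, mu 𝒜 q hq 𝒜' φ hdeg X r₀ x = v := by
  classical
  let toC : R →+ (CM 𝒜 q hq 𝒜' φ hdeg r₀).carrier :=
    { toFun := fun r => cmk 𝒜 q hq 𝒜' φ hdeg r₀ (-d) (proj 𝒜 (-d * q + r₀) r) (proj_mem 𝒜 _ r)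
      map_zero' := Subtype.ext (proj_zero 𝒜 _)
      map_add' := fun a b => Subtype.ext (proj_add 𝒜 _ a b) }
  have htoC : ∀ r, ((toC r).1 : R) = proj 𝒜 (-d * q + r₀) r := fun _ => rfl
  have htoCmem : ∀ r, toC r ∈ (CM 𝒜 q hq 𝒜' φ hdeg r₀).gr (-d) := fun r =>
    cmk_mem 𝒜 q hq 𝒜' φ hdeg r₀ (-d) (proj 𝒜 (-d * q + r₀) r) (proj_mem 𝒜 _ r)
  have htoC_of_mem : ∀ c : (CM 𝒜 q hq 𝒜' φ hdeg r₀).carrier, c ∈ (CM 𝒜 q hq 𝒜' φ hdeg r₀).gr (-d) → toC (c.1 : R) = c := by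
    intro c hc
    apply Subtype.ext
    rw [htoC]
    exact proj_of_mem_same 𝒜 (coe_mem_of_mem_gr 𝒜 q hq 𝒜' φ hdeg r₀ hc)
  let g : R →+ X.carrier :=
    (coarse (psi q) X.gr 0).subtype.comp (v.toAddMonoidHom.comp toC)
  have hg : ∀ r, g r = ((v (toC r)).1 : X.carrier) := fun _ => rfl
  have hg0 : ∀ r, g r ∈ X.gr 0 := by
    intro r
    have h1 : ((v (toC r)).1 : X.carrier) ∈ X.gr ((-d + d) * q) := hv (-d) _ (htoCmem r)
    rw [neg_add_cancel, zero_mul] at h1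
    exact h1
  have hdn : -(d * (q : ℤ) - r₀) = -d * q + r₀ := by ring
  have hgs : ∀ s ∈ 𝒜 0, ∀ r ∈ 𝒜 (-(d * (q : ℤ) - r₀)), g (s * r) = s • g r := by
    intro s hs r hr
    rw [hdn] at hr
    have hs' : s ∈ 𝒜 (0 * q) := by
      rw [zero_mul]
      exact hs
    obtain ⟨s', hs'm, rfl⟩ := exists_phi_eq 𝒜 q 𝒜' φ hdeg hs'
    have h1 : toC (φ s' * r) = s' • toC r := by
      apply Subtype.ext
      rw [htoC, cm_smul_coe, htoC, proj_of_mem_same 𝒜 hr]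
      have hsr : φ s' * r ∈ 𝒜 (0 + (-d * q + r₀)) := SetLike.GradedMul.mul_mem (A := 𝒜) hs hr
      rw [zero_add] at hsr
      exact proj_of_mem_same 𝒜 hsr
    rw [hg, hg, h1, map_smul]
    rfl
  obtain ⟨x, hx, hxr⟩ := ex 𝒜 hpos m hm X.gr e he (d * q - r₀) g hg0 hgs
  have hxW : x ∈ coarse (psi q) (sh X (r₀ : ℤ)).gr 0 := by
    have h : x ∈ (sh X (r₀ : ℤ)).gr (d * q) := hx
    exact mem_ver_of_mem (sh X (r₀ : ℤ)).gr q h
  refine ⟨⟨x, hxW⟩, ?_⟩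
  apply LinearMap.ext
  intro c
  rw [← sum_proj (CM 𝒜 q hq 𝒜' φ hdeg r₀).gr c, map_sum, map_sum]
  refine Finset.sum_congr rfl fun i _ => ?_
  set ci := proj (CM 𝒜 q hq 𝒜' φ hdeg r₀).gr i c with hci
  have hcim : ci ∈ (CM 𝒜 q hq 𝒜' φ hdeg r₀).gr i := proj_mem (CM 𝒜 q hq 𝒜' φ hdeg r₀).gr i c
  have hci1 := coe_mem_of_mem_gr 𝒜 q hq 𝒜' φ hdeg r₀ hcim
  rw [← sub_eq_zero]
  apply Subtype.ext
  have hδmem : (((mu 𝒜 q hq 𝒜' φ hdeg X r₀ ⟨x, hxW⟩ ci - v ci : (ver 𝒜 q hq 𝒜' φ hdeg X).carrier)).1 : X.carrier) ∈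
      X.gr ((i + d) * q) := by
    change (ci.1 : R) • x - ((v ci).1 : X.carrier) ∈ X.gr ((i + d) * q)
    refine sub_mem ?_ (hv i _ hcim)
    have := SetLike.GradedSMul.smul_mem (A := 𝒜) (B := X.gr) hci1 hx
    rw [vadd_eq_add] at this
    have e1 : i * (q : ℤ) + r₀ + (d * q - r₀) = (i + d) * q := by ring
    rwa [e1] at this
  apply sep 𝒜 hpos m hm X.gr e he hδmem
  intro s hs
  have hs' : s ∈ 𝒜 (-(i + d) * q) := by
    rw [neg_mul]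
    exact hs
  obtain ⟨s', hs'm, rfl⟩ := exists_phi_eq 𝒜 q 𝒜' φ hdeg hs'
  set c2 := s' • ci with hc2
  have hc2m : c2 ∈ (CM 𝒜 q hq 𝒜' φ hdeg r₀).gr (-d) := by
    have := SetLike.GradedSMul.smul_mem (A := 𝒜') (B := (CM 𝒜 q hq 𝒜' φ hdeg r₀).gr) hs'm hcim
    rw [vadd_eq_add] at this
    have e1 : -(i + d) + i = -d := by ring
    rwa [e1] at this
  have hc2r : (c2.1 : R) ∈ 𝒜 (-(d * (q : ℤ) - r₀)) := by
    rw [hdn]
    exact coe_mem_of_mem_gr 𝒜 q hq 𝒜' φ hdeg r₀ hc2m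
  have h1 : φ s' • (((mu 𝒜 q hq 𝒜' φ hdeg X r₀ ⟨x, hxW⟩ ci - v ci : (ver 𝒜 q hq 𝒜' φ hdeg X).carrier)).1 : X.carrier) =
      (((mu 𝒜 q hq 𝒜' φ hdeg X r₀ ⟨x, hxW⟩ c2 - v c2 : (ver 𝒜 q hq 𝒜' φ hdeg X).carrier)).1 : X.carrier) := by
    rw [hc2, map_smul, map_smul, ← smul_sub]
    rfl
  rw [h1]
  change (c2.1 : R) • x - ((v c2).1 : X.carrier) = 0
  rw [hxr _ hc2r, hg, htoC_of_mem c2 hc2m, sub_self]

include hpos hm he hφ in
theorem mu_surjective (hfg : (⊤ : Submodule R' (CM 𝒜 q hq 𝒜' φ hdeg r₀).carrier).FG) :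
    Function.Surjective (mu 𝒜 q hq 𝒜' φ hdeg X r₀) := by
  classical
  intro u
  obtain ⟨T, hT⟩ := exists_finset_homComp 𝒜' (CM 𝒜 q hq 𝒜' φ hdeg r₀).gr
    (ver 𝒜 q hq 𝒜' φ hdeg X).gr hfg u
  have hex : ∀ d : ℤ, ∃ x, mu 𝒜 q hq 𝒜' φ hdeg X r₀ x =
      homComp 𝒜' (CM 𝒜 q hq 𝒜' φ hdeg r₀).gr (ver 𝒜 q hq 𝒜' φ hdeg X).gr u d :=
    fun d => mu_surj_hom 𝒜 hpos m hm q hq 𝒜' φ hφ hdeg X e he r₀ _ d
      (homComp_isGrHomDeg 𝒜' _ _ u d)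
  choose xs hxs using hex
  refine ⟨∑ d ∈ T, xs d, ?_⟩
  rw [map_sum]
  conv_rhs => rw [hT]
  exact Finset.sum_congr rfl fun d _ => hxs d

end Bij

end Groth.Agent.Lib.Helper20.GrVT
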