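import Mathlib
import Groth.Agent.Lib.Helper20.GrVT3
import Groth.Agent.Lib.Helper20.HilbMono1

/-!
# The number of generators of the twisted Veronese module
-/

set_option autoImplicit false
set_option linter.unusedSectionVars false
set_option linter.unusedVariables false
set_option linter.style.haveILetI false

namespace Groth.Agent.Lib.Helper20.GrVT

open DirectSum Groth.Agent.Lib.Helper26.GrProj Groth.Agent.Lib.Helper20.GrKit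
  Groth.Agent.Lib.Helper20.GrCanW Groth.Agent.Lib.Helper20.GrVer
  Groth.Agent.Lib.Helper20.GrCoarse Groth.Agent.Lib.Helper20.GrVG
  Groth.Agent.Lib.Helper20.HilbMono Groth.Agent.Lib.Helper20.GorGr TensorProduct

universe u

section Count

variable {R : Type u} [CommRing R] [IsNoetherianRing R] (𝒜 : ℤ → AddSubgroup R) [GradedRing 𝒜]
  (hpos : ∀ n : ℤ, n < 0 → 𝒜 n = ⊥)
  (hstd : Ideal.span (⋃ n ∈ Set.Ioi (0 : ℤ), (𝒜 n : Set R)) =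
    Ideal.span ((𝒜 1 : AddSubgroup R) : Set R))
  (q : ℕ) (hq : 0 < q)
  {R' : Type u} [CommRing R'] (𝒜' : ℤ → AddSubgroup R') [GradedRing 𝒜'] (φ : R' →+* R)
  (hφ : Function.Injective φ)
  (hdeg : ∀ j : ℤ, (𝒜' j).map (φ : R' →+ R) = 𝒜 (j * q))
  (m' : HomogeneousIdeal 𝒜')
  (hm'sp : m'.toIdeal = Ideal.span (⋃ j ∈ Set.Ioi (0 : ℤ), (𝒜' j : Set R')))
  (r₀ : ℕ) (hr₀ : r₀ < q)

theorem cgen_aux (y : GrLC.comp 𝒜 𝒜 (r₀ : ℤ)) : (y.1 : R) ∈ 𝒜 (0 * (q : ℤ) + r₀) := by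
  rw [zero_mul, zero_add]
  exact y.2

/-- the generators of the twisted Veronese module -/
noncomputable def cgen : GrLC.comp 𝒜 𝒜 (r₀ : ℤ) →+ (CM 𝒜 q hq 𝒜' φ hdeg r₀).carrier where
  toFun y := cmk 𝒜 q hq 𝒜' φ hdeg r₀ 0 y.1 (cgen_aux 𝒜 q r₀ y)
  map_zero' := Subtype.ext rfl
  map_add' _ _ := Subtype.ext rfl

theorem cgen_coe (y : GrLC.comp 𝒜 𝒜 (r₀ : ℤ)) :
    ((cgen 𝒜 q hq 𝒜' φ hdeg r₀ y).1 : R) = y.1 := rfl

/-- the underlying element of the ring -/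
noncomputable def cval : (CM 𝒜 q hq 𝒜' φ hdeg r₀).carrier →+ R :=
  (coarse (psi q) (sh (RA 𝒜) (-(r₀ : ℤ))).gr 0).subtype

theorem cval_apply (c : (CM 𝒜 q hq 𝒜' φ hdeg r₀).carrier) :
    cval 𝒜 q hq 𝒜' φ hdeg r₀ c = (c.1 : R) := rfl

/-- `c ↦ 1 ⊗ c` -/
noncomputable def kap : (CM 𝒜 q hq 𝒜' φ hdeg r₀).carrier →+
    (R' ⧸ m'.toIdeal) ⊗[R'] (CM 𝒜 q hq 𝒜' φ hdeg r₀).carrier where
  toFun c := (1 : R' ⧸ m'.toIdeal) ⊗ₜ[R'] c
  map_zero' := TensorProduct.tmul_zero _ _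
  map_add' := TensorProduct.tmul_add _

theorem kap_apply (c : (CM 𝒜 q hq 𝒜' φ hdeg r₀).carrier) :
    kap 𝒜 q hq 𝒜' φ hdeg m' r₀ c = (1 : R' ⧸ m'.toIdeal) ⊗ₜ[R'] c := rfl

theorem kap_smul_of_mem (s : R') (hs : s ∈ m'.toIdeal) (c : (CM 𝒜 q hq 𝒜' φ hdeg r₀).carrier) :
    kap 𝒜 q hq 𝒜' φ hdeg m' r₀ (s • c) = 0 := by
  rw [kap_apply, ← TensorProduct.smul_tmul]
  have : s • (1 : R' ⧸ m'.toIdeal) = 0 := by
    rw [Algebra.smul_def, mul_one]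
    exact Ideal.Quotient.eq_zero_iff_mem.2 hs
  rw [this, TensorProduct.zero_tmul]

include hm'sp in
theorem pos_mem' {j : ℤ} (hj : 0 < j) {s : R'} (hs : s ∈ 𝒜' j) : s ∈ m'.toIdeal := by
  rw [hm'sp]
  apply Ideal.subset_span
  simp only [Set.mem_iUnion, Set.mem_Ioi, SetLike.mem_coe, exists_prop]
  exact ⟨j, hj, hs⟩

include hpos hφ hm'sp hr₀ in
/-- elements of `m' C` have no component in degree `r₀` -/
theorem proj_eq_zero_of_mem_smul (c : (CM 𝒜 q hq 𝒜' φ hdeg r₀).carrier)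
    (hc : c ∈ m'.toIdeal • (⊤ : Submodule R' (CM 𝒜 q hq 𝒜' φ hdeg r₀).carrier)) :
    proj 𝒜 (r₀ : ℤ) (c.1 : R) = 0 := by
  classical
  have hpos' := hpos_ver 𝒜 hpos q hq 𝒜' φ hφ hdeg
  refine Submodule.smul_induction_on hc ?_ ?_
  · intro s hs c _
    rw [cm_smul_coe, proj_mul_eq]
    refine Finset.sum_eq_zero fun g _ => ?_
    rcases lt_trichotomy g 0 with hlt | h0 | hgt
    · have := proj_mem 𝒜 g (φ s)
      rw [hpos g hlt, AddSubgroup.mem_bot] at this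
      rw [this, zero_mul]
    · rw [h0]
      have h1 : φ s ∈ (irr 𝒜).toIdeal :=
        map_le 𝒜 q hq 𝒜' φ hdeg (irr 𝒜) (irr_toIdeal 𝒜) m' hm'sp (Ideal.mem_map_of_mem φ hs)
      rw [proj_zero_of_mem_irrelevant 𝒜 (irr 𝒜) hpos (irr_toIdeal 𝒜) _ h1, zero_mul]
    · by_cases hg : psi q g = 0
      · obtain ⟨j, rfl⟩ := exists_of_psi_eq_zero q hg
        have hj : 1 ≤ j := by
          by_contra hcon
          push Not at hcon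
          have : j * (q : ℤ) ≤ 0 := mul_nonpos_of_nonpos_of_nonneg (by omega) (by positivity)
          omega
        have hneg : (r₀ : ℤ) - j * q < 0 := by
          have hq' : (r₀ : ℤ) < q := by exact_mod_cast hr₀
          nlinarith
        have := proj_mem 𝒜 ((r₀ : ℤ) - j * q) (c.1 : R)
        rw [hpos _ hneg, AddSubgroup.mem_bot] at this
        rw [this, mul_zero]
      · rw [phi_mem_coarse 𝒜 q 𝒜' φ hdeg s g hg, zero_mul]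
  · intro x y hx hy
    change proj 𝒜 (r₀ : ℤ) ((x.1 : R) + (y.1 : R)) = 0
    rw [proj_add, hx, hy, add_zero]

include hpos hφ hm'sp hr₀ in
theorem kap_cgen_injective :
    Function.Injective ((kap 𝒜 q hq 𝒜' φ hdeg m' r₀).comp (cgen 𝒜 q hq 𝒜' φ hdeg r₀)) := by
  rw [injective_iff_map_eq_zero]
  intro y hy
  have h1 := congrArg (TensorProduct.quotTensorEquivQuotSMul
    (CM 𝒜 q hq 𝒜' φ hdeg r₀).carrier m'.toIdeal) hy
  rw [AddMonoidHom.comp_apply, kap_apply, ← map_one (Ideal.Quotient.mk m'.toIdeal),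
    TensorProduct.quotTensorEquivQuotSMul_mk_tmul, one_smul, map_zero,
    Submodule.Quotient.mk_eq_zero] at h1
  have h2 := proj_eq_zero_of_mem_smul 𝒜 hpos q hq 𝒜' φ hφ hdeg m' hm'sp r₀ hr₀ _ h1
  rw [cgen_coe, proj_of_mem_same 𝒜 y.2] at h2
  exact Subtype.ext h2

include hpos hstd hm'sp hr₀ in
theorem kap_eq (c : (CM 𝒜 q hq 𝒜' φ hdeg r₀).carrier) :
    kap 𝒜 q hq 𝒜' φ hdeg m' r₀ c = kap 𝒜 q hq 𝒜' φ hdeg m' r₀
      (cgen 𝒜 q hq 𝒜' φ hdeg r₀ ⟨proj 𝒜 (r₀ : ℤ) (c.1 : R), proj_mem 𝒜 _ _⟩) := by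
  classical
  have hcc := (mem_coarse_sh (RA 𝒜) (-(r₀ : ℤ)) q (c.1 : R)).1 c.2
  rw [neg_neg] at hcc
  -- the components of `c`
  have hcomp : ∀ g : ℤ, proj 𝒜 g (c.1 : R) ∈ coarse (psi q) (sh (RA 𝒜) (-(r₀ : ℤ))).gr 0 := by
    intro g
    rw [mem_coarse_sh, neg_neg]
    by_cases hg : psi q g = psi q (r₀ : ℤ)
    · rw [← hg]
      exact le_coarse (psi q) 𝒜 g (proj_mem 𝒜 g _)
    · rw [hcc g hg]
      exact zero_mem _
  let cg : ℤ → (CM 𝒜 q hq 𝒜' φ hdeg r₀).carrier := fun g => ⟨proj 𝒜 g (c.1 : R), hcomp g⟩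
  have hcsum : c = ∑ g ∈ (DirectSum.decompose 𝒜 (c.1 : R)).support, cg g := by
    apply Subtype.ext
    change cval 𝒜 q hq 𝒜' φ hdeg r₀ c = cval 𝒜 q hq 𝒜' φ hdeg r₀ _
    rw [map_sum]
    exact (sum_proj 𝒜 (c.1 : R)).symm
  have hq' : (r₀ : ℤ) < q := by exact_mod_cast hr₀
  have key : ∀ g : ℤ, g ≠ (r₀ : ℤ) → kap 𝒜 q hq 𝒜' φ hdeg m' r₀ (cg g) = 0 := by
    intro g hg
    by_cases hgc : psi q g = psi q (r₀ : ℤ)
    · have hg' : psi q (g - r₀) = 0 := by rw [map_sub, hgc, sub_self]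
      obtain ⟨j, hj⟩ := exists_of_psi_eq_zero q hg'
      have hgj : g = j * q + r₀ := by omega
      by_cases hjneg : j < 0
      · have hneg : g < 0 := by
          rw [hgj]
          nlinarith
        have h0 := proj_mem 𝒜 g (c.1 : R)
        rw [hpos g hneg, AddSubgroup.mem_bot] at h0
        have : cg g = 0 := Subtype.ext h0
        rw [this, map_zero]
      · push Not at hjneg
        have hj1 : 1 ≤ j := by
          by_contra hcon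
          push Not at hcon
          have : j = 0 := by omega
          rw [this, zero_mul, zero_add] at hgj
          exact hg hgj
        obtain ⟨t, rfl⟩ := Int.eq_ofNat_of_zero_le hjneg
        let S : AddSubgroup R :=
          (AddMonoidHom.ker (kap 𝒜 q hq 𝒜' φ hdeg m' r₀)).map (cval 𝒜 q hq 𝒜' φ hdeg r₀)
        have hS : ∀ s₁ ∈ 𝒜 ((t * q : ℕ) : ℤ), ∀ y ∈ 𝒜 (r₀ : ℤ), s₁ * y ∈ S := by
          intro s₁ hs₁ y hy
          have hs₁' : s₁ ∈ 𝒜 ((t : ℤ) * q) := by rwa [Nat.cast_mul] at hs₁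
          obtain ⟨s', hs'm, rfl⟩ := exists_phi_eq 𝒜 q 𝒜' φ hdeg hs₁'
          refine ⟨s' • cgen 𝒜 q hq 𝒜' φ hdeg r₀ ⟨y, hy⟩, ?_, rfl⟩
          exact kap_smul_of_mem 𝒜 q hq 𝒜' φ hdeg m' r₀ s'
            (pos_mem' 𝒜' m' hm'sp (by omega) hs'm) _
        have hmem : proj 𝒜 g (c.1 : R) ∈ 𝒜 (((t * q : ℕ) : ℤ) + (r₀ : ℕ)) := by
          rw [Nat.cast_mul, ← hgj]
          exact proj_mem 𝒜 g _
        obtain ⟨c₂, hc₂k, hc₂⟩ := mem_of_mul_mem 𝒜 hstd r₀ (t * q) S hS _ hmem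
        have : c₂ = cg g := Subtype.ext hc₂
        rw [← this]
        exact hc₂k
    · have : cg g = 0 := Subtype.ext (hcc g hgc)
      rw [this, map_zero]
  have hcg0 : cg (r₀ : ℤ) =
      cgen 𝒜 q hq 𝒜' φ hdeg r₀ ⟨proj 𝒜 (r₀ : ℤ) (c.1 : R), proj_mem 𝒜 _ _⟩ := Subtype.ext rfl
  conv_lhs => rw [hcsum, map_sum]
  by_cases h0 : (r₀ : ℤ) ∈ (DirectSum.decompose 𝒜 (c.1 : R)).support
  · rw [Finset.sum_eq_single_of_mem _ h0 (fun g _ hg => key g hg), hcg0]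
  · rw [Finset.sum_eq_zero fun g hg => key g (fun e0 => h0 (e0 ▸ hg))]
    have : (⟨proj 𝒜 (r₀ : ℤ) (c.1 : R), proj_mem 𝒜 _ _⟩ : GrLC.comp 𝒜 𝒜 (r₀ : ℤ)) = 0 :=
      Subtype.ext (proj_eq_zero_of_notMem 𝒜 h0)
    rw [this, map_zero, map_zero]

include hpos hstd hm'sp hr₀ in
theorem kap_cgen_surjective :
    Function.Surjective ((kap 𝒜 q hq 𝒜' φ hdeg m' r₀).comp (cgen 𝒜 q hq 𝒜' φ hdeg r₀)) := by
  intro t
  induction t using TensorProduct.induction_on with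
  | zero => exact ⟨0, map_zero _⟩
  | tmul x c =>
    obtain ⟨r, rfl⟩ := Ideal.Quotient.mk_surjective x
    refine ⟨⟨proj 𝒜 (r₀ : ℤ) ((r • c).1 : R), proj_mem 𝒜 _ _⟩, ?_⟩
    rw [AddMonoidHom.comp_apply, ← kap_eq 𝒜 hpos hstd q hq 𝒜' φ hdeg m' hm'sp r₀ hr₀ (r • c),
      kap_apply, ← TensorProduct.smul_tmul]
    congr 1
    rw [Algebra.smul_def, mul_one]
    rfl
  | add x y hx hy =>
    obtain ⟨a, ha⟩ := hx
    obtain ⟨b, hb⟩ := hy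
    exact ⟨a + b, by rw [map_add, ha, hb]⟩

include hpos hstd hφ hm'sp hr₀ in
/-- the number of generators of the twisted Veronese module is `dim R_{r₀}` -/
theorem finrank_tensor_cm (h0 : IsField (GrLC.deg0 𝒜)) :
    Module.finrank (R' ⧸ m'.toIdeal)
      ((R' ⧸ m'.toIdeal) ⊗[R'] (CM 𝒜 q hq 𝒜' φ hdeg r₀).carrier) =
    Module.finrank (GrLC.deg0 𝒜) (GrLC.comp 𝒜 𝒜 (r₀ : ℤ)) := by
  classical
  have hpos' := hpos_ver 𝒜 hpos q hq 𝒜' φ hφ hdeg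
  let j₀ : GrLC.comp 𝒜 𝒜 (r₀ : ℤ) ≃+
      (R' ⧸ m'.toIdeal) ⊗[R'] (CM 𝒜 q hq 𝒜' φ hdeg r₀).carrier :=
    AddEquiv.ofBijective ((kap 𝒜 q hq 𝒜' φ hdeg m' r₀).comp (cgen 𝒜 q hq 𝒜' φ hdeg r₀))
      ⟨kap_cgen_injective 𝒜 hpos q hq 𝒜' φ hφ hdeg m' hm'sp r₀ hr₀,
        kap_cgen_surjective 𝒜 hpos hstd q hq 𝒜' φ hdeg m' hm'sp r₀ hr₀⟩
  let i : GrLC.deg0 𝒜 → R' ⧸ m'.toIdeal :=
    fun c => Ideal.Quotient.mk m'.toIdeal (sec 𝒜 q 𝒜' φ hφ hdeg 0 c.1)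
  have hsec : ∀ c : GrLC.deg0 𝒜, φ (sec 𝒜 q 𝒜' φ hφ hdeg 0 c.1) = c.1 := by
    intro c
    rw [phi_sec]
    have : (c.1 : R) ∈ 𝒜 (0 * q) := by
      rw [zero_mul]
      exact c.2
    exact proj_of_mem_same 𝒜 this
  have hi : Function.Bijective i := by
    constructor
    · intro c c' h
      have h1 : sec 𝒜 q 𝒜' φ hφ hdeg 0 c.1 - sec 𝒜 q 𝒜' φ hφ hdeg 0 c'.1 ∈ m'.toIdeal :=
        Ideal.Quotient.eq.1 h
      have h2 := proj_zero_of_mem_irrelevant 𝒜' m' hpos' hm'sp _ h1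
      have h3 : sec 𝒜 q 𝒜' φ hφ hdeg 0 c.1 - sec 𝒜 q 𝒜' φ hφ hdeg 0 c'.1 ∈ 𝒜' 0 :=
        sub_mem (sec_mem 𝒜 q 𝒜' φ hφ hdeg 0 _) (sec_mem 𝒜 q 𝒜' φ hφ hdeg 0 _)
      rw [proj_of_mem_same 𝒜' h3, sub_eq_zero] at h2
      apply Subtype.ext
      rw [← hsec c, ← hsec c', h2]
    · intro y
      obtain ⟨r, rfl⟩ := Ideal.Quotient.mk_surjective y
      have h1 := phi_mem 𝒜 q 𝒜' φ hdeg (proj_mem 𝒜' 0 r)
      rw [zero_mul] at h1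
      refine ⟨⟨φ (proj 𝒜' 0 r), h1⟩, ?_⟩
      change Ideal.Quotient.mk m'.toIdeal (sec 𝒜 q 𝒜' φ hφ hdeg 0 (φ (proj 𝒜' 0 r))) = _
      rw [sec_phi 𝒜 q 𝒜' φ hφ hdeg (proj_mem 𝒜' 0 r), eq_comm, Ideal.Quotient.eq]
      exact sub_proj_zero_mem 𝒜' hpos' m' hm'sp r
  have hc : ∀ (c : GrLC.deg0 𝒜) (y : GrLC.comp 𝒜 𝒜 (r₀ : ℤ)), j₀ (c • y) = i c • j₀ y := by
    intro c y
    change kap 𝒜 q hq 𝒜' φ hdeg m' r₀ (cgen 𝒜 q hq 𝒜' φ hdeg r₀ (c • y)) =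
      i c • kap 𝒜 q hq 𝒜' φ hdeg m' r₀ (cgen 𝒜 q hq 𝒜' φ hdeg r₀ y)
    have h1 : cgen 𝒜 q hq 𝒜' φ hdeg r₀ (c • y) =
        sec 𝒜 q 𝒜' φ hφ hdeg 0 c.1 • cgen 𝒜 q hq 𝒜' φ hdeg r₀ y := by
      apply Subtype.ext
      rw [cm_smul_coe, cgen_coe, cgen_coe, hsec]
      rfl
    rw [h1, kap_apply, kap_apply, ← TensorProduct.smul_tmul, TensorProduct.smul_tmul']
    congr 1
  have := rank_eq_of_equiv_equiv i j₀ hi hc
  unfold Module.finrank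
  rw [this]

end Count

end Groth.Agent.Lib.Helper20.GrVT
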