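import Mathlib
import Groth.Agent.Lib.Helper20.GrVT4
import Groth.Agent.Lib.Helper20.GrVG5
import Groth.Agent.Lib.Helper20.CanonType4
import Groth.Agent.S0318

/-!
# The type of the Veronese subring of a standard graded Gorenstein ring
-/

set_option autoImplicit false
set_option linter.unusedSectionVars false
set_option linter.unusedVariables false
set_option linter.style.haveILetI false

namespace Groth.Agent.Lib.Helper20.GrVT

open DirectSum Groth.Agent.Lib.Helper26.GrProj Groth.Agent.Lib.Helper20.GrKit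
  Groth.Agent.Lib.Helper20.GrCanW Groth.Agent.Lib.Helper20.GrVer
  Groth.Agent.Lib.Helper20.GrCoarse Groth.Agent.Lib.Helper20.GrAcyc
  Groth.Agent.Lib.Helper20.GrLES Groth.Agent.Lib.Helper20.HilbMono
  Groth.Agent.Lib.Helper20.CanonLoc Groth.Agent.Lib.Helper20.GrVG
  Groth.Agent.Lib.Helper20.CanonType Groth.Agent.Lib.Helper20.GorGr
  Groth.Agent.Lib.Helper21.FlatLocal IsLocalRing TensorProduct CategoryTheory Abelian

universe u

theorem s18655 (R : Type u) [CommRing R] [LocCoh.IsGorensteinRing R] (𝒜 : ℤ → AddSubgroup R)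
    [GradedRing 𝒜] (hpos : ∀ n : ℤ, n < 0 → 𝒜 n = ⊥) (h0 : IsField (GrLC.deg0 𝒜))
    (m : HomogeneousIdeal 𝒜) (hm : GrLC.IsStarLocal 𝒜 m)
    (hmsp : m.toIdeal = Ideal.span (⋃ n ∈ Set.Ioi (0 : ℤ), (𝒜 n : Set R)))
    (hstd : Ideal.span (⋃ n ∈ Set.Ioi (0 : ℤ), (𝒜 n : Set R)) =
      Ideal.span ((𝒜 1 : AddSubgroup R) : Set R)) (n : ℕ)
    (hn : ringKrullDim R = n) (I : GrLC.StarInjRes 𝒜 𝒜) (a : ℤ)
    (ha : GrLC.endDeg (I.Hgr m n) = ((a : WithTop ℤ) : WithBot (WithTop ℤ))) (q : ℕ) (hq : 0 < q)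
    (R' : Type u) [CommRing R'] (𝒜' : ℤ → AddSubgroup R') [GradedRing 𝒜'] (φ : R' →+* R)
    (hφ : Function.Injective φ) (hdeg : ∀ j : ℤ, (𝒜' j).map (φ : R' →+ R) = 𝒜 (j * q))
    (m' : HomogeneousIdeal 𝒜') [hmax' : m'.toIdeal.IsMaximal]
    (hm'sp : m'.toIdeal = Ideal.span (⋃ j ∈ Set.Ioi (0 : ℤ), (𝒜' j : Set R')))
    (ρ : ℤ) (hρ0 : 0 ≤ ρ) (hρq : ρ < q) (hρa : (q : ℤ) ∣ a - ρ) :
    GrLC.bassNum m'.toIdeal R' n = (Module.finrank (GrLC.deg0 𝒜) (GrLC.comp 𝒜 𝒜 ρ) : ℕ∞) := by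
  classical
  haveI : IsNoetherianRing R' := isNoetherianRing_ver 𝒜 q 𝒜' φ hφ hdeg
  haveI hCM : LocCoh.IsCohenMacaulayRing R :=
    { isCohenMacaulayLocalRing_localization := fun p _ =>
        haveI := LocCoh.IsGorensteinRing.isGorensteinLocalRing_localization (A := R) p
        Groth.Agent.S0341.result _ }
  have hpos' := hpos_ver 𝒜 hpos q hq 𝒜' φ hφ hdeg
  have h0' := isField_deg0_ver 𝒜 h0 q 𝒜' φ hφ hdeg
  have hm'eq : m' = irr 𝒜' :=
    HomogeneousIdeal.toIdeal_injective (hm'sp.trans (irr_toIdeal 𝒜').symm)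
  have hm' : GrLC.IsStarLocal 𝒜' m' := by
    rw [hm'eq]
    exact isStarLocal_irr 𝒜' hpos' h0'
  obtain ⟨r₀, rfl⟩ := Int.eq_ofNat_of_zero_le hρ0
  have hr₀ : r₀ < q := by exact_mod_cast hρq
  obtain ⟨c₀, hc₀⟩ := hρa
  -- the hull over `R`
  have hPh : ∀ g r, r ∈ m.toIdeal → proj 𝒜 g r ∈ m.toIdeal := fun g r hr => m.isHomogeneous g hr
  letI decQ : DirectSum.Decomposition (quoGr 𝒜 m.toIdeal) := quoDecomposition 𝒜 m.toIdeal hPh
  obtain ⟨X, e, he0⟩ := exists_isStarInjHull 𝒜 (quoGr 𝒜 m.toIdeal)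
  have he : GrLC.IsStarInjHull 𝒜 (GrLC.quotGr 𝒜 m) X.gr e := by
    rw [quotGr_eq_quoGr]
    exact he0
  have hht : m.toIdeal.height = (n : ℕ∞) := by
    have h1 := GrStarLoc.height_eq_dim 𝒜 hpos m hm
    rw [hn] at h1
    exact WithBot.coe_injective h1
  obtain ⟨g₁, ψ, hψ⟩ := Groth.Agent.Lib.Helper20.GorTop.main 𝒜 m hm n hht I X.gr e he
  have hg₁ : g₁ = -a := shift_pin 𝒜 hpos m hm n I X e he ψ g₁ hψ a ha
  have hg₁' : g₁ = -((r₀ : ℤ) + (q : ℤ) * c₀) := by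
    rw [hg₁]
    congr 1
    omega
  obtain ⟨Ψ⟩ := nonempty_equiv_ver_sh 𝒜 m hmsp q hq 𝒜' φ hφ hdeg m' hm'sp n I X ψ g₁ hψ
    (r₀ : ℤ) c₀ hg₁'
  set A := verRes 𝒜 q hq 𝒜' φ hdeg 𝒜 𝒜' (phiSL φ) hφ (phiSL_deg 𝒜 q 𝒜' φ hdeg) I with hA
  have hacyc : ∀ k, IsAcyc m' (A.X k) := fun k =>
    ver_isAcyc 𝒜 q hq 𝒜' φ hdeg m hmsp m' hm'sp (I.X k) (I.starInj k)
  let F : GrLC.StarInjRes 𝒜' 𝒜' := starInjRes 𝒜' 𝒜'
  obtain ⟨e', he'⟩ := exists_hull_ver 𝒜 hpos h0 m hm hmsp q hq 𝒜' φ hφ hdeg m' hm' hm'sp X e he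
  haveI hCfin : Module.Finite R' (CM 𝒜 q hq 𝒜' φ hdeg r₀).carrier :=
    cm_finite 𝒜 hpos hstd q hq 𝒜' φ hφ hdeg r₀ hr₀
  let μe := LinearEquiv.ofBijective (mu 𝒜 q hq 𝒜' φ hdeg X r₀)
    ⟨mu_injective 𝒜 hpos m hm q hq 𝒜' φ hdeg X e he r₀,
      mu_surjective 𝒜 hpos m hm q hq 𝒜' φ hφ hdeg X e he r₀ Module.Finite.fg_top⟩
  obtain ⟨ψB, -, -⟩ := acyclic_computes m' n R' 𝒜' A hacyc F
  let φC : ((CM 𝒜 q hq 𝒜' φ hdeg r₀).carrier →ₗ[R'] (ver 𝒜 q hq 𝒜' φ hdeg X).carrier) ≃ₗ[R']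
      F.H m' n := μe.symm.trans (Ψ.symm.trans ψB)
  -- the local ring
  haveI : IsNoetherianRing (Localization.AtPrime m'.toIdeal) :=
    IsLocalization.isNoetherianRing m'.toIdeal.primeCompl (Localization.AtPrime m'.toIdeal)
      inferInstance
  obtain ⟨E₀, _, _, f₀, hf₀⟩ := Groth.Agent.S0299.result (Localization.AtPrime m'.toIdeal)
    (ResidueField (Localization.AtPrime m'.toIdeal))
  obtain ⟨eK⟩ := Groth.Agent.Lib.Helper20.CanonLoc.main 𝒜' m' (ver 𝒜 q hq 𝒜' φ hdeg X).gr e' he' n F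
    (CM 𝒜 q hq 𝒜' φ hdeg r₀).carrier φC E₀ f₀ hf₀
  -- vanishing off the dimension
  have hvan : ∀ i : ℕ, i ≠ n →
      Subsingleton (LocCoh.H (maximalIdeal (Localization.AtPrime m'.toIdeal)) i
        (Localization.AtPrime m'.toIdeal)) := by
    intro i hi
    obtain ⟨ψB, -, -⟩ := acyclic_computes m' i R' 𝒜' A hacyc F
    obtain ⟨β⟩ := bridge_starInjRes F m' i
    obtain ⟨e2⟩ := nonempty_tensor_H_equiv m'.toIdeal i
    have hI : Subsingleton (I.H m i) := by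
      rcases lt_or_gt_of_ne hi with hlt | hgt
      · exact subsingleton_H_of_lt_dim 𝒜 hpos m hm I n hn i hlt
      · exact Groth.Agent.Lib.helper11.SG8.subsingleton_H_of_dim_lt 𝒜 m n hn R 𝒜 I i hgt
    have hΘinj := theta_injective 𝒜 q hq 𝒜' φ hdeg m hmsp m' hm'sp 𝒜 𝒜' (phiSL φ) hφ
      (phiSL_deg 𝒜 q 𝒜' φ hdeg) I i
    haveI hA' : Subsingleton (A.H m' i) := hΘinj.subsingleton
    haveI hF : Subsingleton (F.H m' i) := ψB.symm.toEquiv.subsingleton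
    haveI hL : Subsingleton (LocCoh.H m'.toIdeal i R') := β.symm.toEquiv.subsingleton
    exact e2.symm.toEquiv.subsingleton
  -- the depth
  have hdepth : LocCoh.depth (Localization.AtPrime m'.toIdeal)
      (Localization.AtPrime m'.toIdeal) = n := by
    obtain ⟨d, hd⟩ := Groth.Agent.Lib.Helper21.DepthKit.exists_nat_depth
      (A := Localization.AtPrime m'.toIdeal) (M := Localization.AtPrime m'.toIdeal)
    have hd' : LocCoh.idealDepth (maximalIdeal (Localization.AtPrime m'.toIdeal))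
        (Localization.AtPrime m'.toIdeal) = d := hd
    have h1 := (Groth.Agent.S0318.result (Localization.AtPrime m'.toIdeal)
      (maximalIdeal (Localization.AtPrime m'.toIdeal)) (Localization.AtPrime m'.toIdeal)
      Groth.Agent.Lib.Helper21.DepthKit.maximalIdeal_smul_top_ne_top d).1 hd'
    have hdn : d = n := by
      by_contra hne
      haveI := h1.2
      exact not_subsingleton (LocCoh.H (maximalIdeal (Localization.AtPrime m'.toIdeal)) d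
        (Localization.AtPrime m'.toIdeal)) (hvan d hne)
    rw [hd, hdn]
  have e1 := Groth.Agent.Lib.helper11.ExtLocEquiv.extCongrRight
    (ModuleCat.of (Localization.AtPrime m'.toIdeal)
      (Localization.AtPrime m'.toIdeal ⧸ maximalIdeal (Localization.AtPrime m'.toIdeal))) n
    (localizedSelfEquiv m'.toIdeal).toModuleIso
  have h1 : GrLC.bassNum m'.toIdeal R' n = Module.length (Localization.AtPrime m'.toIdeal)
      (Ext (ModuleCat.of (Localization.AtPrime m'.toIdeal)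
        (Localization.AtPrime m'.toIdeal ⧸ maximalIdeal (Localization.AtPrime m'.toIdeal)))
        (ModuleCat.of (Localization.AtPrime m'.toIdeal) (Localization.AtPrime m'.toIdeal)) n) :=
    e1.length_eq
  rw [h1, length_ext_residue_ring n hdepth hf₀
    (LocalizedModule m'.toIdeal.primeCompl (CM 𝒜 q hq 𝒜' φ hdeg r₀).carrier) eK,
    length_residue_tensor_localized m'.toIdeal (CM 𝒜 q hq 𝒜' φ hdeg r₀).carrier,
    finrank_tensor_cm 𝒜 hpos hstd q hq 𝒜' φ hφ hdeg m' hm'sp r₀ hr₀ h0]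

end Groth.Agent.Lib.Helper20.GrVT
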