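import Mathlib
import Groth.Prelude.Def_GrLC
import Groth.Prelude.Def_GrLC2
import Groth.Agent.Lib.Helper20.GrVP3
import Groth.Agent.Lib.Helper20.GrVT5

/-!
# S20027: the type of the Veronese subring of a polynomial ring
-/

set_option autoImplicit false
set_option linter.unusedSectionVars false
set_option linter.unusedVariables false
set_option linter.style.haveILetI false

namespace Groth.Agent.Lib.Helper20.GrVP

open DirectSum Groth.Agent.Lib.Helper26.GrProj Groth.Agent.Lib.Helper20.GrKit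
  Groth.Agent.Lib.Helper20.GrLES Groth.Agent.Lib.Helper20.GrConv MvPolynomial
  Groth.Agent.Lib.Helper20.GrCanW Groth.Agent.Lib.Helper20.HilbMono

attribute [local instance] MvPolynomial.weightedGradedAlgebra

universe u

variable {k : Type u} [Field k] {s : ℕ}

theorem finrank_comp (ρ : ℕ) :
    Module.finrank (GrLC.deg0 (stdGr k s)) (GrLC.comp (stdGr k s) (stdGr k s) (ρ : ℤ)) =
      (s + ρ - 1).choose ρ := by
  rw [← Groth.Agent.Lib.Helper26.HypHilb.finrank_homogeneousSubmodule (k := k) s ρ]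
  unfold Module.finrank
  congr 1
  let i : GrLC.deg0 (stdGr k s) → k := fun a => coeff 0 (a : MvPolynomial (Fin s) k)
  let j : ↥(GrLC.comp (stdGr k s) (stdGr k s) (ρ : ℤ)) ≃+ ↥(homogeneousSubmodule (Fin s) k ρ) :=
    { toFun := fun x => ⟨x.1, (mem_iff_isHomogeneous ρ x.1).1 x.2⟩
      invFun := fun x => ⟨x.1, (mem_iff_isHomogeneous ρ x.1).2 x.2⟩
      left_inv := fun x => rfl
      right_inv := fun x => rfl
      map_add' := fun x y => rfl }
  have hC : ∀ a : GrLC.deg0 (stdGr k s),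
      (a : MvPolynomial (Fin s) k) = C (coeff 0 (a : MvPolynomial (Fin s) k)) :=
    fun a => eq_C_of_mem_zero (w1 s) w1_pos _ a.2
  refine rank_eq_of_equiv_equiv i j ⟨?_, ?_⟩ ?_
  · intro a b hab
    apply Subtype.ext
    rw [hC a, hC b]
    exact congrArg C hab
  · intro c
    refine ⟨⟨C c, ?_⟩, ?_⟩
    · change C c ∈ weightedHomogeneousSubmodule k (w1 s) 0
      exact isWeightedHomogeneous_C (w1 s) c
    · change coeff 0 (C c : MvPolynomial (Fin s) k) = c
      rw [coeff_C, if_pos rfl]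
  · intro r x
    apply Subtype.ext
    change (r : MvPolynomial (Fin s) k) • (x : MvPolynomial (Fin s) k) =
      coeff 0 (r : MvPolynomial (Fin s) k) • (x : MvPolynomial (Fin s) k)
    conv_lhs => rw [hC r]
    rw [smul_eq_mul, MvPolynomial.smul_eq_C_mul]

theorem bassNum_congr {A : Type u} [CommRing A] (p p' : Ideal A) [hp : p.IsMaximal]
    [hp' : p'.IsMaximal] (h : p = p') (i : ℕ) : GrLC.bassNum p A i = GrLC.bassNum p' A i := by
  subst h
  rfl

theorem s20027 (k : Type u) [Field k] (s d : ℕ) (hs : 1 ≤ s)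
    (hd : 1 ≤ d) (R' : Type u) [CommRing R'] (φ : R' →+* MvPolynomial (Fin s) k)
    (hφ : Function.Injective φ)
    (hrange : ∀ p : MvPolynomial (Fin s) k, p ∈ φ.range ↔
      ∀ j : ℕ, ¬ d ∣ j → MvPolynomial.homogeneousComponent j p = 0)
    (m' : Ideal R') [m'.IsMaximal]
    (hm' : m' = Ideal.comap φ
      (RingHom.ker (MvPolynomial.constantCoeff : MvPolynomial (Fin s) k →+* k)))
    (n : ℕ) (hsn : s ≤ n) (hdn : d ∣ n) (hmin : ∀ n' : ℕ, s ≤ n' → d ∣ n' → n ≤ n') :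
    GrLC.bassNum m' R' s = (Nat.choose (n - 1) (s - 1) : ℕ∞) := by
  classical
  have hd0 : 0 < d := hd
  set 𝒜 := stdGr k s with h𝒜
  have hpos : ∀ n : ℤ, n < 0 → 𝒜 n = ⊥ := asGr_weighted_neg (w1 s) w1_pos
  have h0 : IsField (GrLC.deg0 𝒜) := isField_deg0 (w1 s) w1_pos
  have hrange' : ∀ p : MvPolynomial (Fin s) k, p ∈ φ.range ↔
      ∀ i : ℤ, ¬ (d : ℤ) ∣ i → proj 𝒜 i p = 0 := by
    intro p
    rw [hrange p, range_iff]
  letI : GradedRing (verGr 𝒜 φ d) := verGradedRing 𝒜 φ d hφ hd0 hrange'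
  have hdeg : ∀ j : ℤ, (verGr 𝒜 φ d j).map (φ : R' →+ MvPolynomial (Fin s) k) = 𝒜 (j * d) :=
    verGr_map 𝒜 φ d hrange'
  have hpos' := Groth.Agent.Lib.Helper20.GrVG.hpos_ver 𝒜 hpos d hd0 (verGr 𝒜 φ d) φ hφ hdeg
  -- ring-theoretic instances
  haveI hreg : IsRegularRing (MvPolynomial (Fin s) k) := inferInstance
  haveI hG : LocCoh.IsGorensteinRing (MvPolynomial (Fin s) k) :=
    Groth.Agent.Lib.Helper5.GorFibre.isGorensteinRing_of_isRegularRing _
  have hn : ringKrullDim (MvPolynomial (Fin s) k) = s := by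
    rw [MvPolynomial.ringKrullDim_of_isNoetherianRing, ringKrullDim_eq_zero_of_field, zero_add]
    simp
  have hm := isStarLocal_irr 𝒜 hpos h0
  have hmsp := irr_toIdeal 𝒜
  have hspanX : Ideal.span (⋃ n ∈ Set.Ioi (0 : ℤ), (𝒜 n : Set (MvPolynomial (Fin s) k))) =
      Ideal.span (Set.range fun i : Fin s => (X i : MvPolynomial (Fin s) k)) :=
    span_pos_le (w1 s) w1_pos
  have hstd : Ideal.span (⋃ n ∈ Set.Ioi (0 : ℤ), (𝒜 n : Set (MvPolynomial (Fin s) k))) =
      Ideal.span ((𝒜 1 : AddSubgroup (MvPolynomial (Fin s) k)) : Set (MvPolynomial (Fin s) k)) := by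
    apply le_antisymm
    · rw [hspanX, Ideal.span_le]
      rintro _ ⟨i, rfl⟩
      apply Ideal.subset_span
      exact isWeightedHomogeneous_X k (w1 s) i
    · apply Ideal.span_mono
      intro x hx
      simp only [Set.mem_iUnion, Set.mem_Ioi, SetLike.mem_coe, exists_prop]
      exact ⟨1, one_pos, hx⟩
  obtain ⟨I⟩ := nonempty_starInjRes 𝒜 𝒜
  have ha : GrLC.endDeg (I.Hgr (irr 𝒜) s) =
      (((-(s : ℤ) : ℤ) : WithTop ℤ) : WithBot (WithTop ℤ)) := by
    rw [endDeg_top_weighted (w1 s) w1_pos (irr 𝒜) hm hmsp I]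
    simp
  -- the maximal ideal
  have hirr_le : (irr (verGr 𝒜 φ d)).toIdeal ≤ m' := by
    rw [irr_toIdeal, Ideal.span_le, hm']
    intro x hx
    simp only [Set.mem_iUnion, Set.mem_Ioi, SetLike.mem_coe, exists_prop] at hx
    obtain ⟨j, hj, hxj⟩ := hx
    rw [SetLike.mem_coe, Ideal.mem_comap, RingHom.mem_ker, constantCoeff_eq]
    have hx' : IsWeightedHomogeneous (w1 s) (φ x) (j * d) := hxj
    by_contra hne
    have := hx' hne
    rw [map_zero] at this
    have hjd : 0 < j * (d : ℤ) := mul_pos hj (by exact_mod_cast hd0)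
    omega
  have hm'eq : m' = (irr (verGr 𝒜 φ d)).toIdeal := by
    apply le_antisymm _ hirr_le
    intro x hx
    have h1 := Groth.Agent.Lib.Helper20.GorGr.sub_proj_zero_mem (verGr 𝒜 φ d) hpos' (irr (verGr 𝒜 φ d)) (irr_toIdeal _) x
    have h2 : proj (verGr 𝒜 φ d) 0 x ∈ m' := by
      have := m'.sub_mem hx (hirr_le h1)
      rwa [sub_sub_cancel] at this
    have h3 : φ (proj (verGr 𝒜 φ d) 0 x) ∈ 𝒜 (0 * d) := proj_mem (verGr 𝒜 φ d) 0 x
    rw [zero_mul] at h3
    have h4 := eq_C_of_mem_zero (w1 s) w1_pos _ h3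
    rw [hm', Ideal.mem_comap, RingHom.mem_ker, constantCoeff_eq] at h2
    rw [h2, C_0] at h4
    have h5 : proj (verGr 𝒜 φ d) 0 x = 0 := hφ (by rw [h4, map_zero])
    rw [h5, sub_zero] at h1
    exact h1
  haveI hmax' : (irr (verGr 𝒜 φ d)).toIdeal.IsMaximal := by
    rw [← hm'eq]
    infer_instance
  -- the remainder
  set ρ : ℤ := (-(s : ℤ)) % (d : ℤ) with hρ
  have hdZ : (0 : ℤ) < (d : ℤ) := by exact_mod_cast hd0
  have hρ0 : 0 ≤ ρ := Int.emod_nonneg _ hdZ.ne'
  have hρd : ρ < d := Int.emod_lt_of_pos _ hdZ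
  have hρa : (d : ℤ) ∣ -(s : ℤ) - ρ := by
    refine ⟨(-(s : ℤ)) / (d : ℤ), ?_⟩
    have := Int.emod_add_mul_ediv (-(s : ℤ)) (d : ℤ)
    linarith
  have key := Groth.Agent.Lib.Helper20.GrVT.s18655 (MvPolynomial (Fin s) k) 𝒜 hpos h0 (irr 𝒜) hm
    hmsp hstd s hn I (-(s : ℤ)) ha d hd0 R' (verGr 𝒜 φ d) φ hφ hdeg (irr (verGr 𝒜 φ d))
    (irr_toIdeal _) ρ hρ0 hρd hρa
  rw [bassNum_congr m' _ hm'eq s, key]
  obtain ⟨r, hr⟩ := Int.eq_ofNat_of_zero_le hρ0
  rw [hr, finrank_comp]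
  -- arithmetic
  have hrd : r < d := by
    have : (r : ℤ) < d := by rw [← hr]; exact hρd
    exact_mod_cast this
  have hdvd : d ∣ s + r := by
    have : (d : ℤ) ∣ ((s + r : ℕ) : ℤ) := by
      obtain ⟨c, hc⟩ := hρa
      refine ⟨-c, ?_⟩
      push_cast
      rw [← hr]
      linarith
    exact_mod_cast this
  have hle : n ≤ s + r := hmin (s + r) (Nat.le_add_right _ _) hdvd
  have hn_eq : n = s + r := by
    obtain ⟨c, hc⟩ := hdn
    obtain ⟨c', hc'⟩ := hdvd
    have h1 : d * c ≤ d * c' := by rw [← hc, ← hc']; exact hle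
    have h2 : d * c' < d * c + d := by
      rw [← hc, ← hc']
      omega
    have h3 : c' < c + 1 := by
      have : d * c' < d * (c + 1) := by rw [mul_add, mul_one]; exact h2
      exact Nat.lt_of_mul_lt_mul_left this
    have h4 : c ≤ c' := Nat.le_of_mul_le_mul_left h1 hd0
    have : c = c' := by omega
    rw [hc, hc', this]
  rw [hn_eq]
  congr 1
  have : s + r - 1 = r + (s - 1) := by omega
  rw [this, Nat.choose_symm_add]

end Groth.Agent.Lib.Helper20.GrVP
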