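import Mathlib
import Groth.Agent.Lib.Helper20.GrVT5
import Groth.Agent.Lib.Helper20.HilbMono3
import Groth.Agent.Lib.helper11.GorHull

/-!
# The Veronese subring of a standard graded Gorenstein ring is Gorenstein iff `q` divides `a(R)`
-/

set_option autoImplicit false
set_option linter.unusedSectionVars false
set_option linter.unusedVariables false
set_option linter.style.haveILetI false

namespace Groth.Agent.Lib.Helper20.GrVU

open DirectSum Groth.Agent.Lib.Helper26.GrProj Groth.Agent.Lib.Helper20.GrKit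
  Groth.Agent.Lib.Helper20.GrVer Groth.Agent.Lib.Helper20.HilbMono
  Groth.Agent.Lib.Helper20.GrVG Groth.Agent.Lib.Helper20.CanonType
  Groth.Agent.Lib.Helper20.GorGr Groth.Agent.Lib.Helper21.FlatLocal IsLocalRing CategoryTheory
  Abelian

universe u

theorem hilb_ge_one (R : Type u) [CommRing R] [LocCoh.IsCohenMacaulayRing R]
    (𝒜 : ℤ → AddSubgroup R) [GradedRing 𝒜] (hpos : ∀ n : ℤ, n < 0 → 𝒜 n = ⊥)
    (h0 : IsField (GrLC.deg0 𝒜))
    (hstd : Ideal.span (⋃ n ∈ Set.Ioi (0 : ℤ), (𝒜 n : Set R)) =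
      Ideal.span ((𝒜 1 : AddSubgroup R) : Set R))
    (h1 : 1 ≤ ringKrullDim R) (j : ℕ) :
    Module.finrank (GrLC.deg0 𝒜) (GrLC.comp 𝒜 𝒜 1) ≤
      Module.finrank (GrLC.deg0 𝒜) (GrLC.comp 𝒜 𝒜 ((j : ℤ) + 1)) := by
  induction j with
  | zero => rw [Nat.cast_zero, zero_add]
  | succ j ih =>
    refine ih.trans ?_
    have := hilbert_mono R 𝒜 hpos h0 hstd h1 ((j : ℤ) + 1)
    rwa [Nat.cast_add, Nat.cast_one]

theorem s18643 (R : Type u) [CommRing R] [LocCoh.IsGorensteinRing R] (𝒜 : ℤ → AddSubgroup R)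
    [GradedRing 𝒜] (hpos : ∀ n : ℤ, n < 0 → 𝒜 n = ⊥) (h0 : IsField (GrLC.deg0 𝒜))
    (m : HomogeneousIdeal 𝒜) (hm : GrLC.IsStarLocal 𝒜 m)
    (hmsp : m.toIdeal = Ideal.span (⋃ n ∈ Set.Ioi (0 : ℤ), (𝒜 n : Set R)))
    (hstd : Ideal.span (⋃ n ∈ Set.Ioi (0 : ℤ), (𝒜 n : Set R)) =
      Ideal.span ((𝒜 1 : AddSubgroup R) : Set R))
    (hR1 : 2 ≤ Module.finrank (GrLC.deg0 𝒜) (GrLC.comp 𝒜 𝒜 1)) (n : ℕ)
    (hn : ringKrullDim R = n) (h1 : 1 ≤ n) (I : GrLC.StarInjRes 𝒜 𝒜) (a : ℤ)
    (ha : GrLC.endDeg (I.Hgr m n) = ((a : WithTop ℤ) : WithBot (WithTop ℤ))) (q : ℕ) (hq : 0 < q)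
    (R' : Type u) [CommRing R'] (𝒜' : ℤ → AddSubgroup R') [GradedRing 𝒜'] (φ : R' →+* R)
    (hφ : Function.Injective φ) (hdeg : ∀ j : ℤ, (𝒜' j).map (φ : R' →+ R) = 𝒜 (j * q)) :
    LocCoh.IsGorensteinRing R' ↔ (q : ℤ) ∣ a := by
  classical
  constructor
  · intro hG'
    by_contra hndvd
    haveI : IsNoetherianRing R' := isNoetherianRing_ver 𝒜 q 𝒜' φ hφ hdeg
    haveI hCM : LocCoh.IsCohenMacaulayRing R :=
      { isCohenMacaulayLocalRing_localization := fun p _ =>
          haveI := LocCoh.IsGorensteinRing.isGorensteinLocalRing_localization (A := R) p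
          Groth.Agent.S0341.result _ }
    have hpos' := hpos_ver 𝒜 hpos q hq 𝒜' φ hφ hdeg
    have h0' := isField_deg0_ver 𝒜 h0 q 𝒜' φ hφ hdeg
    have hq' : (q : ℤ) ≠ 0 := by exact_mod_cast hq.ne'
    have hq'' : (0 : ℤ) < q := by exact_mod_cast hq
    set ρ := a % (q : ℤ) with hρ
    have hρ0 : 0 ≤ ρ := Int.emod_nonneg a hq'
    have hρq : ρ < q := Int.emod_lt_of_pos a hq''
    have hρa : (q : ℤ) ∣ a - ρ := Int.dvd_self_sub_of_emod_eq rfl
    have hρne : ρ ≠ 0 := fun h => hndvd (Int.dvd_of_emod_eq_zero h)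
    haveI hmax' : (irr 𝒜').toIdeal.IsMaximal := isMaximal_irr 𝒜' hpos' h0'
    have hB := Groth.Agent.Lib.Helper20.GrVT.s18655 R 𝒜 hpos h0 m hm hmsp hstd n hn I a ha q hq
      R' 𝒜' φ hφ hdeg (irr 𝒜') (irr_toIdeal 𝒜') ρ hρ0 hρq hρa
    -- the Hilbert function at `ρ` is at least two
    have h1dim : 1 ≤ ringKrullDim R := by
      rw [hn]
      exact_mod_cast h1
    have h2 : 2 ≤ Module.finrank (GrLC.deg0 𝒜) (GrLC.comp 𝒜 𝒜 ρ) := by
      obtain ⟨j, hj⟩ := Int.eq_ofNat_of_zero_le (show 0 ≤ ρ - 1 by omega)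
      have hρj : ρ = (j : ℤ) + 1 := by omega
      rw [hρj]
      exact hR1.trans (hilb_ge_one R 𝒜 hpos h0 hstd h1dim j)
    -- the type of a Gorenstein local ring is at most one
    haveI hGA : LocCoh.IsGorensteinLocalRing (Localization.AtPrime (irr 𝒜').toIdeal) :=
      hG'.isGorensteinLocalRing_localization (irr 𝒜').toIdeal
    have e1 := Groth.Agent.Lib.helper11.ExtLocEquiv.extCongrRight
      (ModuleCat.of (Localization.AtPrime (irr 𝒜').toIdeal)
        (Localization.AtPrime (irr 𝒜').toIdeal ⧸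
          maximalIdeal (Localization.AtPrime (irr 𝒜').toIdeal))) n
      (localizedSelfEquiv (irr 𝒜').toIdeal).toModuleIso
    have hb1 : GrLC.bassNum (irr 𝒜').toIdeal R' n =
        Module.length (Localization.AtPrime (irr 𝒜').toIdeal)
        (Ext (ModuleCat.of (Localization.AtPrime (irr 𝒜').toIdeal)
          (Localization.AtPrime (irr 𝒜').toIdeal ⧸
            maximalIdeal (Localization.AtPrime (irr 𝒜').toIdeal)))
          (ModuleCat.of (Localization.AtPrime (irr 𝒜').toIdeal)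
            (Localization.AtPrime (irr 𝒜').toIdeal)) n) :=
      e1.length_eq
    obtain ⟨d, hd⟩ := Groth.Agent.Lib.Helper21.DepthKit.exists_nat_supportDim
      (A := Localization.AtPrime (irr 𝒜').toIdeal) (M := Localization.AtPrime (irr 𝒜').toIdeal)
    rw [Module.supportDim_self_eq_ringKrullDim] at hd
    have hle : GrLC.bassNum (irr 𝒜').toIdeal R' n ≤ 1 := by
      rw [hb1]
      by_cases hnd : n = d
      · rw [hnd]
        exact (Groth.Agent.Lib.helper11.GorHull.gor_type_one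
          hGA.exists_hasInjectiveDimensionLT d hd).le
      · haveI := Groth.Agent.Lib.helper11.GorHull.gor_vanishing
          hGA.exists_hasInjectiveDimensionLT d hd
          (ModuleCat.of (Localization.AtPrime (irr 𝒜').toIdeal)
            (Localization.AtPrime (irr 𝒜').toIdeal ⧸
              maximalIdeal (Localization.AtPrime (irr 𝒜').toIdeal)))
          (by
            have := length_residue (R := Localization.AtPrime (irr 𝒜').toIdeal)
            change Module.length (Localization.AtPrime (irr 𝒜').toIdeal)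
              (Localization.AtPrime (irr 𝒜').toIdeal ⧸
                maximalIdeal (Localization.AtPrime (irr 𝒜').toIdeal)) ≠ ⊤
            rw [this]
            exact ENat.one_ne_top) n hnd
        rw [Module.length_eq_zero]
        exact zero_le_one
    rw [hB] at hle
    have : Module.finrank (GrLC.deg0 𝒜) (GrLC.comp 𝒜 𝒜 ρ) ≤ 1 := by exact_mod_cast hle
    omega
  · intro hdvd
    exact Groth.Agent.Lib.Helper20.GrVG.s18641 R 𝒜 hpos h0 m hm hmsp n hn I a ha q hq R' 𝒜' φ hφ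
      hdeg hdvd

end Groth.Agent.Lib.Helper20.GrVU
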