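import Mathlib
import Groth.Prelude.Def_GrLC
import Groth.Prelude.Def_GrSeg
import Groth.Agent.Lib.Helper20.GrW3
import Groth.Agent.Lib.Helper20.GrW4
import Groth.Agent.Lib.Helper20.GrConv
import Groth.Agent.Lib.helper11.SG8

/-!
# `(H^n_m(M))^* ≅ Hom_R(M, K_R)` for graded rings over a field
-/

set_option autoImplicit false
set_option linter.unusedSectionVars false
set_option linter.unusedVariables false

namespace Groth.Agent.Lib.Helper20.GrW

open DirectSum TensorProduct Groth.Agent.Lib.Helper20.GrKit Groth.Agent.Lib.Helper20.GrLES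
  Groth.Agent.Lib.Helper20.GrConv

universe u

section Conv

variable {ι : Type} [AddCommGroup ι] [DecidableEq ι] {R : Type u} [CommRing R]
  {σ : Type u} [SetLike σ R] [AddSubgroupClass σ R] (𝒜 : ι → σ) [GradedRing 𝒜]
  {M : Type u} [AddCommGroup M] [Module R M] {τ : Type u} [SetLike τ M] [AddSubgroupClass τ M]
  {ℳ : ι → τ} [DirectSum.Decomposition ℳ] [SetLike.GradedSMul 𝒜 ℳ]

/-- conversion of *injective resolutions to the `AddSubgroup`-graded setting, with a prescribed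
family of pieces of the module -/
noncomputable def resAS (E : GrLC.StarInjRes 𝒜 ℳ) (ℳ' : ι → AddSubgroup M)
    [DirectSum.Decomposition ℳ'] [SetLike.GradedSMul (asGr 𝒜) ℳ']
    (h : ∀ g x, x ∈ ℳ' g → x ∈ ℳ g) : GrLC.StarInjRes (asGr 𝒜) ℳ' where
  X n := toAS 𝒜 (E.X n)
  d := E.d
  ε := E.ε
  d_grHom := E.d_grHom
  ε_grHom := fun g x hx => E.ε_grHom g x (h g x hx)
  ε_injective := E.ε_injective
  exact_zero := E.exact_zero
  exact_succ := E.exact_succ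
  starInj n := by
    have := E.starInj n
    intro A B f hf hinj g hg
    exact this (ofAS 𝒜 A) (ofAS 𝒜 B) f hf hinj g hg

end Conv

/-- The graded dual of the top local cohomology of a finite graded module is `Hom_R(M, K_R)`. -/
theorem s19759 (k : Type u) [Field k] (R : Type u) [CommRing R] [Algebra k R]
    (𝒜 : ℤ → Submodule k R) [GradedAlgebra 𝒜] [Algebra.FiniteType k R] (mR : HomogeneousIdeal 𝒜)
    (n : ℕ) (hn : ringKrullDim R = n) (I : GrLC.StarInjRes 𝒜 𝒜) [Module k (I.H mR n)]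
    [IsScalarTower k R (I.H mR n)] [DirectSum.Decomposition (I.Hgr mR n)] (K : Type u)
    [AddCommGroup K] [Module R K] [Module k K] [IsScalarTower k R K] (𝒦 : ℤ → AddSubgroup K)
    [DirectSum.Decomposition 𝒦] [SetLike.GradedSMul 𝒜 𝒦] (βK : K →ₗ[k] I.H mR n →ₗ[k] k)
    (hK : GrSeg.IsGDual R (I.Hgr mR n) 𝒦 βK) (M : Type u) [AddCommGroup M] [Module R M]
    (ℳ : ℤ → AddSubgroup M) [DirectSum.Decomposition ℳ]
    [SetLike.GradedSMul 𝒜 ℳ] [Module.Finite R M] (EM : GrLC.StarInjRes 𝒜 ℳ)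
    [Module k (EM.H mR n)] [IsScalarTower k R (EM.H mR n)]
    [DirectSum.Decomposition (EM.Hgr mR n)] (D : Type u) [AddCommGroup D] [Module R D]
    [Module k D] [IsScalarTower k R D] (𝒟 : ℤ → AddSubgroup D) [DirectSum.Decomposition 𝒟]
    (βD : D →ₗ[k] EM.H mR n →ₗ[k] k)
    (hD : GrSeg.IsGDual R (EM.Hgr mR n) 𝒟 βD) :
    ∃ ε : D ≃ₗ[R] (M →ₗ[R] K),
      GrLC.IsGrHom 𝒟 (fun d : ℤ => (GrLC.homDeg 𝒜 ℳ 𝒦 d).toAddSubgroup) ε.toLinearMap := by
  classical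
  haveI : IsNoetherianRing R := Algebra.FiniteType.isNoetherianRing k R
  haveI : SetLike.GradedSMul (asGr 𝒜) ℳ :=
    ⟨fun {i j} {r m} hr hm => SetLike.GradedSMul.smul_mem (A := 𝒜) hr hm⟩
  haveI : SetLike.GradedSMul (asGr 𝒜) 𝒦 :=
    ⟨fun {i j} {r m} hr hm => SetLike.GradedSMul.smul_mem (A := 𝒜) hr hm⟩
  let I' : GrLC.StarInjRes (asGr 𝒜) (asGr 𝒜) := resAS 𝒜 I (asGr 𝒜) (fun g x hx => hx)
  let EM' : GrLC.StarInjRes (asGr 𝒜) ℳ := resAS 𝒜 EM ℳ (fun g x hx => hx)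
  have hvan : ∀ (N : Type u) [AddCommGroup N] [Module R N] [Module.Finite R N]
      (𝒩 : ℤ → AddSubgroup N) [DirectSum.Decomposition 𝒩] [SetLike.GradedSMul (asGr 𝒜) 𝒩]
      (E : GrLC.StarInjRes (asGr 𝒜) 𝒩), Subsingleton (E.H (idealToAS 𝒜 mR) (n + 1)) := by
    intro N _ _ _ 𝒩 _ _ E
    exact Groth.Agent.Lib.helper11.SG8.subsingleton_H_of_dim_lt (asGr 𝒜) (idealToAS 𝒜 mR) n hn
      N 𝒩 E (n + 1) (Nat.lt_succ_self n)
  obtain ⟨ε, hε⟩ := duality (asGr 𝒜) (I.Hgr mR n) 𝒦 βK hK ℳ (EM.Hgr mR n) 𝒟 βD hD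
    (muL I' EM' (idealToAS 𝒜 mR) n)
    (fun e g x h hx hh => mu_mem I' EM' (idealToAS 𝒜 mR) n hx hh)
    (muT_bijective I' (idealToAS 𝒜 mR) n hvan M ℳ EM')
  exact ⟨ε, fun d δ hδ => hε d δ hδ⟩

end Groth.Agent.Lib.Helper20.GrW
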