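import Mathlib

/-! Graded pieces of an algebra generated by finitely many homogeneous elements are spanned by
monomials; application to `B_{n+l} = B_n B_l`. -/

set_option autoImplicit false

namespace Groth.Agent.Lib.Helper20.GradedMon

open Finset

variable {R A : Type*} [CommRing R] [CommRing A] [Algebra R A] (𝒜 : ℕ → Submodule R A)
  [GradedAlgebra 𝒜]
variable {σ : Type*} [Fintype σ]

/-- monomial in generators -/
def mon (g : σ → A) (s : σ → ℕ) : A := ∏ i, g i ^ s i

theorem mon_mem (g : σ → A) (w : σ → ℕ) (hg : ∀ i, g i ∈ 𝒜 (w i)) (s : σ → ℕ) :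
    mon g s ∈ 𝒜 (∑ i, s i * w i) := by
  have := SetLike.prod_pow_mem_graded 𝒜 w g (F := Finset.univ) s (fun i _ => hg i)
  simpa [mon, smul_eq_mul] using this

theorem mon_mul (g : σ → A) (s t : σ → ℕ) : mon g (s + t) = mon g s * mon g t := by
  unfold mon
  rw [← Finset.prod_mul_distrib]
  apply Finset.prod_congr rfl
  intro i _
  rw [Pi.add_apply, pow_add]

theorem span_mon_eq_top (g : σ → A) (hgen : Algebra.adjoin R (Set.range g) = ⊤) :
    Submodule.span R (Set.range (mon g)) = ⊤ := by
  rw [eq_top_iff]
  intro r _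
  have hr : r ∈ Algebra.adjoin R (Set.range g) := by rw [hgen]; trivial
  rw [Algebra.adjoin_range_eq_range_aeval] at hr
  obtain ⟨p, rfl⟩ := hr
  show MvPolynomial.aeval g p ∈ _
  rw [MvPolynomial.aeval_def, MvPolynomial.eval₂_eq']
  apply Submodule.sum_mem
  intro d _
  rw [← Algebra.smul_def]
  apply Submodule.smul_mem
  apply Submodule.subset_span
  exact ⟨fun i => d i, rfl⟩

theorem graded_eq_span (g : σ → A) (w : σ → ℕ) (hg : ∀ i, g i ∈ 𝒜 (w i))
    (hgen : Algebra.adjoin R (Set.range g) = ⊤) (N : ℕ) :
    𝒜 N = Submodule.span R {x | ∃ s : σ → ℕ, ∑ i, s i * w i = N ∧ x = mon g s} := by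
  apply le_antisymm
  · intro r hr
    have h1 : GradedAlgebra.proj 𝒜 N r = r := by
      rw [GradedAlgebra.proj_apply]
      exact DirectSum.decompose_of_mem_same 𝒜 hr
    have h2 : r ∈ Submodule.span R (Set.range (mon g)) := by
      rw [span_mon_eq_top g hgen]; trivial
    have h3 : GradedAlgebra.proj 𝒜 N r ∈
        (Submodule.span R (Set.range (mon g))).map (GradedAlgebra.proj 𝒜 N) :=
      Submodule.mem_map_of_mem h2
    rw [h1, Submodule.map_span] at h3
    refine Submodule.span_le.mpr ?_ h3
    rintro _ ⟨_, ⟨s, rfl⟩, rfl⟩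
    by_cases hs : ∑ i, s i * w i = N
    · have : GradedAlgebra.proj 𝒜 N (mon g s) = mon g s := by
        rw [GradedAlgebra.proj_apply]
        exact DirectSum.decompose_of_mem_same 𝒜 (hs ▸ mon_mem 𝒜 g w hg s)
      rw [this]
      exact Submodule.subset_span ⟨s, hs, rfl⟩
    · have : GradedAlgebra.proj 𝒜 N (mon g s) = 0 := by
        rw [GradedAlgebra.proj_apply]
        exact DirectSum.decompose_of_mem_ne 𝒜 (mon_mem 𝒜 g w hg s) hs
      rw [this]
      exact Submodule.zero_mem _
  · apply Submodule.span_le.mpr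
    rintro _ ⟨s, hs, rfl⟩
    exact hs ▸ mon_mem 𝒜 g w hg s

theorem grade_add_lcm {s : ℕ} (f : Fin s → A) (deg : Fin s → ℕ) (hdeg : ∀ i, 0 < deg i)
    (hf : ∀ i, f i ∈ 𝒜 (deg i))
    (hgen : Algebra.adjoin R (Set.range f) = ⊤) (n : ℕ)
    (hn : (s - 1) * (Finset.univ.lcm deg - 1) ≤ n) :
    𝒜 (n + Finset.univ.lcm deg) = 𝒜 n * 𝒜 (Finset.univ.lcm deg) := by
  set l := Finset.univ.lcm deg with hl
  apply le_antisymm
  · rw [graded_eq_span 𝒜 f deg hf hgen]
    apply Submodule.span_le.mpr
    rintro _ ⟨α, hα, rfl⟩
    have hdvd : ∀ i, deg i ∣ l := fun i => Finset.dvd_lcm (Finset.mem_univ i)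
    have hlpos : 0 < l := by
      rw [hl]
      apply Nat.pos_of_ne_zero
      rw [Ne, Finset.lcm_eq_zero_iff]
      simp only [Finset.mem_univ, true_and, not_exists]
      intro i; exact (hdeg i).ne'
    -- some exponent is large
    have hex : ∃ i, l / deg i ≤ α i := by
      by_contra hcon
      push_neg at hcon
      have hbound : ∀ i, α i * deg i ≤ l - 1 := by
        intro i
        obtain ⟨q, hq⟩ := hdvd i
        have hqpos : 0 < q := by
          rcases Nat.eq_zero_or_pos q with h | h
          · rw [h, mul_zero] at hq; omega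
          · exact h
        have h1 : l / deg i = q := by rw [hq]; exact Nat.mul_div_cancel_left q (hdeg i)
        have h2 := hcon i
        rw [h1] at h2
        have h3 : α i * deg i ≤ (q - 1) * deg i := Nat.mul_le_mul_right _ (by omega)
        have h4 : (q - 1) * deg i + deg i = l := by
          rw [hq]
          have : q - 1 + 1 = q := by omega
          calc (q - 1) * deg i + deg i = (q - 1 + 1) * deg i := by ring
            _ = deg i * q := by rw [this]; ring
        have := hdeg i
        omega
      have hsum : ∑ i, α i * deg i ≤ s * (l - 1) := by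
        calc ∑ i, α i * deg i ≤ ∑ _i : Fin s, (l - 1) := Finset.sum_le_sum (fun i _ => hbound i)
          _ = s * (l - 1) := by simp
      rw [hα] at hsum
      rcases Nat.eq_zero_or_pos s with hs0 | hs0
      · rw [hs0] at hsum; omega
      · have : s * (l - 1) = (s - 1) * (l - 1) + (l - 1) := by
          have : s = (s - 1) + 1 := by omega
          conv_lhs => rw [this]
          ring
        omega
    obtain ⟨i, hi⟩ := hex
    obtain ⟨q, hq⟩ := hdvd i
    have h1 : l / deg i = q := by rw [hq]; exact Nat.mul_div_cancel_left q (hdeg i)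
    rw [h1] at hi
    have hsplit : α = (α - Pi.single i q) + Pi.single i q := by
      funext j
      by_cases hj : j = i
      · subst hj; simp; omega
      · simp [Pi.single_apply, hj]
    have hdeg2 : ∑ j, (Pi.single i q : Fin s → ℕ) j * deg j = l := by
      rw [Finset.sum_eq_single i]
      · rw [Pi.single_eq_same, hq, mul_comm]
      · intro j _ hj; rw [Pi.single_eq_of_ne hj, zero_mul]
      · intro h; exact absurd (Finset.mem_univ i) h
    have hdeg1 : ∑ j, (α - Pi.single i q : Fin s → ℕ) j * deg j = n := by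
      have h2 : ∑ j, α j * deg j = ∑ j, (α - Pi.single i q : Fin s → ℕ) j * deg j +
          ∑ j, (Pi.single i q : Fin s → ℕ) j * deg j := by
        rw [← Finset.sum_add_distrib]
        apply Finset.sum_congr rfl
        intro j _
        rw [← Nat.add_mul]
        congr 1
        exact congrFun hsplit j
      rw [hα, hdeg2] at h2
      omega
    rw [hsplit, mon_mul]
    apply Submodule.mul_mem_mul
    · exact hdeg1 ▸ mon_mem 𝒜 f deg hf _
    · exact hdeg2 ▸ mon_mem 𝒜 f deg hf _
  · rw [Submodule.mul_le]
    intro x hx y hy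
    exact SetLike.mul_mem_graded hx hy

end Groth.Agent.Lib.Helper20.GradedMon
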