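import Mathlib

/-! Graded modules generated in bounded degrees over a standard graded algebra. -/

namespace Groth.Agent.Lib.Helper20.GradedSpan

variable {R : Type*} [CommRing R] {A : Type*} [CommRing A] [Algebra R A]
    (𝒜 : ℕ → Submodule R A) [GradedAlgebra 𝒜]

theorem grade_zero_mul (b : ℕ) : 𝒜 0 * 𝒜 b = 𝒜 b := by
  apply le_antisymm
  · rw [Submodule.mul_le]
    intro x hx y hy
    have := SetLike.mul_mem_graded hx hy
    rwa [zero_add] at this
  · intro y hy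
    have h1 : (1 : A) ∈ 𝒜 0 := SetLike.one_mem_graded 𝒜
    have := Submodule.mul_mem_mul h1 hy
    rwa [one_mul] at this

theorem grade_add (hA : ∀ n : ℕ, 𝒜 (n + 1) = 𝒜 1 * 𝒜 n) (a b : ℕ) :
    𝒜 (a + b) = 𝒜 a * 𝒜 b := by
  induction a with
  | zero => rw [Nat.zero_add, grade_zero_mul]
  | succ a ih =>
    rw [Nat.add_right_comm, hA, ih, ← mul_assoc, ← hA]

variable {M : Type*} [AddCommGroup M] [Module R M] [Module A M] [IsScalarTower R A M]
    (ℳ : ℕ → Submodule R M) [DirectSum.Decomposition ℳ] [SetLike.GradedSMul 𝒜 ℳ]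

theorem proj_smul_mem (hA : ∀ n : ℕ, 𝒜 (n + 1) = 𝒜 1 * 𝒜 n) (n k d : ℕ) (hd : d ≤ n)
    (y : M) (hy : y ∈ ℳ d) (a : A) :
    ((DirectSum.decompose ℳ (a • y) (n + k) : ℳ (n + k)) : M) ∈ 𝒜 k • ℳ n := by
  classical
  have ha := DirectSum.sum_support_decompose 𝒜 a
  have e : a • y = ∑ i ∈ (DirectSum.decompose 𝒜 a).support,
      ((DirectSum.decompose 𝒜 a i : 𝒜 i) : A) • y := by
    rw [← Finset.sum_smul, ha]
  rw [e, DirectSum.decompose_sum, DFinsupp.finsetSum_apply, AddSubmonoidClass.coe_finsetSum]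
  apply Submodule.sum_mem
  intro i _
  have hmem : ((DirectSum.decompose 𝒜 a i : 𝒜 i) : A) • y ∈ ℳ (i + d) := by
    have := SetLike.GradedSMul.smul_mem (A := 𝒜) (B := ℳ)
      (SetLike.coe_mem (DirectSum.decompose 𝒜 a i)) hy
    rwa [vadd_eq_add] at this
  by_cases hi : i + d = n + k
  · rw [DirectSum.decompose_of_mem_same ℳ (hi ▸ hmem)]
    have hi' : i = k + (n - d) := by omega
    have h1 : ((DirectSum.decompose 𝒜 a i : 𝒜 i) : A) ∈ 𝒜 k * 𝒜 (n - d) := by
      rw [← grade_add 𝒜 hA, ← hi']; exact SetLike.coe_mem _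
    refine Submodule.mul_induction_on h1 ?_ ?_
    · intro b hb c hc
      rw [mul_smul]
      apply Submodule.smul_mem_smul hb
      have := SetLike.GradedSMul.smul_mem (A := 𝒜) (B := ℳ) hc hy
      rwa [vadd_eq_add, Nat.sub_add_cancel hd] at this
    · intro u v hu hv
      rw [add_smul]; exact Submodule.add_mem _ hu hv
  · rw [DirectSum.decompose_of_mem_ne ℳ hmem hi]
    exact Submodule.zero_mem _

theorem grade_eq_smul (hA : ∀ n : ℕ, 𝒜 (n + 1) = 𝒜 1 * 𝒜 n)
    (s : Set M) (n₀ : ℕ) (hs : ∀ y ∈ s, ∃ d : ℕ, d ≤ n₀ ∧ y ∈ ℳ d)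
    (hspan : Submodule.span A s = ⊤) (n k : ℕ) (hn : n₀ ≤ n) :
    ℳ (n + k) = 𝒜 k • ℳ n := by
  apply le_antisymm
  · intro x hx
    have hx' : x ∈ Submodule.span A s := by rw [hspan]; trivial
    have key : ∀ z ∈ Submodule.span A s, ∀ a : A,
        ((DirectSum.decompose ℳ (a • z) (n + k) : ℳ (n + k)) : M) ∈ 𝒜 k • ℳ n := by
      intro z hz
      induction hz using Submodule.span_induction with
      | mem y hy =>
        obtain ⟨d, hd, hyd⟩ := hs y hy
        exact proj_smul_mem 𝒜 ℳ hA n k d (le_trans hd hn) y hyd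
      | zero =>
        intro a
        rw [smul_zero, DirectSum.decompose_zero]
        simp
      | add u v _ _ hu hv =>
        intro a
        rw [smul_add, DirectSum.decompose_add, DirectSum.add_apply, Submodule.coe_add]
        exact Submodule.add_mem _ (hu a) (hv a)
      | smul b u _ hu =>
        intro a
        rw [← mul_smul]
        exact hu (a * b)
    have h2 := key x hx' 1
    rw [one_smul, DirectSum.decompose_of_mem_same ℳ hx] at h2
    exact h2
  · rw [Submodule.smul_le]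
    intro a ha y hy
    have := SetLike.GradedSMul.smul_mem (A := 𝒜) (B := ℳ) ha hy
    rw [vadd_eq_add, Nat.add_comm] at this
    exact this

end Groth.Agent.Lib.Helper20.GradedSpan

namespace Groth.Agent.Lib.Helper20.GradedSpan

variable {R : Type*} [CommRing R] {A : Type*} [CommRing A] [Algebra R A]
    (𝒜 : ℕ → Submodule R A) [GradedAlgebra 𝒜]

theorem veronese_finite (hA : ∀ n : ℕ, 𝒜 (n + 1) = 𝒜 1 * 𝒜 n)
    {S : Type*} [CommRing S] [Algebra R S] [Algebra A S] [IsScalarTower R A S]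
    (𝒮 : ℕ → Submodule R S) [GradedAlgebra 𝒮]
    (hAS : ∀ (i : ℕ) (a : A), a ∈ 𝒜 i → algebraMap A S a ∈ 𝒮 i)
    (s : Set S) (n₀ : ℕ)
    (hs : ∀ y ∈ s, ∃ d : ℕ, d ≤ n₀ ∧ y ∈ 𝒮 d) (hspan : Submodule.span A s = ⊤) :
    (∀ n k : ℕ, n₀ ≤ n → 𝒮 (n + k) = 𝒮 k * 𝒮 n) ∧
      (∀ d : ℕ, n₀ ≤ d → ∀ m : ℕ, 0 < m → 𝒮 (m * d) = 𝒮 d ^ m) := by
  haveI : SetLike.GradedSMul 𝒜 𝒮 := ⟨fun {i j a x} ha hx => by
    rw [Algebra.smul_def, vadd_eq_add]; exact SetLike.mul_mem_graded (hAS i a ha) hx⟩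
  have h1 : ∀ n k : ℕ, n₀ ≤ n → 𝒮 (n + k) = 𝒮 k * 𝒮 n := by
    intro n k hn
    apply le_antisymm
    · rw [grade_eq_smul 𝒜 𝒮 hA s n₀ hs hspan n k hn, Submodule.smul_le]
      intro a ha x hx
      rw [Algebra.smul_def]
      exact Submodule.mul_mem_mul (hAS k a ha) hx
    · rw [Submodule.mul_le]
      intro x hx y hy
      have := SetLike.mul_mem_graded hx hy
      rwa [Nat.add_comm] at this
  refine ⟨h1, ?_⟩
  intro d hd m hm
  induction m, hm using Nat.le_induction with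
  | base => rw [pow_one, Nat.one_mul]
  | succ m hm ih =>
    rw [pow_succ, ← ih, Nat.succ_mul, Nat.add_comm, h1 d (m * d) hd]

end Groth.Agent.Lib.Helper20.GradedSpan
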