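import Mathlib
import Groth.Agent.Lib.Helper12.GrpCohLimA

/-! # Averaging homotopy: `H^{n+1}(G, A) = 0` if `|G|` acts bijectively on `A`. -/

namespace Groth.Agent.Lib.Helper20.GrpCohAvg

open CategoryTheory groupCohomology

universe u

section contract
variable {α : Type*} {n : ℕ} (op : α → α → α)

lemma contractNth_last_snoc (y : Fin (n + 1) → α) (g : α) :
    Fin.contractNth (Fin.last (n + 1)) op (Fin.snoc y g) = y := by
  funext k
  rw [Fin.contractNth_apply_of_lt _ _ _ _ (by simp [k.is_lt]), Fin.snoc_castSucc]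

lemma contractNth_last (y : Fin (n + 1) → α) :
    Fin.contractNth (Fin.last n) op y = Fin.init y := by
  funext k
  rw [Fin.contractNth_apply_of_lt _ _ _ _ (by simp [k.is_lt])]
  rfl

lemma contractNth_castSucc_last_snoc (y : Fin (n + 1) → α) (g : α) :
    Fin.contractNth (Fin.last n).castSucc op (Fin.snoc y g) =
      Fin.snoc (Fin.init y) (op (y (Fin.last n)) g) := by
  funext k
  refine Fin.lastCases ?_ (fun i => ?_) k
  · rw [Fin.contractNth_apply_of_eq _ _ _ _ (by simp), Fin.snoc_last, Fin.snoc_castSucc,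
      Fin.succ_last, Fin.snoc_last]
  · rw [Fin.contractNth_apply_of_lt _ _ _ _ (by simp [i.is_lt]), Fin.snoc_castSucc,
      Fin.snoc_castSucc]
    rfl

lemma contractNth_castSucc_castSucc_snoc (i : Fin n) (y : Fin (n + 1) → α) (g : α) :
    Fin.contractNth i.castSucc.castSucc op (Fin.snoc y g) =
      Fin.snoc (Fin.contractNth i.castSucc op y) g := by
  funext k
  refine Fin.lastCases ?_ (fun j => ?_) k
  · rw [Fin.contractNth_apply_of_gt _ _ _ _ (by simp [i.is_lt]), Fin.succ_last, Fin.snoc_last,
      Fin.snoc_last]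
  · rw [Fin.snoc_castSucc]
    rcases lt_trichotomy (j : ℕ) (i : ℕ) with h | h | h
    · rw [Fin.contractNth_apply_of_lt _ _ _ _ (by simpa using h),
        Fin.contractNth_apply_of_lt _ _ _ _ (by simpa using h), Fin.snoc_castSucc]
    · rw [Fin.contractNth_apply_of_eq _ _ _ _ (by simpa using h),
        Fin.contractNth_apply_of_eq _ _ _ _ (by simpa using h), Fin.snoc_castSucc,
        Fin.succ_castSucc, Fin.snoc_castSucc]
    · rw [Fin.contractNth_apply_of_gt _ _ _ _ (by simpa using h),
        Fin.contractNth_apply_of_gt _ _ _ _ (by simpa using h), Fin.succ_castSucc,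
        Fin.snoc_castSucc]

lemma succ_snoc (y : Fin (n + 1) → α) (g : α) :
    (fun i : Fin (n + 1) => (Fin.snoc y g : Fin (n + 2) → α) i.succ) =
      Fin.snoc (fun i : Fin n => y i.succ) g := by
  funext k
  refine Fin.lastCases ?_ (fun j => ?_) k
  · rw [Fin.succ_last, Fin.snoc_last, Fin.snoc_last]
  · rw [Fin.succ_castSucc, Fin.snoc_castSucc, Fin.snoc_castSucc]

lemma snoc_zero' (y : Fin (n + 1) → α) (g : α) :
    (Fin.snoc y g : Fin (n + 2) → α) 0 = y 0 := by
  rw [← Fin.castSucc_zero, Fin.snoc_castSucc]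

end contract

variable {k G : Type u} [CommRing k] [Group G] [Fintype G]

/-- The averaged cochain. -/
def avg (A : Rep.{u} k G) (n : ℕ) (f : (Fin (n + 1) → G) → A) : (Fin n → G) → A :=
  fun x => ∑ g : G, f (Fin.snoc x g)

theorem d_avg (A : Rep.{u} k G) (n : ℕ) (f : (Fin (n + 1) → G) → A)
    (hf : inhomogeneousCochains.d A (n + 1) f = 0) (y : Fin (n + 1) → G) :
    inhomogeneousCochains.d A n (avg A n f) y =
      ((-1 : k) ^ (n + 1) * (Fintype.card G : k)) • f y := by
  have h0 : ∑ g : G, inhomogeneousCochains.d A (n + 1) f (Fin.snoc y g) = 0 :=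
    Finset.sum_eq_zero fun g _ => by rw [hf]; rfl
  simp only [inhomogeneousCochains.d_hom_apply] at h0 ⊢
  simp only [Fin.sum_univ_castSucc (n := n + 1), Fin.sum_univ_castSucc (n := n)] at h0
  simp only [contractNth_last_snoc, contractNth_castSucc_last_snoc,
    contractNth_castSucc_castSucc_snoc, succ_snoc, snoc_zero'] at h0
  rw [Fin.sum_univ_castSucc (n := n), contractNth_last]
  simp only [Finset.sum_add_distrib] at h0
  have e1 : ∑ g : G, A.ρ (y 0) (f (Fin.snoc (fun i : Fin n => y i.succ) g)) =
      A.ρ (y 0) (avg A n f fun i => y i.succ) := by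
    simp only [avg, map_sum]
  have e2 : ∑ g : G, ∑ i : Fin n, (-1 : k) ^ ((i.castSucc.castSucc : Fin (n + 2)) + 1 : ℕ) •
      f (Fin.snoc (Fin.contractNth i.castSucc (· * ·) y) g) =
      ∑ i : Fin n, (-1 : k) ^ ((i.castSucc : Fin (n + 1)) + 1 : ℕ) •
        avg A n f (Fin.contractNth i.castSucc (· * ·) y) := by
    rw [Finset.sum_comm]
    refine Finset.sum_congr rfl fun i _ => ?_
    simp only [avg, Finset.smul_sum, Fin.val_castSucc]
  have e3 : ∑ g : G, (-1 : k) ^ (((Fin.last n).castSucc : Fin (n + 2)) + 1 : ℕ) •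
      f (Fin.snoc (Fin.init y) (y (Fin.last n) * g)) =
      (-1 : k) ^ ((Fin.last n : Fin (n + 1)) + 1 : ℕ) • avg A n f (Fin.init y) := by
    simp only [avg, Finset.smul_sum, Fin.val_castSucc]
    exact Fintype.sum_equiv (Equiv.mulLeft (y (Fin.last n))) _ _ fun g => rfl
  have e4 : ∑ g : G, (-1 : k) ^ ((Fin.last (n + 1) : Fin (n + 2)) + 1 : ℕ) • f y =
      ((-1 : k) ^ (n + 2) * (Fintype.card G : k)) • f y := by
    rw [Finset.sum_const, Finset.card_univ, Fin.val_last, mul_smul, ← Nat.cast_smul_eq_nsmul k,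
      smul_comm]
  rw [e1, e2, e3, e4] at h0
  rw [← add_assoc] at h0
  have h1 := eq_neg_of_add_eq_zero_left h0
  rw [h1, ← neg_smul]
  congr 1
  ring

theorem subsingleton_of_card_bijective (A : Rep.{u} k G)
    (hA : Function.Bijective (fun a : A => (Fintype.card G : k) • a)) (n : ℕ) :
    Subsingleton (groupCohomology A (n + 1)) := by
  rw [Groth.Agent.Lib.Helper12.GrpCohLim.subsingleton_iff]
  intro f hf
  have hex : ∀ x : Fin n → G, ∃ a : A, (Fintype.card G : k) • a = (-1 : k) ^ (n + 1) • avg A n f x :=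
    fun x => hA.2 _
  choose g hg using hex
  refine ⟨g, ?_⟩
  funext y
  apply hA.1
  show (Fintype.card G : k) • inhomogeneousCochains.d A n g y = (Fintype.card G : k) • f y
  have h1 : (Fintype.card G : k) • g = (-1 : k) ^ (n + 1) • avg A n f := by
    funext x
    exact hg x
  have h2 : (Fintype.card G : k) • inhomogeneousCochains.d A n g =
      inhomogeneousCochains.d A n ((Fintype.card G : k) • g) :=
    ((inhomogeneousCochains.d A n).hom.map_smul _ _).symm
  have h3 : inhomogeneousCochains.d A n ((-1 : k) ^ (n + 1) • avg A n f) =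
      (-1 : k) ^ (n + 1) • inhomogeneousCochains.d A n (avg A n f) :=
    (inhomogeneousCochains.d A n).hom.map_smul _ _
  have h4 := congrFun (h2.trans ((congrArg _ h1).trans h3)) y
  rw [Pi.smul_apply, Pi.smul_apply, d_avg A n f hf y] at h4
  rw [h4, smul_smul]
  congr 1
  rw [← mul_assoc, ← pow_add, ← two_mul, pow_mul]
  simp

theorem subsingleton_of_card_nsmul_bijective (A : Rep.{u} k G)
    (hA : Function.Bijective (fun a : A => (Fintype.card G) • a)) (n : ℕ) :
    Subsingleton (groupCohomology A (n + 1)) := by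
  apply subsingleton_of_card_bijective
  have : (fun a : A => (Fintype.card G : k) • a) = fun a : A => (Fintype.card G) • a := by
    funext a
    exact Nat.cast_smul_eq_nsmul k _ a
  rw [this]
  exact hA

section les

open CategoryTheory.Limits

omit [Fintype G]

theorem kernel_desc {A B : Rep.{u} k G} (φ : A ⟶ B) :
    Function.Injective (kernel.ι φ).hom ∧
      (∀ x, φ.hom x = 0 → ∃ y, (kernel.ι φ).hom y = x) ∧
      ∀ y, φ.hom ((kernel.ι φ).hom y) = 0 := by
  set X : ShortComplex (Rep k G) := ShortComplex.kernelSequence φ with hXdef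
  have hexact : X.Exact := ShortComplex.kernelSequence_exact φ
  have hrange : LinearMap.range X.f.hom.toLinearMap = LinearMap.ker X.g.hom.toLinearMap :=
    (hexact.map (forget₂ (Rep k G) (ModuleCat k))).moduleCat_range_eq_ker
  refine ⟨(Rep.mono_iff_injective (kernel.ι φ)).1 inferInstance, ?_, ?_⟩
  · intro x hx
    have : x ∈ LinearMap.ker X.g.hom.toLinearMap := hx
    rw [← hrange] at this
    exact this
  · intro y
    have : X.f.hom y ∈ LinearMap.range X.f.hom.toLinearMap := ⟨y, rfl⟩
    rw [hrange] at this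
    exact this

theorem bijective_of_vanishing {A B : Rep.{u} k G} (φ : A ⟶ B)
    (hφ : Function.Surjective φ.hom)
    (hvan : ∀ m : ℕ, Subsingleton (groupCohomology (kernel φ) (m + 1))) (m : ℕ) :
    Function.Bijective ((groupCohomology.functor k G (m + 1)).map φ).hom := by
  set X : ShortComplex (Rep k G) := ShortComplex.kernelSequence φ with hXdef
  have hepi : Epi φ := (Rep.epi_iff_surjective φ).2 hφ
  have hX : X.ShortExact :=
    { exact := ShortComplex.kernelSequence_exact φ
      mono_f := by rw [hXdef]; infer_instance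
      epi_g := hepi }
  have hz1 : IsZero (groupCohomology X.X₁ (m + 1)) :=
    @ModuleCat.isZero_of_subsingleton _ _ _ (hvan m)
  have hz2 : IsZero (groupCohomology X.X₁ (m + 2)) :=
    @ModuleCat.isZero_of_subsingleton _ _ _ (hvan (m + 1))
  constructor
  · have hex := mapShortComplex₂_exact hX (m + 1)
    have hmono : Mono (mapShortComplex₂ X (m + 1)).g :=
      hex.mono_g (hz1.eq_of_src _ _)
    exact (ModuleCat.mono_iff_injective _).1 hmono
  · have hex := mapShortComplex₃_exact hX (rfl : (m + 1) + 1 = m + 2)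
    have hepi' : Epi (mapShortComplex₃ hX (rfl : (m + 1) + 1 = m + 2)).f :=
      hex.epi_f (hz2.eq_of_tgt _ _)
    exact (ModuleCat.epi_iff_surjective _).1 hepi'

end les

end Groth.Agent.Lib.Helper20.GrpCohAvg
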