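import Mathlib

/-! `2 ∣ det` of the universal symmetric matrix with even diagonal, odd size. -/

set_option autoImplicit false

namespace Groth.Agent.Lib.Helper20.HalfDisc

open MvPolynomial

theorem two_dvd_det (n : ℕ) (hn : Odd n) :
    (2 : MvPolynomial (Sym2 (Fin n)) ℤ) ∣
      (Matrix.of fun i j : Fin n =>
        if i = j then 2 * MvPolynomial.X (R := ℤ) (σ := Sym2 (Fin n)) (Sym2.mk i j)
        else MvPolynomial.X (R := ℤ) (σ := Sym2 (Fin n)) (Sym2.mk i j)).det := by
  set S := MvPolynomial (Sym2 (Fin n)) ℤ with hS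
  set M : Matrix (Fin n) (Fin n) S := Matrix.of fun i j : Fin n =>
        if i = j then 2 * MvPolynomial.X (R := ℤ) (σ := Sym2 (Fin n)) (Sym2.mk i j)
        else MvPolynomial.X (R := ℤ) (σ := Sym2 (Fin n)) (Sym2.mk i j) with hM
  let M' : Matrix (Fin n) (Fin n) S := Matrix.of fun i j : Fin n =>
        if i = j then 0 else if i < j then MvPolynomial.X (Sym2.mk i j)
        else -MvPolynomial.X (Sym2.mk i j)
  have hskew : M'.transpose = -M' := by
    ext i j
    simp only [Matrix.transpose_apply, M', Matrix.of_apply, Matrix.neg_apply]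
    by_cases hij : i = j
    · subst hij; simp
    · have hji : j ≠ i := Ne.symm hij
      rw [if_neg hji, if_neg hij, Sym2.eq_swap]
      rcases lt_or_gt_of_ne hij with h | h
      · rw [if_pos h, if_neg (not_lt.mpr h.le)]
      · rw [if_neg (not_lt.mpr h.le), if_pos h, neg_neg]
  have hdet0 : M'.det = 0 := by
    have h1 : M'.det = -M'.det := by
      conv_lhs => rw [← Matrix.det_transpose, hskew, Matrix.det_neg, Fintype.card_fin,
        hn.neg_one_pow, neg_one_mul]
    have h2 : (2 : S) * M'.det = 0 := by linear_combination h1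
    rcases mul_eq_zero.mp h2 with h | h
    · exact absurd h (by norm_num)
    · exact h
  -- reduce mod 2
  let φ := Ideal.Quotient.mk (Ideal.span {(2 : S)})
  have h2 : φ 2 = 0 := Ideal.Quotient.eq_zero_iff_mem.mpr (Ideal.subset_span rfl)
  have hmap : φ.mapMatrix M = φ.mapMatrix M' := by
    ext i j
    simp only [RingHom.mapMatrix_apply, Matrix.map_apply, M, M', Matrix.of_apply]
    by_cases hij : i = j
    · rw [if_pos hij, if_pos hij, map_mul, h2, zero_mul, map_zero]
    · rw [if_neg hij, if_neg hij]
      by_cases hlt : i < j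
      · rw [if_pos hlt]
      · rw [if_neg hlt, map_neg, eq_neg_iff_add_eq_zero, ← two_mul, ← map_ofNat φ 2, ← map_mul]
        exact Ideal.Quotient.eq_zero_iff_mem.mpr
          (Ideal.mul_mem_right _ _ (Ideal.subset_span rfl))
  have h3 : φ M.det = 0 := by
    rw [RingHom.map_det, hmap, ← RingHom.map_det, hdet0, map_zero]
  have h4 := Ideal.Quotient.eq_zero_iff_mem.mp h3
  exact Ideal.mem_span_singleton.mp h4

end Groth.Agent.Lib.Helper20.HalfDisc
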