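import Mathlib

/-! Rationality of a power series via windows of coefficients. -/

set_option autoImplicit false

namespace Groth.Agent.Lib.Helper20.Hankel

universe u

open Polynomial

variable {L : Type u} [Field L]

/-- the polynomial `∑ c_j X^(N-j)` -/
noncomputable def Qc (N : ℕ) (c : Fin (N + 1) → L) : L[X] :=
  ∑ j : Fin (N + 1), C (c j) * X ^ (N - (j : ℕ))

theorem coeff_Qc (N : ℕ) (c : Fin (N + 1) → L) (j0 : Fin (N + 1)) :
    (Qc N c).coeff (N - (j0 : ℕ)) = c j0 := by
  unfold Qc
  rw [finset_sum_coeff, Finset.sum_eq_single j0]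
  · rw [coeff_C_mul_X_pow, if_pos rfl]
  · intro j _ hj
    rw [coeff_C_mul_X_pow, if_neg]
    intro h
    apply hj
    have h1 := j.2
    have h2 := j0.2
    exact Fin.ext (by omega)
  · intro h; exact absurd (Finset.mem_univ j0) h

theorem coeff_mul_Qc (f : PowerSeries L) (N : ℕ) (c : Fin (N + 1) → L) (i : ℕ) :
    PowerSeries.coeff (i + N) (f * ((Qc N c : L[X]) : PowerSeries L)) =
      ∑ j : Fin (N + 1), c j * PowerSeries.coeff (i + (j : ℕ)) f := by
  unfold Qc
  have e : ((∑ j : Fin (N + 1), C (c j) * X ^ (N - (j : ℕ)) : L[X]) : PowerSeries L) =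
      ∑ j : Fin (N + 1), PowerSeries.C (c j) * PowerSeries.X ^ (N - (j : ℕ)) := by
    rw [← Polynomial.coeToPowerSeries.ringHom_apply, map_sum]
    apply Finset.sum_congr rfl
    intro j _
    simp
  rw [e, Finset.mul_sum, map_sum]
  apply Finset.sum_congr rfl
  intro j _
  have h1 := j.2
  rw [mul_left_comm, PowerSeries.coeff_C_mul, PowerSeries.coeff_mul_X_pow', if_pos (by omega)]
  have e2 : i + N - (N - (j : ℕ)) = i + (j : ℕ) := by omega
  rw [e2]

theorem eq_Qc (Q : L[X]) (N : ℕ) (hN : Q.natDegree ≤ N) :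
    Q = Qc N (fun j => Q.coeff (N - (j : ℕ))) := by
  ext m
  by_cases hm : m ≤ N
  · have := coeff_Qc N (fun j => Q.coeff (N - (j : ℕ))) ⟨N - m, by omega⟩
    simp only at this
    have e : N - (N - m) = m := by omega
    rw [e] at this
    exact this.symm
  · push_neg at hm
    rw [coeff_eq_zero_of_natDegree_lt (lt_of_le_of_lt hN hm)]
    unfold Qc
    rw [finset_sum_coeff]
    symm
    apply Finset.sum_eq_zero
    intro j _
    rw [coeff_C_mul_X_pow, if_neg]
    omega

theorem main (f : PowerSeries L) :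
    (∃ P Q : Polynomial L, Q ≠ 0 ∧ f * (Q : PowerSeries L) = (P : PowerSeries L)) ↔
      ∃ M N : ℕ, Submodule.span L
          {v : Fin (N + 1) → L | ∃ i : ℕ, M ≤ i ∧
            v = fun j : Fin (N + 1) => PowerSeries.coeff (i + (j : ℕ)) f} ≠ ⊤ := by
  classical
  constructor
  · rintro ⟨P, Q, hQ, h⟩
    refine ⟨P.natDegree + 1, Q.natDegree, ?_⟩
    set N := Q.natDegree with hN
    set c : Fin (N + 1) → L := fun j => Q.coeff (N - (j : ℕ)) with hc
    have hQc : Q = Qc N c := eq_Qc Q N le_rfl
    let φ : (Fin (N + 1) → L) →ₗ[L] L := ∑ j : Fin (N + 1), c j • LinearMap.proj j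
    have hφ : ∀ v, φ v = ∑ j, c j * v j := by
      intro v
      simp [φ, LinearMap.sum_apply]
    intro htop
    have hle : Submodule.span L
          {v : Fin (N + 1) → L | ∃ i : ℕ, P.natDegree + 1 ≤ i ∧
            v = fun j : Fin (N + 1) => PowerSeries.coeff (i + (j : ℕ)) f} ≤ LinearMap.ker φ := by
      rw [Submodule.span_le]
      rintro v ⟨i, hi, rfl⟩
      rw [SetLike.mem_coe, LinearMap.mem_ker, hφ]
      rw [← coeff_mul_Qc f N c i, ← hQc, h, Polynomial.coeff_coe]
      exact coeff_eq_zero_of_natDegree_lt (by omega)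
    rw [htop, top_le_iff] at hle
    apply hQ
    rw [hQc]
    have hc0 : ∀ j, c j = 0 := by
      intro j
      have h1 : φ (Pi.single j 1) = 0 := by
        have : (Pi.single j 1 : Fin (N + 1) → L) ∈ LinearMap.ker φ := by rw [hle]; trivial
        exact this
      rw [hφ, Finset.sum_eq_single j] at h1
      · simpa using h1
      · intro b _ hb; rw [Pi.single_eq_of_ne hb, mul_zero]
      · intro h; exact absurd (Finset.mem_univ j) h
    unfold Qc
    apply Finset.sum_eq_zero
    intro j _
    rw [hc0 j, map_zero, zero_mul]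
  · rintro ⟨M, N, hne⟩
    obtain ⟨φ, hφ0, hφ⟩ := Submodule.exists_le_ker_of_lt_top _ (lt_top_iff_ne_top.mpr hne)
    set c : Fin (N + 1) → L := fun j => φ (fun k => if j = k then 1 else 0) with hc
    have hφv : ∀ v, φ v = ∑ j, c j * v j := by
      intro v
      rw [LinearMap.pi_apply_eq_sum_univ φ v]
      apply Finset.sum_congr rfl
      intro j _
      rw [smul_eq_mul, mul_comm]
    refine ⟨PowerSeries.trunc (M + N) (f * ((Qc N c : L[X]) : PowerSeries L)), Qc N c, ?_, ?_⟩
    · intro h0
      apply hφ0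
      apply LinearMap.ext
      intro v
      rw [hφv, LinearMap.zero_apply]
      apply Finset.sum_eq_zero
      intro j _
      have := coeff_Qc N c j
      rw [h0, coeff_zero] at this
      rw [← this, zero_mul]
    · ext m
      rw [Polynomial.coeff_coe, PowerSeries.coeff_trunc]
      split_ifs with hm
      · rfl
      · push_neg at hm
        obtain ⟨i, rfl⟩ : ∃ i, m = i + N := ⟨m - N, by omega⟩
        rw [coeff_mul_Qc, ← hφv]
        have hmem : (fun j : Fin (N + 1) => PowerSeries.coeff (i + (j : ℕ)) f) ∈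
            LinearMap.ker φ := hφ (Submodule.subset_span ⟨i, by omega, rfl⟩)
        exact hmem

end Groth.Agent.Lib.Helper20.Hankel
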