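import Mathlib
import Groth.Agent.Lib.Helper20.HilbDim2
import Groth.Agent.Lib.Helper7.HilbertSection

/-!
# The Hilbert function of a hypersurface section by a nonzerodivisor
-/

set_option autoImplicit false
set_option linter.unusedSectionVars false
set_option linter.unusedVariables false
set_option linter.style.haveILetI false

universe u v

namespace Groth.Agent.Lib.Helper20.HilbCI

open MvPolynomial Groth.Agent.Lib.Helper20.HilbDim

attribute [local instance] MvPolynomial.gradedAlgebra

variable {k : Type u} [Field k] {σ : Type v}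

theorem piece_inf' {I : Ideal (MvPolynomial σ k)} {f : MvPolynomial σ k} {d m : ℕ}
    (hf : f ∈ homogeneousSubmodule σ k d) (hreg : ∀ g, f * g ∈ I → g ∈ I) (hdm : d ≤ m) :
    (Submodule.restrictScalars k I ⊓ homogeneousSubmodule σ k m) ⊓
        Submodule.map (LinearMap.mulLeft k f) (homogeneousSubmodule σ k (m - d)) =
      Submodule.map (LinearMap.mulLeft k f)
        (Submodule.restrictScalars k I ⊓ homogeneousSubmodule σ k (m - d)) := by
  apply le_antisymm
  · rintro x ⟨⟨hx1, hx2⟩, g, hg, rfl⟩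
    refine ⟨g, ⟨?_, hg⟩, rfl⟩
    have : f * g ∈ I := hx1
    exact hreg g this
  · rintro _ ⟨g, ⟨hg1, hg2⟩, rfl⟩
    refine ⟨⟨?_, ?_⟩, g, hg2, rfl⟩
    · exact Ideal.mul_mem_left _ _ hg1
    · have := SetLike.GradedMul.mul_mem hf hg2
      rwa [Nat.add_sub_cancel' hdm] at this

variable [Finite σ]

theorem finrank_piece_sup' {I : Ideal (MvPolynomial σ k)}
    (hI : I.IsHomogeneous (homogeneousSubmodule σ k)) {f : MvPolynomial σ k} {d m : ℕ}
    (hf : f ∈ homogeneousSubmodule σ k d) (hf0 : f ≠ 0) (hreg : ∀ g, f * g ∈ I → g ∈ I)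
    (hdm : d ≤ m) :
    Module.finrank k ↥(Submodule.restrictScalars k (I ⊔ Ideal.span {f}) ⊓
        homogeneousSubmodule σ k m) +
      Module.finrank k ↥(Submodule.restrictScalars k I ⊓ homogeneousSubmodule σ k (m - d)) =
    Module.finrank k ↥(Submodule.restrictScalars k I ⊓ homogeneousSubmodule σ k m) +
      Module.finrank k ↥(homogeneousSubmodule σ k (m - d)) := by
  have hinj : Function.Injective (LinearMap.mulLeft k f) := by
    intro x y hxy
    exact mul_left_cancel₀ hf0 hxy
  have e1 : ∀ W : Submodule k (MvPolynomial σ k),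
      Module.finrank k ↥(Submodule.map (LinearMap.mulLeft k f) W) = Module.finrank k ↥W :=
    fun W => (LinearEquiv.finrank_eq (Submodule.equivMapOfInjective _ hinj W)).symm
  rw [Groth.Agent.Lib.Helper7.HilbSec.piece_sup hI hf hdm,
    ← e1 (Submodule.restrictScalars k I ⊓ homogeneousSubmodule σ k (m - d)),
    ← piece_inf' hf hreg hdm, ← e1 (homogeneousSubmodule σ k (m - d))]
  exact Submodule.finrank_sup_add_finrank_inf_eq _ _

/-- the Hilbert function of `I + (f)` for `f` a homogeneous nonzerodivisor mod `I`. -/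
theorem hf_sup {I : Ideal (MvPolynomial σ k)}
    (hI : I.IsHomogeneous (homogeneousSubmodule σ k)) {f : MvPolynomial σ k} {d m : ℕ}
    (hfd : f ∈ homogeneousSubmodule σ k d) (hf0 : f ≠ 0) (hreg : ∀ g, f * g ∈ I → g ∈ I)
    (hdm : d ≤ m) :
    (HilbDim.hf (I ⊔ Ideal.span {f}) m : ℚ) = (HilbDim.hf I m : ℚ) - (HilbDim.hf I (m - d) : ℚ) := by
  have key := finrank_piece_sup' hI hfd hf0 hreg hdm
  have key' : (Module.finrank k ↥(Submodule.restrictScalars k (I ⊔ Ideal.span {f}) ⊓
      homogeneousSubmodule σ k m) : ℚ) +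
      Module.finrank k ↥(Submodule.restrictScalars k I ⊓ homogeneousSubmodule σ k (m - d)) =
      Module.finrank k ↥(Submodule.restrictScalars k I ⊓ homogeneousSubmodule σ k m) +
      Module.finrank k ↥(homogeneousSubmodule σ k (m - d)) := by exact_mod_cast key
  unfold HilbDim.hf
  rw [Nat.cast_sub (finrank_inf_le _ m), Nat.cast_sub (finrank_inf_le _ m),
    Nat.cast_sub (finrank_inf_le _ (m - d))]
  linarith

end Groth.Agent.Lib.Helper20.HilbCI
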