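import Mathlib
import Groth.Agent.Lib.Helper20.HilbDim3

/-!
# Homogeneous elements: regularity can be tested after localizing at the irrelevant ideal
-/

set_option autoImplicit false
set_option linter.unusedSectionVars false
set_option linter.unusedVariables false
set_option linter.style.haveILetI false

universe u

namespace Groth.Agent.Lib.Helper20.HilbCI

open MvPolynomial Groth.Agent.Lib.Helper20.HilbDim Groth.Agent.Lib.Helper20.SegQuot

attribute [local instance] MvPolynomial.gradedAlgebra

variable {k : Type u} [Field k] {σ : Type} [Finite σ]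

/-- a proper homogeneous ideal lies in the ideal of the variables -/
theorem le_idealOfVars {C : Ideal (MvPolynomial σ k)}
    (hC : C.IsHomogeneous (homogeneousSubmodule σ k)) (hne : C ≠ ⊤) : C ≤ idealOfVars σ k := by
  have := le_irrIdeal (GrSyz.stdGr k σ) C (isHomogeneous_stdGr hC) (stdGr_neg k σ)
    (stdGr_zero k σ) hne
  rwa [irrIdeal_stdGr] at this

/-- the colon ideal `(J : g)` of a homogeneous ideal by a homogeneous element is homogeneous -/
theorem isHomogeneous_colon {J : Ideal (MvPolynomial σ k)}
    (hJ : J.IsHomogeneous (homogeneousSubmodule σ k)) {g : MvPolynomial σ k} {e : ℕ}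
    (hg : g ∈ homogeneousSubmodule σ k e) :
    (J.colon {g}).IsHomogeneous (homogeneousSubmodule σ k) := by
  intro a s hs
  rw [Submodule.mem_colon_singleton] at hs ⊢
  have h1 := hJ (a + e) hs
  rw [smul_eq_mul, DirectSum.coe_decompose_mul_add_of_right_mem _ hg] at h1
  exact h1

theorem mem_of_local_regular_homogeneous {J : Ideal (MvPolynomial σ k)}
    (hJ : J.IsHomogeneous (homogeneousSubmodule σ k)) {f : MvPolynomial σ k}
    (q : Ideal (MvPolynomial σ k)) [q.IsPrime] (hq : idealOfVars σ k ≤ q)
    (hloc : ∀ y : Localization.AtPrime q,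
      algebraMap (MvPolynomial σ k) (Localization.AtPrime q) f * y ∈
        J.map (algebraMap (MvPolynomial σ k) (Localization.AtPrime q)) →
      y ∈ J.map (algebraMap (MvPolynomial σ k) (Localization.AtPrime q)))
    {g : MvPolynomial σ k} {e : ℕ} (hg : g ∈ homogeneousSubmodule σ k e) (hfg : f * g ∈ J) :
    g ∈ J := by
  by_contra hgJ
  have hCne : J.colon {g} ≠ ⊤ := by
    intro h
    have : (1 : MvPolynomial σ k) ∈ J.colon {g} := by rw [h]; trivial
    rw [Submodule.mem_colon_singleton, one_smul] at this
    exact hgJ this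
  have hCle : J.colon {g} ≤ q := (le_idealOfVars (isHomogeneous_colon hJ hg) hCne).trans hq
  have h1 : algebraMap (MvPolynomial σ k) (Localization.AtPrime q) g ∈
      J.map (algebraMap (MvPolynomial σ k) (Localization.AtPrime q)) := by
    apply hloc
    rw [← map_mul]
    exact Ideal.mem_map_of_mem _ hfg
  rw [IsLocalization.mem_map_algebraMap_iff q.primeCompl] at h1
  obtain ⟨⟨x, s⟩, hxs⟩ := h1
  rw [← map_mul, IsLocalization.eq_iff_exists q.primeCompl] at hxs
  obtain ⟨c, hc⟩ := hxs
  have h2 : ((c : MvPolynomial σ k) * (s : MvPolynomial σ k)) ∈ J.colon {g} := by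
    rw [Submodule.mem_colon_singleton, smul_eq_mul]
    have : (c : MvPolynomial σ k) * (s : MvPolynomial σ k) * g = c * (g * s) := by ring
    rw [this, hc]
    exact J.mul_mem_left _ x.2
  exact (c * s).2 (hCle h2)

theorem mem_of_local_regular {J : Ideal (MvPolynomial σ k)}
    (hJ : J.IsHomogeneous (homogeneousSubmodule σ k)) {f : MvPolynomial σ k} {d : ℕ}
    (hf : f ∈ homogeneousSubmodule σ k d)
    (q : Ideal (MvPolynomial σ k)) [q.IsPrime] (hq : idealOfVars σ k ≤ q)
    (hloc : ∀ y : Localization.AtPrime q,
      algebraMap (MvPolynomial σ k) (Localization.AtPrime q) f * y ∈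
        J.map (algebraMap (MvPolynomial σ k) (Localization.AtPrime q)) →
      y ∈ J.map (algebraMap (MvPolynomial σ k) (Localization.AtPrime q)))
    (g : MvPolynomial σ k) (hfg : f * g ∈ J) : g ∈ J := by
  classical
  rw [← DirectSum.sum_support_decompose (homogeneousSubmodule σ k) g]
  refine Ideal.sum_mem _ fun j _ => ?_
  refine mem_of_local_regular_homogeneous hJ q hq hloc (SetLike.coe_mem _) ?_
  have h1 := hJ (d + j) hfg
  rwa [DirectSum.coe_decompose_mul_add_of_left_mem _ hf] at h1

end Groth.Agent.Lib.Helper20.HilbCI
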