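import Mathlib
import Groth.Agent.Lib.Helper20.HilbCI3
import Groth.Agent.Lib.Helper20.HilbCI1
import Groth.Agent.Lib.Helper2.LenAt

/-!
# Graded prime filtrations of `k[X] ⧸ J`: one step
-/

set_option autoImplicit false
set_option linter.unusedSectionVars false
set_option linter.unusedVariables false
set_option linter.style.haveILetI false

universe u

namespace Groth.Agent.Lib.Helper20.HilbAssoc

open MvPolynomial Groth.Agent.Lib.Helper20.HilbDim Groth.Agent.Lib.Helper20.HilbCI
  Groth.Agent.Lib.Helper2.LenAt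

attribute [local instance] MvPolynomial.gradedAlgebra

variable {k : Type u} [Field k] {σ : Type} [Finite σ]

/-- a proper homogeneous ideal has a homogeneous element whose colon ideal is prime -/
theorem exists_colon_prime {J : Ideal (MvPolynomial σ k)}
    (hJ : J.IsHomogeneous (homogeneousSubmodule σ k)) (hne : J ≠ ⊤) :
    ∃ (a : ℕ) (g : MvPolynomial σ k), g ∈ homogeneousSubmodule σ k a ∧ g ∉ J ∧
      (J.colon {g}).IsPrime := by
  classical
  let S : Set (Ideal (MvPolynomial σ k)) :=
    {K | ∃ (a : ℕ) (g : MvPolynomial σ k), g ∈ homogeneousSubmodule σ k a ∧ g ∉ J ∧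
      K = J.colon {g}}
  have hS : S.Nonempty := by
    refine ⟨J.colon {1}, 0, 1, ?_, ?_, rfl⟩
    · exact SetLike.GradedOne.one_mem
    · rwa [← Ideal.eq_top_iff_one]
  obtain ⟨K, ⟨a, g, hga, hgJ, rfl⟩, hKmax⟩ :=
    set_has_maximal_iff_noetherian.2 (inferInstance : IsNoetherian (MvPolynomial σ k)
      (MvPolynomial σ k)) S hS
  refine ⟨a, g, hga, hgJ, ?_⟩
  have hKhom := isHomogeneous_colon hJ hga
  have hKne : J.colon {g} ≠ ⊤ := by
    intro h
    have : (1 : MvPolynomial σ k) ∈ J.colon {g} := by rw [h]; trivial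
    rw [Submodule.mem_colon_singleton, one_smul] at this
    exact hgJ this
  refine hKhom.isPrime_of_homogeneous_mem_or_mem hKne ?_
  intro x y hx hy hxy
  by_contra hcon
  push_neg at hcon
  obtain ⟨hxK, hyK⟩ := hcon
  obtain ⟨b, hxb⟩ := hx
  have hxg : x * g ∉ J := by
    intro h
    apply hxK
    rw [Submodule.mem_colon_singleton, smul_eq_mul]
    exact h
  have hxga : x * g ∈ homogeneousSubmodule σ k (b + a) := SetLike.GradedMul.mul_mem hxb hga
  have hle : J.colon {g} ≤ J.colon {x * g} := by
    intro s hs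
    rw [Submodule.mem_colon_singleton, smul_eq_mul] at hs ⊢
    have : s * (x * g) = x * (s * g) := by ring
    rw [this]
    exact J.mul_mem_left _ hs
  have hmem : J.colon {x * g} ∈ S := ⟨b + a, x * g, hxga, hxg, rfl⟩
  have hnlt := hKmax _ hmem
  have heq : J.colon {x * g} ≤ J.colon {g} := by
    by_contra h
    exact hnlt (lt_of_le_not_ge hle h)
  apply hyK
  apply heq
  rw [Submodule.mem_colon_singleton, smul_eq_mul]
  rw [Submodule.mem_colon_singleton, smul_eq_mul] at hxy
  have : y * (x * g) = x * y * g := by ring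
  rw [this]
  exact hxy

/-- intersecting `J_m` with `g · R_{m-a}` -/
theorem piece_inf_colon {J : Ideal (MvPolynomial σ k)} {g : MvPolynomial σ k} {a m : ℕ}
    (hg : g ∈ homogeneousSubmodule σ k a) (ham : a ≤ m) :
    (Submodule.restrictScalars k J ⊓ homogeneousSubmodule σ k m) ⊓
        Submodule.map (LinearMap.mulLeft k g) (homogeneousSubmodule σ k (m - a)) =
      Submodule.map (LinearMap.mulLeft k g)
        (Submodule.restrictScalars k (J.colon {g}) ⊓ homogeneousSubmodule σ k (m - a)) := by
  apply le_antisymm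
  · rintro x ⟨⟨hx1, hx2⟩, h, hh, rfl⟩
    refine ⟨h, ⟨?_, hh⟩, rfl⟩
    have h1 : g * h ∈ J := hx1
    change h ∈ J.colon {g}
    rw [Submodule.mem_colon_singleton, smul_eq_mul, mul_comm]
    exact h1
  · rintro _ ⟨h, ⟨hh1, hh2⟩, rfl⟩
    refine ⟨⟨?_, ?_⟩, h, hh2, rfl⟩
    · have h1 : h ∈ J.colon {g} := hh1
      rw [Submodule.mem_colon_singleton, smul_eq_mul, mul_comm] at h1
      exact h1
    · have := SetLike.GradedMul.mul_mem hg hh2
      rwa [Nat.add_sub_cancel' ham] at this

/-- the Hilbert function along one step of the filtration, degrees `≥ a` -/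
theorem hf_colon_of_le {J : Ideal (MvPolynomial σ k)}
    (hJ : J.IsHomogeneous (homogeneousSubmodule σ k)) {g : MvPolynomial σ k} {a m : ℕ}
    (hg : g ∈ homogeneousSubmodule σ k a) (hg0 : g ≠ 0) (ham : a ≤ m) :
    HilbDim.hf J m = HilbDim.hf (J ⊔ Ideal.span {g}) m + HilbDim.hf (J.colon {g}) (m - a) := by
  have hinj : Function.Injective (LinearMap.mulLeft k g) := by
    intro x y hxy
    exact mul_left_cancel₀ hg0 hxy
  have e1 : ∀ W : Submodule k (MvPolynomial σ k),
      Module.finrank k ↥(Submodule.map (LinearMap.mulLeft k g) W) = Module.finrank k ↥W :=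
    fun W => (LinearEquiv.finrank_eq (Submodule.equivMapOfInjective _ hinj W)).symm
  have key : Module.finrank k ↥(Submodule.restrictScalars k (J ⊔ Ideal.span {g}) ⊓
        homogeneousSubmodule σ k m) +
      Module.finrank k ↥(Submodule.restrictScalars k (J.colon {g}) ⊓
        homogeneousSubmodule σ k (m - a)) =
    Module.finrank k ↥(Submodule.restrictScalars k J ⊓ homogeneousSubmodule σ k m) +
      Module.finrank k ↥(homogeneousSubmodule σ k (m - a)) := by
    rw [Groth.Agent.Lib.Helper7.HilbSec.piece_sup hJ hg ham,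
      ← e1 (Submodule.restrictScalars k (J.colon {g}) ⊓ homogeneousSubmodule σ k (m - a)),
      ← piece_inf_colon hg ham, ← e1 (homogeneousSubmodule σ k (m - a))]
    exact Submodule.finrank_sup_add_finrank_inf_eq _ _
  have h1 := finrank_inf_le J m
  have h2 := finrank_inf_le (J ⊔ Ideal.span {g}) m
  have h3 := finrank_inf_le (J.colon {g}) (m - a)
  have h4 : Module.finrank k ↥(Submodule.restrictScalars k J ⊓ homogeneousSubmodule σ k m) ≤
      Module.finrank k ↥(Submodule.restrictScalars k (J ⊔ Ideal.span {g}) ⊓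
        homogeneousSubmodule σ k m) := by
    apply Submodule.finrank_mono
    refine inf_le_inf ?_ le_rfl
    intro x hx
    exact Ideal.mem_sup_left hx
  unfold HilbDim.hf
  omega

/-- the Hilbert function along one step of the filtration, degrees `< a` -/
theorem hf_colon_of_lt {J : Ideal (MvPolynomial σ k)}
    (hJ : J.IsHomogeneous (homogeneousSubmodule σ k)) {g : MvPolynomial σ k} {a m : ℕ}
    (hg : g ∈ homogeneousSubmodule σ k a) (ham : m < a) :
    HilbDim.hf J m = HilbDim.hf (J ⊔ Ideal.span {g}) m := by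
  have : Submodule.restrictScalars k (J ⊔ Ideal.span {g}) ⊓ homogeneousSubmodule σ k m =
      Submodule.restrictScalars k J ⊓ homogeneousSubmodule σ k m := by
    apply le_antisymm
    · rintro x ⟨hx1, hx2⟩
      refine ⟨?_, hx2⟩
      rw [SetLike.mem_coe, Submodule.restrictScalars_mem] at hx1 ⊢
      obtain ⟨y, hy, z, hz, rfl⟩ := Submodule.mem_sup.1 hx1
      obtain ⟨c, rfl⟩ := Ideal.mem_span_singleton'.1 hz
      have hxm : (DirectSum.decompose (homogeneousSubmodule σ k) (y + c * g) m :
          MvPolynomial σ k) = y + c * g := DirectSum.decompose_of_mem_same _ hx2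
      rw [DirectSum.decompose_add, DirectSum.add_apply, Submodule.coe_add,
        DirectSum.coe_decompose_mul_of_right_mem_of_not_le _ hg (not_le.2 ham), add_zero] at hxm
      rw [← hxm]
      exact hJ m hy
    · refine inf_le_inf ?_ le_rfl
      intro x hx
      exact Ideal.mem_sup_left hx
  unfold HilbDim.hf
  rw [this]

section lenAt

variable (J : Ideal (MvPolynomial σ k)) (g : MvPolynomial σ k)

/-- multiplication by `g`: `R ⧸ (J : g) → R ⧸ J` -/
noncomputable def mulMap :
    (MvPolynomial σ k ⧸ J.colon {g}) →ₗ[MvPolynomial σ k] (MvPolynomial σ k ⧸ J) :=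
  Submodule.mapQ (J.colon {g}) J (LinearMap.mulRight (MvPolynomial σ k) g) (by
    intro x hx
    rw [Submodule.mem_comap, LinearMap.mulRight_apply]
    rw [Submodule.mem_colon_singleton, smul_eq_mul] at hx
    exact hx)

/-- the projection `R ⧸ J → R ⧸ (J + (g))` -/
noncomputable def projMap :
    (MvPolynomial σ k ⧸ J) →ₗ[MvPolynomial σ k] (MvPolynomial σ k ⧸ (J ⊔ Ideal.span {g})) :=
  Submodule.mapQ J (J ⊔ Ideal.span {g}) LinearMap.id (by
    intro x hx
    exact Ideal.mem_sup_left hx)

theorem mulMap_injective : Function.Injective (mulMap J g) := by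
  rw [← LinearMap.ker_eq_bot, eq_bot_iff]
  intro x hx
  obtain ⟨y, rfl⟩ := Submodule.Quotient.mk_surjective _ x
  rw [LinearMap.mem_ker, mulMap, Submodule.mapQ_apply, LinearMap.mulRight_apply,
    Submodule.Quotient.mk_eq_zero] at hx
  rw [Submodule.mem_bot, Submodule.Quotient.mk_eq_zero, Submodule.mem_colon_singleton, smul_eq_mul]
  exact hx

theorem projMap_surjective : Function.Surjective (projMap J g) := by
  intro x
  obtain ⟨y, rfl⟩ := Submodule.Quotient.mk_surjective _ x
  exact ⟨Submodule.Quotient.mk y, rfl⟩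

theorem exact_mulMap_projMap : Function.Exact (mulMap J g) (projMap J g) := by
  intro x
  obtain ⟨y, rfl⟩ := Submodule.Quotient.mk_surjective _ x
  constructor
  · intro h
    rw [projMap, Submodule.mapQ_apply, LinearMap.id_apply, Submodule.Quotient.mk_eq_zero] at h
    obtain ⟨j, hj, z, hz, rfl⟩ := Submodule.mem_sup.1 h
    obtain ⟨c, rfl⟩ := Ideal.mem_span_singleton'.1 hz
    refine ⟨Submodule.Quotient.mk c, ?_⟩
    rw [mulMap, Submodule.mapQ_apply, LinearMap.mulRight_apply]
    rw [Submodule.Quotient.eq]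
    have : c * g - (j + c * g) = -j := by ring
    rw [this]
    exact J.neg_mem hj
  · rintro ⟨z, hz⟩
    obtain ⟨c, rfl⟩ := Submodule.Quotient.mk_surjective _ z
    rw [← hz, mulMap, Submodule.mapQ_apply, LinearMap.mulRight_apply, projMap,
      Submodule.mapQ_apply, LinearMap.id_apply, Submodule.Quotient.mk_eq_zero]
    exact Ideal.mem_sup_right (Ideal.mul_mem_left _ _ (Ideal.mem_span_singleton_self g))

theorem lenAt_colon (q : PrimeSpectrum (MvPolynomial σ k)) :
    lenAt q (MvPolynomial σ k ⧸ J) =
      lenAt q (MvPolynomial σ k ⧸ J.colon {g}) +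
        lenAt q (MvPolynomial σ k ⧸ (J ⊔ Ideal.span {g})) :=
  lenAt_exact q (mulMap J g) (projMap J g) (mulMap_injective J g) (projMap_surjective J g)
    (exact_mulMap_projMap J g)

end lenAt

end Groth.Agent.Lib.Helper20.HilbAssoc
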