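import Mathlib
import Groth.Agent.Lib.Helper20.HilbCI1
import Groth.Agent.Lib.Helper26.HypHilb

/-!
# The Hilbert function of a homogeneous regular sequence: iteration
-/

set_option autoImplicit false
set_option linter.unusedSectionVars false
set_option linter.unusedVariables false
set_option linter.style.haveILetI false

universe u

namespace Groth.Agent.Lib.Helper20.HilbCI

open MvPolynomial Groth.Agent.Lib.Helper20.HilbDim Polynomial

attribute [local instance] MvPolynomial.gradedAlgebra

variable {k : Type u} [Field k] (n : ℕ)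

theorem hf_bot (m : ℕ) :
    HilbDim.hf (⊥ : Ideal (MvPolynomial (Fin (n + 1)) k)) m = (m + n).choose n := by
  unfold HilbDim.hf
  rw [Submodule.restrictScalars_bot, bot_inf_eq, finrank_bot, Nat.sub_zero,
    Groth.Agent.Lib.Helper26.HypHilb.finrank_H]

theorem isHomogeneous_ofList (l : List (MvPolynomial (Fin (n + 1)) k))
    (hl : ∀ x ∈ l, ∃ d, x ∈ homogeneousSubmodule (Fin (n + 1)) k d) :
    (Ideal.ofList l).IsHomogeneous (homogeneousSubmodule (Fin (n + 1)) k) := by
  apply Ideal.homogeneous_span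
  intro x hx
  exact hl x hx

theorem exists_poly (fs : List (MvPolynomial (Fin (n + 1)) k)) (ds : List ℕ)
    (hlen : fs.length = ds.length)
    (hd : ∀ i (h : i < ds.length), 1 ≤ ds[i])
    (hfd : ∀ i (h : i < fs.length),
      fs[i] ∈ homogeneousSubmodule (Fin (n + 1)) k (ds[i]'(hlen ▸ h)))
    (hf0 : ∀ i (h : i < fs.length), fs[i] ≠ 0)
    (hreg : ∀ i (h : i < fs.length), ∀ g,
      fs[i] * g ∈ Ideal.ofList (fs.take i) → g ∈ Ideal.ofList (fs.take i)) :
    ∀ i, i ≤ fs.length → i ≤ n → ∃ P : ℚ[X], P.natDegree = n - i ∧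
      P.leadingCoeff = ((ds.take i).prod : ℚ) / ((n - i).factorial : ℚ) ∧
      ∃ m₀ : ℕ, ∀ m : ℕ, m₀ ≤ m →
        (HilbDim.hf (Ideal.ofList (fs.take i)) m : ℚ) = P.eval (m : ℚ) := by
  intro i
  induction i with
  | zero =>
    intro _ _
    refine ⟨preHilbertPoly ℚ n 0, natDegree_preHilbertPoly ℚ n 0, ?_, 0, fun m _ => ?_⟩
    · rw [leadingCoeff_preHilbertPoly, List.take_zero, List.prod_nil, Nat.sub_zero]
      simp
    · rw [List.take_zero, Ideal.ofList_nil, hf_bot, preHilbertPoly_eq_choose_sub_add ℚ n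
        (Nat.zero_le m), Nat.sub_zero]
  | succ i ih =>
    intro hi hin
    obtain ⟨P, hPd, hPl, m₀, hm₀⟩ := ih (by omega) (by omega)
    have hi' : i < fs.length := hi
    have hid : i < ds.length := hlen ▸ hi'
    have hP1 : 1 ≤ P.natDegree := by omega
    have hdi : 0 < ds[i] := hd i hid
    obtain ⟨h1, h2⟩ := Groth.Agent.Lib.Helper7.HilbSec.natDegree_sub_taylor (P := P) hdi hP1
    have hJ : Ideal.ofList (fs.take (i + 1)) =
        Ideal.ofList (fs.take i) ⊔ Ideal.span {fs[i]} := by
      rw [List.take_succ_eq_append_getElem hi', Ideal.ofList_append, Ideal.ofList_singleton]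
    have hhom : (Ideal.ofList (fs.take i)).IsHomogeneous
        (homogeneousSubmodule (Fin (n + 1)) k) := by
      apply isHomogeneous_ofList
      intro x hx
      obtain ⟨j, hj, rfl⟩ := List.getElem_of_mem (List.mem_of_mem_take hx)
      exact ⟨_, hfd j hj⟩
    refine ⟨P - taylor (-((ds[i] : ℕ) : ℚ)) P, by omega, ?_, m₀ + ds[i], fun m hm => ?_⟩
    · rw [h2, hPl, hPd, List.take_succ_eq_append_getElem hid, List.prod_append, List.prod_singleton]
      have hfac : ((n - i).factorial : ℚ) = ((n - i : ℕ) : ℚ) * ((n - (i + 1)).factorial : ℚ) := by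
        have : n - i = (n - (i + 1)) + 1 := by omega
        rw [this, Nat.factorial_succ]
        push_cast
        ring
      have hne : ((n - (i + 1)).factorial : ℚ) ≠ 0 := by
        exact_mod_cast Nat.factorial_ne_zero _
      have hne2 : ((n - i : ℕ) : ℚ) ≠ 0 := by
        have : n - i ≠ 0 := by omega
        exact_mod_cast this
      rw [hfac]
      push_cast
      field_simp
    · have hdm : ds[i] ≤ m := by omega
      rw [hJ, hf_sup hhom (hfd i hi') (hf0 i hi') (hreg i hi') hdm, hm₀ m (by omega),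
        hm₀ (m - ds[i]) (by omega), Polynomial.eval_sub, taylor_eval, Nat.cast_sub hdm]
      ring_nf

theorem hf_eventually (fs : List (MvPolynomial (Fin (n + 1)) k)) (ds : List ℕ)
    (hlen : fs.length = ds.length) (hn : fs.length = n)
    (hd : ∀ i (h : i < ds.length), 1 ≤ ds[i])
    (hfd : ∀ i (h : i < fs.length),
      fs[i] ∈ homogeneousSubmodule (Fin (n + 1)) k (ds[i]'(hlen ▸ h)))
    (hf0 : ∀ i (h : i < fs.length), fs[i] ≠ 0)
    (hreg : ∀ i (h : i < fs.length), ∀ g,
      fs[i] * g ∈ Ideal.ofList (fs.take i) → g ∈ Ideal.ofList (fs.take i)) :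
    ∃ m₀ : ℕ, ∀ m : ℕ, m₀ ≤ m → HilbDim.hf (Ideal.ofList fs) m = ds.prod := by
  obtain ⟨P, hPd, hPl, m₀, hm₀⟩ := exists_poly n fs ds hlen hd hfd hf0 hreg n (by omega) le_rfl
  rw [Nat.sub_self] at hPd hPl
  have hPC : P = Polynomial.C ((ds.prod : ℕ) : ℚ) := by
    rw [eq_C_of_natDegree_eq_zero hPd]
    congr 1
    have : P.leadingCoeff = P.coeff 0 := by rw [leadingCoeff, hPd]
    rw [← this, hPl, List.take_of_length_le (by omega)]
    simp
  refine ⟨m₀, fun m hm => ?_⟩
  have := hm₀ m hm
  rw [List.take_of_length_le (by omega), hPC, Polynomial.eval_C] at this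
  exact_mod_cast this

end Groth.Agent.Lib.Helper20.HilbCI
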