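import Mathlib
import Groth.Agent.Lib.Helper20.HilbAssoc1
import Groth.Agent.Lib.Helper20.HilbDim6
import Groth.Agent.Lib.Helper20.HilbCI2

/-!
# Graded prime filtrations of `k[X] ⧸ J` and the chosen Hilbert polynomial
-/

set_option autoImplicit false
set_option linter.unusedSectionVars false
set_option linter.unusedVariables false
set_option linter.style.haveILetI false

universe u

namespace Groth.Agent.Lib.Helper20.HilbAssoc

open MvPolynomial Groth.Agent.Lib.Helper20.HilbDim Groth.Agent.Lib.Helper20.HilbCI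
  Groth.Agent.Lib.Helper2.LenAt

attribute [local instance] MvPolynomial.gradedAlgebra

variable {k : Type u} [Field k] {σ : Type} [Finite σ]

theorem hf_top (m : ℕ) : HilbDim.hf (⊤ : Ideal (MvPolynomial σ k)) m = 0 := by
  unfold HilbDim.hf
  rw [Submodule.restrictScalars_top, top_inf_eq, Nat.sub_self]

/-- the contribution of a filtration factor `(R ⧸ p)(-a)` to the Hilbert function -/
noncomputable def term (x : Ideal (MvPolynomial σ k) × ℕ) (m : ℕ) : ℕ :=
  if x.2 ≤ m then HilbDim.hf x.1 (m - x.2) else 0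

/-- **Graded prime filtration**, in numerical form. -/
theorem exists_filtration (J : Ideal (MvPolynomial σ k))
    (hJ : J.IsHomogeneous (homogeneousSubmodule σ k)) :
    ∃ l : List (Ideal (MvPolynomial σ k) × ℕ),
      (∀ x ∈ l, x.1.IsPrime ∧ x.1.IsHomogeneous (homogeneousSubmodule σ k) ∧ J ≤ x.1) ∧
      (∀ m : ℕ, HilbDim.hf J m = (l.map fun x => term x m).sum) ∧
      (∀ q : PrimeSpectrum (MvPolynomial σ k), lenAt q (MvPolynomial σ k ⧸ J) =
        (l.map fun x => lenAt q (MvPolynomial σ k ⧸ x.1)).sum) := by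
  induction J using IsNoetherian.induction with
  | hgt J ih =>
    by_cases hne : J = ⊤
    · subst hne
      refine ⟨[], by simp, fun m => ?_, fun q => ?_⟩
      · rw [hf_top]; simp
      · haveI : Subsingleton (MvPolynomial σ k ⧸ (⊤ : Ideal (MvPolynomial σ k))) :=
          Ideal.Quotient.subsingleton_iff.2 rfl
        rw [lenAt_eq_zero_of_subsingleton]
        simp
    · obtain ⟨a, g, hga, hgJ, hprime⟩ := exists_colon_prime hJ hne
      have hg0 : g ≠ 0 := fun h => hgJ (h ▸ J.zero_mem)
      have hlt : J < J ⊔ Ideal.span {g} := by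
        refine lt_of_le_of_ne le_sup_left fun h => hgJ ?_
        rw [h]
        exact Ideal.mem_sup_right (Ideal.mem_span_singleton_self g)
      have hJ' : (J ⊔ Ideal.span {g}).IsHomogeneous (homogeneousSubmodule σ k) := by
        refine hJ.sup ?_
        apply Ideal.homogeneous_span
        intro x hx
        rw [Set.mem_singleton_iff] at hx
        subst hx
        exact ⟨a, hga⟩
      obtain ⟨l, hl1, hl2, hl3⟩ := ih _ hlt hJ'
      refine ⟨(J.colon {g}, a) :: l, ?_, ?_, ?_⟩
      · intro x hx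
        rcases List.mem_cons.1 hx with rfl | hx
        · refine ⟨hprime, isHomogeneous_colon hJ hga, ?_⟩
          intro s hs
          rw [Submodule.mem_colon_singleton, smul_eq_mul]
          exact Ideal.mul_mem_right _ _ hs
        · obtain ⟨h1, h2, h3⟩ := hl1 x hx
          exact ⟨h1, h2, le_sup_left.trans h3⟩
      · intro m
        rw [List.map_cons, List.sum_cons, ← hl2 m]
        unfold term
        by_cases ham : a ≤ m
        · rw [if_pos ham, hf_colon_of_le hJ hga hg0 ham, add_comm]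
        · rw [if_neg ham, zero_add, hf_colon_of_lt hJ hga (not_le.1 ham)]
      · intro q
        rw [List.map_cons, List.sum_cons, ← hl3 q, lenAt_colon J g q]

section hilbPoly

open Polynomial

/-- a Hilbert polynomial exists for every homogeneous ideal -/
theorem exists_hilbertPoly' (J : Ideal (MvPolynomial σ k))
    (hJ : J.IsHomogeneous (homogeneousSubmodule σ k)) :
    ∃ Q : ℚ[X], ∃ N : ℕ, ∀ m : ℕ, N ≤ m → Q.eval (m : ℚ) = (HilbDim.hf J m : ℚ) := by
  by_cases hne : J = ⊤
  · subst hne
    refine ⟨0, 0, fun m _ => ?_⟩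
    rw [hf_top, Polynomial.eval_zero, Nat.cast_zero]
  · obtain ⟨hmax, hht⟩ := height_map_idealOfVars hJ hne
    haveI : (mm J).IsMaximal := hmax
    obtain ⟨Q, hQ, -⟩ := exists_samuel (k := k) (mm J) (algebraMap_surjective_quot J)
      (finite_quot_mm_pow J hJ) hht (HilbDim.hf J) (finrank_quot_mm_pow J hJ)
    obtain ⟨P, -, N, hN⟩ := exists_diff Q (HilbDim.hf J) Q.natDegree le_rfl hQ
    exact ⟨P, N, fun m hm => (hN m hm).symm⟩

open Classical in
/-- the Hilbert polynomial of `R ⧸ J` (junk `0` when `J` is not homogeneous) -/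
noncomputable def hilbPoly (J : Ideal (MvPolynomial σ k)) : ℚ[X] :=
  if h : ∃ Q : ℚ[X], ∃ N : ℕ, ∀ m : ℕ, N ≤ m → Q.eval (m : ℚ) = (HilbDim.hf J m : ℚ)
  then h.choose else 0

theorem hilbPoly_spec (J : Ideal (MvPolynomial σ k))
    (hJ : J.IsHomogeneous (homogeneousSubmodule σ k)) :
    ∃ N : ℕ, ∀ m : ℕ, N ≤ m → (hilbPoly J).eval (m : ℚ) = (HilbDim.hf J m : ℚ) := by
  unfold hilbPoly
  rw [dif_pos (exists_hilbertPoly' J hJ)]
  exact (exists_hilbertPoly' J hJ).choose_spec

/-- two polynomials agreeing at all large naturals are equal -/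
theorem poly_eq_of_eventually_eq (P Q : ℚ[X])
    (h : ∃ N : ℕ, ∀ m : ℕ, N ≤ m → P.eval (m : ℚ) = Q.eval (m : ℚ)) : P = Q := by
  obtain ⟨N, hN⟩ := h
  apply Polynomial.eq_of_infinite_eval_eq
  apply Set.Infinite.mono (s := (fun t : ℕ => (t : ℚ)) '' {t : ℕ | N ≤ t})
  · rintro _ ⟨t, ht, rfl⟩
    exact hN t ht
  · apply Set.Infinite.image
    · intro a _ b _ hab
      exact Nat.cast_injective hab
    · exact Set.infinite_of_not_bddAbove (by
        rintro ⟨b, hb⟩
        have := hb (show N + b + 1 ∈ {t : ℕ | N ≤ t} from (by omega : N ≤ N + b + 1))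
        omega)

theorem hilbPoly_unique (J : Ideal (MvPolynomial σ k))
    (hJ : J.IsHomogeneous (homogeneousSubmodule σ k)) (Q : ℚ[X])
    (hQ : ∃ N : ℕ, ∀ m : ℕ, N ≤ m → Q.eval (m : ℚ) = (HilbDim.hf J m : ℚ)) :
    Q = hilbPoly J := by
  obtain ⟨N, hN⟩ := hQ
  obtain ⟨N', hN'⟩ := hilbPoly_spec J hJ
  apply poly_eq_of_eventually_eq
  exact ⟨max N N', fun m hm => by
    rw [hN m (le_trans (le_max_left _ _) hm), hN' m (le_trans (le_max_right _ _) hm)]⟩

end hilbPoly

end Groth.Agent.Lib.Helper20.HilbAssoc
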