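import Mathlib
import Groth.Agent.Lib.Helper20.HilbAssoc2
import Groth.Agent.Lib.Helper2.HilbSamuel

/-!
# The leading coefficient of the Hilbert polynomial through a graded prime filtration
-/

set_option autoImplicit false
set_option linter.unusedSectionVars false
set_option linter.unusedVariables false
set_option linter.style.haveILetI false

universe u

namespace Groth.Agent.Lib.Helper20.HilbAssoc

open MvPolynomial Groth.Agent.Lib.Helper20.HilbDim Groth.Agent.Lib.Helper20.HilbCI
  Groth.Agent.Lib.Helper2.LenAt Polynomial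

attribute [local instance] MvPolynomial.gradedAlgebra

variable {k : Type u} [Field k] {σ : Type} [Finite σ]

/-- uniform bound for finitely many eventual properties -/
theorem exists_uniform {α : Type*} (l : List α) (p : α → ℕ → Prop)
    (h : ∀ x ∈ l, ∃ N : ℕ, ∀ m : ℕ, N ≤ m → p x m) :
    ∃ N : ℕ, ∀ x ∈ l, ∀ m : ℕ, N ≤ m → p x m := by
  induction l with
  | nil => exact ⟨0, by simp⟩
  | cons a l ih =>
    obtain ⟨N₁, hN₁⟩ := h a List.mem_cons_self
    obtain ⟨N₂, hN₂⟩ := ih fun x hx => h x (List.mem_cons_of_mem _ hx)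
    refine ⟨max N₁ N₂, fun x hx m hm => ?_⟩
    rcases List.mem_cons.1 hx with rfl | hx
    · exact hN₁ m (le_trans (le_max_left _ _) hm)
    · exact hN₂ x hx m (le_trans (le_max_right _ _) hm)

/-- the shifted Hilbert polynomial of a filtration factor -/
noncomputable def tpoly (x : Ideal (MvPolynomial σ k) × ℕ) : ℚ[X] :=
  taylor (-((x.2 : ℕ) : ℚ)) (hilbPoly x.1)

theorem tpoly_eval (x : Ideal (MvPolynomial σ k) × ℕ)
    (hx : x.1.IsHomogeneous (homogeneousSubmodule σ k)) :
    ∃ N : ℕ, ∀ m : ℕ, N ≤ m → (tpoly x).eval (m : ℚ) = (term x m : ℚ) := by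
  obtain ⟨N, hN⟩ := hilbPoly_spec x.1 hx
  refine ⟨N + x.2, fun m hm => ?_⟩
  have h1 : x.2 ≤ m := by omega
  unfold tpoly term
  rw [taylor_eval, if_pos h1]
  have h2 : (m : ℚ) + -((x.2 : ℕ) : ℚ) = ((m - x.2 : ℕ) : ℚ) := by
    rw [Nat.cast_sub h1]; ring
  rw [h2, hN (m - x.2) (by omega)]

variable (I : Ideal (MvPolynomial σ k)) (hI : I.IsHomogeneous (homogeneousSubmodule σ k))
  (l : List (Ideal (MvPolynomial σ k) × ℕ))
  (hl1 : ∀ x ∈ l, x.1.IsPrime ∧ x.1.IsHomogeneous (homogeneousSubmodule σ k) ∧ I ≤ x.1)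
  (hl2 : ∀ m : ℕ, HilbDim.hf I m = (l.map fun x => term x m).sum)

include hI hl1 hl2 in
theorem hilbPoly_eq_sum : hilbPoly I = (l.map tpoly).sum := by
  obtain ⟨N₁, hN₁⟩ := hilbPoly_spec I hI
  obtain ⟨N₂, hN₂⟩ := exists_uniform l
    (fun x m => (tpoly x).eval (m : ℚ) = (term x m : ℚ))
    (fun x hx => tpoly_eval x (hl1 x hx).2.1)
  apply poly_eq_of_eventually_eq
  refine ⟨max N₁ N₂, fun m hm => ?_⟩
  rw [hN₁ m (le_trans (le_max_left _ _) hm), hl2 m, eval_listSum, List.map_map]
  have : ∀ x ∈ l, (Polynomial.eval (m : ℚ) ∘ tpoly) x = ((fun x => (term x m : ℚ)) x) :=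
    fun x hx => hN₂ x hx m (le_trans (le_max_right _ _) hm)
  rw [List.map_congr_left this]
  push_cast
  rw [List.map_map]
  rfl

include hl2 in
theorem term_le (x : Ideal (MvPolynomial σ k) × ℕ) (hx : x ∈ l) (m : ℕ) :
    term x m ≤ HilbDim.hf I m := by
  rw [hl2 m]
  exact List.single_le_sum (fun _ _ => Nat.zero_le _) _ (List.mem_map.2 ⟨x, hx, rfl⟩)

include hI hl1 hl2 in
theorem natDegree_le (x : Ideal (MvPolynomial σ k) × ℕ) (hx : x ∈ l) :
    (hilbPoly x.1).natDegree ≤ (hilbPoly I).natDegree := by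
  obtain ⟨N₁, hN₁⟩ := hilbPoly_spec I hI
  obtain ⟨N₂, hN₂⟩ := tpoly_eval x (hl1 x hx).2.1
  have h := Groth.Agent.Lib.Helper2.HilbSamuel.natDegree_le_of_eventually_le (tpoly x) (hilbPoly I)
    ⟨N₂, fun m hm => by rw [hN₂ m hm]; positivity⟩
    ⟨max N₁ N₂, fun m hm => by
      rw [hN₂ m (le_trans (le_max_right _ _) hm), hN₁ m (le_trans (le_max_left _ _) hm)]
      exact_mod_cast term_le I l hl2 x hx m⟩
  rwa [tpoly, natDegree_taylor] at h

/-- the weight of a homogeneous prime in the degree formula -/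
noncomputable def W (t : ℕ) (J : Ideal (MvPolynomial σ k)) : ℚ :=
  if (hilbPoly J).natDegree = t then (t.factorial : ℚ) * (hilbPoly J).leadingCoeff else 0

include hI hl1 hl2 in
/-- the leading coefficient of the Hilbert polynomial as a sum over the filtration -/
theorem factorial_mul_leadingCoeff :
    ((hilbPoly I).natDegree.factorial : ℚ) * (hilbPoly I).leadingCoeff =
      (l.map fun x => W (hilbPoly I).natDegree x.1).sum := by
  set t := (hilbPoly I).natDegree with ht
  have h1 : (hilbPoly I).leadingCoeff = ((l.map tpoly).sum).coeff t := by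
    rw [← hilbPoly_eq_sum I hI l hl1 hl2, ht]
    rfl
  have h2 : ((l.map tpoly).sum).coeff t = (l.map fun x => (tpoly x).coeff t).sum := by
    have := map_list_sum (Polynomial.lcoeff ℚ t) (l.map tpoly)
    rw [List.map_map] at this
    exact this
  rw [h1, h2, ← List.sum_map_mul_left]
  congr 1
  apply List.map_congr_left
  intro x hx
  have hle := natDegree_le I hI l hl1 hl2 x hx
  unfold W
  split_ifs with hd
  · rw [tpoly, ← hd, coeff_taylor_natDegree]
  · rw [tpoly, coeff_eq_zero_of_natDegree_lt, mul_zero]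
    rw [natDegree_taylor]
    exact lt_of_le_of_ne hle hd

end Groth.Agent.Lib.Helper20.HilbAssoc
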