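import Mathlib
import Groth.Agent.Lib.Helper20.HilbAssoc3
import Groth.Agent.Lib.Helper7.StdGrUnmixed

/-!
# The degree formula: `deg V(I) = ∑ mult · deg` over the top-dimensional components
-/

set_option autoImplicit false
set_option linter.unusedSectionVars false
set_option linter.unusedVariables false
set_option linter.style.haveILetI false

universe u

namespace Groth.Agent.Lib.Helper20.HilbAssoc

open MvPolynomial Groth.Agent.Lib.Helper20.HilbDim Groth.Agent.Lib.Helper20.HilbCI
  Groth.Agent.Lib.Helper2.LenAt Polynomial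

attribute [local instance] MvPolynomial.gradedAlgebra

variable {k : Type u} [Field k] {σ : Type} [Finite σ]

theorem hf_antitone {J J' : Ideal (MvPolynomial σ k)} (h : J ≤ J') (m : ℕ) :
    HilbDim.hf J' m ≤ HilbDim.hf J m := by
  unfold HilbDim.hf
  have : Module.finrank k ↥(Submodule.restrictScalars k J ⊓ homogeneousSubmodule σ k m) ≤
      Module.finrank k ↥(Submodule.restrictScalars k J' ⊓ homogeneousSubmodule σ k m) := by
    apply Submodule.finrank_mono
    exact inf_le_inf (fun x hx => h hx) le_rfl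
  omega

theorem dim_quotient_succ_le {A : Type u} [CommRing A] (q p : Ideal A) [hq : q.IsPrime]
    [hp : p.IsPrime] (hlt : q < p) : ringKrullDim (A ⧸ p) + 1 ≤ ringKrullDim (A ⧸ q) := by
  have h1 := Groth.Agent.Lib.Helper21.CatKit.ringKrullDim_quotient_eq_coheight
    (⟨p, hp⟩ : PrimeSpectrum A)
  have h2 := Groth.Agent.Lib.Helper21.CatKit.ringKrullDim_quotient_eq_coheight
    (⟨q, hq⟩ : PrimeSpectrum A)
  change ringKrullDim (A ⧸ p) = _ at h1
  change ringKrullDim (A ⧸ q) = _ at h2
  rw [h1, h2]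
  have h3 := Order.coheight_add_one_le (a := (⟨p, hp⟩ : PrimeSpectrum A))
    (b := (⟨q, hq⟩ : PrimeSpectrum A)) hlt
  exact_mod_cast h3

/-- `dim R ⧸ J = deg (Hilbert polynomial) + 1` in terms of `hilbPoly` -/
theorem dim_eq_of_hilbPoly_ne_zero (J : Ideal (MvPolynomial σ k))
    (hJ : J.IsHomogeneous (homogeneousSubmodule σ k)) (h0 : hilbPoly J ≠ 0) :
    ringKrullDim (MvPolynomial σ k ⧸ J) = ((hilbPoly J).natDegree : WithBot ℕ∞) + 1 := by
  obtain ⟨N, hN⟩ := hilbPoly_spec J hJ
  refine HilbDim.main J hJ (hilbPoly J) h0 ⟨N, fun m hm => ?_⟩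
  rw [hN m hm, HilbDim.hf, Nat.cast_sub (finrank_inf_le J m)]

theorem hilbPoly_eq_zero_of_le {J J' : Ideal (MvPolynomial σ k)}
    (hJ : J.IsHomogeneous (homogeneousSubmodule σ k))
    (hJ' : J'.IsHomogeneous (homogeneousSubmodule σ k)) (h : J ≤ J') (h0 : hilbPoly J = 0) :
    hilbPoly J' = 0 := by
  obtain ⟨N, hN⟩ := hilbPoly_spec J hJ
  obtain ⟨N', hN'⟩ := hilbPoly_spec J' hJ'
  apply poly_eq_of_eventually_eq
  refine ⟨max N N', fun m hm => ?_⟩
  have h1 := hN m (le_trans (le_max_left _ _) hm)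
  rw [h0, Polynomial.eval_zero] at h1
  have h2 : HilbDim.hf J m = 0 := by exact_mod_cast h1.symm
  have h3 : HilbDim.hf J' m = 0 := Nat.le_zero.1 (h2 ▸ hf_antitone h m)
  rw [hN' m (le_trans (le_max_right _ _) hm), h3, Polynomial.eval_zero, Nat.cast_zero]

theorem natDegree_hilbPoly_le {J J' : Ideal (MvPolynomial σ k)}
    (hJ : J.IsHomogeneous (homogeneousSubmodule σ k))
    (hJ' : J'.IsHomogeneous (homogeneousSubmodule σ k)) (h : J ≤ J') :
    (hilbPoly J').natDegree ≤ (hilbPoly J).natDegree := by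
  obtain ⟨N, hN⟩ := hilbPoly_spec J hJ
  obtain ⟨N', hN'⟩ := hilbPoly_spec J' hJ'
  exact Groth.Agent.Lib.Helper2.HilbSamuel.natDegree_le_of_eventually_le (hilbPoly J') (hilbPoly J)
    ⟨N', fun m hm => by rw [hN' m hm]; positivity⟩
    ⟨max N N', fun m hm => by
      rw [hN' m (le_trans (le_max_right _ _) hm), hN m (le_trans (le_max_left _ _) hm)]
      exact_mod_cast hf_antitone h m⟩

/-- a non-minimal prime over `I` does not contribute to the top coefficient -/
theorem W_eq_zero_of_not_minimal (I : Ideal (MvPolynomial σ k))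
    (hI : I.IsHomogeneous (homogeneousSubmodule σ k)) (p' : Ideal (MvPolynomial σ k))
    [hp' : p'.IsPrime] (hp'h : p'.IsHomogeneous (homogeneousSubmodule σ k)) (hle : I ≤ p')
    (hnm : p' ∉ I.minimalPrimes) : W (hilbPoly I).natDegree p' = 0 := by
  unfold W
  split_ifs with hd
  · by_cases h0 : hilbPoly p' = 0
    · rw [h0, leadingCoeff_zero, mul_zero]
    · exfalso
      obtain ⟨q, hq, hqp⟩ := Ideal.exists_minimalPrimes_le hle
      haveI := hq.1.1
      have hqh : q.IsHomogeneous (homogeneousSubmodule σ k) :=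
        Groth.Agent.Lib.Helper7.StdGrUnmixed.isHomogeneous_of_mem_minimalPrimes _ hI hq
      have hlt : q < p' := lt_of_le_of_ne hqp fun h => hnm (h ▸ hq)
      have hq0 : hilbPoly q ≠ 0 := fun h => h0 (hilbPoly_eq_zero_of_le hqh hp'h hqp h)
      have h1 := dim_eq_of_hilbPoly_ne_zero q hqh hq0
      have h2 := dim_eq_of_hilbPoly_ne_zero p' hp'h h0
      have h3 := dim_quotient_succ_le q p' hlt
      have h4 := natDegree_hilbPoly_le hI hqh hq.1.2
      rw [h1, h2, hd] at h3
      have h5 : (hilbPoly I).natDegree + 1 + 1 ≤ (hilbPoly q).natDegree + 1 := by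
        exact_mod_cast h3
      omega
  · rfl

section formula

variable (I : Ideal (MvPolynomial σ k)) (hI : I.IsHomogeneous (homogeneousSubmodule σ k))
  (r : ℕ) (p : Fin r → Ideal (MvPolynomial σ k)) (hp : ∀ i, (p i).IsPrime)
  (hpinj : Function.Injective p)
  (hpmin : ∀ q : Ideal (MvPolynomial σ k), q ∈ I.minimalPrimes ↔ ∃ i, q = p i)

include hpmin hp in
theorem lenAt_factor (i : Fin r) (x : Ideal (MvPolynomial σ k)) [hx : x.IsPrime] (hIx : I ≤ x) :
    lenAt ⟨p i, hp i⟩ (MvPolynomial σ k ⧸ x) = if x = p i then 1 else 0 := by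
  split_ifs with h
  · subst h
    exact lenAt_quotient_self ⟨p i, hp i⟩
  · apply lenAt_quotient_eq_zero ⟨p i, hp i⟩ ⟨x, hx⟩
    intro hle
    apply h
    have hmin : p i ∈ I.minimalPrimes := (hpmin _).2 ⟨i, rfl⟩
    exact le_antisymm hle (hmin.2 ⟨hx, hIx⟩ hle)

include hpmin hp in
theorem lenAt_eq_count (i : Fin r) (l : List (Ideal (MvPolynomial σ k) × ℕ))
    (hl1 : ∀ x ∈ l, x.1.IsPrime ∧ x.1.IsHomogeneous (homogeneousSubmodule σ k) ∧ I ≤ x.1) :
    (l.map fun x => lenAt ⟨p i, hp i⟩ (MvPolynomial σ k ⧸ x.1)).sum =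
      ((l.map fun x => if x.1 = p i then 1 else 0).sum : ℕ) := by
  induction l with
  | nil => simp
  | cons a l ih =>
    haveI := (hl1 a List.mem_cons_self).1
    rw [List.map_cons, List.sum_cons, List.map_cons, List.sum_cons,
      ih fun x hx => hl1 x (List.mem_cons_of_mem _ hx),
      lenAt_factor I r p hp hpmin i a.1 (hl1 a List.mem_cons_self).2.2]
    push_cast
    split_ifs <;> simp

theorem sum_ite_mul (t : ℕ) (i : Fin r) (l : List (Ideal (MvPolynomial σ k) × ℕ)) :
    (l.map fun x => if x.1 = p i then W t x.1 else 0).sum =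
      W t (p i) * ((l.map fun x => if x.1 = p i then 1 else 0).sum : ℕ) := by
  induction l with
  | nil => simp
  | cons a l ih =>
    rw [List.map_cons, List.sum_cons, List.map_cons, List.sum_cons, ih]
    push_cast
    split_ifs with h
    · rw [h]; ring
    · ring

include hpinj in
theorem sum_fin_ite (t : ℕ) (x : Ideal (MvPolynomial σ k)) :
    (∑ i : Fin r, if x = p i then W t x else 0) = if (∃ i, x = p i) then W t x else 0 := by
  classical
  split_ifs with h
  · obtain ⟨j, hj⟩ := h
    rw [Finset.sum_eq_single j]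
    · rw [if_pos hj]
    · intro i _ hij
      rw [if_neg]
      intro h'
      exact hij (hpinj (h'.symm.trans hj))
    · intro hj'
      exact absurd (Finset.mem_univ j) hj'
  · apply Finset.sum_eq_zero
    intro i _
    rw [if_neg]
    intro h'
    exact h ⟨i, h'⟩

theorem sum_sum_swap (t : ℕ) (l : List (Ideal (MvPolynomial σ k) × ℕ)) :
    (∑ i : Fin r, (l.map fun x => if x.1 = p i then W t x.1 else 0).sum) =
      (l.map fun x => ∑ i : Fin r, if x.1 = p i then W t x.1 else 0).sum := by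
  induction l with
  | nil => simp
  | cons a l ih =>
    simp only [List.map_cons, List.sum_cons]
    rw [Finset.sum_add_distrib, ih]

include hI hp hpinj hpmin in
/-- **The degree formula.** -/
theorem degree_formula :
    ((hilbPoly I).natDegree.factorial : ℚ) * (hilbPoly I).leadingCoeff =
      ∑ i : Fin r, W (hilbPoly I).natDegree (p i) *
        ((lenAt ⟨p i, hp i⟩ (MvPolynomial σ k ⧸ I)).toNat : ℚ) := by
  obtain ⟨l, hl1, hl2, hl3⟩ := exists_filtration I hI
  set t := (hilbPoly I).natDegree with ht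
  rw [factorial_mul_leadingCoeff I hI l hl1 hl2]
  have hlen : ∀ i : Fin r, ((lenAt ⟨p i, hp i⟩ (MvPolynomial σ k ⧸ I)).toNat : ℚ) =
      (((l.map fun x => if x.1 = p i then 1 else 0).sum : ℕ) : ℚ) := by
    intro i
    rw [hl3, lenAt_eq_count I r p hp hpmin i l hl1, ENat.toNat_natCast]
  simp only [hlen]
  simp only [← sum_ite_mul r p t _ l]
  rw [sum_sum_swap r p t l]
  congr 1
  apply List.map_congr_left
  intro x hx
  rw [sum_fin_ite r p hpinj t x.1]
  obtain ⟨hx1, hx2, hx3⟩ := hl1 x hx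
  split_ifs with h
  · rfl
  · haveI := hx1
    exact W_eq_zero_of_not_minimal I hI x.1 hx2 hx3 fun hmin => h ((hpmin _).1 hmin)

end formula

end Groth.Agent.Lib.Helper20.HilbAssoc
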