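import Mathlib
import Groth.Agent.Lib.Helper20.HilbAssoc4

/-!
# The degree formula in statement form
-/

set_option autoImplicit false
set_option linter.unusedSectionVars false
set_option linter.unusedVariables false
set_option linter.style.haveILetI false

universe u

namespace Groth.Agent.Lib.Helper20.HilbAssoc

open MvPolynomial Groth.Agent.Lib.Helper20.HilbDim Groth.Agent.Lib.Helper20.HilbCI
  Groth.Agent.Lib.Helper2.LenAt Polynomial

attribute [local instance] MvPolynomial.gradedAlgebra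

variable {k : Type u} [Field k] {σ : Type} [Finite σ]

/-- a polynomial computing the Hilbert function is `hilbPoly` -/
theorem eq_hilbPoly_of_eval (J : Ideal (MvPolynomial σ k))
    (hJ : J.IsHomogeneous (homogeneousSubmodule σ k)) (Q : ℚ[X])
    (hQ : ∃ m₀ : ℕ, ∀ m : ℕ, m₀ ≤ m → Q.eval (m : ℚ) =
      (Module.finrank k ↥(homogeneousSubmodule σ k m) : ℚ) -
        Module.finrank k ↥(Submodule.restrictScalars k J ⊓ homogeneousSubmodule σ k m)) :
    Q = hilbPoly J := by
  obtain ⟨m₀, hm₀⟩ := hQ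
  apply hilbPoly_unique J hJ
  refine ⟨m₀, fun m hm => ?_⟩
  rw [hm₀ m hm, HilbDim.hf, Nat.cast_sub (finrank_inf_le J m)]

theorem degree_formula' (I : Ideal (MvPolynomial σ k))
    (hI : I.IsHomogeneous (homogeneousSubmodule σ k)) (P : ℚ[X])
    (hP : ∃ m₀ : ℕ, ∀ m : ℕ, m₀ ≤ m → P.eval (m : ℚ) =
      (Module.finrank k ↥(homogeneousSubmodule σ k m) : ℚ) -
        Module.finrank k ↥(Submodule.restrictScalars k I ⊓ homogeneousSubmodule σ k m))
    (r : ℕ) (p : Fin r → Ideal (MvPolynomial σ k)) [hp : ∀ i, (p i).IsPrime]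
    (hpinj : Function.Injective p)
    (hpmin : ∀ q : Ideal (MvPolynomial σ k), q ∈ I.minimalPrimes ↔ ∃ i, q = p i)
    (Qp : Fin r → ℚ[X])
    (hQp : ∀ i, ∃ m₀ : ℕ, ∀ m : ℕ, m₀ ≤ m → (Qp i).eval (m : ℚ) =
      (Module.finrank k ↥(homogeneousSubmodule σ k m) : ℚ) -
        Module.finrank k ↥(Submodule.restrictScalars k (p i) ⊓ homogeneousSubmodule σ k m)) :
    (P.natDegree.factorial : ℚ) * P.leadingCoeff =
      ∑ i : Fin r, if (Qp i).natDegree = P.natDegree then
        ((Qp i).natDegree.factorial : ℚ) * (Qp i).leadingCoeff *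
          (Module.length (Localization.AtPrime (p i))
            (LocalizedModule (p i).primeCompl (MvPolynomial σ k ⧸ I))).toNat
      else 0 := by
  have hPI : P = hilbPoly I := eq_hilbPoly_of_eval I hI P hP
  have hQi : ∀ i, Qp i = hilbPoly (p i) := by
    intro i
    have hmin : p i ∈ I.minimalPrimes := (hpmin _).2 ⟨i, rfl⟩
    exact eq_hilbPoly_of_eval (p i)
      (Groth.Agent.Lib.Helper7.StdGrUnmixed.isHomogeneous_of_mem_minimalPrimes _ hI hmin)
      (Qp i) (hQp i)
  rw [hPI, degree_formula I hI r p hp hpinj hpmin]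
  apply Finset.sum_congr rfl
  intro i _
  rw [hQi i]
  unfold W
  split_ifs with h
  · rw [h]
    rfl
  · rw [zero_mul]

end Groth.Agent.Lib.Helper20.HilbAssoc
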