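import Mathlib
import Groth.Agent.Lib.Helper20.HilbAssoc5
import Groth.Agent.Lib.Helper7.AffineDimFormula

/-!
# Bézout for a hypersurface section of a projective variety
-/

set_option autoImplicit false
set_option linter.unusedSectionVars false
set_option linter.unusedVariables false
set_option linter.style.haveILetI false

universe u

namespace Groth.Agent.Lib.Helper20.HilbAssoc

open MvPolynomial Groth.Agent.Lib.Helper20.HilbDim Groth.Agent.Lib.Helper20.HilbCI
  Groth.Agent.Lib.Helper2.LenAt Polynomial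

attribute [local instance] MvPolynomial.gradedAlgebra

variable {k : Type u} [Field k] {σ : Type} [Finite σ]

/-- vanishing Hilbert polynomial means dimension `≤ 0` -/
theorem dim_le_zero_of_hilbPoly_eq_zero (J : Ideal (MvPolynomial σ k))
    (hJ : J.IsHomogeneous (homogeneousSubmodule σ k)) (h0 : hilbPoly J = 0) :
    ringKrullDim (MvPolynomial σ k ⧸ J) ≤ 0 := by
  by_cases hne : J = ⊤
  · subst hne
    haveI : Subsingleton (MvPolynomial σ k ⧸ (⊤ : Ideal (MvPolynomial σ k))) :=
      Ideal.Quotient.subsingleton_iff.2 rfl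
    rw [ringKrullDim_eq_bot_of_subsingleton]
    exact bot_le
  · obtain ⟨hmax, hht⟩ := height_map_idealOfVars hJ hne
    haveI : (mm J).IsMaximal := hmax
    obtain ⟨Q, ⟨N, hN⟩, hdeg⟩ := exists_samuel (k := k) (mm J) (algebraMap_surjective_quot J)
      (finite_quot_mm_pow J hJ) hht (HilbDim.hf J) (finrank_quot_mm_pow J hJ)
    obtain ⟨N', hN'⟩ := hilbPoly_spec J hJ
    have hz : ∀ m : ℕ, N' ≤ m → HilbDim.hf J m = 0 := by
      intro m hm
      have := hN' m hm
      rw [h0, Polynomial.eval_zero] at this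
      exact_mod_cast this.symm
    have hD : Q - taylor (-((1 : ℕ) : ℚ)) Q = 0 := by
      apply poly_eq_of_eventually_eq
      refine ⟨N + N' + 1, fun m hm => ?_⟩
      obtain ⟨s, rfl⟩ : ∃ s, m = s + 1 := ⟨m - 1, by omega⟩
      rw [Polynomial.eval_sub, taylor_eval, Polynomial.eval_zero]
      have h1 : ((s + 1 : ℕ) : ℚ) + -((1 : ℕ) : ℚ) = (s : ℚ) := by push_cast; ring
      rw [h1, hN (s + 1) (by omega), hN s (by omega), Finset.sum_range_succ, hz s (by omega)]
      push_cast
      ring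
    have hQ0 : Q.natDegree = 0 := by
      by_contra hne0
      have hQ1 : 1 ≤ Q.natDegree := by omega
      have h2 := (Groth.Agent.Lib.Helper7.HilbSec.natDegree_sub_taylor (P := Q) (d := 1)
        one_pos hQ1).2
      rw [hD, leadingCoeff_zero] at h2
      have hQne : Q ≠ 0 := by
        rintro rfl
        simp at hQ1
      have : (((1 : ℕ) : ℚ) * (Q.natDegree : ℚ) * Q.leadingCoeff) ≠ 0 := by
        have h3 : (Q.natDegree : ℚ) ≠ 0 := by exact_mod_cast hne0
        have h4 : Q.leadingCoeff ≠ 0 := leadingCoeff_ne_zero.2 hQne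
        simp [h3, h4]
      exact this h2.symm
    rw [← hdeg, hQ0]
    simp

/-- Krull's principal ideal theorem and the dimension formula for affine domains -/
theorem dim_le_dim_minimal_add_one (I : Ideal (MvPolynomial σ k)) [hIp : I.IsPrime]
    (f : MvPolynomial σ k) (p : Ideal (MvPolynomial σ k))
    (hp : p ∈ (I ⊔ Ideal.span {f}).minimalPrimes) :
    ringKrullDim (MvPolynomial σ k ⧸ I) ≤ ringKrullDim (MvPolynomial σ k ⧸ p) + 1 := by
  haveI := hp.1.1
  have hIp' : I ≤ p := le_sup_left.trans hp.1.2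
  have hker : RingHom.ker (Ideal.Quotient.mk I) ≤ p := by rw [Ideal.mk_ker]; exact hIp'
  haveI : (p.map (Ideal.Quotient.mk I)).IsPrime :=
    Ideal.map_isPrime_of_surjective Ideal.Quotient.mk_surjective hker
  have h1 := Ideal.map_height_le_one_of_mem_minimalPrimes hp
  haveI : Algebra.FiniteType k (MvPolynomial σ k ⧸ I) :=
    Algebra.FiniteType.of_surjective (Ideal.Quotient.mkₐ k I) (Ideal.Quotient.mkₐ_surjective k I)
  have h2 := Groth.Agent.Lib.Helper7.AffDim.height_add_dim_quotient (k := k)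
    (MvPolynomial σ k ⧸ I) (p.map (Ideal.Quotient.mk I))
  rw [ringKrullDim_eq_of_ringEquiv (DoubleQuot.quotQuotEquivQuotOfLE hIp')] at h2
  rw [← h2, add_comm]
  gcongr
  exact_mod_cast h1

theorem bezout_hypersurface (I : Ideal (MvPolynomial σ k))
    (hI : I.IsHomogeneous (homogeneousSubmodule σ k)) [I.IsPrime]
    (f : MvPolynomial σ k) (d : ℕ) (hd : 0 < d) (hf : f.IsHomogeneous d) (hfI : f ∉ I)
    (P : ℚ[X])
    (hP : ∃ m₀ : ℕ, ∀ m : ℕ, m₀ ≤ m → P.eval (m : ℚ) =
      (Module.finrank k ↥(homogeneousSubmodule σ k m) : ℚ) -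
        Module.finrank k ↥(Submodule.restrictScalars k I ⊓ homogeneousSubmodule σ k m))
    (hdim : 1 ≤ P.natDegree)
    (r : ℕ) (p : Fin r → Ideal (MvPolynomial σ k)) [hp : ∀ i, (p i).IsPrime]
    (hpinj : Function.Injective p)
    (hpmin : ∀ q : Ideal (MvPolynomial σ k),
      q ∈ (I ⊔ Ideal.span {f}).minimalPrimes ↔ ∃ i, q = p i)
    (Qp : Fin r → ℚ[X])
    (hQp : ∀ i, ∃ m₀ : ℕ, ∀ m : ℕ, m₀ ≤ m → (Qp i).eval (m : ℚ) =
      (Module.finrank k ↥(homogeneousSubmodule σ k m) : ℚ) -
        Module.finrank k ↥(Submodule.restrictScalars k (p i) ⊓ homogeneousSubmodule σ k m)) :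
    (d : ℚ) * ((P.natDegree.factorial : ℚ) * P.leadingCoeff) =
      ∑ i : Fin r, ((Qp i).natDegree.factorial : ℚ) * (Qp i).leadingCoeff *
        (Module.length (Localization.AtPrime (p i))
          (LocalizedModule (p i).primeCompl
            (MvPolynomial σ k ⧸ (I ⊔ Ideal.span {f})))).toNat := by
  have hfm : f ∈ homogeneousSubmodule σ k d := (mem_homogeneousSubmodule _ _).2 hf
  have hI' : (I ⊔ Ideal.span {f}).IsHomogeneous (homogeneousSubmodule σ k) := by
    refine hI.sup ?_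
    apply Ideal.homogeneous_span
    intro x hx
    rw [Set.mem_singleton_iff] at hx
    subst hx
    exact ⟨d, hfm⟩
  set Q' := hilbPoly (I ⊔ Ideal.span {f}) with hQ'def
  obtain ⟨N', hN'⟩ := hilbPoly_spec _ hI'
  have hQ'ev : ∃ m₀ : ℕ, ∀ m : ℕ, m₀ ≤ m → Q'.eval (m : ℚ) =
      (Module.finrank k ↥(homogeneousSubmodule σ k m) : ℚ) -
        Module.finrank k ↥(Submodule.restrictScalars k (I ⊔ Ideal.span {f}) ⊓
          homogeneousSubmodule σ k m) := by
    refine ⟨N', fun m hm => ?_⟩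
    rw [hN' m hm, HilbDim.hf, Nat.cast_sub (finrank_inf_le _ m)]
  obtain ⟨hs1, hs2⟩ := Groth.Agent.Lib.Helper7.HilbSec.hilbert_section hI hd hf hfI P Q' hP hQ'ev
    hdim
  rw [← hs2, degree_formula' _ hI' Q' hQ'ev r p hpinj hpmin Qp hQp]
  apply Finset.sum_congr rfl
  intro i _
  rw [if_pos]
  -- all minimal primes are of top dimension
  have hmin : p i ∈ (I ⊔ Ideal.span {f}).minimalPrimes := (hpmin _).2 ⟨i, rfl⟩
  have hpih : (p i).IsHomogeneous (homogeneousSubmodule σ k) :=
    Groth.Agent.Lib.Helper7.StdGrUnmixed.isHomogeneous_of_mem_minimalPrimes _ hI' hmin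
  have hQi : Qp i = hilbPoly (p i) := eq_hilbPoly_of_eval (p i) hpih (Qp i) (hQp i)
  have hPI : P = hilbPoly I := eq_hilbPoly_of_eval I hI P hP
  have hP0 : hilbPoly I ≠ 0 := by
    rw [← hPI]
    rintro rfl
    simp at hdim
  have hle : (hilbPoly (p i)).natDegree ≤ Q'.natDegree := natDegree_hilbPoly_le hI' hpih hmin.1.2
  have hdimI := dim_eq_of_hilbPoly_ne_zero I hI hP0
  have hkr := dim_le_dim_minimal_add_one I f (p i) hmin
  rw [hQi]
  apply le_antisymm hle
  by_cases h0 : hilbPoly (p i) = 0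
  · exfalso
    have h1 := dim_le_zero_of_hilbPoly_eq_zero (p i) hpih h0
    rw [hdimI, ← hPI] at hkr
    have h2 : ((P.natDegree : WithBot ℕ∞) + 1) ≤ 0 + 1 := hkr.trans (by gcongr)
    have h3 : P.natDegree + 1 ≤ 0 + 1 := by exact_mod_cast h2
    omega
  · have h1 := dim_eq_of_hilbPoly_ne_zero (p i) hpih h0
    rw [hdimI, h1, ← hPI] at hkr
    have h3 : P.natDegree + 1 ≤ (hilbPoly (p i)).natDegree + 1 + 1 := by exact_mod_cast hkr
    omega

end Groth.Agent.Lib.Helper20.HilbAssoc
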