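import Mathlib
import Groth.Agent.Lib.Helper20.HilbCI2
import Groth.Agent.Lib.Helper20.HilbCI3
import Groth.Agent.Lib.helper11.CIGor
import Groth.Agent.Lib.Helper21.DepthKit4
import Groth.Agent.Lib.Helper7.AffineDimFormula
import Groth.Agent.S10834

/-!
# `n` forms in `n + 1` variables cutting out a one-dimensional cone form a regular sequence
-/

set_option autoImplicit false
set_option linter.unusedSectionVars false
set_option linter.unusedVariables false
set_option linter.style.haveILetI false

universe u

namespace Groth.Agent.Lib.Helper20.HilbCI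

open MvPolynomial Groth.Agent.Lib.Helper20.HilbDim IsLocalRing RingTheory.Sequence

attribute [local instance] MvPolynomial.gradedAlgebra

variable {k : Type u} [Field k] (n : ℕ)

/-- height of a maximal ideal of the polynomial ring -/
theorem height_of_isMaximal (q : Ideal (MvPolynomial (Fin (n + 1)) k)) [hq : q.IsMaximal] :
    (q.height : WithBot ℕ∞) = ((n + 1 : ℕ) : WithBot ℕ∞) := by
  have h1 := Groth.Agent.Lib.Helper7.AffDim.height_add_dim_quotient (k := k)
    (MvPolynomial (Fin (n + 1)) k) q
  have h2 : ringKrullDim (MvPolynomial (Fin (n + 1)) k ⧸ q) = 0 :=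
    ringKrullDim_eq_zero_of_isField ((Ideal.Quotient.maximal_ideal_iff_isField_quotient q).1 hq)
  rw [h2, add_zero, MvPolynomial.ringKrullDim_of_isNoetherianRing, ringKrullDim_eq_zero_of_field,
    zero_add, Nat.card_eq_fintype_card, Fintype.card_fin] at h1
  exact h1

theorem regular_of_dim (fs : List (MvPolynomial (Fin (n + 1)) k)) (hlen : fs.length = n)
    (hhom : ∀ i (h : i < fs.length), ∃ d, fs[i] ∈ homogeneousSubmodule (Fin (n + 1)) k d)
    (hdim : ringKrullDim (MvPolynomial (Fin (n + 1)) k ⧸ Ideal.ofList fs) = 1) :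
    ∀ i (h : i < fs.length), ∀ g,
      fs[i] * g ∈ Ideal.ofList (fs.take i) → g ∈ Ideal.ofList (fs.take i) := by
  set J := Ideal.ofList fs with hJdef
  have hhom' : ∀ x ∈ fs, ∃ d, x ∈ homogeneousSubmodule (Fin (n + 1)) k d := by
    intro x hx
    obtain ⟨j, hj, rfl⟩ := List.getElem_of_mem hx
    exact hhom j hj
  have hJhom : J.IsHomogeneous (homogeneousSubmodule (Fin (n + 1)) k) :=
    isHomogeneous_ofList n fs hhom'
  have hne : J ≠ ⊤ := by
    intro h
    haveI : Subsingleton (MvPolynomial (Fin (n + 1)) k ⧸ J) := Ideal.Quotient.subsingleton_iff.2 h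
    rw [ringKrullDim_eq_bot_of_subsingleton] at hdim
    exact absurd hdim (by simp)
  obtain ⟨hmax, hht⟩ := height_map_idealOfVars hJhom hne
  set Q := Ideal.map (Ideal.Quotient.mk J) (idealOfVars (Fin (n + 1)) k) with hQdef
  haveI : Q.IsMaximal := hmax
  set q := Q.comap (Ideal.Quotient.mk J) with hqdef
  haveI hqmax : q.IsMaximal :=
    Ideal.comap_isMaximal_of_surjective _ Ideal.Quotient.mk_surjective
  have hq : idealOfVars (Fin (n + 1)) k ≤ q := Ideal.le_comap_map
  have hJq : J ≤ q := by
    intro x hx
    rw [hqdef, Ideal.mem_comap, Ideal.Quotient.eq_zero_iff_mem.2 hx]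
    exact Q.zero_mem
  haveI : IsRegularLocalRing (Localization.AtPrime q) :=
    IsRegularRing.isRegularLocalRing_localization q
  set L := Localization.AtPrime q with hLdef
  set as := fs.map (algebraMap (MvPolynomial (Fin (n + 1)) k) L) with hasdef
  have hm : ∀ y ∈ as, y ∈ maximalIdeal L := by
    intro y hy
    obtain ⟨x, hx, rfl⟩ := List.mem_map.1 hy
    exact (IsLocalization.AtPrime.to_map_mem_maximal_iff _ q x).2 (hJq (Ideal.subset_span hx))
  have hCM := Groth.Agent.S10834.isCM_of_isRegularLocalRing L
  have hsmul : ∀ l : List L, (Ideal.ofList l • ⊤ : Submodule L L) = Ideal.ofList l := by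
    intro l
    simp
  have hdimL : Module.supportDim L L = ((n + 1 : ℕ) : WithBot ℕ∞) := by
    rw [Module.supportDim_self_eq_ringKrullDim,
      IsLocalization.AtPrime.ringKrullDim_eq_height q L, height_of_isMaximal n q]
  have hdimQ : Module.supportDim L (L ⧸ (Ideal.ofList as • ⊤ : Submodule L L)) = 1 := by
    rw [Module.supportDim_eq_of_equiv (Submodule.quotEquivOfEq _ _ (hsmul as)),
      Module.supportDim_quotient_eq_ringKrullDim, hasdef, ← Ideal.map_ofList]
    rw [← ringKrullDim_eq_of_ringEquiv
      (Groth.Agent.Lib.helper11.CIGor.locQuotRingEquiv J Q),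
      IsLocalization.AtPrime.ringKrullDim_eq_height Q (Localization.AtPrime Q), hht, hdim]
  have heq : Module.supportDim L (L ⧸ (Ideal.ofList as • ⊤ : Submodule L L)) + as.length =
      Module.supportDim L L := by
    rw [hdimQ, hdimL, hasdef, List.length_map, hlen]
    push_cast
    ring
  have hreg := Groth.Agent.Lib.Helper21.DepthKit.isWeaklyRegular_of_supportDim_drop as L hCM hm heq
  intro i hi g hfg
  have hi' : i < as.length := by rw [hasdef, List.length_map]; exact hi
  have hri := hreg.regular_mod_prev i hi'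
  have hJi : (Ideal.ofList (fs.take i)).IsHomogeneous (homogeneousSubmodule (Fin (n + 1)) k) :=
    isHomogeneous_ofList n _ fun x hx => hhom' x (List.mem_of_mem_take hx)
  obtain ⟨d, hd⟩ := hhom i hi
  refine mem_of_local_regular hJi hd q hq ?_ g hfg
  intro y hy
  have htake : Ideal.ofList (as.take i) =
      (Ideal.ofList (fs.take i)).map (algebraMap (MvPolynomial (Fin (n + 1)) k) L) := by
    rw [hasdef, ← List.map_take, Ideal.map_ofList]
  have hasi : as[i] = algebraMap (MvPolynomial (Fin (n + 1)) k) L fs[i] := by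
    simp [hasdef]
  have h0 : as[i] • (Submodule.Quotient.mk y :
      L ⧸ (Ideal.ofList (as.take i) • ⊤ : Submodule L L)) = as[i] • 0 := by
    rw [smul_zero, ← Submodule.Quotient.mk_smul, Submodule.Quotient.mk_eq_zero, hsmul, htake,
      smul_eq_mul, hasi]
    exact hy
  have h1 := hri h0
  rw [Submodule.Quotient.mk_eq_zero, hsmul, htake] at h1
  exact h1

end Groth.Agent.Lib.Helper20.HilbCI
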