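import Mathlib
import Groth.Agent.Lib.Helper20.HilbCI4

/-!
# Bézout: the Hilbert function of `n` forms in `n + 1` variables meeting in finitely many points
-/

set_option autoImplicit false
set_option linter.unusedSectionVars false
set_option linter.unusedVariables false
set_option linter.style.haveILetI false

universe u

namespace Groth.Agent.Lib.Helper20.HilbCI

open MvPolynomial Groth.Agent.Lib.Helper20.HilbDim

attribute [local instance] MvPolynomial.gradedAlgebra

variable {k : Type u} [Field k] (n : ℕ)

theorem ofList_ofFn (f : Fin n → MvPolynomial (Fin (n + 1)) k) :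
    Ideal.ofList (List.ofFn f) = Ideal.span (Set.range f) := by
  unfold Ideal.ofList
  congr 1
  ext x
  simp [List.mem_ofFn]

theorem bezout (f : Fin n → MvPolynomial (Fin (n + 1)) k) (d : Fin n → ℕ) (hd : ∀ i, 1 ≤ d i)
    (hf : ∀ i, (f i).IsHomogeneous (d i))
    (hdim : ringKrullDim (MvPolynomial (Fin (n + 1)) k ⧸ Ideal.span (Set.range f)) = 1) :
    ∃ m₀ : ℕ, ∀ m : ℕ, m₀ ≤ m →
      Module.finrank k ↥(homogeneousSubmodule (Fin (n + 1)) k m) -
        Module.finrank k ↥((Ideal.span (Set.range f)).restrictScalars k ⊓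
          homogeneousSubmodule (Fin (n + 1)) k m) =
      ∏ i : Fin n, d i := by
  set fs := List.ofFn f with hfs
  set ds := List.ofFn d with hds
  have hlenf : fs.length = n := List.length_ofFn
  have hlend : ds.length = n := List.length_ofFn
  have hlen : fs.length = ds.length := by rw [hlenf, hlend]
  have hJ : Ideal.ofList fs = Ideal.span (Set.range f) := ofList_ofFn n f
  have hfd : ∀ i (h : i < fs.length),
      fs[i] ∈ homogeneousSubmodule (Fin (n + 1)) k (ds[i]'(hlen ▸ h)) := by
    intro i h
    simp only [hfs, hds, List.getElem_ofFn]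
    exact hf _
  have hdim' : ringKrullDim (MvPolynomial (Fin (n + 1)) k ⧸ Ideal.ofList fs) = 1 := by
    rw [hJ]; exact hdim
  have hreg := regular_of_dim n fs hlenf (fun i h => ⟨_, hfd i h⟩) hdim'
  have hne : Ideal.ofList fs ≠ ⊤ := by
    intro h
    haveI : Subsingleton (MvPolynomial (Fin (n + 1)) k ⧸ Ideal.ofList fs) :=
      Ideal.Quotient.subsingleton_iff.2 h
    rw [ringKrullDim_eq_bot_of_subsingleton] at hdim'
    exact absurd hdim' (by simp)
  have hf0 : ∀ i (h : i < fs.length), fs[i] ≠ 0 := by
    intro i h h0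
    apply hne
    have h1 : (1 : MvPolynomial (Fin (n + 1)) k) ∈ Ideal.ofList (fs.take i) := by
      apply hreg i h 1
      rw [h0, zero_mul]
      exact Ideal.zero_mem _
    rw [Ideal.eq_top_iff_one]
    refine Ideal.span_mono ?_ h1
    intro x hx
    exact List.mem_of_mem_take hx
  have hd' : ∀ i (h : i < ds.length), 1 ≤ ds[i] := by
    intro i h
    simp only [hds, List.getElem_ofFn]
    exact hd _
  obtain ⟨m₀, hm₀⟩ := hf_eventually n fs ds hlen hlenf hd' hfd hf0 hreg
  refine ⟨m₀, fun m hm => ?_⟩
  have := hm₀ m hm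
  rw [hJ, hds, List.prod_ofFn] at this
  exact this

end Groth.Agent.Lib.Helper20.HilbCI
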