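import Mathlib

/-!
# Jacobian criterion for a hypersurface `k[x_σ]/(f)` (helper20)

For a nonzerodivisor `f` in a polynomial ring `P = R[x_σ]` (σ finite):
`P/(f)` is smooth over `R` iff `1 ∈ (f, ∂_i f)`.
-/

set_option autoImplicit false
universe u

open TensorProduct MvPolynomial

namespace Groth.Agent.Lib.Helper20.HypSmooth

variable {R : Type u} [CommRing R] {σ : Type} [Fintype σ] [DecidableEq σ]

/-- the Jacobian ideal together with `f` -/
noncomputable def J (f : MvPolynomial σ R) : Ideal (MvPolynomial σ R) :=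
  Ideal.span (insert f (Set.range fun i => pderiv i f))

lemma D_eq_sum (x : MvPolynomial σ R) :
    KaehlerDifferential.D R (MvPolynomial σ R) x =
      ∑ i, pderiv i x • KaehlerDifferential.D R (MvPolynomial σ R) (X i) := by
  have h := (KaehlerDifferential.mvPolynomialBasis R σ).sum_repr
    (KaehlerDifferential.D R (MvPolynomial σ R) x)
  rw [← h]
  refine Finset.sum_congr rfl fun i _ => ?_
  rw [KaehlerDifferential.mvPolynomialBasis_repr_apply, KaehlerDifferential.mvPolynomialBasis_apply]

section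

variable (f : MvPolynomial σ R)

local notation "PP" => MvPolynomial σ R
local notation "AA" => MvPolynomial σ R ⧸ Ideal.span (singleton f)

lemma hsurj : Function.Surjective (algebraMap PP AA) := Ideal.Quotient.mk_surjective

lemma hK : RingHom.ker (algebraMap PP AA) = Ideal.span (singleton f) := by
  rw [Ideal.Quotient.algebraMap_eq]; exact Ideal.mk_ker

/-- `f` as an element of the kernel -/
def fK : RingHom.ker (algebraMap PP AA) := ⟨f, by rw [hK]; exact Ideal.subset_span rfl⟩

local notation "KK" => RingHom.ker (algebraMap (MvPolynomial σ R) (MvPolynomial σ R ⧸ Ideal.span (singleton f)))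

lemma mem_span_of_mem_K {z : PP} (hz : z ∈ KK) : z ∈ Ideal.span ({f} : Set PP) := by
  have := hK f
  rw [← this]; exact hz

theorem mem_J_of_formallySmooth (hf : f ∈ nonZeroDivisors PP)
    [Algebra.FormallySmooth R AA] : (1 : PP) ∈ J f := by
  obtain ⟨l, hl⟩ := (Algebra.FormallySmooth.iff_split_injection (R := R) (P := MvPolynomial σ R)
    (A := MvPolynomial σ R ⧸ Ideal.span (singleton f)) (hsurj f)).mp inferInstance
  have h1 : l (KaehlerDifferential.kerCotangentToTensor R PP AA ((Ideal.toCotangent KK) (fK f))) =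
      (Ideal.toCotangent KK) (fK f) := by
    have := LinearMap.congr_fun hl ((Ideal.toCotangent KK) (fK f))
    simpa using this
  rw [KaehlerDifferential.kerCotangentToTensor_toCotangent] at h1
  -- choose representatives of l (1 ⊗ D X_i)
  have hrep : ∀ i : σ, ∃ g : PP, l ((1 : AA) ⊗ₜ[PP] KaehlerDifferential.D R PP (X i)) =
      g • (Ideal.toCotangent KK) (fK f) := by
    intro i
    obtain ⟨⟨z, hz⟩, hz2⟩ := Ideal.toCotangent_surjective KK
      (l ((1 : AA) ⊗ₜ[PP] KaehlerDifferential.D R PP (X i)))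
    obtain ⟨g, rfl⟩ := Ideal.mem_span_singleton'.mp (mem_span_of_mem_K f hz)
    refine ⟨g, ?_⟩
    rw [← hz2, ← map_smul]
    congr 1
  choose g hg using hrep
  have h2 : ((1 : AA) ⊗ₜ[PP] KaehlerDifferential.D R PP ((fK f : KK) : PP)) =
      ∑ i, pderiv i f • ((1 : AA) ⊗ₜ[PP] KaehlerDifferential.D R PP (X i)) := by
    change ((1 : AA) ⊗ₜ[PP] KaehlerDifferential.D R PP f) = _
    rw [D_eq_sum f, TensorProduct.tmul_sum]
    refine Finset.sum_congr rfl fun i _ => ?_
    rw [TensorProduct.tmul_smul]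
  rw [h2, map_sum] at h1
  simp only [map_smul, hg] at h1
  -- now: Σ ∂_i f • g_i • fbar = fbar
  have h3 : (Ideal.toCotangent KK) ((∑ i, pderiv i f * g i) • fK f) = (Ideal.toCotangent KK) (fK f) := by
    rw [map_smul, Finset.sum_smul]
    refine Eq.trans ?_ h1
    refine Finset.sum_congr rfl fun i _ => ?_
    rw [mul_smul]
  rw [Ideal.toCotangent_eq] at h3
  have h4 : ((∑ i, pderiv i f * g i) * f - f) ∈ Ideal.span ({f} : Set PP) ^ 2 := by
    have : KK ^ 2 = Ideal.span ({f} : Set PP) ^ 2 := by rw [hK f]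
    rw [← this]
    convert h3 using 1
    simp [fK, Submodule.coe_smul, smul_eq_mul]
  rw [Ideal.span_singleton_pow, Ideal.mem_span_singleton'] at h4
  obtain ⟨h, hh⟩ := h4
  -- cancel f
  have h5 : (∑ i, pderiv i f * g i) - 1 = h * f := by
    have : ((∑ i, pderiv i f * g i) - 1 - h * f) * f = 0 := by
      rw [sub_mul, sub_mul, one_mul, ← hh]; ring
    have := hf.2 _ this
    exact sub_eq_zero.mp this
  have h6 : (1 : PP) = (∑ i, g i * pderiv i f) - h * f := by
    rw [← h5]; simp [mul_comm]
  rw [h6]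
  refine Submodule.sub_mem _ (Submodule.sum_mem _ fun i _ => ?_) ?_
  · exact Ideal.mul_mem_left _ _ (Ideal.subset_span (Set.mem_insert_of_mem _ ⟨i, rfl⟩))
  · exact Ideal.mul_mem_left _ _ (Ideal.subset_span (Set.mem_insert _ _))

lemma f_smul_cot (x : (Ideal.Cotangent KK)) : f • x = 0 :=
  Ideal.Cotangent.smul_eq_zero_of_mem (fK f).2 x

theorem formallySmooth_of_mem_J (h1 : (1 : PP) ∈ J f) : Algebra.FormallySmooth R AA := by
  unfold J at h1
  rw [Ideal.mem_span_insert] at h1
  obtain ⟨a, z, hz, h1⟩ := h1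
  obtain ⟨g, rfl⟩ := (Ideal.mem_span_range_iff_exists_fun).mp hz
  -- the functional c
  let b := KaehlerDifferential.mvPolynomialBasis R σ
  let c : Ω[PP⁄R] →ₗ[PP] PP := ∑ i, g i • b.coord i
  have hc : ∀ x : PP, c (KaehlerDifferential.D R PP x) = ∑ i, g i * pderiv i x := by
    intro x
    simp only [c, LinearMap.sum_apply, LinearMap.smul_apply, smul_eq_mul]
    refine Finset.sum_congr rfl fun i _ => ?_
    rw [Module.Basis.coord_apply, KaehlerDifferential.mvPolynomialBasis_repr_apply]
  let fbar : (Ideal.Cotangent KK) := (Ideal.toCotangent KK) (fK f)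
  let lam : Ω[PP⁄R] →ₗ[PP] (Ideal.Cotangent KK) := (LinearMap.toSpanSingleton PP _ fbar) ∘ₗ c
  have hlam : ∀ ω, lam ω = c ω • fbar := fun ω => rfl
  let φ : PP →ₗ[PP] (Ω[PP⁄R] →ₗ[PP] (Ideal.Cotangent KK)) := LinearMap.toSpanSingleton PP _ lam
  have hle : (Ideal.span ({f} : Set PP) : Submodule PP PP) ≤ LinearMap.ker φ := by
    change Submodule.span PP ({f} : Set PP) ≤ _
    rw [Submodule.span_le]
    rintro x hx
    rw [Set.mem_singleton_iff] at hx
    subst hx
    rw [SetLike.mem_coe, LinearMap.mem_ker]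
    refine LinearMap.ext fun ω => ?_
    simp only [φ, LinearMap.toSpanSingleton_apply, LinearMap.smul_apply, LinearMap.zero_apply]
    rw [hlam, smul_comm, f_smul_cot, smul_zero]
  let β : AA →ₗ[PP] (Ω[PP⁄R] →ₗ[PP] (Ideal.Cotangent KK)) := Submodule.liftQ _ φ hle
  let l : AA ⊗[PP] Ω[PP⁄R] →ₗ[PP] (Ideal.Cotangent KK) := TensorProduct.lift β
  refine (Algebra.FormallySmooth.iff_split_injection (R := R) (P := MvPolynomial σ R)
    (A := MvPolynomial σ R ⧸ Ideal.span (singleton f)) (hsurj f)).mpr ⟨l, ?_⟩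
  refine LinearMap.ext fun x => ?_
  obtain ⟨⟨z, hz⟩, rfl⟩ := Ideal.toCotangent_surjective KK x
  obtain ⟨c', rfl⟩ := Ideal.mem_span_singleton'.mp (mem_span_of_mem_K f hz)
  rw [LinearMap.comp_apply, KaehlerDifferential.kerCotangentToTensor_toCotangent, LinearMap.id_apply]
  have e1 : l ((1 : AA) ⊗ₜ[PP] KaehlerDifferential.D R PP (c' * f)) =
      lam (KaehlerDifferential.D R PP (c' * f)) := by
    simp only [l, TensorProduct.lift.tmul]
    have : β (1 : AA) = φ 1 := Submodule.liftQ_apply _ _ 1
    rw [this]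
    simp [φ]
  change l ((1 : AA) ⊗ₜ[PP] KaehlerDifferential.D R PP (c' * f)) = _
  rw [e1, hlam, hc]
  have e2 : ∑ i, g i * pderiv i (c' * f) = c' + f * ((∑ i, g i * pderiv i c') - c' * a) := by
    have : ∀ i, g i * pderiv i (c' * f) = c' * (g i * pderiv i f) + f * (g i * pderiv i c') := by
      intro i
      rw [Derivation.leibniz]
      simp only [smul_eq_mul]
      ring
    simp only [this, Finset.sum_add_distrib, ← Finset.mul_sum]
    have h1' : ∑ i, g i * pderiv i f = 1 - a * f := by
      rw [h1]; simp [smul_eq_mul]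
    rw [h1']
    ring
  rw [e2, add_smul, mul_smul, f_smul_cot, add_zero]
  change c' • (Ideal.toCotangent KK) (fK f) = _
  rw [← map_smul]
  congr 1

theorem smooth_iff (hf : f ∈ nonZeroDivisors PP) :
    Algebra.Smooth R AA ↔ (1 : PP) ∈ J f := by
  constructor
  · intro h
    haveI : Algebra.FormallySmooth R AA := h.formallySmooth
    exact mem_J_of_formallySmooth f hf
  · intro h
    have h1 := formallySmooth_of_mem_J f h
    have h2 : Algebra.FinitePresentation R AA :=
      Algebra.FinitePresentation.quotient ⟨{f}, by simp⟩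
    exact ⟨h1, h2⟩

end

end Groth.Agent.Lib.Helper20.HypSmooth
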