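import Mathlib
import Groth.Agent.Lib.Helper20.HypSmooth

/-!
# Smoothness of the charts `Q(x) + Ξ(x) y = 0`, `Q(x) y + Ξ(x) = 0` (helper20)
-/

set_option autoImplicit false
universe u

open Polynomial

namespace Groth.Agent.Lib.Helper20.HirzChart

variable {k : Type u} [Field k]

/-- embed `k[T]` into `k[x,y]` via `T ↦ x` -/
noncomputable def em : k[X] →ₐ[k] MvPolynomial (Fin 2) k :=
  Polynomial.aeval (MvPolynomial.X 0)

/-- first chart equation -/
noncomputable def f1 (Q Ξ : k[X]) : MvPolynomial (Fin 2) k := em Q + em Ξ * MvPolynomial.X 1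

/-- second chart equation -/
noncomputable def f2 (Q Ξ : k[X]) : MvPolynomial (Fin 2) k := em Q * MvPolynomial.X 1 + em Ξ

lemma pderiv0_em (Q : k[X]) : MvPolynomial.pderiv 0 (em Q) = em (derivative Q) := by
  unfold em
  rw [Derivation.map_aeval]
  simp

lemma pderiv1_em (Q : k[X]) : MvPolynomial.pderiv 1 (em Q) = 0 := by
  unfold em
  rw [Derivation.map_aeval]
  simp [MvPolynomial.pderiv_X]

lemma pderiv0_f1 (Q Ξ : k[X]) :
    MvPolynomial.pderiv 0 (f1 Q Ξ) = em (derivative Q) + em (derivative Ξ) * MvPolynomial.X 1 := by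
  unfold f1
  rw [map_add, Derivation.leibniz, pderiv0_em, pderiv0_em]
  simp [MvPolynomial.pderiv_X, mul_comm]

lemma pderiv1_f1 (Q Ξ : k[X]) : MvPolynomial.pderiv 1 (f1 Q Ξ) = em Ξ := by
  unfold f1
  rw [map_add, Derivation.leibniz, pderiv1_em, pderiv1_em]
  simp [MvPolynomial.pderiv_X]

lemma pderiv0_f2 (Q Ξ : k[X]) :
    MvPolynomial.pderiv 0 (f2 Q Ξ) = em (derivative Q) * MvPolynomial.X 1 + em (derivative Ξ) := by
  unfold f2
  rw [map_add, Derivation.leibniz, pderiv0_em, pderiv0_em]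
  simp [MvPolynomial.pderiv_X, mul_comm]

lemma pderiv1_f2 (Q Ξ : k[X]) : MvPolynomial.pderiv 1 (f2 Q Ξ) = em Q := by
  unfold f2
  rw [map_add, Derivation.leibniz, pderiv1_em, pderiv1_em]
  simp [MvPolynomial.pderiv_X]

/-- evaluation `x ↦ t, y ↦ w` -/
noncomputable def ev {K : Type u} [Field K] [Algebra k K] (t w : K) :
    MvPolynomial (Fin 2) k →ₐ[k] K :=
  MvPolynomial.aeval ![t, w]

lemma ev_em {K : Type u} [Field K] [Algebra k K] (t w : K) (Q : k[X]) :
    ev t w (em Q) = Polynomial.aeval t Q := by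
  unfold em
  rw [← Polynomial.aeval_algHom_apply]
  simp [ev]

lemma ev_X1 {K : Type u} [Field K] [Algebra k K] (t w : K) :
    ev (k := k) t w (MvPolynomial.X 1) = w := by
  simp [ev]

lemma exists_ne_zero_of_one_mem {K : Type u} [Field K] [Algebra k K]
    (ψ : MvPolynomial (Fin 2) k →ₐ[k] K) (S : Set (MvPolynomial (Fin 2) k))
    (h : (1 : MvPolynomial (Fin 2) k) ∈ Ideal.span S) : ∃ s ∈ S, ψ s ≠ 0 := by
  by_contra hne
  push Not at hne
  have hle : Ideal.span S ≤ RingHom.ker ψ.toRingHom := by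
    rw [Ideal.span_le]
    intro s hs
    exact hne s hs
  have := hle h
  rw [RingHom.mem_ker] at this
  simp at this

lemma coprime_of_no_common_root (Q Ξ : k[X]) (h0 : ¬(Q = 0 ∧ Ξ = 0))
    (H : ∀ (π : k[X]) [Fact (Irreducible π)], Polynomial.aeval (AdjoinRoot.root π) Q = 0 →
      Polynomial.aeval (AdjoinRoot.root π) Ξ = 0 → False) : IsCoprime Q Ξ := by
  apply isCoprime_of_irreducible_dvd h0
  intro z hz hzQ hzΞ
  haveI : Fact (Irreducible z) := ⟨hz⟩
  apply H z
  · rw [AdjoinRoot.aeval_eq, AdjoinRoot.mk_eq_zero]; exact hzQ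
  · rw [AdjoinRoot.aeval_eq, AdjoinRoot.mk_eq_zero]; exact hzΞ

theorem charts_iff (Q Ξ : k[X]) (h0 : ¬(Q = 0 ∧ Ξ = 0)) :
    ((1 : MvPolynomial (Fin 2) k) ∈ HypSmooth.J (f1 Q Ξ) ∧
      (1 : MvPolynomial (Fin 2) k) ∈ HypSmooth.J (f2 Q Ξ)) ↔ IsCoprime Q Ξ := by
  constructor
  · rintro ⟨h1, h2⟩
    apply coprime_of_no_common_root Q Ξ h0
    intro π _ hQ hΞ
    set t0 := AdjoinRoot.root π with ht0
    -- from chart 1: Q'(t0) + Ξ'(t0) w ≠ 0 for all w
    have c1 : ∀ w : AdjoinRoot π, Polynomial.aeval t0 (derivative Q) +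
        Polynomial.aeval t0 (derivative Ξ) * w ≠ 0 := by
      intro w
      obtain ⟨s, hs, hne⟩ := exists_ne_zero_of_one_mem (ev t0 w) _ h1
      rcases hs with rfl | ⟨i, rfl⟩
      · exfalso; apply hne
        simp [f1, ev_em, ev_X1, hQ, hΞ]
      · fin_cases i
        · simp only [Fin.zero_eta] at hne
          rw [pderiv0_f1] at hne
          simpa [ev_em, ev_X1] using hne
        · exfalso; apply hne
          simp only [Fin.mk_one]
          rw [pderiv1_f1, ev_em, hΞ]
    have c2 : ∀ w : AdjoinRoot π, Polynomial.aeval t0 (derivative Q) * w +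
        Polynomial.aeval t0 (derivative Ξ) ≠ 0 := by
      intro w
      obtain ⟨s, hs, hne⟩ := exists_ne_zero_of_one_mem (ev t0 w) _ h2
      rcases hs with rfl | ⟨i, rfl⟩
      · exfalso; apply hne
        simp [f2, ev_em, ev_X1, hQ, hΞ]
      · fin_cases i
        · simp only [Fin.zero_eta] at hne
          rw [pderiv0_f2] at hne
          simpa [ev_em, ev_X1] using hne
        · exfalso; apply hne
          simp only [Fin.mk_one]
          rw [pderiv1_f2, ev_em, hQ]
    have hQ' : Polynomial.aeval t0 (derivative Q) ≠ 0 := by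
      have := c1 0
      simpa using this
    apply c2 (-(Polynomial.aeval t0 (derivative Ξ)) / Polynomial.aeval t0 (derivative Q))
    field_simp
    ring
  · rintro ⟨a, b, hab⟩
    have hab' : em a * em Q + em b * em Ξ = (1 : MvPolynomial (Fin 2) k) := by
      rw [← map_mul, ← map_mul, ← map_add, hab, map_one]
    constructor
    · have hΞ : em Ξ ∈ HypSmooth.J (f1 Q Ξ) := by
        rw [← pderiv1_f1 Q Ξ]
        exact Ideal.subset_span (Set.mem_insert_of_mem _ ⟨1, rfl⟩)
      have hQ : em Q ∈ HypSmooth.J (f1 Q Ξ) := by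
        have : em Q = f1 Q Ξ - MvPolynomial.X 1 * em Ξ := by unfold f1; ring
        rw [this]
        exact Submodule.sub_mem _ (Ideal.subset_span (Set.mem_insert _ _))
          (Ideal.mul_mem_left _ _ hΞ)
      rw [← hab']
      exact Submodule.add_mem _ (Ideal.mul_mem_left _ _ hQ) (Ideal.mul_mem_left _ _ hΞ)
    · have hQ : em Q ∈ HypSmooth.J (f2 Q Ξ) := by
        rw [← pderiv1_f2 Q Ξ]
        exact Ideal.subset_span (Set.mem_insert_of_mem _ ⟨1, rfl⟩)
      have hΞ : em Ξ ∈ HypSmooth.J (f2 Q Ξ) := by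
        have : em Ξ = f2 Q Ξ - MvPolynomial.X 1 * em Q := by unfold f2; ring
        rw [this]
        exact Submodule.sub_mem _ (Ideal.subset_span (Set.mem_insert _ _))
          (Ideal.mul_mem_left _ _ hQ)
      rw [← hab']
      exact Submodule.add_mem _ (Ideal.mul_mem_left _ _ hQ) (Ideal.mul_mem_left _ _ hΞ)

end Groth.Agent.Lib.Helper20.HirzChart
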