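import Mathlib
import Groth.Agent.Lib.Helper20.HirzChart

/-!
# Resultant with size parameters vs coprimality of forms and reversed forms (helper20)
-/

set_option autoImplicit false
universe u

open Polynomial

namespace Groth.Agent.Lib.Helper20.ResRev

variable {k : Type u} [Field k]

/-- polynomial with given coefficient vector -/
noncomputable def poly {N : ℕ} (c : Fin (N + 1) → k) : k[X] := ∑ j : Fin (N + 1), C (c j) * X ^ (j : ℕ)

/-- reversed polynomial -/
noncomputable def rpoly {N : ℕ} (c : Fin (N + 1) → k) : k[X] :=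
  ∑ j : Fin (N + 1), C (c j) * X ^ (N - (j : ℕ))

lemma rpoly_eq {N : ℕ} (c : Fin (N + 1) → k) : rpoly c = poly (c ∘ Fin.rev) := by
  unfold rpoly poly
  rw [← Equiv.sum_comp Fin.revPerm]
  refine Finset.sum_congr rfl fun j _ => ?_
  simp only [Fin.revPerm_apply, Function.comp_apply, Fin.rev_rev, Fin.val_rev]
  congr 2
  omega

lemma poly_eq_ofFn {N : ℕ} (c : Fin (N + 1) → k) : poly c = by classical exact ofFn (N + 1) c := by
  classical
  rw [ofFn_eq_sum_monomial]
  unfold poly
  refine Finset.sum_congr rfl fun j _ => ?_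
  rw [C_mul_X_pow_eq_monomial]

lemma coeff_poly {N : ℕ} (c : Fin (N + 1) → k) (m : ℕ) (hm : m < N + 1) :
    (poly c).coeff m = c ⟨m, hm⟩ := by
  classical
  rw [poly_eq_ofFn]
  exact ofFn_coeff_eq_val_of_lt c hm

lemma natDegree_poly_le {N : ℕ} (c : Fin (N + 1) → k) : (poly c).natDegree ≤ N := by
  classical
  rw [poly_eq_ofFn]
  have := ofFn_natDegree_lt (n := N + 1) (by omega) c
  omega

lemma poly_eq_zero_iff {N : ℕ} (c : Fin (N + 1) → k) : poly c = 0 ↔ c = 0 := by
  classical
  constructor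
  · intro h
    rw [poly_eq_ofFn] at h
    have := injective_ofFn (R := k) (N + 1)
    apply this
    rw [h]; simp
  · rintro rfl
    simp [poly]

lemma aeval_poly {N : ℕ} (c : Fin (N + 1) → k) {K : Type u} [Field K] [Algebra k K] (t : K) :
    aeval t (poly c) = ∑ j : Fin (N + 1), algebraMap k K (c j) * t ^ (j : ℕ) := by
  simp [poly, map_sum]

lemma aeval_rpoly {N : ℕ} (c : Fin (N + 1) → k) {K : Type u} [Field K] [Algebra k K] (t : K) :
    aeval t (rpoly c) = ∑ j : Fin (N + 1), algebraMap k K (c j) * t ^ (N - (j : ℕ)) := by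
  simp [rpoly, map_sum]

lemma aeval_rpoly_zero {N : ℕ} (c : Fin (N + 1) → k) {K : Type u} [Field K] [Algebra k K] :
    aeval (0 : K) (rpoly c) = algebraMap k K (c (Fin.last N)) := by
  rw [aeval_rpoly, Finset.sum_eq_single (Fin.last N)]
  · simp
  · intro j _ hj
    have : N - (j : ℕ) ≠ 0 := by
      have h1 : (j : ℕ) ≠ N := fun h => hj (Fin.ext (by simpa using h))
      have h2 := j.2
      omega
    rw [zero_pow this, mul_zero]
  · intro h; exact absurd (Finset.mem_univ _) h

lemma aeval_inv_poly {N : ℕ} (c : Fin (N + 1) → k) {K : Type u} [Field K] [Algebra k K] (t : K)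
    (ht : t ≠ 0) : aeval t⁻¹ (poly c) = (t⁻¹) ^ N * aeval t (rpoly c) := by
  rw [aeval_poly, aeval_rpoly, Finset.mul_sum]
  refine Finset.sum_congr rfl fun j _ => ?_
  have hj : (j : ℕ) ≤ N := Nat.lt_succ_iff.mp j.2
  have : (t⁻¹) ^ N = (t⁻¹) ^ (j : ℕ) * (t⁻¹) ^ (N - (j : ℕ)) := by
    rw [← pow_add]; congr 1; omega
  rw [this]
  have h2 : (t⁻¹) ^ (N - (j : ℕ)) * t ^ (N - (j : ℕ)) = 1 := by
    rw [← mul_pow, inv_mul_cancel₀ ht, one_pow]
  calc algebraMap k K (c j) * t⁻¹ ^ (j : ℕ)
      = algebraMap k K (c j) * t⁻¹ ^ (j : ℕ) * ((t⁻¹) ^ (N - (j : ℕ)) * t ^ (N - (j : ℕ))) := by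
        rw [h2, mul_one]
    _ = _ := by ring

lemma res_formula (Q Ξ : k[X]) (m n : ℕ) (hQ : Q.natDegree ≤ m) (hΞ : Ξ.natDegree ≤ n) :
    resultant Q Ξ m n = (-1) ^ (n * (m - Q.natDegree)) * Ξ.coeff n ^ (m - Q.natDegree) *
      (Q.coeff Q.natDegree ^ (n - Ξ.natDegree) * resultant Q Ξ) := by
  have hm : m = Q.natDegree + (m - Q.natDegree) := by omega
  have hn' : n = Ξ.natDegree + (n - Ξ.natDegree) := by omega
  conv_lhs => rw [hm]
  rw [resultant_add_left_deg Q Ξ Q.natDegree n (m - Q.natDegree) le_rfl]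
  congr 1
  conv_lhs => rw [hn']
  rw [resultant_add_right_deg Q Ξ Q.natDegree Ξ.natDegree (n - Ξ.natDegree) le_rfl]

theorem res_iff {n : ℕ} (hn : 1 ≤ n) (q : Fin 3 → k) (ξ : Fin (n + 1) → k) :
    resultant (poly q) (poly ξ) 2 n ≠ 0 ↔
      IsCoprime (poly q) (poly ξ) ∧ IsCoprime (rpoly q) (rpoly ξ) := by
  set Q := poly q with hQdef
  set Ξ := poly ξ with hΞdef
  have hQdeg : Q.natDegree ≤ 2 := natDegree_poly_le q
  have hΞdeg : Ξ.natDegree ≤ n := natDegree_poly_le ξ
  have hq2 : Q.coeff 2 = q (Fin.last 2) := coeff_poly q 2 (by omega)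
  have hξn : Ξ.coeff n = ξ (Fin.last n) := coeff_poly ξ n (by omega)
  have hform := res_formula Q Ξ 2 n hQdeg hΞdeg
  constructor
  · intro hres
    have hQ0 : Q ≠ 0 := by
      intro h
      apply hres
      rw [h, resultant_zero_left, zero_pow (by omega), zero_mul]
    rw [hform] at hres
    have h1 : Ξ.coeff n ^ (2 - Q.natDegree) ≠ 0 := by
      intro h; apply hres; rw [h]; simp
    have h2 : resultant Q Ξ ≠ 0 := by
      intro h; apply hres; rw [h]; simp
    have hcop : IsCoprime Q Ξ := by
      by_contra hnc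
      exact h2 (resultant_eq_zero_iff.mpr ⟨Or.inl hQ0, hnc⟩)
    have hlead : q (Fin.last 2) ≠ 0 ∨ ξ (Fin.last n) ≠ 0 := by
      by_cases hdeg : Q.natDegree = 2
      · left
        rw [← hq2, ← hdeg]
        exact Polynomial.leadingCoeff_ne_zero.mpr hQ0
      · right
        rw [← hξn]
        intro h
        apply h1
        rw [h, zero_pow]
        omega
    refine ⟨hcop, ?_⟩
    apply HirzChart.coprime_of_no_common_root
    · rintro ⟨h, -⟩
      rw [rpoly_eq, poly_eq_zero_iff] at h
      apply hQ0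
      rw [hQdef, poly_eq_zero_iff]
      funext i
      have := congrFun h (Fin.rev i)
      simpa using this
    · intro π _ h1' h2'
      by_cases ht : AdjoinRoot.root π = 0
      · rw [ht, aeval_rpoly_zero] at h1' h2'
        have e1 : q (Fin.last 2) = 0 := by
          have := (algebraMap k (AdjoinRoot π)).injective
          apply this; rw [h1', map_zero]
        have e2 : ξ (Fin.last n) = 0 := by
          have := (algebraMap k (AdjoinRoot π)).injective
          apply this; rw [h2', map_zero]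
        rcases hlead with h | h
        · exact h e1
        · exact h e2
      · have e1 : aeval (AdjoinRoot.root π)⁻¹ Q = 0 := by
          rw [hQdef, aeval_inv_poly q _ ht, h1', mul_zero]
        have e2 : aeval (AdjoinRoot.root π)⁻¹ Ξ = 0 := by
          rw [hΞdef, aeval_inv_poly ξ _ ht, h2', mul_zero]
        obtain ⟨a, b, hab⟩ := hcop
        have := congrArg (aeval (AdjoinRoot.root π)⁻¹) hab
        rw [map_add, map_mul, map_mul, e1, e2, mul_zero, mul_zero, add_zero, map_one] at this
        exact zero_ne_one this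
  · rintro ⟨hcop, hcopr⟩
    have hlead : q (Fin.last 2) ≠ 0 ∨ ξ (Fin.last n) ≠ 0 := by
      by_contra hne
      push Not at hne
      obtain ⟨a, b, hab⟩ := hcopr
      have := congrArg (aeval (0 : k)) hab
      rw [map_add, map_mul, map_mul, aeval_rpoly_zero, aeval_rpoly_zero, hne.1, hne.2] at this
      simp at this
    have hQ0 : Q ≠ 0 := by
      intro h
      have hq0 : q = 0 := (poly_eq_zero_iff q).mp h
      have hξ : ξ (Fin.last n) ≠ 0 := by
        rcases hlead with h' | h'
        · exact absurd (by rw [hq0]; rfl) h'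
        · exact h'
      rw [h, isCoprime_zero_left] at hcop
      have hdeg : Ξ.natDegree = 0 := Polynomial.natDegree_eq_zero_of_isUnit hcop
      have : Ξ.coeff n = 0 := Polynomial.coeff_eq_zero_of_natDegree_lt (by omega)
      rw [hξn] at this
      exact hξ this
    rw [hform]
    have h1 : Ξ.coeff n ^ (2 - Q.natDegree) ≠ 0 := by
      by_cases hdeg : Q.natDegree = 2
      · rw [hdeg]; simp
      · apply pow_ne_zero
        rw [hξn]
        rcases hlead with h' | h'
        · exfalso
          apply h'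
          rw [← hq2]
          exact Polynomial.coeff_eq_zero_of_natDegree_lt (by omega)
        · exact h'
    have h2 : resultant Q Ξ ≠ 0 := by
      intro h
      exact (resultant_eq_zero_iff.mp h).2 hcop
    have h3 : Q.coeff Q.natDegree ^ (n - Ξ.natDegree) ≠ 0 :=
      pow_ne_zero _ (Polynomial.leadingCoeff_ne_zero.mpr hQ0)
    have h4 : ((-1 : k)) ^ (n * (2 - Q.natDegree)) ≠ 0 := pow_ne_zero _ (by simp)
    exact mul_ne_zero (mul_ne_zero h4 h1) (mul_ne_zero h3 h2)

end Groth.Agent.Lib.Helper20.ResRev
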