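import Mathlib
import Groth.Agent.Lib.Helper20.ResRev

/-!
# Smoothness of the four charts of a section of `e + n f` on a Hirzebruch surface (helper20)
-/

set_option autoImplicit false
universe u

open Polynomial

namespace Groth.Agent.Lib.Helper20.HirzMain

open HirzChart ResRev

variable {k : Type u} [Field k]

lemma em_injective : Function.Injective (HirzChart.em (k := k)) := by
  intro a b hab
  have h : ∀ Q : k[X], MvPolynomial.aeval (![Polynomial.X, 0] : Fin 2 → k[X]) (HirzChart.em Q) = Q := by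
    intro Q
    unfold HirzChart.em
    rw [← Polynomial.aeval_algHom_apply]
    simp
  rw [← h a, ← h b, hab]

lemma f1_ne_zero (Q Ξ : k[X]) (h0 : ¬(Q = 0 ∧ Ξ = 0)) : f1 Q Ξ ≠ 0 := by
  intro h
  apply h0
  have h1 : HirzChart.em Ξ = 0 := by rw [← pderiv1_f1 Q Ξ, h, map_zero]
  have hΞ : Ξ = 0 := em_injective (by rw [h1, map_zero])
  have h2 : HirzChart.em Q = 0 := by
    have := h
    unfold f1 at this
    rw [h1, zero_mul, add_zero] at this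
    exact this
  exact ⟨em_injective (by rw [h2, map_zero]), hΞ⟩

lemma f2_ne_zero (Q Ξ : k[X]) (h0 : ¬(Q = 0 ∧ Ξ = 0)) : f2 Q Ξ ≠ 0 := by
  intro h
  apply h0
  have h1 : HirzChart.em Q = 0 := by rw [← pderiv1_f2 Q Ξ, h, map_zero]
  have hQ : Q = 0 := em_injective (by rw [h1, map_zero])
  have h2 : HirzChart.em Ξ = 0 := by
    have := h
    unfold f2 at this
    rw [h1, zero_mul, zero_add] at this
    exact this
  exact ⟨hQ, em_injective (by rw [h2, map_zero])⟩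

lemma rpoly_eq_zero_iff {N : ℕ} (c : Fin (N + 1) → k) : rpoly c = 0 ↔ c = 0 := by
  rw [rpoly_eq, poly_eq_zero_iff]
  constructor
  · intro h
    funext i
    have := congrFun h (Fin.rev i)
    simpa using this
  · rintro rfl; rfl

lemma em_C (a : k) : HirzChart.em (C a) = MvPolynomial.C a := by
  unfold HirzChart.em
  rw [Polynomial.aeval_C]
  rfl

lemma em_X : HirzChart.em (X : k[X]) = MvPolynomial.X 0 := by
  unfold HirzChart.em
  rw [Polynomial.aeval_X]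

lemma em_poly {N : ℕ} (c : Fin (N + 1) → k) :
    HirzChart.em (poly c) =
      ∑ j : Fin (N + 1), MvPolynomial.C (c j) * MvPolynomial.X 0 ^ (j : ℕ) := by
  unfold poly
  rw [map_sum]
  refine Finset.sum_congr rfl fun j _ => ?_
  rw [map_mul, map_pow, em_C, em_X]

lemma em_rpoly {N : ℕ} (c : Fin (N + 1) → k) :
    HirzChart.em (rpoly c) =
      ∑ j : Fin (N + 1), MvPolynomial.C (c j) * MvPolynomial.X 0 ^ (N - (j : ℕ)) := by
  unfold rpoly
  rw [map_sum]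
  refine Finset.sum_congr rfl fun j _ => ?_
  rw [map_mul, map_pow, em_C, em_X]

theorem pair_iff (Q Ξ : k[X]) (h0 : ¬(Q = 0 ∧ Ξ = 0)) :
    (Algebra.Smooth k (MvPolynomial (Fin 2) k ⧸ Ideal.span ({f1 Q Ξ} : Set (MvPolynomial (Fin 2) k))) ∧
      Algebra.Smooth k (MvPolynomial (Fin 2) k ⧸ Ideal.span ({f2 Q Ξ} : Set (MvPolynomial (Fin 2) k)))) ↔
    IsCoprime Q Ξ := by
  rw [HypSmooth.smooth_iff (f1 Q Ξ) (mem_nonZeroDivisors_of_ne_zero (f1_ne_zero Q Ξ h0)),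
    HypSmooth.smooth_iff (f2 Q Ξ) (mem_nonZeroDivisors_of_ne_zero (f2_ne_zero Q Ξ h0))]
  exact charts_iff Q Ξ h0

theorem main' (n : ℕ) (hn : 3 ≤ n) (q : Fin 3 → k) (ξ : Fin (n + 1) → k) (hqξ : q ≠ 0 ∨ ξ ≠ 0) :
    (Algebra.Smooth k (MvPolynomial (Fin 2) k ⧸ Ideal.span ({f1 (poly q) (poly ξ)} : Set (MvPolynomial (Fin 2) k))) ∧
      Algebra.Smooth k (MvPolynomial (Fin 2) k ⧸ Ideal.span ({f2 (poly q) (poly ξ)} : Set (MvPolynomial (Fin 2) k))) ∧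
      Algebra.Smooth k (MvPolynomial (Fin 2) k ⧸ Ideal.span ({f1 (rpoly q) (rpoly ξ)} : Set (MvPolynomial (Fin 2) k))) ∧
      Algebra.Smooth k (MvPolynomial (Fin 2) k ⧸ Ideal.span ({f2 (rpoly q) (rpoly ξ)} : Set (MvPolynomial (Fin 2) k)))) ↔
    Polynomial.resultant (poly q) (poly ξ) 2 n ≠ 0 := by
  have h0 : ¬(poly q = 0 ∧ poly ξ = 0) := by
    rintro ⟨h1, h2⟩
    rw [poly_eq_zero_iff] at h1 h2
    rcases hqξ with h | h
    · exact h h1
    · exact h h2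
  have h0r : ¬(rpoly q = 0 ∧ rpoly ξ = 0) := by
    rintro ⟨h1, h2⟩
    rw [rpoly_eq_zero_iff] at h1 h2
    rcases hqξ with h | h
    · exact h h1
    · exact h h2
  have hres := res_iff (k := k) (n := n) (by omega) q ξ
  have hp1 := pair_iff (poly q) (poly ξ) h0
  have hp2 := pair_iff (rpoly q) (rpoly ξ) h0r
  refine Iff.trans ?_ hres.symm
  refine Iff.trans ?_ (and_congr hp1 hp2)
  exact ⟨fun ⟨a, b, c, d⟩ => ⟨⟨a, b⟩, ⟨c, d⟩⟩, fun ⟨⟨a, b⟩, ⟨c, d⟩⟩ => ⟨a, b, c, d⟩⟩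

theorem main (n : ℕ) (hn : 3 ≤ n) (q : Fin 3 → k) (ξ : Fin (n + 1) → k) (hqξ : q ≠ 0 ∨ ξ ≠ 0) :
    (Algebra.Smooth k (MvPolynomial (Fin 2) k ⧸ Ideal.span ({(∑ i : Fin 3, MvPolynomial.C (q i) * MvPolynomial.X 0 ^ (i : ℕ)) + (∑ j : Fin (n + 1), MvPolynomial.C (ξ j) * MvPolynomial.X 0 ^ (j : ℕ)) * MvPolynomial.X 1} : Set (MvPolynomial (Fin 2) k))) ∧
      Algebra.Smooth k (MvPolynomial (Fin 2) k ⧸ Ideal.span ({(∑ i : Fin 3, MvPolynomial.C (q i) * MvPolynomial.X 0 ^ (i : ℕ)) * MvPolynomial.X 1 + (∑ j : Fin (n + 1), MvPolynomial.C (ξ j) * MvPolynomial.X 0 ^ (j : ℕ))} : Set (MvPolynomial (Fin 2) k))) ∧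
      Algebra.Smooth k (MvPolynomial (Fin 2) k ⧸ Ideal.span ({(∑ i : Fin 3, MvPolynomial.C (q i) * MvPolynomial.X 0 ^ (2 - (i : ℕ))) + (∑ j : Fin (n + 1), MvPolynomial.C (ξ j) * MvPolynomial.X 0 ^ (n - (j : ℕ))) * MvPolynomial.X 1} : Set (MvPolynomial (Fin 2) k))) ∧
      Algebra.Smooth k (MvPolynomial (Fin 2) k ⧸ Ideal.span ({(∑ i : Fin 3, MvPolynomial.C (q i) * MvPolynomial.X 0 ^ (2 - (i : ℕ))) * MvPolynomial.X 1 + (∑ j : Fin (n + 1), MvPolynomial.C (ξ j) * MvPolynomial.X 0 ^ (n - (j : ℕ)))} : Set (MvPolynomial (Fin 2) k)))) ↔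
    Polynomial.resultant (∑ i : Fin 3, Polynomial.C (q i) * Polynomial.X ^ (i : ℕ))
      (∑ j : Fin (n + 1), Polynomial.C (ξ j) * Polynomial.X ^ (j : ℕ)) 2 n ≠ 0 := by
  have h := main' n hn q ξ hqξ
  unfold f1 f2 at h
  rw [em_poly, em_poly, em_rpoly, em_rpoly] at h
  unfold poly at h
  exact h

end Groth.Agent.Lib.Helper20.HirzMain
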