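import Mathlib

/-! `s` is transcendental over the homogeneous localization `R_(s)`. -/

set_option autoImplicit false

namespace Groth.Agent.Lib.Helper20.HomLocTransc

universe u v

open Polynomial

theorem transcendental (K : Type u) [Field K] (R : Type v) [CommRing R]
    [IsDomain R] [Algebra K R] (𝒜 : ℕ → Submodule K R) [GradedAlgebra 𝒜] (e : ℕ) (he : 0 < e) (s : R)
    (hs : s ∈ 𝒜 e) :
    Transcendental (HomogeneousLocalization.Away 𝒜 s) (algebraMap R (Localization.Away s) s) := by
  classical
  rintro ⟨p, hp0, hp⟩
  rcases eq_or_ne s 0 with hs0 | hs0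
  · -- trivial ring
    have hsub : Subsingleton (Localization.Away s) := by
      rw [hs0]
      exact IsLocalization.subsingleton (M := Submonoid.powers (0 : R))
        ⟨1, by simp⟩
    have : Subsingleton (HomogeneousLocalization.Away 𝒜 s) :=
      HomogeneousLocalization.val_injective _ |>.subsingleton
    exact hp0 (Subsingleton.elim _ _)
  -- common exponent
  have hev : ∀ᶠ n in Filter.atTop, ∀ j ∈ p.support,
      s ^ n • (p.coeff j).val ∈ algebraMap R (Localization.Away s) '' (𝒜 (n • e) : Set R) := by
    rw [Filter.eventually_all_finset]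
    intro j _
    exact HomogeneousLocalization.Away.eventually_smul_mem hs (p.coeff j)
  obtain ⟨N, hN⟩ := hev.exists
  choose! a ha1 ha2 using hN
  have hinj : Function.Injective (algebraMap R (Localization.Away s)) :=
    IsLocalization.injective (Localization.Away s)
      (powers_le_nonZeroDivisors_of_noZeroDivisors hs0)
  -- the relation in R
  have hrel : ∑ j ∈ p.support, a j * s ^ j = 0 := by
    apply hinj
    rw [map_zero, map_sum]
    have h1 : s ^ N • (aeval (algebraMap R (Localization.Away s) s) p) = 0 := by
      rw [hp, smul_zero]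
    rw [aeval_def, eval₂_eq_sum, Polynomial.sum_def, Finset.smul_sum] at h1
    rw [← h1]
    apply Finset.sum_congr rfl
    intro j hj
    rw [map_mul, map_pow, ha2 j hj, HomogeneousLocalization.algebraMap_apply, smul_mul_assoc]
  -- each term vanishes
  have hterm : ∀ j ∈ p.support, a j * s ^ j = 0 := by
    intro j hj
    have hmem : ∀ i ∈ p.support, a i * s ^ i ∈ 𝒜 (N • e + i • e) := by
      intro i hi
      exact SetLike.mul_mem_graded (ha1 i hi) (SetLike.pow_mem_graded i hs)
    have h2 : ((DirectSum.decompose 𝒜 (∑ i ∈ p.support, a i * s ^ i) (N • e + j • e) :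
        𝒜 (N • e + j • e)) : R) = a j * s ^ j := by
      rw [DirectSum.decompose_sum, DFinsupp.finsetSum_apply, AddSubmonoidClass.coe_finsetSum,
        Finset.sum_eq_single j]
      · exact DirectSum.decompose_of_mem_same 𝒜 (hmem j hj)
      · intro i hi hij
        apply DirectSum.decompose_of_mem_ne 𝒜 (hmem i hi)
        intro h
        apply hij
        have : i * e = j * e := by simpa [smul_eq_mul] using h
        exact Nat.eq_of_mul_eq_mul_right he this
      · intro h; exact absurd hj h
    rw [hrel, DirectSum.decompose_zero] at h2
    rw [← h2]; simp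
  -- so p = 0
  apply hp0
  refine Polynomial.ext (fun j => ?_)
  rw [coeff_zero]
  by_contra hne
  have hj : j ∈ p.support := mem_support_iff.mpr hne
  have h3 := hterm j hj
  have haj : a j = 0 := by
    rcases mul_eq_zero.mp h3 with h | h
    · exact h
    · exact absurd (pow_eq_zero_iff (n := j) (by
        intro h0; subst h0; simp at h) |>.mp h) hs0
  have h4 := ha2 j hj
  rw [haj, map_zero] at h4
  have hunit : IsUnit (algebraMap R (Localization.Away s) (s ^ N)) := by
    rw [map_pow]
    exact (IsLocalization.Away.algebraMap_isUnit s).pow N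
  have h5 : (p.coeff j).val = 0 := by
    rw [Algebra.smul_def] at h4
    exact (hunit.mul_right_eq_zero).mp h4.symm
  apply hne
  apply HomogeneousLocalization.val_injective (Submonoid.powers s)
  rw [h5, HomogeneousLocalization.val_zero]

end Groth.Agent.Lib.Helper20.HomLocTransc
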