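import Mathlib
import Groth.Agent.Lib.Helper20.HomPrimeAvoid

namespace Groth.Agent.Lib.Helper20.HomPrimeAvoid2

open Groth.Agent.Lib.Helper20.HomPrimeAvoid

variable {R A : Type*} [CommRing R] [CommRing A] [Algebra R A]
variable (𝒜 : ℕ → Submodule R A) [GradedAlgebra 𝒜]

theorem result' (J : Ideal A) (hJ : J.IsHomogeneous 𝒜) (P : Finset (Ideal A))
    (hP : ∀ p ∈ P, p.IsPrime ∧ ¬ (HomogeneousIdeal.irrelevant 𝒜).toIdeal ≤ p ∧ ¬ J ≤ p) :
    ∃ (z : A) (n : ℕ), 0 < n ∧ z ∈ 𝒜 n ∧ z ∈ J ∧ ∀ p ∈ P, z ∉ p := by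
  classical
  let J' : HomogeneousIdeal 𝒜 := ⟨J, hJ⟩
  let I : HomogeneousIdeal 𝒜 := J' ⊓ HomogeneousIdeal.irrelevant 𝒜
  have hI : I ≤ HomogeneousIdeal.irrelevant 𝒜 := inf_le_right
  have hItoJ : I.toIdeal ≤ J := by
    rw [HomogeneousIdeal.toIdeal_inf]
    exact inf_le_left
  obtain ⟨x, d, hd, hxd, hxI, hxp⟩ := avoid 𝒜 (fun p : Ideal A => p) I hI P.card P rfl
    (fun p hp => (hP p hp).1) (fun p hp hle => by
      obtain ⟨hprime, h1, h2⟩ := hP p hp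
      have hmul : J * (HomogeneousIdeal.irrelevant 𝒜).toIdeal ≤ p := by
        refine le_trans ?_ hle
        rw [HomogeneousIdeal.toIdeal_inf]
        exact Ideal.mul_le_inf
      rcases hprime.mul_le.1 hmul with h | h
      · exact h2 h
      · exact h1 h)
  exact ⟨x, d, hd, hxd, hItoJ hxI, hxp⟩

end Groth.Agent.Lib.Helper20.HomPrimeAvoid2
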