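import Mathlib
import Groth.Agent.Lib.Helper20.HopfPrimeA

set_option autoImplicit false
set_option linter.unusedSectionVars false
set_option linter.style.haveILetI false
universe u w

namespace Groth.Agent.Lib.Helper20.HopfPrime

open TensorProduct

section generic

variable {R : Type u} [CommRing R] {B : Type w} [Ring B] [Algebra R B] {n : ℕ}
  (b : Module.Basis (Fin n) R B)

/-- determinant of the coordinates of the first `n` powers of `x` -/
noncomputable def dL (L : Type*) [CommRing L] [Algebra R L] (x : L ⊗[R] B) : L :=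
  (b.baseChange L).det (fun j : Fin n => x ^ (j : ℕ))

lemma repr_map {L L' : Type*} [CommRing L] [Algebra R L] [CommRing L'] [Algebra R L']
    (f : L →ₐ[R] L') (y : L ⊗[R] B) (i : Fin n) :
    (b.baseChange L').repr (Algebra.TensorProduct.map f (AlgHom.id R B) y) i =
      f ((b.baseChange L).repr y i) := by
  induction y using TensorProduct.induction_on with
  | zero => simp
  | add x y hx hy => simp only [map_add, Finsupp.add_apply, hx, hy]
  | tmul l m =>
    rw [Algebra.TensorProduct.map_tmul, Module.Basis.baseChange_repr_tmul,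
      Module.Basis.baseChange_repr_tmul, AlgHom.id_apply, map_smul]

lemma dL_map {L L' : Type*} [CommRing L] [Algebra R L] [CommRing L'] [Algebra R L']
    (f : L →ₐ[R] L') (x : L ⊗[R] B) :
    dL b L' (Algebra.TensorProduct.map f (AlgHom.id R B) x) = f (dL b L x) := by
  unfold dL
  rw [Module.Basis.det_apply, Module.Basis.det_apply]
  have : (b.baseChange L').toMatrix
      (fun j : Fin n => (Algebra.TensorProduct.map f (AlgHom.id R B) x) ^ (j : ℕ)) =
      (f : L →+* L').mapMatrix ((b.baseChange L).toMatrix (fun j : Fin n => x ^ (j : ℕ))) := by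
    ext i j
    rw [Module.Basis.toMatrix_apply, ← map_pow, repr_map]
    rfl
  rw [this]
  exact (RingHom.map_det (f : L →+* L') _).symm

/-- the generic element -/
noncomputable def gen : MvPolynomial (Fin n) R ⊗[R] B := ∑ i, MvPolynomial.X i ⊗ₜ[R] b i

/-- the generic determinant -/
noncomputable def PP : MvPolynomial (Fin n) R := dL b (MvPolynomial (Fin n) R) (gen b)

lemma map_gen {L : Type*} [CommRing L] [Algebra R L] (y : L ⊗[R] B) :
    Algebra.TensorProduct.map (MvPolynomial.aeval fun i => (b.baseChange L).repr y i)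
      (AlgHom.id R B) (gen b) = y := by
  unfold gen
  rw [map_sum]
  conv_rhs => rw [← (b.baseChange L).sum_repr y]
  refine Finset.sum_congr rfl fun i _ => ?_
  rw [Algebra.TensorProduct.map_tmul, MvPolynomial.aeval_X, AlgHom.id_apply,
    Module.Basis.baseChange_apply, TensorProduct.smul_tmul', smul_eq_mul, mul_one]

lemma dL_eq_aeval {L : Type*} [CommRing L] [Algebra R L] (y : L ⊗[R] B) :
    dL b L y = MvPolynomial.aeval (fun i => (b.baseChange L).repr y i) (PP b) := by
  unfold PP
  rw [← dL_map, map_gen]

/-- if the determinant is a unit, the powers span -/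
lemma span_of_isUnit_dL {L : Type*} [CommRing L] [Algebra R L] (x : L ⊗[R] B)
    (h : IsUnit (dL b L x)) :
    Submodule.span L (Set.range fun j : Fin n => x ^ (j : ℕ)) = ⊤ :=
  ((b.baseChange L).is_basis_iff_det.mpr h).2

lemma dL_ne_zero_of_span {K : Type*} [Field K] [Algebra R K] (y : K ⊗[R] B)
    (hy : Submodule.span K (Set.range fun j : Fin n => y ^ (j : ℕ)) = ⊤) : dL b K y ≠ 0 := by
  have hfin : Module.finrank K (K ⊗[R] B) = Fintype.card (Fin n) :=
    Module.finrank_eq_card_basis (b.baseChange K)
  haveI : Module.Finite K (K ⊗[R] B) := Module.Finite.of_basis (b.baseChange K)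
  have hli : LinearIndependent K (fun j : Fin n => y ^ (j : ℕ)) :=
    linearIndependent_of_top_le_span_of_card_eq_finrank hy.ge hfin.symm
  exact ((b.baseChange K).is_basis_iff_det.mp ⟨hli, hy⟩).ne_zero

include b in
/-- **monogenic on the geometric fibre implies commutative** -/
theorem comm_of_generic [IsLocalRing R] (K : Type*) [Field K] [Algebra R K]
    (hK : ∀ r : R, r ∈ IsLocalRing.maximalIdeal R → algebraMap R K r = 0)
    (y : K ⊗[R] B)
    (hy : Submodule.span K (Set.range fun j : Fin n => y ^ (j : ℕ)) = ⊤) (x₁ x₂ : B) :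
    x₁ * x₂ = x₂ * x₁ := by
  classical
  set c : Fin n → K := fun i => (b.baseChange K).repr y i with hc
  have hP : MvPolynomial.aeval c (PP b) ≠ 0 := by
    rw [← dL_eq_aeval]; exact dL_ne_zero_of_span b y hy
  set P := PP b with hPdef
  -- the localization
  let R'' := Localization.Away P
  have hinj : Function.Injective (algebraMap R R'') := by
    rw [injective_iff_map_eq_zero]
    intro r hr
    rw [IsScalarTower.algebraMap_apply R (MvPolynomial (Fin n) R) R'',
      IsLocalization.map_eq_zero_iff (Submonoid.powers P)] at hr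
    obtain ⟨⟨m, ⟨k, rfl⟩⟩, hm⟩ := hr
    by_contra hr0
    have hcoef : ∀ d, (P ^ k).coeff d ∈ IsLocalRing.maximalIdeal R := by
      intro d
      by_contra hd
      have hu : IsUnit ((P ^ k).coeff d) := by
        by_contra hnu
        exact hd ((IsLocalRing.mem_maximalIdeal _).mpr hnu)
      have h1 := congrArg (MvPolynomial.coeff d) hm
      rw [MvPolynomial.algebraMap_eq, mul_comm, MvPolynomial.coeff_C_mul, MvPolynomial.coeff_zero,
        mul_comm] at h1
      exact hr0 (hu.mul_right_eq_zero.mp h1)
    have h2 : MvPolynomial.aeval c (P ^ k) = 0 := by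
      rw [MvPolynomial.aeval_def, MvPolynomial.eval₂_eq]
      refine Finset.sum_eq_zero fun d _ => ?_
      rw [hK _ (hcoef d), zero_mul]
    rw [map_pow] at h2
    exact hP (eq_zero_of_pow_eq_zero h2)
  -- the generic element generates after inverting `P`
  set β'' : R'' ⊗[R] B := Algebra.TensorProduct.map
    (IsScalarTower.toAlgHom R (MvPolynomial (Fin n) R) R'') (AlgHom.id R B) (gen b) with hβ
  have hunit : IsUnit (dL b R'' β'') := by
    rw [hβ, dL_map]
    exact IsLocalization.Away.algebraMap_isUnit P
  have hspan := span_of_isUnit_dL b β'' hunit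
  have hcomm : ∀ z₁ z₂ : R'' ⊗[R] B, z₁ * z₂ = z₂ * z₁ := by
    intro z₁ z₂
    refine comm_of_span (k := R'') _ ?_ hspan z₁ z₂
    rintro _ ⟨i, rfl⟩ _ ⟨j, rfl⟩
    exact (Commute.refl β'').pow_pow _ _
  -- `B` embeds
  have hι : Function.Injective (Algebra.TensorProduct.includeRight : B →ₐ[R] R'' ⊗[R] B) := by
    rw [injective_iff_map_eq_zero]
    intro m hm
    apply b.repr.injective
    ext i
    have h1 := congrArg (fun z => (b.baseChange R'').repr z i) hm
    simp only [Algebra.TensorProduct.includeRight_apply, Module.Basis.baseChange_repr_tmul,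
      map_zero, Finsupp.zero_apply] at h1
    rw [Algebra.smul_def, mul_one] at h1
    rw [map_zero, Finsupp.zero_apply]
    exact (injective_iff_map_eq_zero _).mp hinj _ h1
  apply hι
  rw [map_mul, map_mul, hcomm]

include b in
/-- variant: the geometric fibre is given as a `K`-algebra `C` with a compatible basis -/
theorem comm_of_generic' [IsLocalRing R] (K : Type*) [Field K] [Algebra R K]
    (hK : ∀ r : R, r ∈ IsLocalRing.maximalIdeal R → algebraMap R K r = 0)
    (C : Type*) [Ring C] [Algebra K C] [Algebra R C] [IsScalarTower R K C]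
    (g : B →ₐ[R] C) (c : Module.Basis (Fin n) K C) (hgc : ∀ i, g (b i) = c i)
    (β₀ : C) (hβ₀ : Submodule.span K (Set.range fun j : Fin n => β₀ ^ (j : ℕ)) = ⊤)
    (x₁ x₂ : B) : x₁ * x₂ = x₂ * x₁ := by
  have hfg : ∀ (s : K) (x : B), Commute (Algebra.ofId K C s) (g x) :=
    fun s x => Algebra.commute_algebraMap_left s (g x)
  let Ψ : K ⊗[R] B →ₐ[K] C := Algebra.TensorProduct.lift (Algebra.ofId K C) g hfg
  let e : K ⊗[R] B ≃ₗ[K] C := (b.baseChange K).equiv c (Equiv.refl _)
  have heΨ : ∀ z, e z = Ψ z := by
    intro z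
    have : e.toLinearMap = Ψ.toLinearMap := by
      apply (b.baseChange K).ext
      intro i
      rw [LinearEquiv.coe_coe, Module.Basis.equiv_apply, Equiv.refl_apply, AlgHom.toLinearMap_apply,
        Module.Basis.baseChange_apply]
      change c i = Algebra.TensorProduct.lift (Algebra.ofId K C) g hfg (1 ⊗ₜ[R] b i)
      rw [Algebra.TensorProduct.lift_tmul, map_one, one_mul, hgc]
    exact congrArg (fun f => f z) this
  set y := e.symm β₀ with hy
  have hΨy : Ψ y = β₀ := by rw [← heΨ, hy, LinearEquiv.apply_symm_apply]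
  have hpow : ∀ j : ℕ, e.symm (β₀ ^ j) = y ^ j := by
    intro j
    apply e.injective
    rw [LinearEquiv.apply_symm_apply, heΨ, map_pow, hΨy]
  have hspan : Submodule.span K (Set.range fun j : Fin n => y ^ (j : ℕ)) = ⊤ := by
    have h1 := congrArg (Submodule.map e.symm.toLinearMap) hβ₀
    rw [Submodule.map_span, Submodule.map_top, LinearMap.range_eq_top.mpr e.symm.surjective,
      ← Set.range_comp] at h1
    rw [← h1]
    congr 2
    funext j
    exact (hpow j).symm
  exact comm_of_generic b K hK y hspan x₁ x₂

end generic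

end Groth.Agent.Lib.Helper20.HopfPrime
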