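import Mathlib
import Groth.Agent.Lib.Helper20.HopfPrimeG
import Groth.Agent.Lib.Helper20.HopfPrimeE

set_option autoImplicit false
set_option linter.unusedSectionVars false
set_option linter.style.haveILetI false
universe u v w

namespace Groth.Agent.Lib.Helper20.HopfPrime

open TensorProduct Coalgebra WithConv

section dualBC

variable {R : Type u} [CommRing R] (S : Type w) [CommRing S] [Algebra R S]
  {A : Type v} [AddCommGroup A] [Module R A] [Coalgebra R A]

/-- base change of a functional -/
noncomputable def bc : (A →ₗ[R] R) →ₗ[R] ((S ⊗[R] A) →ₗ[S] S) :=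
  (LinearMap.llcomp S (S ⊗[R] A) (S ⊗[R] R) S
    (AlgebraTensorModule.rid R S S).toLinearMap).restrictScalars R ∘ₗ
    LinearMap.baseChangeHom R S A R

lemma bc_tmul (φ : A →ₗ[R] R) (s : S) (a : A) : bc S φ (s ⊗ₜ[R] a) = φ a • s := by
  simp [bc]

lemma bc_mul_aux (φ₁ φ₂ : A →ₗ[R] R) (s : S) (z : A ⊗[R] A) :
    LinearMap.mul' S S (TensorProduct.map (bc S φ₁) (bc S φ₂)
      (AlgebraTensorModule.tensorTensorTensorComm R S R S S S A A
        (((1 : S) ⊗ₜ[S] s) ⊗ₜ[R] z))) = (LinearMap.mul' R R (TensorProduct.map φ₁ φ₂ z)) • s := by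
  induction z using TensorProduct.induction_on with
  | zero => simp
  | add x y hx hy => simp only [tmul_add, map_add, hx, hy, add_smul]
  | tmul x y =>
    simp only [AlgebraTensorModule.tensorTensorTensorComm_tmul, TensorProduct.map_tmul, bc_tmul,
      LinearMap.mul'_apply, Algebra.smul_def, mul_one, map_mul]
    ring

lemma bc_mul (φ₁ φ₂ : WithConv (A →ₗ[R] R)) :
    toConv (bc S (φ₁ * φ₂).ofConv) = toConv (bc S φ₁.ofConv) * toConv (bc S φ₂.ofConv) := by
  apply WithConv.ofConv_injective
  apply TensorProduct.AlgebraTensorModule.ext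
  intro s a
  rw [WithConv.ofConv_toConv, bc_tmul]
  change (φ₁ * φ₂) a • s = (toConv (bc S φ₁.ofConv) * toConv (bc S φ₂.ofConv)) (s ⊗ₜ[R] a)
  rw [LinearMap.convMul_apply, LinearMap.convMul_apply, TensorProduct.comul_tmul,
    CommSemiring.comul_apply]
  exact (bc_mul_aux S φ₁.ofConv φ₂.ofConv s (comul a)).symm

lemma bc_one : toConv (bc S (1 : WithConv (A →ₗ[R] R)).ofConv) = 1 := by
  apply WithConv.ofConv_injective
  apply TensorProduct.AlgebraTensorModule.ext
  intro s a
  rw [WithConv.ofConv_toConv, bc_tmul]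
  simp [LinearMap.convOne_def, TensorProduct.counit_tmul]

instance : IsScalarTower R S (WithConv ((S ⊗[R] A) →ₗ[S] S)) :=
  ⟨fun r s c => by
    apply WithConv.ofConv_injective
    ext x
    simp [smul_assoc]⟩

/-- base change of functionals as an algebra homomorphism of convolution algebras -/
noncomputable def bcAlg : WithConv (A →ₗ[R] R) →ₐ[R] WithConv ((S ⊗[R] A) →ₗ[S] S) :=
  AlgHom.ofLinearMap
    ((WithConv.linearEquiv R ((S ⊗[R] A) →ₗ[S] S)).symm.toLinearMap ∘ₗ bc S ∘ₗ
      (WithConv.linearEquiv R (A →ₗ[R] R)).toLinearMap)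
    (bc_one S) (bc_mul S)

lemma bcAlg_apply (φ : WithConv (A →ₗ[R] R)) :
    bcAlg (R := R) (A := A) S φ = toConv (bc S φ.ofConv) := rfl

end dualBC

section localCase

variable (R : Type u) [CommRing R] [IsLocalRing R] (A : Type v) [CommRing A] [HopfAlgebra R A]
  [Module.Finite R A] [Module.Free R A]

/-- over a local ring, the dual of a finite free commutative Hopf algebra of prime rank is
commutative -/
theorem conv_comm_local (p : ℕ) (hp : p.Prime) (hA : Module.finrank R A = p)
    (φ ψ : WithConv (A →ₗ[R] R)) : φ * ψ = ψ * φ := by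
  classical
  let κ := IsLocalRing.ResidueField R
  let K := AlgebraicClosure κ
  have hK : ∀ r : R, r ∈ IsLocalRing.maximalIdeal R → algebraMap R K r = 0 := by
    intro r hr
    rw [IsScalarTower.algebraMap_apply R κ K]
    have : algebraMap R κ r = 0 := (IsLocalRing.residue_eq_zero_iff r).mpr hr
    rw [this, map_zero]
  have hfin : Module.finrank K (K ⊗[R] A) = p := by rw [Module.finrank_baseChange, hA]
  obtain ⟨β₀, hβ₀⟩ := exists_gen_of_prime K (K ⊗[R] A) p hp hfin
  let a : Module.Basis (Fin p) R A := Module.finBasisOfFinrankEq R A hA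
  let b : Module.Basis (Fin p) R (WithConv (A →ₗ[R] R)) :=
    a.dualBasis.map (WithConv.linearEquiv R (A →ₗ[R] R)).symm
  let c : Module.Basis (Fin p) K (WithConv ((K ⊗[R] A) →ₗ[K] K)) :=
    (a.baseChange K).dualBasis.map (WithConv.linearEquiv K ((K ⊗[R] A) →ₗ[K] K)).symm
  refine comm_of_generic' b K hK (WithConv ((K ⊗[R] A) →ₗ[K] K)) (bcAlg K) c ?_ β₀ hβ₀ φ ψ
  intro i
  apply WithConv.ofConv_injective
  apply (a.baseChange K).ext
  intro j
  rw [bcAlg_apply, WithConv.ofConv_toConv, Module.Basis.baseChange_apply, bc_tmul]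
  have h1 : (b i).ofConv (a j) = if j = i then 1 else 0 := by
    change a.dualBasis i (a j) = _
    rw [Module.Basis.dualBasis_apply_self]
  have h2 : (c i).ofConv ((1 : K) ⊗ₜ[R] a j) = if j = i then 1 else 0 := by
    change (a.baseChange K).dualBasis i ((1 : K) ⊗ₜ[R] a j) = _
    rw [← Module.Basis.baseChange_apply, Module.Basis.dualBasis_apply_self]
  rw [h1, h2]
  split_ifs <;> simp

end localCase

end Groth.Agent.Lib.Helper20.HopfPrime
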