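import Mathlib
import Groth.Agent.Lib.Helper20.HopfPrimeH

set_option autoImplicit false
set_option linter.unusedSectionVars false
set_option linter.style.haveILetI false
universe u v w

namespace Groth.Agent.Lib.Helper20.HopfPrime

open TensorProduct Coalgebra WithConv

section descent

variable (R : Type u) [CommRing R] (S : Type w) [CommRing S] [Algebra R S]
  (A : Type v) [AddCommGroup A] [Module R A] [Coalgebra R A]

/-- `(S ⊗ A) ⊗_S (S ⊗ A) ≃ S ⊗ (A ⊗ A)` -/
noncomputable def Φ : (S ⊗[R] A) ⊗[S] (S ⊗[R] A) ≃ₗ[R] S ⊗[R] (A ⊗[R] A) :=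
  (TensorProduct.AlgebraTensorModule.cancelBaseChange R S S (S ⊗[R] A) A).restrictScalars R ≪≫ₗ
    TensorProduct.assoc R S A A

theorem Φ_tmul (x y : S) (a b : A) :
    Φ R S A ((x ⊗ₜ[R] a) ⊗ₜ[S] (y ⊗ₜ[R] b)) = (y * x) ⊗ₜ[R] (a ⊗ₜ[R] b) := by
  unfold Φ
  rw [LinearEquiv.trans_apply, LinearEquiv.restrictScalars_apply,
    TensorProduct.AlgebraTensorModule.cancelBaseChange_tmul, TensorProduct.smul_tmul',
    smul_eq_mul, TensorProduct.assoc_tmul]

theorem Φ_comul_aux (s : S) (z : A ⊗[R] A) :
    Φ R S A (AlgebraTensorModule.tensorTensorTensorComm R S R S S S A A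
        (((1 : S) ⊗ₜ[S] s) ⊗ₜ[R] z)) = s ⊗ₜ[R] z := by
  induction z using TensorProduct.induction_on with
  | zero => simp
  | add x y hx hy => simp only [tmul_add, map_add, hx, hy]
  | tmul x y =>
    rw [AlgebraTensorModule.tensorTensorTensorComm_tmul, Φ_tmul, mul_one]

theorem Φ_comul (s : S) (a : A) :
    Φ R S A (comul (R := S) (s ⊗ₜ[R] a)) = s ⊗ₜ[R] comul (R := R) a := by
  rw [TensorProduct.comul_tmul, CommSemiring.comul_apply, Φ_comul_aux]

theorem Φ_comm (z : (S ⊗[R] A) ⊗[S] (S ⊗[R] A)) :
    Φ R S A (TensorProduct.comm S (S ⊗[R] A) (S ⊗[R] A) z) =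
      LinearMap.lTensor S (TensorProduct.comm R A A).toLinearMap (Φ R S A z) := by
  induction z using TensorProduct.induction_on with
  | zero => simp
  | tmul y₁ y₂ =>
    induction y₁ using TensorProduct.induction_on with
    | zero => simp
    | tmul x a =>
      induction y₂ using TensorProduct.induction_on with
      | zero => simp
      | tmul y b =>
        rw [TensorProduct.comm_tmul, Φ_tmul, Φ_tmul, LinearMap.lTensor_tmul, LinearEquiv.coe_coe,
          TensorProduct.comm_tmul, mul_comm]
      | add z₁ z₂ h₁ h₂ =>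
        rw [TensorProduct.tmul_add, map_add, map_add, map_add, map_add, h₁, h₂]
    | add z₁ z₂ h₁ h₂ =>
      rw [TensorProduct.add_tmul, map_add, map_add, map_add, map_add, h₁, h₂]
  | add z₁ z₂ h₁ h₂ => rw [map_add, map_add, map_add, map_add, h₁, h₂]

/-- the base change kills the cocommutativity defect -/
theorem one_tmul_defect [Coalgebra.IsCocomm S (S ⊗[R] A)] (a : A) :
    (1 : S) ⊗ₜ[R] ((TensorProduct.comm R A A) (comul (R := R) a)) =
      (1 : S) ⊗ₜ[R] comul (R := R) a := by
  have h1 : (1 : S) ⊗ₜ[R] comul (R := R) a = Φ R S A (comul (R := S) ((1 : S) ⊗ₜ[R] a)) := by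
    rw [Φ_comul]
  have h2 : (1 : S) ⊗ₜ[R] ((TensorProduct.comm R A A) (comul (R := R) a)) =
      LinearMap.lTensor S (TensorProduct.comm R A A).toLinearMap
        ((1 : S) ⊗ₜ[R] comul (R := R) a) := by
    rw [LinearMap.lTensor_tmul, LinearEquiv.coe_coe]
  rw [h2, h1, ← Φ_comm, Coalgebra.comm_comul]

/-- cocommutativity is local on the base -/
theorem isCocomm_of_localizations
    (h : ∀ (P : Ideal R) [P.IsMaximal],
      Coalgebra.IsCocomm (Localization.AtPrime P) (Localization.AtPrime P ⊗[R] A)) :
    Coalgebra.IsCocomm R A where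
  comm_comp_comul := by
    ext a
    change (TensorProduct.comm R A A) (comul (R := R) a) = comul (R := R) a
    rw [← sub_eq_zero]
    set z := (TensorProduct.comm R A A) (comul (R := R) a) - comul (R := R) a with hz
    by_contra hz0
    let I : Ideal R := LinearMap.ker (LinearMap.toSpanSingleton R (A ⊗[R] A) z)
    have hI : I ≠ ⊤ := by
      intro htop
      have h1 : (1 : R) ∈ I := by rw [htop]; trivial
      rw [LinearMap.mem_ker, LinearMap.toSpanSingleton_apply, one_smul] at h1
      exact hz0 h1
    obtain ⟨P, hP, hle⟩ := Ideal.exists_le_maximal I hI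
    haveI := hP
    haveI := h P
    have h0 : TensorProduct.mk R (Localization.AtPrime P) (A ⊗[R] A) 1 z = 0 := by
      rw [TensorProduct.mk_apply, hz, tmul_sub, sub_eq_zero]
      exact one_tmul_defect R (Localization.AtPrime P) A a
    obtain ⟨s, hs⟩ := (IsLocalizedModule.eq_zero_iff P.primeCompl
      (TensorProduct.mk R (Localization.AtPrime P) (A ⊗[R] A) 1)).mp h0
    apply s.2
    apply hle
    rw [LinearMap.mem_ker, LinearMap.toSpanSingleton_apply]
    exact hs

end descent

section final

/-- **finite locally free group schemes of prime order are commutative** -/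
theorem isCocomm_of_rank_prime (R : Type u) [CommRing R] (p : ℕ) (hp : p.Prime)
    (A : Type v) [CommRing A] [HopfAlgebra R A] [Module.Finite R A] [Module.Projective R A]
    (hrank : ∀ q : PrimeSpectrum R, Module.rankAtStalk A q = p) :
    Coalgebra.IsCocomm R A := by
  apply isCocomm_of_localizations
  intro P hP
  haveI : Module.Free (Localization.AtPrime P) (Localization.AtPrime P ⊗[R] A) :=
    Module.free_of_flat_of_isLocalRing
  have hfin : Module.finrank (Localization.AtPrime P) (Localization.AtPrime P ⊗[R] A) = p := by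
    rw [← Module.rankAtStalk_eq_finrank_tensorProduct ⟨P, hP.isPrime⟩]
    exact hrank _
  exact isCocomm_of_conv_comm
    (conv_comm_local (Localization.AtPrime P) (Localization.AtPrime P ⊗[R] A) p hp hfin)

end final

end Groth.Agent.Lib.Helper20.HopfPrime
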