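import Mathlib
import Groth.Prelude.Def_ConstGrp
import Groth.Agent.Lib.Helper20.HopfPrimeB

set_option autoImplicit false
set_option linter.unusedSectionVars false
set_option linter.style.haveILetI false
universe u v w

namespace Groth.Agent.Lib.Helper20.HopfPrime

open TensorProduct Coalgebra WithConv

section etale

variable {k : Type u} [Field k] {A : Type v} [CommRing A] [HopfAlgebra k A] [Module.Finite k A]

/-- if there are as many points as the dimension, the points span the dual -/
theorem points_span (hcard : Nat.card (WithConv (A →ₐ[k] k)) = Module.finrank k A) :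
    Submodule.span k (Set.range fun γ : A →ₐ[k] k => γ.toLinearMap) = ⊤ := by
  classical
  haveI : Nontrivial A := (Bialgebra.counitAlgHom k A).toRingHom.domain_nontrivial
  have hpos : 0 < Module.finrank k A := Module.finrank_pos
  haveI : Finite (A →ₐ[k] k) := by
    have : Nat.card (A →ₐ[k] k) = Module.finrank k A := by
      rw [← hcard]; exact Nat.card_congr (WithConv.equiv _).symm
    exact Nat.finite_of_card_ne_zero (by rw [this]; exact hpos.ne')
  haveI : Fintype (A →ₐ[k] k) := Fintype.ofFinite _
  have hli : LinearIndependent k (fun γ : A →ₐ[k] k => γ.toLinearMap) :=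
    linearIndependent_algHom_toLinearMap k A k
  apply hli.span_eq_top_of_card_eq_finrank'
  rw [Subspace.dual_finrank_eq, ← hcard, ← Nat.card_eq_fintype_card]
  exact Nat.card_congr (WithConv.equiv _).symm

variable {G : Type w} [Group G] [Fintype G] [DecidableEq G] (ψ : G →* WithConv (A →ₐ[k] k))

/-- evaluation at the points -/
noncomputable def Θ : A →ₐ[k] ConstGrp.F k G :=
  (ConstGrp.equivFun k G).symm.toAlgHom.comp (AlgHom.pi (fun g : G => (ψ g).ofConv))

lemma Θ_apply (a : A) (g : G) : Θ ψ a g = (ψ g).ofConv a := rfl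

lemma Θ_map_aux (z : A ⊗[k] A) :
    Algebra.TensorProduct.map (Θ ψ) (Θ ψ) z =
      ∑ m : G, ∑ n : G, (Algebra.TensorProduct.lift (ψ m).ofConv (ψ n).ofConv
        (fun _ _ => Commute.all _ _) z) • (ConstGrp.e k m ⊗ₜ[k] ConstGrp.e k n) := by
  induction z using TensorProduct.induction_on with
  | zero => simp
  | add x y hx hy =>
    simp only [map_add, add_smul, Finset.sum_add_distrib, hx, hy]
  | tmul x y =>
    rw [Algebra.TensorProduct.map_tmul]
    conv_lhs => rw [ConstGrp.eq_sum_smul_e (Θ ψ x), ConstGrp.eq_sum_smul_e (Θ ψ y)]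
    rw [TensorProduct.sum_tmul]
    refine Finset.sum_congr rfl fun m _ => ?_
    rw [TensorProduct.tmul_sum]
    refine Finset.sum_congr rfl fun n _ => ?_
    rw [TensorProduct.smul_tmul_smul, Algebra.TensorProduct.lift_tmul, Θ_apply, Θ_apply]

/-- evaluation at the points as a bialgebra map -/
noncomputable def ΘB : A →ₐc[k] ConstGrp.F k G :=
  BialgHom.ofAlgHom (Θ ψ)
    (by
      ext a
      rw [AlgHom.comp_apply]
      change (Θ ψ a) 1 = counit (R := k) a
      rw [Θ_apply, map_one]
      simp)
    (by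
      ext a
      rw [AlgHom.comp_apply, AlgHom.comp_apply]
      change Algebra.TensorProduct.map (Θ ψ) (Θ ψ) (comul (R := k) a) = comul (R := k) (Θ ψ a)
      rw [Θ_map_aux, ConstGrp.comul_eq_sum]
      refine Finset.sum_congr rfl fun m _ => Finset.sum_congr rfl fun n _ => ?_
      rw [Θ_apply, map_mul, AlgHom.convMul_apply])

lemma ΘB_apply (a : A) (g : G) : ΘB ψ a g = (ψ g).ofConv a := rfl

theorem ΘB_bijective (hψ : Function.Bijective ψ) (hcard : Fintype.card G = Module.finrank k A) :
    Function.Bijective (ΘB ψ) := by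
  have hcard' : Nat.card (WithConv (A →ₐ[k] k)) = Module.finrank k A := by
    rw [← hcard, ← Nat.card_eq_fintype_card]
    exact (Nat.card_congr (Equiv.ofBijective ψ hψ)).symm
  have hspan := points_span (k := k) (A := A) hcard'
  have hinj : Function.Injective (ΘB ψ) := by
    rw [injective_iff_map_eq_zero]
    intro a ha
    rw [← Module.forall_dual_apply_eq_zero_iff k a]
    intro φ
    have hφ : φ ∈ Submodule.span k (Set.range fun γ : A →ₐ[k] k => γ.toLinearMap) := by
      rw [hspan]; trivial
    induction hφ using Submodule.span_induction with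
    | mem y hy =>
      obtain ⟨γ, rfl⟩ := hy
      obtain ⟨g, hg⟩ := hψ.2 (toConv γ)
      have := congrFun ha g
      rw [ΘB_apply, hg] at this
      exact this
    | zero => rfl
    | add x y _ _ hx hy => rw [LinearMap.add_apply, hx, hy, add_zero]
    | smul c x _ hx => rw [LinearMap.smul_apply, hx, smul_zero]
  refine ⟨hinj, ?_⟩
  have hfin : Module.finrank k A = Module.finrank k (ConstGrp.F k G) := by
    rw [Module.finrank_eq_card_basis (ConstGrp.basis k G), hcard]
  exact (LinearMap.injective_iff_surjective_of_finrank_eq_finrank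
    (f := (ΘB ψ : A →ₐ[k] ConstGrp.F k G).toLinearMap) hfin).mp hinj

theorem nonempty_bialgEquiv_constGrp (ψ : G ≃* WithConv (A →ₐ[k] k))
    (hcard : Fintype.card G = Module.finrank k A) :
    Nonempty (A ≃ₐc[k] ConstGrp.F k G) :=
  ⟨BialgEquiv.ofBijective (ΘB ψ.toMonoidHom) (ΘB_bijective ψ.toMonoidHom ψ.bijective hcard)⟩

end etale

theorem nonempty_mulEquiv_zmod (H : Type*) [Group H] (ℓ : ℕ) (hℓ : ℓ.Prime)
    (hcard : Nat.card H = ℓ) : Nonempty (Multiplicative (ZMod ℓ) ≃* H) := by
  subst hcard
  haveI : Fact (Nat.card H).Prime := ⟨hℓ⟩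
  exact ⟨zmodCyclicMulEquiv (isCyclic_of_prime_card rfl)⟩

section etale2

variable {k : Type u} [Field k] {A : Type v} [CommRing A] [HopfAlgebra k A] [Module.Finite k A]

/-- a Hopf algebra of prime dimension `ℓ` with `ℓ` points is the constant group `ℤ/ℓ` -/
theorem nonempty_bialgEquiv_zmod (ℓ : ℕ) (hℓ : ℓ.Prime) (hA : Module.finrank k A = ℓ)
    (hcard : Nat.card (WithConv (A →ₐ[k] k)) = ℓ)
    [Fintype (Multiplicative (ZMod ℓ))] [DecidableEq (Multiplicative (ZMod ℓ))] :
    Nonempty (A ≃ₐc[k] ConstGrp.F k (Multiplicative (ZMod ℓ))) := by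
  obtain ⟨ψ⟩ := nonempty_mulEquiv_zmod (WithConv (A →ₐ[k] k)) ℓ hℓ hcard
  refine nonempty_bialgEquiv_constGrp ψ ?_
  rw [hA, ← Nat.card_eq_fintype_card, Nat.card_congr ψ.toEquiv, hcard]

end etale2

end Groth.Agent.Lib.Helper20.HopfPrime
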