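import Mathlib
import Groth.Prelude.Def_AlphaP

set_option autoImplicit false
set_option linter.unusedSectionVars false
set_option linter.style.haveILetI false
universe u v

namespace Groth.Agent.Lib.Helper20.HopfPrime

open TensorProduct Coalgebra

section alphaP

variable (k : Type u) [Field k] (p : ℕ) [hp : Fact p.Prime] [CharP k p]
  (H : Type v) [CommRing H] [Bialgebra k H] [Module.Finite k H]

lemma pow_finrank_eq_zero_of_isNilpotent (x : H) (hnil : IsNilpotent x) :
    x ^ Module.finrank k H = 0 := by
  have h1 : IsNilpotent (Algebra.lmul k H x) := hnil.map (Algebra.lmul k H)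
  have h2 := IsNilpotent.charpoly_eq_X_pow_finrank h1
  have h3 := LinearMap.aeval_self_charpoly (Algebra.lmul k H x)
  rw [h2, map_pow, Polynomial.aeval_X, ← map_pow] at h3
  have h4 := congrArg (fun f : Module.End k H => f 1) h3
  simpa using h4

/-- a bialgebra of dimension `p` in characteristic `p` generated by a nilpotent primitive element
is `α_p` -/
theorem nonempty_bialgEquiv_alphaP (hH : Module.finrank k H = p) (x : H)
    (hprim : comul (R := k) x = x ⊗ₜ[k] (1 : H) + (1 : H) ⊗ₜ[k] x)
    (hnil : IsNilpotent x)
    (hspan : Submodule.span k (Set.range fun i : Fin p => x ^ (i : ℕ)) = ⊤) :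
    Nonempty (H ≃ₐc[k] AlphaP.A p k) := by
  have hxp : x ^ p = 0 := by
    rw [← hH]; exact pow_finrank_eq_zero_of_isNilpotent k H x hnil
  -- counit of a primitive element
  have hcounit : counit (R := k) x = 0 := by
    have h1 := Coalgebra.rTensor_counit_comul (R := k) x
    rw [hprim, map_add, LinearMap.rTensor_tmul, LinearMap.rTensor_tmul] at h1
    have h2 := congrArg (TensorProduct.lid k H) h1
    simp only [map_add, TensorProduct.lid_tmul, Bialgebra.counit_one, one_smul] at h2
    have h3 : counit (R := k) x • (1 : H) = 0 := by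
      have : counit (R := k) x • (1 : H) + x = x := h2
      exact add_eq_right.mp this
    have h4 := congrArg (counit (R := k)) h3
    rw [map_smul, Bialgebra.counit_one, smul_eq_mul, mul_one, map_zero] at h4
    exact h4
  let f : AlphaP.A p k →ₐ[k] H := AlphaP.lift p k x hxp
  have hfx : f (AlphaP.x p k) = x := AlphaP.lift_x x hxp
  let F : AlphaP.A p k →ₐc[k] H := BialgHom.ofAlgHom f
    (by
      apply AlphaP.algHom_ext
      rw [AlgHom.comp_apply, hfx]
      change counit (R := k) x = counit (R := k) (AlphaP.x p k)
      rw [hcounit, AlphaP.counit_x])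
    (by
      apply AlphaP.algHom_ext
      rw [AlgHom.comp_apply, AlgHom.comp_apply, hfx]
      change Algebra.TensorProduct.map f f (comul (R := k) (AlphaP.x p k)) = comul (R := k) x
      rw [AlphaP.comul_x, map_add, Algebra.TensorProduct.map_tmul, Algebra.TensorProduct.map_tmul,
        hfx, map_one, hprim])
  have hsurj : Function.Surjective F := by
    have hrange : LinearMap.range f.toLinearMap = ⊤ := by
      rw [eq_top_iff, ← hspan, Submodule.span_le]
      rintro _ ⟨i, rfl⟩
      exact ⟨AlphaP.x p k ^ (i : ℕ), by
        change f (AlphaP.x p k ^ (i : ℕ)) = x ^ (i : ℕ)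
        rw [map_pow, hfx]⟩
    exact LinearMap.range_eq_top.mp hrange
  have hfin : Module.finrank k (AlphaP.A p k) = Module.finrank k H := by
    rw [AlphaP.finrank_eq, hH]
  have hinj : Function.Injective F :=
    (LinearMap.injective_iff_surjective_of_finrank_eq_finrank (f := f.toLinearMap) hfin).mpr hsurj
  exact ⟨(BialgEquiv.ofBijective F ⟨hinj, hsurj⟩).symm⟩

end alphaP

end Groth.Agent.Lib.Helper20.HopfPrime
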