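import Mathlib
import Groth.Prelude.Def_CartDual
import Groth.Prelude.Def_CartDual2
import Groth.Prelude.Def_ConstGrp
import Groth.Prelude.Def_AlphaP
import Groth.Agent.S15893
import Groth.Agent.S16069
import Groth.Agent.S16071
import Groth.Agent.Lib.Helper20.HopfPrimeE
import Groth.Agent.Lib.Helper20.HopfPrimeJ
import Groth.Agent.Lib.Helper20.HopfPrimeK

set_option autoImplicit false
set_option linter.unusedSectionVars false
set_option linter.style.haveILetI false
universe u v

namespace Groth.Agent.Lib.Helper20.HopfPrime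

open TensorProduct Coalgebra WithConv
open Groth.Agent.Lib.Helper14.HeightOne Groth.Agent.Lib.Helper14.ConnOrder

section localCase

variable (k : Type u) [Field k] [IsAlgClosed k] (p : ℕ) [hp : Fact p.Prime] [CharP k p]
  (A : Type v) [CommRing A] [HopfAlgebra k A] [Module.Finite k A] [Coalgebra.IsCocomm k A]

/-- the transpose of a bialgebra isomorphism is bijective -/
lemma transpose_bijective {B C : Type*} [CommRing B] [HopfAlgebra k B] [Module.Finite k B]
    [CommRing C] [HopfAlgebra k C] [Module.Finite k C] (e : B ≃ₐc[k] C) :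
    Function.Bijective (CartDual.transpose k (e : B →ₐc[k] C)) := by
  constructor
  · intro y y' h
    apply WithConv.ext
    apply LinearMap.ext
    intro c
    have := congrArg (fun z : CartDual.D k B => z (e.symm c)) h
    simpa using this
  · intro z
    refine ⟨toConv (z.ofConv ∘ₗ (e.symm : C →ₐc[k] B).toLinearMap), ?_⟩
    apply WithConv.ext
    apply LinearMap.ext
    intro b
    change z.ofConv (e.symm (e b)) = z.ofConv b
    rw [BialgEquiv.symm_apply_apply]

/-- the local-local case: the dual is `α_p` -/
theorem dual_alpha (hA : Module.finrank k A = p) (hnilA : ∀ a ∈ augI k A, IsNilpotent a)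
    (hnilD : ∀ a ∈ augI k (CartDual.D k A), IsNilpotent a) :
    Nonempty (CartDual.D k A ≃ₐc[k] AlphaP.A p k) := by
  classical
  have hD : Module.finrank k (CartDual.D k A) = p := by
    rw [finrank_withConv_dual, hA]
  obtain ⟨ξ, hξ, hspan⟩ := exists_xi_gen_of_nil (k := k) (A := A) p hp.out hA hnilA
  set Ξ : CartDual.D k A := toConv ξ with hΞdef
  have hξ1 : ξ 1 = 0 := by
    have := hξ 1 1
    rw [mul_one, eps_one, one_mul, mul_one] at this
    exact add_eq_left.mp this.symm
  have hnilΞ : IsNilpotent Ξ := by
    apply hnilD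
    rw [mem_augI]
    change Ξ 1 = 0
    exact hξ1
  have hΞ : comul (R := k) Ξ = Ξ ⊗ₜ[k] (1 : CartDual.D k A) + (1 : CartDual.D k A) ⊗ₜ[k] Ξ := by
    apply (CartDual.ev₂ k A).injective
    apply TensorProduct.ext'
    intro a b
    rw [CartDual.comul_def, CartDual.ev₂_comul_tmul, map_add, LinearMap.add_apply,
      CartDual.ev₂_tmul, CartDual.ev₂_tmul]
    change ξ (a * b) = ξ a * ((1 : CartDual.D k A) b) + ((1 : CartDual.D k A) a) * ξ b
    rw [hξ]
    simp only [LinearMap.convOne_apply, Algebra.algebraMap_self, RingHom.id_apply]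
    ring
  exact nonempty_bialgEquiv_alphaP k p (CartDual.D k A) hD Ξ hΞ hnilΞ hspan

set_option backward.isDefEq.respectTransparency false in
/-- the local case of the classification -/
theorem local_case (hA : Module.finrank k A = p) (hnilA : ∀ a ∈ augI k A, IsNilpotent a) :
    Nonempty (A ≃ₐc[k] MonoidAlgebra k (Multiplicative (ZMod p))) ∨
      Nonempty (A ≃ₐc[k] AlphaP.A p k) := by
  classical
  have hD : Module.finrank k (CartDual.D k A) = p := by
    rw [finrank_withConv_dual, hA]
  let e₃ : A ≃ₐc[k] CartDual.D k (CartDual.D k A) :=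
    BialgEquiv.ofBijective (R := k) (A := A) (B := CartDual.D k (CartDual.D k A))
      (CartDual.eval k A) (Groth.Agent.S15893.eval_bijective k A)
  rcases card_points_or_nil k (CartDual.D k A) p hp.out hD with hc | hnilD
  · left
    obtain ⟨e₁⟩ := nonempty_bialgEquiv_zmod (k := k) (A := CartDual.D k A) p hp.out hD hc
    obtain ⟨e₂, -⟩ := Groth.Agent.S16069.result k (Multiplicative (ZMod p))
    have hT := transpose_bijective k e₁.symm
    exact ⟨e₃.trans ((BialgEquiv.ofBijective _ hT).trans e₂)⟩
  · right
    obtain ⟨e₁⟩ := dual_alpha k p A hA hnilA hnilD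
    obtain ⟨e₂, -⟩ := Groth.Agent.S16071.result p k
    have hT := transpose_bijective k e₁.symm
    exact ⟨e₃.trans ((BialgEquiv.ofBijective _ hT).trans e₂)⟩

end localCase

end Groth.Agent.Lib.Helper20.HopfPrime
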