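import Mathlib
import Groth.Agent.Lib.Helper20.HopfPrimeL

set_option autoImplicit false
set_option linter.unusedSectionVars false
set_option linter.style.haveILetI false
universe u v

namespace Groth.Agent.Lib.Helper20.HopfPrime

open TensorProduct Coalgebra WithConv
open Groth.Agent.Lib.Helper14.HeightOne Groth.Agent.Lib.Helper14.ConnOrder

/-- classification of finite group schemes of prime order over an algebraically closed field of
characteristic `p` -/
theorem classification (k : Type u) [Field k] [IsAlgClosed k]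
    (p : ℕ) [hp : Fact p.Prime] [CharP k p] (A : Type v) [CommRing A] [HopfAlgebra k A]
    (ℓ : ℕ) [hℓ : Fact ℓ.Prime] (hA : Module.finrank k A = ℓ) :
    (ℓ ≠ p → Nonempty (A ≃ₐc[k] ConstGrp.F k (Multiplicative (ZMod ℓ)))) ∧
      (ℓ = p → Nonempty (A ≃ₐc[k] ConstGrp.F k (Multiplicative (ZMod p))) ∨
        Nonempty (A ≃ₐc[k] MonoidAlgebra k (Multiplicative (ZMod p))) ∨
        Nonempty (A ≃ₐc[k] AlphaP.A p k)) := by
  haveI : Module.Finite k A := Module.finite_of_finrank_pos (by rw [hA]; exact hℓ.out.pos)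
  rcases card_points_or_nil k A ℓ hℓ.out hA with hc | hnil
  · have h := nonempty_bialgEquiv_zmod (k := k) (A := A) ℓ hℓ.out hA hc
    refine ⟨fun _ => h, fun hℓp => Or.inl ?_⟩
    subst hℓp
    exact h
  · have hℓp : ℓ = p := by
      obtain ⟨n, hn⟩ := finrank_eq_ringExpChar_pow k A hnil
      haveI : ExpChar k p := ExpChar.prime hp.out
      rw [hA, ringExpChar.eq k p] at hn
      exact ((Nat.Prime.pow_eq_iff hℓ.out).mp hn.symm).1.symm
    refine ⟨fun h => absurd hℓp h, fun _ => ?_⟩
    subst hℓp
    haveI : Coalgebra.IsCocomm k A := isCocomm_of_prime k A ℓ hℓ.out hA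
    rcases local_case k ℓ A hA hnil with h | h
    · exact Or.inr (Or.inl h)
    · exact Or.inr (Or.inr h)

end Groth.Agent.Lib.Helper20.HopfPrime
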