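import Mathlib
import Groth.Prelude.Def_PBC

namespace Groth.Agent.Lib.Helper20.IdLocComp

universe u

theorem bijective_congr {R P : Type*} [CommRing R] [CommRing P] (k k' : R →+* P) (h : k = k')
    (K : Ideal P) [K.IsPrime]
    (hb : Function.Bijective (Localization.localRingHom (K.comap k) K k rfl)) :
    Function.Bijective (Localization.localRingHom (K.comap k') K k' rfl) := by
  subst h
  exact hb

theorem bijective_comp {R S P : Type*} [CommRing R] [CommRing S] [CommRing P]
    (f : R →+* S) (g : S →+* P) (K : Ideal P) [K.IsPrime]
    (h1 : Function.Bijective (Localization.localRingHom (K.comap g) K g rfl))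
    (h2 : Function.Bijective
      (Localization.localRingHom ((K.comap g).comap f) (K.comap g) f rfl)) :
    Function.Bijective (Localization.localRingHom (K.comap (g.comp f)) K (g.comp f) rfl) := by
  have := Localization.localRingHom_comp (I := (K.comap g).comap f) (K.comap g) K f rfl g rfl
  have h4 : ⇑((Localization.localRingHom (K.comap g) K g rfl).comp
      (Localization.localRingHom ((K.comap g).comap f) (K.comap g) f rfl)) =
      (Localization.localRingHom (K.comap g) K g rfl) ∘
        (Localization.localRingHom ((K.comap g).comap f) (K.comap g) f rfl) := rfl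
  have h3 : Function.Bijective ⇑((Localization.localRingHom (K.comap g) K g rfl).comp
      (Localization.localRingHom ((K.comap g).comap f) (K.comap g) f rfl)) := by
    rw [h4]
    exact h1.comp h2
  rw [← this] at h3
  exact h3

theorem identifiesLocalRings_trans (A B C : Type u) [CommRing A] [CommRing B] [CommRing C]
    [Algebra A B] [Algebra B C] [Algebra A C] [IsScalarTower A B C]
    (h1 : EtPBC.IdentifiesLocalRings A B) (h2 : EtPBC.IdentifiesLocalRings B C) :
    EtPBC.IdentifiesLocalRings A C := by
  intro w
  have heq : (algebraMap B C).comp (algebraMap A B) = algebraMap A C :=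
    (IsScalarTower.algebraMap_eq A B C).symm
  apply bijective_congr _ _ heq
  apply bijective_comp
  · exact h2 w
  · exact h1 ⟨w.asIdeal.comap (algebraMap B C), Ideal.comap_isPrime _ _⟩

end Groth.Agent.Lib.Helper20.IdLocComp
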