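import Mathlib
import Groth.Agent.Lib.Helper22.GeomConn
import Groth.Agent.Lib.Helper12.HenselConnected
import Groth.Agent.Lib.lead.PolLawProd

/-!
# Idempotents of a tensor product over a separably closed field

Every idempotent of `R ⊗[k] S` (`R`, `S` Noetherian, `k` separably closed) is a finite sum of
pure tensors `e ⊗ f` of idempotents.
-/

set_option autoImplicit false
universe u
noncomputable section
namespace Groth.Agent.Lib.Helper20.IdemDecomp

open TensorProduct

/-- primitive idempotent -/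
def IsPrim {R : Type*} [CommRing R] (f : R) : Prop :=
  IsIdempotentElem f ∧ f ≠ 0 ∧ ∀ g : R, IsIdempotentElem g → g * f = g → g = 0 ∨ g = f

theorem exists_prim_sum {R : Type*} [CommRing R] [IsNoetherianRing R] (e : R)
    (he : IsIdempotentElem e) :
    ∃ l : List R, (∀ f ∈ l, IsPrim f) ∧ l.sum = e := by
  suffices H : ∀ I : Ideal R, ∀ e : R, IsIdempotentElem e → Ideal.span {1 - e} = I →
      ∃ l : List R, (∀ f ∈ l, IsPrim f) ∧ l.sum = e from H _ e he rfl
  intro I
  induction I using WellFoundedGT.induction with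
  | ind I ih =>
  intro e he hI
  by_cases h0 : e = 0
  · exact ⟨[], by simp, by simp [h0]⟩
  by_cases hp : IsPrim e
  · exact ⟨[e], by simpa using hp, by simp⟩
  have hex : ∃ g, IsIdempotentElem g ∧ g * e = g ∧ g ≠ 0 ∧ g ≠ e := by
    by_contra hcon
    apply hp
    refine ⟨he, h0, fun g hg hge => ?_⟩
    by_contra hne
    push Not at hne
    exact hcon ⟨g, hg, hge, hne.1, hne.2⟩
  obtain ⟨g, hg, hge, hg0, hgne⟩ := hex
  have key : ∀ g : R, IsIdempotentElem g → g * e = g → g ≠ e → I < Ideal.span {1 - g} := by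
    intro g hg hge hgne
    rw [← hI]
    refine lt_of_le_of_ne ?_ ?_
    · rw [Ideal.span_singleton_le_span_singleton]
      exact ⟨1 - e, by linear_combination (-1 : R) * hge⟩
    · intro heq
      have hmem : 1 - g ∈ Ideal.span {1 - e} := by
        rw [heq]; exact Ideal.subset_span rfl
      obtain ⟨r, hr⟩ := Ideal.mem_span_singleton'.mp hmem
      apply hgne
      have h1 : e * (1 - g) = 0 := by
        rw [← hr]; linear_combination (-r) * he.eq
      linear_combination (-1 : R) * hge - h1
  obtain ⟨l1, hl1, hs1⟩ := ih _ (key g hg hge hgne) g hg rfl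
  have hg' : IsIdempotentElem (e - g) := by
    unfold IsIdempotentElem
    linear_combination he.eq + hg.eq - 2 * hge
  have hg'e : (e - g) * e = e - g := by linear_combination he.eq - hge
  have hg'ne : e - g ≠ e := by
    intro h; apply hg0; linear_combination (-1 : R) * h
  obtain ⟨l2, hl2, hs2⟩ := ih _ (key (e - g) hg' hg'e hg'ne) (e - g) hg' rfl
  refine ⟨l1 ++ l2, ?_, ?_⟩
  · intro f hf
    rcases List.mem_append.mp hf with h | h
    exacts [hl1 f h, hl2 f h]
  · rw [List.sum_append, hs1, hs2]; ring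

theorem connected_quot {R : Type*} [CommRing R] (f : R) (hf : IsPrim f) :
    ConnectedSpace (PrimeSpectrum (R ⧸ Ideal.span {1 - f})) := by
  have hnt : Nontrivial (R ⧸ Ideal.span {1 - f}) := by
    rw [Ideal.Quotient.nontrivial_iff]
    intro htop
    have h1 : (1 : R) ∈ Ideal.span {1 - f} := by rw [htop]; exact Submodule.mem_top
    obtain ⟨r, hr⟩ := Ideal.mem_span_singleton'.mp h1
    apply hf.2.1
    linear_combination (-f) * hr - r * hf.1.eq
  apply Groth.Agent.Lib.Helper12.connectedSpace_primeSpectrum_of_idempotents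
  intro ē hē
  obtain ⟨g, rfl⟩ := Ideal.Quotient.mk_surjective ē
  have h1 : g * g - g ∈ Ideal.span {1 - f} := by
    rw [← Ideal.Quotient.eq]
    simpa using hē.eq
  obtain ⟨r, hr⟩ := Ideal.mem_span_singleton'.mp h1
  have hfg : IsIdempotentElem (f * g) := by
    unfold IsIdempotentElem
    linear_combination (g * g - r) * hf.1.eq - f * hr
  rcases hf.2.2 (f * g) hfg (by linear_combination g * hf.1.eq) with h | h
  · left
    rw [Ideal.Quotient.eq_zero_iff_mem, Ideal.mem_span_singleton']
    exact ⟨g, by linear_combination (-1 : R) * h⟩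
  · right
    rw [← map_one (Ideal.Quotient.mk _), Ideal.Quotient.eq, Ideal.mem_span_singleton']
    exact ⟨g - 1, by linear_combination (-1 : R) * h⟩

theorem tensor_idem_of_prim {k : Type u} [Field k] [IsSepClosed k] {R S : Type u}
    [CommRing R] [Algebra k R] [CommRing S] [Algebra k S]
    (e : R) (he : IsPrim e) (f : S) (hf : IsPrim f) (E : R ⊗[k] S) (hE : IsIdempotentElem E) :
    (e ⊗ₜ[k] f) * E = 0 ∨ (e ⊗ₜ[k] f) * E = e ⊗ₜ[k] f := by
  have := connected_quot e he
  have := connected_quot f hf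
  have := Groth.Agent.Lib.Helper22.GeomConn.connectedSpace_tensor_of_isSepClosed (k := k)
    (R := R ⧸ Ideal.span {1 - e}) (S := S ⧸ Ideal.span {1 - f})
  set ψ : R ⊗[k] S →ₐ[k] (R ⧸ Ideal.span {1 - e}) ⊗[k] (S ⧸ Ideal.span {1 - f}) :=
    Algebra.TensorProduct.map (Ideal.Quotient.mkₐ k _) (Ideal.Quotient.mkₐ k _) with hψ
  have hker : ∀ x : R ⊗[k] S, ψ x = 0 → (e ⊗ₜ[k] f) * x = 0 := by
    intro x hx
    have hx' : x ∈ RingHom.ker ψ := hx
    rw [hψ, Algebra.TensorProduct.map_ker _ _ (Ideal.Quotient.mkₐ_surjective k _)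
      (Ideal.Quotient.mkₐ_surjective k _)] at hx'
    have hk1 : RingHom.ker (Ideal.Quotient.mkₐ k (Ideal.span {1 - e})) = Ideal.span {1 - e} := by
      ext x; simp [RingHom.mem_ker, Ideal.Quotient.eq_zero_iff_mem]
    have hk2 : RingHom.ker (Ideal.Quotient.mkₐ k (Ideal.span {1 - f})) = Ideal.span {1 - f} := by
      ext x; simp [RingHom.mem_ker, Ideal.Quotient.eq_zero_iff_mem]
    rw [hk1, hk2, Ideal.map_span, Ideal.map_span,
      Set.image_singleton, Set.image_singleton] at hx'
    obtain ⟨y, hy, z, hz, rfl⟩ := Submodule.mem_sup.mp hx'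
    obtain ⟨a, rfl⟩ := Ideal.mem_span_singleton'.mp hy
    obtain ⟨b, rfl⟩ := Ideal.mem_span_singleton'.mp hz
    have h1 : (e ⊗ₜ[k] f) * ((1 - e) ⊗ₜ[k] (1 : S)) = 0 := by
      rw [Algebra.TensorProduct.tmul_mul_tmul]
      have : e * (1 - e) = 0 := by linear_combination (-1 : R) * he.1.eq
      rw [this, zero_tmul]
    have h2 : (e ⊗ₜ[k] f) * ((1 : R) ⊗ₜ[k] (1 - f)) = 0 := by
      rw [Algebra.TensorProduct.tmul_mul_tmul]
      have : f * (1 - f) = 0 := by linear_combination (-1 : S) * hf.1.eq
      rw [this, tmul_zero]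
    simp only [Algebra.TensorProduct.includeLeft_apply, Algebra.TensorProduct.includeRight_apply]
    linear_combination a * h1 + b * h2
  rcases Groth.Agent.Lib.lead.PolLawProd.idem_zero_or_one (ψ E) (hE.map ψ) with h | h
  · left; exact hker E h
  · right
    have := hker (E - 1) (by rw [map_sub, h, map_one, sub_self])
    linear_combination this

/-- Over a separably closed field, every idempotent of `R ⊗ S` (`R`, `S` Noetherian) is a finite
sum of pure tensors of idempotents. -/
theorem tensor_idem_sum {k : Type u} [Field k] [IsSepClosed k] {R S : Type u}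
    [CommRing R] [Algebra k R] [CommRing S] [Algebra k S] [IsNoetherianRing R]
    [IsNoetherianRing S] (E : R ⊗[k] S) (hE : IsIdempotentElem E) :
    E ∈ Submodule.span k {x : R ⊗[k] S | ∃ e f, IsIdempotentElem e ∧ IsIdempotentElem f ∧
      x = e ⊗ₜ[k] f} := by
  obtain ⟨l1, hl1, hs1⟩ := exists_prim_sum (1 : R) IsIdempotentElem.one
  obtain ⟨l2, hl2, hs2⟩ := exists_prim_sum (1 : S) IsIdempotentElem.one
  have h1 : E = ((l1.map fun e => (l2.map fun f => (e ⊗ₜ[k] f) * E).sum).sum) := by
    have h2 : ∀ (l : List S) (e : R), (l.map fun f => (e ⊗ₜ[k] f) * E).sum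
        = (e ⊗ₜ[k] l.sum) * E := by
      intro l e
      induction l with
      | nil => simp
      | cons a l ih =>
        simp only [List.map_cons, List.sum_cons]
        rw [ih, tmul_add, add_mul]
    have : ∀ e : R, (l2.map fun f => (e ⊗ₜ[k] f) * E).sum = (e ⊗ₜ[k] (1 : S)) * E := by
      intro e
      rw [h2, hs2]
    simp_rw [this]
    have h3 : ∀ l : List R, (l.map fun e => (e ⊗ₜ[k] (1 : S)) * E).sum
        = (l.sum ⊗ₜ[k] (1 : S)) * E := by
      intro l
      induction l with
      | nil => simp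
      | cons a l ih =>
        simp only [List.map_cons, List.sum_cons]
        rw [ih, add_tmul, add_mul]
    rw [h3, hs1]
    change E = 1 * E
    rw [one_mul]
  rw [h1]
  refine list_sum_mem ?_
  intro x hx
  obtain ⟨e, hel, rfl⟩ := List.mem_map.mp hx
  refine list_sum_mem ?_
  intro y hy
  obtain ⟨f, hfl, rfl⟩ := List.mem_map.mp hy
  rcases tensor_idem_of_prim e (hl1 e hel) f (hl2 f hfl) E hE with h | h
  · rw [h]; exact Submodule.zero_mem _
  · rw [h]; exact Submodule.subset_span ⟨e, f, (hl1 e hel).1, (hl2 f hfl).1, rfl⟩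

end Groth.Agent.Lib.Helper20.IdemDecomp
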