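import Mathlib
import Groth.Agent.Lib.Helper20.Spectral3

set_option autoImplicit false

namespace Groth.Agent.Lib.Helper20.WLocal

open TopologicalSpace Topology Set
open Groth.Agent.Lib.Helper20.Spectral Groth.Agent.Lib.Helper20.Spectral3

universe u

variable {X : Type u} [TopologicalSpace X]

/-- generizations of a set -/
def gen (E : Set X) : Set X := {x | ∃ e ∈ E, x ⤳ e}

theorem subset_gen (E : Set X) : E ⊆ gen E := fun x hx => ⟨x, hx, specializes_rfl⟩

/-- If `gen A` and `gen B` partition `X` (with `A`, `B` constructibly closed), both are closed. -/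
theorem isClosed_gen_of_partition [SpectralSpace X] {A B : Set X}
    (hA : IsClosed[constructibleTopology X] A)
    (hcov : ∀ x, x ∈ gen A ∨ x ∈ gen B) (hdisj : Disjoint (gen A) (gen B)) :
    IsClosed (gen A) := by
  have hcl : IsClosed[constructibleTopology X] (gen A) := isClosed_cons_generizations hA
  rw [← closure_subset_iff_isClosed]
  intro x hx
  obtain ⟨e, he, hex⟩ := exists_specializes (gen A) hcl x hx
  rcases hcov x with h | h
  · exact h
  · exfalso
    obtain ⟨b, hb, hxb⟩ := h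
    exact Set.disjoint_left.mp hdisj he ⟨b, hb, hex.trans hxb⟩

theorem clopen_decomposition [SpectralSpace X] (Z : Set X)
    (hconn : ∀ x : X, IsConnected (Z ∩ closure {x}))
    (Z₁ Z₂ : Set X) (h₁ : IsClosed Z₁) (h₂ : IsClosed Z₂) (hdisj : Disjoint Z₁ Z₂)
    (hunion : Z₁ ∪ Z₂ = Z) :
    ∃ X₁ X₂ : Set X, IsClosed X₁ ∧ IsClosed X₂ ∧ Disjoint X₁ X₂ ∧ X₁ ∪ X₂ = Set.univ ∧
      Z₁ = Z ∩ X₁ ∧ Z₂ = Z ∩ X₂ := by
  have hcov : ∀ x, x ∈ gen Z₁ ∨ x ∈ gen Z₂ := by
    intro x
    obtain ⟨z, hzZ, hzx⟩ := (hconn x).nonempty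
    rw [← hunion] at hzZ
    rcases hzZ with h | h
    · exact Or.inl ⟨z, h, specializes_iff_mem_closure.mpr hzx⟩
    · exact Or.inr ⟨z, h, specializes_iff_mem_closure.mpr hzx⟩
  have hd : Disjoint (gen Z₁) (gen Z₂) := by
    rw [Set.disjoint_left]
    rintro x ⟨z₁, hz₁, hxz₁⟩ ⟨z₂, hz₂, hxz₂⟩
    have hpre := (hconn x).isPreconnected
    rw [isPreconnected_closed_iff] at hpre
    have := hpre Z₁ Z₂ h₁ h₂ (by
        rw [hunion]
        exact inter_subset_left)
      ⟨z₁, ⟨hunion ▸ Or.inl hz₁, specializes_iff_mem_closure.mp hxz₁⟩, hz₁⟩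
      ⟨z₂, ⟨hunion ▸ Or.inr hz₂, specializes_iff_mem_closure.mp hxz₂⟩, hz₂⟩
    obtain ⟨w, _, hw1, hw2⟩ := this
    exact Set.disjoint_left.mp hdisj hw1 hw2
  refine ⟨gen Z₁, gen Z₂, ?_, ?_, hd, ?_, ?_, ?_⟩
  · exact isClosed_gen_of_partition (isClosed_cons_of_isClosed h₁) hcov hd
  · exact isClosed_gen_of_partition (isClosed_cons_of_isClosed h₂) (fun x => (hcov x).symm)
      hd.symm
  · ext x
    simp only [mem_union, mem_univ, iff_true]
    exact hcov x
  · apply Subset.antisymm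
    · intro z hz
      exact ⟨hunion ▸ Or.inl hz, subset_gen _ hz⟩
    · rintro z ⟨hzZ, hz1⟩
      rw [← hunion] at hzZ
      rcases hzZ with h | h
      · exact h
      · exact absurd (subset_gen _ h) (Set.disjoint_left.mp hd hz1)
  · apply Subset.antisymm
    · intro z hz
      exact ⟨hunion ▸ Or.inr hz, subset_gen _ hz⟩
    · rintro z ⟨hzZ, hz2⟩
      rw [← hunion] at hzZ
      rcases hzZ with h | h
      · exact absurd hz2 (Set.disjoint_left.mp hd (subset_gen _ h))
      · exact h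

theorem bijective_closedPoints_connectedComponents [SpectralSpace X]
    (h0 : IsClosed {x : X | IsClosed ({x} : Set X)})
    (huniq : ∀ x : X, ∃! z : X, IsClosed ({z} : Set X) ∧ x ⤳ z) :
    Function.Bijective
      (fun x : {x : X // IsClosed ({x} : Set X)} => _root_.ConnectedComponents.mk x.1) := by
  constructor
  · rintro ⟨x₀, hx₀⟩ ⟨y₀, hy₀⟩ hxy
    simp only at hxy
    rw [ConnectedComponents.coe_eq_coe'] at hxy
    by_contra hne
    have hne' : x₀ ≠ y₀ := fun h => hne (Subtype.ext h)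
    -- the subspace of closed points
    let X₀ : Set X := {x : X | IsClosed ({x} : Set X)}
    have hsp : SpectralSpace X₀ := spectralSpace_of_isClosed_cons X₀ (isClosed_cons_of_isClosed h0)
    have hpts : ∀ x : X₀, IsClosed ({x} : Set X₀) := by
      intro x
      have : ({x} : Set X₀) = Subtype.val ⁻¹' ({x.1} : Set X) := by
        ext y
        simp [Subtype.ext_iff]
      rw [this]
      exact x.2.preimage continuous_subtype_val
    have hprof := ((tfae_profinite X₀).out 5 0).mp hpts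
    have hT2 : T2Space X₀ := hprof.1
    have hTD : TotallyDisconnectedSpace X₀ := hprof.2
    obtain ⟨T', hT', hxT, hyT⟩ := exists_isClopen_of_totally_separated
      (show (⟨x₀, hx₀⟩ : X₀) ≠ ⟨y₀, hy₀⟩ from fun h => hne' (congrArg Subtype.val h))
    have hemb : IsClosedEmbedding (Subtype.val : X₀ → X) := h0.isClosedEmbedding_subtypeVal
    have hA : IsClosed (Subtype.val '' T') := hemb.isClosedMap _ hT'.1
    have hB : IsClosed (Subtype.val '' T'ᶜ) := hemb.isClosedMap _ hT'.compl.1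
    have hcov : ∀ x, x ∈ gen (Subtype.val '' T') ∨ x ∈ gen (Subtype.val '' T'ᶜ) := by
      intro x
      obtain ⟨z, ⟨hz, hxz⟩, _⟩ := huniq x
      by_cases hzT : (⟨z, hz⟩ : X₀) ∈ T'
      · exact Or.inl ⟨z, ⟨⟨z, hz⟩, hzT, rfl⟩, hxz⟩
      · exact Or.inr ⟨z, ⟨⟨z, hz⟩, hzT, rfl⟩, hxz⟩
    have hd : Disjoint (gen (Subtype.val '' T')) (gen (Subtype.val '' T'ᶜ)) := by
      rw [Set.disjoint_left]
      rintro x ⟨_, ⟨t, ht, rfl⟩, hxt⟩ ⟨_, ⟨t', ht', rfl⟩, hxt'⟩
      have := (huniq x).unique ⟨t.2, hxt⟩ ⟨t'.2, hxt'⟩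
      exact ht' ((Subtype.ext this) ▸ ht)
    have hG : IsClosed (gen (Subtype.val '' T')) :=
      isClosed_gen_of_partition (isClosed_cons_of_isClosed hA) hcov hd
    have hG' : IsClosed (gen (Subtype.val '' T'ᶜ)) :=
      isClosed_gen_of_partition (isClosed_cons_of_isClosed hB) (fun x => (hcov x).symm) hd.symm
    have hcompl : gen (Subtype.val '' T'ᶜ) = (gen (Subtype.val '' T'))ᶜ := by
      ext x
      constructor
      · intro hx hx'
        exact Set.disjoint_left.mp hd hx' hx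
      · intro hx
        rcases hcov x with h | h
        · exact absurd h hx
        · exact h
    have hclopen : IsClopen (gen (Subtype.val '' T'ᶜ)) := by
      refine ⟨hG', ?_⟩
      rw [hcompl]
      exact hG.isOpen_compl
    have hy : y₀ ∈ gen (Subtype.val '' T'ᶜ) := subset_gen _ ⟨⟨y₀, hy₀⟩, hyT, rfl⟩
    have hx : x₀ ∈ gen (Subtype.val '' T') := subset_gen _ ⟨⟨x₀, hx₀⟩, hxT, rfl⟩
    have := hclopen.connectedComponent_subset hy hxy
    exact Set.disjoint_left.mp hd hx this
  · intro c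
    obtain ⟨y, rfl⟩ := ConnectedComponents.surjective_coe c
    obtain ⟨z, hz, hzc⟩ := (isClosed_connectedComponent (x := y)).exists_closed_singleton
      ⟨y, mem_connectedComponent⟩
    refine ⟨⟨z, hzc⟩, ?_⟩
    simp only
    rw [ConnectedComponents.coe_eq_coe']
    exact hz

end Groth.Agent.Lib.Helper20.WLocal
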