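import Mathlib
import Groth.Agent.Lib.Helper20.WLocal

set_option autoImplicit false

namespace Groth.Agent.Lib.Helper20.WLocal2

open TopologicalSpace Topology Set
open Groth.Agent.Lib.Helper20.Spectral Groth.Agent.Lib.Helper20.Spectral3

universe u

variable {X : Type u} [TopologicalSpace X]

/-- compact subsets of prespectral spaces have compact open neighbourhoods inside any open
neighbourhood -/
theorem exists_compact_open_between [PrespectralSpace X] {K O : Set X} (hK : IsCompact K)
    (hO : IsOpen O) (hKO : K ⊆ O) : ∃ U, IsOpen U ∧ IsCompact U ∧ K ⊆ U ∧ U ⊆ O := by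
  obtain ⟨S, hS, hSeq⟩ := (PrespectralSpace.isTopologicalBasis (X := X)).open_eq_sUnion hO
  obtain ⟨t, ht⟩ := hK.elim_finite_subcover (fun s : S => s.1) (fun s => (hS s.2).1) (by
    intro x hx
    have := hKO hx
    rw [hSeq] at this
    obtain ⟨s, hs, hxs⟩ := this
    exact mem_iUnion.mpr ⟨⟨s, hs⟩, hxs⟩)
  refine ⟨⋃ i ∈ t, (i : Set X), isOpen_biUnion fun i _ => (hS i.2).1,
    t.isCompact_biUnion fun i _ => (hS i.2).2, ht, ?_⟩
  intro x hx
  simp only [mem_iUnion] at hx
  obtain ⟨i, _, hxi⟩ := hx
  rw [hSeq]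
  exact ⟨i.1, i.2, hxi⟩

/-- in a compact space, if an intersection of clopens containing `x` misses a compact set `K`,
some clopen containing `x` misses `K` -/
theorem exists_isClopen_disjoint (x : X) {K : Set X} (hK : IsCompact K)
    (h : (⋂ s : {s : Set X // IsClopen s ∧ x ∈ s}, (s : Set X)) ∩ K = ∅) :
    ∃ Z : Set X, IsClopen Z ∧ x ∈ Z ∧ Z ∩ K = ∅ := by
  classical
  have := hK.elim_finite_subfamily_closed (fun s : {s : Set X // IsClopen s ∧ x ∈ s} => (s : Set X))
    (fun s => s.2.1.1) (by rw [inter_comm]; exact h)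
  obtain ⟨u, hu⟩ := this
  refine ⟨⋂ i ∈ u, (i : Set X), ?_, ?_, ?_⟩
  · exact isClopen_biInter_finset fun i _ => i.2.1
  · simp only [mem_iInter]
    intro i _
    exact i.2.2
  · rw [inter_comm]
    exact hu

/-- In a spectral space the quasi-component of a point is preconnected. -/
theorem isPreconnected_iInter_isClopen [SpectralSpace X] (x : X) :
    IsPreconnected (⋂ s : {s : Set X // IsClopen s ∧ x ∈ s}, (s : Set X)) := by
  set S := ⋂ s : {s : Set X // IsClopen s ∧ x ∈ s}, (s : Set X) with hSdef
  have hxS : x ∈ S := by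
    simp only [hSdef, mem_iInter]
    intro s
    exact s.2.2
  have hScl : IsClosed S := isClosed_iInter fun s => s.2.1.1
  -- it suffices: if S ⊆ B ∪ C with B, C closed, x ∈ B and S ∩ B ∩ C = ∅ then S ∩ C = ∅
  have key : ∀ B C : Set X, IsClosed B → IsClosed C → S ⊆ B ∪ C → x ∈ B → S ∩ (B ∩ C) = ∅ →
      S ∩ C = ∅ := by
    intro B C hB hC hcov hxB hBC
    -- replace B, C by their traces on S
    have hB'cl : IsClosed (S ∩ B) := hScl.inter hB
    have hC'cl : IsClosed (S ∩ C) := hScl.inter hC
    have hdisj : (S ∩ B) ∩ (S ∩ C) = ∅ := by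
      rw [← hBC]
      ext y
      simp only [mem_inter_iff]
      tauto
    obtain ⟨U, hUo, hUc, hBU, hUC⟩ := exists_compact_open_between hB'cl.isCompact
      hC'cl.isOpen_compl (by
        intro y hy hy'
        have : y ∈ (S ∩ B) ∩ (S ∩ C) := ⟨hy, hy'⟩
        rw [hdisj] at this
        exact this)
    obtain ⟨V, hVo, hVc, hCV, hVB⟩ := exists_compact_open_between hC'cl.isCompact
      hB'cl.isOpen_compl (by
        intro y hy hy'
        have : y ∈ (S ∩ B) ∩ (S ∩ C) := ⟨hy', hy⟩
        rw [hdisj] at this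
        exact this)
    have hSUV : S ⊆ U ∪ V := by
      intro y hy
      rcases hcov hy with h | h
      · exact Or.inl (hBU ⟨hy, h⟩)
      · exact Or.inr (hCV ⟨hy, h⟩)
    have hSUV' : S ∩ (U ∩ V) = ∅ := by
      ext y
      simp only [mem_inter_iff, mem_empty_iff_false, iff_false, not_and]
      intro hy hyU hyV
      rcases hcov hy with h | h
      · exact hVB hyV ⟨hy, h⟩
      · exact hUC hyU ⟨hy, h⟩
    obtain ⟨Z₁, hZ₁, hxZ₁, hZ₁'⟩ := exists_isClopen_disjoint x
      (QuasiSeparatedSpace.inter_isCompact U V hUo hUc hVo hVc) hSUV'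
    obtain ⟨Z₂, hZ₂, hxZ₂, hZ₂'⟩ := exists_isClopen_disjoint x
      ((hUo.union hVo).isClosed_compl.isCompact) (by
        ext y
        simp only [mem_inter_iff, mem_compl_iff, mem_empty_iff_false, iff_false, not_and,
          not_not]
        intro hy
        exact hSUV hy)
    -- Z := Z₁ ∩ Z₂ ∩ U is clopen, contains x
    have hZ : IsClopen (Z₁ ∩ Z₂ ∩ U) := by
      refine ⟨?_, (hZ₁.2.inter hZ₂.2).inter hUo⟩
      have : Z₁ ∩ Z₂ ∩ U = Z₁ ∩ Z₂ ∩ Vᶜ := by
        ext y
        simp only [mem_inter_iff, mem_compl_iff]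
        constructor
        · rintro ⟨⟨h1, h2⟩, h3⟩
          refine ⟨⟨h1, h2⟩, fun h4 => ?_⟩
          have : y ∈ Z₁ ∩ (U ∩ V) := ⟨h1, h3, h4⟩
          rw [hZ₁'] at this
          exact this
        · rintro ⟨⟨h1, h2⟩, h3⟩
          refine ⟨⟨h1, h2⟩, ?_⟩
          by_contra h4
          have : y ∈ Z₂ ∩ (U ∪ V)ᶜ := ⟨h2, fun h => h.elim h4 h3⟩
          rw [hZ₂'] at this
          exact this
      rw [this]
      exact (hZ₁.1.inter hZ₂.1).inter hVo.isClosed_compl
    have hxZ : x ∈ Z₁ ∩ Z₂ ∩ U := ⟨⟨hxZ₁, hxZ₂⟩, hBU ⟨hxS, hxB⟩⟩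
    have hSZ : S ⊆ Z₁ ∩ Z₂ ∩ U := by
      rw [hSdef]
      exact iInter_subset (fun s : {s : Set X // IsClopen s ∧ x ∈ s} => (s : Set X))
        ⟨Z₁ ∩ Z₂ ∩ U, hZ, hxZ⟩
    ext y
    simp only [mem_inter_iff, mem_empty_iff_false, iff_false, not_and]
    intro hy hyC
    exact hUC (hSZ hy).2 ⟨hy, hyC⟩
  rw [isPreconnected_closed_iff]
  intro B C hB hC hcov ⟨b, hbS, hbB⟩ ⟨c, hcS, hcC⟩
  by_contra hempty
  rw [not_nonempty_iff_eq_empty] at hempty
  rcases hcov hxS with hxB | hxC
  · have := key B C hB hC hcov hxB hempty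
    have h2 : c ∈ S ∩ C := ⟨hcS, hcC⟩
    rw [this] at h2
    exact h2
  · have := key C B hC hB (by rwa [union_comm]) hxC (by rwa [inter_comm C B])
    have h2 : b ∈ S ∩ B := ⟨hbS, hbB⟩
    rw [this] at h2
    exact h2

theorem connectedComponent_eq_iInter_isClopen' [SpectralSpace X] (x : X) :
    connectedComponent x = ⋂ s : {s : Set X // IsClopen s ∧ x ∈ s}, (s : Set X) := by
  apply Subset.antisymm connectedComponent_subset_iInter_isClopen
  apply IsPreconnected.subset_connectedComponent (isPreconnected_iInter_isClopen x)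
  simp only [mem_iInter]
  intro s
  exact s.2.2

theorem exists_specializes_closed_point [T0Space X] [CompactSpace X] (x : X) :
    ∃ z, IsClosed ({z} : Set X) ∧ x ⤳ z := by
  obtain ⟨z, hz, hzc⟩ := (isClosed_closure (s := ({x} : Set X))).exists_closed_singleton
    ⟨x, subset_closure rfl⟩
  exact ⟨z, hzc, specializes_iff_mem_closure.mpr hz⟩

theorem surjective_closedPoints [T0Space X] [CompactSpace X] :
    Function.Surjective
      (fun x : {x : X // IsClosed ({x} : Set X)} => _root_.ConnectedComponents.mk x.1) := by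
  intro c
  obtain ⟨y, rfl⟩ := ConnectedComponents.surjective_coe c
  obtain ⟨z, hz, hzc⟩ := (isClosed_connectedComponent (x := y)).exists_closed_singleton
    ⟨y, mem_connectedComponent⟩
  refine ⟨⟨z, hzc⟩, ?_⟩
  simp only
  rw [ConnectedComponents.coe_eq_coe']
  exact hz

theorem clopen_refinement_iff [SpectralSpace X] :
    (∀ (ι : Type u) (U : ι → Set X), (∀ i, IsOpen (U i)) → (⋃ i, U i) = Set.univ →
      ∃ (n : ℕ) (V : Fin n → Set X), (∀ k, IsClopen (V k)) ∧
        Pairwise (fun k l => Disjoint (V k) (V l)) ∧ (⋃ k, V k) = Set.univ ∧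
          ∀ k, ∃ i, V k ⊆ U i) ↔
    Function.Bijective
      (fun x : {x : X // IsClosed ({x} : Set X)} => _root_.ConnectedComponents.mk x.1) := by
  constructor
  · intro h
    refine ⟨?_, surjective_closedPoints⟩
    rintro ⟨x, hx⟩ ⟨y, hy⟩ hxy
    simp only at hxy
    rw [ConnectedComponents.coe_eq_coe'] at hxy
    by_contra hne
    have hne' : x ≠ y := fun h => hne (Subtype.ext h)
    obtain ⟨n, V, hV, _, hcov, href⟩ := h (ULift.{u} Bool)
      (fun b => if b.down then ({x} : Set X)ᶜ else ({y} : Set X)ᶜ)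
      (by
        intro b
        by_cases hb : b.down
        · simp only [hb, if_true]
          exact hx.isOpen_compl
        · simp only [hb]
          exact hy.isOpen_compl)
      (by
        ext z
        simp only [mem_iUnion, mem_univ, iff_true]
        by_cases hzx : z = x
        · refine ⟨⟨false⟩, ?_⟩
          simp only [Bool.false_eq_true, if_false, mem_compl_iff, mem_singleton_iff]
          rw [hzx]
          exact hne'
        · refine ⟨⟨true⟩, ?_⟩
          simp only [if_true, mem_compl_iff, mem_singleton_iff]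
          exact hzx)
    have hyU : y ∈ ⋃ k, V k := hcov ▸ mem_univ y
    obtain ⟨k, hk⟩ := mem_iUnion.mp hyU
    have hxk : x ∈ V k := (hV k).connectedComponent_subset hk hxy
    obtain ⟨i, hi⟩ := href k
    by_cases hb : i.down
    · have := hi hxk
      simp only [hb, if_true, mem_compl_iff, mem_singleton_iff, not_true_eq_false] at this
    · have := hi hk
      simp only [hb, Bool.false_eq_true, if_false, mem_compl_iff, mem_singleton_iff,
        not_true_eq_false] at this
  · intro hbij ι U hU hcov
    -- for each x pick a clopen neighbourhood inside some U i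
    have hloc : ∀ x : X, ∃ W : Set X, IsClopen W ∧ x ∈ W ∧ ∃ i, W ⊆ U i := by
      intro x
      obtain ⟨x₀, hx₀, hxx₀⟩ := exists_specializes_closed_point x
      have hx₀U : x₀ ∈ ⋃ i, U i := hcov ▸ mem_univ x₀
      obtain ⟨i, hi⟩ := mem_iUnion.mp hx₀U
      -- the connected component of x₀ is inside U i
      have hCU : connectedComponent x₀ ⊆ U i := by
        intro c hc
        obtain ⟨c₀, hc₀, hcc₀⟩ := exists_specializes_closed_point c
        have hc₀C : c₀ ∈ connectedComponent x₀ := by
          have : closure ({c} : Set X) ⊆ connectedComponent x₀ :=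
            closure_minimal (singleton_subset_iff.mpr hc) isClosed_connectedComponent
          exact this (specializes_iff_mem_closure.mp hcc₀)
        have : (⟨c₀, hc₀⟩ : {x : X // IsClosed ({x} : Set X)}) = ⟨x₀, hx₀⟩ := by
          apply hbij.1
          simp only
          rw [ConnectedComponents.coe_eq_coe']
          exact hc₀C
        have hc₀x₀ : c₀ = x₀ := congrArg Subtype.val this
        rw [hc₀x₀] at hcc₀
        exact hcc₀.mem_open (hU i) hi
      rw [connectedComponent_eq_iInter_isClopen'] at hCU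
      obtain ⟨Z, hZ, hx₀Z, hZU⟩ := exists_isClopen_disjoint x₀
        ((hU i).isClosed_compl.isCompact) (by
          ext y
          simp only [mem_inter_iff, mem_compl_iff, mem_empty_iff_false, iff_false, not_and,
            not_not]
          intro hy
          exact hCU hy)
      refine ⟨Z, hZ, hxx₀.mem_open hZ.2 hx₀Z, i, ?_⟩
      intro y hy
      by_contra hyU
      have : y ∈ Z ∩ (U i)ᶜ := ⟨hy, hyU⟩
      rw [hZU] at this
      exact this
    choose W hW hxW hWU using hloc
    obtain ⟨t, ht⟩ := isCompact_univ.elim_finite_subcover W (fun x => (hW x).2)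
      (fun x _ => mem_iUnion.mpr ⟨x, hxW x⟩)
    -- enumerate t
    let e := t.equivFin
    let W' : Fin t.card → Set X := fun k => W (e.symm k).1
    refine ⟨t.card, disjointed W', ?_, ?_, ?_, ?_⟩
    · intro k
      rw [disjointed_eq_inter_compl]
      refine (hW _).inter ?_
      refine isClopen_iInter_of_finite fun j => ?_
      by_cases hj : j < k
      · simp only [hj, iInter_true]
        exact (hW _).compl
      · simp only [hj, iInter_of_empty]
        exact isClopen_univ
    · intro k l hkl
      exact disjoint_disjointed W' hkl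
    · rw [iUnion_disjointed]
      apply eq_univ_of_univ_subset
      intro x hx
      have := ht hx
      simp only [mem_iUnion] at this
      obtain ⟨y, hy, hxy⟩ := this
      exact mem_iUnion.mpr ⟨e ⟨y, hy⟩, by simpa [W'] using hxy⟩
    · intro k
      obtain ⟨i, hi⟩ := hWU (e.symm k).1
      exact ⟨i, (disjointed_subset W' k).trans hi⟩

end Groth.Agent.Lib.Helper20.WLocal2
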