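import Mathlib
import Groth.Agent.Lib.Helper20.Spectral
import Groth.Agent.Lib.Helper20.Spectral3
import Groth.Agent.Lib.Helper20.WLocal2

/-! π₀ of spectral spaces; fibre products of spectral spaces with profinite sets over π₀. -/

set_option autoImplicit false

namespace Groth.Agent.Lib.Helper20.PiZero

open Set Function TopologicalSpace Topology
open Groth.Agent.Lib.Helper20.Spectral Groth.Agent.Lib.Helper20.Spectral3
open Groth.Agent.Lib.Helper20.WLocal2

universe u

/-- `π₀` of a spectral space is Hausdorff. -/
theorem t2Space_connectedComponents (X : Type u) [TopologicalSpace X] [SpectralSpace X] :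
    T2Space (ConnectedComponents X) := by
  refine ⟨ConnectedComponents.surjective_coe.forall₂.2 fun a b ne => ?_⟩
  rw [ConnectedComponents.coe_ne_coe] at ne
  have h := connectedComponent_disjoint ne
  rw [connectedComponent_eq_iInter_isClopen' b, disjoint_iff_inter_eq_empty] at h
  obtain ⟨U, V, hU, ha, hb, rfl⟩ : ∃ (U : Set X) (V : Set (ConnectedComponents X)),
      IsClopen U ∧ connectedComponent a ∩ U = ∅ ∧ connectedComponent b ⊆ U ∧ (↑) ⁻¹' V = U := by
    have h :=
      (isClosed_connectedComponent (α := X)).isCompact.elim_finite_subfamily_closed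
        _ (fun s : { s : Set X // IsClopen s ∧ b ∈ s } => s.2.1.1) h
    obtain ⟨fin_a, ha⟩ := h
    set U : Set X := ⋂ (i : { s // IsClopen s ∧ b ∈ s }) (_ : i ∈ fin_a), i
    have hU : IsClopen U := isClopen_biInter_finset fun i _ => i.2.1
    exact ⟨U, (↑) '' U, hU, ha, subset_iInter₂ fun s _ => s.2.1.connectedComponent_subset s.2.2,
      (connectedComponents_preimage_image U).symm ▸ hU.biUnion_connectedComponent_eq⟩
  rw [ConnectedComponents.isQuotientMap_coe.isClopen_preimage] at hU
  refine ⟨Vᶜ, V, hU.compl.isOpen, hU.isOpen, ?_, hb mem_connectedComponent, disjoint_compl_left⟩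
  exact fun h => flip Set.Nonempty.ne_empty ha ⟨a, mem_connectedComponent, h⟩

/-- A profinite space is spectral. -/
theorem spectralSpace_of_profinite (T : Type u) [TopologicalSpace T] [CompactSpace T] [T2Space T]
    [TotallyDisconnectedSpace T] : SpectralSpace T := by
  have h4 : PrespectralSpace T :=
    PrespectralSpace.of_isTopologicalBasis isTopologicalBasis_isClopen
      (fun U hU => hU.1.isCompact)
  exact { }

section Pullback

variable (X T : Type u) [TopologicalSpace X] [SpectralSpace X]
  [TopologicalSpace T] [CompactSpace T] [T2Space T] [TotallyDisconnectedSpace T]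
  (g : C(T, _root_.ConnectedComponents X))

theorem isClosed_pullback :
    IsClosed {p : X × T | _root_.ConnectedComponents.mk p.1 = g p.2} := by
  haveI := t2Space_connectedComponents X
  exact isClosed_eq (ConnectedComponents.continuous_coe.comp continuous_fst)
    (g.continuous.comp continuous_snd)

theorem spectralSpace_pullback :
    SpectralSpace {p : X × T // _root_.ConnectedComponents.mk p.1 = g p.2} := by
  haveI : SpectralSpace T := spectralSpace_of_profinite T
  haveI : SpectralSpace (X × T) := spectralSpace_prod
  exact spectralSpace_of_isClosed_cons {p : X × T | _root_.ConnectedComponents.mk p.1 = g p.2}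
    (isClosed_cons_of_isClosed (isClosed_pullback X T g))

theorem exists_homeomorph_pullback :
    ∃ e : _root_.ConnectedComponents
        {p : X × T // _root_.ConnectedComponents.mk p.1 = g p.2} ≃ₜ T,
      ∀ y : {p : X × T // _root_.ConnectedComponents.mk p.1 = g p.2},
        e (_root_.ConnectedComponents.mk y) = y.1.2 := by
  haveI := spectralSpace_pullback X T g
  let Y := {p : X × T // _root_.ConnectedComponents.mk p.1 = g p.2}
  let q : Y → T := fun y => y.1.2
  have hq : Continuous q := continuous_snd.comp continuous_subtype_val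
  let l : _root_.ConnectedComponents Y → T := hq.connectedComponentsLift
  have hl : Continuous l := hq.connectedComponentsLift_continuous
  have hlc : ∀ y : Y, l (_root_.ConnectedComponents.mk y) = y.1.2 :=
    fun y => hq.connectedComponentsLift_apply_coe y
  have hsurj : Surjective l := by
    intro t
    obtain ⟨x, hx⟩ := ConnectedComponents.surjective_coe (g t)
    exact ⟨_root_.ConnectedComponents.mk (⟨(x, t), hx⟩ : Y), hlc _⟩
  have hinj : Injective l := by
    intro c₁ c₂ h
    obtain ⟨y₁, rfl⟩ := ConnectedComponents.surjective_coe c₁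
    obtain ⟨y₂, rfl⟩ := ConnectedComponents.surjective_coe c₂
    rw [hlc, hlc] at h
    rw [ConnectedComponents.coe_eq_coe']
    obtain ⟨⟨x₁, t₁⟩, h₁⟩ := y₁
    obtain ⟨⟨x₂, t₂⟩, h₂⟩ := y₂
    simp only at h h₁ h₂
    subst h
    have hx₁ : x₁ ∈ connectedComponent x₂ := by
      rw [← ConnectedComponents.coe_eq_coe', h₁, h₂]
    have hφ : ∀ x : connectedComponent x₂,
        _root_.ConnectedComponents.mk (x : X) = g t₁ := by
      intro x
      rw [← h₂]
      exact ConnectedComponents.coe_eq_coe'.mpr x.2
    let φ : connectedComponent x₂ → Y := fun x => ⟨((x : X), t₁), hφ x⟩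
    have hφc : Continuous φ :=
      Continuous.subtype_mk (continuous_subtype_val.prodMk continuous_const) _
    haveI : ConnectedSpace (connectedComponent x₂) :=
      isConnected_iff_connectedSpace.mp isConnected_connectedComponent
    have hconn : IsPreconnected (range φ) := (isConnected_range hφc).isPreconnected
    have h2mem : (⟨(x₂, t₁), h₂⟩ : Y) ∈ range φ := ⟨⟨x₂, mem_connectedComponent⟩, rfl⟩
    have h1mem : (⟨(x₁, t₁), h₁⟩ : Y) ∈ range φ := ⟨⟨x₁, hx₁⟩, rfl⟩
    exact hconn.subset_connectedComponent h2mem h1mem
  let e : _root_.ConnectedComponents Y ≃ T := Equiv.ofBijective l ⟨hinj, hsurj⟩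
  have he : Continuous e := hl
  exact ⟨he.homeoOfEquivCompactToT2, fun y => hlc y⟩

theorem main :
    SpectralSpace {p : X × T // _root_.ConnectedComponents.mk p.1 = g p.2} ∧
      ∃ e : _root_.ConnectedComponents
          {p : X × T // _root_.ConnectedComponents.mk p.1 = g p.2} ≃ₜ T,
        ∀ y : {p : X × T // _root_.ConnectedComponents.mk p.1 = g p.2},
          e (_root_.ConnectedComponents.mk y) = y.1.2 :=
  ⟨spectralSpace_pullback X T g, exists_homeomorph_pullback X T g⟩

end Pullback

end Groth.Agent.Lib.Helper20.PiZero
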