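import Mathlib
import Groth.Prelude.Def_PBC
import Groth.Agent.Lib.Helper20.PiZero

namespace Groth.Agent.Lib.Helper20.IndZar

open CategoryTheory CategoryTheory.Limits

universe u

theorem toAlgebra_algebraMap (A B : Type u) [CommRing A] [CommRing B] [inst : Algebra A B] :
    (algebraMap A B).toAlgebra = inst :=
  Algebra.algebra_ext _ _ (fun _ => rfl)

theorem under_w_apply {R : CommRingCat.{u}} {X Y : Under R} (f : X ⟶ Y) (a : R) :
    Y.hom.hom a = f.right.hom (X.hom.hom a) := by
  have := Under.w f
  rw [← this]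
  rfl

section Quot

variable (A : Type u) [CommRing A] {J : Type u} [Preorder J] [IsDirected J (· ≤ ·)] [Nonempty J]
  (I : J → Ideal A) (hI : Monotone I)

/-- the diagram of quotients -/
noncomputable def quotDiagram : J ⥤ Under (CommRingCat.of A) where
  obj j := Under.mk (CommRingCat.ofHom (algebraMap A (A ⧸ I j)))
  map {j j'} h := Under.homMk (CommRingCat.ofHom (Ideal.Quotient.factor (hI h.le))) (by
    ext a
    simp)
  map_id j := by
    ext a
    obtain ⟨a, rfl⟩ := Ideal.Quotient.mk_surjective a
    simp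
  map_comp {j j' j''} f g := by
    ext a
    obtain ⟨a, rfl⟩ := Ideal.Quotient.mk_surjective a
    simp

noncomputable def quotCocone : Cocone (quotDiagram A I hI) where
  pt := Under.mk (CommRingCat.ofHom (algebraMap A (A ⧸ ⨆ j, I j)))
  ι :=
    { app := fun j => Under.homMk (CommRingCat.ofHom (Ideal.Quotient.factor (le_iSup I j))) (by
        ext a
        simp [quotDiagram])
      naturality := fun j j' f => by
        ext a
        obtain ⟨a, rfl⟩ := Ideal.Quotient.mk_surjective a
        simp [quotDiagram] }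

theorem map_eq_zero_of_mem (s : Cocone (quotDiagram A I hI)) (a : A) (ha : a ∈ ⨆ j, I j) :
    s.pt.hom.hom a = 0 := by
  obtain ⟨j, hj⟩ := (Submodule.mem_iSup_of_directed I hI.directed_le).mp ha
  have h2 : s.pt.hom.hom a = (s.ι.app j).right.hom ((quotDiagram A I hI).obj j |>.hom.hom a) :=
    under_w_apply (s.ι.app j) a
  rw [h2]
  have h3 : ((quotDiagram A I hI).obj j).hom.hom a = 0 := by
    show Ideal.Quotient.mk (I j) a = 0
    exact Ideal.Quotient.eq_zero_iff_mem.mpr hj
  rw [h3, map_zero]

noncomputable def quotIsColimit : IsColimit (quotCocone A I hI) where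
  desc s := Under.homMk (CommRingCat.ofHom (Ideal.Quotient.lift (⨆ j, I j) s.pt.hom.hom
      (map_eq_zero_of_mem A I hI s))) (by
        ext a
        simp [quotCocone])
  fac s j := by
    ext a
    obtain ⟨a, rfl⟩ := Ideal.Quotient.mk_surjective a
    have h2 : s.pt.hom.hom a = (s.ι.app j).right.hom ((quotDiagram A I hI).obj j |>.hom.hom a) :=
      under_w_apply (s.ι.app j) a
    show Ideal.Quotient.lift (⨆ j, I j) s.pt.hom.hom (map_eq_zero_of_mem A I hI s)
      (Ideal.Quotient.factor (le_iSup I j) (Ideal.Quotient.mk (I j) a)) =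
      (s.ι.app j).right.hom (Ideal.Quotient.mk (I j) a)
    rw [Ideal.Quotient.factor_mk, Ideal.Quotient.lift_mk]
    exact h2
  uniq s m hm := by
    ext a
    obtain ⟨a, rfl⟩ := Ideal.Quotient.mk_surjective a
    have h2 : s.pt.hom.hom a = m.right.hom ((quotCocone A I hI).pt.hom.hom a) :=
      under_w_apply m a
    show m.right.hom (Ideal.Quotient.mk (⨆ j, I j) a) =
      Ideal.Quotient.lift (⨆ j, I j) s.pt.hom.hom (map_eq_zero_of_mem A I hI s)
        (Ideal.Quotient.mk (⨆ j, I j) a)
    rw [Ideal.Quotient.lift_mk]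
    exact h2.symm

include hI in
theorem isIndZariski_quotient_iSup (hloc : ∀ j, Algebra.IsLocalIso A (A ⧸ I j)) :
    EtPBC.IsIndZariski A (A ⧸ ⨆ j, I j) := by
  refine ⟨J, inferInstance, isFiltered_of_directed_le_nonempty J, quotDiagram A I hI,
    quotCocone A I hI, quotIsColimit A I hI, ?_, ⟨Iso.refl _⟩⟩
  intro j
  have h : ((quotDiagram A I hI).obj j).hom.hom.toAlgebra =
      (inferInstance : Algebra A (A ⧸ I j)) := toAlgebra_algebraMap A (A ⧸ I j)
  show @Algebra.IsLocalIso A (A ⧸ I j) _ _ ((quotDiagram A I hI).obj j).hom.hom.toAlgebra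
  rw [h]
  exact hloc j

end Quot

theorem isLocalIso_quotient_span_idempotent (A : Type u) [CommRing A] {e : A}
    (he : IsIdempotentElem e) : Algebra.IsLocalIso A (A ⧸ Ideal.span {e}) := by
  have h : IsLocalization.Away (1 - e) (A ⧸ Ideal.span {e}) := by
    apply IsLocalization.away_of_isIdempotentElem he.one_sub
    · rw [Ideal.Quotient.algebraMap_eq, Ideal.mk_ker]
      simp
    · exact Ideal.Quotient.mk_surjective
  have : Algebra.IsStandardOpenImmersion A (A ⧸ Ideal.span {e}) := ⟨⟨1 - e, h⟩⟩
  infer_instance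

section Closed

variable (A : Type u) [CommRing A] (Z : Set (PrimeSpectrum A))

/-- ideals generated by one idempotent vanishing on `Z` -/
def IdemIdeals : Type u :=
  {I : Ideal A // ∃ e : A, IsIdempotentElem e ∧ Z ⊆ PrimeSpectrum.zeroLocus {e} ∧ I = Ideal.span {e}}

instance : Preorder (IdemIdeals A Z) := Subtype.preorder _

instance : Nonempty (IdemIdeals A Z) :=
  ⟨⟨⊥, 0, IsIdempotentElem.zero, by simp, by simp⟩⟩

instance : IsDirected (IdemIdeals A Z) (· ≤ ·) := by
  refine ⟨?_⟩
  rintro ⟨I, e, he, hZ, rfl⟩ ⟨I', e', he', hZ', rfl⟩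
  have hid : IsIdempotentElem (e + e' - e * e') := by
    have h1 : e * e = e := he
    have h2 : e' * e' = e' := he'
    show (e + e' - e * e') * (e + e' - e * e') = e + e' - e * e'
    have : (e + e' - e * e') * (e + e' - e * e') =
        e * e + e' * e' + 2 * (e * e') - 2 * (e * e) * e' - 2 * e * (e' * e')
          + (e * e) * (e' * e') := by ring
    rw [this, h1, h2]
    ring
  refine ⟨⟨Ideal.span {e + e' - e * e'}, _, hid, ?_, rfl⟩, ?_, ?_⟩
  · intro x hx
    have h1 := hZ hx
    have h2 := hZ' hx
    simp only [PrimeSpectrum.mem_zeroLocus, Set.singleton_subset_iff, SetLike.mem_coe] at h1 h2 ⊢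
    exact x.asIdeal.sub_mem (x.asIdeal.add_mem h1 h2) (x.asIdeal.mul_mem_right _ h1)
  · show Ideal.span {e} ≤ Ideal.span {e + e' - e * e'}
    rw [Ideal.span_singleton_le_span_singleton]
    refine ⟨e, ?_⟩
    have h1 : e * e = e := he
    have : (e + e' - e * e') * e = e * e + e' * e - (e * e) * e' := by ring
    rw [this, h1]
    ring
  · show Ideal.span {e'} ≤ Ideal.span {e + e' - e * e'}
    rw [Ideal.span_singleton_le_span_singleton]
    refine ⟨e', ?_⟩
    have h2 : e' * e' = e' := he'
    have : (e + e' - e * e') * e' = e * e' + e' * e' - e * (e' * e') := by ring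
    rw [this, h2]
    ring

/-- the ideal generated by all idempotents vanishing on `Z` -/
def idemIdeal : Ideal A := ⨆ j : IdemIdeals A Z, j.1

theorem isIndZariski_quotient_idemIdeal : EtPBC.IsIndZariski A (A ⧸ idemIdeal A Z) := by
  apply isIndZariski_quotient_iSup A (fun j : IdemIdeals A Z => j.1) (fun _ _ h => h)
  rintro ⟨I, e, he, hZ, rfl⟩
  exact isLocalIso_quotient_span_idempotent A he

theorem zeroLocus_idemIdeal :
    PrimeSpectrum.zeroLocus (idemIdeal A Z : Set A) =
      ⋂ (e : A) (_ : IsIdempotentElem e) (_ : Z ⊆ PrimeSpectrum.zeroLocus {e}),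
        PrimeSpectrum.zeroLocus {e} := by
  ext x
  simp only [idemIdeal, PrimeSpectrum.mem_zeroLocus, Set.mem_iInter, Set.singleton_subset_iff,
    SetLike.mem_coe, SetLike.coe_subset_coe]
  constructor
  · intro h e he hZ
    have : Ideal.span {e} ≤ x.asIdeal :=
      le_trans (le_iSup (fun j : IdemIdeals A Z => j.1) ⟨Ideal.span {e}, e, he, hZ, rfl⟩) h
    exact this (Ideal.subset_span rfl)
  · intro h
    refine iSup_le ?_
    rintro ⟨I, e, he, hZ, rfl⟩
    rw [Ideal.span_singleton_le_iff_mem]
    exact h e he hZ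

/-- closed saturated subsets are cut out by idempotents -/
theorem iInter_zeroLocus_idem_eq (T : Set (_root_.ConnectedComponents (PrimeSpectrum A)))
    (hT : IsClosed T) :
    (⋂ (e : A) (_ : IsIdempotentElem e)
      (_ : _root_.ConnectedComponents.mk ⁻¹' T ⊆ PrimeSpectrum.zeroLocus {e}),
        PrimeSpectrum.zeroLocus {e}) = _root_.ConnectedComponents.mk ⁻¹' T := by
  have := PiZero.t2Space_connectedComponents (PrimeSpectrum A)
  apply Set.Subset.antisymm
  · intro x hx
    by_contra hxT
    have hxT' : _root_.ConnectedComponents.mk x ∈ Tᶜ := hxT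
    obtain ⟨V, hV, hxV, hVT⟩ := compact_exists_isClopen_in_isOpen hT.isOpen_compl hxT'
    have hV' : IsClopen (_root_.ConnectedComponents.mk ⁻¹' V : Set (PrimeSpectrum A)) :=
      hV.preimage _root_.ConnectedComponents.continuous_coe
    obtain ⟨e, he, hVe⟩ := PrimeSpectrum.isClopen_iff.mp hV'
    simp only [Set.mem_iInter] at hx
    have h1 : _root_.ConnectedComponents.mk ⁻¹' T ⊆ PrimeSpectrum.zeroLocus {e} := by
      intro y hy
      rw [PrimeSpectrum.mem_zeroLocus, Set.singleton_subset_iff]
      by_contra hne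
      have : y ∈ (PrimeSpectrum.basicOpen e : Set (PrimeSpectrum A)) := hne
      rw [← hVe] at this
      exact hVT this hy
    have h2 := hx e he h1
    rw [PrimeSpectrum.mem_zeroLocus, Set.singleton_subset_iff] at h2
    have h3 : x ∈ (PrimeSpectrum.basicOpen e : Set (PrimeSpectrum A)) := by
      rw [← hVe]
      exact hxV
    exact h3 h2
  · intro x hx
    simp only [Set.mem_iInter]
    intro e _ hZ
    exact hZ hx

theorem exists_quotient (T : Set (_root_.ConnectedComponents (PrimeSpectrum A))) (hT : IsClosed T) :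
    ∃ (B : Type u) (_ : CommRing B) (_ : Algebra A B),
      EtPBC.IsIndZariski A B ∧ Function.Surjective (algebraMap A B) ∧
      Topology.IsEmbedding (PrimeSpectrum.comap (algebraMap A B)) ∧
      Set.range (PrimeSpectrum.comap (algebraMap A B)) = _root_.ConnectedComponents.mk ⁻¹' T := by
  refine ⟨A ⧸ idemIdeal A (_root_.ConnectedComponents.mk ⁻¹' T), inferInstance, inferInstance,
    isIndZariski_quotient_idemIdeal A _, Ideal.Quotient.mk_surjective, ?_, ?_⟩
  · exact PrimeSpectrum.isEmbedding_comap_of_surjective _ _ Ideal.Quotient.mk_surjective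
  · rw [Ideal.Quotient.algebraMap_eq,
      _root_.range_comap_of_surjective _ _ Ideal.Quotient.mk_surjective,
      Ideal.mk_ker, zeroLocus_idemIdeal, iInter_zeroLocus_idem_eq A T hT]

end Closed

end Groth.Agent.Lib.Helper20.IndZar
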