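import Mathlib
import Groth.Prelude.Def_PBC
import Groth.Agent.Lib.Helper20.ColimCrit
import Groth.Agent.Lib.Helper20.IndZar

namespace Groth.Agent.Lib.Helper20.IndEtCrit

open CategoryTheory CategoryTheory.Limits

universe u

variable (A B : Type u) [CommRing A] [CommRing B] [Algebra A B]

/-- the factorization property: every map from a finitely presented algebra to `B` factors through
an étale algebra -/
def Factors : Prop :=
  ∀ (Z : Type u) [CommRing Z] [Algebra A Z] [Algebra.FinitePresentation A Z] (g : Z →ₐ[A] B),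
    ∃ (W : Type u) (_ : CommRing W) (_ : Algebra A W) (_ : Algebra.Etale A W)
      (u : Z →ₐ[A] W) (v : W →ₐ[A] B), v.comp u = g

/-- objects: presented étale algebras with a map to `B` -/
structure Obj : Type u where
  n : ℕ
  I : Ideal (MvPolynomial (Fin n) A)
  etale : Algebra.Etale A (MvPolynomial (Fin n) A ⧸ I)
  φ : (MvPolynomial (Fin n) A ⧸ I) →ₐ[A] B

variable {A B}

/-- the algebra of an object -/
abbrev Obj.E (X : Obj A B) : Type u := MvPolynomial (Fin X.n) A ⧸ X.I

instance (X : Obj A B) : Algebra.Etale A X.E := X.etale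

noncomputable instance : Category (Obj A B) where
  Hom X Y := {f : X.E →ₐ[A] Y.E // Y.φ.comp f = X.φ}
  id X := ⟨AlgHom.id A _, rfl⟩
  comp f g := ⟨g.1.comp f.1, by rw [← AlgHom.comp_assoc, g.2, f.2]⟩
  id_comp _ := Subtype.ext rfl
  comp_id _ := Subtype.ext rfl
  assoc _ _ _ := Subtype.ext rfl

/-- every étale algebra with a map to `B` gives an object -/
theorem exists_obj (W : Type u) [CommRing W] [Algebra A W] [Algebra.Etale A W] (v : W →ₐ[A] B) :
    ∃ (X : Obj A B) (e : X.E ≃ₐ[A] W), X.φ = v.comp e.toAlgHom := by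
  obtain ⟨n, f, hf, -⟩ := Algebra.FinitePresentation.out (R := A) (A := W)
  let e : (MvPolynomial (Fin n) A ⧸ RingHom.ker f.toRingHom) ≃ₐ[A] W :=
    Ideal.quotientKerAlgEquivOfSurjective hf
  exact ⟨⟨n, RingHom.ker f.toRingHom, Algebra.Etale.of_equiv e.symm, v.comp e.toAlgHom⟩, e, rfl⟩

variable (A B)

/-- the diagram -/
noncomputable def diag : Obj A B ⥤ Under (CommRingCat.of A) where
  obj X := Under.mk (CommRingCat.ofHom (algebraMap A X.E))
  map {X Y} f := Under.homMk (CommRingCat.ofHom f.1.toRingHom) (by
    ext a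
    exact f.1.commutes a)
  map_id X := rfl
  map_comp f g := rfl

/-- the cocone -/
noncomputable def cocone : Cocone (diag A B) where
  pt := Under.mk (CommRingCat.ofHom (algebraMap A B))
  ι :=
    { app := fun X => Under.homMk (CommRingCat.ofHom X.φ.toRingHom) (by
        ext a
        exact X.φ.commutes a)
      naturality := fun X Y f => by
        ext x
        exact congrArg (fun h : X.E →ₐ[A] B => h x) f.2 }

variable {A B}

theorem isFiltered (h : Factors A B) : IsFiltered (Obj A B) := by
  haveI : Nonempty (Obj A B) := by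
    obtain ⟨W, _, _, _, u, v, -⟩ := h A (Algebra.ofId A B)
    obtain ⟨X, -, -⟩ := exists_obj W v
    exact ⟨X⟩
  haveI : IsFilteredOrEmpty (Obj A B) := by
    refine ⟨?_, ?_⟩
    · intro X Y
      haveI : Algebra.FinitePresentation A (TensorProduct A X.E Y.E) :=
        Algebra.FinitePresentation.trans A X.E (TensorProduct A X.E Y.E)
      obtain ⟨W, _, _, _, u, v, huv⟩ := h (TensorProduct A X.E Y.E)
        (Algebra.TensorProduct.productMap X.φ Y.φ)
      obtain ⟨Z, e, hZ⟩ := exists_obj W v
      refine ⟨Z, ⟨e.symm.toAlgHom.comp (u.comp Algebra.TensorProduct.includeLeft), ?_⟩,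
        ⟨e.symm.toAlgHom.comp (u.comp Algebra.TensorProduct.includeRight), ?_⟩, trivial⟩
      · rw [hZ]
        apply AlgHom.ext
        intro x
        have := congrArg (fun k : TensorProduct A X.E Y.E →ₐ[A] B =>
          k ((Algebra.TensorProduct.includeLeft : X.E →ₐ[A] TensorProduct A X.E Y.E) x)) huv
        simpa using this
      · rw [hZ]
        apply AlgHom.ext
        intro x
        have := congrArg (fun k : TensorProduct A X.E Y.E →ₐ[A] B =>
          k ((Algebra.TensorProduct.includeRight : Y.E →ₐ[A] TensorProduct A X.E Y.E) x)) huv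
        simpa using this
    · intro X Y f g
      let gen : Fin X.n → X.E := fun k => Ideal.Quotient.mk X.I (MvPolynomial.X k)
      let K : Ideal Y.E := Ideal.span (Set.range fun k => f.1 (gen k) - g.1 (gen k))
      have hKfg : K.FG := by
        classical
        refine ⟨(Finset.univ.image fun k => f.1 (gen k) - g.1 (gen k)), ?_⟩
        simp [K]
      haveI : Algebra.FinitePresentation A (Y.E ⧸ K) :=
        Algebra.FinitePresentation.quotient hKfg
      have hK : ∀ y ∈ K, Y.φ y = 0 := by
        intro y hy
        have : K ≤ RingHom.ker Y.φ.toRingHom := by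
          rw [Ideal.span_le]
          rintro _ ⟨k, rfl⟩
          show Y.φ (f.1 (gen k) - g.1 (gen k)) = 0
          rw [map_sub]
          have h1 := congrArg (fun h : X.E →ₐ[A] B => h (gen k)) f.2
          have h2 := congrArg (fun h : X.E →ₐ[A] B => h (gen k)) g.2
          simp only [AlgHom.comp_apply] at h1 h2
          rw [h1, h2, sub_self]
        exact this hy
      obtain ⟨W, _, _, _, u, v, huv⟩ := h (Y.E ⧸ K) (Ideal.Quotient.liftₐ K Y.φ hK)
      obtain ⟨Z, e, hZ⟩ := exists_obj W v
      refine ⟨Z, ⟨e.symm.toAlgHom.comp (u.comp (Ideal.Quotient.mkₐ A K)), ?_⟩, ?_⟩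
      · rw [hZ]
        apply AlgHom.ext
        intro y
        have := congrArg (fun k : _ →ₐ[A] B => k (Ideal.Quotient.mkₐ A K y)) huv
        simpa using this
      · apply Subtype.ext
        show (e.symm.toAlgHom.comp (u.comp (Ideal.Quotient.mkₐ A K))).comp f.1 =
          (e.symm.toAlgHom.comp (u.comp (Ideal.Quotient.mkₐ A K))).comp g.1
        have hfg : (Ideal.Quotient.mkₐ A K).comp f.1 = (Ideal.Quotient.mkₐ A K).comp g.1 := by
          apply Ideal.Quotient.algHom_ext
          apply MvPolynomial.algHom_ext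
          intro k
          show Ideal.Quotient.mk K (f.1 (gen k)) = Ideal.Quotient.mk K (g.1 (gen k))
          rw [Ideal.Quotient.eq]
          exact Ideal.subset_span ⟨k, rfl⟩
        simp only [AlgHom.comp_assoc, hfg]
  exact {}

theorem isIndEtale_of_factors (h : Factors A B) : EtPBC.IsIndEtale A B := by
  haveI := isFiltered h
  have hcol : Nonempty (IsColimit (cocone A B)) := by
    apply ColimCrit.isColimit_of_surj_inj
    · intro (b : B)
      obtain ⟨W, _, _, _, u, v, huv⟩ := h (MvPolynomial (Fin 1) A)
        (MvPolynomial.aeval (fun _ => b))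
      obtain ⟨X, e, hX⟩ := exists_obj W v
      refine ⟨X, e.symm (u (MvPolynomial.X 0)), ?_⟩
      show X.φ (e.symm (u (MvPolynomial.X 0))) = b
      rw [hX]
      have := congrArg (fun k : _ →ₐ[A] B => k (MvPolynomial.X 0)) huv
      simpa using this
    · intro X (x : X.E) (y : X.E) hxy
      have hxy' : X.φ x = X.φ y := hxy
      let K : Ideal X.E := Ideal.span {x - y}
      haveI : Algebra.FinitePresentation A (X.E ⧸ K) :=
        Algebra.FinitePresentation.quotient ⟨{x - y}, by simp [K]⟩
      have hK : ∀ z ∈ K, X.φ z = 0 := by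
        intro z hz
        have : K ≤ RingHom.ker X.φ.toRingHom := by
          rw [Ideal.span_le]
          rintro _ rfl
          show X.φ (x - y) = 0
          rw [map_sub, hxy', sub_self]
        exact this hz
      obtain ⟨W, _, _, _, u, v, huv⟩ := h (X.E ⧸ K) (Ideal.Quotient.liftₐ K X.φ hK)
      obtain ⟨Z, e, hZ⟩ := exists_obj W v
      refine ⟨Z, ⟨e.symm.toAlgHom.comp (u.comp (Ideal.Quotient.mkₐ A K)), ?_⟩, ?_⟩
      · rw [hZ]
        apply AlgHom.ext
        intro y
        have := congrArg (fun k : _ →ₐ[A] B => k (Ideal.Quotient.mkₐ A K y)) huv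
        simpa using this
      · show e.symm (u (Ideal.Quotient.mk K x)) = e.symm (u (Ideal.Quotient.mk K y))
        have : Ideal.Quotient.mk K x = Ideal.Quotient.mk K y := by
          rw [Ideal.Quotient.eq]
          exact Ideal.subset_span rfl
        rw [this]
  obtain ⟨hc⟩ := hcol
  refine ⟨Obj A B, inferInstance, inferInstance, diag A B, cocone A B, hc, ?_, ⟨Iso.refl _⟩⟩
  intro X
  have e : ((diag A B).obj X).hom.hom.toAlgebra = (inferInstance : Algebra A X.E) :=
    IndZar.toAlgebra_algebraMap A X.E
  show @Algebra.Etale A X.E _ _ ((diag A B).obj X).hom.hom.toAlgebra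
  rw [e]
  exact X.etale

end Groth.Agent.Lib.Helper20.IndEtCrit
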