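import Mathlib
import Groth.Prelude.Def_PBC
import Groth.Agent.Lib.Helper20.IndEtCrit

namespace Groth.Agent.Lib.Helper20.IndEtCrit

open CategoryTheory CategoryTheory.Limits

universe u

variable {A B : Type u} [CommRing A] [CommRing B] [Algebra A B]

theorem factors_of_isIndEtale (h : EtPBC.IsIndEtale A B) : Factors A B := by
  obtain ⟨J, hJ, hJf, D, c, hc, hEt, ⟨e⟩⟩ := h
  intro Z _ _ _ g
  let Z' : Under (CommRingCat.of A) := Under.mk (CommRingCat.ofHom (algebraMap A Z))
  have hfp : (algebraMap A Z).FinitePresentation :=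
    RingHom.finitePresentation_algebraMap.mpr inferInstance
  haveI : IsFinitelyPresentable.{u} Z' := CommRingCat.isFinitelyPresentable_under _ Z' hfp
  let g' : Z' ⟶ Under.mk (CommRingCat.ofHom (algebraMap A B)) :=
    Under.homMk (CommRingCat.ofHom g.toRingHom) (by
      ext a
      exact g.commutes a)
  obtain ⟨j, p, hp⟩ := IsFinitelyPresentable.exists_hom_of_isColimit hc (g' ≫ e.inv)
  letI : Algebra A (D.obj j).right := (D.obj j).hom.hom.toAlgebra
  haveI : Algebra.Etale A (D.obj j).right := hEt j
  let v' : D.obj j ⟶ Under.mk (CommRingCat.ofHom (algebraMap A B)) := c.ι.app j ≫ e.hom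
  refine ⟨(D.obj j).right, inferInstance, inferInstance, inferInstance,
    ⟨p.right.hom, fun a => ?_⟩, ⟨v'.right.hom, fun a => ?_⟩, ?_⟩
  · exact (IndZar.under_w_apply p a).symm
  · exact (IndZar.under_w_apply v' a).symm
  · apply AlgHom.ext
    intro z
    have h1 : p ≫ v' = g' := by
      show p ≫ c.ι.app j ≫ e.hom = g'
      rw [← Category.assoc, hp, Category.assoc, e.inv_hom_id, Category.comp_id]
    have h2 := congrArg (fun k : Z' ⟶ _ => k.right.hom z) h1
    exact h2

theorem isIndEtale_iff_factors : EtPBC.IsIndEtale A B ↔ Factors A B :=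
  ⟨factors_of_isIndEtale, isIndEtale_of_factors⟩

end Groth.Agent.Lib.Helper20.IndEtCrit
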