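import Mathlib
import Groth.Prelude.Def_PBC
import Groth.Agent.Lib.Helper20.IndEtCrit2

namespace Groth.Agent.Lib.Helper20.IndEtCrit

open CategoryTheory CategoryTheory.Limits TensorProduct

universe u

variable {A B : Type u} [CommRing A] [CommRing B] [Algebra A B]

/-- finitely many elements of an ind-étale algebra come from an étale algebra -/
theorem exists_etale_range (h : Factors A B) (s : Set B) (hs : s.Finite) :
    ∃ (B₀ : Type u) (_ : CommRing B₀) (_ : Algebra A B₀) (_ : Algebra.Etale A B₀)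
      (β : B₀ →ₐ[A] B), s ⊆ Set.range β := by
  haveI : Finite s := hs
  obtain ⟨W, _, _, _, u, v, huv⟩ := h (MvPolynomial s A) (MvPolynomial.aeval (fun x => x.1))
  refine ⟨W, inferInstance, inferInstance, inferInstance, v, ?_⟩
  intro x hx
  refine ⟨u (MvPolynomial.X ⟨x, hx⟩), ?_⟩
  have := congrArg (fun k : MvPolynomial s A →ₐ[A] B => k (MvPolynomial.X ⟨x, hx⟩)) huv
  simpa using this

end Groth.Agent.Lib.Helper20.IndEtCrit

namespace Groth.Agent.Lib.Helper20.IndEtCrit

open CategoryTheory CategoryTheory.Limits TensorProduct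

universe u

variable {A B : Type u} [CommRing A] [CommRing B] [Algebra A B]
  {C : Type u} [CommRing C] [Algebra A C] [Algebra B C] [IsScalarTower A B C]

theorem factors_cancel (hB : Factors A B) (hC : Factors A C) : Factors B C := by
  intro Z _ _ _ g
  let P := Algebra.Presentation.ofFinitePresentation B Z
  obtain ⟨B₀, _, _, _, β, hβ⟩ := exists_etale_range hB P.coeffs P.finite_coeffs
  letI : Algebra B₀ B := β.toRingHom.toAlgebra
  haveI : IsScalarTower A B₀ B := IsScalarTower.of_algebraMap_eq (fun a => (β.commutes a).symm)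
  letI : Algebra B₀ Z := Algebra.compHom Z (algebraMap B₀ B)
  haveI : IsScalarTower B₀ B Z := IsScalarTower.of_algebraMap_eq (fun _ => rfl)
  letI : Algebra B₀ C := Algebra.compHom C (algebraMap B₀ B)
  haveI : IsScalarTower B₀ B C := IsScalarTower.of_algebraMap_eq (fun _ => rfl)
  haveI : IsScalarTower A B₀ C := IsScalarTower.of_algebraMap_eq (fun a => by
    show algebraMap A C a = algebraMap B C (β (algebraMap A B₀ a))
    rw [β.commutes, ← IsScalarTower.algebraMap_apply])
  haveI : P.HasCoeffs B₀ := ⟨hβ⟩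
  let e : B ⊗[B₀] P.ModelOfHasCoeffs B₀ ≃ₐ[B] Z := P.tensorModelOfHasCoeffsEquiv B₀
  let g₀' : P.ModelOfHasCoeffs B₀ →ₐ[B₀] C :=
    ((g.restrictScalars B₀).comp (e.toAlgHom.restrictScalars B₀)).comp
      Algebra.TensorProduct.includeRight
  let g₀ : P.ModelOfHasCoeffs B₀ →ₐ[A] C := g₀'.restrictScalars A
  haveI : Algebra.FinitePresentation A (P.ModelOfHasCoeffs B₀) :=
    Algebra.FinitePresentation.trans A B₀ (P.ModelOfHasCoeffs B₀)
  obtain ⟨W₀, _, _, _, u₀, v₀, huv⟩ := hC (P.ModelOfHasCoeffs B₀) g₀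
  letI : Algebra B₀ W₀ := (u₀.toRingHom.comp (algebraMap B₀ (P.ModelOfHasCoeffs B₀))).toAlgebra
  haveI : IsScalarTower A B₀ W₀ := IsScalarTower.of_algebraMap_eq (fun a => by
    show algebraMap A W₀ a = u₀ (algebraMap B₀ (P.ModelOfHasCoeffs B₀) (algebraMap A B₀ a))
    rw [← IsScalarTower.algebraMap_apply A B₀ (P.ModelOfHasCoeffs B₀), u₀.commutes])
  haveI : Algebra.Etale B₀ W₀ := Algebra.Etale.of_restrictScalars (R := A) (A := B₀) (B := W₀)
  let u₀' : P.ModelOfHasCoeffs B₀ →ₐ[B₀] W₀ := { u₀.toRingHom with commutes' := fun _ => rfl }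
  let v₀' : W₀ →ₐ[B₀] C :=
    { v₀.toRingHom with
      commutes' := fun b₀ => by
        show v₀ (u₀ (algebraMap B₀ (P.ModelOfHasCoeffs B₀) b₀)) = algebraMap B₀ C b₀
        have := congrArg (fun k : P.ModelOfHasCoeffs B₀ →ₐ[A] C =>
          k (algebraMap B₀ (P.ModelOfHasCoeffs B₀) b₀)) huv
        simp only [AlgHom.comp_apply] at this
        rw [this]
        exact g₀'.commutes b₀ }
  refine ⟨B ⊗[B₀] W₀, inferInstance, inferInstance, inferInstance,
    (Algebra.TensorProduct.map (AlgHom.id B B) u₀').comp e.symm.toAlgHom,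
    Algebra.TensorProduct.lift (Algebra.ofId B C) v₀' (fun _ _ => Commute.all _ _), ?_⟩
  apply AlgHom.ext
  intro z
  obtain ⟨t, rfl⟩ := e.surjective z
  simp only [AlgHom.comp_apply, AlgEquiv.coe_algHom, AlgEquiv.symm_apply_apply]
  induction t using TensorProduct.induction_on with
  | zero => simp
  | add x y hx hy => simp only [map_add, hx, hy]
  | tmul b z₀ =>
    rw [Algebra.TensorProduct.map_tmul, Algebra.TensorProduct.lift_tmul]
    have h1 : v₀ (u₀ z₀) = g (e (1 ⊗ₜ z₀)) := by
      have := congrArg (fun k : P.ModelOfHasCoeffs B₀ →ₐ[A] C => k z₀) huv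
      exact this
    have h2 : (b ⊗ₜ[B₀] z₀ : B ⊗[B₀] P.ModelOfHasCoeffs B₀) = b • (1 ⊗ₜ z₀) := by
      rw [TensorProduct.smul_tmul', smul_eq_mul, mul_one]
    rw [h2, map_smul, map_smul, ← h1, Algebra.smul_def]
    rfl

end Groth.Agent.Lib.Helper20.IndEtCrit
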