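import Mathlib
import Groth.Prelude.Def_PBC
import Groth.Agent.Lib.Helper20.IndEtCancel
import Groth.Agent.Lib.Helper9.IndEt1

namespace Groth.Agent.Lib.Helper20.IndEtCrit

open CategoryTheory CategoryTheory.Limits TensorProduct

universe u

section T1

variable {A E C : Type u} [CommRing A] [CommRing E] [CommRing C] [Algebra A E] [Algebra A C]
  [Algebra E C] [IsScalarTower A E C]

/-- étale followed by ind-étale -/
theorem factors_trans_etale [Algebra.Etale A E] (h : Factors E C) : Factors A C := by
  intro Z _ _ _ g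
  let gE : E ⊗[A] Z →ₐ[E] C :=
    Algebra.TensorProduct.lift (Algebra.ofId E C) g (fun _ _ => Commute.all _ _)
  obtain ⟨W, _, _, _, u, v, huv⟩ := h (E ⊗[A] Z) gE
  letI : Algebra A W := Algebra.compHom W (algebraMap A E)
  haveI : IsScalarTower A E W := IsScalarTower.of_algebraMap_eq (fun _ => rfl)
  haveI : Algebra.Etale A W := Algebra.Etale.comp A E W
  refine ⟨W, inferInstance, inferInstance, inferInstance,
    (u.restrictScalars A).comp Algebra.TensorProduct.includeRight, v.restrictScalars A, ?_⟩
  apply AlgHom.ext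
  intro z
  have := congrArg (fun k : E ⊗[A] Z →ₐ[E] C => k (1 ⊗ₜ z)) huv
  simpa [gE] using this

/-- an étale algebra is ind-étale -/
theorem factors_of_etale [Algebra.Etale A E] : Factors A E := by
  intro Z _ _ _ g
  exact ⟨E, inferInstance, inferInstance, inferInstance, g, AlgHom.id A E, rfl⟩

end T1

section T23

variable {A B : Type u} [CommRing A] [CommRing B] [Algebra A B]

theorem factors_baseChange (A' : Type u) [CommRing A'] [Algebra A A'] (h : Factors A B) :
    Factors A' (A' ⊗[A] B) :=
  isIndEtale_iff_factors.mp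
    (Groth.Agent.Lib.Helper9.IndEt.isIndEtale_baseChange A A' B (isIndEtale_iff_factors.mpr h))

theorem factors_of_algEquiv {B' : Type u} [CommRing B'] [Algebra A B'] (e : B ≃ₐ[A] B')
    (h : Factors A B) : Factors A B' := by
  intro Z _ _ _ g
  obtain ⟨W, _, _, _, u, v, huv⟩ := h Z (e.symm.toAlgHom.comp g)
  refine ⟨W, inferInstance, inferInstance, inferInstance, u, e.toAlgHom.comp v, ?_⟩
  rw [AlgHom.comp_assoc, huv, ← AlgHom.comp_assoc]
  apply AlgHom.ext
  intro z
  simp

end T23

end Groth.Agent.Lib.Helper20.IndEtCrit
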