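import Mathlib
import Groth.Prelude.Def_PBC
import Groth.Agent.Lib.Helper20.IndEtTrans

namespace Groth.Agent.Lib.Helper20.IndEtCrit

open CategoryTheory CategoryTheory.Limits TensorProduct

universe u

section T4a

variable {R R₁ S W₁ : Type u} [CommRing R] [CommRing R₁] [CommRing S] [CommRing W₁]
  [Algebra R R₁] [Algebra R S] [Algebra R₁ S] [IsScalarTower R R₁ S] [Algebra R₁ W₁]
  [Algebra R W₁] [IsScalarTower R R₁ W₁] [Algebra.Etale R R₁] [Algebra.Etale R₁ W₁]

theorem factors_tensor_etale (hS : Factors R S) : Factors R (S ⊗[R₁] W₁) := by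
  have h1 : Factors R₁ S := factors_cancel (factors_of_etale : Factors R R₁) hS
  have h2 : Factors W₁ (W₁ ⊗[R₁] S) := factors_baseChange W₁ h1
  haveI : Algebra.Etale R W₁ := Algebra.Etale.comp R R₁ W₁
  have h3 : Factors R (W₁ ⊗[R₁] S) := factors_trans_etale (A := R) (E := W₁) h2
  exact factors_of_algEquiv ((Algebra.TensorProduct.comm R₁ W₁ S).restrictScalars R) h3

end T4a

end Groth.Agent.Lib.Helper20.IndEtCrit

namespace Groth.Agent.Lib.Helper20.IndEtCrit

open CategoryTheory CategoryTheory.Limits TensorProduct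

universe u

section T4b

variable {A B W : Type u} [CommRing A] [CommRing B] [CommRing W] [Algebra A B] [Algebra B W]
  [Algebra A W] [IsScalarTower A B W] [Algebra.Etale B W]

/-- an étale algebra over an ind-étale algebra is ind-étale -/
theorem factors_of_etale_of_factors (hB : Factors A B) : Factors A W := by
  obtain ⟨B₀, W₀, _, _, hfg, hEt, ⟨e⟩⟩ := Algebra.Etale.exists_subalgebra_fg ℤ B W
  haveI : Algebra.FiniteType ℤ B₀ := (Subalgebra.fg_iff_finiteType B₀).mp hfg
  haveI : Algebra.FinitePresentation ℤ B₀ := Algebra.FinitePresentation.of_finiteType.mp inferInstance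
  let θ : A ⊗[ℤ] B₀ →ₐ[A] B :=
    Algebra.TensorProduct.lift (Algebra.ofId A B) B₀.val (fun _ _ => Commute.all _ _)
  obtain ⟨B₁, _, _, _, u₁, β, hβ⟩ := hB (A ⊗[ℤ] B₀) θ
  letI : Algebra B₀ B₁ := (u₁.toRingHom.comp
    (Algebra.TensorProduct.includeRight : B₀ →ₐ[ℤ] A ⊗[ℤ] B₀).toRingHom).toAlgebra
  letI : Algebra B₁ B := β.toRingHom.toAlgebra
  haveI : IsScalarTower A B₁ B := IsScalarTower.of_algebraMap_eq (fun a => (β.commutes a).symm)
  haveI : IsScalarTower B₀ B₁ B := IsScalarTower.of_algebraMap_eq (fun b₀ => by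
    show (b₀ : B) = β (u₁ (1 ⊗ₜ b₀))
    have := congrArg (fun k : A ⊗[ℤ] B₀ →ₐ[A] B => k (1 ⊗ₜ b₀)) hβ
    simp only [AlgHom.comp_apply] at this
    rw [this]
    simp [θ])
  haveI : IsScalarTower A B₁ (B₁ ⊗[B₀] W₀) := inferInstance
  have h1 : Factors A (B ⊗[B₁] (B₁ ⊗[B₀] W₀)) :=
    factors_tensor_etale (R := A) (R₁ := B₁) (S := B) (W₁ := B₁ ⊗[B₀] W₀) hB
  let c : B ⊗[B₁] (B₁ ⊗[B₀] W₀) ≃ₐ[B] B ⊗[B₀] W₀ :=
    Algebra.TensorProduct.cancelBaseChange B₀ B₁ B B W₀
  exact factors_of_algEquiv ((e.trans c.symm).restrictScalars A).symm h1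

end T4b

section Trans

variable {A B C : Type u} [CommRing A] [CommRing B] [CommRing C] [Algebra A B] [Algebra B C]
  [Algebra A C] [IsScalarTower A B C]

theorem factors_trans (hB : Factors A B) (hC : Factors B C) : Factors A C := by
  intro Z _ _ _ g
  let gB : B ⊗[A] Z →ₐ[B] C :=
    Algebra.TensorProduct.lift (Algebra.ofId B C) g (fun _ _ => Commute.all _ _)
  obtain ⟨W, _, _, _, u, v, huv⟩ := hC (B ⊗[A] Z) gB
  letI : Algebra A W := Algebra.compHom W (algebraMap A B)
  haveI : IsScalarTower A B W := IsScalarTower.of_algebraMap_eq (fun _ => rfl)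
  have hW : Factors A W := factors_of_etale_of_factors hB
  obtain ⟨W₂, _, _, _, u₂, v₂, huv₂⟩ := hW Z
    ((u.restrictScalars A).comp Algebra.TensorProduct.includeRight)
  refine ⟨W₂, inferInstance, inferInstance, inferInstance, u₂, (v.restrictScalars A).comp v₂, ?_⟩
  rw [AlgHom.comp_assoc, huv₂]
  apply AlgHom.ext
  intro z
  have := congrArg (fun k : B ⊗[A] Z →ₐ[B] C => k (1 ⊗ₜ z)) huv
  simpa [gB] using this

end Trans

end Groth.Agent.Lib.Helper20.IndEtCrit
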