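import Mathlib
import Groth.Prelude.Def_PBC
import Groth.Agent.Lib.Helper20.IndZar
import Groth.Agent.Lib.Helper20.ColimCrit

namespace Groth.Agent.Lib.Helper20.IndZar2

open CategoryTheory CategoryTheory.Limits Groth.Agent.Lib.Helper20.IndZar

universe u

theorem mem_idemIdeal_iff {C : Type u} [CommRing C] (Z : Set (PrimeSpectrum C)) (c : C) :
    c ∈ idemIdeal C Z ↔ ∃ ε : C, IsIdempotentElem ε ∧ Z ⊆ PrimeSpectrum.zeroLocus {ε} ∧
      c * ε = c := by
  unfold idemIdeal
  rw [Submodule.mem_iSup_of_directed (fun j : IdemIdeals C Z => j.1)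
    (Monotone.directed_le (fun _ _ h => h))]
  constructor
  · rintro ⟨⟨I, ε, hε, hZ, rfl⟩, hc⟩
    obtain ⟨d, rfl⟩ := Ideal.mem_span_singleton'.mp hc
    refine ⟨ε, hε, hZ, ?_⟩
    rw [mul_assoc, hε.eq]
  · rintro ⟨ε, hε, hZ, hc⟩
    refine ⟨⟨Ideal.span {ε}, ε, hε, hZ, rfl⟩, ?_⟩
    show c ∈ Ideal.span {ε}
    rw [← hc]
    exact Ideal.mul_mem_left _ _ (Ideal.subset_span rfl)

section

variable (A : Type u) [CommRing A] (C : Type u) [CommRing C] [Algebra A C]
  {ι : Type u} [Preorder ι] [IsDirected ι (· ≤ ·)] [Nonempty ι]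
  (Cs : ι → Subalgebra A C) (hCs : Monotone Cs)
  (Z : Set (PrimeSpectrum C))

structure Idx where
  i : ι
  ε : C
  idem : IsIdempotentElem ε
  van : Z ⊆ PrimeSpectrum.zeroLocus {ε}
  mem : ε ∈ Cs i

variable {A C Cs Z}

instance : Preorder (Idx A C Cs Z) where
  le j j' := j.i ≤ j'.i ∧ j.ε * j'.ε = j.ε
  le_refl j := ⟨le_refl _, j.idem.eq⟩
  le_trans j j' j'' h h' := ⟨le_trans h.1 h'.1, by
    rw [← h.2, mul_assoc, h'.2]⟩

theorem join_idem {e e' : C} (he : IsIdempotentElem e) (he' : IsIdempotentElem e') :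
    IsIdempotentElem (e + e' - e * e') := by
  have h1 : e * e = e := he
  have h2 : e' * e' = e' := he'
  show (e + e' - e * e') * (e + e' - e * e') = e + e' - e * e'
  have : (e + e' - e * e') * (e + e' - e * e') =
      e * e + e' * e' + 2 * (e * e') - 2 * (e * e) * e' - 2 * e * (e' * e')
        + (e * e) * (e' * e') := by ring
  rw [this, h1, h2]
  ring

theorem mul_join_left {e e' : C} (he : IsIdempotentElem e) : e * (e + e' - e * e') = e := by
  have h1 : e * e = e := he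
  have : e * (e + e' - e * e') = e * e + e * e' - (e * e) * e' := by ring
  rw [this, h1]
  ring

theorem mul_join_right {e e' : C} (he' : IsIdempotentElem e') : e' * (e + e' - e * e') = e' := by
  have h2 : e' * e' = e' := he'
  have : e' * (e + e' - e * e') = e * e' + e' * e' - e * (e' * e') := by ring
  rw [this, h2]
  ring

include hCs in
theorem idx_directed (j j' : Idx A C Cs Z) : ∃ k : Idx A C Cs Z, j ≤ k ∧ j' ≤ k := by
  obtain ⟨k, hk, hk'⟩ := exists_ge_ge j.i j'.i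
  refine ⟨⟨k, j.ε + j'.ε - j.ε * j'.ε, join_idem j.idem j'.idem, ?_, ?_⟩, ⟨hk, ?_⟩, ⟨hk', ?_⟩⟩
  · intro x hx
    have h1 := j.van hx
    have h2 := j'.van hx
    simp only [PrimeSpectrum.mem_zeroLocus, Set.singleton_subset_iff, SetLike.mem_coe] at h1 h2 ⊢
    exact x.asIdeal.sub_mem (x.asIdeal.add_mem h1 h2) (x.asIdeal.mul_mem_right _ h1)
  · exact (Cs k).sub_mem ((Cs k).add_mem (hCs hk j.mem) (hCs hk' j'.mem))
      ((Cs k).mul_mem (hCs hk j.mem) (hCs hk' j'.mem))
  · exact mul_join_left j.idem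
  · exact mul_join_right j'.idem

/-- the generator in the subalgebra -/
def gen (j : Idx A C Cs Z) : Cs j.i := ⟨j.ε, j.mem⟩

/-- the quotient ring attached to an index -/
abbrev Q (j : Idx A C Cs Z) : Type u := Cs j.i ⧸ Ideal.span {gen j}

theorem le_comap_incl {j j' : Idx A C Cs Z} (h : j ≤ j') :
    Ideal.span {gen j} ≤ (Ideal.span {gen j'}).comap (Subalgebra.inclusion (hCs h.1)) := by
  rw [Ideal.span_le]
  rintro x (rfl : x = gen j)
  show Subalgebra.inclusion (hCs h.1) (gen j) ∈ Ideal.span {gen j'}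
  have : Subalgebra.inclusion (hCs h.1) (gen j) = Subalgebra.inclusion (hCs h.1) (gen j) * gen j' := by
    apply Subtype.ext
    show j.ε = j.ε * j'.ε
    exact h.2.symm
  rw [this]
  exact Ideal.mul_mem_left _ _ (Ideal.subset_span rfl)

/-- transition maps -/
noncomputable def trans {j j' : Idx A C Cs Z} (h : j ≤ j') : Q j →ₐ[A] Q j' :=
  Ideal.quotientMapₐ (Ideal.span {gen j'}) (Subalgebra.inclusion (hCs h.1)) (le_comap_incl hCs h)

theorem trans_mk {j j' : Idx A C Cs Z} (h : j ≤ j') (x : Cs j.i) :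
    trans hCs h (Ideal.Quotient.mk _ x) = Ideal.Quotient.mk _ (Subalgebra.inclusion (hCs h.1) x) :=
  rfl

/-- the diagram -/
noncomputable def diagram : Idx A C Cs Z ⥤ Under (CommRingCat.of A) where
  obj j := Under.mk (CommRingCat.ofHom (algebraMap A (Q j)))
  map {j j'} h := Under.homMk (CommRingCat.ofHom (trans hCs h.le).toRingHom) (by
    ext a
    simp)
  map_id j := by
    ext a
    obtain ⟨a, rfl⟩ := Ideal.Quotient.mk_surjective a
    rfl
  map_comp {j j' j''} f g := by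
    ext a
    obtain ⟨a, rfl⟩ := Ideal.Quotient.mk_surjective a
    rfl

theorem le_comap_val (j : Idx A C Cs Z) :
    Ideal.span {gen j} ≤ (idemIdeal C Z).comap (Cs j.i).val := by
  rw [Ideal.span_le]
  rintro x (rfl : x = gen j)
  show j.ε ∈ idemIdeal C Z
  rw [mem_idemIdeal_iff]
  exact ⟨j.ε, j.idem, j.van, j.idem.eq⟩

/-- maps to the quotient of `C` -/
noncomputable def toQuot (j : Idx A C Cs Z) : Q j →ₐ[A] C ⧸ idemIdeal C Z :=
  Ideal.quotientMapₐ (idemIdeal C Z) (Cs j.i).val (le_comap_val j)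

theorem toQuot_mk (j : Idx A C Cs Z) (x : Cs j.i) :
    toQuot j (Ideal.Quotient.mk _ x) = Ideal.Quotient.mk _ (x : C) :=
  rfl

noncomputable def cocone : Cocone (diagram (A := A) (C := C) (Cs := Cs) (Z := Z) hCs) where
  pt := Under.mk (CommRingCat.ofHom (algebraMap A (C ⧸ idemIdeal C Z)))
  ι :=
    { app := fun j => Under.homMk (CommRingCat.ofHom (toQuot j).toRingHom) (by
        ext a
        simp [diagram])
      naturality := fun j j' f => by
        ext a
        obtain ⟨a, rfl⟩ := Ideal.Quotient.mk_surjective a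
        rfl }

/-- the trivial index over `i` -/
def zeroIdx (i : ι) : Idx A C Cs Z :=
  ⟨i, 0, IsIdempotentElem.zero, by simp, (Cs i).zero_mem⟩

instance : Nonempty (Idx A C Cs Z) := ⟨zeroIdx (Classical.arbitrary ι)⟩

include hCs in
theorem idx_isDirected : IsDirected (Idx A C Cs Z) (· ≤ ·) :=
  ⟨fun j j' => idx_directed hCs j j'⟩

include hCs in
theorem cocone_surj (hcov : ∀ c : C, ∃ i, c ∈ Cs i) (b : C ⧸ idemIdeal C Z) :
    ∃ (j : Idx A C Cs Z) (x : Q j), toQuot j x = b := by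
  obtain ⟨c, rfl⟩ := Ideal.Quotient.mk_surjective b
  obtain ⟨i, hi⟩ := hcov c
  exact ⟨zeroIdx i, Ideal.Quotient.mk _ ⟨c, hi⟩, rfl⟩

include hCs in
theorem cocone_inj (hcov : ∀ c : C, ∃ i, c ∈ Cs i) (j : Idx A C Cs Z) (x y : Q j)
    (h : toQuot j x = toQuot j y) :
    ∃ (j' : Idx A C Cs Z) (a : j ≤ j'), trans hCs a x = trans hCs a y := by
  obtain ⟨x, rfl⟩ := Ideal.Quotient.mk_surjective x
  obtain ⟨y, rfl⟩ := Ideal.Quotient.mk_surjective y
  rw [toQuot_mk, toQuot_mk, Ideal.Quotient.eq, mem_idemIdeal_iff] at h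
  obtain ⟨ε, hε, hZ, hc⟩ := h
  obtain ⟨i', hi'⟩ := hcov ε
  obtain ⟨k, hk⟩ := idx_directed hCs j ⟨i', ε, hε, hZ, hi'⟩
  refine ⟨k, hk.1, ?_⟩
  rw [trans_mk, trans_mk, Ideal.Quotient.eq, Ideal.mem_span_singleton']
  refine ⟨Subalgebra.inclusion (hCs hk.1.1) x - Subalgebra.inclusion (hCs hk.1.1) y, ?_⟩
  apply Subtype.ext
  show ((x : C) - (y : C)) * k.ε = (x : C) - (y : C)
  have h2 : ε * k.ε = ε := hk.2.2
  rw [← hc, mul_assoc, h2]

theorem isLocalIso_Q (hloc : ∀ i, Algebra.IsLocalIso A (Cs i)) (j : Idx A C Cs Z) :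
    Algebra.IsLocalIso A (Q j) := by
  haveI := hloc j.i
  have hid : IsIdempotentElem (gen j) := by
    apply Subtype.ext
    exact j.idem
  haveI : Algebra.IsLocalIso (Cs j.i) (Q j) := isLocalIso_quotient_span_idempotent (Cs j.i) hid
  exact Algebra.IsLocalIso.trans A (Cs j.i) (Q j)

include hCs in
theorem isIndZariski_quotient (hcov : ∀ c : C, ∃ i, c ∈ Cs i)
    (hloc : ∀ i, Algebra.IsLocalIso A (Cs i)) :
    EtPBC.IsIndZariski A (C ⧸ idemIdeal C Z) := by
  haveI := idx_isDirected (A := A) (C := C) (Cs := Cs) (Z := Z) hCs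
  haveI : IsFiltered (Idx A C Cs Z) := isFiltered_of_directed_le_nonempty _
  obtain ⟨hcolim⟩ := ColimCrit.isColimit_of_surj_inj (diagram hCs) (cocone (Z := Z) hCs)
    (fun b => by
      obtain ⟨j, x, hx⟩ := cocone_surj (A := A) hCs hcov b
      exact ⟨j, x, hx⟩)
    (fun j x y h => by
      obtain ⟨j', a, ha⟩ := cocone_inj hCs hcov j x y h
      exact ⟨j', homOfLE a, ha⟩)
  refine ⟨Idx A C Cs Z, inferInstance, inferInstance, diagram hCs, cocone hCs, hcolim, ?_,
    ⟨Iso.refl _⟩⟩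
  intro j
  have h : ((diagram (Z := Z) hCs).obj j).hom.hom.toAlgebra =
      (inferInstance : Algebra A (Q j)) := toAlgebra_algebraMap A (Q j)
  show @Algebra.IsLocalIso A (Q j) _ _ ((diagram (Z := Z) hCs).obj j).hom.hom.toAlgebra
  rw [h]
  exact isLocalIso_Q hloc j

end

end Groth.Agent.Lib.Helper20.IndZar2
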