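import Mathlib

namespace Groth.Agent.Lib.Helper20.SpecLC

universe u

variable (A : Type u) [CommRing A] (T : Type u) [TopologicalSpace T]

/-- the point of `Spec LC(T, A)` attached to a prime and a point -/
def phi (p : PrimeSpectrum A × T) : PrimeSpectrum (LocallyConstant T A) :=
  PrimeSpectrum.comap (LocallyConstant.evalRingHom p.2) p.1

variable {A T}

theorem mem_phi (p : PrimeSpectrum A × T) (f : LocallyConstant T A) :
    f ∈ (phi A T p).asIdeal ↔ f p.2 ∈ p.1.asIdeal := Iff.rfl

theorem comap_algebraMap_phi (p : PrimeSpectrum A × T) :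
    PrimeSpectrum.comap (algebraMap A (LocallyConstant T A)) (phi A T p) = p.1 := by
  ext a
  rfl

theorem charFn_mem_phi_iff (p : PrimeSpectrum A × T) {U : Set T} (hU : IsClopen U) :
    LocallyConstant.charFn A hU ∈ (phi A T p).asIdeal ↔ p.2 ∉ U := by
  rw [mem_phi]
  by_cases h : p.2 ∈ U
  · have : LocallyConstant.charFn A hU p.2 = 1 := by
      simp [LocallyConstant.charFn, h]
    rw [this]
    simp only [h, not_true_eq_false, iff_false]
    exact p.1.isPrime.one_notMem
  · have : LocallyConstant.charFn A hU p.2 = 0 := by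
      simp [LocallyConstant.charFn, h]
    rw [this]
    simp [h]

variable [CompactSpace T] [T2Space T] [TotallyDisconnectedSpace T]

theorem phi_injective : Function.Injective (phi A T) := by
  rintro ⟨p, t⟩ ⟨p', t'⟩ h
  have h1 : p = p' := by
    have := congrArg (PrimeSpectrum.comap (algebraMap A (LocallyConstant T A))) h
    rwa [comap_algebraMap_phi, comap_algebraMap_phi] at this
  have h2 : t = t' := by
    by_contra hne
    obtain ⟨U, hU, htU, ht'U⟩ := exists_isClopen_of_totally_separated hne
    have h3 := charFn_mem_phi_iff (A := A) (p, t) hU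
    have h4 := charFn_mem_phi_iff (A := A) (p', t') hU
    rw [h] at h3
    have h5 : t ∉ U ↔ t' ∉ U := h3.symm.trans h4
    exact (h5.mpr ht'U) htU
  rw [h1, h2]

omit [T2Space T] [TotallyDisconnectedSpace T] in
theorem charFn_union {U V : Set T} (hU : IsClopen U) (hV : IsClopen V) :
    LocallyConstant.charFn A (hU.union hV) =
      LocallyConstant.charFn A hU + LocallyConstant.charFn A hV -
        LocallyConstant.charFn A hU * LocallyConstant.charFn A hV := by
  ext t
  simp only [LocallyConstant.charFn, LocallyConstant.coe_sub, LocallyConstant.coe_add,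
    LocallyConstant.coe_mul, Pi.sub_apply, Pi.add_apply, Pi.mul_apply]
  by_cases h1 : t ∈ U <;> by_cases h2 : t ∈ V <;> simp [h1, h2]

omit [T2Space T] [TotallyDisconnectedSpace T] in
theorem exists_point (q : PrimeSpectrum (LocallyConstant T A)) :
    ∃ t : T, ∀ (U : Set T) (hU : IsClopen U), t ∈ U → LocallyConstant.charFn A hU ∉ q.asIdeal := by
  by_contra hcon
  push_neg at hcon
  have key : ∃ (U : Set T) (hU : IsClopen U), Set.univ ⊆ U ∧
      LocallyConstant.charFn A hU ∈ q.asIdeal := by
    refine isCompact_univ.induction_on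
      (p := fun S => ∃ (U : Set T) (hU : IsClopen U), S ⊆ U ∧
        LocallyConstant.charFn A hU ∈ q.asIdeal) ?_ ?_ ?_ ?_
    · refine ⟨∅, isClopen_empty, subset_rfl, ?_⟩
      have : LocallyConstant.charFn A (isClopen_empty (X := T)) = 0 := by
        ext t
        simp [LocallyConstant.charFn]
      rw [this]
      exact q.asIdeal.zero_mem
    · rintro S S' hSS' ⟨U, hU, hS'U, hq⟩
      exact ⟨U, hU, hSS'.trans hS'U, hq⟩
    · rintro S S' ⟨U, hU, hSU, hq⟩ ⟨V, hV, hSV, hq'⟩
      refine ⟨U ∪ V, hU.union hV, Set.union_subset_union hSU hSV, ?_⟩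
      rw [charFn_union hU hV]
      exact q.asIdeal.sub_mem (q.asIdeal.add_mem hq hq') (q.asIdeal.mul_mem_right _ hq)
    · intro t _
      obtain ⟨U, hU, htU, hq⟩ := hcon t
      exact ⟨U, mem_nhdsWithin_of_mem_nhds (hU.isOpen.mem_nhds htU), U, hU, subset_rfl, hq⟩
  obtain ⟨U, hU, hUu, hq⟩ := key
  have hU' : U = Set.univ := Set.eq_univ_of_univ_subset hUu
  subst hU'
  have : LocallyConstant.charFn A (isClopen_univ (X := T)) = 1 := by
    ext t
    simp [LocallyConstant.charFn]
  rw [this] at hq
  exact q.isPrime.one_notMem hq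

omit [T2Space T] [TotallyDisconnectedSpace T] in
theorem phi_surjective : Function.Surjective (phi A T) := by
  intro q
  obtain ⟨t, ht⟩ := exists_point q
  refine ⟨(PrimeSpectrum.comap (algebraMap A (LocallyConstant T A)) q, t), ?_⟩
  ext f
  rw [mem_phi]
  show algebraMap A (LocallyConstant T A) (f t) ∈ q.asIdeal ↔ f ∈ q.asIdeal
  have hU : IsClopen (f ⁻¹' {f t}) := f.isLocallyConstant.isClopen_fiber _
  have hq := ht _ hU rfl
  have heq : f * LocallyConstant.charFn A hU =
      algebraMap A (LocallyConstant T A) (f t) * LocallyConstant.charFn A hU := by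
    ext s
    by_cases hs : s ∈ f ⁻¹' {f t}
    · have : f s = f t := hs
      simp [LocallyConstant.charFn, hs, this]
    · simp [LocallyConstant.charFn, hs]
  have h1 : f ∈ q.asIdeal ↔ f * LocallyConstant.charFn A hU ∈ q.asIdeal := by
    rw [q.isPrime.mul_mem_iff_mem_or_mem]
    tauto
  have h2 : algebraMap A (LocallyConstant T A) (f t) ∈ q.asIdeal ↔
      algebraMap A (LocallyConstant T A) (f t) * LocallyConstant.charFn A hU ∈ q.asIdeal := by
    rw [q.isPrime.mul_mem_iff_mem_or_mem]
    tauto
  rw [h1, h2, heq]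

omit [CompactSpace T] [T2Space T] [TotallyDisconnectedSpace T] in
theorem phi_continuous : Continuous (phi A T) := by
  rw [PrimeSpectrum.isTopologicalBasis_basic_opens.continuous_iff]
  rintro _ ⟨f, rfl⟩
  rw [isOpen_iff_forall_mem_open]
  rintro ⟨p, t⟩ hpt
  have hpt' : f t ∉ p.asIdeal := hpt
  refine ⟨(PrimeSpectrum.basicOpen (f t) : Set (PrimeSpectrum A)) ×ˢ (f ⁻¹' {f t}), ?_, ?_, ?_⟩
  · rintro ⟨p', t'⟩ ⟨h1, h2⟩
    show f t' ∉ p'.asIdeal
    have h3 : f t' = f t := h2
    rw [h3]
    exact h1
  · exact (PrimeSpectrum.basicOpen (f t)).isOpen.prod (f.isLocallyConstant.isOpen_fiber _)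
  · exact ⟨hpt', rfl⟩

theorem phi_isOpenMap : IsOpenMap (phi A T) := by
  have hB := (PrimeSpectrum.isTopologicalBasis_basic_opens (R := A)).prod
    (isTopologicalBasis_isClopen (X := T))
  rw [hB.isOpenMap_iff]
  rintro _ ⟨_, ⟨a, rfl⟩, U, hU, rfl⟩
  have hU' : IsClopen U := hU
  have : phi A T '' ((PrimeSpectrum.basicOpen a : Set (PrimeSpectrum A)) ×ˢ U) =
      (PrimeSpectrum.basicOpen (algebraMap A (LocallyConstant T A) a *
        LocallyConstant.charFn A hU') : Set (PrimeSpectrum (LocallyConstant T A))) := by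
    ext q
    constructor
    · rintro ⟨⟨p, t⟩, ⟨h1, h2⟩, rfl⟩
      show ¬ (algebraMap A (LocallyConstant T A) a * LocallyConstant.charFn A hU') t ∈ p.asIdeal
      have h3 : (algebraMap A (LocallyConstant T A) a * LocallyConstant.charFn A hU') t = a := by
        have : t ∈ U := h2
        simp [LocallyConstant.charFn, this]
      rw [h3]
      exact h1
    · intro hq
      obtain ⟨⟨p, t⟩, rfl⟩ := phi_surjective q
      have hq' : ¬ (algebraMap A (LocallyConstant T A) a * LocallyConstant.charFn A hU') t
          ∈ p.asIdeal := hq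
      have htU : t ∈ U := by
        by_contra htU
        apply hq'
        have : (algebraMap A (LocallyConstant T A) a * LocallyConstant.charFn A hU') t = 0 := by
          simp [LocallyConstant.charFn, htU]
        rw [this]
        exact p.asIdeal.zero_mem
      have h3 : (algebraMap A (LocallyConstant T A) a * LocallyConstant.charFn A hU') t = a := by
        simp [LocallyConstant.charFn, htU]
      rw [h3] at hq'
      exact ⟨(p, t), ⟨hq', htU⟩, rfl⟩
  rw [this]
  exact (PrimeSpectrum.basicOpen _).isOpen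

/-- `Spec A × T ≃ₜ Spec LC(T, A)` -/
noncomputable def phiHomeo : PrimeSpectrum A × T ≃ₜ PrimeSpectrum (LocallyConstant T A) :=
  (Equiv.ofBijective (phi A T) ⟨phi_injective, phi_surjective⟩).toHomeomorphOfContinuousOpen
    phi_continuous phi_isOpenMap

theorem phiHomeo_apply (p : PrimeSpectrum A × T) : phiHomeo p = phi A T p := rfl

section Sub

variable (A T)

/-- functions constant on the classes of a discrete quotient -/
noncomputable def psi (S : DiscreteQuotient T) : (S → A) →ₐ[A] LocallyConstant T A where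
  toFun v := ⟨v ∘ S.proj, S.proj_isLocallyConstant.comp v⟩
  map_one' := rfl
  map_mul' _ _ := rfl
  map_zero' := rfl
  map_add' _ _ := rfl
  commutes' _ := rfl

omit [CompactSpace T] [T2Space T] [TotallyDisconnectedSpace T] in
theorem psi_injective (S : DiscreteQuotient T) : Function.Injective (psi A T S) := by
  intro v w h
  funext s
  obtain ⟨t, rfl⟩ := S.proj_surjective s
  exact congrArg (fun f : LocallyConstant T A => f t) h

/-- the directed family of subalgebras -/
noncomputable def Cs (S : (DiscreteQuotient T)ᵒᵈ) : Subalgebra A (LocallyConstant T A) :=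
  (psi A T (OrderDual.ofDual S)).range

omit [CompactSpace T] [T2Space T] [TotallyDisconnectedSpace T] in
theorem Cs_mono : Monotone (Cs A T) := by
  intro S S' h
  rintro _ ⟨v, rfl⟩
  have h' : OrderDual.ofDual S' ≤ OrderDual.ofDual S := h
  refine ⟨v ∘ DiscreteQuotient.ofLE h', ?_⟩
  ext t
  show v (DiscreteQuotient.ofLE h' ((OrderDual.ofDual S').proj t)) = v ((OrderDual.ofDual S).proj t)
  rw [DiscreteQuotient.ofLE_proj]

omit [CompactSpace T] [T2Space T] [TotallyDisconnectedSpace T] in
theorem Cs_cover (f : LocallyConstant T A) : ∃ S, f ∈ Cs A T S :=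
  ⟨OrderDual.toDual f.discreteQuotient, f.lift, by
    ext t
    rfl⟩

omit [T2Space T] [TotallyDisconnectedSpace T] in
theorem Cs_isLocalIso (S : (DiscreteQuotient T)ᵒᵈ) : Algebra.IsLocalIso A (Cs A T S) := by
  let S' : DiscreteQuotient T := OrderDual.ofDual S
  have : Algebra.IsLocalIso A (S' → A) :=
    Algebra.IsLocalIso.pi_of_finite A (fun _ : S' => A)
  exact Algebra.IsLocalIso.of_algEquiv
    (AlgEquiv.ofInjective (psi A T S') (psi_injective A T S'))

end Sub

end Groth.Agent.Lib.Helper20.SpecLC
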