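import Mathlib
import Groth.Prelude.Def_PBC
import Groth.Agent.Lib.Helper20.IndZar2
import Groth.Agent.Lib.Helper20.SpecLC
import Groth.Agent.Lib.Helper20.PiZero

namespace Groth.Agent.Lib.Helper20.IndZar3

open Groth.Agent.Lib.Helper20.IndZar Groth.Agent.Lib.Helper20.IndZar2
  Groth.Agent.Lib.Helper20.SpecLC

universe u

variable (A : Type u) [CommRing A] (T : Type u) [TopologicalSpace T] [CompactSpace T]
  [T2Space T] [TotallyDisconnectedSpace T]
  (g : C(T, _root_.ConnectedComponents (PrimeSpectrum A)))

/-- the fibre product as a subset of the product -/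
def F : Set (PrimeSpectrum A × T) := {p | _root_.ConnectedComponents.mk p.1 = g p.2}

/-- its image in `Spec LC(T, A)` -/
def Z : Set (PrimeSpectrum (LocallyConstant T A)) := phi A T '' F A T g

theorem zeroLocus_idemIdeal_Z :
    PrimeSpectrum.zeroLocus (idemIdeal (LocallyConstant T A) (Z A T g) : Set (LocallyConstant T A))
      = Z A T g := by
  have := PiZero.t2Space_connectedComponents (PrimeSpectrum A)
  rw [zeroLocus_idemIdeal]
  apply Set.Subset.antisymm
  · intro q hq
    simp only [Set.mem_iInter] at hq
    obtain ⟨⟨x, t⟩, rfl⟩ := phi_surjective q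
    by_contra hqZ
    have hxt : _root_.ConnectedComponents.mk x ≠ g t := by
      intro h
      exact hqZ ⟨(x, t), h, rfl⟩
    obtain ⟨W, hW, hxW, htW⟩ := exists_isClopen_of_totally_separated hxt
    let M : Set (PrimeSpectrum A × T) :=
      (_root_.ConnectedComponents.mk ⁻¹' W) ×ˢ (g ⁻¹' W)ᶜ
    have hM : IsClopen M :=
      (hW.preimage ConnectedComponents.continuous_coe).prod (hW.preimage g.continuous).compl
    have hM' : IsClopen (phi A T '' M) := by
      have : phi A T '' M = phiHomeo '' M := rfl
      rw [this]
      exact ⟨phiHomeo.isClosedMap _ hM.1, phiHomeo.isOpenMap _ hM.2⟩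
    obtain ⟨e, he, hMe⟩ := PrimeSpectrum.isClopen_iff.mp hM'
    have h1 : Z A T g ⊆ PrimeSpectrum.zeroLocus {e} := by
      rintro _ ⟨⟨x', t'⟩, hF, rfl⟩
      rw [PrimeSpectrum.mem_zeroLocus, Set.singleton_subset_iff]
      by_contra hne
      have : phi A T (x', t') ∈ (PrimeSpectrum.basicOpen e :
          Set (PrimeSpectrum (LocallyConstant T A))) := hne
      rw [← hMe] at this
      obtain ⟨⟨x'', t''⟩, hM'', heq⟩ := this
      have := phi_injective heq
      rw [this] at hM''
      have hF' : _root_.ConnectedComponents.mk x' = g t' := hF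
      have h2 : _root_.ConnectedComponents.mk x' ∈ W := hM''.1
      have h3 : g t' ∉ W := hM''.2
      rw [hF'] at h2
      exact h3 h2
    have h2 := hq e he h1
    rw [PrimeSpectrum.mem_zeroLocus, Set.singleton_subset_iff] at h2
    have h3 : phi A T (x, t) ∈ (PrimeSpectrum.basicOpen e :
        Set (PrimeSpectrum (LocallyConstant T A))) := by
      rw [← hMe]
      exact ⟨(x, t), ⟨hxW, htW⟩, rfl⟩
    exact h3 h2
  · intro q hq
    simp only [Set.mem_iInter]
    intro e _ hZ
    exact hZ hq

/-- the ring realizing the fibre product -/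
abbrev B : Type u := LocallyConstant T A ⧸ idemIdeal (LocallyConstant T A) (Z A T g)

theorem isIndZariski_B : EtPBC.IsIndZariski A (B A T g) :=
  IndZar2.isIndZariski_quotient (Cs_mono A T) (Cs_cover A T) (Cs_isLocalIso A T)

/-- the embedding of `Spec B` into the product -/
noncomputable def rho (y : PrimeSpectrum (B A T g)) : PrimeSpectrum A × T :=
  phiHomeo.symm (PrimeSpectrum.comap (Ideal.Quotient.mk _) y)

theorem rho_isEmbedding : Topology.IsEmbedding (rho A T g) :=
  phiHomeo.symm.isEmbedding.comp
    (PrimeSpectrum.isEmbedding_comap_of_surjective _ _ Ideal.Quotient.mk_surjective)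

theorem range_rho : Set.range (rho A T g) = F A T g := by
  have h1 : Set.range (rho A T g) = phiHomeo.symm ''
      Set.range (PrimeSpectrum.comap (Ideal.Quotient.mk
        (idemIdeal (LocallyConstant T A) (Z A T g)))) := by
    rw [← Set.range_comp]
    rfl
  rw [h1, _root_.range_comap_of_surjective _ _ Ideal.Quotient.mk_surjective, Ideal.mk_ker,
    zeroLocus_idemIdeal_Z]
  ext p
  constructor
  · rintro ⟨_, ⟨p', hp', rfl⟩, rfl⟩
    have : phiHomeo.symm (phi A T p') = p' := phiHomeo.symm_apply_apply p'
    rw [this]
    exact hp'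
  · intro hp
    exact ⟨phi A T p, ⟨p, hp, rfl⟩, phiHomeo.symm_apply_apply p⟩

theorem rho_fst (y : PrimeSpectrum (B A T g)) :
    (rho A T g y).1 = PrimeSpectrum.comap (algebraMap A (B A T g)) y := by
  have h1 : phi A T (rho A T g y) = PrimeSpectrum.comap (Ideal.Quotient.mk _) y :=
    phiHomeo.apply_symm_apply _
  have h2 := comap_algebraMap_phi (rho A T g y)
  rw [h1] at h2
  rw [← h2]
  rfl

/-- a homeomorphism induces a homeomorphism on connected components -/
noncomputable def ccHomeo {X Y : Type*} [TopologicalSpace X] [TopologicalSpace Y] (h : X ≃ₜ Y) :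
    _root_.ConnectedComponents X ≃ₜ _root_.ConnectedComponents Y where
  toFun := h.continuous.connectedComponentsMap
  invFun := h.symm.continuous.connectedComponentsMap
  left_inv c := by
    obtain ⟨x, rfl⟩ := ConnectedComponents.surjective_coe c
    rw [Continuous.connectedComponentsMap_mk, Continuous.connectedComponentsMap_mk,
      h.symm_apply_apply]
  right_inv c := by
    obtain ⟨x, rfl⟩ := ConnectedComponents.surjective_coe c
    rw [Continuous.connectedComponentsMap_mk, Continuous.connectedComponentsMap_mk,
      h.apply_symm_apply]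
  continuous_toFun := h.continuous.connectedComponentsMap_continuous
  continuous_invFun := h.symm.continuous.connectedComponentsMap_continuous

theorem ccHomeo_mk {X Y : Type*} [TopologicalSpace X] [TopologicalSpace Y] (h : X ≃ₜ Y) (x : X) :
    ccHomeo h (_root_.ConnectedComponents.mk x) = _root_.ConnectedComponents.mk (h x) :=
  Continuous.connectedComponentsMap_mk h.continuous x

theorem main :
    ∃ (B : Type u) (_ : CommRing B) (_ : Algebra A B)
      (e : _root_.ConnectedComponents (PrimeSpectrum B) ≃ₜ T),
      EtPBC.IsIndZariski A B ∧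
      (∀ y : PrimeSpectrum B,
        g (e (_root_.ConnectedComponents.mk y)) =
          _root_.ConnectedComponents.mk (PrimeSpectrum.comap (algebraMap A B) y)) ∧
      Topology.IsEmbedding (fun y : PrimeSpectrum B =>
        (PrimeSpectrum.comap (algebraMap A B) y, e (_root_.ConnectedComponents.mk y))) ∧
      Set.range (fun y : PrimeSpectrum B =>
        (PrimeSpectrum.comap (algebraMap A B) y, e (_root_.ConnectedComponents.mk y))) =
        {p : PrimeSpectrum A × T | _root_.ConnectedComponents.mk p.1 = g p.2} := by
  obtain ⟨e0, he0⟩ : ∃ e : _root_.ConnectedComponents (F A T g) ≃ₜ T,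
      ∀ y : F A T g, e (_root_.ConnectedComponents.mk y) = y.1.2 :=
    PiZero.exists_homeomorph_pullback (PrimeSpectrum A) T g
  let h : PrimeSpectrum (B A T g) ≃ₜ F A T g :=
    (rho_isEmbedding A T g).toHomeomorph.trans (Homeomorph.setCongr (range_rho A T g))
  have hh : ∀ y, ((h y : F A T g) : PrimeSpectrum A × T) = rho A T g y := fun y => rfl
  let e : _root_.ConnectedComponents (PrimeSpectrum (B A T g)) ≃ₜ T := (ccHomeo h).trans e0
  have he : ∀ y, e (_root_.ConnectedComponents.mk y) = (rho A T g y).2 := by
    intro y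
    show e0 (ccHomeo h (_root_.ConnectedComponents.mk y)) = _
    rw [ccHomeo_mk, he0, hh]
  have hfun : (fun y : PrimeSpectrum (B A T g) =>
      (PrimeSpectrum.comap (algebraMap A (B A T g)) y, e (_root_.ConnectedComponents.mk y))) =
      rho A T g := by
    funext y
    rw [he, ← rho_fst]
  refine ⟨B A T g, inferInstance, inferInstance, e, isIndZariski_B A T g, ?_, ?_, ?_⟩
  · intro y
    rw [he, ← rho_fst]
    have : rho A T g y ∈ F A T g := by
      rw [← range_rho]
      exact ⟨y, rfl⟩
    exact this.symm
  · rw [hfun]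
    exact rho_isEmbedding A T g
  · rw [hfun, range_rho]
    rfl

end Groth.Agent.Lib.Helper20.IndZar3
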