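import Mathlib
import Groth.Prelude.Def_PBC
import Groth.Agent.Lib.Helper20.IndZar
import Groth.Agent.Lib.Helper20.ColimCrit

namespace Groth.Agent.Lib.Helper20.IndZar4

open CategoryTheory CategoryTheory.Limits Groth.Agent.Lib.Helper20.IndZar

universe u

section

variable (A : Type u) [CommRing A] (C : Type u) [CommRing C] [Algebra A C]
  {ι : Type u} [Preorder ι] [IsDirected ι (· ≤ ·)] [Nonempty ι]
  (Cs : ι →o Subalgebra A C) (M : Submonoid C)

structure Idx where
  i : ι
  s : C
  memM : s ∈ M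
  mem : s ∈ Cs i

variable {A C Cs M}

instance : Preorder (Idx A C Cs M) where
  le j j' := j.i ≤ j'.i ∧ ∃ u ∈ Cs j'.i, j'.s = j.s * u
  le_refl j := ⟨le_rfl, 1, one_mem _, (mul_one _).symm⟩
  le_trans j j' j'' h h' := ⟨h.1.trans h'.1, by
    obtain ⟨u, hu, e⟩ := h.2
    obtain ⟨u', hu', e'⟩ := h'.2
    exact ⟨u * u', mul_mem (Cs.monotone h'.1 hu) hu', by rw [e', e, mul_assoc]⟩⟩

theorem idx_directed (j j' : Idx A C Cs M) : ∃ k : Idx A C Cs M, j ≤ k ∧ j' ≤ k := by
  obtain ⟨k, hk, hk'⟩ := exists_ge_ge j.i j'.i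
  refine ⟨⟨k, j.s * j'.s, M.mul_mem j.memM j'.memM,
    (Cs k).mul_mem (Cs.monotone hk j.mem) (Cs.monotone hk' j'.mem)⟩, ⟨hk, ?_⟩, ⟨hk', ?_⟩⟩
  · exact ⟨j'.s, Cs.monotone hk' j'.mem, rfl⟩
  · exact ⟨j.s, Cs.monotone hk j.mem, mul_comm _ _⟩

instance : IsDirected (Idx A C Cs M) (· ≤ ·) := ⟨idx_directed⟩

instance : Nonempty (Idx A C Cs M) :=
  ⟨⟨Classical.arbitrary ι, 1, M.one_mem, (Cs _).one_mem⟩⟩

/-- the generator in the subalgebra -/
def gen (j : Idx A C Cs M) : Cs j.i := ⟨j.s, j.mem⟩

/-- the localized subalgebra -/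
abbrev R (j : Idx A C Cs M) : Type u := Localization.Away (gen j)

/-- inclusion followed by localization -/
noncomputable def pre {j j' : Idx A C Cs M} (h : j ≤ j') : Cs j.i →+* R j' :=
  (algebraMap (Cs j'.i) (R j')).comp (Subalgebra.inclusion (Cs.monotone h.1)).toRingHom

theorem pre_unit {j j' : Idx A C Cs M} (h : j ≤ j') : IsUnit (pre h (gen j)) := by
  obtain ⟨u, hu, e⟩ := h.2
  have h1 : IsUnit (algebraMap (Cs j'.i) (R j') (gen j')) :=
    IsLocalization.Away.algebraMap_isUnit (gen j')
  have h2 : gen j' = Subalgebra.inclusion (Cs.monotone h.1) (gen j) * ⟨u, hu⟩ := by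
    apply Subtype.ext
    exact e
  have h3 : algebraMap (Cs j'.i) (R j') (gen j') =
      pre h (gen j) * algebraMap (Cs j'.i) (R j') ⟨u, hu⟩ := by
    have := congrArg (algebraMap (Cs j'.i) (R j')) h2
    rw [map_mul] at this
    exact this
  rw [h3] at h1
  exact isUnit_of_mul_isUnit_left h1

/-- transition maps -/
noncomputable def trans {j j' : Idx A C Cs M} (h : j ≤ j') : R j →+* R j' :=
  IsLocalization.Away.lift (gen j) (pre_unit h)

theorem trans_algebraMap {j j' : Idx A C Cs M} (h : j ≤ j') (x : Cs j.i) :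
    trans h (algebraMap (Cs j.i) (R j) x) =
      algebraMap (Cs j'.i) (R j') (Subalgebra.inclusion (Cs.monotone h.1) x) :=
  IsLocalization.Away.lift_eq (gen j) (pre_unit h) x

theorem trans_algebraMap_A {j j' : Idx A C Cs M} (h : j ≤ j') (a : A) :
    trans h (algebraMap A (R j) a) = algebraMap A (R j') a := by
  rw [IsScalarTower.algebraMap_apply A (Cs j.i) (R j), trans_algebraMap,
    IsScalarTower.algebraMap_apply A (Cs j'.i) (R j')]
  rfl

theorem trans_refl (j : Idx A C Cs M) : trans (le_refl j) = RingHom.id _ := by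
  apply IsLocalization.ringHom_ext (Submonoid.powers (gen j))
  ext x
  simp only [RingHom.coe_comp, Function.comp_apply, RingHom.id_apply]
  rw [trans_algebraMap]
  rfl

theorem trans_trans {j j' j'' : Idx A C Cs M} (h : j ≤ j') (h' : j' ≤ j'') :
    (trans h').comp (trans h) = trans (h.trans h') := by
  apply IsLocalization.ringHom_ext (Submonoid.powers (gen j))
  ext x
  simp only [RingHom.coe_comp, Function.comp_apply]
  rw [trans_algebraMap, trans_algebraMap, trans_algebraMap]
  rfl

/-- the diagram -/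
noncomputable def diagram : Idx A C Cs M ⥤ Under (CommRingCat.of A) where
  obj j := Under.mk (CommRingCat.ofHom (algebraMap A (R j)))
  map {j j'} h := Under.homMk (CommRingCat.ofHom (trans h.le)) (by
    ext a
    exact trans_algebraMap_A h.le a)
  map_id j := by
    ext a
    exact congrArg (fun f : R j →+* R j => f a) (trans_refl j)
  map_comp {j j' j''} f g := by
    ext a
    exact (congrArg (fun f : R j →+* R j'' => f a) (trans_trans f.le g.le)).symm

/-- restriction of the localization map to the subalgebra -/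
noncomputable def preLoc (j : Idx A C Cs M) : Cs j.i →+* Localization M :=
  (algebraMap C (Localization M)).comp (Cs j.i).val.toRingHom

theorem preLoc_unit (j : Idx A C Cs M) : IsUnit (preLoc j (gen j)) :=
  IsLocalization.map_units (Localization M) (⟨j.s, j.memM⟩ : M)

/-- the cocone maps -/
noncomputable def toLoc (j : Idx A C Cs M) : R j →+* Localization M :=
  IsLocalization.Away.lift (gen j) (preLoc_unit j)

theorem toLoc_algebraMap (j : Idx A C Cs M) (x : Cs j.i) :
    toLoc j (algebraMap (Cs j.i) (R j) x) = algebraMap C (Localization M) (x : C) :=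
  IsLocalization.Away.lift_eq (gen j) (preLoc_unit j) x

theorem toLoc_algebraMap_A (j : Idx A C Cs M) (a : A) :
    toLoc j (algebraMap A (R j) a) = algebraMap A (Localization M) a := by
  rw [IsScalarTower.algebraMap_apply A (Cs j.i) (R j), toLoc_algebraMap,
    IsScalarTower.algebraMap_apply A C (Localization M)]
  rfl

theorem toLoc_trans {j j' : Idx A C Cs M} (h : j ≤ j') :
    (toLoc j').comp (trans h) = toLoc j := by
  apply IsLocalization.ringHom_ext (Submonoid.powers (gen j))
  ext x
  simp only [RingHom.coe_comp, Function.comp_apply]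
  rw [trans_algebraMap, toLoc_algebraMap, toLoc_algebraMap]
  rfl

noncomputable def cocone : Cocone (diagram (A := A) (C := C) (Cs := Cs) (M := M)) where
  pt := Under.mk (CommRingCat.ofHom (algebraMap A (Localization M)))
  ι :=
    { app := fun j => Under.homMk (CommRingCat.ofHom (toLoc j)) (by
        ext a
        exact toLoc_algebraMap_A j a)
      naturality := fun j j' f => by
        ext a
        exact congrArg (fun g : R j →+* Localization M => g a) (toLoc_trans f.le) }

theorem cocone_surj (hcov : ∀ c : C, ∃ i, c ∈ Cs i) (b : Localization M) :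
    ∃ (j : Idx A C Cs M) (x : R j), toLoc j x = b := by
  obtain ⟨⟨c, m⟩, hb⟩ := IsLocalization.surj M b
  obtain ⟨i, hi⟩ := hcov c
  obtain ⟨i', hi'⟩ := hcov m
  obtain ⟨k, hk, hk'⟩ := exists_ge_ge i i'
  let j : Idx A C Cs M := ⟨k, m, m.2, Cs.monotone hk' hi'⟩
  have hu : IsUnit (algebraMap (Cs j.i) (R j) (gen j)) :=
    IsLocalization.Away.algebraMap_isUnit (gen j)
  refine ⟨j, algebraMap (Cs j.i) (R j) ⟨c, Cs.monotone hk hi⟩ * ↑hu.unit⁻¹, ?_⟩
  have hm : IsUnit (algebraMap C (Localization M) m) := IsLocalization.map_units _ m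
  apply hm.mul_left_injective
  simp only
  rw [hb, map_mul, toLoc_algebraMap, mul_assoc]
  have h1 : algebraMap C (Localization M) (m : C) = toLoc j (algebraMap (Cs j.i) (R j) (gen j)) := by
    rw [toLoc_algebraMap]
    rfl
  rw [h1, ← map_mul, IsUnit.val_inv_mul, map_one, mul_one]

theorem cocone_inj (hcov : ∀ c : C, ∃ i, c ∈ Cs i) (j : Idx A C Cs M) (x y : R j)
    (h : toLoc j x = toLoc j y) :
    ∃ (j' : Idx A C Cs M) (a : j ≤ j'), trans a x = trans a y := by
  obtain ⟨n, a, ha⟩ := IsLocalization.Away.surj (gen j) x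
  obtain ⟨m, a', ha'⟩ := IsLocalization.Away.surj (gen j) y
  have E1 : algebraMap _ (R j) (a * gen j ^ m) =
      x * algebraMap _ (R j) (gen j) ^ (n + m) := by
    rw [map_mul, ← ha, map_pow, pow_add]
    ring
  have E2 : algebraMap _ (R j) (a' * gen j ^ n) =
      y * algebraMap _ (R j) (gen j) ^ (n + m) := by
    rw [map_mul, ← ha', map_pow, pow_add]
    ring
  have h1 : toLoc j (algebraMap _ (R j) (a * gen j ^ m)) =
      toLoc j (algebraMap _ (R j) (a' * gen j ^ n)) := by
    rw [E1, E2, map_mul, map_mul, h]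
  rw [toLoc_algebraMap, toLoc_algebraMap, IsLocalization.eq_iff_exists M] at h1
  obtain ⟨u, hu⟩ := h1
  obtain ⟨i', hi'⟩ := hcov u
  obtain ⟨k, hk, hk'⟩ := exists_ge_ge j.i i'
  let j' : Idx A C Cs M := ⟨k, j.s * u, M.mul_mem j.memM u.2,
    (Cs k).mul_mem (Cs.monotone hk j.mem) (Cs.monotone hk' hi')⟩
  have hle : j ≤ j' := ⟨hk, u, Cs.monotone hk' hi', rfl⟩
  refine ⟨j', hle, ?_⟩
  have hσ : IsUnit (trans hle (algebraMap _ (R j) (gen j))) := by
    rw [trans_algebraMap]
    exact pre_unit hle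
  apply (hσ.pow (n + m)).mul_left_injective
  simp only
  have e1 : trans hle x * trans hle (algebraMap _ (R j) (gen j)) ^ (n + m) =
      trans hle (algebraMap _ (R j) (a * gen j ^ m)) := by
    rw [E1, map_mul, map_pow]
  have e2 : trans hle y * trans hle (algebraMap _ (R j) (gen j)) ^ (n + m) =
      trans hle (algebraMap _ (R j) (a' * gen j ^ n)) := by
    rw [E2, map_mul, map_pow]
  rw [e1, e2, trans_algebraMap, trans_algebraMap,
    IsLocalization.eq_iff_exists (Submonoid.powers (gen j'))]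
  refine ⟨⟨gen j', Submonoid.mem_powers _⟩, ?_⟩
  apply Subtype.ext
  show j.s * (u : C) * ((a : C) * (j.s) ^ m) = j.s * (u : C) * ((a' : C) * (j.s) ^ n)
  have hu' : (u : C) * ((a : C) * j.s ^ m) = (u : C) * ((a' : C) * j.s ^ n) := hu
  rw [mul_assoc, mul_assoc, hu']

theorem isLocalIso_R (hloc : ∀ i, Algebra.IsLocalIso A (Cs i)) (j : Idx A C Cs M) :
    Algebra.IsLocalIso A (R j) := by
  haveI := hloc j.i
  exact Algebra.IsLocalIso.trans A (Cs j.i) (R j)

theorem isIndZariski_localization (hcov : ∀ c : C, ∃ i, c ∈ Cs i)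
    (hloc : ∀ i, Algebra.IsLocalIso A (Cs i)) :
    EtPBC.IsIndZariski A (Localization M) := by
  haveI : IsFiltered (Idx A C Cs M) := isFiltered_of_directed_le_nonempty _
  obtain ⟨hcolim⟩ := ColimCrit.isColimit_of_surj_inj (diagram (Cs := Cs) (M := M)) cocone
    (fun b => by
      obtain ⟨j, x, hx⟩ := cocone_surj (A := A) hcov b
      exact ⟨j, x, hx⟩)
    (fun j x y h => by
      obtain ⟨j', a, ha⟩ := cocone_inj hcov j x y h
      exact ⟨j', homOfLE a, ha⟩)
  refine ⟨Idx A C Cs M, inferInstance, inferInstance, diagram, cocone, hcolim, ?_,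
    ⟨Iso.refl _⟩⟩
  intro j
  have h : ((diagram (Cs := Cs) (M := M)).obj j).hom.hom.toAlgebra =
      (inferInstance : Algebra A (R j)) := toAlgebra_algebraMap A (R j)
  show @Algebra.IsLocalIso A (R j) _ _ ((diagram (Cs := Cs) (M := M)).obj j).hom.hom.toAlgebra
  rw [h]
  exact isLocalIso_R hloc j

end

end Groth.Agent.Lib.Helper20.IndZar4
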