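import Mathlib
import Groth.Prelude.Def_PBC
import Groth.Agent.Lib.Helper20.IndZar3
import Groth.Agent.Lib.Helper20.LocRingCrit

namespace Groth.Agent.Lib.Helper20.IndZar3

open Groth.Agent.Lib.Helper20.IndZar Groth.Agent.Lib.Helper20.IndZar2
  Groth.Agent.Lib.Helper20.SpecLC

universe u

variable (A : Type u) [CommRing A] (T : Type u) [TopologicalSpace T] [CompactSpace T]
  [T2Space T] [TotallyDisconnectedSpace T]
  (g : C(T, _root_.ConnectedComponents (PrimeSpectrum A)))

theorem identifiesLocalRings_B : EtPBC.IdentifiesLocalRings A (B A T g) := by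
  intro y'
  let qC : PrimeSpectrum (LocallyConstant T A) := PrimeSpectrum.comap (Ideal.Quotient.mk _) y'
  obtain ⟨⟨x, t⟩, hxt⟩ := phi_surjective qC
  have F1 : ∀ f : LocallyConstant T A,
      Ideal.Quotient.mk (idemIdeal (LocallyConstant T A) (Z A T g)) f ∈ y'.asIdeal ↔
        f t ∈ x.asIdeal := by
    intro f
    have : f ∈ qC.asIdeal ↔ f t ∈ x.asIdeal := by
      rw [← hxt]
      exact mem_phi (x, t) f
    exact this
  have F2 : ∀ a : A, a ∈ y'.asIdeal.comap (algebraMap A (B A T g)) ↔ a ∈ x.asIdeal := by
    intro a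
    exact F1 (algebraMap A (LocallyConstant T A) a)
  apply LocRingCrit.bijective_localRingHom
  · rintro a ⟨u, hu, hua⟩
    obtain ⟨f, rfl⟩ := Ideal.Quotient.mk_surjective u
    have hft : f t ∉ x.asIdeal := fun h => hu ((F1 f).mpr h)
    have h1 : f * algebraMap A (LocallyConstant T A) a ∈
        idemIdeal (LocallyConstant T A) (Z A T g) := by
      rw [← Ideal.Quotient.eq_zero_iff_mem, map_mul]
      exact hua
    obtain ⟨ε, hε, hZ, hc⟩ := (mem_idemIdeal_iff _ _).mp h1
    have hεI : ε ∈ idemIdeal (LocallyConstant T A) (Z A T g) :=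
      (mem_idemIdeal_iff _ _).mpr ⟨ε, hε, hZ, hε.eq⟩
    have hεt : ε t ∈ x.asIdeal := by
      rw [← F1, Ideal.Quotient.eq_zero_iff_mem.mpr hεI]
      exact y'.asIdeal.zero_mem
    have h1ε : 1 - ε t ∉ x.asIdeal := by
      intro h
      apply x.isPrime.one_notMem
      have := x.asIdeal.add_mem h hεt
      rwa [sub_add_cancel] at this
    refine ⟨f t * (1 - ε t), ?_, ?_⟩
    · rw [F2]
      exact x.isPrime.mul_notMem hft h1ε
    · have h2 := congrArg (fun k : LocallyConstant T A => k t) hc
      have h3 : f t * a * ε t = f t * a := h2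
      calc f t * (1 - ε t) * a = f t * a - f t * a * ε t := by ring
        _ = 0 := by rw [h3, sub_self]
  · intro b
    obtain ⟨f, rfl⟩ := Ideal.Quotient.mk_surjective b
    have hU : IsClopen (f ⁻¹' {f t}) := f.isLocallyConstant.isClopen_fiber _
    refine ⟨f t, Ideal.Quotient.mk _ (LocallyConstant.charFn A hU), ?_, ?_⟩
    · rw [F1]
      have : LocallyConstant.charFn A hU t = 1 := by
        have : t ∈ f ⁻¹' {f t} := rfl
        simp [LocallyConstant.charFn, this]
      rw [this]
      exact x.isPrime.one_notMem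
    · have : LocallyConstant.charFn A hU * (f - algebraMap A (LocallyConstant T A) (f t)) = 0 := by
        ext s
        by_cases hs : s ∈ f ⁻¹' {f t}
        · have h1 : f s = f t := hs
          have h2 : (algebraMap A (LocallyConstant T A) (f t)) s = f t := rfl
          rw [LocallyConstant.mul_apply, LocallyConstant.sub_apply, h1, h2, sub_self, mul_zero]
          rfl
        · simp [LocallyConstant.charFn, hs]
      have h2 : Ideal.Quotient.mk (idemIdeal (LocallyConstant T A) (Z A T g))
          (LocallyConstant.charFn A hU) *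
          (Ideal.Quotient.mk _ f - algebraMap A (B A T g) (f t)) =
          Ideal.Quotient.mk _ (LocallyConstant.charFn A hU *
            (f - algebraMap A (LocallyConstant T A) (f t))) := by
        rw [map_mul, map_sub]
        rfl
      rw [h2, this, map_zero]

end Groth.Agent.Lib.Helper20.IndZar3
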