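import Mathlib
import Groth.Prelude.Def_PBC
import Groth.Agent.Lib.Helper9.IndEt3

namespace Groth.Agent.Lib.Helper20.IndZarFlat

open CategoryTheory CategoryTheory.Limits Groth.Agent.Lib.Helper9

universe u

theorem flat_of_isLocalIso (A S : Type u) [CommRing A] [CommRing S] [Algebra A S]
    [Algebra.IsLocalIso A S] : Module.Flat A S := by
  let s : Set S := {g : S | Algebra.IsStandardOpenImmersion A (Localization.Away g)}
  have hs : Ideal.span s = ⊤ := Algebra.IsLocalIso.span_isStandardOpenImmersion_eq_top A S
  refine Module.flat_of_isLocalized_span _ _ s hs _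
    (fun r ↦ Algebra.linearMap S <| Localization.Away r.1) ?_
  rintro ⟨g, hg⟩
  have hg' : Algebra.IsStandardOpenImmersion A (Localization.Away g) := hg
  obtain ⟨r, hr⟩ := hg'.exists_away
  exact IsLocalization.flat (Localization.Away g) (Submonoid.powers r)

variable (A B : Type u) [CommRing A] [CommRing B] [Algebra A B]

theorem flat_of_isIndZariski (h : EtPBC.IsIndZariski A B) : Module.Flat A B := by
  obtain ⟨J, hJ, hJf, D, c, hc, hEt, ⟨e⟩⟩ := h
  let : ∀ j, Algebra A (D.obj j).right := fun j => (D.obj j).hom.hom.toAlgebra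
  have : ∀ j, Algebra.IsLocalIso A (D.obj j).right := hEt
  have : ∀ j, Module.Flat A (D.obj j).right := fun j => flat_of_isLocalIso A _
  let φ : ∀ j, (D.obj j).right →+* B := fun j => ((c.ι.app j).right ≫ e.hom.right).hom
  have hφA : ∀ j (a : A), φ j (algebraMap A _ a) = algebraMap A B a := by
    intro j a
    have h1 := congrArg (fun g => g.hom a) (Under.w (c.ι.app j ≫ e.hom))
    exact h1
  have hφt : ∀ {j j' : J} (a : j ⟶ j') (x : (D.obj j).right),
      φ j' ((D.map a).right.hom x) = φ j x := by
    intro j j' a x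
    have h1 := congrArg (fun g => g.right.hom x) (c.w a)
    show e.hom.right.hom ((c.ι.app j').right.hom ((D.map a).right.hom x)) =
      e.hom.right.hom ((c.ι.app j).right.hom x)
    exact congrArg e.hom.right.hom h1
  have einj : Function.Injective e.hom.right.hom := by
    intro x y hxy
    have := congrArg e.inv.right.hom hxy
    have h2 : ∀ z, e.inv.right.hom (e.hom.right.hom z) = z := fun z =>
      congrArg (fun g => g.right.hom z) e.hom_inv_id
    rwa [h2, h2] at this
  have esurj : Function.Surjective e.hom.right.hom := by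
    intro y
    exact ⟨e.inv.right.hom y, congrArg (fun g => g.right.hom y) e.inv_hom_id⟩
  refine FlatColim.flat_of_filtered_stages (J := J) (fun _ => A) (fun j => (D.obj j).right)
    (fun _ => RingHom.id A) (fun j => (φ j).toAddMonoidHom) ?_
    (fun _ => RingHom.id A) (fun a => ((D.map a).right.hom).toAddMonoidHom) ?_ ?_ ?_ ?_ ?_ ?_
  · intro j r x
    show φ j (r • x) = r • φ j x
    rw [Algebra.smul_def, map_mul, hφA, ← Algebra.smul_def]
  · intro j j' a r x
    show (D.map a).right.hom (r • x) = r • (D.map a).right.hom x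
    rw [Algebra.smul_def, map_mul, Algebra.smul_def]
    congr 1
    exact congrArg (fun g => g.hom r) (Under.w (D.map a))
  · intro j j' a r
    rfl
  · intro j j' a x
    exact hφt a x
  · intro r
    obtain ⟨j⟩ := IsFiltered.nonempty (C := J)
    exact ⟨j, r, rfl⟩
  · intro b
    obtain ⟨y, rfl⟩ := esurj b
    obtain ⟨j, x, hx⟩ := IndEt.colim_surj D c hc y
    exact ⟨j, x, congrArg e.hom.right.hom hx⟩
  · intro j x hx
    have : (c.ι.app j).right.hom x = (c.ι.app j).right.hom 0 := by
      apply einj
      rw [map_zero, map_zero]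
      exact hx
    obtain ⟨j', a, ha⟩ := IndEt.colim_inj D c hc j x 0 this
    exact ⟨j', a, ha.trans (map_zero _)⟩

end Groth.Agent.Lib.Helper20.IndZarFlat
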