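import Mathlib

/-!
# Galois descent for invariant fields (no-name lemma), part 1: invariant bases

`G` a finite group of `k`-automorphisms of a field `L`, `K` a `G`-stable intermediate field on
which `G` acts faithfully, `W` a `G`-stable `K`-subspace of `L`.  Then `W` is spanned by
`G`-invariant vectors.
-/

namespace Groth.Agent.Lib.Helper20.InvFld1

open IntermediateField Module

variable {k L : Type*} [Field k] [Field L] [Algebra k L]

section Descent

variable (G : Subgroup (L ≃ₐ[k] L)) [Fintype G] (K : IntermediateField k L)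

/-- The trace `∑ σ ∈ G, σ z`. -/
noncomputable def tr (z : L) : L := ∑ σ : G, (σ : L ≃ₐ[k] L) z

theorem tr_fixed (z : L) (τ : L ≃ₐ[k] L) (hτ : τ ∈ G) : τ (tr G z) = tr G z := by
  unfold tr
  rw [map_sum]
  exact Fintype.sum_equiv (Equiv.mulLeft (⟨τ, hτ⟩ : G)) _ _ (fun σ => rfl)

theorem tr_mem_fixedField (z : L) : tr G z ∈ fixedField G := by
  rw [mem_fixedField_iff]
  intro τ hτ
  exact tr_fixed G z τ hτ

theorem tr_add (z w : L) : tr G (z + w) = tr G z + tr G w := by
  unfold tr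
  simp only [map_add, Finset.sum_add_distrib]

theorem tr_zero : tr G (0 : L) = 0 := by
  unfold tr
  simp

theorem tr_mul_of_fixed (c z : L) (hc : c ∈ fixedField G) : tr G (c * z) = c * tr G z := by
  unfold tr
  rw [Finset.mul_sum]
  refine Finset.sum_congr rfl (fun σ _ => ?_)
  rw [map_mul, (mem_fixedField_iff G c).1 hc σ σ.2]

theorem tr_of_fixed (z : L) (hz : z ∈ fixedField G) : tr G z = (Fintype.card G : L) * z := by
  unfold tr
  rw [Finset.sum_congr rfl (fun (σ : G) _ => (mem_fixedField_iff G z).1 hz σ σ.2)]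
  simp

variable {G K}

omit [Fintype G] in
theorem smul_eq (a : K) (z : L) : a • z = (a : L) * z := by
  rw [Algebra.smul_def]; rfl

omit [Fintype G] in
theorem map_smul_eq (hstab : ∀ σ ∈ G, ∀ a ∈ K, σ a ∈ K) (σ : L ≃ₐ[k] L) (hσ : σ ∈ G)
    (a : K) (z : L) : σ (a • z) = (⟨σ a, hstab σ hσ a a.2⟩ : K) • σ z := by
  rw [smul_eq, smul_eq, map_mul]

theorem tr_mem_of_stable (hstab : ∀ σ ∈ G, ∀ a ∈ K, σ a ∈ K) (a : L) (ha : a ∈ K) :
    tr G a ∈ K := by
  unfold tr
  exact K.sum_mem (fun σ _ => hstab σ σ.2 a ha)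

omit [Fintype G] in
/-- Injectivity of restriction of characters to `K`. -/
theorem eq_of_eqOn (hfaith : ∀ σ ∈ G, (∀ a ∈ K, σ a = a) → σ = 1) (σ τ : G)
    (h : ∀ a ∈ K, (σ : L ≃ₐ[k] L) a = (τ : L ≃ₐ[k] L) a) : σ = τ := by
  have h2 : ((τ⁻¹ * σ : G) : L ≃ₐ[k] L) = 1 := hfaith _ (τ⁻¹ * σ).2 (fun a ha => by
    show ((τ : L ≃ₐ[k] L)⁻¹ * (σ : L ≃ₐ[k] L)) a = a
    rw [AlgEquiv.mul_apply, h a ha]
    exact (τ : L ≃ₐ[k] L).symm_apply_apply a)
  have h3 : τ⁻¹ * σ = 1 := Subtype.ext h2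
  exact (inv_mul_eq_one.1 h3).symm

theorem mem_span_fixed
    (hstab : ∀ σ ∈ G, ∀ a ∈ K, σ a ∈ K)
    (hfaith : ∀ σ ∈ G, (∀ a ∈ K, σ a = a) → σ = 1)
    (W : Submodule K L) (hW : ∀ σ ∈ G, ∀ w ∈ W, σ w ∈ W) (w : L) (hw : w ∈ W) :
    w ∈ Submodule.span K {z : L | z ∈ fixedField G ∧ z ∈ W} := by
  classical
  by_contra hnot
  obtain ⟨f, hfw, hf⟩ := Submodule.exists_le_ker_of_notMem hnot
  have key : ∀ a : K, ∑ σ : G, ((f ((σ : L ≃ₐ[k] L) w) : K) : L) * (σ : L ≃ₐ[k] L) (a : L) = 0 := by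
    intro a
    have h1 : tr G (a • w) ∈ Submodule.span K {z : L | z ∈ fixedField G ∧ z ∈ W} := by
      apply Submodule.subset_span
      refine ⟨tr_mem_fixedField G _, ?_⟩
      unfold tr
      refine Submodule.sum_mem _ (fun σ _ => ?_)
      rw [map_smul_eq hstab σ σ.2]
      exact W.smul_mem _ (hW σ σ.2 w hw)
    have h2 := hf h1
    rw [LinearMap.mem_ker] at h2
    unfold tr at h2
    rw [map_sum] at h2
    have h3 : ∀ σ : G, f ((σ : L ≃ₐ[k] L) (a • w)) =
        (⟨(σ : L ≃ₐ[k] L) a, hstab σ σ.2 a a.2⟩ : K) * f ((σ : L ≃ₐ[k] L) w) := by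
      intro σ
      rw [map_smul_eq hstab σ σ.2, map_smul, smul_eq_mul]
    simp_rw [h3] at h2
    have h4 := congrArg (fun z : K => (z : L)) h2
    simp only [AddSubmonoidClass.coe_finsetSum, MulMemClass.coe_mul, ZeroMemClass.coe_zero] at h4
    rw [← h4]
    refine Finset.sum_congr rfl (fun σ _ => ?_)
    rw [mul_comm]
  -- Dedekind independence of characters
  let χ : G → (K →* L) := fun σ =>
    ((σ : L ≃ₐ[k] L) : L →* L).comp ((K.val : K →ₐ[k] L) : K →* L)
  have hχ : Function.Injective χ := by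
    intro σ τ h
    exact eq_of_eqOn hfaith σ τ (fun a ha => DFunLike.congr_fun h ⟨a, ha⟩)
  have hli := (linearIndependent_monoidHom K L).comp χ hχ
  have h0 := Fintype.linearIndependent_iff.1 hli (fun σ => ((f ((σ : L ≃ₐ[k] L) w) : K) : L))
    (by
      funext a
      simp only [Function.comp_apply, Finset.sum_apply, Pi.smul_apply, smul_eq_mul, Pi.zero_apply]
      exact key a) 1
  apply hfw
  have : ((f w : K) : L) = 0 := by simpa using h0
  exact_mod_cast this

end Descent

section Basis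

variable (G : Subgroup (L ≃ₐ[k] L)) [Finite G] (K : IntermediateField k L)
  {m : ℕ} (y : Fin m → L)

theorem exists_invariant_basis
    (hstab : ∀ σ ∈ G, ∀ a ∈ K, σ a ∈ K)
    (hfaith : ∀ σ ∈ G, (∀ a ∈ K, σ a = a) → σ = 1)
    (hyspan : ∀ σ ∈ G, ∀ i, σ (y i) ∈ Submodule.span K (Set.range y))
    (hlin : LinearIndependent K y) :
    ∃ t : Fin m → L, (∀ j, t j ∈ fixedField G) ∧ LinearIndependent K t ∧
      Submodule.span K (Set.range t) = Submodule.span K (Set.range y) := by
  classical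
  have := Fintype.ofFinite G
  set W := Submodule.span K (Set.range y) with hWdef
  have hW : ∀ σ ∈ G, ∀ w ∈ W, σ w ∈ W := by
    intro σ hσ w hw
    induction hw using Submodule.span_induction with
    | mem x hx => obtain ⟨i, rfl⟩ := hx; exact hyspan σ hσ i
    | zero => rw [map_zero]; exact W.zero_mem
    | add x y _ _ hx hy => rw [map_add]; exact W.add_mem hx hy
    | smul a x _ hx => rw [map_smul_eq hstab σ hσ]; exact W.smul_mem _ hx
  set S : Set L := {z : L | z ∈ fixedField G ∧ z ∈ W} with hSdef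
  have hS : Submodule.span K S = W := by
    apply le_antisymm
    · exact Submodule.span_le.2 (fun z hz => hz.2)
    · intro w hw; exact mem_span_fixed hstab hfaith W hW w hw
  obtain ⟨b, hbS, hbspan, hbli⟩ := exists_linearIndependent K S
  have e1 : Submodule.span K (Set.range (Subtype.val : b → L)) = W := by
    rw [Subtype.range_coe, hbspan, hS]
  let B1 : Basis b K W := (Basis.span hbli).map (LinearEquiv.ofEq _ _ e1)
  let B2 : Basis (Fin m) K W := Basis.span hlin
  let e : Fin m ≃ b := B2.indexEquiv B1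
  refine ⟨fun j => (e j : L), fun j => (hbS (e j).2).1, hbli.comp e e.injective, ?_⟩
  have : Set.range (fun j => (e j : L)) = b := by
    ext z; constructor
    · rintro ⟨j, rfl⟩; exact (e j).2
    · intro hz; exact ⟨e.symm ⟨z, hz⟩, by simp⟩
  rw [this, hbspan, hS]

end Basis

end Groth.Agent.Lib.Helper20.InvFld1
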