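import Groth.Agent.Lib.Helper20.InvFld1

/-!
# No-name lemma, part 2: algebraic independence and generation of the fixed field
-/

namespace Groth.Agent.Lib.Helper20.InvFld2

open IntermediateField Module Groth.Agent.Lib.Helper20.InvFld1

variable {k L : Type*} [Field k] [Field L] [Algebra k L]

open scoped IntermediateField.algebraAdjoinAdjoin in
theorem isAlgebraic_of_adjoin_eq_top {F E : Type*} [Field F] [Field E] [Algebra F E] (S : Set E)
    (h : IntermediateField.adjoin F S = ⊤) : Algebra.IsAlgebraic (Algebra.adjoin F S) E := by
  constructor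
  intro z
  have hz : z ∈ IntermediateField.adjoin F S := h ▸ IntermediateField.mem_top
  have h1 := Algebra.IsAlgebraic.isAlgebraic (R := Algebra.adjoin F S)
    (⟨z, hz⟩ : IntermediateField.adjoin F S)
  exact h1.algHom (IsScalarTower.toAlgHom (Algebra.adjoin F S) (IntermediateField.adjoin F S) E)

section Indep

variable (K : IntermediateField k L) {m : ℕ} (y : Fin m → L)

theorem algebraicIndependent_of_span_eq
    (hyind : AlgebraicIndependent K y) (htop : IntermediateField.adjoin K (Set.range y) = ⊤)
    (t : Fin m → L)
    (hspan : Submodule.span K (Set.range t) = Submodule.span K (Set.range y)) :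
    AlgebraicIndependent K t ∧ IntermediateField.adjoin K (Set.range t) = ⊤ := by
  have hsub : Set.range y ⊆ (IntermediateField.adjoin K (Set.range t) : Set L) := by
    rintro _ ⟨j, rfl⟩
    have h1 : y j ∈ Submodule.span K (Set.range t) :=
      hspan ▸ Submodule.subset_span ⟨j, rfl⟩
    have h2 : Submodule.span K (Set.range t) ≤
        Subalgebra.toSubmodule (IntermediateField.adjoin K (Set.range t)).toSubalgebra :=
      Submodule.span_le.2 (IntermediateField.subset_adjoin K _)
    exact h2 h1
  have htop' : IntermediateField.adjoin K (Set.range t) = ⊤ := by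
    rw [eq_top_iff, ← htop]
    exact IntermediateField.adjoin_le_iff.2 hsub
  refine ⟨?_, htop'⟩
  have hyB : IsTranscendenceBasis K y :=
    hyind.isTranscendenceBasis_iff_isAlgebraic.2 (isAlgebraic_of_adjoin_eq_top _ htop)
  have : Algebra.IsAlgebraic (Algebra.adjoin K (Set.range t)) L :=
    isAlgebraic_of_adjoin_eq_top _ htop'
  exact (Algebra.IsAlgebraic.isTranscendenceBasis_of_lift_le_trdeg_of_finite K t
    hyB.lift_cardinalMk_eq_trdeg.le).1

end Indep

end Groth.Agent.Lib.Helper20.InvFld2
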