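import Groth.Agent.Lib.Helper20.InvFld2

/-!
# No-name lemma, part 3: the fixed field is generated by the invariant basis
-/

namespace Groth.Agent.Lib.Helper20.InvFld3

open IntermediateField Module Polynomial Groth.Agent.Lib.Helper20.InvFld1

variable {k L : Type*} [Field k] [Field L] [Algebra k L]

section Integral

variable (G : Subgroup (L ≃ₐ[k] L)) [Fintype G] (K : IntermediateField k L)

/-- The orbit polynomial `∏ σ ∈ G, (X - σ a)`. -/
noncomputable def orbPoly (a : L) : L[X] := ∏ σ : G, (X - C ((σ : L ≃ₐ[k] L) a))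

theorem orbPoly_monic (a : L) : (orbPoly G a).Monic :=
  monic_prod_of_monic _ _ (fun _ _ => monic_X_sub_C _)

theorem orbPoly_eval (a : L) : (orbPoly G a).eval a = 0 := by
  unfold orbPoly
  rw [eval_prod]
  refine Finset.prod_eq_zero (Finset.mem_univ (1 : G)) ?_
  simp

theorem orbPoly_map (a : L) (τ : L ≃ₐ[k] L) (hτ : τ ∈ G) :
    (orbPoly G a).map (τ : L →+* L) = orbPoly G a := by
  unfold orbPoly
  rw [Polynomial.map_prod]
  refine Fintype.prod_equiv (Equiv.mulLeft (⟨τ, hτ⟩ : G)) _ _ (fun σ => ?_)
  rw [Polynomial.map_sub, map_X, map_C]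
  rfl

theorem orbPoly_coeff_fixed (a : L) (n : ℕ) : (orbPoly G a).coeff n ∈ fixedField G := by
  rw [mem_fixedField_iff]
  intro τ hτ
  have h := congrArg (fun q => q.coeff n) (orbPoly_map G a τ hτ)
  simp only [coeff_map] at h
  exact h

variable {G K}

theorem orbPoly_coeff_mem (hstab : ∀ σ ∈ G, ∀ a ∈ K, σ a ∈ K) (a : L) (ha : a ∈ K) (n : ℕ) :
    (orbPoly G a).coeff n ∈ K := by
  have h : orbPoly G a =
      (∏ σ : G, (X - C (⟨(σ : L ≃ₐ[k] L) a, hstab σ σ.2 a ha⟩ : K))).map (algebraMap K L) := by
    unfold orbPoly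
    rw [Polynomial.map_prod]
    refine Finset.prod_congr rfl (fun σ _ => ?_)
    rw [Polynomial.map_sub, map_X, map_C]
    rfl
  rw [h, coeff_map]
  exact SetLike.coe_mem _

theorem isIntegral_inf_fixedField (hstab : ∀ σ ∈ G, ∀ a ∈ K, σ a ∈ K) (a : L) (ha : a ∈ K) :
    IsIntegral (↥(K ⊓ fixedField G)) a := by
  have hl : orbPoly G a ∈ Polynomial.lifts (algebraMap (↥(K ⊓ fixedField G)) L) := by
    rw [lifts_iff_coeff_lifts]
    intro n
    exact ⟨⟨(orbPoly G a).coeff n, orbPoly_coeff_mem hstab a ha n, orbPoly_coeff_fixed G a n⟩, rfl⟩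
  obtain ⟨q, hq, -, hqm⟩ := lifts_and_degree_eq_and_monic hl (orbPoly_monic G a)
  refine ⟨q, hqm, ?_⟩
  rw [← eval_map, hq, orbPoly_eval]

end Integral

section Main

variable (G : Subgroup (L ≃ₐ[k] L)) [Finite G] (K : IntermediateField k L) [CharZero L]
  {m : ℕ}

omit [Finite G] [CharZero L] in
theorem adjoin_le_fixedField (t : Fin m → L) (htfix : ∀ j, t j ∈ fixedField G) (z : L)
    (hz : z ∈ IntermediateField.adjoin (↥(K ⊓ fixedField G)) (Set.range t)) :
    z ∈ fixedField G := by
  have h : (K ⊓ fixedField G) ≤ fixedField G := inf_le_right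
  have h1 : IntermediateField.adjoin (↥(K ⊓ fixedField G)) (Set.range t) ≤ extendScalars h := by
    rw [IntermediateField.adjoin_le_iff]
    rintro _ ⟨j, rfl⟩
    exact htfix j
  exact h1 hz

theorem fixedField_le_adjoin
    (hstab : ∀ σ ∈ G, ∀ a ∈ K, σ a ∈ K)
    (t : Fin m → L) (htfix : ∀ j, t j ∈ fixedField G)
    (htop : IntermediateField.adjoin K (Set.range t) = ⊤) (z : L) (hz : z ∈ fixedField G) :
    z ∈ IntermediateField.adjoin (↥(K ⊓ fixedField G)) (Set.range t) := by
  classical
  have := Fintype.ofFinite G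
  set F := K ⊓ fixedField G with hF
  set E := IntermediateField.adjoin (↥F) (Set.range t) with hE
  -- `E ⊆ L^G`
  have hEfix : ∀ c ∈ E, c ∈ fixedField G := fun c hc => adjoin_le_fixedField G K t htfix c hc
  -- elements of `K` are algebraic over `E`
  have halg : ∀ a ∈ (K : Set L), IsAlgebraic (↥E) a := fun a ha =>
    ((isIntegral_inf_fixedField hstab a ha).tower_top (A := ↥E)).isAlgebraic
  have hT := IntermediateField.adjoin_toSubalgebra_of_isAlgebraic halg
  -- `E(K) = L`
  have hTtop : IntermediateField.adjoin (↥E) (K : Set L) = ⊤ := by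
    rw [eq_top_iff]
    intro w _
    let M : IntermediateField K L :=
      (IntermediateField.adjoin (↥E) (K : Set L)).toSubfield.toIntermediateField
        (fun a => IntermediateField.subset_adjoin (↥E) (K : Set L) a.2)
    have hM : IntermediateField.adjoin K (Set.range t) ≤ M := by
      rw [IntermediateField.adjoin_le_iff]
      rintro _ ⟨j, rfl⟩
      show t j ∈ IntermediateField.adjoin (↥E) (K : Set L)
      have : t j ∈ E := IntermediateField.subset_adjoin _ _ ⟨j, rfl⟩
      exact (IntermediateField.adjoin (↥E) (K : Set L)).algebraMap_mem ⟨t j, this⟩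
    have : w ∈ M := hM (htop ▸ IntermediateField.mem_top)
    exact this
  -- every element is an `E`-combination of elements of `K`
  have hspan : ∀ w : L, w ∈ Submodule.span (↥E) (K : Set L) := by
    intro w
    have h1 : w ∈ (IntermediateField.adjoin (↥E) (K : Set L)).toSubalgebra := by
      rw [IntermediateField.mem_toSubalgebra, hTtop]; exact IntermediateField.mem_top
    rw [hT] at h1
    have h2 : w ∈ Subalgebra.toSubmodule (Algebra.adjoin (↥E) (K : Set L)) := h1
    rw [Algebra.adjoin_eq_span] at h2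
    have h3 : ((Submonoid.closure (K : Set L) : Submonoid L) : Set L) = (K : Set L) := by
      have : (K : Set L) = ((K.toSubalgebra.toSubsemiring.toSubmonoid : Submonoid L) : Set L) := rfl
      rw [this, Submonoid.closure_eq]
    rwa [h3] at h2
  -- the trace maps everything into `E`
  have htr : ∀ w : L, tr G w ∈ E := by
    intro w
    induction hspan w using Submodule.span_induction with
    | mem a ha =>
      have h1 : tr G a ∈ F := ⟨tr_mem_of_stable hstab a ha, tr_mem_fixedField G a⟩
      exact E.algebraMap_mem ⟨tr G a, h1⟩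
    | zero => rw [tr_zero]; exact E.zero_mem
    | add u v _ _ hu hv => rw [tr_add]; exact E.add_mem hu hv
    | smul c u _ hu =>
      have h1 : c • u = (c : L) * u := by rw [Algebra.smul_def]; rfl
      rw [h1, tr_mul_of_fixed G _ _ (hEfix c c.2)]
      exact E.mul_mem c.2 hu
  have h1 := htr z
  rw [tr_of_fixed G z hz] at h1
  have hne : (Fintype.card G : L) ≠ 0 := by
    exact_mod_cast (Fintype.card_ne_zero : Fintype.card G ≠ 0)
  have h2 : z = (Fintype.card G : L)⁻¹ * ((Fintype.card G : L) * z) := by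
    field_simp
  rw [h2]
  exact E.mul_mem (E.inv_mem (_root_.natCast_mem E _)) h1

end Main

end Groth.Agent.Lib.Helper20.InvFld3
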