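import Groth.Agent.Lib.Helper20.InvFld3
import Groth.Prelude.Def_W4c2brnrinvarInvFld

/-!
# No-name lemma, part 4: assembling the abstract statement and the rational function field case
-/

namespace Groth.Agent.Lib.Helper20.InvFld4

open IntermediateField Module Groth.Agent.Lib.Helper20.InvFld1 Groth.Agent.Lib.Helper20.InvFld2
  Groth.Agent.Lib.Helper20.InvFld3

universe u

section Abstract

variable {k L : Type*} [Field k] [Field L] [Algebra k L] [CharZero L]
  (G : Subgroup (L ≃ₐ[k] L)) [Finite G] (K : IntermediateField k L) {m : ℕ} (y : Fin m → L)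

theorem noName_abstract
    (hstab : ∀ σ ∈ G, ∀ a ∈ K, σ a ∈ K)
    (hfaith : ∀ σ ∈ G, (∀ a ∈ K, σ a = a) → σ = 1)
    (hyspan : ∀ σ ∈ G, ∀ i, σ (y i) ∈ Submodule.span K (Set.range y))
    (hyind : AlgebraicIndependent K y)
    (htop : IntermediateField.adjoin K (Set.range y) = ⊤) :
    ∃ t : Fin m → L,
      AlgebraicIndependent (↥(K ⊓ fixedField G)) t ∧
      IntermediateField.restrictScalars k
        (IntermediateField.adjoin (↥(K ⊓ fixedField G)) (Set.range t)) = fixedField G := by
  obtain ⟨t, htfix, -, htspan⟩ :=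
    exists_invariant_basis G K y hstab hfaith hyspan hyind.linearIndependent
  obtain ⟨htind, httop⟩ := algebraicIndependent_of_span_eq K y hyind htop t htspan
  refine ⟨t, ?_, ?_⟩
  · have hle : (K ⊓ fixedField G) ≤ K := inf_le_left
    let _ : Algebra (↥(K ⊓ fixedField G)) K := (IntermediateField.inclusion hle).toRingHom.toAlgebra
    have : IsScalarTower (↥(K ⊓ fixedField G)) K L :=
      IsScalarTower.of_algebraMap_eq (fun _ => rfl)
    exact htind.restrictScalars (K := K) (IntermediateField.inclusion hle).injective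
  · ext z
    rw [IntermediateField.mem_restrictScalars]
    exact ⟨fun hz => adjoin_le_fixedField G K t htfix z hz,
      fun hz => fixedField_le_adjoin G K hstab t htfix httop z hz⟩

end Abstract

section Concrete

variable (k : Type u) [Field k]

theorem algebraicIndependent_X (σ : Type*) :
    AlgebraicIndependent k (fun i : σ => (InvFld.X i : InvFld.Fld σ k)) :=
  (MvPolynomial.algebraicIndependent_X σ k).map'
    (f := IsScalarTower.toAlgHom k (MvPolynomial σ k) (InvFld.Fld σ k))
    (IsFractionRing.injective _ _)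

open scoped IntermediateField.algebraAdjoinAdjoin in
theorem algebraicIndependent_inr (σ τ : Type*) :
    AlgebraicIndependent
      (↥(IntermediateField.adjoin k
        (Set.range fun j : σ => (InvFld.X (Sum.inl j) : InvFld.Fld (σ ⊕ τ) k))))
      (fun j : τ => (InvFld.X (Sum.inr j) : InvFld.Fld (σ ⊕ τ) k)) := by
  have h1 := algebraicIndependent_X k (σ ⊕ τ)
  have h2 : AlgebraicIndependent k
      (Sum.elim (fun j : τ => (InvFld.X (Sum.inr j) : InvFld.Fld (σ ⊕ τ) k))
        (fun j : σ => (InvFld.X (Sum.inl j) : InvFld.Fld (σ ⊕ τ) k))) := by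
    have := h1.comp Sum.swap (Equiv.sumComm τ σ).injective
    convert this using 1
    ext (i | i) <;> rfl
  have h3 := (AlgebraicIndependent.sumElim_iff.1 h2).2
  exact h3.extendScalars _

theorem algebraMap_mem_of_X_mem (σ : Type*) (M : Subfield (InvFld.Fld σ k))
    (hk : ∀ a : k, algebraMap k (InvFld.Fld σ k) a ∈ M)
    (hX : ∀ i : σ, (InvFld.X i : InvFld.Fld σ k) ∈ M) (p : MvPolynomial σ k) :
    algebraMap (MvPolynomial σ k) (InvFld.Fld σ k) p ∈ M := by
  induction p using MvPolynomial.induction_on with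
  | C a =>
    have : algebraMap (MvPolynomial σ k) (InvFld.Fld σ k) (MvPolynomial.C a) =
        algebraMap k (InvFld.Fld σ k) a := by
      rw [IsScalarTower.algebraMap_apply k (MvPolynomial σ k) (InvFld.Fld σ k)]
      rfl
    rw [this]; exact hk a
  | add p q hp hq => rw [map_add]; exact M.add_mem hp hq
  | mul_X p i hp => rw [map_mul]; exact M.mul_mem hp (hX i)

theorem eq_top_of_X_mem (σ : Type*) (M : Subfield (InvFld.Fld σ k))
    (hk : ∀ a : k, algebraMap k (InvFld.Fld σ k) a ∈ M)
    (hX : ∀ i : σ, (InvFld.X i : InvFld.Fld σ k) ∈ M) (z : InvFld.Fld σ k) : z ∈ M := by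
  obtain ⟨p, q, -, rfl⟩ := IsFractionRing.div_surjective (A := MvPolynomial σ k) z
  exact M.div_mem (algebraMap_mem_of_X_mem k σ M hk hX p) (algebraMap_mem_of_X_mem k σ M hk hX q)

theorem adjoin_inr_eq_top (σ τ : Type*) :
    IntermediateField.adjoin
      (↥(IntermediateField.adjoin k
        (Set.range fun j : σ => (InvFld.X (Sum.inl j) : InvFld.Fld (σ ⊕ τ) k))))
      (Set.range fun j : τ => (InvFld.X (Sum.inr j) : InvFld.Fld (σ ⊕ τ) k)) = ⊤ := by
  rw [eq_top_iff]
  intro z _
  set K := IntermediateField.adjoin k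
        (Set.range fun j : σ => (InvFld.X (Sum.inl j) : InvFld.Fld (σ ⊕ τ) k)) with hK
  set M := IntermediateField.adjoin (↥K)
      (Set.range fun j : τ => (InvFld.X (Sum.inr j) : InvFld.Fld (σ ⊕ τ) k)) with hM
  have hKM : ∀ a ∈ K, a ∈ M := fun a ha => M.algebraMap_mem ⟨a, ha⟩
  refine eq_top_of_X_mem k (σ ⊕ τ) M.toSubfield (fun a => hKM _ (K.algebraMap_mem a)) ?_ z
  rintro (i | j)
  · exact hKM _ (IntermediateField.subset_adjoin _ _ ⟨i, rfl⟩)
  · exact IntermediateField.subset_adjoin _ _ ⟨j, rfl⟩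

variable [CharZero k]

instance (σ : Type*) : CharZero (InvFld.Fld σ k) :=
  charZero_of_injective_algebraMap (algebraMap k (InvFld.Fld σ k)).injective

theorem noName (σ : Type*) (m : ℕ)
    (G : Subgroup (InvFld.Fld (σ ⊕ Fin m) k ≃ₐ[k] InvFld.Fld (σ ⊕ Fin m) k)) [Finite G]
    (hx : ∀ g ∈ G, ∀ i : σ, g (InvFld.X (Sum.inl i)) ∈ Submodule.span k
      (Set.range fun j : σ => (InvFld.X (Sum.inl j) : InvFld.Fld (σ ⊕ Fin m) k)))
    (hy : ∀ g ∈ G, ∀ i : Fin m, g (InvFld.X (Sum.inr i)) ∈ Submodule.span k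
      (Set.range fun j : Fin m => (InvFld.X (Sum.inr j) : InvFld.Fld (σ ⊕ Fin m) k)))
    (hfaith : ∀ g ∈ G, (∀ i : σ, g (InvFld.X (Sum.inl i)) = InvFld.X (Sum.inl i)) → g = 1) :
    ∃ t : Fin m → InvFld.Fld (σ ⊕ Fin m) k,
      AlgebraicIndependent (↥(IntermediateField.adjoin k
        (Set.range fun j : σ => (InvFld.X (Sum.inl j) : InvFld.Fld (σ ⊕ Fin m) k)) ⊓
          IntermediateField.fixedField G)) t ∧
      IntermediateField.restrictScalars k (IntermediateField.adjoin
        (↥(IntermediateField.adjoin k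
          (Set.range fun j : σ => (InvFld.X (Sum.inl j) : InvFld.Fld (σ ⊕ Fin m) k)) ⊓
            IntermediateField.fixedField G)) (Set.range t)) =
        IntermediateField.fixedField G := by
  set K := IntermediateField.adjoin k
    (Set.range fun j : σ => (InvFld.X (Sum.inl j) : InvFld.Fld (σ ⊕ Fin m) k)) with hK
  have hspanK : Submodule.span k
      (Set.range fun j : σ => (InvFld.X (Sum.inl j) : InvFld.Fld (σ ⊕ Fin m) k)) ≤
      Subalgebra.toSubmodule K.toSubalgebra :=
    Submodule.span_le.2 (IntermediateField.subset_adjoin k _)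
  have hstab : ∀ g ∈ G, ∀ a ∈ K, g a ∈ K := by
    intro g hg
    have h1 : K ≤ K.comap (g : InvFld.Fld (σ ⊕ Fin m) k →ₐ[k] InvFld.Fld (σ ⊕ Fin m) k) := by
      rw [hK, IntermediateField.adjoin_le_iff]
      rintro _ ⟨i, rfl⟩
      exact hspanK (hx g hg i)
    exact fun a ha => h1 ha
  refine noName_abstract G K (fun j : Fin m => (InvFld.X (Sum.inr j) : InvFld.Fld (σ ⊕ Fin m) k))
    hstab ?_ ?_ (algebraicIndependent_inr k σ (Fin m)) (adjoin_inr_eq_top k σ (Fin m))
  · intro g hg h
    exact hfaith g hg (fun i => h _ (IntermediateField.subset_adjoin _ _ ⟨i, rfl⟩))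
  · intro g hg i
    exact Submodule.span_le_restrictScalars k K _ (hy g hg i)

end Concrete

end Groth.Agent.Lib.Helper20.InvFld4
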