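import Groth.Agent.Lib.Helper20.InvFld4

/-!
# Rational function fields: extensionality, embeddings, product automorphisms
-/

namespace Groth.Agent.Lib.Helper20.InvFld5

open IntermediateField Module Groth.Agent.Lib.Helper20.InvFld2 Groth.Agent.Lib.Helper20.InvFld4

universe u

variable (k : Type u) [Field k]

theorem fld_algHom_ext {σ : Type*} {B : Type*} [Semiring B] [Algebra k B]
    {f g : InvFld.Fld σ k →ₐ[k] B} (h : ∀ i, f (InvFld.X i) = g (InvFld.X i)) : f = g := by
  apply IsLocalization.algHom_ext (nonZeroDivisors (MvPolynomial σ k))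
  apply MvPolynomial.algHom_ext
  intro i
  exact h i

theorem fld_algEquiv_ext {σ : Type*} {B : Type*} [Semiring B] [Algebra k B]
    {f g : InvFld.Fld σ k ≃ₐ[k] B} (h : ∀ i, f (InvFld.X i) = g (InvFld.X i)) : f = g := by
  have : (f : InvFld.Fld σ k →ₐ[k] B) = (g : InvFld.Fld σ k →ₐ[k] B) := fld_algHom_ext k h
  ext z
  exact DFunLike.congr_fun this z

theorem adjoin_X_eq_top (σ : Type*) :
    IntermediateField.adjoin k (Set.range fun i : σ => (InvFld.X i : InvFld.Fld σ k)) = ⊤ := by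
  rw [eq_top_iff]
  intro z _
  exact eq_top_of_X_mem k σ
    (IntermediateField.adjoin k (Set.range fun i : σ => (InvFld.X i : InvFld.Fld σ k))).toSubfield
    (fun a => IntermediateField.algebraMap_mem _ a)
    (fun i => IntermediateField.subset_adjoin _ _ ⟨i, rfl⟩) z

/-- A generating family of the right finite size is algebraically independent. -/
theorem algebraicIndependent_of_adjoin_eq_top {σ : Type*} [Finite σ] {L' : Type*} [Field L']
    [Algebra k L'] (w : σ → L') (hw : AlgebraicIndependent k w)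
    (hwtop : IntermediateField.adjoin k (Set.range w) = ⊤) (v : σ → L')
    (hv : IntermediateField.adjoin k (Set.range v) = ⊤) : AlgebraicIndependent k v := by
  have hwB : IsTranscendenceBasis k w :=
    hw.isTranscendenceBasis_iff_isAlgebraic.2 (isAlgebraic_of_adjoin_eq_top _ hwtop)
  have : Algebra.IsAlgebraic (Algebra.adjoin k (Set.range v)) L' :=
    isAlgebraic_of_adjoin_eq_top _ hv
  exact (Algebra.IsAlgebraic.isTranscendenceBasis_of_lift_le_trdeg_of_finite k v
    hwB.lift_cardinalMk_eq_trdeg.le).1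

section Emb

variable {k}
variable {σ : Type*} {L' : Type*} [Field L'] [Algebra k L'] (v : σ → L')
  (hv : AlgebraicIndependent k v)

/-- The embedding `k(x_i) → L'` sending `x_i` to an algebraically independent family. -/
noncomputable def embOfIndep : InvFld.Fld σ k →ₐ[k] L' :=
  IsFractionRing.liftAlgHom (K := InvFld.Fld σ k) (g := MvPolynomial.aeval v)
    (algebraicIndependent_iff_injective_aeval.1 hv)

@[simp]
theorem embOfIndep_X (i : σ) : embOfIndep v hv (InvFld.X i) = v i := by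
  unfold embOfIndep InvFld.X
  rw [IsFractionRing.liftAlgHom_apply, IsFractionRing.lift_algebraMap]
  simp

theorem embOfIndep_fieldRange :
    (embOfIndep v hv).fieldRange = IntermediateField.adjoin k (Set.range v) :=
  IsFractionRing.liftAlgHom_fieldRange_eq_of_range_eq _
    (Algebra.adjoin_range_eq_range_aeval k v).symm

/-- The isomorphism `k(x_i) ≃ L'` for an algebraically independent generating family. -/
noncomputable def equivOfGen (htop : IntermediateField.adjoin k (Set.range v) = ⊤) :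
    InvFld.Fld σ k ≃ₐ[k] L' :=
  AlgEquiv.ofBijective (embOfIndep v hv) ⟨(embOfIndep v hv).toRingHom.injective, by
    rw [← AlgHom.fieldRange_eq_top, embOfIndep_fieldRange, htop]⟩

@[simp]
theorem equivOfGen_X (htop : IntermediateField.adjoin k (Set.range v) = ⊤) (i : σ) :
    equivOfGen v hv htop (InvFld.X i) = v i := embOfIndep_X v hv i

end Emb

section Prod

variable {k}
variable (σ τ : Type*)

/-- `k(x) → k(x, y)`. -/
noncomputable def inlEmb : InvFld.Fld σ k →ₐ[k] InvFld.Fld (σ ⊕ τ) k :=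
  embOfIndep (fun i : σ => (InvFld.X (Sum.inl i) : InvFld.Fld (σ ⊕ τ) k))
    ((algebraicIndependent_X k (σ ⊕ τ)).comp Sum.inl Sum.inl_injective)

/-- `k(y) → k(x, y)`. -/
noncomputable def inrEmb : InvFld.Fld τ k →ₐ[k] InvFld.Fld (σ ⊕ τ) k :=
  embOfIndep (fun i : τ => (InvFld.X (Sum.inr i) : InvFld.Fld (σ ⊕ τ) k))
    ((algebraicIndependent_X k (σ ⊕ τ)).comp Sum.inr Sum.inr_injective)

@[simp]
theorem inlEmb_X (i : σ) : inlEmb (k := k) σ τ (InvFld.X i) = InvFld.X (Sum.inl i) :=
  embOfIndep_X _ _ i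

@[simp]
theorem inrEmb_X (i : τ) : inrEmb (k := k) σ τ (InvFld.X i) = InvFld.X (Sum.inr i) :=
  embOfIndep_X _ _ i

theorem inlEmb_fieldRange : (inlEmb (k := k) σ τ).fieldRange = IntermediateField.adjoin k
    (Set.range fun i : σ => (InvFld.X (Sum.inl i) : InvFld.Fld (σ ⊕ τ) k)) :=
  embOfIndep_fieldRange _ _

theorem inrEmb_fieldRange : (inrEmb (k := k) σ τ).fieldRange = IntermediateField.adjoin k
    (Set.range fun i : τ => (InvFld.X (Sum.inr i) : InvFld.Fld (σ ⊕ τ) k)) :=
  embOfIndep_fieldRange _ _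

variable {σ τ}
variable (g : InvFld.Fld σ k ≃ₐ[k] InvFld.Fld σ k) (h : InvFld.Fld τ k ≃ₐ[k] InvFld.Fld τ k)

/-- The generating family defining the product automorphism. -/
noncomputable def prodFam : σ ⊕ τ → InvFld.Fld (σ ⊕ τ) k :=
  Sum.elim (fun i => inlEmb σ τ (g (InvFld.X i))) (fun j => inrEmb σ τ (h (InvFld.X j)))

theorem prodFam_top :
    IntermediateField.adjoin k (Set.range (prodFam g h)) = ⊤ := by
  set M := IntermediateField.adjoin k (Set.range (prodFam g h)) with hM
  have h1 : ∀ z : InvFld.Fld σ k, inlEmb σ τ (g z) ∈ M := by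
    intro z
    let N : IntermediateField k (InvFld.Fld σ k) :=
      M.comap ((inlEmb σ τ).comp (g : InvFld.Fld σ k →ₐ[k] InvFld.Fld σ k))
    exact eq_top_of_X_mem k σ N.toSubfield (fun a => N.algebraMap_mem a)
      (fun i => IntermediateField.subset_adjoin k _ ⟨Sum.inl i, rfl⟩) z
  have h2 : ∀ z : InvFld.Fld τ k, inrEmb σ τ (h z) ∈ M := by
    intro z
    let N : IntermediateField k (InvFld.Fld τ k) :=
      M.comap ((inrEmb σ τ).comp (h : InvFld.Fld τ k →ₐ[k] InvFld.Fld τ k))
    exact eq_top_of_X_mem k τ N.toSubfield (fun a => N.algebraMap_mem a)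
      (fun i => IntermediateField.subset_adjoin k _ ⟨Sum.inr i, rfl⟩) z
  rw [eq_top_iff]
  intro z _
  refine eq_top_of_X_mem k (σ ⊕ τ) M.toSubfield (fun a => M.algebraMap_mem a) ?_ z
  rintro (i | j)
  · have := h1 (g.symm (InvFld.X i))
    rwa [AlgEquiv.apply_symm_apply, inlEmb_X] at this
  · have := h2 (h.symm (InvFld.X j))
    rwa [AlgEquiv.apply_symm_apply, inrEmb_X] at this

variable [Finite σ] [Finite τ]

theorem prodFam_indep : AlgebraicIndependent k (prodFam g h) :=
  algebraicIndependent_of_adjoin_eq_top k _ (algebraicIndependent_X k (σ ⊕ τ))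
    (adjoin_X_eq_top k (σ ⊕ τ)) _ (prodFam_top g h)

/-- The product automorphism `g × h` of `k(x, y)`. -/
noncomputable def prodAut : InvFld.Fld (σ ⊕ τ) k ≃ₐ[k] InvFld.Fld (σ ⊕ τ) k :=
  equivOfGen (prodFam g h) (prodFam_indep g h) (prodFam_top g h)

@[simp]
theorem prodAut_inl (i : σ) :
    prodAut g h (InvFld.X (Sum.inl i)) = inlEmb σ τ (g (InvFld.X i)) :=
  equivOfGen_X _ _ _ _

@[simp]
theorem prodAut_inr (j : τ) :
    prodAut g h (InvFld.X (Sum.inr j)) = inrEmb σ τ (h (InvFld.X j)) :=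
  equivOfGen_X _ _ _ _

theorem prodAut_inlEmb (z : InvFld.Fld σ k) : prodAut g h (inlEmb σ τ z) = inlEmb σ τ (g z) := by
  have : ((prodAut g h : InvFld.Fld (σ ⊕ τ) k →ₐ[k] InvFld.Fld (σ ⊕ τ) k).comp (inlEmb σ τ)) =
      (inlEmb σ τ).comp (g : InvFld.Fld σ k →ₐ[k] InvFld.Fld σ k) := by
    apply fld_algHom_ext
    intro i
    simp
  exact DFunLike.congr_fun this z

theorem prodAut_inrEmb (z : InvFld.Fld τ k) : prodAut g h (inrEmb σ τ z) = inrEmb σ τ (h z) := by
  have : ((prodAut g h : InvFld.Fld (σ ⊕ τ) k →ₐ[k] InvFld.Fld (σ ⊕ τ) k).comp (inrEmb σ τ)) =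
      (inrEmb σ τ).comp (h : InvFld.Fld τ k →ₐ[k] InvFld.Fld τ k) := by
    apply fld_algHom_ext
    intro i
    simp
  exact DFunLike.congr_fun this z

theorem prodAut_mul (g' : InvFld.Fld σ k ≃ₐ[k] InvFld.Fld σ k)
    (h' : InvFld.Fld τ k ≃ₐ[k] InvFld.Fld τ k) :
    prodAut (g * g') (h * h') = prodAut g h * prodAut g' h' := by
  apply fld_algEquiv_ext
  rintro (i | j)
  · rw [AlgEquiv.mul_apply, prodAut_inl, prodAut_inl, prodAut_inlEmb, AlgEquiv.mul_apply]
  · rw [AlgEquiv.mul_apply, prodAut_inr, prodAut_inr, prodAut_inrEmb, AlgEquiv.mul_apply]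

theorem prodAut_one : prodAut (1 : InvFld.Fld σ k ≃ₐ[k] InvFld.Fld σ k)
    (1 : InvFld.Fld τ k ≃ₐ[k] InvFld.Fld τ k) = 1 := by
  apply fld_algEquiv_ext
  rintro (i | j)
  · rw [prodAut_inl, AlgEquiv.one_apply, AlgEquiv.one_apply, inlEmb_X]
  · rw [prodAut_inr, AlgEquiv.one_apply, AlgEquiv.one_apply, inrEmb_X]

end Prod

end Groth.Agent.Lib.Helper20.InvFld5
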