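import Groth.Agent.Lib.Helper20.InvFld5

/-!
# Stable equivalence of fields of invariants of two faithful linear representations
-/

namespace Groth.Agent.Lib.Helper20.InvFld6

open IntermediateField Module Groth.Agent.Lib.Helper20.InvFld2 Groth.Agent.Lib.Helper20.InvFld4
  Groth.Agent.Lib.Helper20.InvFld5

universe u

section Mirror

variable (k : Type u) [Field k]

open scoped IntermediateField.algebraAdjoinAdjoin in
theorem algebraicIndependent_inl (σ τ : Type*) :
    AlgebraicIndependent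
      (↥(IntermediateField.adjoin k
        (Set.range fun j : τ => (InvFld.X (Sum.inr j) : InvFld.Fld (σ ⊕ τ) k))))
      (fun j : σ => (InvFld.X (Sum.inl j) : InvFld.Fld (σ ⊕ τ) k)) := by
  have h1 := algebraicIndependent_X k (σ ⊕ τ)
  have h2 : AlgebraicIndependent k
      (Sum.elim (fun j : σ => (InvFld.X (Sum.inl j) : InvFld.Fld (σ ⊕ τ) k))
        (fun j : τ => (InvFld.X (Sum.inr j) : InvFld.Fld (σ ⊕ τ) k))) := by
    convert h1 using 1
    ext (i | i) <;> rfl
  have h3 := (AlgebraicIndependent.sumElim_iff.1 h2).2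
  exact h3.extendScalars _

theorem adjoin_inl_eq_top (σ τ : Type*) :
    IntermediateField.adjoin
      (↥(IntermediateField.adjoin k
        (Set.range fun j : τ => (InvFld.X (Sum.inr j) : InvFld.Fld (σ ⊕ τ) k))))
      (Set.range fun j : σ => (InvFld.X (Sum.inl j) : InvFld.Fld (σ ⊕ τ) k)) = ⊤ := by
  rw [eq_top_iff]
  intro z _
  set K := IntermediateField.adjoin k
        (Set.range fun j : τ => (InvFld.X (Sum.inr j) : InvFld.Fld (σ ⊕ τ) k)) with hK
  set M := IntermediateField.adjoin (↥K)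
      (Set.range fun j : σ => (InvFld.X (Sum.inl j) : InvFld.Fld (σ ⊕ τ) k)) with hM
  have hKM : ∀ a ∈ K, a ∈ M := fun a ha => M.algebraMap_mem ⟨a, ha⟩
  refine eq_top_of_X_mem k (σ ⊕ τ) M.toSubfield (fun a => hKM _ (K.algebraMap_mem a)) ?_ z
  rintro (i | j)
  · exact IntermediateField.subset_adjoin _ _ ⟨i, rfl⟩
  · exact hKM _ (IntermediateField.subset_adjoin _ _ ⟨j, rfl⟩)

variable [CharZero k]

theorem noName' (τ : Type*) (n : ℕ)
    (G : Subgroup (InvFld.Fld (Fin n ⊕ τ) k ≃ₐ[k] InvFld.Fld (Fin n ⊕ τ) k)) [Finite G]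
    (hx : ∀ g ∈ G, ∀ i : Fin n, g (InvFld.X (Sum.inl i)) ∈ Submodule.span k
      (Set.range fun j : Fin n => (InvFld.X (Sum.inl j) : InvFld.Fld (Fin n ⊕ τ) k)))
    (hy : ∀ g ∈ G, ∀ i : τ, g (InvFld.X (Sum.inr i)) ∈ Submodule.span k
      (Set.range fun j : τ => (InvFld.X (Sum.inr j) : InvFld.Fld (Fin n ⊕ τ) k)))
    (hfaith : ∀ g ∈ G, (∀ i : τ, g (InvFld.X (Sum.inr i)) = InvFld.X (Sum.inr i)) → g = 1) :
    ∃ t : Fin n → InvFld.Fld (Fin n ⊕ τ) k,
      AlgebraicIndependent (↥(IntermediateField.adjoin k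
        (Set.range fun j : τ => (InvFld.X (Sum.inr j) : InvFld.Fld (Fin n ⊕ τ) k)) ⊓
          IntermediateField.fixedField G)) t ∧
      IntermediateField.restrictScalars k (IntermediateField.adjoin
        (↥(IntermediateField.adjoin k
          (Set.range fun j : τ => (InvFld.X (Sum.inr j) : InvFld.Fld (Fin n ⊕ τ) k)) ⊓
            IntermediateField.fixedField G)) (Set.range t)) =
        IntermediateField.fixedField G := by
  set K := IntermediateField.adjoin k
    (Set.range fun j : τ => (InvFld.X (Sum.inr j) : InvFld.Fld (Fin n ⊕ τ) k)) with hK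
  have hspanK : Submodule.span k
      (Set.range fun j : τ => (InvFld.X (Sum.inr j) : InvFld.Fld (Fin n ⊕ τ) k)) ≤
      Subalgebra.toSubmodule K.toSubalgebra :=
    Submodule.span_le.2 (IntermediateField.subset_adjoin k _)
  have hstab : ∀ g ∈ G, ∀ a ∈ K, g a ∈ K := by
    intro g hg
    have h1 : K ≤ K.comap (g : InvFld.Fld (Fin n ⊕ τ) k →ₐ[k] InvFld.Fld (Fin n ⊕ τ) k) := by
      rw [hK, IntermediateField.adjoin_le_iff]
      rintro _ ⟨i, rfl⟩
      exact hspanK (hy g hg i)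
    exact fun a ha => h1 ha
  refine noName_abstract G K (fun j : Fin n => (InvFld.X (Sum.inl j) : InvFld.Fld (Fin n ⊕ τ) k))
    hstab ?_ ?_ (algebraicIndependent_inl k (Fin n) τ) (adjoin_inl_eq_top k (Fin n) τ)
  · intro g hg h
    exact hfaith g hg (fun i => h _ (IntermediateField.subset_adjoin _ _ ⟨i, rfl⟩))
  · intro g hg i
    exact Submodule.span_le_restrictScalars k K _ (hx g hg i)

end Mirror

section Transfer

variable {k : Type u} [Field k]

/-- Transport of fixed fields along an equivariant embedding. -/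
theorem fixedField_equiv {K' L : Type*} [Field K'] [Field L] [Algebra k K'] [Algebra k L]
    (ι : K' →ₐ[k] L) (G' : Subgroup (K' ≃ₐ[k] K')) (Gt : Subgroup (L ≃ₐ[k] L))
    (h1 : ∀ g ∈ G', ∃ gt ∈ Gt, ∀ z, gt (ι z) = ι (g z))
    (h2 : ∀ gt ∈ Gt, ∃ g ∈ G', ∀ z, gt (ι z) = ι (g z)) :
    Nonempty (↥(fixedField G') ≃ₐ[k] ↥(ι.fieldRange ⊓ fixedField Gt)) := by
  have hmem : ∀ z : fixedField G', ι z ∈ (ι.fieldRange ⊓ fixedField Gt).toSubalgebra := by
    intro z
    refine ⟨⟨z, rfl⟩, ?_⟩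
    show ι z ∈ fixedField Gt
    rw [mem_fixedField_iff]
    intro gt hgt
    obtain ⟨g, hg, hgz⟩ := h2 gt hgt
    rw [hgz, (mem_fixedField_iff G' z).1 z.2 g hg]
  let f : ↥(fixedField G') →ₐ[k] ↥(ι.fieldRange ⊓ fixedField Gt) :=
    (ι.comp (fixedField G').val).codRestrict (ι.fieldRange ⊓ fixedField Gt).toSubalgebra hmem
  refine ⟨AlgEquiv.ofBijective f ⟨?_, ?_⟩⟩
  · intro a b hab
    have := congrArg Subtype.val hab
    exact Subtype.ext (ι.toRingHom.injective this)
  · rintro ⟨w, ⟨z, rfl⟩, hw⟩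
    have hw' : ι z ∈ fixedField Gt := hw
    refine ⟨⟨z, ?_⟩, rfl⟩
    rw [mem_fixedField_iff]
    intro g hg
    obtain ⟨gt, hgt, hgz⟩ := h1 g hg
    apply ι.toRingHom.injective
    show ι (g z) = ι z
    rw [← hgz, (mem_fixedField_iff Gt _).1 hw' gt hgt]

/-- Change of coefficient field in a rational function field. -/
noncomputable def fldCongr (ι : Type*) {F F' : Type*} [Field F] [Field F'] [Algebra k F]
    [Algebra k F'] (e : F ≃ₐ[k] F') : InvFld.Fld ι F ≃ₐ[k] InvFld.Fld ι F' :=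
  IsFractionRing.algEquivOfAlgEquiv (MvPolynomial.mapAlgEquiv ι e)

/-- `F(t) ≃ Frac F[T]` over `k`, for `t` algebraically independent over `F`. -/
noncomputable def fldEquivAdjoin {L : Type*} [Field L] [Algebra k L] {ι : Type*}
    (F : IntermediateField k L) (t : ι → L) (ht : AlgebraicIndependent F t) :
    InvFld.Fld ι F ≃ₐ[k]
      ↥(IntermediateField.restrictScalars k (IntermediateField.adjoin F (Set.range t))) :=
  (ht.aevalEquivField.restrictScalars k).trans AlgEquiv.refl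

end Transfer

section Main

variable {k : Type u} [Field k] [CharZero k]

theorem inlEmb_mem_span (σ τ : Type*) (z : InvFld.Fld σ k)
    (hz : z ∈ Submodule.span k (Set.range fun j : σ => (InvFld.X j : InvFld.Fld σ k))) :
    inlEmb σ τ z ∈ Submodule.span k
      (Set.range fun j : σ => (InvFld.X (Sum.inl j) : InvFld.Fld (σ ⊕ τ) k)) := by
  induction hz using Submodule.span_induction with
  | mem x hx =>
    obtain ⟨i, rfl⟩ := hx
    rw [inlEmb_X]
    exact Submodule.subset_span ⟨i, rfl⟩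
  | zero => rw [map_zero]; exact Submodule.zero_mem _
  | add x y _ _ hx hy => rw [map_add]; exact Submodule.add_mem _ hx hy
  | smul a x _ hx =>
    rw [Algebra.smul_def, map_mul, AlgHom.commutes, ← Algebra.smul_def]
    exact Submodule.smul_mem _ _ hx

theorem inrEmb_mem_span (σ τ : Type*) (z : InvFld.Fld τ k)
    (hz : z ∈ Submodule.span k (Set.range fun j : τ => (InvFld.X j : InvFld.Fld τ k))) :
    inrEmb σ τ z ∈ Submodule.span k
      (Set.range fun j : τ => (InvFld.X (Sum.inr j) : InvFld.Fld (σ ⊕ τ) k)) := by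
  induction hz using Submodule.span_induction with
  | mem x hx =>
    obtain ⟨i, rfl⟩ := hx
    rw [inrEmb_X]
    exact Submodule.subset_span ⟨i, rfl⟩
  | zero => rw [map_zero]; exact Submodule.zero_mem _
  | add x y _ _ hx hy => rw [map_add]; exact Submodule.add_mem _ hx hy
  | smul a x _ hx =>
    rw [Algebra.smul_def, map_mul, AlgHom.commutes, ← Algebra.smul_def]
    exact Submodule.smul_mem _ _ hx

theorem stableEquiv (n m : ℕ)
    (G : Subgroup (InvFld.Fld (Fin n) k ≃ₐ[k] InvFld.Fld (Fin n) k)) [Finite G]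
    (H : Subgroup (InvFld.Fld (Fin m) k ≃ₐ[k] InvFld.Fld (Fin m) k)) [Finite H] (e : G ≃* H)
    (hG : ∀ σ ∈ G, ∀ i : Fin n, σ (InvFld.X i) ∈
      Submodule.span k (Set.range fun j : Fin n => (InvFld.X j : InvFld.Fld (Fin n) k)))
    (hH : ∀ τ ∈ H, ∀ i : Fin m, τ (InvFld.X i) ∈
      Submodule.span k (Set.range fun j : Fin m => (InvFld.X j : InvFld.Fld (Fin m) k))) :
    Nonempty (InvFld.Fld (Fin m) (IntermediateField.fixedField G) ≃ₐ[k]
      InvFld.Fld (Fin n) (IntermediateField.fixedField H)) := by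
  classical
  -- the diagonal action
  let D : G →* (InvFld.Fld (Fin n ⊕ Fin m) k ≃ₐ[k] InvFld.Fld (Fin n ⊕ Fin m) k) :=
    { toFun := fun g => prodAut (g : InvFld.Fld (Fin n) k ≃ₐ[k] InvFld.Fld (Fin n) k)
        ((e g : H) : InvFld.Fld (Fin m) k ≃ₐ[k] InvFld.Fld (Fin m) k)
      map_one' := by
        simp only [map_one, Subgroup.coe_one]
        exact prodAut_one
      map_mul' := fun g g' => by
        simp only [map_mul, Subgroup.coe_mul]
        exact prodAut_mul _ _ _ _ }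
  have hD : ∀ g : G, D g = prodAut (g : InvFld.Fld (Fin n) k ≃ₐ[k] InvFld.Fld (Fin n) k)
        ((e g : H) : InvFld.Fld (Fin m) k ≃ₐ[k] InvFld.Fld (Fin m) k) := fun g => rfl
  set Gt := D.range with hGt
  have : Finite Gt := by
    rw [hGt]; exact Set.finite_range D
  have hx : ∀ gt ∈ Gt, ∀ i : Fin n, gt (InvFld.X (Sum.inl i)) ∈ Submodule.span k
      (Set.range fun j : Fin n => (InvFld.X (Sum.inl j) : InvFld.Fld (Fin n ⊕ Fin m) k)) := by
    rintro _ ⟨g, rfl⟩ i
    rw [hD, prodAut_inl]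
    exact inlEmb_mem_span _ _ _ (hG g g.2 i)
  have hy : ∀ gt ∈ Gt, ∀ i : Fin m, gt (InvFld.X (Sum.inr i)) ∈ Submodule.span k
      (Set.range fun j : Fin m => (InvFld.X (Sum.inr j) : InvFld.Fld (Fin n ⊕ Fin m) k)) := by
    rintro _ ⟨g, rfl⟩ i
    rw [hD, prodAut_inr]
    exact inrEmb_mem_span _ _ _ (hH (e g) (e g).2 i)
  have hfx : ∀ gt ∈ Gt, (∀ i : Fin n, gt (InvFld.X (Sum.inl i)) = InvFld.X (Sum.inl i)) →
      gt = 1 := by
    rintro _ ⟨g, rfl⟩ h
    have h1 : (g : InvFld.Fld (Fin n) k ≃ₐ[k] InvFld.Fld (Fin n) k) = 1 := by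
      apply fld_algEquiv_ext
      intro i
      have := h i
      rw [hD, prodAut_inl, ← inlEmb_X (Fin n) (Fin m) i] at this
      exact (inlEmb (Fin n) (Fin m)).toRingHom.injective this
    have h2 : g = 1 := Subtype.ext h1
    rw [h2, map_one]
  have hfy : ∀ gt ∈ Gt, (∀ i : Fin m, gt (InvFld.X (Sum.inr i)) = InvFld.X (Sum.inr i)) →
      gt = 1 := by
    rintro _ ⟨g, rfl⟩ h
    have h1 : ((e g : H) : InvFld.Fld (Fin m) k ≃ₐ[k] InvFld.Fld (Fin m) k) = 1 := by
      apply fld_algEquiv_ext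
      intro i
      have := h i
      rw [hD, prodAut_inr, ← inrEmb_X (Fin n) (Fin m) i] at this
      exact (inrEmb (Fin n) (Fin m)).toRingHom.injective this
    have h2 : e g = 1 := Subtype.ext h1
    have h3 : g = 1 := by
      have := congrArg e.symm h2
      simpa using this
    rw [h3, map_one]
  obtain ⟨t, htind, htgen⟩ := noName k (Fin n) m Gt hx hy hfx
  obtain ⟨s, hsind, hsgen⟩ := noName' k (Fin m) n Gt hx hy hfy
  -- fixed fields
  obtain ⟨e1⟩ := fixedField_equiv (inlEmb (k := k) (Fin n) (Fin m)) G Gt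
    (fun g hg => ⟨D ⟨g, hg⟩, ⟨⟨g, hg⟩, rfl⟩, fun z => by rw [hD]; exact prodAut_inlEmb _ _ z⟩)
    (by
      rintro _ ⟨g, rfl⟩
      exact ⟨g, g.2, fun z => by rw [hD]; exact prodAut_inlEmb _ _ z⟩)
  obtain ⟨e2⟩ := fixedField_equiv (inrEmb (k := k) (Fin n) (Fin m)) H Gt
    (fun h hh => ⟨D (e.symm ⟨h, hh⟩), ⟨e.symm ⟨h, hh⟩, rfl⟩, fun z => by
      rw [hD, prodAut_inrEmb]
      simp⟩)
    (by
      rintro _ ⟨g, rfl⟩
      exact ⟨e g, (e g).2, fun z => by rw [hD]; exact prodAut_inrEmb _ _ z⟩)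
  rw [inlEmb_fieldRange] at e1
  rw [inrEmb_fieldRange] at e2
  exact ⟨(fldCongr (Fin m) e1).trans <| (fldEquivAdjoin _ t htind).trans <|
    (IntermediateField.equivOfEq htgen).trans <| (IntermediateField.equivOfEq hsgen.symm).trans <|
    (fldEquivAdjoin _ s hsind).symm.trans (fldCongr (Fin n) e2).symm⟩

end Main

end Groth.Agent.Lib.Helper20.InvFld6
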