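import Groth.Agent.Lib.Helper20.InvFld6

/-!
# The symmetric group: fields of invariants of faithful linear representations are stably pure
-/

namespace Groth.Agent.Lib.Helper20.InvFld7

open IntermediateField Module MvPolynomial Groth.Agent.Lib.Helper20.InvFld2
  Groth.Agent.Lib.Helper20.InvFld4 Groth.Agent.Lib.Helper20.InvFld5
  Groth.Agent.Lib.Helper20.InvFld6

universe u

section Perm

variable (k : Type u) [Field k] (n : ℕ)

/-- The automorphism of `k(x_1, …, x_n)` permuting the variables. -/
noncomputable def permAut (π : Equiv.Perm (Fin n)) :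
    InvFld.Fld (Fin n) k ≃ₐ[k] InvFld.Fld (Fin n) k :=
  IsFractionRing.algEquivOfAlgEquiv (MvPolynomial.renameEquiv k π)

theorem permAut_algebraMap (π : Equiv.Perm (Fin n)) (p : MvPolynomial (Fin n) k) :
    permAut k n π (algebraMap _ _ p) = algebraMap _ _ (rename π p) := by
  unfold permAut
  rw [IsFractionRing.algEquivOfAlgEquiv_algebraMap]
  rfl

theorem permAut_X (π : Equiv.Perm (Fin n)) (i : Fin n) :
    permAut k n π (InvFld.X i) = InvFld.X (π i) := by
  unfold InvFld.X
  rw [permAut_algebraMap, rename_X]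

/-- The permutation representation as a group homomorphism. -/
noncomputable def permHom :
    Equiv.Perm (Fin n) →* (InvFld.Fld (Fin n) k ≃ₐ[k] InvFld.Fld (Fin n) k) where
  toFun := permAut k n
  map_one' := by
    apply fld_algEquiv_ext
    intro i
    rw [permAut_X]
    rfl
  map_mul' π π' := by
    apply fld_algEquiv_ext
    intro i
    rw [AlgEquiv.mul_apply, permAut_X, permAut_X, permAut_X]
    rfl

theorem permHom_apply (π : Equiv.Perm (Fin n)) : permHom k n π = permAut k n π := rfl

theorem permHom_injective : Function.Injective (permHom k n) := by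
  intro π π' h
  ext i
  have h1 := congrArg (fun f => f (InvFld.X i)) h
  simp only [permHom_apply, permAut_X] at h1
  have := (algebraicIndependent_X k (Fin n)).injective h1
  rw [this]

/-- The elementary symmetric functions in `k(x_1, …, x_n)`. -/
noncomputable def uE (i : Fin n) : InvFld.Fld (Fin n) k :=
  algebraMap (MvPolynomial (Fin n) k) _ (esymm (Fin n) k (i + 1))

theorem uE_indep : AlgebraicIndependent k (uE k n) := by
  rw [algebraicIndependent_iff_injective_aeval]
  have h : ∀ r : MvPolynomial (Fin n) k, aeval (uE k n) r =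
      algebraMap (MvPolynomial (Fin n) k) (InvFld.Fld (Fin n) k)
        ((esymmAlgHom (Fin n) k n r).val) := by
    intro r
    rw [esymmAlgHom_apply]
    exact (comp_aeval_apply _ (IsScalarTower.toAlgHom k (MvPolynomial (Fin n) k)
      (InvFld.Fld (Fin n) k)) r).symm
  intro r r' hrr'
  rw [h, h] at hrr'
  have h1 := IsFractionRing.injective (MvPolynomial (Fin n) k) (InvFld.Fld (Fin n) k) hrr'
  exact esymmAlgHom_fin_injective k le_rfl (Subtype.ext h1)

theorem algebraMap_mem_of_symm (p : MvPolynomial (Fin n) k) (hp : p.IsSymmetric) :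
    algebraMap _ (InvFld.Fld (Fin n) k) p ∈ IntermediateField.adjoin k (Set.range (uE k n)) := by
  obtain ⟨r, hr⟩ := (esymmAlgHom_fin_bijective k n).2 ⟨p, hp⟩
  have h1 : p = aeval (fun i : Fin n => esymm (Fin n) k (i + 1)) r := by
    rw [← esymmAlgHom_apply, hr]
  have h2 : algebraMap _ (InvFld.Fld (Fin n) k) p = aeval (uE k n) r := by
    rw [h1]
    exact comp_aeval_apply _ (IsScalarTower.toAlgHom k (MvPolynomial (Fin n) k)
      (InvFld.Fld (Fin n) k)) r
  rw [h2]
  apply IntermediateField.algebra_adjoin_le_adjoin k _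
  rw [← aeval_range]
  exact ⟨r, rfl⟩

theorem fixedField_perm :
    fixedField (permHom k n).range = IntermediateField.adjoin k (Set.range (uE k n)) := by
  classical
  apply le_antisymm
  · intro z hz
    obtain ⟨p, q, hq, rfl⟩ := IsFractionRing.div_surjective (A := MvPolynomial (Fin n) k) z
    have hq0 : q ≠ 0 := nonZeroDivisors.ne_zero hq
    set Nq := ∏ π : Equiv.Perm (Fin n), rename π q with hNq
    set q' := ∏ π ∈ (Finset.univ : Finset (Equiv.Perm (Fin n))).erase 1, rename π q with hq'
    have hN : q * q' = Nq := by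
      have := Finset.mul_prod_erase Finset.univ (fun π : Equiv.Perm (Fin n) => rename π q)
        (Finset.mem_univ 1)
      simpa using this
    have hNsymm : Nq.IsSymmetric := by
      intro σ
      rw [hNq, map_prod]
      refine Fintype.prod_equiv (Equiv.mulLeft σ) _ _ (fun π => ?_)
      rw [rename_rename]
      rfl
    have hN0 : Nq ≠ 0 := by
      rw [hNq, Finset.prod_ne_zero_iff]
      intro π _ h0
      apply hq0
      apply rename_injective π π.injective
      rw [h0, map_zero]
    have hq'0 : q' ≠ 0 := fun h => hN0 (by rw [← hN, h, mul_zero])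
    have hA : algebraMap (MvPolynomial (Fin n) k) (InvFld.Fld (Fin n) k) q ≠ 0 := fun h =>
      hq0 (IsFractionRing.injective (MvPolynomial (Fin n) k) (InvFld.Fld (Fin n) k)
        (by rw [h, map_zero]))
    have hA' : algebraMap (MvPolynomial (Fin n) k) (InvFld.Fld (Fin n) k) q' ≠ 0 := fun h =>
      hq'0 (IsFractionRing.injective (MvPolynomial (Fin n) k) (InvFld.Fld (Fin n) k)
        (by rw [h, map_zero]))
    have hz' : algebraMap (MvPolynomial (Fin n) k) (InvFld.Fld (Fin n) k) p /
        algebraMap (MvPolynomial (Fin n) k) (InvFld.Fld (Fin n) k) q =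
        algebraMap (MvPolynomial (Fin n) k) (InvFld.Fld (Fin n) k) (p * q') /
        algebraMap (MvPolynomial (Fin n) k) (InvFld.Fld (Fin n) k) Nq := by
      rw [← hN, map_mul, map_mul]
      field_simp
    have hp' : algebraMap (MvPolynomial (Fin n) k) (InvFld.Fld (Fin n) k) (p * q') =
        (algebraMap (MvPolynomial (Fin n) k) (InvFld.Fld (Fin n) k) p /
        algebraMap (MvPolynomial (Fin n) k) (InvFld.Fld (Fin n) k) q) *
        algebraMap (MvPolynomial (Fin n) k) (InvFld.Fld (Fin n) k) Nq := by
      rw [← hN, map_mul, map_mul]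
      field_simp
    have hp'symm : (p * q').IsSymmetric := by
      intro π
      apply IsFractionRing.injective (MvPolynomial (Fin n) k) (InvFld.Fld (Fin n) k)
      rw [← permAut_algebraMap, hp', map_mul, permAut_algebraMap, hNsymm π]
      congr 1
      exact (mem_fixedField_iff _ _).1 hz _ ⟨π, rfl⟩
    rw [hz']
    exact div_mem (algebraMap_mem_of_symm k n _ hp'symm) (algebraMap_mem_of_symm k n _ hNsymm)
  · rw [IntermediateField.adjoin_le_iff]
    rintro _ ⟨i, rfl⟩
    rw [SetLike.mem_coe, mem_fixedField_iff]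
    rintro _ ⟨π, rfl⟩
    show permAut k n π (uE k n i) = uE k n i
    unfold uE
    rw [permAut_algebraMap, esymm_isSymmetric (Fin n) k _ π]

/-- The fixed field of the symmetric group is a rational function field. -/
noncomputable def fixedFieldPermEquiv :
    ↥(fixedField (permHom k n).range) ≃ₐ[k] InvFld.Fld (Fin n) k :=
  (IntermediateField.equivOfEq (fixedField_perm k n)).trans (uE_indep k n).aevalEquivField.symm

end Perm

section Gen

variable (k : Type u) [Field k]

/-- A rational function field over a purely transcendental extension is purely transcendental. -/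
theorem gen_family {F' : Type*} [Field F'] [Algebra k F'] {ι : Type*} (κ : Type*) (v : ι → F')
    (hv : AlgebraicIndependent k v) (hvtop : IntermediateField.adjoin k (Set.range v) = ⊤) :
    AlgebraicIndependent k (Sum.elim (fun j : κ => (InvFld.X j : InvFld.Fld κ F'))
      (algebraMap F' (InvFld.Fld κ F') ∘ v)) ∧
    IntermediateField.adjoin k (Set.range (Sum.elim (fun j : κ => (InvFld.X j : InvFld.Fld κ F'))
      (algebraMap F' (InvFld.Fld κ F') ∘ v))) = ⊤ := by
  refine ⟨hv.sumElim_comp (algebraicIndependent_X F' κ), ?_⟩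
  set M := IntermediateField.adjoin k (Set.range (Sum.elim
    (fun j : κ => (InvFld.X j : InvFld.Fld κ F')) (algebraMap F' (InvFld.Fld κ F') ∘ v))) with hM
  have h1 : ∀ a : F', algebraMap F' (InvFld.Fld κ F') a ∈ M := by
    intro a
    let N : IntermediateField k F' := M.comap (IsScalarTower.toAlgHom k F' (InvFld.Fld κ F'))
    have hN : IntermediateField.adjoin k (Set.range v) ≤ N := by
      rw [IntermediateField.adjoin_le_iff]
      rintro _ ⟨i, rfl⟩
      exact IntermediateField.subset_adjoin k _ ⟨Sum.inr i, rfl⟩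
    have : a ∈ N := hN (hvtop ▸ IntermediateField.mem_top)
    exact this
  rw [eq_top_iff]
  intro z _
  exact eq_top_of_X_mem F' κ M.toSubfield h1
    (fun j => IntermediateField.subset_adjoin k _ ⟨Sum.inl j, rfl⟩) z

/-- Transport of a generating algebraically independent family along an isomorphism. -/
theorem transport_family {A B : Type*} [Field A] [Field B] [Algebra k A] [Algebra k B]
    (Ψ : A ≃ₐ[k] B) {ι : Type*} (w : ι → B) (hw : AlgebraicIndependent k w)
    (hwtop : IntermediateField.adjoin k (Set.range w) = ⊤) :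
    AlgebraicIndependent k (fun i => Ψ.symm (w i)) ∧
    IntermediateField.adjoin k (Set.range fun i => Ψ.symm (w i)) = ⊤ := by
  refine ⟨hw.map' (f := (Ψ.symm : B →ₐ[k] A)) Ψ.symm.injective, ?_⟩
  set M := IntermediateField.adjoin k (Set.range fun i => Ψ.symm (w i)) with hM
  have h1 : IntermediateField.adjoin k (Set.range w) ≤ M.comap (Ψ.symm : B →ₐ[k] A) := by
    rw [IntermediateField.adjoin_le_iff]
    rintro _ ⟨i, rfl⟩
    exact IntermediateField.subset_adjoin k _ ⟨i, rfl⟩
  rw [eq_top_iff]
  intro z _
  have : Ψ z ∈ M.comap (Ψ.symm : B →ₐ[k] A) := h1 (hwtop ▸ IntermediateField.mem_top)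
  have h2 : Ψ.symm (Ψ z) ∈ M := this
  rwa [AlgEquiv.symm_apply_apply] at h2

end Gen

section Main

variable {k : Type u} [Field k] [CharZero k]

theorem stablyPure_of_perm (n m : ℕ)
    (G : Subgroup (InvFld.Fld (Fin m) k ≃ₐ[k] InvFld.Fld (Fin m) k)) [Finite G]
    (e : G ≃* Equiv.Perm (Fin n))
    (hG : ∀ σ ∈ G, ∀ i : Fin m, σ (InvFld.X i) ∈
      Submodule.span k (Set.range fun j : Fin m => (InvFld.X j : InvFld.Fld (Fin m) k))) :
    ∃ (N : ℕ) (t : Fin N → InvFld.Fld (Fin n) (IntermediateField.fixedField G)),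
      AlgebraicIndependent k t ∧ IntermediateField.adjoin k (Set.range t) = ⊤ := by
  classical
  set H := (permHom k n).range with hH
  have : Finite H := by
    rw [hH]; exact Set.finite_range (permHom k n)
  let e' : G ≃* H := e.trans (MonoidHom.ofInjective (permHom_injective k n))
  have hHlin : ∀ τ ∈ H, ∀ i : Fin n, τ (InvFld.X i) ∈
      Submodule.span k (Set.range fun j : Fin n => (InvFld.X j : InvFld.Fld (Fin n) k)) := by
    rintro _ ⟨π, rfl⟩ i
    rw [permHom_apply, permAut_X]
    exact Submodule.subset_span ⟨π i, rfl⟩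
  obtain ⟨Ψ0⟩ := stableEquiv m n G H e' hG hHlin
  -- `Ψ0 : Fld (Fin n) (fixedField G) ≃ Fld (Fin m) (fixedField H)`
  let Ψ : InvFld.Fld (Fin n) (IntermediateField.fixedField G) ≃ₐ[k]
      InvFld.Fld (Fin m) (InvFld.Fld (Fin n) k) :=
    Ψ0.trans (fldCongr (Fin m) (fixedFieldPermEquiv k n))
  obtain ⟨hw, hwtop⟩ := gen_family k (Fin m) (fun i : Fin n => (InvFld.X i : InvFld.Fld (Fin n) k))
    (algebraicIndependent_X k (Fin n)) (adjoin_X_eq_top k (Fin n))
  obtain ⟨ht, httop⟩ := transport_family k Ψ _ hw hwtop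
  refine ⟨m + n, fun i => Ψ.symm (Sum.elim (fun j : Fin m => (InvFld.X j :
      InvFld.Fld (Fin m) (InvFld.Fld (Fin n) k)))
      (algebraMap (InvFld.Fld (Fin n) k) (InvFld.Fld (Fin m) (InvFld.Fld (Fin n) k)) ∘
        (fun i : Fin n => (InvFld.X i : InvFld.Fld (Fin n) k))) (finSumFinEquiv.symm i)),
    ht.comp finSumFinEquiv.symm finSumFinEquiv.symm.injective, ?_⟩
  rw [← httop]
  congr 1
  exact (finSumFinEquiv.symm.surjective.range_comp (fun s => Ψ.symm (Sum.elim
      (fun j : Fin m => (InvFld.X j : InvFld.Fld (Fin m) (InvFld.Fld (Fin n) k)))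
      (algebraMap (InvFld.Fld (Fin n) k) (InvFld.Fld (Fin m) (InvFld.Fld (Fin n) k)) ∘
        (fun i : Fin n => (InvFld.X i : InvFld.Fld (Fin n) k))) s)))

end Main

end Groth.Agent.Lib.Helper20.InvFld7
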