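import Groth.Agent.Lib.Helper20.LubinTate
import Mathlib.LinearAlgebra.Matrix.NonsingularInverse

/-!
# Formal inverse function theorem for multivariate power series (helper20)
-/

set_option autoImplicit false

namespace Groth.Agent.Lib.Helper20.IFT

open MvPowerSeries Finsupp Groth.Agent.Lib.Helper20.LT

section Generic

variable {α M : Type*}

/-- generic triangular fixed point principle -/
theorem existsUnique_fixed_gen [Inhabited M] (deg : α → ℕ) (T : (α → M) → (α → M))
    (hT : ∀ (r : ℕ) (A B : α → M), (∀ m, deg m < r → A m = B m) →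
      ∀ m, deg m < r + 1 → T A m = T B m) : ∃! F, T F = F := by
  let s : ℕ → (α → M) := fun k => T^[k] (fun _ => default)
  have hs : ∀ k, s (k + 1) = T (s k) := fun k => Function.iterate_succ_apply' T k _
  have h1 : ∀ k, ∀ m, deg m < k → s k m = s (k + 1) m := by
    intro k
    induction k with
    | zero => intro m hm; exact absurd hm (Nat.not_lt_zero _)
    | succ k ih => rw [hs k, hs (k + 1)]; exact hT k _ _ ih
  have h2 : ∀ k j, k ≤ j → ∀ m, deg m < k → s k m = s j m := by
    intro k j hkj
    induction j, hkj using Nat.le_induction with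
    | base => exact fun m _ => rfl
    | succ j hkj ih => intro m hm; rw [ih m hm]; exact h1 j m (lt_of_lt_of_le hm hkj)
  let F : α → M := fun m => s (deg m + 1) m
  have hF : ∀ k, ∀ m, deg m < k → F m = s k m := by
    intro k m hm
    exact h2 (deg m + 1) k hm m (Nat.lt_succ_self _)
  have hfix : T F = F := by
    funext m
    have := hT _ _ _ (hF (deg m)) m (Nat.lt_succ_self _)
    rw [this, ← hs]
  refine ⟨F, hfix, ?_⟩
  intro G hG
  funext m
  have key : ∀ r, ∀ m, deg m < r → G m = F m := by
    intro r
    induction r with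
    | zero => intro m hm; exact absurd hm (Nat.not_lt_zero _)
    | succ r ih =>
      have := hT r G F ih
      rwa [hG, hfix] at this
  exact key (deg m + 1) m (Nat.lt_succ_self _)

end Generic

section Family

variable {ι σ : Type*} {R : Type*} [CommRing R]

/-- componentwise agreement below degree `r` -/
def AgreeBelowF (r : ℕ) (A B : ι → MvPowerSeries σ R) : Prop := ∀ i, AgreeBelow r (A i) (B i)

theorem existsUnique_fixed_family (T : (ι → MvPowerSeries σ R) → (ι → MvPowerSeries σ R))
    (hT : ∀ r A B, AgreeBelowF r A B → AgreeBelowF (r + 1) (T A) (T B)) : ∃! F, T F = F := by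
  -- transport along uncurrying
  let e : (ι → MvPowerSeries σ R) ≃ (ι × (σ →₀ ℕ) → R) :=
    { toFun := fun A p => A p.1 p.2
      invFun := fun B i m => B (i, m)
      left_inv := fun A => rfl
      right_inv := fun B => by funext p; rfl }
  haveI : Inhabited R := ⟨0⟩
  have h := existsUnique_fixed_gen (α := ι × (σ →₀ ℕ)) (M := R) (fun p => p.2.degree)
    (fun B => e (T (e.symm B))) (by
      intro r A B hAB p hp
      exact hT r (e.symm A) (e.symm B) (fun i m hm => hAB (i, m) hm) p.1 p.2 hp)
  obtain ⟨F, hF, huniq⟩ := h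
  refine ⟨e.symm F, ?_, ?_⟩
  · have := congrArg e.symm hF
    simpa using this
  · intro G hG
    have := huniq (e G) (by show e (T (e.symm (e G))) = e G; rw [e.symm_apply_apply, hG])
    rw [← this, e.symm_apply_apply]

end Family

section Ord

variable {σ : Type*} {R : Type*} [CommRing R]

/-- all coefficients of degree `< k` vanish -/
def OrdGE (k : ℕ) (f : MvPowerSeries σ R) : Prop := ∀ m : σ →₀ ℕ, m.degree < k → coeff m f = 0

lemma ordGE_iff {k : ℕ} {f : MvPowerSeries σ R} : OrdGE k f ↔ (k : ℕ∞) ≤ f.order := by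
  constructor
  · intro h; exact nat_le_order h
  · intro h m hm
    exact coeff_of_lt_order (lt_of_lt_of_le (by exact_mod_cast hm) h)

lemma OrdGE.mono {k l : ℕ} (h : l ≤ k) {f : MvPowerSeries σ R} (hf : OrdGE k f) : OrdGE l f :=
  fun m hm => hf m (lt_of_lt_of_le hm h)

lemma ordGE_zero' (k : ℕ) : OrdGE k (0 : MvPowerSeries σ R) := fun _ _ => map_zero _

lemma ordGE_zero_left (f : MvPowerSeries σ R) : OrdGE 0 f := fun _ hm => absurd hm (Nat.not_lt_zero _)

lemma OrdGE.add {k : ℕ} {f g : MvPowerSeries σ R} (hf : OrdGE k f) (hg : OrdGE k g) :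
    OrdGE k (f + g) := fun m hm => by rw [map_add, hf m hm, hg m hm, add_zero]

lemma OrdGE.sub {k : ℕ} {f g : MvPowerSeries σ R} (hf : OrdGE k f) (hg : OrdGE k g) :
    OrdGE k (f - g) := fun m hm => by rw [map_sub, hf m hm, hg m hm, sub_zero]

lemma OrdGE.neg {k : ℕ} {f : MvPowerSeries σ R} (hf : OrdGE k f) :
    OrdGE k (-f) := fun m hm => by rw [map_neg, hf m hm, neg_zero]

lemma OrdGE.smul {k : ℕ} {f : MvPowerSeries σ R} (c : R) (hf : OrdGE k f) :
    OrdGE k (c • f) := fun m hm => by rw [map_smul, hf m hm, smul_zero]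

lemma OrdGE.sum {ι : Type*} {k : ℕ} (s : Finset ι) {f : ι → MvPowerSeries σ R}
    (hf : ∀ i ∈ s, OrdGE k (f i)) : OrdGE k (∑ i ∈ s, f i) := fun m hm => by
  rw [map_sum]; exact Finset.sum_eq_zero fun i hi => hf i hi m hm

lemma OrdGE.mul {k l : ℕ} {f g : MvPowerSeries σ R} (hf : OrdGE k f) (hg : OrdGE l g) :
    OrdGE (k + l) (f * g) := by
  rw [ordGE_iff] at *
  push_cast
  exact le_trans (add_le_add hf hg) le_order_mul

lemma ordGE_one_iff {f : MvPowerSeries σ R} : OrdGE 1 f ↔ constantCoeff f = 0 := by
  rw [ordGE_iff, Nat.cast_one, one_le_order_iff_constCoeff_eq_zero]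

lemma OrdGE.pow {k : ℕ} {f : MvPowerSeries σ R} (hf : OrdGE k f) (n : ℕ) : OrdGE (n * k) (f ^ n) := by
  induction n with
  | zero => rw [Nat.zero_mul]; exact ordGE_zero_left _
  | succ n ih => rw [pow_succ, Nat.succ_mul]; exact ih.mul hf

lemma agreeBelow_iff_ordGE {r : ℕ} {A B : MvPowerSeries σ R} :
    AgreeBelow r A B ↔ OrdGE r (A - B) := by
  constructor
  · intro h m hm; rw [map_sub, h m hm, sub_self]
  · intro h m hm; have := h m hm; rwa [map_sub, sub_eq_zero] at this

/-- difference of powers -/
lemma ordGE_pow_sub_pow {r : ℕ} {x y : MvPowerSeries σ R} (hx : OrdGE 1 x) (hy : OrdGE 1 y)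
    (hxy : OrdGE r (x - y)) (k : ℕ) : OrdGE (r + k - 1) (x ^ k - y ^ k) := by
  rcases Nat.eq_zero_or_pos k with rfl | hk
  · simp only [pow_zero, sub_self]; exact ordGE_zero' _
  rw [← Commute.geom_sum₂_mul (Commute.all x y) k]
  have hS : OrdGE (k - 1) (∑ i ∈ Finset.range k, x ^ i * y ^ (k - 1 - i)) := by
    apply OrdGE.sum
    intro i hi
    rw [Finset.mem_range] at hi
    have h1 := (hx.pow i).mul (hy.pow (k - 1 - i))
    refine h1.mono ?_
    rw [Nat.mul_one, Nat.mul_one]; omega
  refine (hS.mul hxy).mono ?_
  omega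

/-- difference of finite products -/
lemma ordGE_prod_sub_prod {ι : Type*} [DecidableEq ι] {r : ℕ} (S : Finset ι) (n : ι → ℕ)
    (u v : ι → MvPowerSeries σ R)
    (hu : ∀ s ∈ S, OrdGE (n s) (u s)) (hv : ∀ s ∈ S, OrdGE (n s) (v s))
    (huv : ∀ s ∈ S, OrdGE (r + n s - 1) (u s - v s)) :
    OrdGE (∑ s ∈ S, n s) (∏ s ∈ S, u s) ∧
    OrdGE (r + ∑ s ∈ S, n s - 1) (∏ s ∈ S, u s - ∏ s ∈ S, v s) := by
  induction S using Finset.induction_on with
  | empty =>
    simp only [Finset.sum_empty, Finset.prod_empty, sub_self]
    exact ⟨ordGE_zero_left _, ordGE_zero' _⟩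
  | insert a S ha ih =>
    have ih' := ih (fun s hs => hu s (Finset.mem_insert_of_mem hs))
      (fun s hs => hv s (Finset.mem_insert_of_mem hs))
      (fun s hs => huv s (Finset.mem_insert_of_mem hs))
    rw [Finset.sum_insert ha, Finset.prod_insert ha, Finset.prod_insert ha]
    refine ⟨(hu a (Finset.mem_insert_self _ _)).mul ih'.1, ?_⟩
    have heq : u a * ∏ s ∈ S, u s - v a * ∏ s ∈ S, v s =
        (u a - v a) * ∏ s ∈ S, u s + v a * (∏ s ∈ S, u s - ∏ s ∈ S, v s) := by ring
    rw [heq]
    refine OrdGE.add (((huv a (Finset.mem_insert_self _ _)).mul ih'.1).mono (by omega))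
      (((hv a (Finset.mem_insert_self _ _)).mul ih'.2).mono (by omega))

end Ord

section Perturb

variable {σ τ : Type*} {R : Type*} [CommRing R]

lemma ordGE_prod_fam {a : σ → MvPowerSeries τ R} (ha0 : ∀ s, constantCoeff (a s) = 0)
    (d : σ →₀ ℕ) : OrdGE d.degree (d.prod fun s k => a s ^ k) :=
  ordGE_iff.mpr (degree_le_order_prod ha0 d)

lemma ordGE_prod_sub_prod_fam {r : ℕ} {a b : σ → MvPowerSeries τ R}
    (ha0 : ∀ s, constantCoeff (a s) = 0) (hb0 : ∀ s, constantCoeff (b s) = 0)
    (hab : ∀ s, OrdGE r (a s - b s)) (d : σ →₀ ℕ) :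
    OrdGE (r + d.degree - 1) ((d.prod fun s k => a s ^ k) - (d.prod fun s k => b s ^ k)) := by
  classical
  rw [Finsupp.prod, Finsupp.prod, Finsupp.degree_apply]
  refine (ordGE_prod_sub_prod d.support (fun s => d s) (fun s => a s ^ d s) (fun s => b s ^ d s)
    (fun s _ => ?_) (fun s _ => ?_) (fun s _ => ?_)).2
  · have := (ordGE_one_iff.mpr (ha0 s)).pow (d s); rwa [Nat.mul_one] at this
  · have := (ordGE_one_iff.mpr (hb0 s)).pow (d s); rwa [Nat.mul_one] at this
  · exact ordGE_pow_sub_pow (ordGE_one_iff.mpr (ha0 s)) (ordGE_one_iff.mpr (hb0 s)) (hab s) (d s)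

/-- perturbation lemma: substituting two families agreeing below degree `r` into a series of
order `≥ k` gives results agreeing below degree `r + k - 1` -/
theorem ordGE_subst_sub_subst [Finite σ] {r k : ℕ} {a b : σ → MvPowerSeries τ R}
    (ha0 : ∀ s, constantCoeff (a s) = 0) (hb0 : ∀ s, constantCoeff (b s) = 0)
    (hab : ∀ s, OrdGE r (a s - b s)) {G : MvPowerSeries σ R} (hG : OrdGE k G) :
    OrdGE (r + k - 1) (subst a G - subst b G) := by
  intro e he
  rw [map_sub, coeff_subst (hasSubst_of_constantCoeff_zero ha0),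
    coeff_subst (hasSubst_of_constantCoeff_zero hb0), sub_eq_zero]
  apply finsum_congr
  intro d
  by_cases hd : d.degree < k
  · rw [hG d hd, zero_smul, zero_smul]
  · have := ordGE_prod_sub_prod_fam ha0 hb0 hab d e (by omega)
    rw [map_sub, sub_eq_zero] at this
    rw [this]

end Perturb

section Div

variable {σ : Type*} {R : Type*} [CommRing R]

open Classical in
/-- a chosen variable occurring in a monomial -/
noncomputable def pick (m : σ →₀ ℕ) : Option σ :=
  if h : m.support.Nonempty then some h.choose else none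

lemma pick_mem {m : σ →₀ ℕ} {i : σ} (h : pick m = some i) : i ∈ m.support := by
  unfold pick at h
  split_ifs at h with hm
  · have := hm.choose_spec
    rw [Option.some.injEq] at h
    rwa [h] at this

lemma pick_ne_none {m : σ →₀ ℕ} (hm : m ≠ 0) : ∃ i, pick m = some i := by
  unfold pick
  have : m.support.Nonempty := Finsupp.support_nonempty_iff.mpr hm
  rw [dif_pos this]
  exact ⟨_, rfl⟩

open Classical in
/-- the part of `T` divisible by `X i` according to the choice `pick`, divided by `X i` -/
noncomputable def divX (i : σ) (T : MvPowerSeries σ R) : MvPowerSeries σ R :=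
  fun k => if pick (k + Finsupp.single i 1) = some i then coeff (k + Finsupp.single i 1) T else 0

open Classical in
lemma coeff_divX (i : σ) (T : MvPowerSeries σ R) (k : σ →₀ ℕ) :
    coeff k (divX i T) =
      if pick (k + Finsupp.single i 1) = some i then coeff (k + Finsupp.single i 1) T else 0 := rfl

lemma ordGE_divX {N : ℕ} {T : MvPowerSeries σ R} (hT : OrdGE (N + 1) T) (i : σ) :
    OrdGE N (divX i T) := by
  classical
  intro k hk
  rw [coeff_divX]
  split_ifs
  · apply hT
    rw [map_add, Finsupp.degree_single]; omega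
  · rfl

lemma agreeBelow_divX {r : ℕ} {T T' : MvPowerSeries σ R} (h : AgreeBelow (r + 1) T T') (i : σ) :
    AgreeBelow r (divX i T) (divX i T') := by
  classical
  intro k hk
  rw [coeff_divX, coeff_divX]
  split_ifs
  · apply h
    rw [map_add, Finsupp.degree_single]; omega
  · rfl

theorem eq_sum_X_mul_divX [Fintype σ] {T : MvPowerSeries σ R} (hT : constantCoeff T = 0) :
    T = ∑ i, X i * divX i T := by
  classical
  ext m
  rw [map_sum]
  have hterm : ∀ i : σ, coeff m (X i * divX i T) =
      if pick m = some i then coeff m T else 0 := by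
    intro i
    rw [X, coeff_monomial_mul, one_mul]
    by_cases hle : Finsupp.single i 1 ≤ m
    · rw [if_pos hle, coeff_divX, tsub_add_cancel_of_le hle]
    · rw [if_neg hle, if_neg]
      intro hp
      apply hle
      have := pick_mem hp
      rw [Finsupp.mem_support_iff] at this
      rw [Finsupp.single_le_iff]
      omega
  simp only [hterm]
  by_cases hm : m = 0
  · subst hm
    rw [coeff_zero_eq_constantCoeff_apply, hT]
    symm
    apply Finset.sum_eq_zero
    intro i _
    split_ifs <;> rfl
  · obtain ⟨j, hj⟩ := pick_ne_none hm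
    rw [Finset.sum_eq_single j]
    · rw [if_pos hj]
    · intro i _ hij
      rw [if_neg]
      rw [hj]
      intro h
      exact hij (Option.some.inj h).symm
    · intro h; exact absurd (Finset.mem_univ j) h

end Div

section Cont

variable {σ : Type*} [Fintype σ] {R : Type*} [CommRing R]

/-- an algebra endomorphism sending the variables to series without constant term preserves
orders -/
lemma ordGE_algHom (φ : MvPowerSeries σ R →ₐ[R] MvPowerSeries σ R)
    (h0 : ∀ i, constantCoeff (φ (X i)) = 0) :
    ∀ (N : ℕ) (T : MvPowerSeries σ R), OrdGE N T → OrdGE N (φ T) := by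
  intro N
  induction N with
  | zero => intro T _; exact ordGE_zero_left _
  | succ N ih =>
    intro T hT
    have hT0 : constantCoeff T = 0 := ordGE_one_iff.mp (hT.mono (by omega))
    rw [eq_sum_X_mul_divX hT0, map_sum]
    apply OrdGE.sum
    intro i _
    rw [map_mul, Nat.add_comm]
    exact (ordGE_one_iff.mpr (h0 i)).mul (ih _ (ordGE_divX hT i))

/-- automatic continuity: such an endomorphism is a substitution -/
theorem algHom_eq_subst (φ : MvPowerSeries σ R →ₐ[R] MvPowerSeries σ R)
    (h0 : ∀ i, constantCoeff (φ (X i)) = 0) (f : MvPowerSeries σ R) :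
    φ f = subst (fun i => φ (X i)) f := by
  have hy : HasSubst (fun i => φ (X i)) := hasSubst_of_constantCoeff_zero h0
  have h0' : ∀ i, constantCoeff ((substAlgHom (R := R) hy) (X i)) = 0 := by
    intro i; rw [substAlgHom_X]; exact h0 i
  have hpoly : ∀ P : MvPolynomial σ R, φ (P : MvPowerSeries σ R) =
      substAlgHom (R := R) hy (P : MvPowerSeries σ R) := by
    intro P
    have : φ.comp (MvPolynomial.coeToMvPowerSeries.algHom (σ := σ) R) =
        (substAlgHom (R := R) hy).comp (MvPolynomial.coeToMvPowerSeries.algHom (σ := σ) R) := by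
      apply MvPolynomial.algHom_ext
      intro i
      simp [MvPolynomial.coeToMvPowerSeries.algHom_apply]
      exact (subst_X hy i).symm
    have h2 := DFunLike.congr_fun this P
    simpa [MvPolynomial.coeToMvPowerSeries.algHom_apply] using h2
  rw [← substAlgHom_apply hy]
  ext e
  set N := e.degree + 1 with hN
  have htail : OrdGE N (f - ((truncTotal N f : MvPolynomial σ R) : MvPowerSeries σ R)) := by
    intro m hm
    rw [map_sub, MvPolynomial.coeff_coe, coeff_truncTotal _ hm, sub_self]
  have h1 := ordGE_algHom φ h0 N _ htail e (by omega)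
  have h2 := ordGE_algHom (substAlgHom (R := R) hy) h0' N _ htail e (by omega)
  rw [map_sub, map_sub, sub_eq_zero] at h1 h2
  rw [h1, h2, hpoly]

end Cont

section IFT

variable {σ : Type*} [Fintype σ] [DecidableEq σ] {R : Type*} [CommRing R]

/-- the Jacobian matrix at the origin -/
noncomputable def jac (y : σ → MvPowerSeries σ R) : Matrix σ σ R :=
  Matrix.of fun i j => coeff (Finsupp.single j 1) (y i)

omit [DecidableEq σ] in
lemma agreeBelow_sub_C {r : ℕ} {A B : MvPowerSeries σ R} (h : AgreeBelow r A B) :
    AgreeBelow r (A - C (constantCoeff A)) (B - C (constantCoeff B)) := by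
  classical
  intro m hm
  by_cases hm0 : m = 0
  · rw [hm0, coeff_zero_eq_constantCoeff_apply, coeff_zero_eq_constantCoeff_apply,
      constantCoeff_sub_C, constantCoeff_sub_C]
  · rw [map_sub, map_sub, coeff_C, coeff_C, if_neg hm0, if_neg hm0, h m hm]

theorem exists_right_inverse (y : σ → MvPowerSeries σ R) (hy0 : ∀ i, constantCoeff (y i) = 0)
    (hJ : IsUnit (jac y).det) :
    ∃ z : σ → MvPowerSeries σ R, (∀ i, constantCoeff (z i) = 0) ∧ ∀ i, subst z (y i) = X i := by
  classical
  set J := jac y with hJdef
  have hJ1 : J * J⁻¹ = 1 := Matrix.mul_nonsing_inv J hJ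
  let lin : σ → MvPowerSeries σ R := fun i => ∑ j, J i j • X j
  let h : σ → MvPowerSeries σ R := fun i => y i - lin i
  have hh : ∀ i, OrdGE 2 (h i) := by
    intro i m hm
    show coeff m (y i - ∑ j, J i j • X j) = 0
    rw [map_sub, map_sum]
    rcases Nat.lt_or_ge m.degree 1 with h1 | h1
    · have : m = 0 := (Finsupp.degree_eq_zero_iff m).mp (by omega)
      subst this
      rw [coeff_zero_eq_constantCoeff_apply, hy0, zero_sub, neg_eq_zero]
      apply Finset.sum_eq_zero
      intro j _
      rw [map_smul, coeff_zero_eq_constantCoeff_apply, constantCoeff_X, smul_zero]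
    · have hm1 : m.degree = 1 := by omega
      have : m ∈ Set.range (fun a : σ => Finsupp.single a 1) := by
        rw [Finsupp.range_single_one]; exact hm1
      obtain ⟨k, rfl⟩ := this
      rw [Finset.sum_eq_single k]
      · rw [map_smul, coeff_X, if_pos rfl, smul_eq_mul, mul_one]
        show coeff (Finsupp.single k 1) (y i) - coeff (Finsupp.single k 1) (y i) = 0
        rw [sub_self]
      · intro j _ hjk
        rw [map_smul, coeff_X, if_neg, smul_zero]
        intro hs
        exact hjk ((Finsupp.single_left_injective one_ne_zero) hs).symm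
      · intro hk; exact absurd (Finset.mem_univ k) hk
  have hh0 : ∀ i, constantCoeff (h i) = 0 := fun i => ordGE_one_iff.mp ((hh i).mono (by omega))
  let T : (σ → MvPowerSeries σ R) → (σ → MvPowerSeries σ R) := fun z k =>
    ∑ i, J⁻¹ k i • (X i - subst (fun s => z s - C (constantCoeff (z s))) (h i))
  have hT : ∀ r A B, AgreeBelowF r A B → AgreeBelowF (r + 1) (T A) (T B) := by
    intro r A B hAB k
    rw [agreeBelow_iff_ordGE]
    show OrdGE (r + 1) ((∑ i, J⁻¹ k i • (X i - subst (fun s => A s - C (constantCoeff (A s))) (h i)))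
      - ∑ i, J⁻¹ k i • (X i - subst (fun s => B s - C (constantCoeff (B s))) (h i)))
    rw [← Finset.sum_sub_distrib]
    apply OrdGE.sum
    intro i _
    rw [← smul_sub]
    apply OrdGE.smul
    have hkey := ordGE_subst_sub_subst (r := r) (k := 2)
      (a := fun s => A s - C (constantCoeff (A s))) (b := fun s => B s - C (constantCoeff (B s)))
      (fun s => constantCoeff_sub_C _) (fun s => constantCoeff_sub_C _)
      (fun s => agreeBelow_iff_ordGE.mp (agreeBelow_sub_C (hAB s))) (hh i)
    have : (X i - subst (fun s => A s - C (constantCoeff (A s))) (h i)) -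
        (X i - subst (fun s => B s - C (constantCoeff (B s))) (h i)) =
        -(subst (fun s => A s - C (constantCoeff (A s))) (h i) -
          subst (fun s => B s - C (constantCoeff (B s))) (h i)) := by ring
    rw [this]
    exact hkey.neg.mono (by omega)
  obtain ⟨z, hz, _⟩ := existsUnique_fixed_family T hT
  have hz0 : ∀ k, constantCoeff (z k) = 0 := by
    intro k
    have hk : z k = T z k := (congrFun hz k).symm
    rw [hk]
    show constantCoeff (∑ i, J⁻¹ k i • (X i - subst (fun s => z s - C (constantCoeff (z s))) (h i))) = 0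
    rw [map_sum]
    apply Finset.sum_eq_zero
    intro i _
    rw [← coeff_zero_eq_constantCoeff_apply, map_smul, map_sub, coeff_zero_eq_constantCoeff_apply,
      coeff_zero_eq_constantCoeff_apply, constantCoeff_X,
      constantCoeff_subst_zero' (fun s => constantCoeff_sub_C _) (hh0 i), sub_zero, smul_zero]
  have hzz : (fun s => z s - C (constantCoeff (z s))) = z := by
    funext s; rw [hz0, map_zero, sub_zero]
  have hzS : HasSubst z := hasSubst_of_constantCoeff_zero hz0
  refine ⟨z, hz0, ?_⟩
  intro i
  have hyi : y i = lin i + h i := by show y i = lin i + (y i - lin i); ring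
  have hlin : subst z (lin i) = ∑ j, J i j • z j := by
    show subst z (∑ j, J i j • X j) = _
    rw [← substAlgHom_apply hzS, map_sum]
    refine Finset.sum_congr rfl fun j _ => ?_
    rw [map_smul, substAlgHom_X]
  have hzk : ∀ k, z k = ∑ i', J⁻¹ k i' • (X i' - subst z (h i')) := by
    intro k
    have hk : z k = T z k := (congrFun hz k).symm
    rw [hk]
    show (∑ i', J⁻¹ k i' • (X i' - subst (fun s => z s - C (constantCoeff (z s))) (h i'))) = _
    rw [hzz]
  rw [hyi, subst_add hzS, hlin]
  have hsum : ∑ j, J i j • z j = X i - subst z (h i) := by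
    calc ∑ j, J i j • z j
        = ∑ j, J i j • ∑ i', J⁻¹ j i' • (X i' - subst z (h i')) := by
          refine Finset.sum_congr rfl fun j _ => ?_
          rw [← hzk j]
      _ = ∑ i', (∑ j, J i j * J⁻¹ j i') • (X i' - subst z (h i')) := by
          simp_rw [Finset.smul_sum, smul_smul]
          rw [Finset.sum_comm]
          refine Finset.sum_congr rfl fun i' _ => ?_
          rw [Finset.sum_smul]
      _ = ∑ i', (1 : Matrix σ σ R) i i' • (X i' - subst z (h i')) := by
          refine Finset.sum_congr rfl fun i' _ => ?_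
          rw [← hJ1, Matrix.mul_apply]
      _ = X i - subst z (h i) := by
          rw [Finset.sum_eq_single i]
          · rw [Matrix.one_apply_eq, one_smul]
          · intro i' _ hi'
            rw [Matrix.one_apply_ne hi'.symm, zero_smul]
          · intro hi; exact absurd (Finset.mem_univ i) hi
  rw [hsum]; ring

end IFT

section IFT2

variable {σ : Type*} [Fintype σ] [DecidableEq σ] {R : Type*} [CommRing R]

lemma jac_subst (y z : σ → MvPowerSeries σ R) (hz0 : ∀ i, constantCoeff (z i) = 0) :
    jac (fun i => subst z (y i)) = jac y * jac z := by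
  ext i k
  rw [Matrix.mul_apply]
  show coeff (Finsupp.single k 1) (subst z (y i)) = _
  rw [coeff_single_subst hz0]
  rfl

lemma jac_X : jac (fun i : σ => (X i : MvPowerSeries σ R)) = 1 := by
  ext i j
  show coeff (Finsupp.single j 1) (X i : MvPowerSeries σ R) = _
  rw [coeff_X, Matrix.one_apply]
  by_cases h : i = j
  · subst h; rw [if_pos rfl, if_pos rfl]
  · rw [if_neg h, if_neg]
    intro hs
    exact h ((Finsupp.single_left_injective one_ne_zero) hs).symm

theorem exists_inverse (y : σ → MvPowerSeries σ R) (hy0 : ∀ i, constantCoeff (y i) = 0)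
    (hJ : IsUnit (jac y).det) :
    ∃ z : σ → MvPowerSeries σ R, (∀ i, constantCoeff (z i) = 0) ∧
      (∀ i, subst z (y i) = X i) ∧ (∀ i, subst y (z i) = X i) := by
  obtain ⟨z, hz0, hz⟩ := exists_right_inverse y hy0 hJ
  have hjz : jac y * jac z = 1 := by
    rw [← jac_subst y z hz0, ← jac_X]
    congr 1
    funext i
    exact hz i
  have hJz : IsUnit (jac z).det := by
    have := congrArg Matrix.det hjz
    rw [Matrix.det_mul, Matrix.det_one] at this
    exact IsUnit.of_mul_eq_one _ (by rw [mul_comm]; exact this)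
  obtain ⟨w, hw0, hw⟩ := exists_right_inverse z hz0 hJz
  have hzS : HasSubst z := hasSubst_of_constantCoeff_zero hz0
  have hwS : HasSubst w := hasSubst_of_constantCoeff_zero hw0
  have hwy : w = y := by
    funext i
    have h1 : subst w (subst z (y i)) = w i := by rw [hz i, subst_X hwS]
    rw [subst_comp_subst_apply hzS hwS] at h1
    have h2 : (fun s => subst w (z s)) = (X : σ → MvPowerSeries σ R) := funext hw
    rw [h2, subst_self] at h1
    exact h1.symm
  refine ⟨z, hz0, hz, ?_⟩
  intro i
  rw [← hwy]
  exact hw i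

theorem subst_bijective (y : σ → MvPowerSeries σ R) (hy0 : ∀ i, constantCoeff (y i) = 0)
    (hJ : IsUnit (jac y).det) :
    Function.Bijective (subst y : MvPowerSeries σ R → MvPowerSeries σ R) := by
  obtain ⟨z, hz0, hz, hz'⟩ := exists_inverse y hy0 hJ
  have hzS : HasSubst z := hasSubst_of_constantCoeff_zero hz0
  have hyS : HasSubst y := hasSubst_of_constantCoeff_zero hy0
  have h1 : ∀ f : MvPowerSeries σ R, subst z (subst y f) = f := by
    intro f
    rw [subst_comp_subst_apply hyS hzS]
    have h2 : (fun s => subst z (y s)) = (X : σ → MvPowerSeries σ R) := funext hz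
    rw [h2, subst_self]; rfl
  have h2 : ∀ f : MvPowerSeries σ R, subst y (subst z f) = f := by
    intro f
    rw [subst_comp_subst_apply hzS hyS]
    have h2 : (fun s => subst y (z s)) = (X : σ → MvPowerSeries σ R) := funext hz'
    rw [h2, subst_self]; rfl
  exact ⟨Function.LeftInverse.injective h1, Function.RightInverse.surjective h2⟩

theorem algHom_bijective (φ : MvPowerSeries σ R →ₐ[R] MvPowerSeries σ R)
    (h0 : ∀ i, constantCoeff (φ (X i)) = 0)
    (hJ : IsUnit (Matrix.det (Matrix.of fun i j : σ =>
      coeff (Finsupp.single j 1) (φ (X i))))) :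
    Function.Bijective φ := by
  have : (φ : MvPowerSeries σ R → MvPowerSeries σ R) = subst (fun i => φ (X i)) :=
    funext (algHom_eq_subst φ h0)
  rw [this]
  exact subst_bijective _ h0 hJ

end IFT2

end Groth.Agent.Lib.Helper20.IFT
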