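import Groth.Agent.Lib.Helper20.InvFun
import Mathlib.RingTheory.MvPowerSeries.Inverse
import Mathlib.RingTheory.AdicCompletion.Basic

/-!
# Applications of the formal inverse function theorem (helper20)
-/

set_option autoImplicit false

namespace Groth.Agent.Lib.Helper20.IFT

open MvPowerSeries Finsupp Groth.Agent.Lib.Helper20.LT

section Apps

variable {σ : Type*} {R : Type*} [CommRing R]

lemma coeff_single_mul (a b : MvPowerSeries σ R) (k : σ) :
    coeff (Finsupp.single k 1) (a * b) =
      constantCoeff a * coeff (Finsupp.single k 1) b +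
        coeff (Finsupp.single k 1) a * constantCoeff b := by
  classical
  rw [coeff_mul, Finsupp.antidiagonal_single, Finset.sum_map]
  simp [Finset.Nat.antidiagonal_succ]

lemma coeff_single_sum_mul [Fintype σ] [DecidableEq σ] (a y : σ → MvPowerSeries σ R)
    (hy0 : ∀ i, constantCoeff (y i) = 0) (k : σ) :
    coeff (Finsupp.single k 1) (∑ i, a i * y i) = ∑ i, constantCoeff (a i) * jac y i k := by
  rw [map_sum]
  refine Finset.sum_congr rfl fun i _ => ?_
  rw [coeff_single_mul, hy0, mul_zero, add_zero]
  rfl

theorem subst_bijective_of_span_eq_maximalIdeal (K : Type*) [Field K] (n : ℕ)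
    (y : Fin n → MvPowerSeries (Fin n) K)
    (hy : Ideal.span (Set.range y) = IsLocalRing.maximalIdeal (MvPowerSeries (Fin n) K)) :
    Function.Bijective (MvPowerSeries.subst y :
      MvPowerSeries (Fin n) K → MvPowerSeries (Fin n) K) := by
  classical
  have hy0 : ∀ i, constantCoeff (y i) = 0 := by
    intro i
    have hmem : y i ∈ IsLocalRing.maximalIdeal (MvPowerSeries (Fin n) K) := by
      rw [← hy]; exact Ideal.subset_span ⟨i, rfl⟩
    rw [IsLocalRing.mem_maximalIdeal, mem_nonunits_iff, isUnit_iff_constantCoeff,
      isUnit_iff_ne_zero, not_not] at hmem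
    exact hmem
  have hX : ∀ j : Fin n, ∃ a : Fin n → MvPowerSeries (Fin n) K, ∑ i, a i * y i = X j := by
    intro j
    have hmem : (X j : MvPowerSeries (Fin n) K) ∈
        IsLocalRing.maximalIdeal (MvPowerSeries (Fin n) K) := by
      rw [IsLocalRing.mem_maximalIdeal, mem_nonunits_iff, isUnit_iff_constantCoeff,
        constantCoeff_X]
      exact not_isUnit_zero
    rw [← hy] at hmem
    exact (Ideal.mem_span_range_iff_exists_fun).mp hmem
  choose a ha using hX
  have hmat : (Matrix.of fun j i => constantCoeff (a j i)) * jac y = 1 := by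
    ext j k
    rw [Matrix.mul_apply]
    have := coeff_single_sum_mul (a j) y hy0 k
    rw [ha j] at this
    simp only [Matrix.of_apply]
    rw [← this, coeff_X, Matrix.one_apply]
    by_cases h : j = k
    · subst h; rw [if_pos rfl, if_pos rfl]
    · rw [if_neg h, if_neg]
      intro hs
      exact h ((Finsupp.single_left_injective one_ne_zero) hs).symm
  have hJ : IsUnit (jac y).det := by
    have := congrArg Matrix.det hmat
    rw [Matrix.det_mul, Matrix.det_one] at this
    exact IsUnit.of_mul_eq_one _ (by rw [mul_comm]; exact this)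
  exact subst_bijective y hy0 hJ

theorem subst_bijective_cohenRing (Λ : Type*) [CommRing Λ] [IsDomain Λ]
    [IsDiscreteValuationRing Λ] (p : ℕ)
    (hm : IsLocalRing.maximalIdeal Λ = Ideal.span {(p : Λ)}) (n : ℕ)
    (y : Fin n → MvPowerSeries (Fin n) Λ) (hy0 : ∀ i, MvPowerSeries.constantCoeff (y i) = 0)
    (hy : Ideal.span (insert (p : MvPowerSeries (Fin n) Λ) (Set.range y)) =
      IsLocalRing.maximalIdeal (MvPowerSeries (Fin n) Λ)) :
    Function.Bijective (MvPowerSeries.subst y :
      MvPowerSeries (Fin n) Λ → MvPowerSeries (Fin n) Λ) := by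
  classical
  have hp : IsLocalRing.residue Λ (p : Λ) = 0 := by
    rw [IsLocalRing.residue_eq_zero_iff, hm]
    exact Ideal.mem_span_singleton_self _
  have hX : ∀ j : Fin n, ∃ (c : MvPowerSeries (Fin n) Λ) (a : Fin n → MvPowerSeries (Fin n) Λ),
      X j = c * (p : MvPowerSeries (Fin n) Λ) + ∑ i, a i * y i := by
    intro j
    have hmem : (X j : MvPowerSeries (Fin n) Λ) ∈
        IsLocalRing.maximalIdeal (MvPowerSeries (Fin n) Λ) := by
      rw [IsLocalRing.mem_maximalIdeal, mem_nonunits_iff, isUnit_iff_constantCoeff,
        constantCoeff_X]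
      exact not_isUnit_zero
    rw [← hy, Ideal.mem_span_insert] at hmem
    obtain ⟨c, z, hz, hxz⟩ := hmem
    obtain ⟨a, ha⟩ := (Ideal.mem_span_range_iff_exists_fun).mp hz
    exact ⟨c, a, by rw [hxz, ha]⟩
  choose c a ha using hX
  have hpC : (p : MvPowerSeries (Fin n) Λ) = C (p : Λ) := (map_natCast C p).symm
  have hentry : ∀ j k, (∑ i, constantCoeff (a j i) * jac y i k) =
      (1 : Matrix (Fin n) (Fin n) Λ) j k - coeff (Finsupp.single k 1) (c j) * (p : Λ) := by
    intro j k
    have h1 := congrArg (coeff (Finsupp.single k 1)) (ha j)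
    rw [map_add, coeff_single_sum_mul (a j) y hy0 k, coeff_single_mul, hpC, constantCoeff_C,
      coeff_C, if_neg (by simp), mul_zero, zero_add, coeff_X] at h1
    rw [Matrix.one_apply]
    have h2 : (if Finsupp.single k 1 = Finsupp.single j 1 then (1 : Λ) else 0) =
        if j = k then 1 else 0 := by
      by_cases h : j = k
      · subst h; rw [if_pos rfl, if_pos rfl]
      · rw [if_neg h, if_neg]
        intro hs
        exact h ((Finsupp.single_left_injective one_ne_zero) hs).symm
    rw [h2] at h1
    rw [h1]; ring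
  have hdet : IsUnit ((Matrix.of fun j i => constantCoeff (a j i)) * jac y).det := by
    rw [← IsLocalRing.residue_ne_zero_iff_isUnit, RingHom.map_det]
    have : (IsLocalRing.residue Λ).mapMatrix
        ((Matrix.of fun j i => constantCoeff (a j i)) * jac y) = 1 := by
      ext j k
      rw [RingHom.mapMatrix_apply, Matrix.map_apply, Matrix.mul_apply]
      simp only [Matrix.of_apply]
      rw [hentry j k, map_sub, map_mul, hp, mul_zero, sub_zero, Matrix.one_apply, Matrix.one_apply]
      split_ifs <;> simp
    rw [this, Matrix.det_one]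
    exact one_ne_zero
  have hJ : IsUnit (jac y).det := by
    rw [Matrix.det_mul] at hdet
    exact isUnit_of_mul_isUnit_right hdet
  exact subst_bijective y hy0 hJ

end Apps

end Groth.Agent.Lib.Helper20.IFT
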