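import Mathlib

/-!
# Height-one primes of a ring of invariants with trivial residue extension are principal (helper20)

`A` a UFD with a faithful action of a finite group `G`, `B → A` injective with image `A^G`.
If `q ⊂ B` is a height one prime, `p` a prime of `A` over `q` with trivial residue field extension,
then `q` is generated by the norm of a generator of `p`.
-/

set_option autoImplicit false

namespace Groth.Agent.Lib.Helper20.InvPrincipal

universe u

open Finset

section basic

variable {A G : Type u} [CommRing A] [Group G] [MulSemiringAction G A]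

theorem smul_dvd_smul_iff (g : G) (x y : A) : g • x ∣ g • y ↔ x ∣ y := by
  have := map_dvd_iff (MulSemiringAction.toRingEquiv G A g) (a := x) (b := y)
  simpa using this

theorem smul_prime (g : G) {f : A} (hf : Prime f) : Prime (g • f) := by
  have := (MulEquiv.prime_iff (MulSemiringAction.toRingEquiv G A g) (p := f)).mpr hf
  simpa using this

theorem dvd_smul_iff (g : G) (x y : A) : x ∣ g • y ↔ g⁻¹ • x ∣ y := by
  rw [← smul_dvd_smul_iff g (g⁻¹ • x) y, smul_inv_smul]

theorem emultiplicity_smul (g : G) (x y : A) :
    emultiplicity (g • x) (g • y) = emultiplicity x y := by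
  have := emultiplicity_map_eq (MulSemiringAction.toRingEquiv G A g) (a := x) (b := y)
  simpa using this

/-- the decomposition group of the element `f`, i.e. the `g` with `g • f ~ f`. -/
def stab (f : A) : Subgroup G where
  carrier := {g | f ∣ g • f ∧ g • f ∣ f}
  one_mem' := by simp
  mul_mem' := by
    rintro g h ⟨hg1, hg2⟩ ⟨hh1, hh2⟩
    refine ⟨?_, ?_⟩
    · rw [mul_smul]
      exact hg1.trans ((smul_dvd_smul_iff g _ _).mpr hh1)
    · rw [mul_smul]
      exact ((smul_dvd_smul_iff g _ _).mpr hh2).trans hg2
  inv_mem' := by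
    rintro g ⟨hg1, hg2⟩
    refine ⟨?_, ?_⟩
    · have := (dvd_smul_iff g⁻¹ f f).mpr
      rw [inv_inv] at this
      exact this hg2
    · have := (smul_dvd_smul_iff g⁻¹ f (g • f)).mpr hg1
      rwa [inv_smul_smul] at this

theorem mem_stab_iff [IsDomain A] {f : A} (hf : Prime f) (g : G) : g ∈ stab (G := G) f ↔ f ∣ g • f := by
  refine ⟨fun h => h.1, fun h => ⟨h, ?_⟩⟩
  exact hf.irreducible.dvd_symm (smul_prime g hf).irreducible h

theorem dvd_smul_iff_of_mem_stab {f : A} {g : G} (hg : g ∈ stab (G := G) f) (x : A) :
    f ∣ g • x ↔ f ∣ x := by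
  constructor
  · intro h
    have h1 : g⁻¹ • f ∣ x := (dvd_smul_iff g f x).mp h
    have h2 : g⁻¹ ∈ stab (G := G) f := inv_mem hg
    exact h2.1.trans h1
  · intro h
    exact hg.1.trans ((smul_dvd_smul_iff g _ _).mpr h)

end basic

section dedekind

variable {A G : Type u} [CommRing A] [IsDomain A] [Group G] [MulSemiringAction G A]
  [FaithfulSMul G A]

/-- Dedekind's independence of characters, for a subgroup acting on a domain. -/
theorem dedekind (D : Subgroup G) [Fintype D] (v : D → A)
    (hv : ∀ a : A, ∑ h : D, v h * ((h : G) • a) = 0) : v = 0 := by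
  have hli := linearIndependent_monoidHom A A
  let φ : D → (A →* A) := fun h => MulDistribMulAction.toMonoidHom A (h : G)
  have hφ : Function.Injective φ := by
    intro h h' hh
    apply Subtype.ext
    apply eq_of_smul_eq_smul (α := A)
    intro a
    have := DFunLike.congr_fun hh a
    simpa [φ] using this
  have hli' := hli.comp φ hφ
  rw [Fintype.linearIndependent_iff] at hli'
  funext h
  apply hli' v
  funext a
  simp only [Function.comp_apply, Finset.sum_apply, Pi.smul_apply, smul_eq_mul, Pi.zero_apply]
  simpa [φ] using hv a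

end dedekind

section step2

variable {A B G : Type u} [CommRing A] [IsDomain A] [UniqueFactorizationMonoid A]
  [CommRing B] [Algebra B A]
  [Group G] [MulSemiringAction G A] [FaithfulSMul G A] [SMulCommClass G B A]

/-- iterating the triviality of the residue extension. -/
theorem expand {f : A}
    (hres : ∀ a : A, ∃ b c : B, ¬ f ∣ algebraMap B A c ∧
      f ∣ algebraMap B A c * a - algebraMap B A b) (hf : Prime f) (j : ℕ) (a : A) :
    ∃ (c : B) (β : ℕ → B) (a' : A), ¬ f ∣ algebraMap B A c ∧
      algebraMap B A c * a = ∑ i ∈ range j, algebraMap B A (β i) * f ^ i + f ^ j * a' := by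
  induction j with
  | zero =>
    exact ⟨1, fun _ => 0, a, by rw [map_one]; exact fun h => hf.not_isUnit (isUnit_of_dvd_one h),
      by simp⟩
  | succ j ih =>
    obtain ⟨c, β, a', hc, hexp⟩ := ih
    obtain ⟨b', c', hc', a'', ha''⟩ := hres a'
    refine ⟨c' * c, fun i => if i = j then b' else c' * β i, a'', ?_, ?_⟩
    · rw [map_mul]
      intro h
      rcases hf.dvd_or_dvd h with h | h
      · exact hc' h
      · exact hc h
    · rw [Finset.sum_range_succ]
      beta_reduce
      rw [if_pos rfl]
      have h1 : ∑ i ∈ range j, algebraMap B A (if i = j then b' else c' * β i) * f ^ i =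
          algebraMap B A c' * ∑ i ∈ range j, algebraMap B A (β i) * f ^ i := by
        rw [Finset.mul_sum]
        refine Finset.sum_congr rfl fun i hi => ?_
        rw [if_neg (Finset.mem_range.mp hi).ne, map_mul, mul_assoc]
      rw [h1, map_mul, mul_assoc, hexp]
      have h2 : algebraMap B A c' * a' = algebraMap B A b' + f * a'' := by
        rw [← ha'']; ring
      rw [mul_add, ← mul_assoc (algebraMap B A c') (f ^ j), mul_comm (algebraMap B A c') (f ^ j),
        mul_assoc, h2]
      ring

/-- **Step 2**: every element of `q` is divisible by `f ^ |D|`. -/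
theorem pow_card_dvd {f : A} (hf : Prime f)
    (hres : ∀ a : A, ∃ b c : B, ¬ f ∣ algebraMap B A c ∧
      f ∣ algebraMap B A c * a - algebraMap B A b)
    (D : Subgroup G) [Fintype D] (hD : ∀ g ∈ D, ∀ x : A, f ∣ g • x ↔ f ∣ x)
    (b : B) (hb : f ∣ algebraMap B A b) : f ^ Fintype.card D ∣ algebraMap B A b := by
  classical
  by_contra hcon
  set β₁ : A := algebraMap B A b with hβ₁
  have hβ0 : β₁ ≠ 0 := by
    intro h; apply hcon; rw [h]; exact dvd_zero _
  obtain ⟨e, a₁, ha₁, hβe⟩ := WfDvdMonoid.max_power_factor hβ0 hf.irreducible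
  set n := Fintype.card D with hn
  have hen : e < n := by
    by_contra h
    apply hcon
    rw [hβe]
    exact Dvd.dvd.mul_right (pow_dvd_pow f (not_lt.mp h)) _
  have he1 : 1 ≤ e := by
    by_contra h
    have : e = 0 := by omega
    rw [this, pow_zero, one_mul] at hβe
    exact ha₁ (hβe ▸ hb)
  have hinvβ : ∀ g : G, g • β₁ = β₁ := fun g => smul_algebraMap g b
  -- the matrix
  let φ : D ≃ Fin n := Fintype.equivFin D
  let M : Matrix D D A := fun d h => if (φ d : ℕ) < e then (h : G) • f ^ (φ d : ℕ) else 0
  have hdet : M.det = 0 := by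
    refine Matrix.det_eq_zero_of_row_eq_zero (φ.symm ⟨e, hen⟩) ?_
    intro j
    simp [M]
  obtain ⟨v, hv0, hMv⟩ := Matrix.exists_mulVec_eq_zero_iff.mpr hdet
  -- the functional Λ
  let Λ : A → A := fun a => ∑ h : D, v h * ((h : G) • a)
  have hΛadd : ∀ x y, Λ (x + y) = Λ x + Λ y := by
    intro x y
    simp only [Λ, smul_add, mul_add, Finset.sum_add_distrib]
  have hΛzero : Λ 0 = 0 := by simp [Λ]
  have hΛsum : ∀ (s : Finset ℕ) (F : ℕ → A), Λ (∑ i ∈ s, F i) = ∑ i ∈ s, Λ (F i) := by
    intro s F
    induction s using Finset.induction_on with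
    | empty => simpa using hΛzero
    | insert i s his ih => rw [Finset.sum_insert his, Finset.sum_insert his, hΛadd, ih]
  have hΛsmul : ∀ c x : A, (∀ h : D, (h : G) • c = c) → Λ (c * x) = c * Λ x := by
    intro c x hc
    simp only [Λ, smul_mul', Finset.mul_sum]
    refine Finset.sum_congr rfl fun h _ => ?_
    rw [hc h]; ring
  have hΛpow : ∀ i, i < e → Λ (f ^ i) = 0 := by
    intro i hi
    have := congrFun hMv (φ.symm ⟨i, hi.trans hen⟩)
    simp only [Matrix.mulVec, dotProduct, M, Equiv.apply_symm_apply, if_pos hi,
      Pi.zero_apply] at this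
    simp only [Λ]
    rw [← this]
    exact Finset.sum_congr rfl fun h _ => mul_comm _ _
  -- the D-norm of a₁
  set ν : A := ∏ h : D, (h : G) • a₁ with hν
  have hνinv : ∀ h : D, (h : G) • ν = ν := by
    intro h
    rw [hν, Finset.smul_prod']
    refine Fintype.prod_equiv (Equiv.mulLeft h) _ _ ?_
    intro x
    simp [mul_smul]
  set a₁' : A := ∏ h ∈ (Finset.univ : Finset D).erase 1, (h : G) • a₁ with ha₁'
  have hνa : ν = a₁ * a₁' := by
    rw [hν, ha₁', ← Finset.mul_prod_erase _ _ (Finset.mem_univ (1 : D))]
    simp
  have hνf : ¬ f ∣ ν := by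
    rw [hν]
    intro h
    obtain ⟨h₀, -, hh₀⟩ := (Prime.dvd_finsetProd_iff hf _).mp h
    exact ha₁ ((hD _ h₀.2 a₁).mp hh₀)
  -- infinite divisibility
  have claim : ∀ k : ℕ, ∀ a : A, f ^ k ∣ Λ a := by
    intro k
    induction k with
    | zero => intro a; simp
    | succ k ih =>
      intro a
      obtain ⟨c, βs, a', hc, hexp⟩ := expand hres hf e a
      have h1 : algebraMap B A c * Λ a = Λ (f ^ e * a') := by
        rw [← hΛsmul _ _ (fun h => smul_algebraMap _ c), hexp, hΛadd, hΛsum]
        rw [Finset.sum_eq_zero, zero_add]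
        intro i hi
        rw [hΛsmul _ _ (fun h => smul_algebraMap _ (βs i)), hΛpow i (Finset.mem_range.mp hi),
          mul_zero]
      have h2 : ν * Λ (f ^ e * a') = f ^ e * a₁ * Λ (a₁' * a') := by
        rw [← hΛsmul _ _ hνinv]
        have : ν * (f ^ e * a') = β₁ * (a₁' * a') := by
          rw [hνa, hβe]; ring
        rw [this, hΛsmul _ _ (fun h => hinvβ _), hβe]
      have h3 : f ^ (e + k) ∣ (ν * algebraMap B A c) * Λ a := by
        rw [mul_assoc, h1, h2, pow_add, mul_assoc]
        exact mul_dvd_mul_left _ (Dvd.dvd.mul_left (ih _) _)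
      have h4 : ¬ f ∣ ν * algebraMap B A c := by
        intro h
        rcases hf.dvd_or_dvd h with h | h
        · exact hνf h
        · exact hc h
      have h5 := hf.pow_dvd_of_dvd_mul_left (e + k) h4 h3
      exact (pow_dvd_pow f (by omega)).trans h5
  have hΛ0 : ∀ a, Λ a = 0 := by
    intro a
    by_contra hne
    obtain ⟨m, hm⟩ := FiniteMultiplicity.of_prime_left hf hne
    exact hm (claim _ a)
  exact hv0 (dedekind D v hΛ0)

end step2

section step3

variable {A G : Type u} [CommRing A] [IsDomain A] [UniqueFactorizationMonoid A]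
  [Group G] [Fintype G] [MulSemiringAction G A]

/-- the norm -/
noncomputable def norm (f : A) : A := ∏ g : G, g • f

theorem smul_norm (h : G) (f : A) : h • norm (G := G) f = norm (G := G) f := by
  rw [norm, Finset.smul_prod']
  refine Fintype.prod_equiv (Equiv.mulLeft h) _ _ ?_
  intro x
  simp [mul_smul]

theorem dvd_norm (f : A) : f ∣ norm (G := G) f := by
  have := Finset.dvd_prod_of_mem (fun g : G => g • f) (Finset.mem_univ (1 : G))
  simpa [norm] using this

theorem norm_ne_zero {f : A} (hf : f ≠ 0) : norm (G := G) f ≠ 0 := by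
  rw [norm, Finset.prod_ne_zero_iff]
  intro g _ h
  apply hf
  have := congrArg (fun x => g⁻¹ • x) h
  simpa using this

/-- **Step 3** -/
theorem norm_dvd {f : A} (hf : Prime f) [Fintype (stab (G := G) f)] (β : A)
    (hβinv : ∀ g : G, g • β = β)
    (hβ : f ^ Fintype.card (stab (G := G) f) ∣ β) : norm (G := G) f ∣ β := by
  classical
  rw [UniqueFactorizationMonoid.dvd_iff_emultiplicity_le (norm_ne_zero hf.ne_zero)]
  intro π hπ
  by_cases hex : ∃ g₀ : G, π ∣ g₀ • f
  · obtain ⟨g₀, hg₀⟩ := hex
    have hass : Associated π (g₀ • f) := hπ.associated_of_dvd (smul_prime g₀ hf) hg₀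
    rw [emultiplicity_eq_of_associated_left hass.symm (c := norm (G := G) f),
      emultiplicity_eq_of_associated_left hass.symm (c := β)]
    have e1 : emultiplicity (g₀ • f) (norm (G := G) f) = emultiplicity f (norm (G := G) f) := by
      conv_lhs => rw [← smul_norm g₀ f]
      exact emultiplicity_smul g₀ _ _
    have e2 : emultiplicity (g₀ • f) β = emultiplicity f β := by
      conv_lhs => rw [← hβinv g₀]
      exact emultiplicity_smul g₀ _ _
    rw [e1, e2]
    have e3 : emultiplicity f (norm (G := G) f) =
        ((Finset.univ.filter (fun g : G => g ∈ stab (G := G) f)).card : ℕ∞) := by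
      rw [norm, Finset.emultiplicity_prod hf]
      have : ∀ g : G, emultiplicity f (g • f) = if g ∈ stab (G := G) f then 1 else 0 := by
        intro g
        split_ifs with hg
        · have hass' : Associated f (g • f) :=
            hf.associated_of_dvd (smul_prime g hf) ((mem_stab_iff hf g).mp hg)
          rw [← emultiplicity_eq_of_associated_right hass']
          exact (FiniteMultiplicity.of_prime_left hf hf.ne_zero).emultiplicity_self
        · exact emultiplicity_eq_zero.mpr (fun h => hg ((mem_stab_iff hf g).mpr h))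
      simp_rw [this]
      rw [Finset.sum_boole]
    rw [e3]
    have e4 : (Finset.univ.filter (fun g : G => g ∈ stab (G := G) f)).card =
        Fintype.card (stab (G := G) f) := by
      rw [Fintype.card_subtype]
    rw [e4]
    exact le_emultiplicity_of_pow_dvd hβ
  · push Not at hex
    have : emultiplicity π (norm (G := G) f) = 0 := by
      rw [norm, Finset.emultiplicity_prod hπ]
      exact Finset.sum_eq_zero fun g _ => emultiplicity_eq_zero.mpr (hex g)
    rw [this]
    simp

end step3

end Groth.Agent.Lib.Helper20.InvPrincipal
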