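import Mathlib
import Groth.Agent.Lib.Helper20.InvPrincipal
import Groth.Agent.Lib.Helper20.EakinNagata
import Groth.Agent.Lib.helper11.RegularCounting

/-!
# SGA 2 X 3.4-type lemma on rings of invariants (helper20)
-/

set_option autoImplicit false

namespace Groth.Agent.Lib.Helper20.InvPrincipalMain

open Groth.Agent.Lib.Helper20.InvPrincipal IsLocalRing

universe u

variable {A B G : Type u} [CommRing A] [IsDomain A] [UniqueFactorizationMonoid A]
  [CommRing B] [Algebra B A] [FaithfulSMul B A]
  [Group G] [Finite G] [MulSemiringAction G A] [FaithfulSMul G A] [SMulCommClass G B A]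
  [Algebra.IsInvariant B A G]

omit [FaithfulSMul G A] in
include G in
/-- Step 1: `p` is generated by a prime element. -/
theorem exists_prime_generator (q : Ideal B) [q.IsPrime] (hq : q.height = 1) (p : Ideal A)
    [p.IsPrime] [p.LiesOver q] : ∃ f : A, Prime f ∧ p = Ideal.span {f} := by
  classical
  have hinj := FaithfulSMul.algebraMap_injective B A
  have : IsDomain B := hinj.isDomain _
  have : Algebra.IsIntegral B A := Algebra.IsInvariant.isIntegral B A G
  have hq0 : q ≠ ⊥ := Ideal.ne_bot_of_height_eq_one hq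
  have hqp : q = p.under B := Ideal.LiesOver.over
  have hp0 : p ≠ ⊥ := by
    intro h
    apply hq0
    rw [hqp, h, Ideal.under_def, ← RingHom.ker_eq_comap_bot]
    exact (RingHom.injective_iff_ker_eq_bot _).mp hinj
  obtain ⟨f, hfp, hf⟩ := Ideal.IsPrime.exists_mem_prime_of_ne_bot ‹p.IsPrime› hp0
  refine ⟨f, hf, ?_⟩
  set P' : Ideal A := Ideal.span {f} with hP'
  have hP'prime : P'.IsPrime := (Ideal.span_singleton_prime hf.ne_zero).mpr hf
  have hle : P' ≤ p := by rw [hP', Ideal.span_singleton_le_iff_mem]; exact hfp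
  by_contra hne
  have hlt : P' < p := lt_of_le_of_ne hle (fun h => hne h.symm)
  have hlt' : P'.comap (algebraMap B A) < p.comap (algebraMap B A) :=
    Ideal.IsIntegral.comap_lt_comap hlt
  have hlt'' : P'.comap (algebraMap B A) < q := by rwa [hqp]
  have h1 := Ideal.height_le_iff.mp (le_of_eq hq) (P'.comap (algebraMap B A)) inferInstance hlt''
  have h2 : (P'.comap (algebraMap B A)).height = 0 := by
    have : (P'.comap (algebraMap B A)).height < 1 := by exact_mod_cast h1
    exact Order.lt_one_iff.mp this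
  have h3 : P'.comap (algebraMap B A) = ⊥ := Ideal.height_eq_zero_iff_eq_bot.mp h2
  have h4 : P' = ⊥ := Ideal.eq_bot_of_comap_eq_bot h3
  rw [hP', Ideal.span_singleton_eq_bot] at h4
  exact hf.ne_zero h4

include G in
/-- **Part 1**: `q` is principal, generated by the norm of a generator of `p`. -/
theorem exists_generator (q : Ideal B) [q.IsPrime] (hq : q.height = 1) (p : Ideal A) [p.IsPrime]
    [p.LiesOver q]
    (hres : ∀ a : A, ∃ b c : B, c ∉ q ∧ algebraMap B A c * a - algebraMap B A b ∈ p) :
    ∃ b₀ : B, q = Ideal.span {b₀} := by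
  classical
  cases nonempty_fintype G
  obtain ⟨f, hf, hpf⟩ := exists_prime_generator (G := G) q hq p
  have hinj := FaithfulSMul.algebraMap_injective B A
  have hqp : q = p.under B := Ideal.LiesOver.over
  have hmemq : ∀ b : B, b ∈ q ↔ f ∣ algebraMap B A b := by
    intro b
    rw [hqp, Ideal.under_def, Ideal.mem_comap, hpf, Ideal.mem_span_singleton]
  have hres' : ∀ a : A, ∃ b c : B, ¬ f ∣ algebraMap B A c ∧
      f ∣ algebraMap B A c * a - algebraMap B A b := by
    intro a
    obtain ⟨b, c, hc, h⟩ := hres a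
    exact ⟨b, c, by rwa [← hmemq], by rwa [hpf, Ideal.mem_span_singleton] at h⟩
  have hpow : ∀ b ∈ q, f ^ Fintype.card (stab (G := G) f) ∣ algebraMap B A b := fun b hb =>
    pow_card_dvd hf hres' (stab (G := G) f) (fun g hg x => dvd_smul_iff_of_mem_stab hg x) b
      ((hmemq b).mp hb)
  obtain ⟨b₀, hb₀⟩ := Algebra.IsInvariant.isInvariant (A := B) (B := A) (G := G)
    (norm (G := G) f) (fun g => smul_norm g f)
  refine ⟨b₀, le_antisymm ?_ ?_⟩
  · intro b hb
    have hdvd : norm (G := G) f ∣ algebraMap B A b :=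
      norm_dvd hf _ (fun g => smul_algebraMap g b) (hpow b hb)
    obtain ⟨a, ha⟩ := hdvd
    have hainv : ∀ g : G, g • a = a := by
      intro g
      have : g • (algebraMap B A b) = algebraMap B A b := smul_algebraMap g b
      rw [ha, smul_mul', smul_norm] at this
      exact mul_left_cancel₀ (norm_ne_zero hf.ne_zero) this
    obtain ⟨a', ha'⟩ := Algebra.IsInvariant.isInvariant (A := B) (B := A) (G := G) a hainv
    rw [Ideal.mem_span_singleton]
    refine ⟨a', hinj ?_⟩
    rw [map_mul, hb₀, ha', ha]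
  · rw [Ideal.span_singleton_le_iff_mem, hmemq, hb₀]
    exact dvd_norm f

omit [IsDomain A] [UniqueFactorizationMonoid A] [Finite G] [FaithfulSMul G A] in
include A G in
theorem isLocalRing_B [IsLocalRing A] : IsLocalRing B := by
  have hinj := FaithfulSMul.algebraMap_injective B A
  have : IsLocalHom (algebraMap B A) := by
    refine ⟨fun b hb => ?_⟩
    obtain ⟨u, hu⟩ := hb
    have hinv : ∀ g : G, g • (↑u⁻¹ : A) = ↑u⁻¹ := by
      intro g
      have h1 : (u : A) * g • (↑u⁻¹ : A) = 1 := by
        have : g • ((u : A) * ↑u⁻¹) = 1 := by rw [Units.mul_inv, smul_one]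
        rwa [smul_mul', hu, smul_algebraMap, ← hu] at this
      calc g • (↑u⁻¹ : A) = ↑u⁻¹ * ((u : A) * g • (↑u⁻¹ : A)) := by
            rw [← mul_assoc, Units.inv_mul, one_mul]
        _ = ↑u⁻¹ := by rw [h1, mul_one]
    obtain ⟨b', hb'⟩ := Algebra.IsInvariant.isInvariant (A := B) (B := A) (G := G) _ hinv
    refine IsUnit.of_mul_eq_one b' (hinj ?_)
    rw [map_mul, hb', ← hu, map_one, Units.mul_inv]
  exact (algebraMap B A).domain_isLocalRing

omit [IsDomain A] [UniqueFactorizationMonoid A] [Finite G] [FaithfulSMul G A] in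
include A G in
/-- **Part 2**: if `B ⧸ q` is regular, so is `B`. -/
theorem regular [IsNoetherianRing A] [IsLocalRing A] [Module.Finite B A] (q : Ideal B) [q.IsPrime]
    (hq : q.height = 1) (b₀ : B) (hb₀ : q = Ideal.span {b₀}) (hreg : IsRegularLocalRing (B ⧸ q)) :
    IsRegularLocalRing B := by
  have : IsLocalRing B := isLocalRing_B (G := G) (A := A)
  have : IsNoetherianRing B :=
    EakinNagata.isNoetherianRing_of_finite B A (FaithfulSMul.algebraMap_injective B A)
  have hspan : (q.spanFinrank : ℕ∞) ≤ q.height := by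
    rw [hq]
    have := Submodule.spanFinrank_span_le_ncard_of_finite (R := B) (Set.finite_singleton b₀)
    rw [Set.ncard_singleton] at this
    have h' : q.spanFinrank ≤ 1 := by rw [hb₀]; exact this
    exact_mod_cast h'
  apply IsRegularLocalRing.of_spanFinrank_maximalIdeal_le
  have h1 := Groth.Agent.Lib.helper11.RegularCounting.spanFinrank_maximalIdeal_le_add q
  have h2 := Groth.Agent.Lib.helper11.RegularCounting.height_add_ringKrullDim_quotient_le q
  have h3 : ((maximalIdeal (B ⧸ q)).spanFinrank : WithBot ℕ∞) = ringKrullDim (B ⧸ q) :=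
    IsRegularLocalRing.spanFinrank_maximalIdeal
  calc ((maximalIdeal B).spanFinrank : WithBot ℕ∞)
      ≤ ((q.spanFinrank + (maximalIdeal (B ⧸ q)).spanFinrank : ℕ) : WithBot ℕ∞) := by
        exact_mod_cast h1
    _ = ((q.spanFinrank : ℕ∞) : WithBot ℕ∞) +
          ((maximalIdeal (B ⧸ q)).spanFinrank : WithBot ℕ∞) := by
        push_cast; rfl
    _ ≤ ((q.height : ℕ∞) : WithBot ℕ∞) + ringKrullDim (B ⧸ q) := by
        rw [h3]
        exact add_le_add_left (WithBot.coe_le_coe.mpr hspan) _
    _ ≤ ringKrullDim B := h2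

include G in
/-- the full statement -/
theorem main [IsNoetherianRing A] [IsLocalRing A] [Module.Finite B A] (q : Ideal B) [q.IsPrime]
    (hq : q.height = 1) (p : Ideal A) [p.IsPrime] [p.LiesOver q]
    (hres : ∀ a : A, ∃ b c : B, c ∉ q ∧ algebraMap B A c * a - algebraMap B A b ∈ p) :
    Submodule.IsPrincipal q ∧ (IsRegularLocalRing (B ⧸ q) → IsRegularLocalRing B) := by
  obtain ⟨b₀, hb₀⟩ := exists_generator (G := G) q hq p hres
  exact ⟨⟨⟨b₀, hb₀⟩⟩, fun hreg => regular (G := G) (A := A) q hq b₀ hb₀ hreg⟩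

end Groth.Agent.Lib.Helper20.InvPrincipalMain
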