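import Mathlib

/-! The irrelevant ideal under localisation away from a degree-zero element. -/

set_option autoImplicit false

namespace Groth.Agent.Lib.Helper20.IrrAway

universe u v w

theorem irrelevant_map_away
    (R : Type u) (A : Type v) (B : Type w) [CommRing R] [CommRing A] [CommRing B] [Algebra R A]
    [Algebra R B] [Algebra A B] [IsScalarTower R A B]
    (𝒜 : ℕ → Submodule R A) [GradedAlgebra 𝒜] (ℬ : ℕ → Submodule R B) [GradedAlgebra ℬ]
    (σ : A) (hσ0 : σ ∈ 𝒜 0) [IsLocalization.Away σ B]
    (ι : 𝒜 →+*ᵍ ℬ) (hι : ∀ a : A, ι a = algebraMap A B a) :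
    (HomogeneousIdeal.irrelevant 𝒜).map ι = HomogeneousIdeal.irrelevant ℬ := by
  classical
  apply le_antisymm
  · rw [HomogeneousIdeal.map_le_iff_le_comap]
    intro a ha
    show ι a ∈ HomogeneousIdeal.irrelevant ℬ
    rw [HomogeneousIdeal.mem_irrelevant_iff, GradedRing.proj_apply] at ha ⊢
    rw [← ι.map_directSumDecompose, ha, map_zero]
  · -- homogeneous elements of positive degree
    have hhom : ∀ i : ℕ, i ≠ 0 → ∀ b ∈ ℬ i, b ∈ ((HomogeneousIdeal.irrelevant 𝒜).map ι).toIdeal := by
      intro i hi b hb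
      obtain ⟨n, a, hna⟩ := IsLocalization.Away.surj σ b
      have hσn : algebraMap A B σ ^ n ∈ ℬ 0 := by
        rw [← hι, ← map_pow]
        apply ι.map_mem
        have := SetLike.pow_mem_graded n hσ0
        rwa [smul_zero] at this
      have hdeg : b * algebraMap A B σ ^ n ∈ ℬ i := by
        have := SetLike.mul_mem_graded hb hσn
        rwa [add_zero] at this
      have h1 : ((DirectSum.decompose ℬ (ι a) i : ℬ i) : B) = ι a := by
        apply DirectSum.decompose_of_mem_same
        rw [hι, ← hna]; exact hdeg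
      rw [← ι.map_directSumDecompose] at h1
      have h2 : ((DirectSum.decompose 𝒜 a i : 𝒜 i) : A) ∈ HomogeneousIdeal.irrelevant 𝒜 := by
        rw [HomogeneousIdeal.mem_irrelevant_iff, GradedRing.proj_apply]
        exact DirectSum.decompose_of_mem_ne 𝒜 (SetLike.coe_mem _) hi
      have h3 : ι ((DirectSum.decompose 𝒜 a i : 𝒜 i) : A) ∈
          ((HomogeneousIdeal.irrelevant 𝒜).map ι).toIdeal := by
        rw [HomogeneousIdeal.toIdeal_map]
        exact Ideal.mem_map_of_mem _ h2
      rw [h1, hι, ← hna] at h3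
      have hu : IsUnit (algebraMap A B σ ^ n) :=
        (IsLocalization.Away.algebraMap_isUnit σ).pow n
      exact (Ideal.mul_unit_mem_iff_mem _ hu).mp h3
    intro b hb
    have hb0 : ((DirectSum.decompose ℬ b 0 : ℬ 0) : B) = 0 := by
      have := (HomogeneousIdeal.mem_irrelevant_iff ℬ b).mp hb
      rwa [GradedRing.proj_apply] at this
    show b ∈ ((HomogeneousIdeal.irrelevant 𝒜).map ι).toIdeal
    rw [← DirectSum.sum_support_decompose ℬ b]
    apply Ideal.sum_mem
    intro i _
    by_cases hi : i = 0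
    · subst hi
      rw [hb0]; exact Ideal.zero_mem _
    · exact hhom i hi _ (SetLike.coe_mem _)

end Groth.Agent.Lib.Helper20.IrrAway
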