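import Mathlib
import Groth.Agent.Lib.Helper20.Constr

/-! Jacobson spaces: constructible sets of `X` vs. constructible sets of the closed points. -/

set_option autoImplicit false

namespace Groth.Agent.Lib.Helper20.JacCons

open Set TopologicalSpace Topology
open Groth.Agent.Lib.Helper20.Constr

variable {X : Type*} [TopologicalSpace X] [JacobsonSpace X]

theorem nf_nonempty_inter_closedPoints {s : Set X} (hs : NF s) (hne : s.Nonempty) :
    (s ∩ closedPoints X).Nonempty := by
  induction hs with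
  | basic U V hUo hUr hVo hVr =>
    exact nonempty_inter_closedPoints hne (hUo.isLocallyClosed.inter hVo.isClosed_compl.isLocallyClosed)
  | union s t hs ht ihs iht =>
    obtain ⟨x, hx | hx⟩ := hne
    · obtain ⟨y, hy, hy'⟩ := ihs ⟨x, hx⟩
      exact ⟨y, Or.inl hy, hy'⟩
    · obtain ⟨y, hy, hy'⟩ := iht ⟨x, hx⟩
      exact ⟨y, Or.inr hy, hy'⟩

theorem subset_of_preimage_subset {E E' : Set X} (hE : IsConstructible E)
    (hE' : IsConstructible E')
    (h : (Subtype.val : closedPoints X → X) ⁻¹' E ⊆ Subtype.val ⁻¹' E') : E ⊆ E' := by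
  by_contra hne
  obtain ⟨x, hxE, hxE'⟩ := not_subset.mp hne
  have hc : IsConstructible (E \ E') := hE.sdiff hE'
  obtain ⟨y, ⟨hyE, hyE'⟩, hyc⟩ :=
    nf_nonempty_inter_closedPoints (NF.of_isConstructible hc) ⟨x, hxE, hxE'⟩
  exact hyE' (h (show (⟨y, hyc⟩ : closedPoints X) ∈ Subtype.val ⁻¹' E from hyE))

theorem subset_of_preimage_subset_of_isOpen {U V : Set X} (hU : IsOpen U) (hV : IsOpen V)
    (h : (Subtype.val : closedPoints X → X) ⁻¹' U ⊆ Subtype.val ⁻¹' V) : U ⊆ V := by
  by_contra hne
  obtain ⟨x, hxU, hxV⟩ := not_subset.mp hne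
  obtain ⟨y, ⟨hyU, hyV⟩, hyc⟩ :=
    nonempty_inter_closedPoints (Z := U ∩ Vᶜ) ⟨x, hxU, hxV⟩
      (hU.isLocallyClosed.inter hV.isClosed_compl.isLocallyClosed)
  exact hyV (h (show (⟨y, hyc⟩ : closedPoints X) ∈ Subtype.val ⁻¹' U from hyU))

theorem isCompact_preimage_iff {U : Set X} (hU : IsOpen U) :
    IsCompact U ↔ IsCompact ((Subtype.val : closedPoints X → X) ⁻¹' U) := by
  constructor
  · intro hc
    rw [isCompact_iff_finite_subcover]
    intro ι V hV hcov
    have hW : ∀ i, ∃ W : Set X, IsOpen W ∧ Subtype.val ⁻¹' W = V i := fun i =>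
      isOpen_induced_iff.mp (hV i)
    choose W hWo hWV using hW
    have hsub : U ⊆ ⋃ i, W i := by
      refine subset_of_preimage_subset_of_isOpen hU (isOpen_iUnion hWo) ?_
      rw [preimage_iUnion]
      simpa only [hWV] using hcov
    obtain ⟨t, ht⟩ := hc.elim_finite_subcover W hWo hsub
    refine ⟨t, ?_⟩
    intro x hx
    have := ht hx
    obtain ⟨i, hi, hxi⟩ := mem_iUnion₂.mp this
    refine mem_iUnion₂.mpr ⟨i, hi, ?_⟩
    rw [← hWV i]
    exact hxi
  · intro hc
    rw [isCompact_iff_finite_subcover]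
    intro ι W hW hcov
    have hcov' : (Subtype.val : closedPoints X → X) ⁻¹' U ⊆ ⋃ i, Subtype.val ⁻¹' (W i) := by
      rw [← preimage_iUnion]
      exact preimage_mono hcov
    obtain ⟨t, ht⟩ := hc.elim_finite_subcover _
      (fun i => (hW i).preimage continuous_subtype_val) hcov'
    refine ⟨t, ?_⟩
    refine subset_of_preimage_subset_of_isOpen hU
      (isOpen_biUnion fun i _ => hW i) ?_
    intro x hx
    obtain ⟨i, hi, hxi⟩ := mem_iUnion₂.mp (ht hx)
    exact mem_iUnion₂.mpr ⟨i, hi, hxi⟩

theorem isRetrocompact_preimage_iff {U : Set X} (hU : IsOpen U) :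
    IsRetrocompact U ↔ IsRetrocompact ((Subtype.val : closedPoints X → X) ⁻¹' U) := by
  constructor
  · intro hr V₀ hV₀c hV₀o
    obtain ⟨V, hVo, rfl⟩ := isOpen_induced_iff.mp hV₀o
    have hVc : IsCompact V := (isCompact_preimage_iff hVo).mpr hV₀c
    have := hr hVc hVo
    rw [← preimage_inter]
    exact (isCompact_preimage_iff (hU.inter hVo)).mp this
  · intro hr V hVc hVo
    have h1 : IsCompact ((Subtype.val : closedPoints X → X) ⁻¹' V) :=
      (isCompact_preimage_iff hVo).mp hVc
    have := hr h1 (hVo.preimage continuous_subtype_val)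
    rw [← preimage_inter] at this
    exact (isCompact_preimage_iff (hU.inter hVo)).mpr this

theorem isConstructible_preimage {E : Set X} (hE : IsConstructible E) :
    IsConstructible ((Subtype.val : closedPoints X → X) ⁻¹' E) :=
  hE.preimage continuous_subtype_val fun s hs hr => (isRetrocompact_preimage_iff hs).mp hr

theorem exists_isConstructible_preimage_eq {F : Set (closedPoints X)} (hF : IsConstructible F) :
    ∃ E : Set X, IsConstructible E ∧ (Subtype.val : closedPoints X → X) ⁻¹' E = F := by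
  induction hF using IsConstructible.empty_union_induction with
  | open_retrocompact U hUo hUr =>
    obtain ⟨W, hWo, rfl⟩ := isOpen_induced_iff.mp hUo
    exact ⟨W, ((isRetrocompact_preimage_iff hWo).mpr hUr).isConstructible hWo, rfl⟩
  | union s hs t ht ihs iht =>
    obtain ⟨E₁, h1, rfl⟩ := ihs
    obtain ⟨E₂, h2, rfl⟩ := iht
    exact ⟨E₁ ∪ E₂, h1.union h2, rfl⟩
  | compl s hs ih =>
    obtain ⟨E, h, rfl⟩ := ih
    exact ⟨Eᶜ, h.compl, rfl⟩

theorem main :
    (∀ U : Set X, IsOpen U →
      (IsCompact U ↔ IsCompact ((Subtype.val : closedPoints X → X) ⁻¹' U)) ∧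
      (IsRetrocompact U ↔ IsRetrocompact ((Subtype.val : closedPoints X → X) ⁻¹' U))) ∧
    (∀ E : Set X, Topology.IsConstructible E →
      Topology.IsConstructible ((Subtype.val : closedPoints X → X) ⁻¹' E)) ∧
    (∀ E E' : Set X, Topology.IsConstructible E → Topology.IsConstructible E' →
      ((Subtype.val : closedPoints X → X) ⁻¹' E ⊆ Subtype.val ⁻¹' E' ↔ E ⊆ E')) ∧
    (∀ F : Set (closedPoints X), Topology.IsConstructible F →
      ∃ E : Set X, Topology.IsConstructible E ∧ (Subtype.val : closedPoints X → X) ⁻¹' E = F) :=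
  ⟨fun _ hU => ⟨isCompact_preimage_iff hU, isRetrocompact_preimage_iff hU⟩,
    fun _ hE => isConstructible_preimage hE,
    fun _ _ hE hE' => ⟨subset_of_preimage_subset hE hE', fun h => preimage_mono h⟩,
    fun _ hF => exists_isConstructible_preimage_eq hF⟩

end Groth.Agent.Lib.Helper20.JacCons
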