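import Mathlib

namespace Groth.Agent.Lib.Helper20.Jacobi3

universe u v

variable {R : Type u} [CommRing R] {M : Type v} [AddCommGroup M] [Module R M]
variable (B : M →ₗ[R] M →ₗ[R] M)

/-- Jacobiator -/
def J (u v w : M) : M := B u (B v w) + B v (B w u) + B w (B u v)

theorem J_cyc (u v w : M) : J B u v w = J B v w u := by
  unfold J
  abel

variable (halt : ∀ m : M, B m m = 0)
include halt

theorem skew (m n : M) : B m n = -B n m := by
  have h := halt (m + n)
  have h' : B m n + B n m = 0 := by
    simpa [halt m, halt n] using h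
  exact eq_neg_of_add_eq_zero_left h'

theorem J_swap (u v w : M) : J B u w v = -J B u v w := by
  unfold J
  rw [skew B halt w v, skew B halt v u, skew B halt u w]
  simp only [map_neg]
  abel

theorem J_self12 (m w : M) : J B m m w = 0 := by
  unfold J
  rw [halt m, map_zero, skew B halt w m, map_neg]
  abel

theorem J_self23 (u m : M) : J B u m m = 0 := by
  rw [J_cyc]
  exact J_self12 B halt m u

theorem J_self13 (m v : M) : J B m v m = 0 := by
  rw [J_cyc, J_cyc]
  exact J_self12 B halt m v

omit halt in
theorem step (bs : Module.Basis (Fin 3) R M) (v w : M) (h : ∀ i, J B (bs i) v w = 0) (u : M) :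
    J B u v w = 0 := by
  have hL : (B.flip (B v w) + B v ∘ₗ B w + B w ∘ₗ B.flip v) = 0 := by
    apply bs.ext
    intro i
    have := h i
    unfold J at this
    simpa using this
  have := LinearMap.congr_fun hL u
  unfold J
  simpa using this

omit halt in
theorem all_of_basis (bs : Module.Basis (Fin 3) R M)
    (h : ∀ i j k, J B (bs i) (bs j) (bs k) = 0) (u v w : M) : J B u v w = 0 := by
  have h1 : ∀ u j k, J B u (bs j) (bs k) = 0 := fun u j k =>
    step B bs _ _ (fun i => h i j k) u
  have h2 : ∀ u v k, J B u v (bs k) = 0 := by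
    intro u v k
    rw [J_cyc]
    refine step B bs _ _ (fun j => ?_) v
    rw [J_cyc, J_cyc]
    exact h1 u j k
  rw [J_cyc, J_cyc]
  refine step B bs _ _ (fun k => ?_) w
  rw [J_cyc]
  exact h2 u v k

theorem result' (bs : Module.Basis (Fin 3) R M)
    (a b c d e f g h i : R)
    (hxy : B (bs 0) (bs 1) = a • bs 0 + b • bs 1 + c • bs 2)
    (hxz : B (bs 0) (bs 2) = d • bs 0 + e • bs 1 + f • bs 2)
    (hyz : B (bs 1) (bs 2) = g • bs 0 + h • bs 1 + i • bs 2) :
    (∀ u v w : M, B u (B v w) + B v (B w u) + B w (B u v) = 0) ↔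
      (a * h + d * i - f * g - b * g = 0 ∧ i * e + b * d - f * h - a * e = 0 ∧
        h * c + d * c - a * f - b * i = 0) := by
  have hyx : B (bs 1) (bs 0) = -(a • bs 0 + b • bs 1 + c • bs 2) := by
    rw [skew B halt, hxy]
  have hzx : B (bs 2) (bs 0) = -(d • bs 0 + e • bs 1 + f • bs 2) := by
    rw [skew B halt, hxz]
  have hzy : B (bs 2) (bs 1) = -(g • bs 0 + h • bs 1 + i • bs 2) := by
    rw [skew B halt, hyz]
  have hJ : J B (bs 0) (bs 1) (bs 2) =
      (a * h + d * i - f * g - b * g) • bs 0 + (i * e + b * d - f * h - a * e) • bs 1 +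
        (h * c + d * c - a * f - b * i) • bs 2 := by
    unfold J
    simp only [hxy, hxz, hyz, hyx, hzx, hzy, map_add, map_neg, map_smul, halt]
    module
  have hcoef : J B (bs 0) (bs 1) (bs 2) = 0 ↔
      (a * h + d * i - f * g - b * g = 0 ∧ i * e + b * d - f * h - a * e = 0 ∧
        h * c + d * c - a * f - b * i = 0) := by
    rw [hJ]
    constructor
    · intro h0
      have hli := Fintype.linearIndependent_iff.1 bs.linearIndependent
        ![a * h + d * i - f * g - b * g, i * e + b * d - f * h - a * e,
          h * c + d * c - a * f - b * i]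
        (by simpa [Fin.sum_univ_three] using h0)
      exact ⟨by simpa using hli 0, by simpa using hli 1, by simpa using hli 2⟩
    · rintro ⟨h1, h2, h3⟩
      rw [h1, h2, h3]
      simp
  rw [← hcoef]
  constructor
  · intro hall
    exact hall _ _ _
  · intro h012 u v w
    change J B u v w = 0
    have h120 : J B (bs 1) (bs 2) (bs 0) = 0 := by rw [← J_cyc]; exact h012
    have h201 : J B (bs 2) (bs 0) (bs 1) = 0 := by rw [← J_cyc]; exact h120
    have h021 : J B (bs 0) (bs 2) (bs 1) = 0 := by rw [J_swap B halt, h012, neg_zero]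
    have h210 : J B (bs 2) (bs 1) (bs 0) = 0 := by rw [← J_cyc]; exact h021
    have h102 : J B (bs 1) (bs 0) (bs 2) = 0 := by rw [← J_cyc]; exact h210
    refine all_of_basis B bs ?_ u v w
    intro i j k
    fin_cases i <;> fin_cases j <;> fin_cases k <;>
      first
        | exact J_self12 B halt _ _
        | exact J_self23 B halt _ _
        | exact J_self13 B halt _ _
        | exact h012 | exact h120 | exact h201 | exact h021 | exact h210 | exact h102

end Groth.Agent.Lib.Helper20.Jacobi3
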