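import Groth.Agent.Lib.Helper20.GammaKey
import Mathlib.Algebra.MvPolynomial.Division
import Mathlib.Algebra.BigOperators.Group.Finset.Powerset
import Mathlib.RingTheory.MvPolynomial.Symmetric.FundamentalTheorem

/-!
# Helper library (helper20): divisibility of `λ^p(x · λ_{-1}(N))` by `λ_{-1}(N)` for `N` of finite
rank
-/

set_option autoImplicit false
universe u v w

open Finset

namespace Groth.Agent.Lib.Helper20.LD

open LambdaRing MvPolynomial Groth.Agent.Lib.Helper20.Sym Groth.Agent.Lib.Helper20.TR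
  Groth.Agent.Lib.Helper20.TF Groth.Agent.Lib.Helper20.DL Groth.Agent.Lib.Helper20.LR

section int
variable {R : Type u} [CommRing R] [LambdaOps R]

/-- in a special λ-ring, `λ_t(k) = (1 + t)^k` for every integer `k` -/
lemma lamSeries_intCast (hR : IsSpecial R) (k : ℤ) :
    lamSeries ((k : ℤ) : R) = PowerSeries.binomialSeries R k := by
  have h1 : lamSeries (1 : R) = 1 + PowerSeries.X := by
    rw [lamSeries_one_of_special hR]
    simp
  have hb1 : PowerSeries.binomialSeries R (1 : ℤ) = 1 + PowerSeries.X := by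
    have := PowerSeries.binomialSeries_nat (R := ℤ) (A := R) 1
    rw [Nat.cast_one, pow_one] at this
    exact this
  have hu : IsUnit (1 + PowerSeries.X : PowerSeries R) := by
    rw [PowerSeries.isUnit_iff_constantCoeff]
    simp
  induction k using Int.induction_on with
  | zero => rw [Int.cast_zero, LR.lamSeries_zero, PowerSeries.binomialSeries_zero]
  | succ i ih =>
    rw [Int.cast_add, Int.cast_one, LR.lamSeries_add, ih, h1, PowerSeries.binomialSeries_add, hb1]
  | pred i ih =>
    have e1 : lamSeries (((-(i : ℤ) - 1 : ℤ)) : R) * (1 + PowerSeries.X) =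
        lamSeries (((-(i : ℤ) : ℤ)) : R) := by
      rw [← h1, ← LR.lamSeries_add]
      congr 1
      push_cast
      ring
    have e2 : PowerSeries.binomialSeries R (-(i : ℤ) - 1) * (1 + PowerSeries.X) =
        PowerSeries.binomialSeries R (-(i : ℤ)) := by
      rw [← hb1, ← PowerSeries.binomialSeries_add]
      congr 1
      ring
    apply hu.mul_left_injective
    change lamSeries (((-(i : ℤ) - 1 : ℤ)) : R) * (1 + PowerSeries.X) =
      PowerSeries.binomialSeries R (-(i : ℤ) - 1) * (1 + PowerSeries.X)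
    rw [e1, e2, ih]

/-- a special λ-ring is a λ-algebra over the integers with their binomial structure -/
lemma isLambdaAlg_int (hR : IsSpecial R) :
    @IsLambdaAlg ℤ R _ (binomialLambdaOps ℤ) _ _ _ := by
  intro n k
  have h := congrArg (PowerSeries.coeff n) (lamSeries_intCast hR k)
  rw [LR.coeff_lamSeries, PowerSeries.binomialSeries_coeff] at h
  change algebraMap ℤ R (Ring.choose k n) = LambdaOps.lam n (algebraMap ℤ R k)
  rw [eq_intCast, eq_intCast, h, zsmul_eq_mul, mul_one]

end int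

section hom
variable {σ σ' : Type*} {K : Type u} [CommRing K] [BinomialRing K]

/-- a homomorphism of test rings commuting with the Adams operations commutes with the `λ^n` -/
lemma map_lam_of_expand (φ : MvPolynomial σ K →ₐ[K] MvPolynomial σ' K)
    (hφ : ∀ (k : ℕ) (z : MvPolynomial σ K), φ (expand (k + 1) z) = expand (k + 1) (φ z))
    (n : ℕ) (z : MvPolynomial σ K) : φ (LambdaOps.lam n z) = LambdaOps.lam n (φ z) := by
  induction n using Nat.strong_induction_on with
  | _ n ih =>
    rcases n with _ | n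
    · rw [LambdaOps.lam_zero, LambdaOps.lam_zero, map_one]
    · have h1 := congrArg φ (TF.newton z n)
      rw [map_mul, map_natCast, map_sum] at h1
      have h2 := TF.newton (φ z) n
      have h3 : ((n + 1 : ℕ) : MvPolynomial σ' K) * φ (LambdaOps.lam (n + 1) z) =
          ((n + 1 : ℕ) : MvPolynomial σ' K) * LambdaOps.lam (n + 1) (φ z) := by
        rw [h1, h2]
        apply Finset.sum_congr rfl
        rintro ⟨a, b⟩ hp
        have hab : a + b = n := mem_antidiagonal.mp hp
        rw [map_mul, map_mul, map_pow, map_neg, map_one, ih a (by omega), adamsOp_eq_expand,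
          adamsOp_eq_expand, hφ]
      have h4 : (n + 1) • (φ (LambdaOps.lam (n + 1) z) - LambdaOps.lam (n + 1) (φ z)) = 0 := by
        rw [nsmul_eq_mul, mul_sub, h3, sub_self]
      exact sub_eq_zero.mp (TR.torsionFree (n + 1) (Nat.succ_ne_zero n) _ h4)

omit [BinomialRing K] in
lemma expand_comm_of_gens (g : σ → MvPolynomial σ' K)
    (hg : ∀ (i : σ) (k : ℕ), expand (k + 1) (g i) = g i ^ (k + 1)) (k : ℕ)
    (z : MvPolynomial σ K) : aeval g (expand (k + 1) z) = expand (k + 1) (aeval g z) := by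
  have : (aeval g : MvPolynomial σ K →ₐ[K] MvPolynomial σ' K).comp (expand (k + 1)) =
      (expand (k + 1) : MvPolynomial σ' K →ₐ[K] MvPolynomial σ' K).comp (aeval g) := by
    apply MvPolynomial.algHom_ext
    intro i
    simp only [AlgHom.coe_comp, Function.comp_apply, expand_X, map_pow, aeval_X, hg]
  exact AlgHom.congr_fun this z

/-- substitutions of monic monomials for the variables are λ-homomorphisms of test rings -/
lemma aeval_lam (g : σ → MvPolynomial σ' K)
    (hg : ∀ (i : σ) (k : ℕ), expand (k + 1) (g i) = g i ^ (k + 1)) (n : ℕ)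
    (z : MvPolynomial σ K) : aeval g (LambdaOps.lam n z) = LambdaOps.lam n (aeval g z) :=
  map_lam_of_expand (aeval g) (fun k z => expand_comm_of_gens g hg k z) n z

end hom

section lines
variable {A : Type u} [CommRing A] [LambdaOps A]

/-- `λ^k` of a sum of line elements is the `k`-th elementary symmetric function -/
lemma lam_sum_lines (n : ℕ) (y : Fin n → A)
    (hy : ∀ (i : Fin n) (j : ℕ), 2 ≤ j → LambdaOps.lam j (y i) = 0) (k : ℕ) :
    LambdaOps.lam k (∑ i : Fin n, y i) =
      ∑ s ∈ (univ : Finset (Fin n)).powersetCard k, ∏ i ∈ s, y i := by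
  classical
  have hsum : (∑ i : Fin n, y i) = ((univ : Finset (Fin n)).val.map y).sum := rfl
  rw [← LR.coeff_lamSeries, hsum, LR.lamSeries_multiset_sum]
  have h2 : (((univ : Finset (Fin n)).val.map y).map lamSeries).prod =
      gpS ((univ : Finset (Fin n)).val.map y) := by
    unfold gpS
    rw [Multiset.map_map, Multiset.map_map]
    congr 1
    apply Multiset.map_congr rfl
    intro i _
    exact Groth.Agent.S8651.lamSeries_of_line_like (y i) (hy i)
  rw [h2, coeff_gpS, Finset.esymm_map_val]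

omit [LambdaOps A] in
/-- `Σ_k (-1)^k e_k(y) = ∏ (1 - y_i)` -/
lemma sum_neg_pow_esymm (n : ℕ) (y : Fin n → A) :
    ∑ k ∈ range (n + 1), (-1 : A) ^ k *
      ∑ s ∈ (univ : Finset (Fin n)).powersetCard k, ∏ i ∈ s, y i = ∏ i : Fin n, (1 - y i) := by
  have h1 : ∏ i : Fin n, (1 - y i) = ∏ i : Fin n, (1 + -y i) := by
    apply Finset.prod_congr rfl
    intro i _
    ring
  rw [h1, Finset.prod_one_add, Finset.sum_powerset]
  have hc : (univ : Finset (Fin n)).card = n := by simp
  rw [hc]
  apply Finset.sum_congr rfl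
  intro k _
  rw [Finset.mul_sum]
  apply Finset.sum_congr rfl
  intro s hs
  rw [Finset.prod_neg, (Finset.mem_powersetCard.mp hs).2]

end lines

section lamNeg
variable {R : Type u} [CommRing R] [LambdaOps R]

/-- `λ_{-1}(N) = Σ_{j ≤ d} (-1)^j λ^j(N)` -/
noncomputable def lamNeg (d : ℕ) (N : R) : R :=
  ∑ j ∈ range (d + 1), (-1 : R) ^ j * LambdaOps.lam j N

/-- the polynomial `1 - X_0 + X_1 - ⋯` -/
noncomputable def Ln (K : Type v) [CommRing K] (d : ℕ) : MvPolynomial (Fin d) K :=
  1 + ∑ i : Fin d, (-1) ^ ((i : ℕ) + 1) * X i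

lemma lamNeg_eq_aeval {K : Type v} [CommRing K] [Algebra K R] (d : ℕ) (N : R) :
    lamNeg d N = aeval (fun i : Fin d => LambdaOps.lam ((i : ℕ) + 1) N) (Ln K d) := by
  unfold lamNeg Ln
  rw [Finset.sum_range_succ', pow_zero, LambdaOps.lam_zero, one_mul, add_comm, map_add, map_one,
    map_sum]
  congr 1
  rw [← Fin.sum_univ_eq_sum_range (fun j => (-1 : R) ^ (j + 1) * LambdaOps.lam (j + 1) N) d]
  apply Finset.sum_congr rfl
  intro i _
  rw [map_mul, map_pow, map_neg, map_one, aeval_X]

lemma lam_zero_of_pos {k : ℕ} (hk : 1 ≤ k) : LambdaOps.lam k (0 : R) = 0 := by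
  have h := congrArg (PowerSeries.coeff k) (LR.lamSeries_zero (K := R))
  rw [LR.coeff_lamSeries, PowerSeries.coeff_one, if_neg (by omega)] at h
  exact h

end lamNeg

section shift
variable {σ : Type*} {K : Type u} [CommRing K]

/-- the inverse shift `T_i ↦ T_i - 1` -/
noncomputable def shinv : MvPolynomial σ K →ₐ[K] MvPolynomial σ K := aeval (fun i => X i - 1)

lemma shinv_sh (z : MvPolynomial σ K) : shinv (sh z) = z := by
  have : ((shinv : MvPolynomial σ K →ₐ[K] MvPolynomial σ K).comp sh) = AlgHom.id K _ := by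
    apply MvPolynomial.algHom_ext
    intro i
    simp [sh, shinv]
  exact AlgHom.congr_fun this z

lemma sh_shinv (z : MvPolynomial σ K) : sh (shinv z) = z := by
  have : ((sh : MvPolynomial σ K →ₐ[K] MvPolynomial σ K).comp shinv) = AlgHom.id K _ := by
    apply MvPolynomial.algHom_ext
    intro i
    simp [sh, shinv]
  exact AlgHom.congr_fun this z

variable {d : ℕ} (v : Fin d → σ)

/-- the exponent vector of `∏_a X (v a)` -/
noncomputable def oneV : σ →₀ ℕ := ∑ a : Fin d, Finsupp.single (v a) 1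

lemma degree_oneV : Finsupp.degree (oneV v) = d := by
  unfold oneV
  rw [map_sum]
  simp

lemma monomial_oneV : (monomial (oneV v) (1 : K)) = ∏ a : Fin d, X (v a) := by
  unfold oneV
  rw [monomial_sum_one]
  rfl

lemma sh_prod_one_sub :
    sh (∏ a : Fin d, (1 - X (v a) : MvPolynomial σ K)) = (-1) ^ d * monomial (oneV v) 1 := by
  rw [map_prod, monomial_oneV]
  have h : ∀ a : Fin d, sh (1 - X (v a) : MvPolynomial σ K) = -X (v a) := by
    intro a
    unfold sh
    rw [map_sub, map_one, aeval_X]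
    ring
  simp only [h]
  rw [Finset.prod_neg]
  simp

/-- cancellation of `∏ (1 - X (v a))` -/
lemma prod_one_sub_cancel {q₁ q₂ : MvPolynomial σ K}
    (h : (∏ a : Fin d, (1 - X (v a) : MvPolynomial σ K)) * q₁ =
      (∏ a : Fin d, (1 - X (v a) : MvPolynomial σ K)) * q₂) : q₁ = q₂ := by
  have h1 := congrArg sh h
  rw [map_mul, map_mul, sh_prod_one_sub] at h1
  have h2 : sh q₁ = sh q₂ := by
    have h1' : monomial (oneV v) 1 * sh q₁ = monomial (oneV v) 1 * sh q₂ := by
      have := congrArg (fun t => (-1 : MvPolynomial σ K) ^ d * t) h1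
      beta_reduce at this
      rw [← mul_assoc, ← mul_assoc, ← mul_assoc, ← mul_assoc, ← mul_pow] at this
      simpa using this
    ext m
    have := congrArg (coeff (oneV v + m)) h1'
    rwa [coeff_monomial_mul, coeff_monomial_mul, one_mul, one_mul] at this
  rw [← shinv_sh q₁, h2, shinv_sh]

/-- division by `∏ (1 - X (v a))` lowers the augmentation filtration by `d` -/
lemma Jn_of_prod_mul {q : MvPolynomial σ K} {p : ℕ}
    (h : (∏ a : Fin d, (1 - X (v a) : MvPolynomial σ K)) * q ∈ Jn p) : q ∈ Jn (p - d) := by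
  rw [mem_Jn, map_mul, sh_prod_one_sub] at h
  rw [mem_Jn, mem_pow_idealOfVars_iff']
  intro m hm
  have h1 : (-1 : MvPolynomial σ K) ^ d * ((-1) ^ d * monomial (oneV v) 1 * sh q) ∈
      idealOfVars σ K ^ p := Ideal.mul_mem_left _ _ h
  have h2 : (-1 : MvPolynomial σ K) ^ d * ((-1) ^ d * monomial (oneV v) 1 * sh q) =
      monomial (oneV v) 1 * sh q := by
    rw [← mul_assoc, ← mul_assoc, ← mul_pow]
    simp
  rw [h2, mem_pow_idealOfVars_iff'] at h1
  have h3 := h1 (oneV v + m) (by
    rw [map_add, degree_oneV]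
    omega)
  rwa [coeff_monomial_mul, one_mul] at h3

end shift

section div
variable {K : Type u} [CommRing K]

/-- a polynomial killed by `X_i ↦ 1` is divisible by `X_i - 1` -/
lemma exists_mul_of_eval_one {σ : Type*} [DecidableEq σ] (i : σ) (f : MvPolynomial σ K)
    (h : aeval (Function.update (X : σ → MvPolynomial σ K) i 1) f = 0) :
    ∃ g, f = g * (X i - 1) := by
  set J : Ideal (MvPolynomial σ K) := Ideal.span {X i - 1} with hJ
  have hmk : ∀ a, Ideal.Quotient.mkₐ K J (Function.update (X : σ → MvPolynomial σ K) i 1 a) =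
      Ideal.Quotient.mkₐ K J (X a) := by
    intro a
    by_cases ha : a = i
    · subst ha
      rw [Function.update_self, Ideal.Quotient.mkₐ_eq_mk, Ideal.Quotient.eq]
      have : (1 : MvPolynomial σ K) - X a = -(X a - 1) := by ring
      rw [this]
      exact J.neg_mem (Ideal.subset_span rfl)
    · rw [Function.update_of_ne ha]
  have h1 : Ideal.Quotient.mkₐ K J (aeval (Function.update (X : σ → MvPolynomial σ K) i 1) f) =
      Ideal.Quotient.mkₐ K J f := by
    rw [comp_aeval_apply]
    have e : (fun a => Ideal.Quotient.mkₐ K J (Function.update (X : σ → MvPolynomial σ K) i 1 a)) =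
        fun a => Ideal.Quotient.mkₐ K J (X a) := funext hmk
    rw [e, ← comp_aeval_apply, aeval_X_left_apply]
  rw [h, map_zero] at h1
  have hf : f ∈ J := Ideal.Quotient.eq_zero_iff_mem.mp h1.symm
  obtain ⟨g, hg⟩ := Ideal.mem_span_singleton'.mp hf
  exact ⟨g, hg.symm⟩

variable {d : ℕ}

lemma coeff_sh_eq_zero (i : Fin d) (f : MvPolynomial (Fin d) K)
    (h : aeval (Function.update (X : Fin d → MvPolynomial (Fin d) K) i 1) f = 0)
    (m : Fin d →₀ ℕ) (hm : m i = 0) : coeff m (sh f) = 0 := by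
  obtain ⟨g, rfl⟩ := exists_mul_of_eval_one i f h
  have e : sh (X i - 1 : MvPolynomial (Fin d) K) = X i := by
    unfold sh
    simp
  rw [map_mul, e, coeff_mul_X', if_neg]
  rw [Finsupp.mem_support_iff]
  exact fun hne => hne hm

lemma oneV_id_apply (a : Fin d) : oneV (id : Fin d → Fin d) a = 1 := by
  unfold oneV
  rw [Finsupp.finset_sum_apply]
  simp [Finsupp.single_apply]

/-- a polynomial killed by all the substitutions `X_i ↦ 1` is divisible by `∏ (1 - X_a)` -/
theorem exists_mul_of_forall_eval_one (f : MvPolynomial (Fin d) K)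
    (h : ∀ i, aeval (Function.update (X : Fin d → MvPolynomial (Fin d) K) i 1) f = 0) :
    ∃ q, f = (∏ a : Fin d, (1 - X a : MvPolynomial (Fin d) K)) * q := by
  classical
  have h0 : MvPolynomial.modMonomial (sh f) (oneV (id : Fin d → Fin d)) = 0 := by
    ext m
    rw [coeff_zero]
    by_cases hle : oneV (id : Fin d → Fin d) ≤ m
    · exact coeff_modMonomial_of_le _ hle
    · rw [coeff_modMonomial_of_not_le _ hle]
      have hex : ∃ i, m i = 0 := by
        by_contra hne
        push_neg at hne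
        apply hle
        intro a
        rw [oneV_id_apply]
        exact Nat.one_le_iff_ne_zero.mpr (hne a)
      obtain ⟨i, hi⟩ := hex
      exact coeff_sh_eq_zero i f (h i) m hi
  obtain ⟨g, hg⟩ := monomial_one_dvd_iff_modMonomial_eq_zero.mpr h0
  have hmon : shinv (monomial (oneV (id : Fin d → Fin d)) (1 : K)) =
      (-1) ^ d * ∏ a : Fin d, (1 - X a : MvPolynomial (Fin d) K) := by
    have h1 := sh_prod_one_sub (K := K) (id : Fin d → Fin d)
    have h2 : monomial (oneV (id : Fin d → Fin d)) (1 : K) =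
        sh ((-1) ^ d * ∏ a : Fin d, (1 - X (id a) : MvPolynomial (Fin d) K)) := by
      have e1 : sh (1 : MvPolynomial (Fin d) K) = 1 := map_one _
      rw [map_mul, h1, map_pow, map_neg, e1, ← mul_assoc, ← mul_pow]
      simp
    rw [h2, shinv_sh]
    rfl
  refine ⟨(-1) ^ d * shinv g, ?_⟩
  have := congrArg shinv hg
  rw [shinv_sh, map_mul, hmon] at this
  rw [this]
  ring

end div

section testdiv
variable {K : Type u} [CommRing K] [BinomialRing K] {d : ℕ}

/-- the sum of the variables -/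
noncomputable def Nhat {σ : Type*} (v : Fin d → σ) : MvPolynomial σ K := ∑ a : Fin d, X (v a)

lemma lam_Nhat {σ : Type*} (v : Fin d → σ) (k : ℕ) :
    LambdaOps.lam k (Nhat v : MvPolynomial σ K) =
      ∑ s ∈ (univ : Finset (Fin d)).powersetCard k, ∏ a ∈ s, X (v a) :=
  lam_sum_lines d (fun a => X (v a)) (fun a j hj => lam_X (v a) j hj) k

lemma lam_Nhat_eq_zero {σ : Type*} (v : Fin d → σ) (k : ℕ) (hk : d < k) :
    LambdaOps.lam k (Nhat v : MvPolynomial σ K) = 0 := by
  rw [lam_Nhat, Finset.powersetCard_eq_empty.mpr (by simpa using hk), Finset.sum_empty]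

lemma lamNeg_Nhat {σ : Type*} (v : Fin d → σ) :
    lamNeg d (Nhat v : MvPolynomial σ K) = ∏ a : Fin d, (1 - X (v a)) := by
  unfold lamNeg
  simp only [lam_Nhat]
  exact sum_neg_pow_esymm d _

lemma lam_Nhat_id (i : Fin d) :
    LambdaOps.lam ((i : ℕ) + 1) (Nhat (id : Fin d → Fin d) : MvPolynomial (Fin d) K) =
      esymm (Fin d) K ((i : ℕ) + 1) := by
  rw [lam_Nhat]
  rfl

/-- in the test ring, `λ^j(λ_{-1}(N̂))` is `λ_{-1}(N̂)` times a polynomial in the `λ^i(N̂)` -/
theorem lam_lamNeg_Nhat (j : ℕ) (hj : 1 ≤ j) :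
    ∃ G' : MvPolynomial (Fin d) K,
      LambdaOps.lam j (lamNeg d (Nhat (id : Fin d → Fin d) : MvPolynomial (Fin d) K)) =
        lamNeg d (Nhat (id : Fin d → Fin d) : MvPolynomial (Fin d) K) *
          aeval (fun i : Fin d => esymm (Fin d) K ((i : ℕ) + 1)) G' := by
  classical
  rw [lamNeg_Nhat]
  simp only [id]
  set Λ : MvPolynomial (Fin d) K := ∏ a : Fin d, (1 - X a) with hΛ
  -- vanishing under the substitutions `X_i ↦ 1`
  have hev : ∀ i : Fin d,
      aeval (Function.update (X : Fin d → MvPolynomial (Fin d) K) i 1) (LambdaOps.lam j Λ) = 0 := by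
    intro i
    rw [aeval_lam]
    · have h0 : aeval (Function.update (X : Fin d → MvPolynomial (Fin d) K) i 1) Λ = 0 := by
        rw [hΛ, map_prod]
        apply Finset.prod_eq_zero (Finset.mem_univ i)
        rw [map_sub, map_one, aeval_X, Function.update_self, sub_self]
      rw [h0, lam_zero_of_pos hj]
    · intro a k
      by_cases ha : a = i
      · subst ha
        rw [Function.update_self, map_one, one_pow]
      · rw [Function.update_of_ne ha, expand_X]
  obtain ⟨q, hq⟩ := exists_mul_of_forall_eval_one _ hev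
  -- the quotient is symmetric
  have hsymm : q.IsSymmetric := by
    intro e
    apply prod_one_sub_cancel (id : Fin d → Fin d)
    have hΛe : rename e Λ = Λ := by
      rw [hΛ, map_prod]
      simp only [map_sub, map_one, rename_X]
      exact Equiv.prod_comp e (fun a => (1 - X a : MvPolynomial (Fin d) K))
    have h1 : rename e (LambdaOps.lam j Λ) = LambdaOps.lam j Λ := by
      rw [map_lam_of_expand (rename e) (fun k z => rename_expand _ _ _) j Λ, hΛe]
    calc Λ * rename e q = rename e (Λ * q) := by rw [map_mul, hΛe]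
      _ = Λ * q := by rw [← hq, h1, hq]
  obtain ⟨G', hG'⟩ := esymmAlgHom_fin_surjective K (le_refl d) ⟨q, hsymm⟩
  refine ⟨G', ?_⟩
  have := congrArg Subtype.val hG'
  rw [esymmAlgHom_apply] at this
  rw [this, hq]

end testdiv

section prodcomp
variable {A : Type v} {B : Type w} [CommRing A] [CommRing B] [LambdaOps A] [LambdaOps B]

lemma lamNeg_fst (d : ℕ) (p : A × B) : (lamNeg d p).1 = lamNeg d p.1 := by
  unfold lamNeg
  rw [Prod.fst_sum]
  apply Finset.sum_congr rfl
  intro j _
  rw [Prod.fst_mul, Prod.pow_fst, Prod.fst_neg, Prod.fst_one]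
  rfl

lemma lamNeg_snd (d : ℕ) (p : A × B) : (lamNeg d p).2 = lamNeg d p.2 := by
  unfold lamNeg
  rw [Prod.snd_sum]
  apply Finset.sum_congr rfl
  intro j _
  rw [Prod.snd_mul, Prod.pow_snd, Prod.snd_neg, Prod.snd_one]
  rfl

end prodcomp

section univ
variable {K : Type u} [CommRing K] [LambdaOps K] [BinomialRing K]
  {R : Type w} [CommRing R] [LambdaOps R] [Algebra K R]

omit [LambdaOps K] [BinomialRing K] [LambdaOps R] in
lemma aeval_mem_subalgebra (S : Subalgebra K R) {τ : Type*} (f : τ → R) (hf : ∀ i, f i ∈ S)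
    (G : MvPolynomial τ K) : aeval f G ∈ S := by
  induction G using MvPolynomial.induction_on with
  | C a =>
    rw [aeval_C]
    exact S.algebraMap_mem _
  | add p q hp hq => rw [map_add]; exact S.add_mem hp hq
  | mul_X p i hp => rw [map_mul, aeval_X]; exact S.mul_mem hp (hf i)

variable (hKb : IsBinomial K) (hR : IsSpecial R) (hKR : IsLambdaAlg K R)
  (hP : ∀ n : ℕ, ∃ P : MvPolynomial (Fin n ⊕ Fin n) ℤ, IsMulPoly n P)
  (hQ : ∀ i j : ℕ, ∃ Q : MvPolynomial (Fin (i * j)) ℤ, IsCompPoly i j Q)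

include hKb hR hKR hP hQ in
/-- for `N` of rank at most `d`, `λ^j(λ_{-1}(N))` is `λ_{-1}(N)` times a polynomial in the
`λ^i(N)` -/
theorem lam_lamNeg (d : ℕ) (N : R) (hN : ∀ k : ℕ, d < k → LambdaOps.lam k N = 0) (j : ℕ)
    (hj : 1 ≤ j) :
    ∃ u ∈ Adj K (fun _ : Unit => N), LambdaOps.lam j (lamNeg d N) = lamNeg d N * u := by
  classical
  let ξ₀ : Unit → R × MvPolynomial (Fin d) K := fun _ => (N, Nhat id)
  have hsp : IsSpecial (R × MvPolynomial (Fin d) K) := isSpecial_prod hR TR.isSpecial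
  have hla : IsLambdaAlg K (R × MvPolynomial (Fin d) K) := by
    intro n c
    exact Prod.ext (hKR n c) (TR.isLambdaAlg hKb n c)
  have hrank : ∀ k : ℕ, d < k → LambdaOps.lam k (ξ₀ ()) = 0 := by
    intro k hk
    exact Prod.ext (hN k hk) (lam_Nhat_eq_zero id k hk)
  have hΛmem : lamNeg d (ξ₀ ()) ∈ Adj K ξ₀ := by
    unfold lamNeg
    apply Subalgebra.sum_mem
    intro i _
    apply Subalgebra.mul_mem
    · exact Subalgebra.pow_mem _ (Subalgebra.neg_mem _ (Subalgebra.one_mem _)) _
    · rcases i with _ | i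
      · rw [LambdaOps.lam_zero]
        exact Subalgebra.one_mem _
      · exact lam_gen_mem ξ₀ () i
  have hr : LambdaOps.lam j (lamNeg d (ξ₀ ())) ∈ Adj K ξ₀ :=
    lam_mem_Adj ξ₀ hsp hla hP hQ _ hΛmem j
  -- representation
  have hle : Adj K ξ₀ ≤ (aeval (fun i : Fin d => LambdaOps.lam ((i : ℕ) + 1) (ξ₀ ())) :
      MvPolynomial (Fin d) K →ₐ[K] R × MvPolynomial (Fin d) K).range := by
    apply Algebra.adjoin_le
    rintro _ ⟨⟨s, k⟩, rfl⟩
    by_cases hk : k < d
    · refine ⟨X ⟨k, hk⟩, ?_⟩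
      change aeval (fun i : Fin d => LambdaOps.lam ((i : ℕ) + 1) (ξ₀ ())) (X ⟨k, hk⟩) = _
      rw [aeval_X]
    · have : LambdaOps.lam (k + 1) (ξ₀ s) = 0 := hrank (k + 1) (by omega)
      change LambdaOps.lam (k + 1) (ξ₀ s) ∈ _
      rw [this]
      exact Subalgebra.zero_mem _
  obtain ⟨G, hG⟩ := hle hr
  have hG' : aeval (fun i : Fin d => LambdaOps.lam ((i : ℕ) + 1) (ξ₀ ())) G =
      LambdaOps.lam j (lamNeg d (ξ₀ ())) := hG
  -- components
  have h1 : LambdaOps.lam j (lamNeg d N) =
      aeval (fun i : Fin d => LambdaOps.lam ((i : ℕ) + 1) N) G := by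
    have := congrArg Prod.fst hG'
    rw [lam_fst, lamNeg_fst] at this
    rw [← this]
    have e1 : (aeval (fun i : Fin d => LambdaOps.lam ((i : ℕ) + 1) (ξ₀ ())) G).1 =
        (AlgHom.fst K R (MvPolynomial (Fin d) K))
          (aeval (fun i : Fin d => LambdaOps.lam ((i : ℕ) + 1) (ξ₀ ())) G) := rfl
    rw [e1, comp_aeval_apply]
    rfl
  have h2 : LambdaOps.lam j (lamNeg d (Nhat (id : Fin d → Fin d) : MvPolynomial (Fin d) K)) =
      aeval (fun i : Fin d => esymm (Fin d) K ((i : ℕ) + 1)) G := by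
    have := congrArg Prod.snd hG'
    rw [lam_snd, lamNeg_snd] at this
    rw [← this]
    have e1 : (aeval (fun i : Fin d => LambdaOps.lam ((i : ℕ) + 1) (ξ₀ ())) G).2 =
        (AlgHom.snd K R (MvPolynomial (Fin d) K))
          (aeval (fun i : Fin d => LambdaOps.lam ((i : ℕ) + 1) (ξ₀ ())) G) := rfl
    rw [e1, comp_aeval_apply]
    refine congrArg (fun f => aeval f G) ?_
    funext i
    exact lam_Nhat_id i
  obtain ⟨G₁, hG₁⟩ := lam_lamNeg_Nhat (K := K) (d := d) j hj
  have h3 : lamNeg d (Nhat (id : Fin d → Fin d) : MvPolynomial (Fin d) K) =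
      aeval (fun i : Fin d => esymm (Fin d) K ((i : ℕ) + 1)) (Ln K d) := by
    rw [lamNeg_eq_aeval (K := K)]
    refine congrArg (fun f => aeval f (Ln K d)) ?_
    funext i
    exact lam_Nhat_id i
  have hGeq : G = Ln K d * G₁ := by
    have hAI := algebraicIndependent_esymm K (le_refl d)
    rw [algebraicIndependent_iff_injective_aeval] at hAI
    apply hAI
    rw [map_mul, ← h2, ← h3, hG₁]
  refine ⟨aeval (fun i : Fin d => LambdaOps.lam ((i : ℕ) + 1) N) G₁, ?_, ?_⟩
  · apply aeval_mem_subalgebra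
    intro i
    exact lam_gen_mem (fun _ : Unit => N) () i
  · rw [h1, hGeq, map_mul, ← lamNeg_eq_aeval]

end univ

section divmon
variable {K : Type u} [CommRing K] {R : Type w} [CommRing R] [Algebra K R]

/-- an integral polynomial all of whose monomials contain a variable whose value is a multiple of
`Λ` takes a value which is a multiple of `Λ` -/
lemma exists_mul_of_monomials (S : Subalgebra K R) (Λ : R) {τ : Type*} (f : τ → R)
    (hf : ∀ x, f x ∈ S) (B : Set τ) (hB : ∀ x ∈ B, ∃ u ∈ S, f x = Λ * u) (G : MvPolynomial τ ℤ)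
    (hG : ∀ m ∈ G.support, ∃ x ∈ B, m x ≠ 0) : ∃ w ∈ S, aeval f G = Λ * w := by
  classical
  have hterm : ∀ m ∈ G.support, ∃ w ∈ S, aeval f (monomial m (G.coeff m)) = Λ * w := by
    intro m hm
    obtain ⟨x, hxB, hx⟩ := hG m hm
    obtain ⟨u, hu, hfu⟩ := hB x hxB
    rw [aeval_monomial]
    have hxs : x ∈ m.support := Finsupp.mem_support_iff.mpr hx
    rw [← Finsupp.mul_prod_erase m x _ hxs]
    obtain ⟨k, hk⟩ : ∃ k, m x = k + 1 := ⟨m x - 1, by omega⟩
    rw [hk, pow_succ]
    refine ⟨algebraMap ℤ R (G.coeff m) * (f x ^ k * u * (m.erase x).prod fun y e => f y ^ e), ?_,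
      ?_⟩
    rotate_left
    · have e1 : f x ^ k * f x = f x ^ k * (Λ * u) := by rw [← hfu]
      rw [e1]
      ring
    apply S.mul_mem
    · rw [eq_intCast]
      exact intCast_mem S _
    · apply S.mul_mem (S.mul_mem (S.pow_mem (hf x) k) hu)
      rw [Finsupp.prod]
      exact S.prod_mem fun y _ => S.pow_mem (hf y) _
  have hsum : ∀ s : Finset (τ →₀ ℕ), s ⊆ G.support →
      ∃ w ∈ S, ∑ m ∈ s, aeval f (monomial m (G.coeff m)) = Λ * w := by
    intro s
    induction s using Finset.induction_on with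
    | empty =>
      intro _
      exact ⟨0, S.zero_mem, by simp⟩
    | insert a s ha ih =>
      intro hs
      obtain ⟨w₁, hw₁, e₁⟩ := hterm a (hs (mem_insert_self a s))
      obtain ⟨w₂, hw₂, e₂⟩ := ih (fun x hx => hs (mem_insert_of_mem hx))
      exact ⟨w₁ + w₂, S.add_mem hw₁ hw₂, by rw [Finset.sum_insert ha, e₁, e₂, mul_add]⟩
  obtain ⟨w, hw, e⟩ := hsum G.support (subset_refl _)
  refine ⟨w, hw, ?_⟩
  rw [← e]
  conv_lhs => rw [G.as_sum, map_sum]

end divmon

section main
variable {K : Type u} [CommRing K] [LambdaOps K] [BinomialRing K]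
  {R : Type w} [CommRing R] [LambdaOps R] [Algebra K R]
  (hKb : IsBinomial K) (hR : IsSpecial R) (hKR : IsLambdaAlg K R)
  (hP : ∀ n : ℕ, ∃ P : MvPolynomial (Fin n ⊕ Fin n) ℤ, IsMulPoly n P)
  (hQ : ∀ i j : ℕ, ∃ Q : MvPolynomial (Fin (i * j)) ℤ, IsCompPoly i j Q)

omit [LambdaOps K] [BinomialRing K] in
lemma lamNeg_mem (S : Subalgebra K R) (hS : ∀ r ∈ S, ∀ n : ℕ, LambdaOps.lam n r ∈ S) (d : ℕ)
    (N : R) (hNS : N ∈ S) : lamNeg d N ∈ S := by
  unfold lamNeg
  apply Subalgebra.sum_mem
  intro i _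
  exact S.mul_mem (S.pow_mem (S.neg_mem S.one_mem) _) (hS N hNS i)

include hKb hR hKR hP hQ in
/-- `λ^p(z · λ_{-1}(N))` is divisible by `λ_{-1}(N)`, with quotient in any sub-λ-algebra containing
`z` and `N` -/
theorem lam_mul_lamNeg (S : Subalgebra K R) (hS : ∀ r ∈ S, ∀ n : ℕ, LambdaOps.lam n r ∈ S)
    (d : ℕ) (N : R) (hNS : N ∈ S) (hN : ∀ k : ℕ, d < k → LambdaOps.lam k N = 0)
    (z : R) (hz : z ∈ S) (p : ℕ) (hp : 1 ≤ p) :
    ∃ w ∈ S, LambdaOps.lam p (z * lamNeg d N) = lamNeg d N * w := by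
  classical
  obtain ⟨P, hPp⟩ := hP p
  rw [hR.lam_mul p P hPp]
  have hΛS : lamNeg d N ∈ S := lamNeg_mem S hS d N hNS
  have hAdj : Adj K (fun _ : Unit => N) ≤ S := by
    apply Algebra.adjoin_le
    rintro _ ⟨⟨s, k⟩, rfl⟩
    exact hS N hNS _
  apply exists_mul_of_monomials S (lamNeg d N) _ _ (Set.range Sum.inr) _ P
  · intro m hm
    have hw := hPp.2 (mem_support_iff.mp hm)
    by_contra hcon
    push_neg at hcon
    have h2 := congrArg Prod.snd hw
    rw [Finsupp.weight_apply, Finsupp.sum, Prod.snd_sum] at h2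
    have h3 : ∑ c ∈ m.support, (m c • Sum.elim (fun k : Fin p => (((k : ℕ) + 1, 0) : ℕ × ℕ))
        (fun k : Fin p => ((0, (k : ℕ) + 1) : ℕ × ℕ)) c).2 = 0 := by
      apply Finset.sum_eq_zero
      rintro (k | k) _
      · simp
      · rw [hcon (Sum.inr k) ⟨k, rfl⟩]
        simp
    rw [h3] at h2
    simp only at h2
    omega
  · rintro (k | k)
    · exact hS z hz _
    · exact hS _ hΛS _
  · rintro _ ⟨k, rfl⟩
    obtain ⟨u, hu, e⟩ := lam_lamNeg hKb hR hKR hP hQ d N hN ((k : ℕ) + 1) (by omega)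
    exact ⟨u, hAdj hu, e⟩

include hKb hR hKR hP hQ in
/-- the same for the γ-operations -/
theorem gamma_mul_lamNeg (S : Subalgebra K R) (hS : ∀ r ∈ S, ∀ n : ℕ, LambdaOps.lam n r ∈ S)
    (d : ℕ) (N : R) (hNS : N ∈ S) (hN : ∀ k : ℕ, d < k → LambdaOps.lam k N = 0)
    (z : R) (hz : z ∈ S) (p : ℕ) (hp : 1 ≤ p) :
    ∃ w ∈ S, gamma p (z * lamNeg d N) = lamNeg d N * w := by
  classical
  unfold gamma
  rw [if_neg (by omega)]
  have hsum : ∀ s : Finset ℕ, ∃ w ∈ S, ∑ j ∈ s, ((Nat.choose (p - 1) (j - 1) : ℕ) : R) *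
      (if j = 0 then 0 else LambdaOps.lam j (z * lamNeg d N)) = lamNeg d N * w := by
    intro s
    induction s using Finset.induction_on with
    | empty => exact ⟨0, S.zero_mem, by simp⟩
    | insert a s ha ih =>
      obtain ⟨w₂, hw₂, e₂⟩ := ih
      by_cases ha0 : a = 0
      · refine ⟨w₂, hw₂, ?_⟩
        rw [Finset.sum_insert ha, e₂, if_pos ha0, mul_zero, zero_add]
      · obtain ⟨w₁, hw₁, e₁⟩ := lam_mul_lamNeg hKb hR hKR hP hQ S hS d N hNS hN z hz a (by omega)
        refine ⟨((Nat.choose (p - 1) (a - 1) : ℕ) : R) * w₁ + w₂,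
          S.add_mem (S.mul_mem (natCast_mem S _) hw₁) hw₂, ?_⟩
        rw [Finset.sum_insert ha, e₂, if_neg ha0, e₁]
        ring
  exact hsum _

end main

end Groth.Agent.Lib.Helper20.LD
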