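import Mathlib

namespace Groth.Agent.Lib.Helper20.LaurentCocycle

open AddMonoidAlgebra

theorem unit_eq_single {D G : Type*} [CommRing D] [IsDomain D] [AddCommGroup G] [TwoUniqueSums G]
    (f g : AddMonoidAlgebra D G) (hfg : f * g = 1) : ∃ n c, f = single n c := by
  classical
  have hf : f ≠ 0 := by
    rintro rfl
    rw [zero_mul] at hfg
    exact zero_ne_one hfg
  have hg : g ≠ 0 := by
    rintro rfl
    rw [mul_zero] at hfg
    exact zero_ne_one hfg
  have hfs : 0 < f.coeff.support.card := by
    rw [Finset.card_pos, Finsupp.support_nonempty_iff]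
    simpa using hf
  have hgs : 0 < g.coeff.support.card := by
    rw [Finset.card_pos, Finsupp.support_nonempty_iff]
    simpa using hg
  by_cases h : 1 < f.coeff.support.card * g.coeff.support.card
  · exfalso
    obtain ⟨p1, hp1, p2, hp2, hne, hu1, hu2⟩ := TwoUniqueSums.uniqueAdd_of_one_lt_card h
    rw [Finset.mem_product] at hp1 hp2
    have e1 := coeff_mul_add_of_uniqueAdd hu1
    have e2 := coeff_mul_add_of_uniqueAdd hu2
    rw [hfg] at e1 e2
    have n1 : f.coeff p1.1 * g.coeff p1.2 ≠ 0 :=
      mul_ne_zero (Finsupp.mem_support_iff.mp hp1.1) (Finsupp.mem_support_iff.mp hp1.2)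
    have n2 : f.coeff p2.1 * g.coeff p2.2 ≠ 0 :=
      mul_ne_zero (Finsupp.mem_support_iff.mp hp2.1) (Finsupp.mem_support_iff.mp hp2.2)
    rw [← e1] at n1
    rw [← e2] at n2
    have z1 : p1.1 + p1.2 = 0 := by
      by_contra hh
      apply n1
      rw [one_def, coeff_single, Finsupp.single_apply, if_neg (Ne.symm hh)]
    have z2 : p2.1 + p2.2 = 0 := by
      by_contra hh
      apply n2
      rw [one_def, coeff_single, Finsupp.single_apply, if_neg (Ne.symm hh)]
    have := hu1 hp2.1 hp2.2 (z2.trans z1.symm)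
    exact hne (Prod.ext this.1.symm this.2.symm)
  · have h1 : f.coeff.support.card = 1 := by
      have : f.coeff.support.card * g.coeff.support.card ≤ 1 := not_lt.mp h
      nlinarith
    obtain ⟨a, _, ha⟩ := Finsupp.card_support_eq_one.mp h1
    exact ⟨a, f.coeff a, by ext : 1; simpa using ha⟩

instance : TwoUniqueSums (Fin 2 → ℤ) := inferInstance

end Groth.Agent.Lib.Helper20.LaurentCocycle
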