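import Mathlib

namespace Groth.Agent.Lib.Helper20.LaurentCocycle

open AddMonoidAlgebra

variable (A : Type*) [CommRing A]

noncomputable abbrev M0 : (Fin 2 → ℤ) →+ (Fin 3 → ℤ) :=
  (Matrix.mulVecLin (!![0, 0; 1, 0; 0, 1] : Matrix (Fin 3) (Fin 2) ℤ)).toAddMonoidHom
noncomputable abbrev M1 : (Fin 2 → ℤ) →+ (Fin 3 → ℤ) :=
  (Matrix.mulVecLin (!![1, 0; 1, 0; 0, 1] : Matrix (Fin 3) (Fin 2) ℤ)).toAddMonoidHom
noncomputable abbrev M2 : (Fin 2 → ℤ) →+ (Fin 3 → ℤ) :=
  (Matrix.mulVecLin (!![1, 0; 0, 1; 0, 1] : Matrix (Fin 3) (Fin 2) ℤ)).toAddMonoidHom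
noncomputable abbrev M3 : (Fin 2 → ℤ) →+ (Fin 3 → ℤ) :=
  (Matrix.mulVecLin (!![1, 0; 0, 1; 0, 0] : Matrix (Fin 3) (Fin 2) ℤ)).toAddMonoidHom
noncomputable abbrev N0 : (Fin 1 → ℤ) →+ (Fin 2 → ℤ) :=
  (Matrix.mulVecLin (!![0; 1] : Matrix (Fin 2) (Fin 1) ℤ)).toAddMonoidHom
noncomputable abbrev N1 : (Fin 1 → ℤ) →+ (Fin 2 → ℤ) :=
  (Matrix.mulVecLin (!![1; 1] : Matrix (Fin 2) (Fin 1) ℤ)).toAddMonoidHom
noncomputable abbrev N2 : (Fin 1 → ℤ) →+ (Fin 2 → ℤ) :=
  (Matrix.mulVecLin (!![1; 0] : Matrix (Fin 2) (Fin 1) ℤ)).toAddMonoidHom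

theorem M0_apply (v : Fin 2 → ℤ) : M0 v = ![0, v 0, v 1] := by
  ext i; fin_cases i <;> simp [Matrix.mulVec, dotProduct, Fin.sum_univ_two]
theorem M1_apply (v : Fin 2 → ℤ) : M1 v = ![v 0, v 0, v 1] := by
  ext i; fin_cases i <;> simp [Matrix.mulVec, dotProduct, Fin.sum_univ_two]
theorem M2_apply (v : Fin 2 → ℤ) : M2 v = ![v 0, v 1, v 1] := by
  ext i; fin_cases i <;> simp [Matrix.mulVec, dotProduct, Fin.sum_univ_two]
theorem M3_apply (v : Fin 2 → ℤ) : M3 v = ![v 0, v 1, 0] := by
  ext i; fin_cases i <;> simp [Matrix.mulVec, dotProduct, Fin.sum_univ_two]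
theorem N0_apply (v : Fin 1 → ℤ) : N0 v = ![0, v 0] := by
  ext i; fin_cases i <;> simp [Matrix.mulVec, dotProduct]
theorem N1_apply (v : Fin 1 → ℤ) : N1 v = ![v 0, v 0] := by
  ext i; fin_cases i <;> simp [Matrix.mulVec, dotProduct]
theorem N2_apply (v : Fin 1 → ℤ) : N2 v = ![v 0, 0] := by
  ext i; fin_cases i <;> simp [Matrix.mulVec, dotProduct]

theorem coeff_mapDomain_of_leftInverse {G H : Type*} [AddCommGroup G] [AddCommGroup H]
    [DecidableEq H] (f : G →+ H) (g : H → G) (hgf : ∀ v, g (f v) = v)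
    (x : AddMonoidAlgebra A G) (w : H) :
    (AddMonoidAlgebra.mapDomainRingHom A f x).coeff w =
      if f (g w) = w then x.coeff (g w) else 0 := by
  have hinj : Function.Injective f := Function.LeftInverse.injective hgf
  rw [mapDomainRingHom_apply, coeff_mapDomain]
  split_ifs with h
  · have := Finsupp.mapDomain_apply hinj x.coeff (g w)
    rw [h] at this
    exact this
  · apply Finsupp.mapDomain_of_notMem_range
    rintro ⟨v, rfl⟩
    exact h (by rw [hgf])

noncomputable abbrev d0 := AddMonoidAlgebra.mapDomainRingHom A M0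
noncomputable abbrev d1 := AddMonoidAlgebra.mapDomainRingHom A M1
noncomputable abbrev d2 := AddMonoidAlgebra.mapDomainRingHom A M2
noncomputable abbrev d3 := AddMonoidAlgebra.mapDomainRingHom A M3
noncomputable abbrev e0 := AddMonoidAlgebra.mapDomainRingHom A N0
noncomputable abbrev e1 := AddMonoidAlgebra.mapDomainRingHom A N1
noncomputable abbrev e2 := AddMonoidAlgebra.mapDomainRingHom A N2

theorem d0_coeff (x : AddMonoidAlgebra A (Fin 2 → ℤ)) (w : Fin 3 → ℤ) :
    (d0 A x).coeff w = if w 0 = 0 then x.coeff ![w 1, w 2] else 0 := by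
  classical
  rw [coeff_mapDomain_of_leftInverse A M0 (fun w => ![w 1, w 2])
    (fun v => by rw [M0_apply]; ext i; fin_cases i <;> simp)]
  have : (M0 ![w 1, w 2] = w) ↔ w 0 = 0 := by
    rw [M0_apply]
    constructor
    · intro h; have := congrFun h 0; simpa using this.symm
    · intro h; ext i; fin_cases i <;> simp [h]
  simp only [this]

theorem d1_coeff (x : AddMonoidAlgebra A (Fin 2 → ℤ)) (w : Fin 3 → ℤ) :
    (d1 A x).coeff w = if w 0 = w 1 then x.coeff ![w 0, w 2] else 0 := by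
  classical
  rw [coeff_mapDomain_of_leftInverse A M1 (fun w => ![w 0, w 2])
    (fun v => by rw [M1_apply]; ext i; fin_cases i <;> simp)]
  have : (M1 ![w 0, w 2] = w) ↔ w 0 = w 1 := by
    rw [M1_apply]
    constructor
    · intro h; have := congrFun h 1; simpa using this
    · intro h; ext i; fin_cases i <;> simp [h]
  simp only [this]

theorem d2_coeff (x : AddMonoidAlgebra A (Fin 2 → ℤ)) (w : Fin 3 → ℤ) :
    (d2 A x).coeff w = if w 1 = w 2 then x.coeff ![w 0, w 1] else 0 := by
  classical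
  rw [coeff_mapDomain_of_leftInverse A M2 (fun w => ![w 0, w 1])
    (fun v => by rw [M2_apply]; ext i; fin_cases i <;> simp)]
  have : (M2 ![w 0, w 1] = w) ↔ w 1 = w 2 := by
    rw [M2_apply]
    constructor
    · intro h; have := congrFun h 2; simpa using this
    · intro h; ext i; fin_cases i <;> simp [h]
  simp only [this]

theorem d3_coeff (x : AddMonoidAlgebra A (Fin 2 → ℤ)) (w : Fin 3 → ℤ) :
    (d3 A x).coeff w = if w 2 = 0 then x.coeff ![w 0, w 1] else 0 := by
  classical
  rw [coeff_mapDomain_of_leftInverse A M3 (fun w => ![w 0, w 1])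
    (fun v => by rw [M3_apply]; ext i; fin_cases i <;> simp)]
  have : (M3 ![w 0, w 1] = w) ↔ w 2 = 0 := by
    rw [M3_apply]
    constructor
    · intro h; have := congrFun h 2; simpa using this.symm
    · intro h; ext i; fin_cases i <;> simp [h]
  simp only [this]

theorem e0_coeff (x : AddMonoidAlgebra A (Fin 1 → ℤ)) (w : Fin 2 → ℤ) :
    (e0 A x).coeff w = if w 0 = 0 then x.coeff ![w 1] else 0 := by
  classical
  rw [coeff_mapDomain_of_leftInverse A N0 (fun w => ![w 1])
    (fun v => by rw [N0_apply]; ext i; fin_cases i; simp)]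
  have : (N0 ![w 1] = w) ↔ w 0 = 0 := by
    rw [N0_apply]
    constructor
    · intro h; have := congrFun h 0; simpa using this.symm
    · intro h; ext i; fin_cases i <;> simp [h]
  simp only [this]

theorem e1_coeff (x : AddMonoidAlgebra A (Fin 1 → ℤ)) (w : Fin 2 → ℤ) :
    (e1 A x).coeff w = if w 0 = w 1 then x.coeff ![w 0] else 0 := by
  classical
  rw [coeff_mapDomain_of_leftInverse A N1 (fun w => ![w 0])
    (fun v => by rw [N1_apply]; ext i; fin_cases i; simp)]
  have : (N1 ![w 0] = w) ↔ w 0 = w 1 := by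
    rw [N1_apply]
    constructor
    · intro h; have := congrFun h 1; simpa using this
    · intro h; ext i; fin_cases i <;> simp [h]
  simp only [this]

theorem e2_coeff (x : AddMonoidAlgebra A (Fin 1 → ℤ)) (w : Fin 2 → ℤ) :
    (e2 A x).coeff w = if w 1 = 0 then x.coeff ![w 0] else 0 := by
  classical
  rw [coeff_mapDomain_of_leftInverse A N2 (fun w => ![w 0])
    (fun v => by rw [N2_apply]; ext i; fin_cases i; simp)]
  have : (N2 ![w 0] = w) ↔ w 1 = 0 := by
    rw [N2_apply]
    constructor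
    · intro h; have := congrFun h 1; simpa using this.symm
    · intro h; ext i; fin_cases i <;> simp [h]
  simp only [this]

/-- cosimplicial identities -/
theorem d1e0 (x : AddMonoidAlgebra A (Fin 1 → ℤ)) : d1 A (e0 A x) = d0 A (e0 A x) := by
  have : (d1 A).comp (e0 A) = (d0 A).comp (e0 A) := by
    rw [← mapDomainRingHom_comp, ← mapDomainRingHom_comp]
    congr 1
    ext v i
    simp only [AddMonoidHom.comp_apply, M1_apply, M0_apply, N0_apply]
    fin_cases i <;> simp
  exact congrArg (fun f => f x) this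
theorem d2e0 (x : AddMonoidAlgebra A (Fin 1 → ℤ)) : d2 A (e0 A x) = d0 A (e1 A x) := by
  have : (d2 A).comp (e0 A) = (d0 A).comp (e1 A) := by
    rw [← mapDomainRingHom_comp, ← mapDomainRingHom_comp]
    congr 1
    ext v i
    simp only [AddMonoidHom.comp_apply, M2_apply, M0_apply, N0_apply, N1_apply]
    fin_cases i <;> simp
  exact congrArg (fun f => f x) this
theorem d3e0 (x : AddMonoidAlgebra A (Fin 1 → ℤ)) : d3 A (e0 A x) = d0 A (e2 A x) := by
  have : (d3 A).comp (e0 A) = (d0 A).comp (e2 A) := by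
    rw [← mapDomainRingHom_comp, ← mapDomainRingHom_comp]
    congr 1
    ext v i
    simp only [AddMonoidHom.comp_apply, M3_apply, M0_apply, N0_apply, N2_apply]
    fin_cases i <;> simp
  exact congrArg (fun f => f x) this
theorem d2e1 (x : AddMonoidAlgebra A (Fin 1 → ℤ)) : d2 A (e1 A x) = d1 A (e1 A x) := by
  have : (d2 A).comp (e1 A) = (d1 A).comp (e1 A) := by
    rw [← mapDomainRingHom_comp, ← mapDomainRingHom_comp]
    congr 1
    ext v i
    simp only [AddMonoidHom.comp_apply, M2_apply, M1_apply, N1_apply]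
    fin_cases i <;> simp
  exact congrArg (fun f => f x) this
theorem d3e1 (x : AddMonoidAlgebra A (Fin 1 → ℤ)) : d3 A (e1 A x) = d1 A (e2 A x) := by
  have : (d3 A).comp (e1 A) = (d1 A).comp (e2 A) := by
    rw [← mapDomainRingHom_comp, ← mapDomainRingHom_comp]
    congr 1
    ext v i
    simp only [AddMonoidHom.comp_apply, M3_apply, M1_apply, N1_apply, N2_apply]
    fin_cases i <;> simp
  exact congrArg (fun f => f x) this
theorem d3e2 (x : AddMonoidAlgebra A (Fin 1 → ℤ)) : d3 A (e2 A x) = d2 A (e2 A x) := by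
  have : (d3 A).comp (e2 A) = (d2 A).comp (e2 A) := by
    rw [← mapDomainRingHom_comp, ← mapDomainRingHom_comp]
    congr 1
    ext v i
    simp only [AddMonoidHom.comp_apply, M3_apply, M2_apply, N2_apply]
    fin_cases i <;> simp
  exact congrArg (fun f => f x) this

end Groth.Agent.Lib.Helper20.LaurentCocycle
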