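import Groth.Agent.Lib.Helper20.LaurentCocycleB

namespace Groth.Agent.Lib.Helper20.LaurentCocycle

open AddMonoidAlgebra

variable (A : Type*) [CommRing A]

/-- elements with all coefficients in `J` -/
noncomputable def CI (G : Type*) [AddCommGroup G] (J : Ideal A) : Ideal (AddMonoidAlgebra A G) :=
  RingHom.ker (AddMonoidAlgebra.mapRingHom G (Ideal.Quotient.mk J))

variable {A}

theorem mem_CI {G : Type*} [AddCommGroup G] {J : Ideal A} {x : AddMonoidAlgebra A G} :
    x ∈ CI A G J ↔ ∀ g, x.coeff g ∈ J := by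
  rw [CI, RingHom.mem_ker]
  constructor
  · intro h g
    have := congrArg (fun y => y.coeff g) h
    simpa [Ideal.Quotient.eq_zero_iff_mem] using this
  · intro h
    ext g
    simp [Ideal.Quotient.eq_zero_iff_mem, h g]

theorem CI_mono {G : Type*} [AddCommGroup G] {I J : Ideal A} (hIJ : I ≤ J) :
    CI A G I ≤ CI A G J := by
  intro x hx
  rw [mem_CI] at hx ⊢
  exact fun g => hIJ (hx g)

theorem mul_mem_CI {G : Type*} [AddCommGroup G] {I J : Ideal A} {x y : AddMonoidAlgebra A G}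
    (hx : x ∈ CI A G I) (hy : y ∈ CI A G J) : x * y ∈ CI A G (I * J) := by
  classical
  rw [mem_CI] at hx hy ⊢
  intro g
  rw [coeff_mul, Finsupp.sum]
  refine Ideal.sum_mem _ fun a _ => ?_
  rw [Finsupp.sum]
  refine Ideal.sum_mem _ fun b _ => ?_
  split_ifs
  · exact Ideal.mul_mem_mul (hx a) (hy b)
  · exact zero_mem _

theorem pow_mem_CI {G : Type*} [AddCommGroup G] {J : Ideal A} {x : AddMonoidAlgebra A G}
    (hx : x ∈ CI A G J) (m : ℕ) : x ^ m ∈ CI A G (J ^ m) := by
  induction m with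
  | zero =>
    rw [pow_zero, pow_zero, Ideal.one_eq_top, mem_CI]
    exact fun _ => Submodule.mem_top
  | succ m ih =>
    rw [pow_succ, pow_succ]
    exact mul_mem_CI ih hx

theorem eq_zero_of_mem_CI_bot {G : Type*} [AddCommGroup G] {x : AddMonoidAlgebra A G}
    (hx : x ∈ CI A G ⊥) : x = 0 := by
  rw [mem_CI] at hx
  ext g
  simpa using hx g

theorem map_mem_CI {G H : Type*} [AddCommGroup G] [AddCommGroup H] (f : G →+ H) {J : Ideal A}
    {x : AddMonoidAlgebra A G} (hx : x ∈ CI A G J) :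
    AddMonoidAlgebra.mapDomainRingHom A f x ∈ CI A H J := by
  rw [CI, RingHom.mem_ker] at hx ⊢
  have := congrArg (fun φ => φ x)
    (AddMonoidAlgebra.mapRingHom_comp_mapDomainRingHom (Ideal.Quotient.mk J) f)
  simp only [RingHom.comp_apply] at this
  rw [this, hx, map_zero]

theorem isUnit_one_add_of_mem_CI {G : Type*} [AddCommGroup G] {J : Ideal A} {m : ℕ}
    (hJ : J ^ m = ⊥) {x : AddMonoidAlgebra A G} (hx : x ∈ CI A G J) : IsUnit (1 + x) := by
  apply IsNilpotent.isUnit_one_add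
  refine ⟨m, ?_⟩
  apply eq_zero_of_mem_CI_bot
  rw [← hJ]
  exact pow_mem_CI hx m

variable (A)

/-- the cocycle condition (on elements) -/
def Coc (z : AddMonoidAlgebra A (Fin 2 → ℤ)) : Prop :=
  d0 A z * d2 A z = d1 A z * d3 A z

/-- `z` is the coboundary of `h` (on elements) -/
def Cob (z : AddMonoidAlgebra A (Fin 2 → ℤ)) (h : AddMonoidAlgebra A (Fin 1 → ℤ)) : Prop :=
  z * e1 A h = e0 A h * e2 A h

variable {A}

theorem Coc.mul {z z' : AddMonoidAlgebra A (Fin 2 → ℤ)} (h : Coc A z) (h' : Coc A z') :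
    Coc A (z * z') := by
  unfold Coc at *
  simp only [map_mul]
  linear_combination (d0 A z' * d2 A z') * h + (d1 A z * d3 A z) * h'

theorem Cob.mul {z z' : AddMonoidAlgebra A (Fin 2 → ℤ)} {h h' : AddMonoidAlgebra A (Fin 1 → ℤ)}
    (hc : Cob A z h) (hc' : Cob A z' h') : Cob A (z * z') (h * h') := by
  unfold Cob at *
  simp only [map_mul]
  linear_combination (z' * e1 A h') * hc + (e0 A h * e2 A h) * hc'

theorem coc_of_cob {w : AddMonoidAlgebra A (Fin 2 → ℤ)} {h : AddMonoidAlgebra A (Fin 1 → ℤ)}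
    (hc : Cob A w h) (hu : IsUnit h) : Coc A w := by
  unfold Cob at hc
  unfold Coc
  have h0 := congrArg (d0 A) hc
  have h1 := congrArg (d1 A) hc
  have h2 := congrArg (d2 A) hc
  have h3 := congrArg (d3 A) hc
  simp only [map_mul] at h0 h1 h2 h3
  rw [d1e0] at h1
  rw [d2e0, d2e1] at h2
  rw [d3e0, d3e1, d3e2] at h3
  have hU : IsUnit (d0 A (e1 A h) * d1 A (e1 A h) * d1 A (e2 A h)) :=
    ((hu.map (e1 A)).map (d0 A)).mul ((hu.map (e1 A)).map (d1 A)) |>.mul
      ((hu.map (e2 A)).map (d1 A))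
  apply hU.mul_left_injective
  show d0 A w * d2 A w * _ = d1 A w * d3 A w * _
  linear_combination (d2 A w * d1 A (e1 A h) * d1 A (e2 A h)) * h0
    + (d0 A (e0 A h) * d0 A (e2 A h) * d1 A (e2 A h)) * h2
    - (d3 A w * d1 A (e2 A h) * d0 A (e1 A h)) * h1
    - (d0 A (e0 A h) * d1 A (e2 A h) * d0 A (e1 A h)) * h3

end Groth.Agent.Lib.Helper20.LaurentCocycle
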