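import Groth.Agent.Lib.Helper20.LaurentCocycleC

namespace Groth.Agent.Lib.Helper20.LaurentCocycle

open AddMonoidAlgebra

variable {A : Type*} [CommRing A]

theorem N1_injective : Function.Injective (N1 : (Fin 1 → ℤ) →+ (Fin 2 → ℤ)) := by
  intro v w h
  rw [N1_apply, N1_apply] at h
  have := congrFun h 0
  ext i
  fin_cases i
  simpa using this

/-- the correcting element -/
noncomputable def corr (ν : AddMonoidAlgebra A (Fin 2 → ℤ)) : AddMonoidAlgebra A (Fin 1 → ℤ) :=
  -(AddMonoidAlgebra.comapDomain N1 N1_injective ν) +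
    AddMonoidAlgebra.single 0 (ν.coeff ![0, 0] + ν.coeff ![0, 0])

theorem corr_coeff (ν : AddMonoidAlgebra A (Fin 2 → ℤ)) (a : ℤ) :
    (corr ν).coeff ![a] = if a = 0 then ν.coeff ![0, 0] else -ν.coeff ![a, a] := by
  have h1 : (N1 : (Fin 1 → ℤ) →+ (Fin 2 → ℤ)) ![a] = ![a, a] := by rw [N1_apply]; simp
  have h2 : ((0 : Fin 1 → ℤ) = ![a]) ↔ a = 0 := by
    constructor
    · intro h; have := congrFun h 0; simpa using this.symm
    · intro h; ext i; fin_cases i; simp [h]
  simp only [corr, coeff_add, coeff_neg, coeff_comapDomain, coeff_single, Finsupp.add_apply,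
    Finsupp.neg_apply, Finsupp.comapDomain_apply, Finsupp.single_apply, h1, h2]
  split_ifs with h
  · subst h; ring
  · ring

theorem corr_mem {J : Ideal A} {ν : AddMonoidAlgebra A (Fin 2 → ℤ)}
    (hν : ν ∈ CI A (Fin 2 → ℤ) J) : corr ν ∈ CI A (Fin 1 → ℤ) J := by
  rw [mem_CI] at hν ⊢
  intro g
  have hg : g = ![g 0] := by ext i; fin_cases i; rfl
  rw [hg, corr_coeff]
  split_ifs
  · exact hν _
  · exact neg_mem (hν _)

/-- the additive relation coming from the cocycle condition -/
theorem rel_of_coc {J : Ideal A} {z : AddMonoidAlgebra A (Fin 2 → ℤ)} (hz : Coc A z)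
    (hzJ : z - 1 ∈ CI A (Fin 2 → ℤ) J) (a b c : ℤ) :
    (if a = 0 then (z - 1).coeff ![b, c] else 0) - (if a = b then (z - 1).coeff ![a, c] else 0)
      + (if b = c then (z - 1).coeff ![a, b] else 0)
      - (if c = 0 then (z - 1).coeff ![a, b] else 0) ∈ J ^ 2 := by
  set ν := z - 1 with hν
  have hz' : z = 1 + ν := by rw [hν]; ring
  unfold Coc at hz
  rw [hz'] at hz
  simp only [map_add, map_one] at hz
  have hmem : d0 A ν - d1 A ν + d2 A ν - d3 A ν ∈ CI A (Fin 3 → ℤ) (J ^ 2) := by
    have e : d0 A ν - d1 A ν + d2 A ν - d3 A ν = d1 A ν * d3 A ν - d0 A ν * d2 A ν := by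
      linear_combination hz
    rw [e, pow_two]
    exact sub_mem (mul_mem_CI (map_mem_CI _ hzJ) (map_mem_CI _ hzJ))
      (mul_mem_CI (map_mem_CI _ hzJ) (map_mem_CI _ hzJ))
  rw [mem_CI] at hmem
  have := hmem ![a, b, c]
  simp only [coeff_sub, coeff_add, Finsupp.sub_apply, Finsupp.add_apply, d0_coeff, d1_coeff,
    d2_coeff, d3_coeff] at this
  simp only [Matrix.cons_val_zero, Matrix.cons_val_one, Matrix.cons_val] at this
  exact this

theorem key {J : Ideal A} {z : AddMonoidAlgebra A (Fin 2 → ℤ)} (hz : Coc A z)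
    (hzJ : z - 1 ∈ CI A (Fin 2 → ℤ) J) :
    (z - 1) - e0 A (corr (z - 1)) + e1 A (corr (z - 1)) - e2 A (corr (z - 1))
      ∈ CI A (Fin 2 → ℤ) (J ^ 2) := by
  have R := rel_of_coc hz hzJ
  set ν := z - 1 with hν
  rw [mem_CI]
  intro w
  have hw : w = ![w 0, w 1] := by ext i; fin_cases i <;> rfl
  generalize w 0 = a at hw
  generalize w 1 = b at hw
  subst hw
  simp only [coeff_sub, coeff_add, Finsupp.sub_apply, Finsupp.add_apply, e0_coeff, e1_coeff,
    e2_coeff, corr_coeff]
  simp only [Matrix.cons_val_zero, Matrix.cons_val_one]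
  by_cases ha : a = 0
  · by_cases hb : b = 0
    · subst ha hb
      simp
    · subst ha
      have := R 0 b b
      have hb' : ¬ (0 = b) := fun h => hb h.symm
      simp only [hb, hb', if_true, if_false] at this ⊢
      convert this using 1
      ring
  · by_cases hb : b = 0
    · subst hb
      have := R a a 0
      simp only [ha, if_true, if_false] at this ⊢
      have h2 := neg_mem this
      convert h2 using 1
      ring
    · by_cases hab : a = b
      · subst hab
        simp [ha]
      · have := R a b b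
        simp only [ha, hb, hab, if_true, if_false] at this ⊢
        convert this using 1
        ring

end Groth.Agent.Lib.Helper20.LaurentCocycle
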