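import Groth.Agent.Lib.Helper20.LaurentCocycleD

namespace Groth.Agent.Lib.Helper20.LaurentCocycle

open AddMonoidAlgebra

variable {A : Type*} [CommRing A]

theorem step {J : Ideal A} {m : ℕ} (hJ : J ^ m = ⊥) {z : AddMonoidAlgebra A (Fin 2 → ℤ)}
    (hz : Coc A z) (hzJ : z - 1 ∈ CI A (Fin 2 → ℤ) J) :
    ∃ h : AddMonoidAlgebra A (Fin 1 → ℤ), IsUnit h ∧ ∃ z' : AddMonoidAlgebra A (Fin 2 → ℤ),
      Coc A z' ∧ z' - 1 ∈ CI A (Fin 2 → ℤ) (J ^ 2) ∧ z * e1 A h = z' * (e0 A h * e2 A h) := by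
  have K := key hz hzJ
  set ν := z - 1 with hν
  have hzν : z = 1 + ν := by rw [hν]; ring
  set e := corr ν with he
  have heJ : e ∈ CI A (Fin 1 → ℤ) J := corr_mem hzJ
  have hu : IsUnit (1 + e) := isUnit_one_add_of_mem_CI hJ heJ
  obtain ⟨h', hh'⟩ := hu.exists_right_inv
  have hu' : IsUnit h' := IsUnit.of_mul_eq_one_right (1 + e) hh'
  have p0 : e0 A (1 + e) * e0 A h' = 1 := by rw [← map_mul, hh', map_one]
  have p1 : e1 A (1 + e) * e1 A h' = 1 := by rw [← map_mul, hh', map_one]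
  have p2 : e2 A (1 + e) * e2 A h' = 1 := by rw [← map_mul, hh', map_one]
  have hx : e0 A e ∈ CI A (Fin 2 → ℤ) J := map_mem_CI _ heJ
  have hy : e1 A e ∈ CI A (Fin 2 → ℤ) J := map_mem_CI _ heJ
  have ht : e2 A e ∈ CI A (Fin 2 → ℤ) J := map_mem_CI _ heJ
  have key2 : z * e1 A (1 + e) - e0 A (1 + e) * e2 A (1 + e) ∈ CI A (Fin 2 → ℤ) (J ^ 2) := by
    have : z * e1 A (1 + e) - e0 A (1 + e) * e2 A (1 + e)
        = (ν - e0 A e + e1 A e - e2 A e) + (ν * e1 A e - e0 A e * e2 A e) := by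
      simp only [map_add, map_one]
      rw [hzν]
      ring
    rw [this]
    refine add_mem K (sub_mem ?_ ?_)
    · rw [pow_two]; exact mul_mem_CI hzJ hy
    · rw [pow_two]; exact mul_mem_CI hx ht
  refine ⟨1 + e, hu, z * (e1 A (1 + e) * (e0 A h' * e2 A h')), ?_, ?_, ?_⟩
  · refine hz.mul (coc_of_cob (h := h') ?_ hu')
    unfold Cob
    linear_combination (e0 A h' * e2 A h') * p1
  · have : z * (e1 A (1 + e) * (e0 A h' * e2 A h')) - 1
        = (z * e1 A (1 + e) - e0 A (1 + e) * e2 A (1 + e)) * (e0 A h' * e2 A h') := by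
      linear_combination (e2 A (1 + e) * e2 A h') * p0 + p2
    rw [this]
    exact Ideal.mul_mem_right _ _ key2
  · linear_combination (-(z * e1 A (1 + e)) * (e2 A (1 + e) * e2 A h')) * p0
      - (z * e1 A (1 + e)) * p2

theorem exists_cob_of_nilpotent : ∀ (k : ℕ) (J : Ideal A), J ^ (2 ^ k) = ⊥ →
    ∀ z : AddMonoidAlgebra A (Fin 2 → ℤ), Coc A z → z - 1 ∈ CI A (Fin 2 → ℤ) J →
    ∃ h : AddMonoidAlgebra A (Fin 1 → ℤ), IsUnit h ∧ Cob A z h := by
  intro k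
  induction k with
  | zero =>
    intro J hJ z _ hzJ
    rw [pow_zero, pow_one] at hJ
    rw [hJ] at hzJ
    have hz1 : z = 1 := by
      have := eq_zero_of_mem_CI_bot hzJ
      exact sub_eq_zero.mp this
    refine ⟨1, isUnit_one, ?_⟩
    unfold Cob
    rw [hz1]
    simp only [map_one, mul_one]
  | succ k ih =>
    intro J hJ z hz hzJ
    obtain ⟨h₁, hu₁, z', hz', hz'J, hrel⟩ := step hJ hz hzJ
    have hJ2 : (J ^ 2) ^ (2 ^ k) = ⊥ := by
      rw [← pow_mul, ← pow_succ']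
      exact hJ
    obtain ⟨h₂, hu₂, hc⟩ := ih (J ^ 2) hJ2 z' hz' hz'J
    refine ⟨h₁ * h₂, hu₁.mul hu₂, ?_⟩
    unfold Cob at hc ⊢
    simp only [map_mul]
    linear_combination (e1 A h₂) * hrel + (e0 A h₁ * e2 A h₁) * hc

end Groth.Agent.Lib.Helper20.LaurentCocycle
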