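import Groth.Agent.Lib.Helper20.LaurentCocycleA
import Groth.Agent.Lib.Helper20.LaurentCocycleE

namespace Groth.Agent.Lib.Helper20.LaurentCocycle

open AddMonoidAlgebra

/-- over a domain, a unit cocycle is a nonzero constant -/
theorem coc_domain {D : Type*} [CommRing D] [IsDomain D]
    (z z' : AddMonoidAlgebra D (Fin 2 → ℤ)) (hzz' : z * z' = 1) (hz : Coc D z) :
    ∃ c : D, c ≠ 0 ∧ z = single 0 c := by
  obtain ⟨n, c, rfl⟩ := unit_eq_single z z' hzz'
  have hc : c ≠ 0 := by
    rintro rfl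
    rw [single_zero, zero_mul] at hzz'
    exact zero_ne_one hzz'
  refine ⟨c, hc, ?_⟩
  unfold Coc at hz
  simp only [mapDomainRingHom_apply, mapDomain_single, single_mul_single] at hz
  rw [single_left_inj (mul_ne_zero hc hc)] at hz
  rw [M0_apply, M1_apply, M2_apply, M3_apply] at hz
  have h0 := congrFun hz 0
  have h2 := congrFun hz 2
  simp at h0 h2
  have : n = 0 := by
    ext i
    fin_cases i
    · simpa using h0
    · simpa using h2
  rw [this]

variable {A : Type*} [CommRing A]

theorem Coc.map {B : Type*} [CommRing B] (φ : A →+* B) {z : AddMonoidAlgebra A (Fin 2 → ℤ)}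
    (hz : Coc A z) : Coc B (mapRingHom (Fin 2 → ℤ) φ z) := by
  unfold Coc at *
  have c0 := congrArg (fun f => f z) (mapRingHom_comp_mapDomainRingHom φ M0)
  have c1 := congrArg (fun f => f z) (mapRingHom_comp_mapDomainRingHom φ M1)
  have c2 := congrArg (fun f => f z) (mapRingHom_comp_mapDomainRingHom φ M2)
  have c3 := congrArg (fun f => f z) (mapRingHom_comp_mapDomainRingHom φ M3)
  simp only [RingHom.comp_apply] at c0 c1 c2 c3
  rw [← c0, ← c1, ← c2, ← c3, ← map_mul, ← map_mul, hz]

theorem coeff_of_coc (z z' : AddMonoidAlgebra A (Fin 2 → ℤ)) (hzz' : z * z' = 1)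
    (hz : Coc A z) :
    IsUnit (z.coeff 0) ∧ ∀ n, n ≠ 0 → z.coeff n ∈ nilradical A := by
  have key : ∀ P : Ideal A, P.IsPrime → z.coeff 0 ∉ P ∧ ∀ n, n ≠ 0 → z.coeff n ∈ P := by
    intro P hP
    have h1 : mapRingHom (Fin 2 → ℤ) (Ideal.Quotient.mk P) z *
        mapRingHom (Fin 2 → ℤ) (Ideal.Quotient.mk P) z' = 1 := by
      rw [← map_mul, hzz', map_one]
    obtain ⟨c, hc, hzc⟩ := coc_domain _ _ h1 (hz.map (Ideal.Quotient.mk P))
    have hcoef : ∀ n, Ideal.Quotient.mk P (z.coeff n) = (single (0 : Fin 2 → ℤ) c).coeff n := by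
      intro n
      rw [← hzc, coeff_mapRingHom]
    constructor
    · intro hmem
      have := hcoef 0
      rw [Ideal.Quotient.eq_zero_iff_mem.mpr hmem] at this
      simp at this
      exact hc this.symm
    · intro n hn
      have := hcoef n
      rw [coeff_single, Finsupp.single_apply, if_neg (Ne.symm hn)] at this
      exact Ideal.Quotient.eq_zero_iff_mem.mp this
  constructor
  · by_contra hnu
    obtain ⟨M, hM, hmem⟩ := exists_max_ideal_of_mem_nonunits hnu
    exact (key M hM.isPrime).1 hmem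
  · intro n hn
    rw [nilradical_eq_sInf, Ideal.mem_sInf]
    intro P hP
    exact (key P hP).2 n hn

theorem coc_const (c : A) : Coc A (single 0 c) := by
  unfold Coc
  simp only [mapDomainRingHom_apply, mapDomain_single, map_zero]

theorem cob_const (c : A) : Cob A (single 0 c) (single 0 c) := by
  unfold Cob
  simp only [mapDomainRingHom_apply, mapDomain_single, map_zero]

theorem main_elem (z z' : AddMonoidAlgebra A (Fin 2 → ℤ)) (hzz' : z * z' = 1)
    (hz : Coc A z) : ∃ h : AddMonoidAlgebra A (Fin 1 → ℤ), IsUnit h ∧ Cob A z h := by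
  obtain ⟨hu0, hnil⟩ := coeff_of_coc z z' hzz' hz
  obtain ⟨c', hc'⟩ := hu0.exists_right_inv
  set c := z.coeff 0 with hc
  set z₁ := z * single 0 c' with hz₁
  have hz₁c : Coc A z₁ := hz.mul (coc_const c')
  have hcoef : ∀ n, (z₁ - 1).coeff n ∈ nilradical A := by
    intro n
    rw [coeff_sub, Finsupp.sub_apply, hz₁, coeff_mul_single_zero]
    by_cases hn : n = 0
    · subst hn
      rw [← hc, hc', coeff_one_zero, sub_self]
      exact zero_mem _
    · rw [one_def, coeff_single, Finsupp.single_apply, if_neg (Ne.symm hn), sub_zero]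
      exact Ideal.mul_mem_right _ _ (hnil n hn)
  set J : Ideal A := Ideal.span (Set.range (z₁ - 1).coeff) with hJ
  have hfg : J.FG := by
    refine ⟨(Finsupp.finite_range (z₁ - 1).coeff).toFinset, ?_⟩
    rw [Set.Finite.coe_toFinset]
  have hle : J ≤ nilradical A := by
    rw [hJ, Ideal.span_le]
    rintro _ ⟨n, rfl⟩
    exact hcoef n
  obtain ⟨m, hm⟩ := (Ideal.FG.isNilpotent_iff_le_nilradical hfg).mpr hle
  have hJ2 : J ^ (2 ^ m) = ⊥ := by
    rw [eq_bot_iff]
    calc J ^ (2 ^ m) ≤ J ^ m := Ideal.pow_le_pow_right Nat.lt_two_pow_self.le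
      _ = ⊥ := by rw [hm, Ideal.zero_eq_bot]
  have hzJ : z₁ - 1 ∈ CI A (Fin 2 → ℤ) J := by
    rw [mem_CI]
    intro g
    exact Ideal.subset_span ⟨g, rfl⟩
  obtain ⟨h₁, hu₁, hcob⟩ := exists_cob_of_nilpotent m J hJ2 z₁ hz₁c hzJ
  refine ⟨h₁ * single 0 c, hu₁.mul ?_, ?_⟩
  · refine IsUnit.of_mul_eq_one (single 0 c') ?_
    rw [single_mul_single, hc', zero_add]
    rfl
  · have : z = z₁ * single 0 c := by
      rw [hz₁, mul_assoc, single_mul_single, mul_comm c' c, hc', zero_add]
      change z = z * 1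
      rw [mul_one]
    rw [this]
    exact hcob.mul (cob_const c)

end Groth.Agent.Lib.Helper20.LaurentCocycle
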