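import Mathlib

/-! # The locus where a section over the punctured disc extends over the disc is closed. -/

namespace Groth.Agent.Lib.Helper20.LaurentExt

open HahnSeries PowerSeries LaurentSeries

universe u

section coeffwise
variable {R R' : Type*} [CommRing R] [CommRing R'] (φ : R →+* R') (θ : R⸨X⸩ →+* R'⸨X⸩)
  (hθ : θ.comp (algebraMap R⟦X⟧ R⸨X⸩) = (algebraMap R'⟦X⟧ R'⸨X⸩).comp (PowerSeries.map φ))

include hθ

lemma θ_ofPowerSeries (g : R⟦X⟧) :
    θ (ofPowerSeries ℤ R g) = ofPowerSeries ℤ R' (PowerSeries.map φ g) := by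
  have := congrArg (fun h : R⟦X⟧ →+* R'⸨X⸩ => h g) hθ
  simpa using this

lemma θ_single_nat (m : ℕ) : θ (single (m : ℤ) (1 : R)) = single (m : ℤ) (1 : R') := by
  rw [← ofPowerSeries_X_pow, θ_ofPowerSeries φ θ hθ, map_pow, PowerSeries.map_X,
    ofPowerSeries_X_pow]

lemma θ_single (m : ℤ) : θ (single m (1 : R)) = single m (1 : R') := by
  rcases le_total 0 m with h | h
  · obtain ⟨k, rfl⟩ := Int.eq_ofNat_of_zero_le h
    exact θ_single_nat φ θ hθ k
  · obtain ⟨k, hk⟩ := Int.eq_ofNat_of_zero_le (neg_nonneg.mpr h)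
    have h1 : (single m (1 : R)) * single (k : ℤ) (1 : R) = 1 := by
      rw [single_mul_single, ← hk, add_neg_cancel, mul_one]; rfl
    have h2 : θ (single m (1 : R)) * single (k : ℤ) (1 : R') = 1 := by
      rw [← θ_single_nat φ θ hθ k, ← map_mul, h1, map_one]
    have h3 : (single (k : ℤ) (1 : R')) * single m (1 : R') = 1 := by
      rw [single_mul_single, ← hk, neg_add_cancel, mul_one]; rfl
    calc θ (single m (1 : R)) = θ (single m (1 : R)) * (single (k : ℤ) (1 : R') * single m 1) := by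
          rw [h3, mul_one]
      _ = single m 1 := by rw [← mul_assoc, h2, one_mul]

lemma θ_coeff (f : R⸨X⸩) (n : ℤ) : (θ f).coeff n = φ (f.coeff n) := by
  conv_lhs => rw [← LaurentSeries.single_order_mul_powerSeriesPart f]
  rw [map_mul, θ_single φ θ hθ, θ_ofPowerSeries φ θ hθ]
  have hn : n = (n - f.order) + f.order := by ring
  rw [hn, coeff_single_mul_add, one_mul, ← hn, PowerSeries.coeff_coe]
  split_ifs with hlt
  · rw [coeff_eq_zero_of_lt_order (by omega), map_zero]
  · rw [PowerSeries.coeff_map, LaurentSeries.powerSeriesPart_coeff]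
    congr 2
    omega

end coeffwise

lemma eq_ofPowerSeries_of_coeff_neg {R' : Type*} [CommRing R'] (y : R'⸨X⸩)
    (hy : ∀ n : ℤ, n < 0 → y.coeff n = 0) :
    y = ofPowerSeries ℤ R' (PowerSeries.mk fun n : ℕ => y.coeff n) := by
  ext n
  rw [PowerSeries.coeff_coe]
  split_ifs with h
  · exact hy n h
  · rw [PowerSeries.coeff_mk]
    congr 1
    omega

theorem main (R : Type u) [CommRing R]
    (B : Type u) [CommRing B] [Algebra R⟦X⟧ B]
    (s : B →ₐ[R⟦X⟧] R⸨X⸩) :
    ∃ I : Ideal R, ∀ (R' : Type u) [CommRing R'] (φ : R →+* R') (θ : R⸨X⸩ →+* R'⸨X⸩),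
      θ.comp (algebraMap R⟦X⟧ R⸨X⸩) = (algebraMap R'⟦X⟧ R'⸨X⸩).comp (PowerSeries.map φ) →
      ((∃ s' : B →+* R'⟦X⟧, s'.comp (algebraMap R⟦X⟧ B) = PowerSeries.map φ ∧
          (algebraMap R'⟦X⟧ R'⸨X⸩).comp s' = θ.comp s.toRingHom) ↔ I ≤ RingHom.ker φ) := by
  refine ⟨Ideal.span {c | ∃ (b : B) (n : ℤ), n < 0 ∧ c = (s b).coeff n}, ?_⟩
  intro R' _ φ θ hθ
  constructor
  · rintro ⟨s', -, hs'⟩
    rw [Ideal.span_le]
    rintro _ ⟨b, n, hn, rfl⟩
    rw [SetLike.mem_coe, RingHom.mem_ker, ← θ_coeff φ θ hθ]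
    have := congrArg (fun h : B →+* R'⸨X⸩ => h b) hs'
    simp only [RingHom.comp_apply, LaurentSeries.coe_algebraMap] at this
    have h2 : θ (s b) = ofPowerSeries ℤ R' (s' b) := this.symm
    rw [h2, PowerSeries.coeff_coe, if_pos hn]
  · intro hI
    have hneg : ∀ (b : B) (n : ℤ), n < 0 → (θ (s b)).coeff n = 0 := by
      intro b n hn
      rw [θ_coeff φ θ hθ]
      exact hI (Ideal.subset_span ⟨b, n, hn, rfl⟩)
    let g : B → R'⟦X⟧ := fun b => PowerSeries.mk fun n : ℕ => (θ (s b)).coeff n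
    have hg : ∀ b, ofPowerSeries ℤ R' (g b) = θ (s b) := fun b =>
      (eq_ofPowerSeries_of_coeff_neg _ (hneg b)).symm
    have hinj := ofPowerSeries_injective (Γ := ℤ) (R := R')
    let s' : B →+* R'⟦X⟧ :=
      { toFun := g
        map_one' := hinj (by rw [hg, map_one, map_one, map_one])
        map_mul' := fun x y => hinj (by rw [hg, map_mul, map_mul, map_mul, hg, hg])
        map_zero' := hinj (by rw [hg, map_zero, map_zero, map_zero])
        map_add' := fun x y => hinj (by rw [hg, map_add, map_add, map_add, hg, hg]) }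
    refine ⟨s', ?_, ?_⟩
    · ext1 x
      apply hinj
      show ofPowerSeries ℤ R' (g (algebraMap R⟦X⟧ B x)) = _
      rw [hg, s.commutes]
      exact θ_ofPowerSeries φ θ hθ x
    · ext1 b
      exact hg b

end Groth.Agent.Lib.Helper20.LaurentExt
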