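import Mathlib

namespace Groth.Agent.Lib.Helper20.LimComplete

open Finset

universe u v

variable {A : Type u} [CommRing A] (I : Ideal A)

/-- decomposition of elements of `span (range g) • N` -/
theorem exists_decomp {L : Type v} [AddCommGroup L] [Module A L] {t : ℕ} (g : Fin t → A)
    (N : Submodule A L) (x : L) (hx : x ∈ Ideal.span (Set.range g) • N) :
    ∃ z : Fin t → L, (∀ j, z j ∈ N) ∧ x = ∑ j, g j • z j := by
  refine Submodule.smul_induction_on (p := fun x => ∃ z : Fin t → L, (∀ j, z j ∈ N) ∧
    x = ∑ j, g j • z j) hx ?_ ?_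
  · intro r hr y hy
    obtain ⟨c, hc⟩ := Ideal.mem_span_range_iff_exists_fun.1 hr
    refine ⟨fun j => c j • y, fun j => N.smul_mem _ hy, ?_⟩
    rw [← hc, Finset.sum_smul]
    refine Finset.sum_congr rfl fun j _ => ?_
    rw [smul_smul, mul_comm]
  · rintro x y ⟨z, hz, rfl⟩ ⟨z', hz', rfl⟩
    refine ⟨fun j => z j + z' j, fun j => N.add_mem (hz j) (hz' j), ?_⟩
    rw [← Finset.sum_add_distrib]
    refine Finset.sum_congr rfl fun j _ => ?_
    rw [smul_add]

variable (M : ℕ → Type v) [∀ n, AddCommGroup (M n)] [∀ n, Module A (M n)]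
  (f : ∀ n, M (n + 1) →ₗ[A] M n)
  (hkill : ∀ n, I ^ (n + 1) • (⊤ : Submodule A (M n)) = ⊥)
  (L : Type v) [AddCommGroup L] [Module A L] (π : ∀ n, L →ₗ[A] M n)
  (hπ : ∀ n, f n ∘ₗ π (n + 1) = π n)
  (hinj : ∀ x : L, (∀ n, π n x = 0) → x = 0)
  (hlift : ∀ y : (∀ n, M n), (∀ n, f n (y (n + 1)) = y n) → ∃ x : L, ∀ n, π n x = y n)

include hkill in
theorem π_eq_zero (n m : ℕ) (hnm : n + 1 ≤ m) (x : L)
    (hx : x ∈ I ^ m • (⊤ : Submodule A L)) : π n x = 0 := by
  have hx' : x ∈ I ^ (n + 1) • (⊤ : Submodule A L) :=
    Submodule.smul_mono_left (Ideal.pow_le_pow_right hnm) hx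
  have : π n x ∈ I ^ (n + 1) • (⊤ : Submodule A (M n)) := by
    refine Submodule.smul_induction_on (p := fun x => π n x ∈
      I ^ (n + 1) • (⊤ : Submodule A (M n))) hx' ?_ ?_
    · intro r hr y _
      rw [map_smul]
      exact Submodule.smul_mem_smul hr Submodule.mem_top
    · intro x y hx hy
      rw [map_add]
      exact Submodule.add_mem _ hx hy
  rw [hkill n] at this
  exact (Submodule.mem_bot A).1 this

/-- Cauchy difference control -/
theorem sub_mem_of_step (u : ℕ → L) (hu : ∀ i, u (i + 1) - u i ∈ I ^ i • (⊤ : Submodule A L))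
    (i m : ℕ) (him : i ≤ m) : u m - u i ∈ I ^ i • (⊤ : Submodule A L) := by
  induction m with
  | zero =>
    have : i = 0 := by omega
    subst this
    rw [sub_self]
    exact Submodule.zero_mem _
  | succ m ih =>
    rcases Nat.lt_or_ge i (m + 1) with h | h
    · have h1 := ih (by omega)
      have h2 : u (m + 1) - u m ∈ I ^ i • (⊤ : Submodule A L) :=
        Submodule.smul_mono_left (Ideal.pow_le_pow_right (by omega)) (hu m)
      have : u (m + 1) - u i = (u (m + 1) - u m) + (u m - u i) := by abel
      rw [this]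
      exact Submodule.add_mem _ h2 h1
    · have : i = m + 1 := by omega
      subst this
      rw [sub_self]
      exact Submodule.zero_mem _

include hkill hπ hlift in
/-- limits of Cauchy sequences in the limit topology -/
theorem exists_lim (u : ℕ → L) (hu : ∀ i, u (i + 1) - u i ∈ I ^ i • (⊤ : Submodule A L)) :
    ∃ w : L, ∀ i m, i + 1 ≤ m → π i w = π i (u m) := by
  have hstab : ∀ i m, i + 1 ≤ m → π i (u m) = π i (u (i + 1)) := by
    intro i m him
    have h1 := sub_mem_of_step I L u hu (i + 1) m him
    have h2 := π_eq_zero I M hkill L π i (i + 1) le_rfl _ h1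
    rw [map_sub, sub_eq_zero] at h2
    exact h2
  obtain ⟨w, hw⟩ := hlift (fun i => π i (u (i + 1))) (by
    intro i
    have h1 : f i (π (i + 1) (u (i + 1 + 1))) = π i (u (i + 1 + 1)) := by
      rw [← hπ i]
      rfl
    rw [h1]
    exact hstab i (i + 1 + 1) (by omega))
  refine ⟨w, fun i m him => ?_⟩
  rw [hw i, hstab i m him]

include hkill hπ hinj hlift in
theorem result' (hI : I.FG) : IsAdicComplete I L := by
  have haus : IsHausdorff I L := by
    refine ⟨fun x hx => hinj x fun n => ?_⟩
    have h1 := hx (n + 1)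
    rw [SModEq.zero] at h1
    exact π_eq_zero I M hkill L π n (n + 1) le_rfl x h1
  have prec : IsPrecomplete I L := by
    refine ⟨fun x hx => ?_⟩
    have hstep : ∀ i, x (i + 1) - x i ∈ I ^ i • (⊤ : Submodule A L) := by
      intro i
      have := (hx (Nat.le_succ i)).symm
      rw [SModEq.sub_mem] at this
      exact this
    obtain ⟨xinf, hxinf⟩ := exists_lim I M f hkill L π hπ hlift x hstep
    refine ⟨xinf, fun n => ?_⟩
    rw [SModEq.sub_mem]
    -- generators of `I ^ n`
    obtain ⟨t, g, hg⟩ := Submodule.fg_iff_exists_fin_generating_family.1 (hI.pow (n := n))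
    have hgmem : ∀ j, g j ∈ I ^ n := fun j => by
      rw [← hg]
      exact Submodule.subset_span ⟨j, rfl⟩
    -- decompose the steps
    have hdec : ∀ i, ∃ z : Fin t → L, (∀ j, z j ∈ I ^ i • (⊤ : Submodule A L)) ∧
        x (n + i + 1) - x (n + i) = ∑ j, g j • z j := by
      intro i
      have h1 := hstep (n + i)
      rw [pow_add, Submodule.mul_smul] at h1
      have hg' : Ideal.span (Set.range g) = I ^ n := hg
      rw [← hg'] at h1
      exact exists_decomp g _ _ h1
    choose z hz hzsum using hdec
    -- partial sums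
    have hlim : ∀ j, ∃ w : L, ∀ i m, i + 1 ≤ m →
        π i w = π i (∑ i' ∈ Finset.range m, z i' j) := by
      intro j
      refine exists_lim I M f hkill L π hπ hlift (fun m => ∑ i' ∈ Finset.range m, z i' j) ?_
      intro i
      rw [Finset.sum_range_succ, add_sub_cancel_left]
      exact hz i j
    choose w hw using hlim
    have htel : ∀ i, x (n + i) - x n = ∑ j, g j • ∑ i' ∈ Finset.range i, z i' j := by
      intro i
      induction i with
      | zero => simp
      | succ i ih =>
        have : x (n + (i + 1)) - x n = (x (n + i + 1) - x (n + i)) + (x (n + i) - x n) := by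
          rw [← add_assoc]
          abel
        rw [this, ih, hzsum i, ← Finset.sum_add_distrib]
        refine Finset.sum_congr rfl fun j _ => ?_
        rw [Finset.sum_range_succ, smul_add, add_comm]
    have hkey : xinf - x n = ∑ j, g j • w j := by
      rw [← sub_eq_zero]
      apply hinj
      intro i
      rw [map_sub, sub_eq_zero, map_sub, hxinf i (n + (i + 1)) (by omega), ← map_sub,
        htel (i + 1), map_sum, map_sum]
      refine Finset.sum_congr rfl fun j _ => ?_
      rw [map_smul, map_smul, hw j i (i + 1) le_rfl]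
    have : x n - xinf = -(xinf - x n) := by abel
    rw [this, hkey]
    refine Submodule.neg_mem _ (Submodule.sum_mem _ fun j _ => ?_)
    exact Submodule.smul_mem_smul (hgmem j) Submodule.mem_top
  exact { haus with prec' := prec.prec' }

end Groth.Agent.Lib.Helper20.LimComplete
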