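import Mathlib

namespace Groth.Agent.Lib.Helper20.LocRingCrit2

variable {R S : Type*} [CommRing R] [CommRing S] (f : R →+* S) (q : Ideal S) [q.IsPrime]

/-- criterion for `R_p → S_q` to be bijective, with denominators -/
theorem bijective_localRingHom
    (hinj : ∀ a : R, (∃ u : S, u ∉ q ∧ u * f a = 0) → ∃ s : R, s ∉ q.comap f ∧ s * a = 0)
    (hsurj : ∀ b : S, ∃ a s : R, s ∉ q.comap f ∧ ∃ w : S, w ∉ q ∧ w * (f s * b - f a) = 0) :
    Function.Bijective (Localization.localRingHom (q.comap f) q f rfl) := by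
  constructor
  · rw [injective_iff_map_eq_zero]
    intro z hz
    obtain ⟨a, s, rfl⟩ := IsLocalization.exists_mk'_eq (q.comap f).primeCompl z
    rw [Localization.localRingHom_mk', IsLocalization.mk'_eq_zero_iff] at hz
    obtain ⟨⟨u, hu⟩, hua⟩ := hz
    obtain ⟨s', hs', hs'a⟩ := hinj a ⟨u, hu, hua⟩
    rw [IsLocalization.mk'_eq_zero_iff]
    exact ⟨⟨s', hs'⟩, hs'a⟩
  · intro z
    obtain ⟨b, v, rfl⟩ := IsLocalization.exists_mk'_eq q.primeCompl z
    obtain ⟨a1, s1, hs1, w1, hw1, h1⟩ := hsurj b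
    obtain ⟨a2, s2, hs2, w2, hw2, h2⟩ := hsurj (v : S)
    have hv : (v : S) ∉ q := v.2
    have e1 : w1 * (f s1 * b) = w1 * f a1 := by
      rw [← sub_eq_zero, ← mul_sub]
      exact h1
    have e2 : w2 * (f s2 * (v : S)) = w2 * f a2 := by
      rw [← sub_eq_zero, ← mul_sub]
      exact h2
    have hs2' : f s2 ∉ q := hs2
    have hs1' : f s1 ∉ q := hs1
    have ha2 : a2 ∉ q.comap f := by
      intro ha
      have ha' : f a2 ∈ q := ha
      have : w2 * (f s2 * (v : S)) ∈ q := e2 ▸ q.mul_mem_left w2 ha'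
      rcases (‹q.IsPrime›.mem_or_mem this) with h | h
      · exact hw2 h
      · rcases (‹q.IsPrime›.mem_or_mem h) with h | h
        · exact hs2' h
        · exact hv h
    have hden : s1 * a2 ∉ q.comap f := (Ideal.comap_isPrime f q).mul_notMem hs1 ha2
    refine ⟨IsLocalization.mk' _ (a1 * s2) (⟨s1 * a2, hden⟩ : (q.comap f).primeCompl), ?_⟩
    rw [Localization.localRingHom_mk', IsLocalization.mk'_eq_iff_eq, IsLocalization.eq_iff_exists
      q.primeCompl]
    refine ⟨⟨w1 * w2, q.primeCompl.mul_mem hw1 hw2⟩, ?_⟩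
    simp only [map_mul]
    calc w1 * w2 * ((v : S) * (f a1 * f s2)) = (w1 * f a1) * (w2 * (f s2 * (v : S))) := by ring
      _ = (w1 * (f s1 * b)) * (w2 * f a2) := by rw [e2, e1]
      _ = w1 * w2 * (f s1 * f a2 * b) := by ring

end Groth.Agent.Lib.Helper20.LocRingCrit2
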