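import Mathlib
import Groth.Prelude.Def_PBC
import Groth.Agent.Lib.Helper20.LocRingCrit2
import Groth.Agent.Lib.Helper9.IndEt3

namespace Groth.Agent.Lib.Helper20.LocIsoId

open CategoryTheory CategoryTheory.Limits

universe u

section LocalIso

variable (A S : Type u) [CommRing A] [CommRing S] [Algebra A S]

/-- data extracted from a local isomorphism at a prime -/
theorem exists_data [Algebra.IsLocalIso A S] (q : Ideal S) [q.IsPrime] :
    ∃ (g : S) (r : A), g ∉ q ∧ algebraMap A S r ∉ q ∧
      (∀ b : S, ∃ (n k : ℕ) (a : A), g ^ k * (algebraMap A S (r ^ n) * b - algebraMap A S a) = 0) ∧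
      (∀ a : A, (∃ k : ℕ, g ^ k * algebraMap A S a = 0) → ∃ m : ℕ, r ^ m * a = 0) := by
  obtain ⟨g, hg, hstd⟩ := Algebra.IsLocalIso.exists_notMem_isStandardOpenImmersion (R := A) q
  obtain ⟨r, hr⟩ := hstd.exists_away
  let Sg := Localization.Away g
  have hdisj : Disjoint (Submonoid.powers g : Set S) (q : Set S) := by
    rw [Set.disjoint_left]
    rintro _ ⟨n, rfl⟩ hq
    exact hg (‹q.IsPrime›.mem_of_pow_mem n hq)
  refine ⟨g, r, hg, ?_, ?_, ?_⟩
  · intro hrq
    -- `r` is a unit in `Sg`, but `q Sg` is a proper ideal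
    have hprime := IsLocalization.isPrime_of_isPrime_disjoint (Submonoid.powers g) Sg q
      ‹q.IsPrime› hdisj
    have hmem : algebraMap S Sg (algebraMap A S r) ∈ Ideal.map (algebraMap S Sg) q :=
      Ideal.mem_map_of_mem _ hrq
    have hunit : IsUnit (algebraMap S Sg (algebraMap A S r)) := by
      rw [← IsScalarTower.algebraMap_apply A S Sg]
      exact IsLocalization.Away.algebraMap_isUnit r
    exact hprime.ne_top (Ideal.eq_top_of_isUnit_mem _ hmem hunit)
  · intro b
    obtain ⟨n, a, ha⟩ := IsLocalization.Away.surj r (algebraMap S Sg b)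
    have h1 : algebraMap S Sg (algebraMap A S (r ^ n) * b) = algebraMap S Sg (algebraMap A S a) := by
      rw [map_mul, ← IsScalarTower.algebraMap_apply A S Sg, ← IsScalarTower.algebraMap_apply A S Sg,
        map_pow, mul_comm]
      exact ha
    rw [IsLocalization.eq_iff_exists (Submonoid.powers g)] at h1
    obtain ⟨⟨_, k, rfl⟩, hk⟩ := h1
    refine ⟨n, k, a, ?_⟩
    simp only at hk
    rw [mul_sub, hk, sub_self]
  · rintro a ⟨k, hk⟩
    have h1 : algebraMap A Sg a = 0 := by
      rw [IsScalarTower.algebraMap_apply A S Sg]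
      have h2 : algebraMap S Sg (g ^ k * algebraMap A S a) = 0 := by rw [hk, map_zero]
      rw [map_mul] at h2
      have hu : IsUnit (algebraMap S Sg (g ^ k)) := by
        rw [map_pow]
        exact (IsLocalization.Away.algebraMap_isUnit g).pow k
      exact (hu.mul_right_eq_zero).mp h2
    have h3 : algebraMap A Sg a = algebraMap A Sg 0 := by rw [h1, map_zero]
    rw [IsLocalization.eq_iff_exists (Submonoid.powers r)] at h3
    obtain ⟨⟨_, m, rfl⟩, hm⟩ := h3
    exact ⟨m, by simpa using hm⟩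

theorem stage_inj [Algebra.IsLocalIso A S] (q : Ideal S) [q.IsPrime] (a : A)
    (h : ∃ u : S, u ∉ q ∧ u * algebraMap A S a = 0) :
    ∃ s : A, s ∉ q.comap (algebraMap A S) ∧ s * a = 0 := by
  obtain ⟨g, r, hg, hr, hsurj, hinj⟩ := exists_data A S q
  have hrp : ∀ n : ℕ, r ^ n ∉ q.comap (algebraMap A S) := by
    intro n h
    exact hr ((Ideal.comap_isPrime (algebraMap A S) q).mem_of_pow_mem n h)
  have hgk : ∀ k : ℕ, g ^ k ∉ q := fun k h => hg (‹q.IsPrime›.mem_of_pow_mem k h)
  obtain ⟨u, hu, hua⟩ := h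
  obtain ⟨n, k, au, hau⟩ := hsurj u
  have h2 : g ^ k * (algebraMap A S (r ^ n) * u) = g ^ k * algebraMap A S au := by
    rw [← sub_eq_zero, ← mul_sub]
    exact hau
  have h1 : g ^ k * algebraMap A S (au * a) = 0 := by
    calc g ^ k * algebraMap A S (au * a) = (g ^ k * algebraMap A S au) * algebraMap A S a := by
          rw [map_mul]; ring
      _ = (g ^ k * (algebraMap A S (r ^ n) * u)) * algebraMap A S a := by rw [h2]
      _ = g ^ k * algebraMap A S (r ^ n) * (u * algebraMap A S a) := by ring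
      _ = 0 := by rw [hua, mul_zero]
  obtain ⟨m, hm⟩ := hinj (au * a) ⟨k, h1⟩
  refine ⟨r ^ m * au, ?_, by rw [mul_assoc]; exact hm⟩
  refine (Ideal.comap_isPrime (algebraMap A S) q).mul_notMem (hrp m) ?_
  intro hau'
  have hau'' : algebraMap A S au ∈ q := hau'
  have h3 : g ^ k * (algebraMap A S (r ^ n) * u) ∈ q := h2 ▸ q.mul_mem_left _ hau''
  rcases ‹q.IsPrime›.mem_or_mem h3 with h | h
  · exact hgk k h
  · rcases ‹q.IsPrime›.mem_or_mem h with h | h
    · exact hrp n h
    · exact hu h

theorem stage_surj [Algebra.IsLocalIso A S] (q : Ideal S) [q.IsPrime] (b : S) :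
    ∃ a s : A, s ∉ q.comap (algebraMap A S) ∧
      ∃ w : S, w ∉ q ∧ w * (algebraMap A S s * b - algebraMap A S a) = 0 := by
  obtain ⟨g, r, hg, hr, hsurj, hinj⟩ := exists_data A S q
  have hrp : ∀ n : ℕ, r ^ n ∉ q.comap (algebraMap A S) := by
    intro n h
    exact hr ((Ideal.comap_isPrime (algebraMap A S) q).mem_of_pow_mem n h)
  have hgk : ∀ k : ℕ, g ^ k ∉ q := fun k h => hg (‹q.IsPrime›.mem_of_pow_mem k h)
  obtain ⟨n, k, a, ha⟩ := hsurj b
  exact ⟨a, r ^ n, hrp n, g ^ k, hgk k, ha⟩

theorem identifiesLocalRings_of_isLocalIso [Algebra.IsLocalIso A S] :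
    EtPBC.IdentifiesLocalRings A S := by
  intro q
  apply LocRingCrit2.bijective_localRingHom
  · exact fun a h => stage_inj A S q.asIdeal a h
  · exact fun b => stage_surj A S q.asIdeal b

end LocalIso

section Ind

variable (A B : Type u) [CommRing A] [CommRing B] [Algebra A B]

theorem identifiesLocalRings_of_isIndZariski (h : EtPBC.IsIndZariski A B) :
    EtPBC.IdentifiesLocalRings A B := by
  obtain ⟨J, hJ, hJf, D, c, hc, hloc, ⟨e⟩⟩ := h
  letI : ∀ j, Algebra A (D.obj j).right := fun j => (D.obj j).hom.hom.toAlgebra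
  haveI : ∀ j, Algebra.IsLocalIso A (D.obj j).right := hloc
  let φ : ∀ j, (D.obj j).right →+* B := fun j => ((c.ι.app j).right ≫ e.hom.right).hom
  have hφA : ∀ j (a : A), φ j (algebraMap A _ a) = algebraMap A B a := by
    intro j a
    have h1 := congrArg (fun g => g.hom a) (Under.w (c.ι.app j ≫ e.hom))
    exact h1
  have hφt : ∀ {j j' : J} (a : j ⟶ j') (x : (D.obj j).right),
      φ j' ((D.map a).right.hom x) = φ j x := by
    intro j j' a x
    have h1 := congrArg (fun g => g.right.hom x) (c.w a)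
    show e.hom.right.hom ((c.ι.app j').right.hom ((D.map a).right.hom x)) =
      e.hom.right.hom ((c.ι.app j).right.hom x)
    exact congrArg e.hom.right.hom h1
  have hDA : ∀ {j j' : J} (a : j ⟶ j') (r : A),
      (D.map a).right.hom (algebraMap A (D.obj j).right r) = algebraMap A (D.obj j').right r := by
    intro j j' a r
    exact congrArg (fun g => g.hom r) (Under.w (D.map a))
  have einj : Function.Injective e.hom.right.hom := by
    intro x y hxy
    have := congrArg e.inv.right.hom hxy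
    have h2 : ∀ z, e.inv.right.hom (e.hom.right.hom z) = z := fun z =>
      congrArg (fun g => g.right.hom z) e.hom_inv_id
    rwa [h2, h2] at this
  have esurj : Function.Surjective e.hom.right.hom := by
    intro y
    exact ⟨e.inv.right.hom y, congrArg (fun g => g.right.hom y) e.inv_hom_id⟩
  have hsurjφ : ∀ b : B, ∃ j x, φ j x = b := by
    intro b
    obtain ⟨y, rfl⟩ := esurj b
    obtain ⟨j, x, hx⟩ := Groth.Agent.Lib.Helper9.IndEt.colim_surj D c hc y
    exact ⟨j, x, congrArg e.hom.right.hom hx⟩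
  have hinjφ : ∀ j (x : (D.obj j).right), φ j x = 0 →
      ∃ (j' : J) (a : j ⟶ j'), (D.map a).right.hom x = 0 := by
    intro j x hx
    have : (c.ι.app j).right.hom x = (c.ι.app j).right.hom 0 := by
      apply einj
      rw [map_zero, map_zero]
      exact hx
    obtain ⟨j', a, ha⟩ := Groth.Agent.Lib.Helper9.IndEt.colim_inj D c hc j x 0 this
    exact ⟨j', a, ha.trans (map_zero _)⟩
  intro q
  have hqj : ∀ j, (q.asIdeal.comap (φ j)).IsPrime := fun j => Ideal.comap_isPrime _ _
  have hp : ∀ j (s : A), s ∉ (q.asIdeal.comap (φ j)).comap (algebraMap A (D.obj j).right) →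
      s ∉ q.asIdeal.comap (algebraMap A B) := by
    intro j s hs hs'
    apply hs
    show φ j (algebraMap A _ s) ∈ q.asIdeal
    rw [hφA]
    exact hs'
  apply LocRingCrit2.bijective_localRingHom
  · rintro a ⟨u, hu, hua⟩
    obtain ⟨j, uj, rfl⟩ := hsurjφ u
    have h0 : φ j (uj * algebraMap A _ a) = 0 := by rw [map_mul, hφA]; exact hua
    obtain ⟨j', t, ht⟩ := hinjφ j _ h0
    rw [map_mul, hDA] at ht
    have hu' : (D.map t).right.hom uj ∉ q.asIdeal.comap (φ j') := by
      intro h
      apply hu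
      have h' : φ j' ((D.map t).right.hom uj) ∈ q.asIdeal := h
      rwa [hφt] at h'
    obtain ⟨s, hs, hsa⟩ := stage_inj A (D.obj j').right (q.asIdeal.comap (φ j')) a
      ⟨_, hu', ht⟩
    exact ⟨s, hp j' s hs, hsa⟩
  · intro b
    obtain ⟨j, bj, rfl⟩ := hsurjφ b
    obtain ⟨a, s, hs, w, hw, hwb⟩ := stage_surj A (D.obj j).right (q.asIdeal.comap (φ j)) bj
    refine ⟨a, s, hp j s hs, φ j w, hw, ?_⟩
    have := congrArg (φ j) hwb
    rw [map_mul, map_sub, map_mul, hφA, hφA, map_zero] at this
    exact this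

end Ind

end Groth.Agent.Lib.Helper20.LocIsoId
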