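import Mathlib.RingTheory.Localization.Away.Basic
import Mathlib.Algebra.Polynomial.Derivative
import Mathlib.LinearAlgebra.Charpoly.Basic
import Mathlib.Algebra.Polynomial.RingDivision
import Mathlib.RingTheory.Coprime.Lemmas
import Mathlib.Algebra.Polynomial.Div
import Mathlib.Analysis.Complex.Basic

/-!
# Logarithmic connections on the affine line: polar parts (helper20)
-/

set_option autoImplicit false

namespace Groth.Agent.Lib.Helper20.LogConn

open Polynomial

section Basic

variable {R : Type*} [CommRing R] {d : ℕ}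

/-- decomposition of a vector of polynomials into monomial pieces -/
lemma vec_eq_sum (g : Fin d → R[X]) :
    ∃ N : ℕ, g = ∑ n ∈ Finset.range N, (X ^ n : R[X]) • (fun j => C ((g j).coeff n)) ∧
      ∀ j, (g j).natDegree < N := by
  refine ⟨Finset.univ.sup (fun j => (g j).natDegree) + 1, ?_, ?_⟩
  · funext j
    have hj : (g j).natDegree < Finset.univ.sup (fun j => (g j).natDegree) + 1 :=
      Nat.lt_succ_of_le (Finset.le_sup (f := fun j => (g j).natDegree) (Finset.mem_univ j))
    rw [Finset.sum_apply]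
    conv_lhs => rw [Polynomial.as_sum_range_C_mul_X_pow' (g j) hj]
    refine Finset.sum_congr rfl fun n _ => ?_
    simp only [Pi.smul_apply, smul_eq_mul]
    ring
  · intro j
    exact Nat.lt_succ_of_le (Finset.le_sup (f := fun j => (g j).natDegree) (Finset.mem_univ j))

lemma eval_D₀ (Θ : R[X]) (D₀ : (Fin d → R[X]) →+ (Fin d → R[X]))
    (hD₀ : ∀ (p : R[X]) (v : Fin d → R[X]),
      D₀ (p • v) = (Θ * Polynomial.derivative p) • v + p • D₀ v)
    (a : R) (ha : Θ.eval a = 0) (c : R) (Res : (Fin d → R) →ₗ[R] (Fin d → R))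
    (hRes : ∀ (m : Fin d → R) (j : Fin d),
      (D₀ (fun j => Polynomial.C (m j)) j).eval a = c * Res m j)
    (g : Fin d → R[X]) (j : Fin d) :
    (D₀ g j).eval a = c * Res (fun j' => (g j').eval a) j := by
  obtain ⟨N, hg, hN⟩ := vec_eq_sum g
  have h1 : (D₀ g j).eval a =
      ∑ n ∈ Finset.range N, a ^ n * (c * Res (fun j' => (g j').coeff n) j) := by
    conv_lhs => rw [hg]
    rw [map_sum, Finset.sum_apply, Polynomial.eval_finsetSum]
    refine Finset.sum_congr rfl fun n _ => ?_
    rw [hD₀]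
    simp only [Pi.add_apply, Pi.smul_apply, smul_eq_mul, Polynomial.eval_add, Polynomial.eval_mul,
      ha, zero_mul, zero_add, Polynomial.eval_pow, Polynomial.eval_X]
    rw [hRes]
  have h2 : (fun j' => (g j').eval a) =
      ∑ n ∈ Finset.range N, a ^ n • (fun j' => (g j').coeff n) := by
    funext j'
    rw [Finset.sum_apply, Polynomial.eval_eq_sum_range' (hN j')]
    refine Finset.sum_congr rfl fun n _ => ?_
    simp only [Pi.smul_apply, smul_eq_mul]
    ring
  rw [h1, h2, map_sum, Finset.sum_apply, Finset.mul_sum]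
  refine Finset.sum_congr rfl fun n _ => ?_
  rw [map_smul, Pi.smul_apply, smul_eq_mul]
  ring

/-- `T - a` is invertible when the characteristic polynomial of `T` is a unit at `a` -/
lemma exists_inverse_sub (T : (Fin d → R) →ₗ[R] (Fin d → R)) (a : R)
    (h : IsUnit (T.charpoly.eval a)) :
    ∃ S : (Fin d → R) →ₗ[R] (Fin d → R),
      (∀ m, S (T m - a • m) = m) ∧ (∀ m, T (S m) - a • S m = m) := by
  obtain ⟨Q, hQ⟩ := Polynomial.X_sub_C_dvd_sub_C_eval (p := T.charpoly) (a := a)
  obtain ⟨u, hu⟩ := h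
  have h1 := congrArg (Polynomial.aeval T) hQ
  rw [map_sub, LinearMap.aeval_self_charpoly, Polynomial.aeval_C, map_mul, map_sub,
    Polynomial.aeval_X, Polynomial.aeval_C, zero_sub] at h1
  have h2 : Polynomial.aeval T Q * (T - algebraMap R _ a) =
      (T - algebraMap R _ a) * Polynomial.aeval T Q := by
    have := congrArg (Polynomial.aeval T) (mul_comm Q (X - C a))
    rwa [map_mul, map_mul, map_sub, Polynomial.aeval_X, Polynomial.aeval_C] at this
  refine ⟨-(↑u⁻¹ : R) • Polynomial.aeval T Q, ?_, ?_⟩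
  · intro m
    have := congrArg (fun f : Module.End R (Fin d → R) => f m) (h2.trans h1.symm)
    simp only [Module.End.mul_apply, LinearMap.sub_apply, Module.algebraMap_end_apply,
      LinearMap.neg_apply] at this
    rw [LinearMap.smul_apply, this, ← hu, smul_neg, neg_smul, neg_neg, smul_smul, Units.inv_mul,
      one_smul]
  · intro m
    have := congrArg (fun f : Module.End R (Fin d → R) => f m) h1.symm
    simp only [Module.End.mul_apply, LinearMap.sub_apply, Module.algebraMap_end_apply,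
      LinearMap.neg_apply] at this
    rw [LinearMap.smul_apply, map_smul, smul_comm a, ← smul_sub, this, ← hu, smul_neg, neg_smul,
      neg_neg, smul_smul, Units.inv_mul, one_smul]

end Basic

section Theta

variable {R : Type*} [CommRing R] {r : ℕ} (θ : Fin r → R)

lemma eval_Θ (i : Fin r) : (∏ i, (X - C (θ i)) : R[X]).eval (θ i) = 0 := by
  rw [Polynomial.eval_prod]
  exact Finset.prod_eq_zero (Finset.mem_univ i) (by simp)

lemma eval_derivative_Θ (i : Fin r) :
    (Polynomial.derivative (∏ i, (X - C (θ i)) : R[X])).eval (θ i) =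
      ∏ k ∈ Finset.univ.erase i, (θ i - θ k) := by
  classical
  rw [Polynomial.derivative_prod_finset, Polynomial.eval_finsetSum, Finset.sum_eq_single i]
  · simp [Polynomial.eval_prod]
  · intro k _ hki
    rw [Polynomial.eval_mul, Polynomial.eval_prod]
    rw [Finset.prod_eq_zero (i := i) (Finset.mem_erase.mpr ⟨fun h => hki h.symm, Finset.mem_univ i⟩)
      (by simp), zero_mul]
  · intro h; exact absurd (Finset.mem_univ i) h

lemma Θ_dvd (hθ : ∀ i k, i ≠ k → IsUnit (θ i - θ k)) (p : R[X])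
    (hp : ∀ i, p.eval (θ i) = 0) : (∏ i, (X - C (θ i)) : R[X]) ∣ p := by
  apply Finset.prod_dvd_of_coprime
  · intro i _ k _ hik
    exact Polynomial.isCoprime_X_sub_C_of_isUnit_sub (hθ i k hik)
  · intro i _
    rw [Polynomial.dvd_iff_isRoot]
    exact hp i

lemma isUnit_c (hθ : ∀ i k, i ≠ k → IsUnit (θ i - θ k)) (i : Fin r) :
    IsUnit (∏ k ∈ Finset.univ.erase i, (θ i - θ k)) := by
  rw [IsUnit.prod_iff]
  intro k hk
  exact hθ i k (Finset.ne_of_mem_erase hk).symm

/-- Lagrange-type interpolation at the points `θ i` -/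
lemma exists_interp (hθ : ∀ i k, i ≠ k → IsUnit (θ i - θ k)) (u : Fin r → R) :
    ∃ m : R[X], ∀ i, m.eval (θ i) = u i := by
  classical
  choose cinv hcinv using fun i => (isUnit_c θ hθ i).exists_right_inv
  refine ⟨∑ i, C (u i * cinv i) * ∏ k ∈ Finset.univ.erase i, (X - C (θ k)), ?_⟩
  intro i'
  rw [Polynomial.eval_finsetSum, Finset.sum_eq_single i']
  · rw [Polynomial.eval_mul, Polynomial.eval_C, Polynomial.eval_prod]
    simp only [Polynomial.eval_sub, Polynomial.eval_X, Polynomial.eval_C]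
    rw [mul_assoc, mul_comm (cinv i'), hcinv i', mul_one]
  · intro i _ hii'
    rw [Polynomial.eval_mul, Polynomial.eval_prod,
      Finset.prod_eq_zero (i := i') (Finset.mem_erase.mpr ⟨fun h => hii' h.symm, Finset.mem_univ i'⟩)
        (by simp), mul_zero]
  · intro h; exact absurd (Finset.mem_univ i') h

end Theta

section Main

variable {R : Type*} [CommRing R] [IsDomain R] {d r : ℕ} (θ : Fin r → R)
  (hθ : ∀ i k, i ≠ k → IsUnit (θ i - θ k))
  (Θ : R[X]) (hΘ : Θ = ∏ i, (X - C (θ i)))
  (D₀ : (Fin d → R[X]) →+ (Fin d → R[X]))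
  (hD₀ : ∀ (p : R[X]) (v : Fin d → R[X]),
      D₀ (p • v) = (Θ * Polynomial.derivative p) • v + p • D₀ v)
  (D : (Fin d → Localization.Away Θ) →+ (Fin d → Localization.Away Θ))
  (hD : ∀ (p : R[X]) (w : Fin d → Localization.Away Θ),
      D (p • w) = (Θ * Polynomial.derivative p) • w + p • D w)
  (hDD₀ : ∀ v : Fin d → R[X],
      D (fun j => algebraMap R[X] (Localization.Away Θ) (v j)) =
        fun j => algebraMap R[X] (Localization.Away Θ) (D₀ v j))
  (Res : Fin r → ((Fin d → R) →ₗ[R] (Fin d → R)))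
  (hRes : ∀ (i : Fin r) (m : Fin d → R) (j : Fin d),
      (D₀ (fun j => Polynomial.C (m j)) j).eval (θ i) =
        (∏ k ∈ Finset.univ.erase i, (θ i - θ k)) * Res i m j)
  (hunit : ∀ (i : Fin r) (N : ℕ), 1 ≤ N → IsUnit ((Res i).charpoly.eval (N : R)))

/-- the inclusion of polynomial vectors -/
noncomputable def ι (Θ : R[X]) (v : Fin d → R[X]) : Fin d → Localization.Away Θ :=
  fun j => algebraMap R[X] (Localization.Away Θ) (v j)

omit [IsDomain R] in
lemma ι_smul (p : R[X]) (v : Fin d → R[X]) : ι Θ (p • v) = p • ι Θ v := by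
  funext j
  simp only [ι, Pi.smul_apply, smul_eq_mul, map_mul, Algebra.smul_def]

omit [IsDomain R] in
lemma ι_add (v v' : Fin d → R[X]) : ι Θ (v + v') = ι Θ v + ι Θ v' := by
  funext j; simp only [ι, Pi.add_apply, map_add]

omit [IsDomain R] in
lemma ι_sub (v v' : Fin d → R[X]) : ι Θ (v - v') = ι Θ v - ι Θ v' := by
  funext j; simp only [ι, Pi.sub_apply, map_sub]

include hΘ in
lemma Θ_ne_zero : Θ ≠ 0 := by
  rw [hΘ]
  exact (Polynomial.monic_prod_of_monic _ _ fun i _ => Polynomial.monic_X_sub_C (θ i)).ne_zero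

include hΘ in
lemma ι_injective : Function.Injective (ι (d := d) Θ) := by
  intro v v' h
  funext j
  have := congrFun h j
  exact IsLocalization.injective (Localization.Away Θ)
    (powers_le_nonZeroDivisors_of_noZeroDivisors (Θ_ne_zero θ Θ hΘ)) this

omit [IsDomain R] in
lemma smul_Θ_injective (w w' : Fin d → Localization.Away Θ) (h : Θ • w = Θ • w') : w = w' := by
  funext j
  have := congrFun h j
  simp only [Pi.smul_apply, Algebra.smul_def] at this
  exact (IsLocalization.Away.algebraMap_isUnit Θ).mul_left_cancel this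

omit [IsDomain R] in
include hD hDD₀ in
/-- the basic computation `Θ^N • D w = ι (D₀ g) - (N Θ') • ι g` when `Θ^N • w = ι g` -/
lemma step (N : ℕ) (w : Fin d → Localization.Away Θ) (g : Fin d → R[X])
    (hw : (Θ ^ N) • w = ι Θ g) :
    ι Θ (D₀ g) = (C (N : R) * Polynomial.derivative Θ) • ι Θ g + (Θ ^ N) • D w := by
  have h1 : D (ι Θ g) = ι Θ (D₀ g) := hDD₀ g
  rw [← h1, ← hw, hD]
  congr 1
  rcases N with _ | n
  · simp
  · rw [Polynomial.derivative_pow_succ, smul_smul]
    congr 1
    simp only [Nat.cast_add, Nat.cast_one, map_add, map_natCast, map_one]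
    ring

include hθ hΘ hD₀ hRes hunit in
omit [IsDomain R] in
/-- vanishing of the values at the poles -/
lemma eval_eq_zero_of (N : ℕ) (hN : 1 ≤ N) (g v : Fin d → R[X])
    (h : D₀ g = (C (N : R) * Polynomial.derivative Θ) • g + (Θ ^ N) • v) (i : Fin r) (j : Fin d) :
    (g j).eval (θ i) = 0 := by
  have hΘi : Θ.eval (θ i) = 0 := by rw [hΘ]; exact eval_Θ θ i
  have hΘ'i : (Polynomial.derivative Θ).eval (θ i) = ∏ k ∈ Finset.univ.erase i, (θ i - θ k) := by
    rw [hΘ]; exact eval_derivative_Θ θ i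
  set c := ∏ k ∈ Finset.univ.erase i, (θ i - θ k) with hc
  set x : Fin d → R := fun j' => (g j').eval (θ i) with hx
  have h1 : ∀ j, (D₀ g j).eval (θ i) = c * Res i x j :=
    fun j => eval_D₀ Θ D₀ hD₀ (θ i) hΘi c (Res i) (hRes i) g j
  have h2 : ∀ j, (D₀ g j).eval (θ i) = (N : R) * c * x j := by
    intro j
    rw [h]
    simp only [Pi.add_apply, Pi.smul_apply, smul_eq_mul, Polynomial.eval_add, Polynomial.eval_mul,
      Polynomial.eval_C, hΘ'i, Polynomial.eval_pow, hΘi, zero_pow (by omega : N ≠ 0), zero_mul,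
      add_zero]
    rfl
  have h3 : Res i x - (N : R) • x = 0 := by
    funext j
    have := (h1 j).symm.trans (h2 j)
    have hcu := isUnit_c θ hθ i
    rw [← hc] at hcu
    apply hcu.mul_left_cancel
    rw [Pi.zero_apply, mul_zero, Pi.sub_apply, Pi.smul_apply, smul_eq_mul, mul_sub, this]
    ring
  obtain ⟨S, hS, _⟩ := exists_inverse_sub (Res i) (N : R) (hunit i N hN)
  have := hS x
  rw [h3, map_zero] at this
  exact (congrFun this j).symm

include hθ hΘ hD₀ hD hDD₀ hRes hunit in
theorem mem_polynomial_aux : ∀ (N : ℕ) (f : Fin d → Localization.Away Θ) (g : Fin d → R[X]),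
    (Θ ^ N) • f = ι Θ g → (∃ v : Fin d → R[X], D f = ι Θ v) → ∃ v : Fin d → R[X], f = ι Θ v := by
  intro N
  induction N with
  | zero =>
    intro f g hw _
    rw [pow_zero, one_smul] at hw
    exact ⟨g, hw⟩
  | succ N ih =>
    intro f g hw hv
    obtain ⟨v, hv'⟩ := hv
    have h1 := step Θ D₀ D hD hDD₀ (N + 1) f g hw
    rw [hv', ← ι_smul, ← ι_smul, ← ι_add] at h1
    have h2 := ι_injective θ Θ hΘ h1
    have h3 : ∀ j, Θ ∣ g j := by
      intro j
      rw [hΘ]
      apply Θ_dvd θ hθ
      intro i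
      exact eval_eq_zero_of θ hθ Θ hΘ D₀ hD₀ Res hRes hunit (N + 1) (by omega) g v h2 i j
    choose g' hg' using h3
    have hgg' : g = Θ • g' := by
      funext j; rw [Pi.smul_apply, smul_eq_mul]; exact hg' j
    have h4 : (Θ ^ N) • f = ι Θ g' := by
      apply smul_Θ_injective Θ
      rw [← ι_smul, ← hgg', ← hw, smul_smul, ← pow_succ']
    exact ih f g' h4 ⟨v, hv'⟩

omit [IsDomain R] in
lemma exists_pow_smul_eq (f : Fin d → Localization.Away Θ) :
    ∃ (N : ℕ) (g : Fin d → R[X]), (Θ ^ N) • f = ι Θ g := by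
  choose n a hna using fun j => IsLocalization.Away.surj Θ (f j)
  refine ⟨Finset.univ.sup n, fun j => Θ ^ (Finset.univ.sup n - n j) * a j, ?_⟩
  funext j
  have hle : n j ≤ Finset.univ.sup n := Finset.le_sup (Finset.mem_univ j)
  simp only [Pi.smul_apply, ι, Algebra.smul_def, map_mul, map_pow]
  rw [← hna j]
  conv_lhs => rw [← Nat.sub_add_cancel hle, pow_add]
  ring

include hθ hΘ hD₀ hD hDD₀ hRes hunit in
theorem mem_polynomial (f : Fin d → Localization.Away Θ)
    (hf : ∃ v : Fin d → R[X], D f = ι Θ v) : ∃ v : Fin d → R[X], f = ι Θ v := by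
  obtain ⟨N, g, hw⟩ := exists_pow_smul_eq Θ f
  exact mem_polynomial_aux θ hθ Θ hΘ D₀ hD₀ D hD hDD₀ Res hRes hunit N f g hw hf

include hθ hΘ hD₀ hD hDD₀ hRes hunit in
theorem decomposition_aux : ∀ (N : ℕ) (w : Fin d → Localization.Away Θ) (g : Fin d → R[X]),
    (Θ ^ N) • w = ι Θ g →
    ∃ (w' : Fin d → Localization.Away Θ) (v : Fin d → R[X]), w = D w' + ι Θ v := by
  intro N
  induction N with
  | zero =>
    intro w g hw
    rw [pow_zero, one_smul] at hw
    exact ⟨0, g, by rw [map_zero, zero_add, hw]⟩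
  | succ N ih =>
    intro w g hw
    -- the target values at the poles
    have hS := fun i => exists_inverse_sub (Res i) ((N + 1 : ℕ) : R) (hunit i (N + 1) (by omega))
    choose S hS1 hS2 using hS
    choose cinv hcinv using fun i => (isUnit_c θ hθ i).exists_right_inv
    let u : Fin r → Fin d → R := fun i => S i (cinv i • fun j => (g j).eval (θ i))
    have hm := fun j => exists_interp θ hθ (fun i => u i j)
    choose m hm' using hm
    -- w₁ with Θ^(N+1) • w₁ = ι m
    obtain ⟨b, hb⟩ := (IsLocalization.Away.algebraMap_isUnit (S := Localization.Away Θ) Θ).exists_right_inv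
    let w₁ : Fin d → Localization.Away Θ := fun j => b ^ (N + 1) * algebraMap _ _ (m j)
    have hw₁ : (Θ ^ (N + 1)) • w₁ = ι Θ m := by
      funext j
      simp only [Pi.smul_apply, ι, Algebra.smul_def, map_pow, w₁]
      rw [← mul_assoc, ← mul_pow, hb, one_pow, one_mul]
    have h1 := step Θ D₀ D hD hDD₀ (N + 1) w₁ m hw₁
    -- the corrected numerator
    let h : Fin d → R[X] := g - D₀ m + (C ((N + 1 : ℕ) : R) * Polynomial.derivative Θ) • m
    have hh : (Θ ^ (N + 1)) • (w - D w₁) = ι Θ h := by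
      rw [smul_sub, hw]
      have : (Θ ^ (N + 1)) • D w₁ =
          ι Θ (D₀ m) - (C ((N + 1 : ℕ) : R) * Polynomial.derivative Θ) • ι Θ m := by
        rw [h1]; abel
      rw [this, ← ι_smul]
      show _ = ι Θ (g - D₀ m + (C ((N + 1 : ℕ) : R) * Polynomial.derivative Θ) • m)
      rw [ι_add, ι_sub]
      abel
    have hdvd : ∀ j, Θ ∣ h j := by
      intro j
      rw [hΘ]
      apply Θ_dvd θ hθ
      intro i
      have hΘi : Θ.eval (θ i) = 0 := by rw [hΘ]; exact eval_Θ θ i
      have hΘ'i : (Polynomial.derivative Θ).eval (θ i) =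
          ∏ k ∈ Finset.univ.erase i, (θ i - θ k) := by rw [hΘ]; exact eval_derivative_Θ θ i
      have hmi : (fun j' => (m j').eval (θ i)) = u i := by
        funext j'; exact hm' j' i
      have e1 := eval_D₀ Θ D₀ hD₀ (θ i) hΘi _ (Res i) (hRes i) m j
      rw [hmi] at e1
      have e2 := congrFun (hS2 i (cinv i • fun j => (g j).eval (θ i))) j
      simp only [Pi.sub_apply, Pi.smul_apply, smul_eq_mul] at e2
      show (g j - D₀ m j + (C ((N + 1 : ℕ) : R) * Polynomial.derivative Θ) * m j).eval (θ i) = 0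
      simp only [Polynomial.eval_add, Polynomial.eval_sub, Polynomial.eval_mul, Polynomial.eval_C,
        hΘ'i, e1, hm' j i]
      have e3 : (∏ k ∈ Finset.univ.erase i, (θ i - θ k)) *
          (Res i (u i) j - ((N + 1 : ℕ) : R) * u i j) = (g j).eval (θ i) := by
        show (∏ k ∈ Finset.univ.erase i, (θ i - θ k)) *
          (Res i (S i (cinv i • fun j => (g j).eval (θ i))) j -
            ((N + 1 : ℕ) : R) * S i (cinv i • fun j => (g j).eval (θ i)) j) = _
        rw [e2, ← mul_assoc, hcinv i, one_mul]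
      linear_combination (-1 : R) * e3
    choose h' hh' using hdvd
    have hhh' : h = Θ • h' := by
      funext j; rw [Pi.smul_apply, smul_eq_mul]; exact hh' j
    have h4 : (Θ ^ N) • (w - D w₁) = ι Θ h' := by
      apply smul_Θ_injective Θ
      rw [← ι_smul, ← hhh', ← hh, smul_smul, ← pow_succ']
    obtain ⟨w'', v, hwv⟩ := ih (w - D w₁) h' h4
    refine ⟨w₁ + w'', v, ?_⟩
    rw [map_add, add_assoc, ← hwv]
    abel

include hθ hΘ hD₀ hD hDD₀ hRes hunit in
theorem decomposition (w : Fin d → Localization.Away Θ) :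
    ∃ (w' : Fin d → Localization.Away Θ) (v : Fin d → R[X]), w = D w' + ι Θ v := by
  obtain ⟨N, g, hw⟩ := exists_pow_smul_eq Θ w
  exact decomposition_aux θ hθ Θ hΘ D₀ hD₀ D hD hDD₀ Res hRes hunit N w g hw

end Main

section Unit

variable {R : Type*} [CommRing R] [Nontrivial R] [Algebra ℂ R] {d : ℕ}

lemma isUnit_of_complex_charpoly (T : (Fin d → R) →ₗ[R] (Fin d → R))
    (hχ : ∃ χ : ℂ[X], T.charpoly = χ.map (algebraMap ℂ R) ∧
      ∀ n : ℤ, n ≠ 0 → χ.eval (n : ℂ) ≠ 0) (N : ℕ) (hN : 1 ≤ N) :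
    IsUnit (T.charpoly.eval (N : R)) := by
  obtain ⟨χ, h1, h2⟩ := hχ
  rw [h1]
  have e : (N : R) = algebraMap ℂ R (N : ℂ) := (map_natCast _ _).symm
  rw [e, Polynomial.eval_map, Polynomial.eval₂_at_apply]
  apply IsUnit.map
  have h3 := h2 (N : ℤ) (by exact_mod_cast (by omega : N ≠ 0))
  rw [Int.cast_natCast] at h3
  exact isUnit_iff_ne_zero.mpr h3

end Unit

end Groth.Agent.Lib.Helper20.LogConn
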