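import Mathlib.RingTheory.MvPowerSeries.Substitution
import Mathlib.RingTheory.MvPowerSeries.Expand
import Mathlib.RingTheory.MvPowerSeries.Order
import Mathlib.RingTheory.PowerSeries.Substitution
import Mathlib.RingTheory.FormalGroup.Basic
import Mathlib.RingTheory.DiscreteValuationRing.Basic
import Mathlib.RingTheory.LocalRing.ResidueField.Basic
import Mathlib.FieldTheory.Finite.Basic

/-!
# Lubin–Tate lemma (helper20)

A triangular fixed point principle for multivariate power series, and the Lubin–Tate lemma for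
`f = π T + T^q`: existence and uniqueness of a power series with prescribed linear part commuting
with `f`.
-/

set_option autoImplicit false

namespace Groth.Agent.Lib.Helper20.LT

open MvPowerSeries Finsupp

section Fixed

variable {σ : Type*} {R : Type*} [CommRing R]

/-- agreement of all coefficients of degree `< r` -/
def AgreeBelow (r : ℕ) (A B : MvPowerSeries σ R) : Prop :=
  ∀ m : σ →₀ ℕ, m.degree < r → coeff m A = coeff m B

lemma AgreeBelow.mono {r s : ℕ} (h : s ≤ r) {A B : MvPowerSeries σ R} (hAB : AgreeBelow r A B) :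
    AgreeBelow s A B := fun m hm => hAB m (lt_of_lt_of_le hm h)

lemma agreeBelow_zero (A B : MvPowerSeries σ R) : AgreeBelow 0 A B :=
  fun m hm => absurd hm (Nat.not_lt_zero _)

theorem eq_of_agreeBelow {A B : MvPowerSeries σ R} (h : ∀ r, AgreeBelow r A B) : A = B := by
  ext m; exact h (m.degree + 1) m (Nat.lt_succ_self _)

theorem existsUnique_fixed (T : MvPowerSeries σ R → MvPowerSeries σ R)
    (hT : ∀ r A B, AgreeBelow r A B → AgreeBelow (r + 1) (T A) (T B)) : ∃! F, T F = F := by
  let s : ℕ → MvPowerSeries σ R := fun k => T^[k] 0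
  have hs : ∀ k, s (k + 1) = T (s k) := fun k => Function.iterate_succ_apply' T k 0
  have h1 : ∀ k, AgreeBelow k (s k) (s (k + 1)) := by
    intro k
    induction k with
    | zero => exact agreeBelow_zero _ _
    | succ k ih => rw [hs k, hs (k + 1)]; exact hT k _ _ ih
  have h2 : ∀ k j, k ≤ j → AgreeBelow k (s k) (s j) := by
    intro k j hkj
    induction j, hkj using Nat.le_induction with
    | base => exact fun m _ => rfl
    | succ j hkj ih => intro m hm; rw [ih m hm]; exact (h1 j).mono hkj m hm
  let F : MvPowerSeries σ R := fun m => coeff m (s (m.degree + 1))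
  have hF : ∀ k, AgreeBelow k F (s k) := by
    intro k m hm
    show coeff m (s (m.degree + 1)) = _
    exact h2 (m.degree + 1) k hm m (Nat.lt_succ_self _)
  have hfix : T F = F := by
    ext m
    have := hT _ _ _ (hF m.degree) m (Nat.lt_succ_self _)
    rw [this, ← hs]
    exact ((hF (m.degree + 1)) m (Nat.lt_succ_self _)).symm
  refine ⟨F, hfix, ?_⟩
  intro G hG
  apply eq_of_agreeBelow
  intro r
  induction r with
  | zero => exact agreeBelow_zero _ _
  | succ r ih =>
    have := hT r G F ih
    rwa [hG, hfix] at this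

end Fixed

section Coeff

variable {σ τ : Type*} {R : Type*} [CommRing R]

lemma degree_le_order_prod {a : σ → MvPowerSeries τ R} (ha0 : ∀ s, constantCoeff (a s) = 0)
    (d : σ →₀ ℕ) : (d.degree : ℕ∞) ≤ (d.prod fun s k => a s ^ k).order := by
  rw [Finsupp.prod, Finsupp.degree_apply, Nat.cast_sum]
  refine le_trans ?_ (le_order_prod _ _)
  exact Finset.sum_le_sum fun s _ => le_order_pow_of_constantCoeff_eq_zero _ (ha0 s)

lemma coeff_prod_eq_zero {a : σ → MvPowerSeries τ R} (ha0 : ∀ s, constantCoeff (a s) = 0)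
    {d : σ →₀ ℕ} {e : τ →₀ ℕ} (h : e.degree < d.degree) :
    coeff e (d.prod fun s k => a s ^ k) = 0 :=
  coeff_of_lt_order (lt_of_lt_of_le (by exact_mod_cast h) (degree_le_order_prod ha0 d))

theorem coeff_single_subst [Fintype σ] {a : σ → MvPowerSeries τ R}
    (ha0 : ∀ s, constantCoeff (a s) = 0) (G : MvPowerSeries σ R) (i : τ) :
    coeff (single i 1) (subst a G) = ∑ j, coeff (single j 1) G * coeff (single i 1) (a j) := by
  classical
  have ha := hasSubst_of_constantCoeff_zero ha0
  rw [coeff_subst ha,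
    finsum_eq_sum_of_support_subset (s := Finset.univ.image (fun j : σ => single j 1))]
  · rw [Finset.sum_image (by
      intro j _ j' _ h
      exact (Finsupp.single_left_injective one_ne_zero) h)]
    refine Finset.sum_congr rfl fun j _ => ?_
    simp [smul_eq_mul]
  · intro d hd
    simp only [Function.mem_support] at hd
    by_contra hne
    apply hd
    rcases Nat.lt_trichotomy d.degree 1 with h | h | h
    · have hd0 : d = 0 := (Finsupp.degree_eq_zero_iff d).mp (by omega)
      subst hd0
      have : (single i 1 : τ →₀ ℕ) ≠ 0 := by simp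
      simp [coeff_one, this]
    · exfalso
      apply hne
      have : d ∈ Set.range (fun a : σ => Finsupp.single a 1) := by
        rw [Finsupp.range_single_one]; exact h
      obtain ⟨j, rfl⟩ := this
      simp
    · rw [coeff_prod_eq_zero ha0 (by rw [Finsupp.degree_single]; exact h), smul_zero]

end Coeff

section Av

variable {σ : Type*} {R : Type*} [CommRing R] (π : R) (q : ℕ)

/-- the family `π X_i + X_i^q` -/
noncomputable def av (i : σ) : MvPowerSeries σ R := π • X i + X i ^ q

lemma constantCoeff_av (hq : q ≠ 0) (i : σ) : constantCoeff (av (R := R) π q i) = 0 := by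
  simp [av, hq]

lemma hasSubst_av [Finite σ] (hq : q ≠ 0) : HasSubst (av (σ := σ) (R := R) π q) :=
  hasSubst_of_constantCoeff_zero (constantCoeff_av π q hq)

/-- the cofactor of `X^d` in `∏ (π X_i + X_i^q)^{d_i}` -/
noncomputable def U (d : σ →₀ ℕ) : MvPowerSeries σ R :=
  d.prod fun s k => (C π + X s ^ (q - 1)) ^ k

lemma prod_av (hq : q ≠ 0) (d : σ →₀ ℕ) :
    (d.prod fun s k => av (R := R) π q s ^ k) = monomial d 1 * U π q d := by
  have h : ∀ s : σ, av (R := R) π q s = X s * (C π + X s ^ (q - 1)) := by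
    intro s
    rw [av, smul_eq_C_mul, mul_add, ← pow_succ',
      Nat.sub_add_cancel (Nat.one_le_iff_ne_zero.mpr hq)]
    ring
  simp only [h, mul_pow, Finsupp.prod_mul, U]
  rw [← monomial_one_eq]

lemma constantCoeff_U (hq : 2 ≤ q) (d : σ →₀ ℕ) :
    constantCoeff (U (R := R) π q d) = π ^ d.degree := by
  have hq1 : q - 1 ≠ 0 := by omega
  rw [U, map_finsuppProd, Finsupp.prod, Finsupp.degree_apply, ← Finset.prod_pow_eq_pow_sum]
  refine Finset.prod_congr rfl fun s _ => ?_
  simp [hq1]

open Classical in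
lemma coeff_prod_av_of_degree_le (hq : 2 ≤ q) {d e : σ →₀ ℕ} (h : e.degree ≤ d.degree) :
    coeff e (d.prod fun s k => av (R := R) π q s ^ k) = if d = e then π ^ e.degree else 0 := by
  classical
  rw [prod_av π q (by omega), coeff_monomial_mul]
  by_cases hde : d ≤ e
  · have hdeg : (e - d).degree = 0 := by
      have h1 : e = d + (e - d) := (add_tsub_cancel_of_le hde).symm
      have h2 : e.degree = d.degree + (e - d).degree := by
        conv_lhs => rw [h1]
        exact map_add _ _ _
      omega
    have hed : e - d = 0 := (Finsupp.degree_eq_zero_iff _).mp hdeg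
    have hde' : d = e := by
      have h1 : e = d + (e - d) := (add_tsub_cancel_of_le hde).symm
      rw [hed, add_zero] at h1
      exact h1.symm
    subst hde'
    rw [if_pos hde, if_pos rfl, tsub_self, one_mul, coeff_zero_eq_constantCoeff_apply,
      constantCoeff_U π q hq]
  · rw [if_neg hde, if_neg]
    rintro rfl
    exact hde le_rfl

theorem coeff_subst_av_of_order [Finite σ] (hq : 2 ≤ q) {D : MvPowerSeries σ R} {r : ℕ}
    (hD : ∀ m : σ →₀ ℕ, m.degree < r → coeff m D = 0) {e : σ →₀ ℕ} (he : e.degree ≤ r) :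
    coeff e (subst (av π q) D) = π ^ e.degree * coeff e D := by
  rw [coeff_subst (hasSubst_av π q (by omega)), finsum_eq_single _ e]
  · rw [coeff_prod_av_of_degree_le π q hq le_rfl, if_pos rfl, smul_eq_mul, mul_comm]
  · intro d hd
    by_cases h0 : coeff d D = 0
    · rw [h0, zero_smul]
    · have hdr : r ≤ d.degree := by
        by_contra hlt
        exact h0 (hD d (by omega))
      rw [coeff_prod_av_of_degree_le π q hq (le_trans he hdr), if_neg hd, smul_zero]

end Av

section PowDiff

variable {σ : Type*} {R : Type*} [CommRing R]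

lemma coeff_pow_eq_of_agreeBelow {A B : MvPowerSeries σ R} {q r : ℕ} (hq : 2 ≤ q)
    (hA : constantCoeff A = 0) (hB : constantCoeff B = 0) (hAB : AgreeBelow r A B)
    {e : σ →₀ ℕ} (he : e.degree ≤ r) : coeff e (A ^ q) = coeff e (B ^ q) := by
  have hmul := Commute.geom_sum₂_mul (Commute.all A B) q
  have h1 : (r : ℕ∞) ≤ (A - B).order := by
    apply nat_le_order
    intro d hd
    rw [map_sub, hAB d hd, sub_self]
  have h2 : (1 : ℕ∞) ≤ (∑ i ∈ Finset.range q, A ^ i * B ^ (q - 1 - i)).order := by
    rw [one_le_order_iff_constCoeff_eq_zero, map_sum]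
    refine Finset.sum_eq_zero fun i hi => ?_
    rw [map_mul, map_pow, map_pow, hA, hB]
    rw [Finset.mem_range] at hi
    by_cases hi0 : i = 0
    · have : q - 1 - i ≠ 0 := by omega
      rw [zero_pow this, mul_zero]
    · rw [zero_pow hi0, zero_mul]
  have h3 : coeff e (A ^ q - B ^ q) = 0 := by
    rw [← hmul]
    apply coeff_of_lt_order
    refine lt_of_lt_of_le ?_ le_order_mul
    refine lt_of_lt_of_le ?_ (add_le_add h2 h1)
    have : e.degree < 1 + r := by omega
    exact_mod_cast this
  rw [map_sub, sub_eq_zero] at h3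
  exact h3

end PowDiff

section Main

variable {σ : Type*} [Finite σ] {R : Type*} [CommRing R] (π c : R) (q : ℕ)

/-- the Lubin–Tate equation `G(π X + X^q) = π G + c G^q` -/
def IsSol (G : MvPowerSeries σ R) : Prop := subst (av π q) G = π • G + c • G ^ q

/-- the part of the equation depending on lower coefficients only -/
noncomputable def NN (G : MvPowerSeries σ R) (e : σ →₀ ℕ) : R :=
  coeff e (subst (av π q) G) - π ^ e.degree * coeff e G - c * coeff e (G ^ q)

theorem isSol_iff_coeff (G : MvPowerSeries σ R) :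
    IsSol π c q G ↔ ∀ e : σ →₀ ℕ, (π - π ^ e.degree) * coeff e G = NN π c q G e := by
  unfold IsSol NN
  rw [MvPowerSeries.ext_iff]
  constructor
  · intro h e
    have := h e
    rw [map_add, map_smul, map_smul, smul_eq_mul, smul_eq_mul] at this
    rw [this]; ring
  · intro h e
    have := h e
    rw [map_add, map_smul, map_smul, smul_eq_mul, smul_eq_mul]
    linear_combination (-1 : R) * this

lemma NN_low (hq : 2 ≤ q) {G : MvPowerSeries σ R} (hG : constantCoeff G = 0) {e : σ →₀ ℕ}
    (he : e.degree ≤ 1) : NN π c q G e = 0 := by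
  have hD : ∀ m : σ →₀ ℕ, m.degree < 1 → coeff m G = 0 := by
    intro m hm
    have : m = 0 := (Finsupp.degree_eq_zero_iff m).mp (by omega)
    rw [this, coeff_zero_eq_constantCoeff_apply, hG]
  have h1 := coeff_subst_av_of_order π q hq hD he
  have h2 : coeff e (G ^ q) = 0 := by
    have hag : AgreeBelow 1 G 0 := fun m hm => by rw [hD m hm, map_zero]
    rw [coeff_pow_eq_of_agreeBelow hq hG (map_zero _) hag he, zero_pow (by omega), map_zero]
  unfold NN
  rw [h1, h2]; ring

/-- division by `π` (junk value when not divisible) -/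
noncomputable def dv (x : R) : R := by
  classical exact if h : π ∣ x then Classical.choose h else 0

lemma mul_dv {x : R} (h : π ∣ x) : π * dv π x = x := by
  unfold dv; rw [dif_pos h]; exact (Classical.choose_spec h).symm

/-- the triangular operator whose fixed points are the solutions with linear part `L` -/
noncomputable def TT (L : MvPowerSeries σ R) (G : MvPowerSeries σ R) : MvPowerSeries σ R :=
  fun e => if e.degree = 0 then 0 else if e.degree = 1 then coeff e L else
    Ring.inverse (1 - π ^ (e.degree - 1)) * dv π (NN π c q (G - C (constantCoeff G)) e)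

lemma coeff_TT (L G : MvPowerSeries σ R) (e : σ →₀ ℕ) :
    coeff e (TT π c q L G) = if e.degree = 0 then 0 else if e.degree = 1 then coeff e L else
    Ring.inverse (1 - π ^ (e.degree - 1)) * dv π (NN π c q (G - C (constantCoeff G)) e) := rfl

lemma constantCoeff_sub_C (G : MvPowerSeries σ R) : constantCoeff (G - C (constantCoeff G)) = 0 := by
  rw [map_sub, constantCoeff_C, sub_self]

lemma TT_agree (hq : 2 ≤ q) (L : MvPowerSeries σ R) (r : ℕ) (A B : MvPowerSeries σ R)
    (h : AgreeBelow r A B) : AgreeBelow (r + 1) (TT π c q L A) (TT π c q L B) := by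
  classical
  intro e he
  rw [coeff_TT, coeff_TT]
  split_ifs with h0 h1
  · rfl
  · rfl
  · congr 2
    have her : e.degree ≤ r := by omega
    set A' := A - C (constantCoeff A) with hA'
    set B' := B - C (constantCoeff B) with hB'
    have hA0 : constantCoeff A' = 0 := constantCoeff_sub_C A
    have hB0 : constantCoeff B' = 0 := constantCoeff_sub_C B
    have hag : AgreeBelow r A' B' := by
      intro m hm
      by_cases hm0 : m = 0
      · rw [hm0, coeff_zero_eq_constantCoeff_apply, coeff_zero_eq_constantCoeff_apply, hA0, hB0]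
      · rw [hA', hB', map_sub, map_sub, coeff_C, coeff_C, if_neg hm0, if_neg hm0, h m hm]
    have hD : ∀ m : σ →₀ ℕ, m.degree < r → coeff m (A' - B') = 0 := by
      intro m hm
      rw [map_sub, hag m hm, sub_self]
    have h1' := coeff_subst_av_of_order π q hq hD her
    rw [subst_sub (hasSubst_av π q (by omega)), map_sub, map_sub] at h1'
    have h2' := coeff_pow_eq_of_agreeBelow hq hA0 hB0 hag her
    unfold NN
    rw [h2']
    linear_combination h1'

variable {π c q}

lemma TT_fixed_of_sol (hπ : IsLeftRegular π) (hu : ∀ r : ℕ, 1 ≤ r → IsUnit (1 - π ^ r))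
    {L G : MvPowerSeries σ R} (hG0 : constantCoeff G = 0)
    (h1 : ∀ e : σ →₀ ℕ, e.degree = 1 → coeff e G = coeff e L) (hG : IsSol π c q G) :
    TT π c q L G = G := by
  ext e
  rw [coeff_TT]
  split_ifs with h0 h1'
  · have : e = 0 := (Finsupp.degree_eq_zero_iff e).mp h0
    rw [this, coeff_zero_eq_constantCoeff_apply, hG0]
  · exact (h1 e h1').symm
  · have hGG : G - C (constantCoeff G) = G := by rw [hG0, map_zero, sub_zero]
    rw [hGG]
    have hr : 1 ≤ e.degree - 1 := by omega
    have heq := (isSol_iff_coeff π c q G).mp hG e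
    have hpow : π ^ e.degree = π * π ^ (e.degree - 1) := by
      rw [← pow_succ']; congr 1; omega
    have heq' : NN π c q G e = π * ((1 - π ^ (e.degree - 1)) * coeff e G) := by
      rw [← heq, hpow]; ring
    have hdvd : π ∣ NN π c q G e := ⟨_, heq'⟩
    have h3 : dv π (NN π c q G e) = (1 - π ^ (e.degree - 1)) * coeff e G := by
      apply hπ
      show π * dv π (NN π c q G e) = π * ((1 - π ^ (e.degree - 1)) * coeff e G)
      rw [mul_dv π hdvd, heq']
    rw [h3, Ring.inverse_mul_cancel_left _ _ (hu _ hr)]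

theorem sol_unique (hq : 2 ≤ q) (hπ : IsLeftRegular π) (hu : ∀ r : ℕ, 1 ≤ r → IsUnit (1 - π ^ r))
    {G G' : MvPowerSeries σ R} (hG0 : constantCoeff G = 0) (hG0' : constantCoeff G' = 0)
    (h1 : ∀ e : σ →₀ ℕ, e.degree = 1 → coeff e G = coeff e G')
    (hG : IsSol π c q G) (hG' : IsSol π c q G') : G = G' := by
  obtain ⟨F, _, hF⟩ := existsUnique_fixed (TT π c q G') (TT_agree π c q hq G')
  rw [hF G (TT_fixed_of_sol hπ hu hG0 h1 hG), hF G' (TT_fixed_of_sol hπ hu hG0' (fun _ _ => rfl) hG')]

theorem exists_sol (hq : 2 ≤ q) (hu : ∀ r : ℕ, 1 ≤ r → IsUnit (1 - π ^ r))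
    (hdvd : ∀ G : MvPowerSeries σ R, constantCoeff G = 0 → ∀ e, π ∣ NN π c q G e)
    (L : MvPowerSeries σ R) :
    ∃ G : MvPowerSeries σ R, constantCoeff G = 0 ∧
      (∀ e : σ →₀ ℕ, e.degree = 1 → coeff e G = coeff e L) ∧ IsSol π c q G := by
  obtain ⟨F, hF, _⟩ := existsUnique_fixed (TT π c q L) (TT_agree π c q hq L)
  have hF0 : constantCoeff F = 0 := by
    rw [← coeff_zero_eq_constantCoeff_apply, ← hF, coeff_TT, if_pos (map_zero _)]
  have hFF : F - C (constantCoeff F) = F := by rw [hF0, map_zero, sub_zero]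
  refine ⟨F, hF0, ?_, ?_⟩
  · intro e he
    conv_lhs => rw [← hF]
    rw [coeff_TT, if_neg (by omega), if_pos he]
  · rw [isSol_iff_coeff]
    intro e
    by_cases he : e.degree ≤ 1
    · rw [NN_low π c q hq hF0 he]
      rcases Nat.lt_or_ge e.degree 1 with h | h
      · have : e = 0 := (Finsupp.degree_eq_zero_iff e).mp (by omega)
        rw [this, coeff_zero_eq_constantCoeff_apply, hF0, mul_zero]
      · have : e.degree = 1 := by omega
        rw [this, pow_one, sub_self, zero_mul]
    · have hr : 1 ≤ e.degree - 1 := by omega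
      have hc : coeff e F = Ring.inverse (1 - π ^ (e.degree - 1)) * dv π (NN π c q F e) := by
        conv_lhs => rw [← hF]
        rw [coeff_TT, if_neg (by omega), if_neg (by omega), hFF]
      have hpow : π ^ e.degree = π * π ^ (e.degree - 1) := by
        rw [← pow_succ']; congr 1; omega
      rw [hc, hpow]
      have := Ring.mul_inverse_cancel_left _ (dv π (NN π c q F e)) (hu _ hr)
      calc (π - π * π ^ (e.degree - 1)) *
            (Ring.inverse (1 - π ^ (e.degree - 1)) * dv π (NN π c q F e))
          = π * ((1 - π ^ (e.degree - 1)) *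
            (Ring.inverse (1 - π ^ (e.degree - 1)) * dv π (NN π c q F e))) := by ring
        _ = π * dv π (NN π c q F e) := by rw [this]
        _ = NN π c q F e := mul_dv π (hdvd F hF0 e)

end Main

section Comp

variable {σ τ : Type*} [Finite σ] [Finite τ] {R : Type*} [CommRing R] {π c : R} {q : ℕ}

/-- the Lubin–Tate equation is stable under substitution of an equivariant family -/
theorem isSol_subst (hq : q ≠ 0) {G : MvPowerSeries σ R} (hG : IsSol π c q G)
    {b : σ → MvPowerSeries τ R} (hb0 : ∀ j, constantCoeff (b j) = 0)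
    (hb : ∀ j, IsSol π 1 q (b j)) : IsSol π c q (subst b G) := by
  unfold IsSol at *
  have hbS : HasSubst b := hasSubst_of_constantCoeff_zero hb0
  have haτ : HasSubst (av (σ := τ) π q) := hasSubst_av π q hq
  have haσ : HasSubst (av (σ := σ) π q) := hasSubst_av π q hq
  have h1 : (fun j => subst (av π q) (b j)) = fun j => subst b (av (σ := σ) π q j) := by
    funext j
    rw [hb j, av, subst_add hbS, subst_smul hbS, subst_pow hbS, subst_X hbS, one_smul]
  rw [subst_comp_subst_apply hbS haτ, h1, ← subst_comp_subst_apply haσ hbS, hG,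
    subst_add hbS, subst_smul hbS, subst_smul hbS, subst_pow hbS]

lemma isSol_X (hq : q ≠ 0) (i : σ) : IsSol π 1 q (X i : MvPowerSeries σ R) := by
  unfold IsSol
  rw [subst_X (hasSubst_av π q hq), one_smul, av]

lemma isSol_add {G G' : MvPowerSeries σ R} (hq : q ≠ 0) (hG : IsSol π 0 q G)
    (hG' : IsSol π 0 q G') : IsSol π 0 q (G + G') := by
  unfold IsSol at *
  rw [subst_add (hasSubst_av π q hq), hG, hG']
  simp only [zero_smul, add_zero, smul_add]

lemma isSol_smul {G : MvPowerSeries σ R} (hq : q ≠ 0) (a : R) (hG : IsSol π 0 q G) :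
    IsSol π 0 q (a • G) := by
  unfold IsSol at *
  rw [subst_smul (hasSubst_av π q hq), hG]
  simp only [zero_smul, add_zero, smul_comm a π]

lemma isSol_map {S : Type*} [CommRing S] (φ : R →+* S) (hq : q ≠ 0) {G : MvPowerSeries σ R}
    (hG : IsSol π c q G) : IsSol (φ π) (φ c) q (MvPowerSeries.map φ G) := by
  unfold IsSol at *
  have h := congrArg (MvPowerSeries.map φ) hG
  rw [map_subst (hasSubst_av π q hq)] at h
  have hav : (fun i => MvPowerSeries.map φ (av (σ := σ) π q i)) = av (φ π) q := by
    funext i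
    simp [av, smul_eq_C_mul]
  rw [hav] at h
  rw [h]
  simp [smul_eq_C_mul]

end Comp

section DVR

variable {O : Type*} [CommRing O] [IsDomain O] [IsDiscreteValuationRing O]
  [Finite (IsLocalRing.ResidueField O)] {π : O}

lemma two_le_card : 2 ≤ Nat.card (IsLocalRing.ResidueField O) := Finite.one_lt_card

lemma isUnit_one_sub_pow (hπ : Irreducible π) (r : ℕ) (hr : 1 ≤ r) : IsUnit (1 - π ^ r) := by
  have hmem : π ^ r ∈ IsLocalRing.maximalIdeal O :=
    Ideal.pow_mem_of_mem _ ((IsLocalRing.mem_maximalIdeal _).mpr hπ.not_isUnit) r (by omega)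
  exact IsLocalRing.isUnit_one_sub_self_of_mem_nonunits _
    ((IsLocalRing.mem_maximalIdeal _).mp hmem)

lemma dvd_iff_residue (hπ : Irreducible π) (x : O) : π ∣ x ↔ IsLocalRing.residue O x = 0 := by
  rw [IsLocalRing.residue_eq_zero_iff, hπ.maximalIdeal_eq, Ideal.mem_span_singleton]

lemma pow_card_eq_subst {k : Type*} [Field k] [Finite k] {σ : Type*}
    (G : MvPowerSeries σ k) :
    G ^ Nat.card k = subst (fun i => (X i : MvPowerSeries σ k) ^ Nat.card k) G := by
  classical
  haveI := Fintype.ofFinite k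
  haveI : CharP k (ringChar k) := ringChar.charP k
  obtain ⟨n, hp, hn⟩ := FiniteField.card k (ringChar k)
  haveI : ExpChar k (ringChar k) := ExpChar.prime hp
  have hq : Nat.card k = ringChar k ^ (n : ℕ) := by rw [Nat.card_eq_fintype_card, hn]
  have h := map_iterateFrobenius_expand (ringChar k) hp.ne_zero G n
  have hid : iterateFrobenius k (ringChar k) n = RingHom.id k := by
    ext a
    rw [iterateFrobenius_def, ← hn, FiniteField.pow_card, RingHom.id_apply]
  rw [hid, MvPowerSeries.map_id, RingHom.id_apply] at h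
  rw [hq, ← h, expand, substAlgHom_apply]

lemma dvd_NN (hπ : Irreducible π) {σ : Type*} [Finite σ] (G : MvPowerSeries σ O)
    (hG : constantCoeff G = 0) (e : σ →₀ ℕ) :
    π ∣ NN π 1 (Nat.card (IsLocalRing.ResidueField O)) G e := by
  rw [dvd_iff_residue hπ]
  have hq : Nat.card (IsLocalRing.ResidueField O) ≠ 0 := by
    have := two_le_card (O := O); omega
  have hπ0 : IsLocalRing.residue O π = 0 := (dvd_iff_residue hπ π).mp dvd_rfl
  have h1 : IsLocalRing.residue O (π ^ e.degree * coeff e G) = 0 := by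
    by_cases he : e.degree = 0
    · have : e = 0 := (Finsupp.degree_eq_zero_iff e).mp he
      rw [this, coeff_zero_eq_constantCoeff_apply, hG, mul_zero, map_zero]
    · rw [map_mul, map_pow, hπ0, zero_pow he, zero_mul]
  have hav : (fun i => MvPowerSeries.map (IsLocalRing.residue O)
      (av (σ := σ) π (Nat.card (IsLocalRing.ResidueField O)) i)) =
      fun i => (X i : MvPowerSeries σ (IsLocalRing.ResidueField O)) ^
        Nat.card (IsLocalRing.ResidueField O) := by
    funext i
    simp [av, smul_eq_C_mul, hπ0]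
  have h2 : MvPowerSeries.map (IsLocalRing.residue O)
      (G ^ Nat.card (IsLocalRing.ResidueField O)) =
      (MvPowerSeries.map (IsLocalRing.residue O) G) ^ Nat.card (IsLocalRing.ResidueField O) :=
    map_pow _ _ _
  unfold NN
  rw [map_sub, map_sub, h1, one_mul, ← coeff_map, ← coeff_map, map_subst (hasSubst_av π _ hq),
    hav, ← pow_card_eq_subst, h2]
  ring

theorem LT_unique (hπ : Irreducible π) {σ : Type*} [Finite σ] {G G' : MvPowerSeries σ O}
    (hG0 : constantCoeff G = 0) (hG0' : constantCoeff G' = 0)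
    (h1 : ∀ e : σ →₀ ℕ, e.degree = 1 → coeff e G = coeff e G')
    (hG : IsSol π 1 (Nat.card (IsLocalRing.ResidueField O)) G)
    (hG' : IsSol π 1 (Nat.card (IsLocalRing.ResidueField O)) G') : G = G' :=
  sol_unique two_le_card (isRegular_of_ne_zero hπ.ne_zero).left (isUnit_one_sub_pow hπ)
    hG0 hG0' h1 hG hG'

theorem LT_exists (hπ : Irreducible π) {σ : Type*} [Finite σ] (L : MvPowerSeries σ O) :
    ∃ G : MvPowerSeries σ O, constantCoeff G = 0 ∧
      (∀ e : σ →₀ ℕ, e.degree = 1 → coeff e G = coeff e L) ∧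
      IsSol π 1 (Nat.card (IsLocalRing.ResidueField O)) G :=
  exists_sol two_le_card (isUnit_one_sub_pow hπ) (dvd_NN hπ) L

variable {K : Type*} [Field K] [Algebra O K] [IsFractionRing O K]

lemma algebraMap_pi_ne_zero (hπ : Irreducible π) : algebraMap O K π ≠ 0 := by
  intro h
  exact hπ.ne_zero ((IsFractionRing.injective O K) (by rw [h, map_zero]))

lemma isUnit_one_sub_pow_K (hπ : Irreducible π) (r : ℕ) (hr : 1 ≤ r) :
    IsUnit (1 - (algebraMap O K π) ^ r) := by
  have := (isUnit_one_sub_pow hπ r hr).map (algebraMap O K)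
  rwa [map_sub, map_one, map_pow] at this

theorem LTK_unique (hπ : Irreducible π) {σ : Type*} [Finite σ] {G G' : MvPowerSeries σ K}
    (hG0 : constantCoeff G = 0) (hG0' : constantCoeff G' = 0)
    (h1 : ∀ e : σ →₀ ℕ, e.degree = 1 → coeff e G = coeff e G')
    (hG : IsSol (algebraMap O K π) 0 (Nat.card (IsLocalRing.ResidueField O)) G)
    (hG' : IsSol (algebraMap O K π) 0 (Nat.card (IsLocalRing.ResidueField O)) G') : G = G' :=
  sol_unique two_le_card (isRegular_of_ne_zero (algebraMap_pi_ne_zero hπ)).left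
    (isUnit_one_sub_pow_K hπ) hG0 hG0' h1 hG hG'

theorem LTK_exists (hπ : Irreducible π) {σ : Type*} [Finite σ] (L : MvPowerSeries σ K) :
    ∃ G : MvPowerSeries σ K, constantCoeff G = 0 ∧
      (∀ e : σ →₀ ℕ, e.degree = 1 → coeff e G = coeff e L) ∧
      IsSol (algebraMap O K π) 0 (Nat.card (IsLocalRing.ResidueField O)) G :=
  exists_sol two_le_card (isUnit_one_sub_pow_K hπ)
    (fun _ _ _ => (IsUnit.mk0 _ (algebraMap_pi_ne_zero hπ)).dvd) L

end DVR

section Conv

variable {R : Type*} [CommRing R] {π : R} {q : ℕ}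

/-- evaluating `f = π T + T^q` at a power series -/
lemma subst_f {τ : Type*} {f : PowerSeries R} (hf : f = π • PowerSeries.X + PowerSeries.X ^ q)
    {G : MvPowerSeries τ R} (hG : PowerSeries.HasSubst G) :
    PowerSeries.subst G f = π • G + G ^ q := by
  rw [hf, PowerSeries.subst_add hG, PowerSeries.subst_smul hG, PowerSeries.subst_pow hG,
    PowerSeries.subst_X hG]

lemma subst_f_X {σ : Type*} {f : PowerSeries R} (hf : f = π • PowerSeries.X + PowerSeries.X ^ q) :
    (fun i : σ => PowerSeries.subst (X i : MvPowerSeries σ R) f) = av π q := by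
  funext i
  rw [subst_f hf (PowerSeries.HasSubst.X i), av]

/-- the endomorphism condition, multivariate form -/
lemma isSol_iff_mv {σ : Type*} {f : PowerSeries R}
    (hf : f = π • PowerSeries.X + PowerSeries.X ^ q)
    {G : MvPowerSeries σ R} (hG : constantCoeff G = 0) :
    PowerSeries.subst G f =
      MvPowerSeries.subst (fun i : σ => PowerSeries.subst (X i : MvPowerSeries σ R) f) G ↔
      IsSol π 1 q G := by
  rw [subst_f hf (PowerSeries.HasSubst.of_constantCoeff_zero hG), subst_f_X hf, IsSol, one_smul]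
  exact eq_comm

lemma f_eq_av {f : PowerSeries R} (hf : f = π • PowerSeries.X + PowerSeries.X ^ q) :
    (fun _ : Unit => (f : MvPowerSeries Unit R)) = av π q := by
  funext i
  rw [hf, av]
  rfl

/-- the commutation condition, one-variable form -/
lemma isSol_iff_ps {f : PowerSeries R} (hf : f = π • PowerSeries.X + PowerSeries.X ^ q)
    {g : PowerSeries R} (hg : PowerSeries.constantCoeff g = 0) :
    PowerSeries.subst g f = PowerSeries.subst f g ↔ IsSol (σ := Unit) π 1 q g := by
  rw [subst_f hf (PowerSeries.HasSubst.of_constantCoeff_zero' hg), PowerSeries.subst_def,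
    f_eq_av hf, IsSol, one_smul]
  exact eq_comm

lemma coeff_eq_of_single {σ : Type*} {G G' : MvPowerSeries σ R}
    (h : ∀ i : σ, coeff (Finsupp.single i 1) G = coeff (Finsupp.single i 1) G') :
    ∀ e : σ →₀ ℕ, e.degree = 1 → coeff e G = coeff e G' := by
  intro e he
  have : e ∈ Set.range (fun a : σ => Finsupp.single a 1) := by
    rw [Finsupp.range_single_one]; exact he
  obtain ⟨j, rfl⟩ := this
  exact h j

/-- linear coefficient of a one-variable composition -/
lemma coeff_single_subst_ps {τ : Type*} {a : MvPowerSeries τ R} (ha : constantCoeff a = 0)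
    (g : PowerSeries R) (i : τ) :
    coeff (Finsupp.single i 1) (PowerSeries.subst a g) =
      PowerSeries.coeff 1 g * coeff (Finsupp.single i 1) a := by
  rw [PowerSeries.subst_def, coeff_single_subst (fun _ => ha)]
  simp only [Finset.univ_unique, Finset.sum_singleton]
  rfl

end Conv

section Statements

variable {O : Type*} [CommRing O] [IsDomain O] [IsDiscreteValuationRing O]
  [Finite (IsLocalRing.ResidueField O)] {π : O}

theorem endo_existsUnique (hπ : Irreducible π) {f : PowerSeries O}
    (hf : f = π • PowerSeries.X + PowerSeries.X ^ Nat.card (IsLocalRing.ResidueField O)) (α : O) :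
    ∃! g : PowerSeries O, g.constantCoeff = 0 ∧ g.coeff 1 = α ∧
      PowerSeries.subst g f = PowerSeries.subst f g := by
  obtain ⟨G, hG0, hG1, hGs⟩ := LT_exists (σ := Unit) hπ (α • (X () : MvPowerSeries Unit O))
  have hα : PowerSeries.coeff 1 (G : PowerSeries O) = α := by
    show coeff (Finsupp.single () 1) G = α
    rw [hG1 _ (Finsupp.degree_single _ _), map_smul, coeff_X, if_pos rfl, smul_eq_mul, mul_one]
  refine ⟨G, ⟨hG0, hα, (isSol_iff_ps hf hG0).mpr hGs⟩, ?_⟩
  rintro g ⟨hg0, hg1, hgs⟩
  refine LT_unique hπ hg0 hG0 (coeff_eq_of_single fun i => ?_) ((isSol_iff_ps hf hg0).mp hgs) hGs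
  show PowerSeries.coeff 1 g = PowerSeries.coeff 1 G
  rw [hg1, hα]

lemma constantCoeff_subst_zero' {σ τ : Type*} [Finite σ] {R : Type*} [CommRing R]
    {b : σ → MvPowerSeries τ R} (hb0 : ∀ j, constantCoeff (b j) = 0) {G : MvPowerSeries σ R}
    (hG : constantCoeff G = 0) : constantCoeff (subst b G) = 0 :=
  constantCoeff_subst_eq_zero (hasSubst_of_constantCoeff_zero hb0) hb0 hG

theorem endo_add_mul (hπ : Irreducible π) {f : PowerSeries O}
    (hf : f = π • PowerSeries.X + PowerSeries.X ^ Nat.card (IsLocalRing.ResidueField O))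
    (F : FormalGroup O)
    (hF : PowerSeries.subst F.toPowerSeries f =
        MvPowerSeries.subst (fun i : Fin 2 =>
          PowerSeries.subst (MvPowerSeries.X i : MvPowerSeries (Fin 2) O) f) F.toPowerSeries)
    {α β : O} {gα gβ gαβ gs : PowerSeries O}
    (hα0 : gα.constantCoeff = 0) (hα1 : gα.coeff 1 = α)
    (hαf : PowerSeries.subst gα f = PowerSeries.subst f gα)
    (hβ0 : gβ.constantCoeff = 0) (hβ1 : gβ.coeff 1 = β)
    (hβf : PowerSeries.subst gβ f = PowerSeries.subst f gβ)
    (hαβ0 : gαβ.constantCoeff = 0) (hαβ1 : gαβ.coeff 1 = α * β)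
    (hαβf : PowerSeries.subst gαβ f = PowerSeries.subst f gαβ)
    (hs0 : gs.constantCoeff = 0) (hs1 : gs.coeff 1 = α + β)
    (hsf : PowerSeries.subst gs f = PowerSeries.subst f gs) :
    PowerSeries.subst gβ gα = gαβ ∧ F.toPowerSeries.subst ![gα, gβ] = gs := by
  have hq : Nat.card (IsLocalRing.ResidueField O) ≠ 0 := by
    have := two_le_card (O := O); omega
  have hFs := (isSol_iff_mv hf F.zero_constantCoeff).mp hF
  have hαs := (isSol_iff_ps hf hα0).mp hαf
  have hβs := (isSol_iff_ps hf hβ0).mp hβf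
  have hαβs := (isSol_iff_ps hf hαβ0).mp hαβf
  have hss := (isSol_iff_ps hf hs0).mp hsf
  constructor
  · refine LT_unique hπ (PowerSeries.constantCoeff_subst_eq_zero hβ0 _ hα0) hαβ0
      (coeff_eq_of_single fun i => ?_) ?_ hαβs
    · rw [coeff_single_subst_ps hβ0]
      show PowerSeries.coeff 1 gα * PowerSeries.coeff 1 gβ = PowerSeries.coeff 1 gαβ
      rw [hα1, hβ1, hαβ1]
    · exact isSol_subst hq hαs (b := fun _ : Unit => gβ) (fun _ => hβ0) (fun _ => hβs)
  · have hb0 : ∀ j : Fin 2, constantCoeff ((![gα, gβ] : Fin 2 → MvPowerSeries Unit O) j) = 0 :=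
      Fin.forall_fin_two.mpr ⟨hα0, hβ0⟩
    have hbs : ∀ j : Fin 2, IsSol π 1 (Nat.card (IsLocalRing.ResidueField O))
        ((![gα, gβ] : Fin 2 → MvPowerSeries Unit O) j) :=
      Fin.forall_fin_two.mpr ⟨hαs, hβs⟩
    refine LT_unique hπ (constantCoeff_subst_zero' hb0 F.zero_constantCoeff) hs0
      (coeff_eq_of_single fun i => ?_) (isSol_subst hq hFs hb0 hbs) hss
    rw [coeff_single_subst hb0, Fin.sum_univ_two, F.lin_coeff_X, F.lin_coeff_Y, one_mul, one_mul]
    show PowerSeries.coeff 1 gα + PowerSeries.coeff 1 gβ = PowerSeries.coeff 1 gs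
    rw [hα1, hβ1, hs1]

theorem endo_comm_formalGroup (hπ : Irreducible π) {f : PowerSeries O}
    (hf : f = π • PowerSeries.X + PowerSeries.X ^ Nat.card (IsLocalRing.ResidueField O))
    (F : FormalGroup O)
    (hF : PowerSeries.subst F.toPowerSeries f =
        MvPowerSeries.subst (fun i : Fin 2 =>
          PowerSeries.subst (MvPowerSeries.X i : MvPowerSeries (Fin 2) O) f) F.toPowerSeries)
    {g : PowerSeries O} (hg0 : g.constantCoeff = 0)
    (hgf : PowerSeries.subst g f = PowerSeries.subst f g) :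
    PowerSeries.subst F.toPowerSeries g =
      MvPowerSeries.subst (fun i : Fin 2 =>
        PowerSeries.subst (MvPowerSeries.X i : MvPowerSeries (Fin 2) O) g) F.toPowerSeries := by
  have hq : Nat.card (IsLocalRing.ResidueField O) ≠ 0 := by
    have := two_le_card (O := O); omega
  have hFs := (isSol_iff_mv hf F.zero_constantCoeff).mp hF
  have hgs := (isSol_iff_ps hf hg0).mp hgf
  have hX0 : ∀ i : Fin 2, constantCoeff (X i : MvPowerSeries (Fin 2) O) = 0 :=
    fun i => constantCoeff_X i
  have hb0 : ∀ i : Fin 2, constantCoeff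
      (PowerSeries.subst (MvPowerSeries.X i : MvPowerSeries (Fin 2) O) g) = 0 :=
    fun i => PowerSeries.constantCoeff_subst_eq_zero (hX0 i) _ hg0
  have hbs : ∀ i : Fin 2, IsSol π 1 (Nat.card (IsLocalRing.ResidueField O))
      (PowerSeries.subst (MvPowerSeries.X i : MvPowerSeries (Fin 2) O) g) :=
    fun i => isSol_subst hq hgs (b := fun _ : Unit => (X i : MvPowerSeries (Fin 2) O))
      (fun _ => hX0 i) (fun _ => isSol_X hq i)
  refine LT_unique hπ (PowerSeries.constantCoeff_subst_eq_zero F.zero_constantCoeff _ hg0)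
    (constantCoeff_subst_zero' hb0 F.zero_constantCoeff) (coeff_eq_of_single fun i => ?_)
    (isSol_subst hq hgs (b := fun _ : Unit => F.toPowerSeries)
      (fun _ => F.zero_constantCoeff) (fun _ => hFs))
    (isSol_subst hq hFs hb0 hbs)
  rw [coeff_single_subst_ps F.zero_constantCoeff, coeff_single_subst hb0, Fin.sum_univ_two,
    F.lin_coeff_X, F.lin_coeff_Y, one_mul, one_mul, coeff_single_subst_ps (hX0 0),
    coeff_single_subst_ps (hX0 1), ← mul_add]
  congr 1
  classical
  fin_cases i
  · simp [coeff_X, F.lin_coeff_X, Finsupp.single_left_inj]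
  · simp [coeff_X, F.lin_coeff_Y, Finsupp.single_left_inj]

section Fin2

variable {τ : Type*} {R : Type*} [CommRing R] {π c : R} {q : ℕ}

lemma coeff_single_subst_fin2 (F : MvPowerSeries (Fin 2) R) {a b : MvPowerSeries τ R}
    (ha : constantCoeff a = 0) (hb : constantCoeff b = 0) (i : τ) :
    coeff (Finsupp.single i 1) (subst ![a, b] F) =
      coeff (Finsupp.single 0 1) F * coeff (Finsupp.single i 1) a +
      coeff (Finsupp.single 1 1) F * coeff (Finsupp.single i 1) b := by
  rw [coeff_single_subst (Fin.forall_fin_two.mpr ⟨ha, hb⟩), Fin.sum_univ_two]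
  rfl

lemma constantCoeff_subst_fin2 {F : MvPowerSeries (Fin 2) R} (hF : constantCoeff F = 0)
    {a b : MvPowerSeries τ R} (ha : constantCoeff a = 0) (hb : constantCoeff b = 0) :
    constantCoeff (subst ![a, b] F) = 0 :=
  constantCoeff_subst_zero' (Fin.forall_fin_two.mpr ⟨ha, hb⟩) hF

lemma isSol_subst_fin2 [Finite τ] (hq : q ≠ 0) {F : MvPowerSeries (Fin 2) R}
    (hF : IsSol π c q F) {a b : MvPowerSeries τ R}
    (ha0 : constantCoeff a = 0) (hb0 : constantCoeff b = 0)
    (ha : IsSol π 1 q a) (hb : IsSol π 1 q b) : IsSol π c q (subst ![a, b] F) :=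
  isSol_subst hq hF (Fin.forall_fin_two.mpr ⟨ha0, hb0⟩) (Fin.forall_fin_two.mpr ⟨ha, hb⟩)

end Fin2

theorem exists_formalGroup (hπ : Irreducible π) {f : PowerSeries O}
    (hf : f = π • PowerSeries.X + PowerSeries.X ^ Nat.card (IsLocalRing.ResidueField O)) :
    ∃ F : FormalGroup O, F.IsComm ∧
      PowerSeries.subst F.toPowerSeries f =
        MvPowerSeries.subst (fun i : Fin 2 =>
          PowerSeries.subst (MvPowerSeries.X i : MvPowerSeries (Fin 2) O) f) F.toPowerSeries ∧
      ∀ G : MvPowerSeries (Fin 2) O, G.constantCoeff = 0 → G.coeff (Finsupp.single 0 1) = 1 →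
        G.coeff (Finsupp.single 1 1) = 1 →
        PowerSeries.subst G f =
        MvPowerSeries.subst (fun i : Fin 2 =>
          PowerSeries.subst (MvPowerSeries.X i : MvPowerSeries (Fin 2) O) f) G →
        G = F.toPowerSeries := by
  classical
  have hq : Nat.card (IsLocalRing.ResidueField O) ≠ 0 := by
    have := two_le_card (O := O); omega
  obtain ⟨F, hF0, hF1, hFs⟩ := LT_exists (σ := Fin 2) hπ
    ((X 0 : MvPowerSeries (Fin 2) O) + X 1)
  have hFX : coeff (Finsupp.single 0 1) F = 1 := by
    rw [hF1 _ (Finsupp.degree_single _ _)]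
    simp [coeff_X, Finsupp.single_left_inj]
  have hFY : coeff (Finsupp.single 1 1) F = 1 := by
    rw [hF1 _ (Finsupp.degree_single _ _)]
    simp [coeff_X, Finsupp.single_left_inj]
  have hX3 : ∀ i : Fin 3, constantCoeff (X i : MvPowerSeries (Fin 3) O) = 0 :=
    fun i => constantCoeff_X i
  have hX2 : ∀ i : Fin 2, constantCoeff (X i : MvPowerSeries (Fin 2) O) = 0 :=
    fun i => constantCoeff_X i
  have hP0 := constantCoeff_subst_fin2 hF0 (hX3 0) (hX3 1)
  have hPs := isSol_subst_fin2 hq hFs (hX3 0) (hX3 1) (isSol_X hq (0 : Fin 3)) (isSol_X hq 1)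
  have hQ0 := constantCoeff_subst_fin2 hF0 (hX3 1) (hX3 2)
  have hQs := isSol_subst_fin2 hq hFs (hX3 1) (hX3 2) (isSol_X hq (1 : Fin 3)) (isSol_X hq 2)
  have hassoc : subst ![subst ![(X 0 : MvPowerSeries (Fin 3) O), X 1] F, X 2] F =
      subst ![(X 0 : MvPowerSeries (Fin 3) O), subst ![X 1, X 2] F] F := by
    refine LT_unique hπ (constantCoeff_subst_fin2 hF0 hP0 (hX3 2))
      (constantCoeff_subst_fin2 hF0 (hX3 0) hQ0) (coeff_eq_of_single fun i => ?_)
      (isSol_subst_fin2 hq hFs hP0 (hX3 2) hPs (isSol_X hq 2))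
      (isSol_subst_fin2 hq hFs (hX3 0) hQ0 (isSol_X hq 0) hQs)
    rw [coeff_single_subst_fin2 F hP0 (hX3 2), coeff_single_subst_fin2 F (hX3 0) hQ0,
      coeff_single_subst_fin2 F (hX3 0) (hX3 1), coeff_single_subst_fin2 F (hX3 1) (hX3 2),
      hFX, hFY]
    ring
  have hcomm : F = subst ![X 1, X 0] F := by
    refine LT_unique hπ hF0 (constantCoeff_subst_fin2 hF0 (hX2 1) (hX2 0))
      (coeff_eq_of_single fun i => ?_) hFs
      (isSol_subst_fin2 hq hFs (hX2 1) (hX2 0) (isSol_X hq 1) (isSol_X hq 0))
    rw [coeff_single_subst_fin2 F (hX2 1) (hX2 0), hFX, hFY]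
    fin_cases i
    · simp [coeff_X, hFX, Finsupp.single_left_inj]
    · simp [coeff_X, hFY, Finsupp.single_left_inj]
  refine ⟨⟨F, hF0, hFX, hFY, hassoc⟩, ⟨hcomm⟩, (isSol_iff_mv hf hF0).mpr hFs, ?_⟩
  intro G hG0 hGX hGY hGeq
  exact LT_unique hπ hG0 hF0
    (coeff_eq_of_single (Fin.forall_fin_two.mpr ⟨by rw [hGX, hFX], by rw [hGY, hFY]⟩))
    ((isSol_iff_mv hf hG0).mp hGeq) hFs

lemma isSol0_iff_ps {R : Type*} [CommRing R] {π : R} {q : ℕ} {f : PowerSeries R}
    (hf : f = π • PowerSeries.X + PowerSeries.X ^ q) (ℓ : PowerSeries R) :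
    PowerSeries.subst f ℓ = π • ℓ ↔ IsSol (σ := Unit) π 0 q ℓ := by
  rw [PowerSeries.subst_def, f_eq_av hf, IsSol, zero_smul, add_zero]

theorem exists_logarithm (hπ : Irreducible π) {K : Type*} [Field K] [Algebra O K]
    [IsFractionRing O K] {f : PowerSeries O}
    (hf : f = π • PowerSeries.X + PowerSeries.X ^ Nat.card (IsLocalRing.ResidueField O))
    (F : FormalGroup O)
    (hF : PowerSeries.subst F.toPowerSeries f =
        MvPowerSeries.subst (fun i : Fin 2 =>
          PowerSeries.subst (MvPowerSeries.X i : MvPowerSeries (Fin 2) O) f) F.toPowerSeries) :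
    ∃ ℓ : PowerSeries K, (ℓ.constantCoeff = 0 ∧ ℓ.coeff 1 = 1 ∧
      PowerSeries.subst (PowerSeries.map (algebraMap O K) f) ℓ = algebraMap O K π • ℓ) ∧
      (∀ ℓ' : PowerSeries K, ℓ'.constantCoeff = 0 → ℓ'.coeff 1 = 1 →
        PowerSeries.subst (PowerSeries.map (algebraMap O K) f) ℓ' = algebraMap O K π • ℓ' →
        ℓ' = ℓ) ∧
      PowerSeries.subst ((F.toPowerSeries).map (algebraMap O K)) ℓ =
        PowerSeries.subst (MvPowerSeries.X (0 : Fin 2) : MvPowerSeries (Fin 2) K) ℓ +
          PowerSeries.subst (MvPowerSeries.X (1 : Fin 2) : MvPowerSeries (Fin 2) K) ℓ ∧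
      (∀ (α : O) (g : PowerSeries O), g.constantCoeff = 0 → g.coeff 1 = α →
        PowerSeries.subst g f = PowerSeries.subst f g →
        PowerSeries.subst (PowerSeries.map (algebraMap O K) g) ℓ = algebraMap O K α • ℓ) := by
  classical
  have hq : Nat.card (IsLocalRing.ResidueField O) ≠ 0 := by
    have := two_le_card (O := O); omega
  have hfK : PowerSeries.map (algebraMap O K) f = algebraMap O K π • PowerSeries.X +
      PowerSeries.X ^ Nat.card (IsLocalRing.ResidueField O) := by
    rw [hf, map_add, map_pow, PowerSeries.map_X, PowerSeries.smul_eq_C_mul, map_mul,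
      PowerSeries.map_C, PowerSeries.map_X, ← PowerSeries.smul_eq_C_mul]
  have hFs := (isSol_iff_mv hf F.zero_constantCoeff).mp hF
  have hFKs : IsSol (algebraMap O K π) 1 (Nat.card (IsLocalRing.ResidueField O))
      (MvPowerSeries.map (algebraMap O K) F.toPowerSeries) := by
    have := isSol_map (algebraMap O K) hq hFs
    rwa [map_one] at this
  have hFK0 : constantCoeff (MvPowerSeries.map (algebraMap O K) F.toPowerSeries) = 0 := by
    rw [constantCoeff_map, F.zero_constantCoeff, map_zero]
  obtain ⟨ℓ, hℓ0, hℓ1', hℓs⟩ := LTK_exists (K := K) (σ := Unit) hπ (X () : MvPowerSeries Unit K)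
  have hℓ1 : PowerSeries.coeff 1 (ℓ : PowerSeries K) = 1 := by
    show coeff (Finsupp.single () 1) ℓ = 1
    rw [hℓ1' _ (Finsupp.degree_single _ _), coeff_X, if_pos rfl]
  have hX2 : ∀ i : Fin 2, constantCoeff (X i : MvPowerSeries (Fin 2) K) = 0 :=
    fun i => constantCoeff_X i
  refine ⟨ℓ, ⟨hℓ0, hℓ1, (isSol0_iff_ps hfK ℓ).mpr hℓs⟩, ?_, ?_, ?_⟩
  · intro ℓ' hℓ'0 hℓ'1 hℓ's
    refine LTK_unique hπ hℓ'0 hℓ0 (coeff_eq_of_single fun i => ?_)
      ((isSol0_iff_ps hfK ℓ').mp hℓ's) hℓs
    show PowerSeries.coeff 1 ℓ' = PowerSeries.coeff 1 ℓ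
    rw [hℓ'1, hℓ1]
  · refine LTK_unique hπ (PowerSeries.constantCoeff_subst_eq_zero hFK0 _ hℓ0) ?_
      (coeff_eq_of_single fun i => ?_)
      (isSol_subst hq hℓs (b := fun _ : Unit => MvPowerSeries.map (algebraMap O K) F.toPowerSeries)
        (fun _ => hFK0) (fun _ => hFKs))
      (isSol_add hq
        (isSol_subst hq hℓs (b := fun _ : Unit => (X 0 : MvPowerSeries (Fin 2) K))
          (fun _ => hX2 0) (fun _ => isSol_X hq 0))
        (isSol_subst hq hℓs (b := fun _ : Unit => (X 1 : MvPowerSeries (Fin 2) K))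
          (fun _ => hX2 1) (fun _ => isSol_X hq 1)))
    · rw [map_add, PowerSeries.constantCoeff_subst_eq_zero (hX2 0) _ hℓ0,
        PowerSeries.constantCoeff_subst_eq_zero (hX2 1) _ hℓ0, add_zero]
    · rw [map_add, coeff_single_subst_ps hFK0, coeff_single_subst_ps (hX2 0),
        coeff_single_subst_ps (hX2 1), hℓ1, one_mul, one_mul, one_mul, coeff_map]
      fin_cases i
      · simp [coeff_X, F.lin_coeff_X, Finsupp.single_left_inj]
      · simp [coeff_X, F.lin_coeff_Y, Finsupp.single_left_inj]
  · intro α g hg0 hg1 hgf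
    have hgs := (isSol_iff_ps hf hg0).mp hgf
    have hgKs : IsSol (σ := Unit) (algebraMap O K π) 1 (Nat.card (IsLocalRing.ResidueField O))
        (MvPowerSeries.map (algebraMap O K) g) := by
      have := isSol_map (algebraMap O K) hq hgs
      rwa [map_one] at this
    have hgK0 : constantCoeff (MvPowerSeries.map (algebraMap O K) (g : MvPowerSeries Unit O)) = 0 := by
      rw [constantCoeff_map]
      show algebraMap O K (PowerSeries.constantCoeff g) = 0
      rw [hg0, map_zero]
    refine LTK_unique hπ (PowerSeries.constantCoeff_subst_eq_zero hgK0 _ hℓ0) ?_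
      (coeff_eq_of_single fun i => ?_)
      (isSol_subst hq hℓs (b := fun _ : Unit => MvPowerSeries.map (algebraMap O K) g)
        (fun _ => hgK0) (fun _ => hgKs))
      (isSol_smul hq (algebraMap O K α) hℓs)
    · rw [← coeff_zero_eq_constantCoeff_apply, map_smul, coeff_zero_eq_constantCoeff_apply, hℓ0,
        smul_zero]
    · rw [show PowerSeries.map (algebraMap O K) g = MvPowerSeries.map (algebraMap O K) g from rfl,
        coeff_single_subst_ps hgK0, hℓ1, one_mul, coeff_map, map_smul]
      show algebraMap O K (PowerSeries.coeff 1 g) = algebraMap O K α • PowerSeries.coeff 1 ℓ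
      rw [hg1, hℓ1, smul_eq_mul, mul_one]

end Statements

end Groth.Agent.Lib.Helper20.LT
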