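import Mathlib
import Groth.Prelude.Def_HopfRep
import Groth.Prelude.Def_GLin
import Groth.Prelude.Def_W4c1tameactTame
import Groth.Agent.Lib.Helper26.ReynoldsMod
import Groth.Agent.Lib.Helper20.ChevLemma

set_option autoImplicit false
set_option linter.unusedSectionVars false
set_option linter.style.haveILetI false
universe u v w w'

namespace Groth.Agent.Lib.Helper20.LunaInv

open TensorProduct HopfRep Groth.Agent.Lib.Helper23 Groth.Agent.Lib.Helper26.Comod

variable {k : Type u} [Field k] {H : Type v} [CommRing H] [HopfAlgebra k H]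
    {A : Type w} [CommRing A] [Algebra k A] [IsNoetherianRing A]
    [HopfRep.Comod k H A] [GLin.IsCoactAlg k H A]
    (m : Ideal A) [m.IsMaximal]
    [IsLocalRing ↥(GLin.invariants k H A)]
    {M : Type w'} [AddCommGroup M] [Module k M] [Module A M] [IsScalarTower k A M] [Module.Finite A M]
    [HopfRep.Comod k H M] [TameAct.IsHopfMod k H A M]

theorem part_one (hG : HopfRep.IsLinearlyReductive k H)
    (hm : HopfRep.IsSubcomod (k := k) (A := H) (m.restrictScalars k))
    (x : M) (hx : x ∈ HopfRep.fixedPts k H M)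
    (hxn : ∀ n : ℕ, x ∈ (m ^ n • ⊤ : Submodule A M)) : x = 0 := by
  obtain ⟨α, hα, hα1⟩ := exists_comodHom_unit hG A
  have hmem : x ∈ (⨅ i : ℕ, m ^ i • (⊤ : Submodule A M)) := (Submodule.mem_iInf _).mpr hxn
  obtain ⟨⟨a, ha⟩, hax⟩ := (Ideal.mem_iInf_smul_pow_eq_bot_iff m x).mp hmem
  set e := TameAct.reynolds k H A A α a with he
  have he_inv : e ∈ GLin.invariants k H A := reynolds_mem_invariants hα a
  have he_m : e ∈ m := reynolds_mem_of_isSubcomod (α := α) m hm a ha
  have hex : e • x = x := by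
    have h1 := reynolds_smul_of_mem_fixedPts α a x hx
    rw [show a • x = x from hax, reynolds_eq_self hα1 x hx] at h1
    exact h1.symm
  let e' : GLin.invariants k H A := ⟨e, he_inv⟩
  have hnu : ¬ IsUnit e' := by
    intro hu
    have h2 : IsUnit e := hu.map (algebraMap (GLin.invariants k H A) A)
    exact (Ideal.IsPrime.ne_top inferInstance) (Ideal.eq_top_of_isUnit_mem m he_m h2)
  have hu : IsUnit (1 - e') := IsLocalRing.isUnit_one_sub_self_of_mem_nonunits e' hnu
  have hu' : IsUnit (1 - e) := by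
    have := hu.map (algebraMap (GLin.invariants k H A) A)
    simpa using this
  have h0 : (1 - e) • x = 0 := by rw [sub_smul, one_smul, hex, sub_self]
  exact (hu'.smul_eq_zero).mp h0

variable (k H A M) in
/-- the invariants of `M` as a module over the ring of invariants -/
noncomputable def N₀ : Submodule ↥(GLin.invariants k H A) M where
  carrier := HopfRep.fixedPts k H M
  add_mem' := fun ha hb => (HopfRep.fixedPts k H M).add_mem ha hb
  zero_mem' := (HopfRep.fixedPts k H M).zero_mem
  smul_mem' := by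
    rintro ⟨r, hr⟩ x hx
    have hr' : HopfRep.Comod.coact (k := k) (A := H) r = r ⊗ₜ[k] (1 : H) := hr
    have hx' : HopfRep.Comod.coact (k := k) (A := H) x = x ⊗ₜ[k] (1 : H) := hx
    change HopfRep.Comod.coact (k := k) (A := H) (r • x) = (r • x) ⊗ₜ[k] (1 : H)
    rw [TameAct.IsHopfMod.coact_smul (k := k) (A := H), hr', hx', TameAct.hmSMul_tmul, one_mul]

lemma mem_N₀ (x : M) : x ∈ N₀ k H A M ↔ x ∈ HopfRep.fixedPts k H M := Iff.rfl

theorem finite_N₀ (hG : HopfRep.IsLinearlyReductive k H) :
    Module.Finite ↥(GLin.invariants k H A) ↥(N₀ k H A M) := by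
  classical
  obtain ⟨s, hs, hgen⟩ := exists_finset_fixedPts_generating (R := A) (M := M) hG
  rw [Module.Finite.iff_fg]
  refine ⟨s, le_antisymm ?_ ?_⟩
  · rw [Submodule.span_le]
    intro y hy
    exact hs hy
  · intro x hx
    obtain ⟨c, hc, rfl⟩ := hgen x hx
    refine Submodule.sum_mem _ fun y hy => ?_
    have : c y • y = (⟨c y, hc y hy⟩ : ↥(GLin.invariants k H A)) • y := rfl
    rw [this]
    exact Submodule.smul_mem _ _ (Submodule.subset_span hy)

open Groth.Agent.Lib.Helper20.ChevLemma in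
theorem part_two (hG : HopfRep.IsLinearlyReductive k H)
    (hm : HopfRep.IsSubcomod (k := k) (A := H) (m.restrictScalars k))
    [IsNoetherianRing ↥(GLin.invariants k H A)]
    [IsAdicComplete (IsLocalRing.maximalIdeal ↥(GLin.invariants k H A)) ↥(GLin.invariants k H A)]
    (x : ℕ → M) (hx : ∀ n, x n ∈ HopfRep.fixedPts k H M)
    (hd : ∀ n, x (n + 1) - x n ∈ (m ^ n • ⊤ : Submodule A M)) :
    ∃ y ∈ HopfRep.fixedPts k H M, ∀ n, y - x n ∈ (m ^ n • ⊤ : Submodule A M) := by
  classical
  haveI : Module.Finite ↥(GLin.invariants k H A) ↥(N₀ k H A M) := finite_N₀ hG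
  haveI : IsAdicComplete (IsLocalRing.maximalIdeal ↥(GLin.invariants k H A)) ↥(N₀ k H A M) :=
    Groth.Agent.Lib.Lead.ComplFin.isAdicComplete_of_finite _ _
  -- the filtration
  let F : ℕ → Submodule ↥(GLin.invariants k H A) ↥(N₀ k H A M) := fun n =>
    Submodule.comap (N₀ k H A M).subtype
      ((m ^ n • ⊤ : Submodule A M).restrictScalars ↥(GLin.invariants k H A))
  have hFmem : ∀ n (z : ↥(N₀ k H A M)), z ∈ F n ↔ (z : M) ∈ (m ^ n • ⊤ : Submodule A M) :=
    fun n z => Iff.rfl
  have hF : Antitone F := by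
    intro a b hab z hz
    rw [hFmem] at hz ⊢
    exact Submodule.smul_mono_left (Ideal.pow_le_pow_right hab) hz
  have hbot : ⨅ n, F n = ⊥ := by
    rw [eq_bot_iff]
    intro z hz
    rw [Submodule.mem_iInf] at hz
    rw [Submodule.mem_bot]
    apply Subtype.ext
    exact part_one m hG hm z.1 z.2 (fun n => (hFmem n z).mp (hz n))
  choose ν hν using fun c : ℕ => chevalley F hF hbot c
  let x' : ℕ → ↥(N₀ k H A M) := fun n => ⟨x n, hx n⟩
  have htel : ∀ i d, x' (i + d) - x' i ∈ F i := by
    intro i d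
    induction d with
    | zero => simp
    | succ d ih =>
      have h1 : x' (i + (d + 1)) - x' i = (x' (i + d + 1) - x' (i + d)) + (x' (i + d) - x' i) := by
        rw [← add_assoc]; abel
      rw [h1]
      refine add_mem (hF (Nat.le_add_right i d) ?_) ih
      rw [hFmem]
      exact hd (i + d)
  have htel' : ∀ i j, i ≤ j → x' j - x' i ∈ F i := by
    intro i j hij
    obtain ⟨d, rfl⟩ := Nat.exists_eq_add_of_le hij
    exact htel i d
  let μ : ℕ → ℕ := fun c => (∑ i ∈ Finset.range (c + 1), ν i) + c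
  have hμν : ∀ c, ν c ≤ μ c := by
    intro c
    have : ν c ≤ ∑ i ∈ Finset.range (c + 1), ν i :=
      Finset.single_le_sum (f := ν) (fun _ _ => Nat.zero_le _) (Finset.self_mem_range_succ c)
    exact le_trans this (Nat.le_add_right _ _)
  have hμc : ∀ c, c ≤ μ c := fun c => Nat.le_add_left _ _
  have hμmono : Monotone μ := by
    intro a b hab
    apply add_le_add _ hab
    exact Finset.sum_le_sum_of_subset (Finset.range_mono (by omega))
  let z : ℕ → ↥(N₀ k H A M) := fun c => x' (μ c)
  have hcauchy : ∀ {a b}, a ≤ b → z a ≡ z b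
      [SMOD (IsLocalRing.maximalIdeal ↥(GLin.invariants k H A) ^ a • ⊤ :
        Submodule ↥(GLin.invariants k H A) ↥(N₀ k H A M))] := by
    intro a b hab
    rw [SModEq.sub_mem]
    have h1 : z b - z a ∈ F (μ a) := htel' (μ a) (μ b) (hμmono hab)
    have h2 : z b - z a ∈ T ↥(GLin.invariants k H A) ↥(N₀ k H A M) a := hν a (hF (hμν a) h1)
    have h3 : z a - z b = -(z b - z a) := by abel
    rw [h3]
    exact neg_mem h2
  obtain ⟨L, hL⟩ := IsPrecomplete.prec (I := IsLocalRing.maximalIdeal ↥(GLin.invariants k H A))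
    (M := ↥(N₀ k H A M)) inferInstance (f := z) hcauchy
  refine ⟨L.1, L.2, fun n => ?_⟩
  have key : L - x' n ∈ F n := by
    apply mem_of_forall_mem_sup
    intro c
    set c' := max c n with hc'
    have h1 : z c' - L ∈ T ↥(GLin.invariants k H A) ↥(N₀ k H A M) c' := by
      have := hL c'
      rwa [SModEq.sub_mem] at this
    have h2 : T ↥(GLin.invariants k H A) ↥(N₀ k H A M) c' ≤
        T ↥(GLin.invariants k H A) ↥(N₀ k H A M) c := T_antitone (le_max_left _ _)
    have h3 : z c' - x' n ∈ F n :=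
      htel' n (μ c') (le_trans (le_max_right c n) (hμc c'))
    have h4 : L - x' n = (z c' - x' n) - (z c' - L) := by abel
    rw [h4]
    exact sub_mem (Submodule.mem_sup_left h3) (Submodule.mem_sup_right (h2 h1))
  exact (hFmem n (L - x' n)).mp key

end Groth.Agent.Lib.Helper20.LunaInv
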