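import Mathlib

namespace Groth.Agent.Lib.Helper20.MonoWeight

open MvPolynomial

variable {k : Type*} [Field k]

/-- monomial -/
noncomputable def mono (d0 d1 d2 : ℕ) : MvPolynomial (Fin 3) k :=
  X (0 : Fin 3) ^ d0 * X (1 : Fin 3) ^ d1 * X (2 : Fin 3) ^ d2

/-- `u - v` -/
noncomputable def uv (p q : ℕ) : MvPolynomial (Fin 3) k :=
  X (0 : Fin 3) ^ (q - p) - X (1 : Fin 3) * X (2 : Fin 3)

/-- `w` -/
noncomputable def ww (p m : ℕ) : MvPolynomial (Fin 3) k :=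
  X (0 : Fin 3) ^ (m * p) * X (1 : Fin 3) ^ m

theorem same_aux (p q : ℕ) (hpq : p < q) (d0 d1 d2 e0 e1 e2 : ℕ)
    (hn : (e0 : ℤ) - (p : ℤ) * e1 + (q : ℤ) * e2 = (d0 : ℤ) - (p : ℤ) * d1 + (q : ℤ) * d2)
    (hc : (d1 : ℤ) - d2 = (e1 : ℤ) - e2) (hle : d1 ≤ e1) :
    (mono d0 d1 d2 - mono e0 e1 e2 : MvPolynomial (Fin 3) k) ∈ Ideal.span {uv p q} := by
  obtain ⟨t, rfl⟩ := Nat.exists_eq_add_of_le hle
  have he2 : e2 = d2 + t := by push_cast at hc; omega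
  subst he2
  have hd0 : d0 = e0 + (q - p) * t := by
    have : (d0 : ℤ) = e0 + ((q - p : ℕ) : ℤ) * t := by
      rw [Nat.cast_sub hpq.le]
      push_cast at hn
      linarith
    exact_mod_cast this
  subst hd0
  rw [Ideal.mem_span_singleton]
  have h1 : (mono (e0 + (q - p) * t) d1 d2 - mono e0 (d1 + t) (d2 + t) : MvPolynomial (Fin 3) k) =
      mono e0 d1 d2 * ((X (0 : Fin 3) ^ (q - p)) ^ t - (X (1 : Fin 3) * X (2 : Fin 3)) ^ t) := by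
    simp only [mono]
    ring
  rw [h1]
  unfold uv
  exact Dvd.dvd.mul_left (sub_dvd_pow_sub_pow _ _ t) _

theorem same (p q : ℕ) (hpq : p < q) (d0 d1 d2 e0 e1 e2 : ℕ)
    (hn : (e0 : ℤ) - (p : ℤ) * e1 + (q : ℤ) * e2 = (d0 : ℤ) - (p : ℤ) * d1 + (q : ℤ) * d2)
    (hc : (d1 : ℤ) - d2 = (e1 : ℤ) - e2) :
    (mono d0 d1 d2 - mono e0 e1 e2 : MvPolynomial (Fin 3) k) ∈ Ideal.span {uv p q} := by
  rcases le_total d1 e1 with h | h
  · exact same_aux p q hpq d0 d1 d2 e0 e1 e2 hn hc h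
  · have := same_aux (k := k) p q hpq e0 e1 e2 d0 d1 d2 hn.symm hc.symm h
    rw [← neg_sub]
    exact Ideal.neg_mem_iff _ |>.2 this

theorem shift (p q m : ℕ) (hpq : p < q) (hm : 0 < m) (d0 d1 d2 e0 e1 e2 : ℕ)
    (hn : (e0 : ℤ) - (p : ℤ) * e1 + (q : ℤ) * e2 = (d0 : ℤ) - (p : ℤ) * d1 + (q : ℤ) * d2)
    (hc : (m : ℤ) ∣ ((d1 : ℤ) - d2) - ((e1 : ℤ) - e2))
    (hle : (e1 : ℤ) - e2 ≤ (d1 : ℤ) - d2) :
    ∃ s : ℕ, ((d1 : ℤ) - d2) - ((e1 : ℤ) - e2) = (m : ℤ) * s ∧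
      (mono d0 d1 d2 - mono e0 e1 e2 * ww p m ^ s : MvPolynomial (Fin 3) k) ∈
        Ideal.span {uv p q} := by
  obtain ⟨s, hs⟩ := hc
  have hs0 : 0 ≤ s := by
    by_contra hneg
    push_neg at hneg
    have hm' : (0 : ℤ) < m := by exact_mod_cast hm
    have : (m : ℤ) * s < 0 := mul_neg_of_pos_of_neg hm' hneg
    linarith
  obtain ⟨s', rfl⟩ := Int.eq_ofNat_of_zero_le hs0
  refine ⟨s', hs, ?_⟩
  have h1 : (mono e0 e1 e2 * ww p m ^ s' : MvPolynomial (Fin 3) k) =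
      mono (e0 + s' * (m * p)) (e1 + s' * m) e2 := by
    simp only [mono, ww]
    ring
  rw [h1]
  refine same p q hpq d0 d1 d2 _ _ e2 ?_ ?_
  · push_cast
    linarith
  · push_cast
    linarith

theorem result' (p q m : ℕ) (hp : 0 < p) (hpq : p < q) (hcop : Nat.Coprime p q) (hm : 0 < m)
    (d0 d1 d2 e0 e1 e2 : ℕ) (hn : (e0 : ℤ) - (p : ℤ) * e1 + (q : ℤ) * e2 = (d0 : ℤ) - (p : ℤ) * d1 + (q : ℤ) * d2)
    (hc : (m : ℤ) ∣ ((d1 : ℤ) - d2) - ((e1 : ℤ) - e2)) :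
    ((d1 : ℤ) - d2 = (e1 : ℤ) - e2 →
      (MvPolynomial.X (0 : Fin 3) ^ d0 * MvPolynomial.X (1 : Fin 3) ^ d1 * MvPolynomial.X (2 : Fin 3) ^ d2 - MvPolynomial.X (0 : Fin 3) ^ e0 * MvPolynomial.X (1 : Fin 3) ^ e1 * MvPolynomial.X (2 : Fin 3) ^ e2 : MvPolynomial (Fin 3) k) ∈ Ideal.span {MvPolynomial.X (0 : Fin 3) ^ (q - p) - MvPolynomial.X (1 : Fin 3) * MvPolynomial.X (2 : Fin 3)}) ∧
    ((e1 : ℤ) - e2 < (d1 : ℤ) - d2 →
      (MvPolynomial.X (0 : Fin 3) ^ d0 * MvPolynomial.X (1 : Fin 3) ^ d1 * MvPolynomial.X (2 : Fin 3) ^ d2 : MvPolynomial (Fin 3) k) ∈ Ideal.span {MvPolynomial.X (0 : Fin 3) ^ (q - p) - MvPolynomial.X (1 : Fin 3) * MvPolynomial.X (2 : Fin 3), MvPolynomial.X (0 : Fin 3) ^ (m * p) * MvPolynomial.X (1 : Fin 3) ^ m}) ∧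
    ((MvPolynomial.X (0 : Fin 3) ^ d0 * MvPolynomial.X (1 : Fin 3) ^ d1 * MvPolynomial.X (2 : Fin 3) ^ d2 - MvPolynomial.X (0 : Fin 3) ^ e0 * MvPolynomial.X (1 : Fin 3) ^ e1 * MvPolynomial.X (2 : Fin 3) ^ e2 : MvPolynomial (Fin 3) k) ∈ Ideal.span {MvPolynomial.X (0 : Fin 3) ^ (q - p) - MvPolynomial.X (1 : Fin 3) * MvPolynomial.X (2 : Fin 3), 1 - MvPolynomial.X (0 : Fin 3) ^ (m * p) * MvPolynomial.X (1 : Fin 3) ^ m}) := by
  have hsub1 : ∀ z : MvPolynomial (Fin 3) k, Ideal.span {uv (k := k) p q} ≤ Ideal.span {uv p q, z} :=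
    fun z => Ideal.span_mono (by intro a ha; rw [Set.mem_singleton_iff] at ha; rw [ha]; simp)
  -- the third part in the case `c' ≤ c`
  have part3 : ∀ (d0 d1 d2 e0 e1 e2 : ℕ),
      (e0 : ℤ) - (p : ℤ) * e1 + (q : ℤ) * e2 = (d0 : ℤ) - (p : ℤ) * d1 + (q : ℤ) * d2 →
      (m : ℤ) ∣ ((d1 : ℤ) - d2) - ((e1 : ℤ) - e2) → (e1 : ℤ) - e2 ≤ (d1 : ℤ) - d2 →
      (mono d0 d1 d2 - mono e0 e1 e2 : MvPolynomial (Fin 3) k) ∈
        Ideal.span {uv p q, 1 - ww p m} := by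
    intro d0 d1 d2 e0 e1 e2 hn hc hle
    obtain ⟨s, _, hmem⟩ := shift (k := k) p q m hpq hm d0 d1 d2 e0 e1 e2 hn hc hle
    have h1 : (mono d0 d1 d2 - mono e0 e1 e2 : MvPolynomial (Fin 3) k) =
        (mono d0 d1 d2 - mono e0 e1 e2 * ww p m ^ s) - mono e0 e1 e2 * (1 ^ s - ww p m ^ s) := by
      ring
    rw [h1]
    refine Ideal.sub_mem _ (hsub1 _ hmem) (Ideal.mul_mem_left _ _ ?_)
    obtain ⟨r, hr⟩ := sub_dvd_pow_sub_pow (1 : MvPolynomial (Fin 3) k) (ww p m) s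
    rw [hr]
    exact Ideal.mul_mem_right _ _ (Ideal.subset_span (by simp))
  refine ⟨fun hcc => same p q hpq d0 d1 d2 e0 e1 e2 hn hcc, fun hlt => ?_, ?_⟩
  · obtain ⟨s, hs, hmem⟩ := shift (k := k) p q m hpq hm d0 d1 d2 e0 e1 e2 hn hc hlt.le
    have hs1 : 1 ≤ s := by
      rcases Nat.eq_zero_or_pos s with h | h
      · subst h
        simp at hs
        linarith
      · exact h
    have hw : (ww p m ^ s : MvPolynomial (Fin 3) k) = ww p m ^ (s - 1) * ww p m := by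
      rw [← pow_succ, Nat.sub_add_cancel hs1]
    have h1 : (mono d0 d1 d2 : MvPolynomial (Fin 3) k) =
        (mono d0 d1 d2 - mono e0 e1 e2 * ww p m ^ s) +
          mono e0 e1 e2 * ww p m ^ (s - 1) * ww p m := by
      rw [hw]
      ring
    change (mono d0 d1 d2 : MvPolynomial (Fin 3) k) ∈ Ideal.span {uv p q, ww p m}
    rw [h1]
    exact Ideal.add_mem _ (hsub1 _ hmem) (Ideal.mul_mem_left _ _ (Ideal.subset_span (by simp)))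
  · rcases le_total ((e1 : ℤ) - e2) ((d1 : ℤ) - d2) with hle | hle
    · exact part3 d0 d1 d2 e0 e1 e2 hn hc hle
    · have := part3 e0 e1 e2 d0 d1 d2 hn.symm ((dvd_sub_comm).1 hc) hle
      change (mono d0 d1 d2 - mono e0 e1 e2 : MvPolynomial (Fin 3) k) ∈
        Ideal.span {uv p q, 1 - ww p m}
      rw [← neg_sub (mono e0 e1 e2) (mono d0 d1 d2)]
      exact (Ideal.neg_mem_iff _).2 this

end Groth.Agent.Lib.Helper20.MonoWeight
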