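import Mathlib

namespace Groth.Agent.Lib.Helper20.MonoWeight2

open MvPolynomial

theorem core (p q m : ℕ) (hpq : p < q) (hcop : Nat.Coprime p q) (hm : 0 < m)
    (d0 d1 d2 e0 e1 e2 : ℕ)
    (hn : (e0 : ℤ) - (p : ℤ) * e1 + (q : ℤ) * e2 = (d0 : ℤ) - (p : ℤ) * d1 + (q : ℤ) * d2)
    (hcd : (m : ℤ) ∣ (d1 : ℤ) - d2) (hce : (m : ℤ) ∣ (e1 : ℤ) - e2)
    (hd0 : d0 < Nat.gcd m (q - p)) (he0 : e0 < Nat.gcd m (q - p)) :
    d0 = e0 ∧ ∃ s : ℤ,
      ((e1 : ℤ) - e2) - ((d1 : ℤ) - d2) = (m : ℤ) * ((q - p) / Nat.gcd m (q - p) : ℕ) * s ∧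
      (e2 : ℤ) - d2 = ((m / Nat.gcd m (q - p) * p : ℕ) : ℤ) * s ∧
      (e1 : ℤ) - d1 = ((m / Nat.gcd m (q - p) * q : ℕ) : ℤ) * s := by
  set G := Nat.gcd m (q - p) with hG
  have hGpos : 0 < G := Nat.gcd_pos_of_pos_left _ hm
  have hA : m / G * G = m := Nat.div_mul_cancel (Nat.gcd_dvd_left m (q - p))
  have hB : (q - p) / G * G = q - p := Nat.div_mul_cancel (Nat.gcd_dvd_right m (q - p))
  set A := m / G with hAdef
  set B := (q - p) / G with hBdef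
  have hAz : (m : ℤ) = (A : ℤ) * G := by exact_mod_cast hA.symm
  have hBz : ((q - p : ℕ) : ℤ) = (B : ℤ) * G := by exact_mod_cast hB.symm
  have hqp : ((q - p : ℕ) : ℤ) = (q : ℤ) - p := Nat.cast_sub hpq.le
  have key1 : (d0 : ℤ) - e0 = (p : ℤ) * (((d1 : ℤ) - d2) - ((e1 : ℤ) - e2)) -
      ((q - p : ℕ) : ℤ) * ((d2 : ℤ) - e2) := by
    rw [hqp]
    linear_combination (-1 : ℤ) * hn
  have hGm : (G : ℤ) ∣ (m : ℤ) := ⟨A, by rw [hAz]; ring⟩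
  have hGqp : (G : ℤ) ∣ ((q - p : ℕ) : ℤ) := ⟨B, by rw [hBz]; ring⟩
  have hGdvd : (G : ℤ) ∣ (d0 : ℤ) - e0 := by
    rw [key1]
    exact dvd_sub (Dvd.dvd.mul_left (dvd_sub (hGm.trans hcd) (hGm.trans hce)) _)
      (Dvd.dvd.mul_right hGqp _)
  have h0 : (d0 : ℤ) - e0 = 0 := by
    refine Int.eq_zero_of_abs_lt_dvd hGdvd ?_
    rw [abs_lt]
    constructor <;> omega
  have hde : d0 = e0 := by omega
  refine ⟨hde, ?_⟩
  have key2 : (p : ℤ) * (((d1 : ℤ) - d2) - ((e1 : ℤ) - e2)) =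
      ((q - p : ℕ) : ℤ) * ((d2 : ℤ) - e2) := by
    have := key1
    rw [h0] at this
    linarith
  have hcop' : IsCoprime (((q - p : ℕ) : ℤ)) (p : ℤ) := by
    have : Nat.Coprime p (q - p) := (Nat.coprime_sub_self_right hpq.le).2 hcop
    exact (Nat.Coprime.isCoprime this).symm
  have hqpdvd : ((q - p : ℕ) : ℤ) ∣ ((d1 : ℤ) - d2) - ((e1 : ℤ) - e2) :=
    hcop'.dvd_of_dvd_mul_left ⟨_, key2⟩
  have hmdvd : (m : ℤ) ∣ ((d1 : ℤ) - d2) - ((e1 : ℤ) - e2) := dvd_sub hcd hce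
  have hlcm : ((m * B : ℕ) : ℤ) ∣ ((d1 : ℤ) - d2) - ((e1 : ℤ) - e2) := by
    rw [Int.natCast_dvd] at hqpdvd hmdvd ⊢
    have h1 := Nat.lcm_dvd hmdvd hqpdvd
    have h2 : Nat.lcm m (q - p) = m * B := by
      unfold Nat.lcm
      rw [Nat.mul_div_assoc _ (Nat.gcd_dvd_right m (q - p))]
    rw [h2] at h1
    exact h1
  obtain ⟨s0, hs0⟩ := hlcm
  refine ⟨-s0, ?_, ?_, ?_⟩
  · push_cast at hs0 ⊢
    linarith
  · have hqp0 : ((q - p : ℕ) : ℤ) ≠ 0 := by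
      have : 0 < q - p := Nat.sub_pos_of_lt hpq
      exact_mod_cast this.ne'
    apply mul_left_cancel₀ hqp0
    have h3 : ((q - p : ℕ) : ℤ) * ((e2 : ℤ) - d2) =
        -((p : ℤ) * (((d1 : ℤ) - d2) - ((e1 : ℤ) - e2))) := by rw [key2]; ring
    rw [h3, hs0]
    push_cast
    rw [hAz, hBz]
    ring
  · have hqp0 : ((q - p : ℕ) : ℤ) ≠ 0 := by
      have : 0 < q - p := Nat.sub_pos_of_lt hpq
      exact_mod_cast this.ne'
    have h4 : ((q - p : ℕ) : ℤ) * ((e2 : ℤ) - d2) = ((q - p : ℕ) : ℤ) * (((A * p : ℕ) : ℤ) * -s0) := by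
      have h3 : ((q - p : ℕ) : ℤ) * ((e2 : ℤ) - d2) =
          -((p : ℤ) * (((d1 : ℤ) - d2) - ((e1 : ℤ) - e2))) := by rw [key2]; ring
      rw [h3, hs0]
      push_cast
      rw [hAz, hBz]
      ring
    have h5 : (e2 : ℤ) - d2 = ((A * p : ℕ) : ℤ) * -s0 := mul_left_cancel₀ hqp0 h4
    have h6 : (e1 : ℤ) - d1 = ((e2 : ℤ) - d2) - (((d1 : ℤ) - d2) - ((e1 : ℤ) - e2)) := by ring
    rw [h6, h5, hs0]
    push_cast
    have hq : (q : ℤ) = p + (B : ℤ) * G := by rw [← hBz, hqp]; ring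
    rw [hAz, hq]
    ring

variable {k : Type*} [Field k]

/-- monomial -/
noncomputable def mono (d0 d1 d2 : ℕ) : MvPolynomial (Fin 3) k :=
  X (0 : Fin 3) ^ d0 * X (1 : Fin 3) ^ d1 * X (2 : Fin 3) ^ d2

/-- `W` -/
noncomputable def W (A p q : ℕ) : MvPolynomial (Fin 3) k :=
  X (1 : Fin 3) ^ (A * q) * X (2 : Fin 3) ^ (A * p)

theorem mono_shift (A p q d0 d1 d2 e1 e2 s : ℕ) (h2 : e2 = d2 + (A * p) * s)
    (h1 : e1 = d1 + (A * q) * s) :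
    (mono d0 e1 e2 : MvPolynomial (Fin 3) k) = mono d0 d1 d2 * W A p q ^ s := by
  subst h1 h2
  simp only [mono, W]
  ring

theorem one_sub_dvd (w : MvPolynomial (Fin 3) k) (s : ℕ) : (1 - w) ∣ (w ^ s - 1) := by
  have := sub_dvd_pow_sub_pow (1 : MvPolynomial (Fin 3) k) w s
  rw [one_pow] at this
  rw [← neg_sub 1 (w ^ s)]
  exact (dvd_neg).2 this

theorem result' (p q m : ℕ) (hp : 0 < p) (hpq : p < q) (hcop : Nat.Coprime p q) (hm : 0 < m)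
    (d0 d1 d2 e0 e1 e2 : ℕ) (hn : (e0 : ℤ) - (p : ℤ) * e1 + (q : ℤ) * e2 = (d0 : ℤ) - (p : ℤ) * d1 + (q : ℤ) * d2)
    (hn0 : 0 ≤ (d0 : ℤ) - (p : ℤ) * d1 + (q : ℤ) * d2) (hnq : (d0 : ℤ) - (p : ℤ) * d1 + (q : ℤ) * d2 < (q : ℤ) - p)
    (hcd : (m : ℤ) ∣ (d1 : ℤ) - d2) (hce : (m : ℤ) ∣ (e1 : ℤ) - e2)
    (hd0 : d0 < Nat.gcd m (q - p)) (he0 : e0 < Nat.gcd m (q - p)) :
    (d0 = e0 ∧ ((m : ℤ) * ((q - p) / Nat.gcd m (q - p) : ℕ)) ∣ ((d1 : ℤ) - d2) - ((e1 : ℤ) - e2)) ∧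
    ((d1 : ℤ) - d2 < (e1 : ℤ) - e2 →
      (MvPolynomial.X (0 : Fin 3) ^ d0 * MvPolynomial.X (1 : Fin 3) ^ d1 * MvPolynomial.X (2 : Fin 3) ^ d2 * (MvPolynomial.X (1 : Fin 3) ^ (m / Nat.gcd m (q - p) * q) * MvPolynomial.X (2 : Fin 3) ^ (m / Nat.gcd m (q - p) * p)) : MvPolynomial (Fin 3) k) ∣ MvPolynomial.X (0 : Fin 3) ^ e0 * MvPolynomial.X (1 : Fin 3) ^ e1 * MvPolynomial.X (2 : Fin 3) ^ e2) ∧
    ((MvPolynomial.X (0 : Fin 3) ^ e0 * MvPolynomial.X (1 : Fin 3) ^ e1 * MvPolynomial.X (2 : Fin 3) ^ e2 - MvPolynomial.X (0 : Fin 3) ^ d0 * MvPolynomial.X (1 : Fin 3) ^ d1 * MvPolynomial.X (2 : Fin 3) ^ d2 : MvPolynomial (Fin 3) k) ∈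
      Ideal.span {(1 : MvPolynomial (Fin 3) k) - MvPolynomial.X (1 : Fin 3) ^ (m / Nat.gcd m (q - p) * q) * MvPolynomial.X (2 : Fin 3) ^ (m / Nat.gcd m (q - p) * p)}) := by
  obtain ⟨hde, s, hs, hs2, hs1⟩ := core p q m hpq hcop hm d0 d1 d2 e0 e1 e2 hn hcd hce hd0 he0
  subst hde
  have hmB : (0 : ℤ) < (m : ℤ) * ((q - p) / Nat.gcd m (q - p) : ℕ) := by
    have h1 : 0 < (q - p) / Nat.gcd m (q - p) :=
      Nat.div_pos (Nat.le_of_dvd (Nat.sub_pos_of_lt hpq) (Nat.gcd_dvd_right _ _))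
        (Nat.gcd_pos_of_pos_left _ hm)
    have h2 : 0 < m * ((q - p) / Nat.gcd m (q - p)) := Nat.mul_pos hm h1
    exact_mod_cast h2
  refine ⟨⟨rfl, ⟨-s, by rw [mul_neg, ← hs]; ring⟩⟩, ?_, ?_⟩
  · intro hlt
    have hspos : 0 < s := by
      by_contra hneg
      push_neg at hneg
      have : (m : ℤ) * ((q - p) / Nat.gcd m (q - p) : ℕ) * s ≤ 0 :=
        mul_nonpos_of_nonneg_of_nonpos hmB.le hneg
      linarith
    obtain ⟨s', rfl⟩ := Int.eq_ofNat_of_zero_le hspos.le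
    have hs'1 : 1 ≤ s' := by exact_mod_cast hspos
    have h2 : e2 = d2 + (m / Nat.gcd m (q - p) * p) * s' := by
      have : (e2 : ℤ) = ((d2 + (m / Nat.gcd m (q - p) * p) * s' : ℕ) : ℤ) := by
        push_cast at hs2 ⊢
        linarith
      exact_mod_cast this
    have h1 : e1 = d1 + (m / Nat.gcd m (q - p) * q) * s' := by
      have : (e1 : ℤ) = ((d1 + (m / Nat.gcd m (q - p) * q) * s' : ℕ) : ℤ) := by
        push_cast at hs1 ⊢
        linarith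
      exact_mod_cast this
    change (mono d0 d1 d2 * W (m / Nat.gcd m (q - p)) p q : MvPolynomial (Fin 3) k) ∣ mono d0 e1 e2
    rw [mono_shift (k := k) (m / Nat.gcd m (q - p)) p q d0 d1 d2 e1 e2 s' h2 h1]
    refine mul_dvd_mul_left _ ?_
    exact dvd_pow_self _ (by omega)
  · change (mono d0 e1 e2 - mono d0 d1 d2 : MvPolynomial (Fin 3) k) ∈
      Ideal.span {1 - W (m / Nat.gcd m (q - p)) p q}
    rw [Ideal.mem_span_singleton]
    rcases le_total 0 s with hs0 | hs0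
    · obtain ⟨s', rfl⟩ := Int.eq_ofNat_of_zero_le hs0
      have h2 : e2 = d2 + (m / Nat.gcd m (q - p) * p) * s' := by
        have : (e2 : ℤ) = ((d2 + (m / Nat.gcd m (q - p) * p) * s' : ℕ) : ℤ) := by
          push_cast at hs2 ⊢
          linarith
        exact_mod_cast this
      have h1 : e1 = d1 + (m / Nat.gcd m (q - p) * q) * s' := by
        have : (e1 : ℤ) = ((d1 + (m / Nat.gcd m (q - p) * q) * s' : ℕ) : ℤ) := by
          push_cast at hs1 ⊢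
          linarith
        exact_mod_cast this
      rw [mono_shift (k := k) (m / Nat.gcd m (q - p)) p q d0 d1 d2 e1 e2 s' h2 h1]
      have : (mono d0 d1 d2 * W (m / Nat.gcd m (q - p)) p q ^ s' - mono d0 d1 d2 :
          MvPolynomial (Fin 3) k) = mono d0 d1 d2 * (W (m / Nat.gcd m (q - p)) p q ^ s' - 1) := by
        ring
      rw [this]
      exact Dvd.dvd.mul_left (one_sub_dvd _ _) _
    · obtain ⟨s', hs'⟩ := Int.eq_ofNat_of_zero_le (neg_nonneg.2 hs0)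
      have hss : s = -(s' : ℤ) := by linarith
      subst hss
      have h2 : d2 = e2 + (m / Nat.gcd m (q - p) * p) * s' := by
        have : (d2 : ℤ) = ((e2 + (m / Nat.gcd m (q - p) * p) * s' : ℕ) : ℤ) := by
          push_cast at hs2 ⊢
          linarith
        exact_mod_cast this
      have h1 : d1 = e1 + (m / Nat.gcd m (q - p) * q) * s' := by
        have : (d1 : ℤ) = ((e1 + (m / Nat.gcd m (q - p) * q) * s' : ℕ) : ℤ) := by
          push_cast at hs1 ⊢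
          linarith
        exact_mod_cast this
      rw [mono_shift (k := k) (m / Nat.gcd m (q - p)) p q d0 e1 e2 d1 d2 s' h2 h1]
      have : (mono d0 e1 e2 - mono d0 e1 e2 * W (m / Nat.gcd m (q - p)) p q ^ s' :
          MvPolynomial (Fin 3) k) =
          -(mono d0 e1 e2 * (W (m / Nat.gcd m (q - p)) p q ^ s' - 1)) := by
        ring
      rw [this]
      exact (dvd_neg).2 (Dvd.dvd.mul_left (one_sub_dvd _ _) _)

end Groth.Agent.Lib.Helper20.MonoWeight2
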