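import Groth.Agent.Lib.Helper20.InvFunApp
import Groth.Prelude.Def_QuadSing

/-!
# Formal Morse lemma (helper20)
-/

set_option autoImplicit false

namespace Groth.Agent.Lib.Helper20.Morse

open MvPowerSeries Finsupp Groth.Agent.Lib.Helper20.LT Groth.Agent.Lib.Helper20.IFT

section Cut

variable {σ : Type*} {R : Type*} [CommRing R]

open Classical in
/-- remove all terms of degree `< m` -/
noncomputable def cut (m : ℕ) (k : MvPowerSeries σ R) : MvPowerSeries σ R :=
  fun e => if e.degree < m then 0 else coeff e k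

open Classical in
lemma coeff_cut (m : ℕ) (k : MvPowerSeries σ R) (e : σ →₀ ℕ) :
    coeff e (cut m k) = if e.degree < m then 0 else coeff e k := rfl

lemma ordGE_cut (m : ℕ) (k : MvPowerSeries σ R) : OrdGE m (cut m k) := by
  intro e he; rw [coeff_cut, if_pos he]

lemma agreeBelow_cut {r : ℕ} (m : ℕ) {k k' : MvPowerSeries σ R} (h : AgreeBelow r k k') :
    AgreeBelow r (cut m k) (cut m k') := by
  intro e he
  rw [coeff_cut, coeff_cut, h e he]

lemma cut_eq_self {m : ℕ} {k : MvPowerSeries σ R} (h : OrdGE m k) : cut m k = k := by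
  ext e
  rw [coeff_cut]
  split_ifs with he
  · exact (h e he).symm
  · rfl

end Cut

section Quad

variable {A : Type*} [CommRing A] {B : Type*} [CommRing B] [Algebra A B] {n : ℕ}

/-- value of the quadratic form with table `q` at a vector of an `A`-algebra -/
def Qs (q : Fin n → Fin n → A) (u : Fin n → B) : B :=
  ∑ i, ∑ j, if i ≤ j then q i j • (u i * u j) else 0

lemma aeval_quadPoly (q : Fin n → Fin n → A) (u : Fin n → B) :
    MvPolynomial.aeval u (VanCyc.quadPoly q) = Qs q u := by
  unfold VanCyc.quadPoly Qs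
  rw [map_sum]
  refine Finset.sum_congr rfl fun i _ => ?_
  rw [map_sum]
  refine Finset.sum_congr rfl fun j _ => ?_
  split_ifs
  · rw [map_mul, map_mul, MvPolynomial.aeval_C, MvPolynomial.aeval_X, MvPolynomial.aeval_X,
      Algebra.smul_def, mul_assoc]
  · rw [map_zero]

lemma Qs_add (q : Fin n → Fin n → A) (x h : Fin n → B) :
    Qs q (x + h) = Qs q x + Qs q h + ∑ i, h i * ∑ l, (VanCyc.polarMatrix q) i l • x l := by
  have hb : ∀ i l : Fin n, (VanCyc.polarMatrix q) i l =
      (if l ≤ i then q l i else 0) + (if i ≤ l then q i l else 0) := by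
    intro i l
    unfold VanCyc.polarMatrix
    rcases lt_trichotomy i l with h1 | h1 | h1
    · rw [if_neg (ne_of_lt h1), if_pos h1, if_neg (not_le.mpr h1), if_pos (le_of_lt h1), zero_add]
    · subst h1; rw [if_pos rfl, if_pos le_rfl, two_mul]
    · rw [if_neg (ne_of_gt h1), if_neg (not_lt.mpr (le_of_lt h1)), if_pos (le_of_lt h1),
        if_neg (not_le.mpr h1), add_zero]
  have h1 : Qs q (x + h) = Qs q x + Qs q h +
      ((∑ i, ∑ j, if i ≤ j then q i j • (x i * h j) else 0) +
       ∑ i, ∑ j, if i ≤ j then q i j • (h i * x j) else 0) := by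
    unfold Qs
    simp only [← Finset.sum_add_distrib]
    refine Finset.sum_congr rfl fun i _ => Finset.sum_congr rfl fun j _ => ?_
    split_ifs
    · simp only [Pi.add_apply, ← smul_add]
      congr 1; ring
    · simp
  rw [h1]
  congr 1
  rw [Finset.sum_comm]
  simp only [← Finset.sum_add_distrib, Finset.mul_sum]
  refine Finset.sum_congr rfl fun i _ => Finset.sum_congr rfl fun l _ => ?_
  rw [hb i l, add_smul, mul_add]
  congr 1
  · split_ifs
    · rw [mul_smul_comm, mul_comm]
    · rw [zero_smul, mul_zero]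
  · split_ifs
    · rw [mul_smul_comm]
    · rw [zero_smul, mul_zero]

end Quad

section Main

variable {A : Type*} [CommRing A] {n : ℕ}

lemma ordGE_subst_endo {a : Fin n → MvPowerSeries (Fin n) A}
    (ha0 : ∀ i, constantCoeff (a i) = 0) {k : ℕ} {G : MvPowerSeries (Fin n) A} (hG : OrdGE k G) :
    OrdGE k (subst a G) := by
  have hS : HasSubst a := hasSubst_of_constantCoeff_zero ha0
  have := ordGE_algHom (substAlgHom (R := A) hS)
    (fun i => by rw [substAlgHom_X]; exact ha0 i) k G hG
  rwa [substAlgHom_apply] at this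

lemma coe_eq_aeval_X (p : MvPolynomial (Fin n) A) :
    (p : MvPowerSeries (Fin n) A) =
      MvPolynomial.aeval (fun i => (X i : MvPowerSeries (Fin n) A)) p := by
  rw [← subst_coe]
  have : (fun i => (X i : MvPowerSeries (Fin n) A)) = X := rfl
  rw [this, subst_self]; rfl

theorem morse (m : ℕ) (hm : 2 ≤ m) (q : Fin n → Fin n → A) (hq : VanCyc.QuadNondeg q) (a : A)
    (F : MvPowerSeries (Fin n) A)
    (hF : ∀ e : Fin n →₀ ℕ, e.degree ≤ m → coeff e F = coeff e
      ((VanCyc.quadPoly q + MvPolynomial.C a : MvPolynomial (Fin n) A) :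
        MvPowerSeries (Fin n) A)) :
    ∃ h : Fin n → MvPowerSeries (Fin n) A, (∀ i, OrdGE m (h i)) ∧
      subst (fun i => X i + h i) F =
        ((VanCyc.quadPoly q + MvPolynomial.C a : MvPolynomial (Fin n) A) :
          MvPowerSeries (Fin n) A) := by
  classical
  set P : MvPowerSeries (Fin n) A :=
    ((VanCyc.quadPoly q + MvPolynomial.C a : MvPolynomial (Fin n) A) :
      MvPowerSeries (Fin n) A) with hP
  set G := F - P with hGdef
  have hG : OrdGE (m + 1) G := by
    intro e he
    rw [hGdef, map_sub, hF e (by omega), sub_self]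
  set b := VanCyc.polarMatrix q with hb
  set M : Matrix (Fin n) (Fin n) A := b.transpose with hMdef
  have hMdet : IsUnit M.det := by rw [hMdef, Matrix.det_transpose]; exact hq
  have hM1 : M * M⁻¹ = 1 := Matrix.mul_nonsing_inv M hMdet
  let hfun : (Fin n → MvPowerSeries (Fin n) A) → (Fin n → MvPowerSeries (Fin n) A) :=
    fun k i => ∑ j, M⁻¹ i j • cut m (k j)
  let Nf : (Fin n → MvPowerSeries (Fin n) A) → MvPowerSeries (Fin n) A :=
    fun h => Qs q h + subst (fun i => X i + h i) G
  let T : (Fin n → MvPowerSeries (Fin n) A) → (Fin n → MvPowerSeries (Fin n) A) :=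
    fun k j => -divX j (Nf (hfun k))
  have hfun_ord : ∀ k i, OrdGE m (hfun k i) := by
    intro k i
    exact OrdGE.sum _ fun j _ => (ordGE_cut m (k j)).smul _
  have hconst : ∀ {h : Fin n → MvPowerSeries (Fin n) A}, (∀ i, OrdGE m (h i)) →
      ∀ i, constantCoeff (X i + h i) = 0 := by
    intro h hh i
    rw [map_add, constantCoeff_X, zero_add]
    exact ordGE_one_iff.mp ((hh i).mono (by omega))
  have hNf_ord : ∀ {h : Fin n → MvPowerSeries (Fin n) A}, (∀ i, OrdGE m (h i)) →
      OrdGE (m + 1) (Nf h) := by
    intro h hh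
    refine OrdGE.add ?_ (ordGE_subst_endo (hconst hh) hG)
    refine OrdGE.sum _ fun i _ => OrdGE.sum _ fun j _ => ?_
    split_ifs
    · exact (((hh i).mul (hh j)).smul _).mono (by omega)
    · exact ordGE_zero' _
  have hT : ∀ r k k', AgreeBelowF r k k' → AgreeBelowF (r + 1) (T k) (T k') := by
    intro r k k' hkk' j
    have hh : ∀ i, OrdGE r (hfun k i - hfun k' i) := by
      intro i
      show OrdGE r ((∑ j, M⁻¹ i j • cut m (k j)) - ∑ j, M⁻¹ i j • cut m (k' j))
      rw [← Finset.sum_sub_distrib]
      refine OrdGE.sum _ fun j _ => ?_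
      rw [← smul_sub]
      exact (agreeBelow_iff_ordGE.mp (agreeBelow_cut m (hkk' j))).smul _
    have hN : OrdGE (r + 2) (Nf (hfun k) - Nf (hfun k')) := by
      show OrdGE (r + 2) ((Qs q (hfun k) + subst (fun i => X i + hfun k i) G) -
        (Qs q (hfun k') + subst (fun i => X i + hfun k' i) G))
      have e1 : (Qs q (hfun k) + subst (fun i => X i + hfun k i) G) -
        (Qs q (hfun k') + subst (fun i => X i + hfun k' i) G) =
        (Qs q (hfun k) - Qs q (hfun k')) +
        (subst (fun i => X i + hfun k i) G - subst (fun i => X i + hfun k' i) G) := by ring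
      rw [e1]
      refine OrdGE.add ?_ ?_
      · unfold Qs
        rw [← Finset.sum_sub_distrib]
        refine OrdGE.sum _ fun i _ => ?_
        rw [← Finset.sum_sub_distrib]
        refine OrdGE.sum _ fun j _ => ?_
        split_ifs
        · rw [← smul_sub]
          apply OrdGE.smul
          have e2 : hfun k i * hfun k j - hfun k' i * hfun k' j =
              (hfun k i - hfun k' i) * hfun k j + hfun k' i * (hfun k j - hfun k' j) := by ring
          rw [e2]
          exact OrdGE.add (((hh i).mul (hfun_ord k j)).mono (by omega))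
            (((hfun_ord k' i).mul (hh j)).mono (by omega))
        · rw [sub_self]; exact ordGE_zero' _
      · have := ordGE_subst_sub_subst (r := r) (k := m + 1)
          (a := fun i => X i + hfun k i) (b := fun i => X i + hfun k' i)
          (hconst (hfun_ord k)) (hconst (hfun_ord k'))
          (fun i => by
            have e3 : (X i + hfun k i) - (X i + hfun k' i) = hfun k i - hfun k' i := by ring
            rw [e3]; exact hh i) hG
        exact this.mono (by omega)
    rw [agreeBelow_iff_ordGE]
    show OrdGE (r + 1) (-divX j (Nf (hfun k)) - -divX j (Nf (hfun k')))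
    have e4 : -divX j (Nf (hfun k)) - -divX j (Nf (hfun k')) =
        -(divX j (Nf (hfun k)) - divX j (Nf (hfun k'))) := by ring
    rw [e4]
    exact (agreeBelow_iff_ordGE.mp
      (agreeBelow_divX (agreeBelow_iff_ordGE.mpr hN) j)).neg
  obtain ⟨k, hk, _⟩ := existsUnique_fixed_family T hT
  have hkj : ∀ j, k j = -divX j (Nf (hfun k)) := fun j => (congrFun hk j).symm
  have hk_ord : ∀ j, OrdGE m (k j) := by
    intro j
    rw [hkj j]
    exact (ordGE_divX (hNf_ord (hfun_ord k)) j).neg
  set h := hfun k with hh_def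
  have hh_ord : ∀ i, OrdGE m (h i) := hfun_ord k
  have hh_eq : ∀ i, h i = ∑ j, M⁻¹ i j • k j := by
    intro i
    show (∑ j, M⁻¹ i j • cut m (k j)) = _
    refine Finset.sum_congr rfl fun j _ => ?_
    rw [cut_eq_self (hk_ord j)]
  refine ⟨h, hh_ord, ?_⟩
  have hNf0 : constantCoeff (Nf h) = 0 :=
    ordGE_one_iff.mp ((hNf_ord hh_ord).mono (by omega))
  have h1 : ∑ l, X l * k l = -Nf h := by
    conv_rhs => rw [eq_sum_X_mul_divX hNf0]
    rw [← Finset.sum_neg_distrib]
    refine Finset.sum_congr rfl fun l _ => ?_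
    rw [hkj l]; ring
  have h2 : ∑ i, h i * ∑ l, b i l • (X l : MvPowerSeries (Fin n) A) = ∑ l, X l * k l := by
    have hk_l : ∀ l, k l = ∑ i, b i l • h i := by
      intro l
      calc k l = ∑ j, (1 : Matrix (Fin n) (Fin n) A) l j • k j := by
            rw [Finset.sum_eq_single l]
            · rw [Matrix.one_apply_eq, one_smul]
            · intro j _ hj; rw [Matrix.one_apply_ne hj.symm, zero_smul]
            · intro hl; exact absurd (Finset.mem_univ l) hl
        _ = ∑ j, (∑ i, M l i * M⁻¹ i j) • k j := by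
            refine Finset.sum_congr rfl fun j _ => ?_
            rw [← hM1, Matrix.mul_apply]
        _ = ∑ i, b i l • h i := by
            simp_rw [Finset.sum_smul, hh_eq, Finset.smul_sum, smul_smul]
            rw [Finset.sum_comm]
            rfl
    simp_rw [hk_l, Finset.mul_sum]
    rw [Finset.sum_comm]
    refine Finset.sum_congr rfl fun l _ => Finset.sum_congr rfl fun i _ => ?_
    rw [mul_smul_comm, mul_smul_comm, mul_comm]
  have hS : HasSubst (fun i => X i + h i) := hasSubst_of_constantCoeff_zero (hconst hh_ord)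
  have hFP : F = P + G := by rw [hGdef]; ring
  have h3 : subst (fun i => X i + h i) P =
      P + Qs q h + ∑ i, h i * ∑ l, b i l • (X l : MvPowerSeries (Fin n) A) := by
    rw [hP, subst_coe, map_add, aeval_quadPoly, MvPolynomial.aeval_C, coe_eq_aeval_X, map_add,
      aeval_quadPoly, MvPolynomial.aeval_C]
    have : (fun i => X i + h i) = (fun i => (X i : MvPowerSeries (Fin n) A)) + h := rfl
    rw [this, Qs_add]
    ring
  rw [hFP, subst_add hS, h3, h2, h1]
  show P + Qs q h + -(Qs q h + subst (fun i => X i + h i) G) + subst (fun i => X i + h i) G = P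
  ring

end Main

section Full

variable {A : Type*} [CommRing A] {n : ℕ}

/-- substitution `X ↦ X + h` with `h` of order `≥ 2` is an automorphism -/
theorem subst_X_add_bijective {h : Fin n → MvPowerSeries (Fin n) A} (hh : ∀ i, OrdGE 2 (h i)) :
    Function.Bijective (subst (fun i => X i + h i) :
      MvPowerSeries (Fin n) A → MvPowerSeries (Fin n) A) := by
  have hconst : ∀ i, constantCoeff (X i + h i) = 0 := by
    intro i
    rw [map_add, constantCoeff_X, zero_add]
    exact ordGE_one_iff.mp ((hh i).mono (by omega))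
  have hjac : jac (fun i => X i + h i) = 1 := by
    rw [← jac_X]
    ext i j
    show coeff (Finsupp.single j 1) (X i + h i) = coeff (Finsupp.single j 1) (X i)
    rw [map_add, hh i _ (by rw [Finsupp.degree_single]; omega), add_zero]
  exact subst_bijective _ hconst (by rw [hjac, Matrix.det_one]; exact isUnit_one)

theorem morse_full (m : ℕ) (hm : 2 ≤ m) (q : Fin n → Fin n → A) (hq : VanCyc.QuadNondeg q)
    (a : A) (F : MvPowerSeries (Fin n) A)
    (hF : ∀ e : Fin n →₀ ℕ, e.degree ≤ m → coeff e F = coeff e
      ((VanCyc.quadPoly q + MvPolynomial.C a : MvPolynomial (Fin n) A) :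
        MvPowerSeries (Fin n) A)) :
    ∃ h : Fin n → MvPowerSeries (Fin n) A,
      (∀ (i : Fin n) (e : Fin n →₀ ℕ), e.degree < m → coeff e (h i) = 0) ∧
      HasSubst (fun i => X i + h i) ∧
      subst (fun i => X i + h i) F =
        ((VanCyc.quadPoly q + MvPolynomial.C a : MvPolynomial (Fin n) A) :
          MvPowerSeries (Fin n) A) ∧
      Nonempty ((MvPowerSeries (Fin n) A ⧸ Ideal.span {F}) ≃ₐ[A]
        (MvPowerSeries (Fin n) A ⧸ Ideal.span
          {((VanCyc.quadPoly q + MvPolynomial.C a : MvPolynomial (Fin n) A) :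
            MvPowerSeries (Fin n) A)})) := by
  obtain ⟨h, hh, hs⟩ := morse m hm q hq a F hF
  have hconst : ∀ i, constantCoeff (X i + h i) = 0 := by
    intro i
    rw [map_add, constantCoeff_X, zero_add]
    exact ordGE_one_iff.mp ((hh i).mono (by omega))
  have hS : HasSubst (fun i => X i + h i) := hasSubst_of_constantCoeff_zero hconst
  have hbij := subst_X_add_bijective (fun i => (hh i).mono hm)
  refine ⟨h, hh, hS, hs, ?_⟩
  let e : MvPowerSeries (Fin n) A ≃ₐ[A] MvPowerSeries (Fin n) A :=
    AlgEquiv.ofBijective (substAlgHom hS) (by rw [coe_substAlgHom]; exact hbij)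
  refine ⟨Ideal.quotientEquivAlg _ _ e ?_⟩
  rw [Ideal.map_span, Set.image_singleton]
  congr 2
  show _ = substAlgHom hS F
  rw [substAlgHom_apply, hs]

end Full

end Groth.Agent.Lib.Helper20.Morse
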