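import Groth.Agent.Lib.Helper20.Morse
import Mathlib.RingTheory.MvPowerSeries.Derivative

/-!
# Generators of the maximal ideal from an invertible Jacobian (helper20)
-/

set_option autoImplicit false

namespace Groth.Agent.Lib.Helper20.Morse

open MvPowerSeries Finsupp Groth.Agent.Lib.Helper20.LT Groth.Agent.Lib.Helper20.IFT

section Gen

variable {k : Type*} [Field k] {σ : Type*} [Fintype σ] [DecidableEq σ]

theorem span_range_eq_maximalIdeal_of_jac (y : σ → MvPowerSeries σ k)
    (hy0 : ∀ i, constantCoeff (y i) = 0) (hJ : IsUnit (jac y).det) :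
    Ideal.span (Set.range y) = IsLocalRing.maximalIdeal (MvPowerSeries σ k) := by
  apply le_antisymm
  · rw [Ideal.span_le]
    rintro _ ⟨i, rfl⟩
    show y i ∈ IsLocalRing.maximalIdeal (MvPowerSeries σ k)
    rw [IsLocalRing.mem_maximalIdeal, mem_nonunits_iff, isUnit_iff_constantCoeff, hy0]
    exact not_isUnit_zero
  · intro g hg
    rw [IsLocalRing.mem_maximalIdeal, mem_nonunits_iff, isUnit_iff_constantCoeff,
      isUnit_iff_ne_zero, not_not] at hg
    obtain ⟨z, hz0, hz, hz'⟩ := exists_inverse y hy0 hJ
    have hzS : HasSubst z := hasSubst_of_constantCoeff_zero hz0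
    have hyS : HasSubst y := hasSubst_of_constantCoeff_zero hy0
    have hg'0 : constantCoeff (subst z g) = 0 := constantCoeff_subst_zero' hz0 hg
    have h2 : subst y (subst z g) = g := by
      rw [subst_comp_subst_apply hzS hyS]
      have h2 : (fun s => subst y (z s)) = (X : σ → MvPowerSeries σ k) := funext hz'
      rw [h2, subst_self]; rfl
    rw [← h2, eq_sum_X_mul_divX hg'0, ← substAlgHom_apply hyS, map_sum]
    refine Ideal.sum_mem _ fun i _ => ?_
    rw [map_mul, substAlgHom_X]
    exact Ideal.mul_mem_right _ _ (Ideal.subset_span ⟨i, rfl⟩)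

end Gen

theorem span_pderiv_eq_maximalIdeal (k : Type*) [Field k] (n : ℕ)
    (f : MvPowerSeries (Fin (n + 1)) k) (hf : VanCyc.NondegQuadSeries f) :
    Ideal.span (Set.range fun i : Fin (n + 1) => MvPowerSeries.pderiv k i f) =
      IsLocalRing.maximalIdeal (MvPowerSeries (Fin (n + 1)) k) := by
  classical
  obtain ⟨⟨hf0, hf1⟩, hq⟩ := hf
  apply span_range_eq_maximalIdeal_of_jac
  · intro i
    rw [← coeff_zero_eq_constantCoeff_apply, coeff_pderiv, zero_add, hf1 i, zero_mul]
  · have : jac (fun i : Fin (n + 1) => MvPowerSeries.pderiv k i f) =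
        VanCyc.polarMatrix (VanCyc.quadPart f) := by
      ext i j
      show coeff (Finsupp.single j 1) (MvPowerSeries.pderiv k i f) = _
      rw [coeff_pderiv]
      unfold VanCyc.polarMatrix VanCyc.quadPart
      rcases lt_trichotomy i j with h | h | h
      · rw [if_neg (ne_of_lt h), if_pos h, if_neg (ne_of_lt h), if_pos h,
          Finsupp.single_eq_of_ne (ne_of_lt h), add_comm (Finsupp.single j 1)]
        simp
      · subst h
        rw [if_pos rfl, if_pos rfl, Finsupp.single_eq_same, ← Finsupp.single_add]
        norm_num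
        ring
      · rw [if_neg (ne_of_gt h), if_neg (not_lt.mpr (le_of_lt h)), if_neg (ne_of_lt h), if_pos h,
          Finsupp.single_eq_of_ne (ne_of_gt h)]
        simp
    rw [this]
    exact hq

end Groth.Agent.Lib.Helper20.Morse
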