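import Mathlib

/-! Symmetric numerical semigroups. -/

set_option autoImplicit false

namespace Groth.Agent.Lib.Helper20.NumSemi

variable (Γ : AddSubmonoid ℕ) (c : ℕ)

theorem symmetric_iff (hc : ∀ n : ℕ, c ≤ n → n ∈ Γ) (hc0 : c ≠ 0) (hc1 : c - 1 ∉ Γ) :
    (∀ x : ℕ, x < c → (x ∉ Γ ↔ c - 1 - x ∈ Γ)) ↔
      ∃! n : ℕ, n ∉ Γ ∧ ∀ γ : ℕ, γ ∈ Γ → γ ≠ 0 → n + γ ∈ Γ := by
  have hF : ∀ γ : ℕ, γ ∈ Γ → γ ≠ 0 → c - 1 + γ ∈ Γ := fun γ _ h0 => hc _ (by omega)
  have hgap : ∀ n, n ∉ Γ → n < c := fun n hn => by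
    by_contra h; exact hn (hc n (by omega))
  constructor
  · intro hsymm
    refine ⟨c - 1, ⟨hc1, hF⟩, ?_⟩
    rintro n ⟨hn, hnPF⟩
    by_contra hne
    have hlt := hgap n hn
    have h1 := (hsymm n hlt).mp hn
    have h2 := hnPF (c - 1 - n) h1 (by omega)
    have : n + (c - 1 - n) = c - 1 := by omega
    rw [this] at h2
    exact hc1 h2
  · rintro ⟨n0, ⟨hn0, hn0PF⟩, huniq⟩
    have hFuniq : ∀ n, n ∉ Γ → (∀ γ : ℕ, γ ∈ Γ → γ ≠ 0 → n + γ ∈ Γ) → n = c - 1 := by
      intro n hn hPF
      rw [huniq n ⟨hn, hPF⟩, huniq (c - 1) ⟨hc1, hF⟩]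
    have key : ∀ k : ℕ, ∀ x : ℕ, x + k = c - 1 → x ∉ Γ → c - 1 - x ∈ Γ := by
      intro k
      induction k using Nat.strong_induction_on with
      | _ k ih =>
        intro x hxk hx
        by_contra hcon
        have hPF : ∀ γ : ℕ, γ ∈ Γ → γ ≠ 0 → x + γ ∈ Γ := by
          intro γ hγ hγ0
          by_contra hxγ
          have hlt := hgap (x + γ) hxγ
          have h1 := ih (k - γ) (by omega) (x + γ) (by omega) hxγ
          apply hcon
          have : c - 1 - x = (c - 1 - (x + γ)) + γ := by omega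
          rw [this]
          exact Γ.add_mem h1 hγ
        have hxF := hFuniq x hx hPF
        apply hcon
        rw [hxF, Nat.sub_self]
        exact Γ.zero_mem
    intro x hx
    constructor
    · intro hxg
      exact key (c - 1 - x) x (by omega) hxg
    · intro h1 hxm
      apply hc1
      have : c - 1 = x + (c - 1 - x) := by omega
      rw [this]
      exact Γ.add_mem hxm h1

theorem generated_below (hc : ∀ n : ℕ, c ≤ n → n ∈ Γ) (hc0 : c ≠ 0) (hc1 : c - 1 ∉ Γ)
    (hsymm : ∀ x : ℕ, x < c → (x ∉ Γ ↔ c - 1 - x ∈ Γ)) (he : (1 : ℕ) ∉ Γ ∧ (2 : ℕ) ∉ Γ) :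
    AddSubmonoid.closure {γ : ℕ | γ ∈ Γ ∧ γ < c} = Γ := by
  classical
  apply le_antisymm
  · rw [AddSubmonoid.closure_le]
    intro γ hγ
    exact hγ.1
  -- multiplicity
  have hex : ∃ m, m ∈ Γ ∧ m ≠ 0 := ⟨c, hc c le_rfl, hc0⟩
  set e := Nat.find hex with he_def
  have heΓ : e ∈ Γ := (Nat.find_spec hex).1
  have he0 : e ≠ 0 := (Nat.find_spec hex).2
  have hemin : ∀ γ, γ ∈ Γ → γ ≠ 0 → e ≤ γ := fun γ h1 h2 => Nat.find_min' hex ⟨h1, h2⟩
  have he3 : 3 ≤ e := by
    by_contra hlt
    have : e = 1 ∨ e = 2 := by omega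
    rcases this with h | h
    · exact he.1 (h ▸ heΓ)
    · exact he.2 (h ▸ heΓ)
  have hec : e ≤ c := hemin c (hc c le_rfl) hc0
  have hec' : e < c := by
    by_contra hcon
    have hce : c = e := by omega
    have h1 := (hsymm 1 (by omega)).mp he.1
    have h2 := hemin (c - 1 - 1) h1 (by omega)
    omega
  -- smallest element of Γ not divisible by e
  have hex2 : ∃ g, g ∈ Γ ∧ ¬ e ∣ g := by
    by_cases h1 : e ∣ c
    · refine ⟨c + 1, hc _ (by omega), ?_⟩
      intro h2
      have : e ∣ 1 := (Nat.dvd_add_right h1).mp h2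
      have := Nat.le_of_dvd (by norm_num) this
      omega
    · exact ⟨c, hc c le_rfl, h1⟩
  set g := Nat.find hex2 with hg_def
  have hgΓ : g ∈ Γ := (Nat.find_spec hex2).1
  have hgnd : ¬ e ∣ g := (Nat.find_spec hex2).2
  have hgmin : ∀ γ, γ ∈ Γ → ¬ e ∣ γ → g ≤ γ := fun γ h1 h2 => Nat.find_min' hex2 ⟨h1, h2⟩
  have hg0 : g ≠ 0 := by
    intro h; apply hgnd; rw [h]; exact dvd_zero e
  have hge : e < g := by
    have h1 := hemin g hgΓ hg0
    rcases Nat.lt_or_ge e g with h | h
    · exact h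
    · have : g = e := by omega
      exact absurd (this ▸ dvd_refl e) hgnd
  have hgle : g ≤ c + 1 := by
    by_cases h1 : e ∣ c
    · apply hgmin (c + 1) (hc _ (by omega))
      intro h2
      have : e ∣ 1 := (Nat.dvd_add_right h1).mp h2
      have := Nat.le_of_dvd (by norm_num) this
      omega
    · have := hgmin c (hc c le_rfl) h1
      omega
  -- g - e is a gap
  have hgap : g - e ∉ Γ := by
    intro h
    have h1 : ¬ e ∣ g - e := by
      intro h2
      apply hgnd
      have : g = (g - e) + e := by omega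
      rw [this]
      exact Dvd.dvd.add h2 (dvd_refl e)
    have := hgmin (g - e) h h1
    omega
  -- every element is in the closure
  intro n hn
  induction n using Nat.strong_induction_on with
  | _ n ih =>
    by_cases hnc : n < c
    · exact AddSubmonoid.subset_closure ⟨hn, hnc⟩
    · push_neg at hnc
      -- find a decomposition n = a + b with a, b ∈ Γ nonzero
      have hdec : ∃ a b, a ∈ Γ ∧ b ∈ Γ ∧ a ≠ 0 ∧ b ≠ 0 ∧ n = a + b := by
        by_cases h1 : n - e ∈ Γ
        · exact ⟨e, n - e, heΓ, h1, he0, by omega, by omega⟩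
        · -- n - e is a gap: n = c - 1 + e
          have hlt : n - e < c := by
            by_contra h; exact h1 (hc _ (by omega))
          have h2 := (hsymm (n - e) hlt).mp h1
          have h3 : c - 1 - (n - e) = 0 := by
            by_contra h0
            have := hemin _ h2 h0
            omega
          have hn_eq : n = c - 1 + e := by omega
          -- use g
          have hglt : g - e < c := by
            by_contra h; exact hgap (hc _ (by omega))
          have h4 := (hsymm (g - e) hglt).mp hgap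
          refine ⟨g, c - 1 - (g - e), hgΓ, h4, hg0, by omega, by omega⟩
      obtain ⟨a, b, ha, hb, ha0, hb0, rfl⟩ := hdec
      exact AddSubmonoid.add_mem _ (ih a (by omega) ha) (ih b (by omega) hb)

end Groth.Agent.Lib.Helper20.NumSemi
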