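import Mathlib

/-! Symmetric numerical semigroups: at most `e - 1` generators. -/

set_option autoImplicit false

namespace Groth.Agent.Lib.Helper20.NumSemi2

variable (Γ : AddSubmonoid ℕ) (c : ℕ)

/-- the top Apéry element `c - 1 + e` is decomposable -/
theorem top_decomp (hc : ∀ n : ℕ, c ≤ n → n ∈ Γ) (hc0 : c ≠ 0)
    (hsymm : ∀ x : ℕ, x < c → (x ∉ Γ ↔ c - 1 - x ∈ Γ)) (e : ℕ) (he : e ∈ Γ) (he0 : e ≠ 0)
    (hemin : ∀ γ : ℕ, γ ∈ Γ → γ ≠ 0 → e ≤ γ) (he2 : 2 < e) :
    ∃ a b, a ∈ Γ ∧ b ∈ Γ ∧ a ≠ 0 ∧ b ≠ 0 ∧ c - 1 + e = a + b := by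
  classical
  have hec : e ≤ c := hemin c (hc c le_rfl) hc0
  have hex2 : ∃ g, g ∈ Γ ∧ ¬ e ∣ g := by
    by_cases h1 : e ∣ c
    · refine ⟨c + 1, hc _ (by omega), ?_⟩
      intro h2
      have : e ∣ 1 := (Nat.dvd_add_right h1).mp h2
      have := Nat.le_of_dvd (by norm_num) this
      omega
    · exact ⟨c, hc c le_rfl, h1⟩
  set g := Nat.find hex2 with hg_def
  have hgΓ : g ∈ Γ := (Nat.find_spec hex2).1
  have hgnd : ¬ e ∣ g := (Nat.find_spec hex2).2
  have hgmin : ∀ γ, γ ∈ Γ → ¬ e ∣ γ → g ≤ γ := fun γ h1 h2 => Nat.find_min' hex2 ⟨h1, h2⟩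
  have hg0 : g ≠ 0 := by
    intro h; apply hgnd; rw [h]; exact dvd_zero e
  have hge : e < g := by
    have h1 := hemin g hgΓ hg0
    rcases Nat.lt_or_ge e g with h | h
    · exact h
    · have : g = e := by omega
      exact absurd (this ▸ dvd_refl e) hgnd
  have hgle : g ≤ c + 1 := by
    by_cases h1 : e ∣ c
    · apply hgmin (c + 1) (hc _ (by omega))
      intro h2
      have : e ∣ 1 := (Nat.dvd_add_right h1).mp h2
      have := Nat.le_of_dvd (by norm_num) this
      omega
    · have := hgmin c (hc c le_rfl) h1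
      omega
  have hgap : g - e ∉ Γ := by
    intro h
    have h1 : ¬ e ∣ g - e := by
      intro h2
      apply hgnd
      have : g = (g - e) + e := by omega
      rw [this]
      exact Dvd.dvd.add h2 (dvd_refl e)
    have := hgmin (g - e) h h1
    omega
  have hglt : g - e < c := by
    by_contra h; exact hgap (hc _ (by omega))
  have h4 := (hsymm (g - e) hglt).mp hgap
  exact ⟨g, c - 1 - (g - e), hgΓ, h4, hg0, by omega, by omega⟩

theorem few_generators (hc : ∀ n : ℕ, c ≤ n → n ∈ Γ) (hc0 : c ≠ 0) (hc1 : c - 1 ∉ Γ)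
    (hsymm : ∀ x : ℕ, x < c → (x ∉ Γ ↔ c - 1 - x ∈ Γ)) (e : ℕ) (he : e ∈ Γ) (he0 : e ≠ 0)
    (hemin : ∀ γ : ℕ, γ ∈ Γ → γ ≠ 0 → e ≤ γ) (he2 : 2 < e) :
    ∃ G : Finset ℕ, G.card ≤ e - 1 ∧ AddSubmonoid.closure (↑G : Set ℕ) = Γ := by
  classical
  have hec : e ≤ c := hemin c (hc c le_rfl) hc0
  -- multiples of e are in Γ
  have hmul : ∀ k : ℕ, k * e ∈ Γ := by
    intro k
    induction k with
    | zero => rw [Nat.zero_mul]; exact Γ.zero_mem
    | succ k ih => rw [Nat.succ_mul]; exact Γ.add_mem ih he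
  -- nonzero Apéry elements
  let Ap : Finset ℕ := (Finset.range (c + e)).filter (fun n => n ∈ Γ ∧ n ≠ 0 ∧ n - e ∉ Γ)
  have hAp : ∀ n, n ∈ Ap ↔ n ∈ Γ ∧ n ≠ 0 ∧ n - e ∉ Γ := by
    intro n
    simp only [Ap, Finset.mem_filter, Finset.mem_range]
    constructor
    · exact fun h => h.2
    · intro h
      refine ⟨?_, h⟩
      by_contra hge
      exact h.2.2 (hc _ (by omega))
  have hAp_ge : ∀ n ∈ Ap, e ≤ n := fun n hn => hemin n ((hAp n).mp hn).1 ((hAp n).mp hn).2.1
  have hAp_res : ∀ n ∈ Ap, n % e ∈ Finset.Ico 1 e := by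
    intro n hn
    rw [Finset.mem_Ico]
    refine ⟨?_, Nat.mod_lt _ (by omega)⟩
    by_contra h0
    have h1 : n % e = 0 := by omega
    obtain ⟨k, hk⟩ := Nat.dvd_of_mod_eq_zero h1
    have hge := hAp_ge n hn
    have hk1 : 1 ≤ k := by
      rcases Nat.eq_zero_or_pos k with h | h
      · rw [h, mul_zero] at hk; omega
      · exact h
    apply ((hAp n).mp hn).2.2
    have : n - e = (k - 1) * e := by
      rw [hk, Nat.sub_mul, one_mul, mul_comm]
    rw [this]
    exact hmul _
  have hAp_inj : Set.InjOn (fun n => n % e) (Ap : Set ℕ) := by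
    intro n hn n' hn' hmod
    simp only at hmod
    by_contra hne
    -- wlog n < n'
    have key : ∀ a b : ℕ, a ∈ Ap → b ∈ Ap → a % e = b % e → a < b → False := by
      intro a b ha hb hab hlt
      have hdvd : e ∣ b - a := (Nat.modEq_iff_dvd' hlt.le).mp hab
      obtain ⟨k, hk⟩ := hdvd
      have hk1 : 1 ≤ k := by
        rcases Nat.eq_zero_or_pos k with h | h
        · rw [h, mul_zero] at hk; omega
        · exact h
      apply ((hAp b).mp hb).2.2
      have : b - e = a + (k - 1) * e := by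
        have h1 : b = a + e * k := by omega
        have h2 : e * k = (k - 1) * e + e := by
          have : k = (k - 1) + 1 := by omega
          conv_lhs => rw [this]
          ring
        omega
      rw [this]
      exact Γ.add_mem ((hAp a).mp ha).1 (hmul _)
    rcases Nat.lt_or_gt_of_ne hne with h | h
    · exact key n n' hn hn' hmod h
    · exact key n' n hn' hn hmod.symm h
  have hAp_card : Ap.card ≤ e - 1 := by
    have := Finset.card_le_card_of_injOn (fun n => n % e) hAp_res hAp_inj
    simpa using this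
  -- the top element
  have htop : c - 1 + e ∈ Ap := by
    rw [hAp]
    refine ⟨hc _ (by omega), by omega, ?_⟩
    have : c - 1 + e - e = c - 1 := by omega
    rw [this]; exact hc1
  refine ⟨insert e (Ap.erase (c - 1 + e)), ?_, ?_⟩
  · refine le_trans (Finset.card_insert_le _ _) ?_
    rw [Finset.card_erase_of_mem htop]
    have : 1 ≤ Ap.card := Finset.card_pos.mpr ⟨_, htop⟩
    omega
  · apply le_antisymm
    · rw [AddSubmonoid.closure_le]
      intro x hx
      rw [Finset.coe_insert, Set.mem_insert_iff] at hx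
      rcases hx with rfl | hx
      · exact he
      · exact ((hAp x).mp (Finset.mem_of_mem_erase hx)).1
    · intro n hn
      induction n using Nat.strong_induction_on with
      | _ n ih =>
        rcases Nat.eq_zero_or_pos n with h0 | hpos
        · rw [h0]; exact AddSubmonoid.zero_mem _
        by_cases h1 : n - e ∈ Γ
        · have hge := hemin n hn (by omega)
          have : n = e + (n - e) := by omega
          rw [this]
          refine AddSubmonoid.add_mem _ (AddSubmonoid.subset_closure ?_) (ih (n - e) (by omega) h1)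
          simp
        · by_cases htopn : n = c - 1 + e
          · obtain ⟨a, b, ha, hb, ha0, hb0, hab⟩ := top_decomp Γ c hc hc0 hsymm e he he0 hemin he2
            have hn_eq : n = a + b := by omega
            rw [hn_eq]
            exact AddSubmonoid.add_mem _ (ih a (by omega) ha) (ih b (by omega) hb)
          · apply AddSubmonoid.subset_closure
            rw [Finset.coe_insert, Set.mem_insert_iff]
            right
            rw [Finset.mem_coe, Finset.mem_erase]
            exact ⟨htopn, (hAp n).mpr ⟨hn, by omega, h1⟩⟩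

end Groth.Agent.Lib.Helper20.NumSemi2
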