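import Groth.Prelude.Def_Models
import Mathlib.Tactic.Linarith
import Mathlib.Tactic.IntervalCases
import Mathlib.Tactic.Positivity

/-!
# Numerical types: two (-2)-vertices (helper20)
-/

set_option autoImplicit false

namespace Groth.Agent.Lib.Helper20.NumType

open Finset Models

variable {n : ℕ} (T : Models.NumericalType n)

/-- the contribution of the other vertices to row `i` -/
def rest (i j : Fin n) : ℤ := ∑ k ∈ (univ.erase i).erase j, T.a i k * T.m k

lemma row_eq (i j : Fin n) (hij : i ≠ j) :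
    T.a i i * T.m i + T.a i j * T.m j + rest T i j = 0 := by
  have h := congrFun T.mulVec_m i
  simp only [Matrix.mulVec, dotProduct, Pi.zero_apply] at h
  rw [← Finset.add_sum_erase univ _ (Finset.mem_univ i),
    ← Finset.add_sum_erase (univ.erase i) _ (Finset.mem_erase.mpr ⟨hij.symm, Finset.mem_univ j⟩)] at h
  unfold rest
  linarith

lemma rest_nonneg (i j : Fin n) : 0 ≤ rest T i j := by
  unfold rest
  apply Finset.sum_nonneg
  intro k hk
  have hki : k ≠ i := (Finset.mem_erase.mp (Finset.mem_erase.mp hk).2).1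
  exact mul_nonneg (T.offDiag_nonneg i k hki.symm) (T.m_pos k).le

lemma a_eq_zero_of_rest (i j : Fin n) (h : rest T i j = 0) (k : Fin n) (hki : k ≠ i) (hkj : k ≠ j) :
    T.a i k = 0 := by
  unfold rest at h
  have hk : k ∈ (univ.erase i).erase j :=
    Finset.mem_erase.mpr ⟨hkj, Finset.mem_erase.mpr ⟨hki, Finset.mem_univ k⟩⟩
  have h1 := (Finset.sum_eq_zero_iff_of_nonneg (fun k hk => by
    have hki : k ≠ i := (Finset.mem_erase.mp (Finset.mem_erase.mp hk).2).1
    exact mul_nonneg (T.offDiag_nonneg i k hki.symm) (T.m_pos k).le)).mp h k hk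
  rcases mul_eq_zero.mp h1 with h2 | h2
  · exact h2
  · exact absurd h2 (T.m_pos k).ne'

theorem two_by_two (hn : 2 < n) (i j : Fin n)
    (hij : i ≠ j) (hi : T.IsMinusTwo i) (hj : T.IsMinusTwo j) (hpos : 0 < T.a i j) :
    ∃ i' j' : Fin n, ((i' = i ∧ j' = j) ∨ (i' = j ∧ j' = i)) ∧
      ((T.w j' = T.w i' ∧ T.a i' j' = T.w i' ∧ T.m j' ≤ 2 * T.m i' ∧ T.m i' ≤ 2 * T.m j') ∨
        (T.w j' = 2 * T.w i' ∧ T.a i' j' = 2 * T.w i' ∧ T.m j' ≤ T.m i' ∧ T.m i' ≤ 2 * T.m j') ∨
        (T.w j' = 3 * T.w i' ∧ T.a i' j' = 3 * T.w i' ∧ 3 * T.m j' ≤ 2 * T.m i' ∧ T.m i' ≤ 2 * T.m j')) := by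
  have hsymm : T.a j i = T.a i j := T.symm.apply i j
  have hwi := T.w_pos i
  have hwj := T.w_pos j
  have hmi := T.m_pos i
  have hmj := T.m_pos j
  obtain ⟨α, hα⟩ := T.w_dvd i j
  obtain ⟨β, hβ⟩ := T.w_dvd j i
  rw [hsymm] at hβ
  have hαpos : 0 < α := by
    by_contra hcon
    push_neg at hcon
    have : T.w i * α ≤ 0 := mul_nonpos_of_nonneg_of_nonpos hwi.le hcon
    omega
  have hβpos : 0 < β := by
    by_contra hcon
    push_neg at hcon
    have : T.w j * β ≤ 0 := mul_nonpos_of_nonneg_of_nonpos hwj.le hcon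
    omega
  have rowi := row_eq T i j hij
  have rowj := row_eq T j i hij.symm
  rw [hi.2] at rowi
  rw [hj.2, hsymm] at rowj
  have hRi := rest_nonneg T i j
  have hRj := rest_nonneg T j i
  -- α mj ≤ 2 mi, with equality iff rest = 0
  have h1 : T.w i * (α * T.m j) + rest T i j = T.w i * (2 * T.m i) := by
    rw [hα] at rowi; linarith
  have h2 : T.w j * (β * T.m i) + rest T j i = T.w j * (2 * T.m j) := by
    rw [hβ] at rowj; linarith
  have h1' : α * T.m j ≤ 2 * T.m i := by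
    have : T.w i * (α * T.m j) ≤ T.w i * (2 * T.m i) := by linarith
    exact le_of_mul_le_mul_left this hwi
  have h2' : β * T.m i ≤ 2 * T.m j := by
    have : T.w j * (β * T.m i) ≤ T.w j * (2 * T.m j) := by linarith
    exact le_of_mul_le_mul_left this hwj
  have hmm : 0 < T.m i * T.m j := mul_pos hmi hmj
  have hprod : α * β ≤ 4 := by
    have h3 := mul_le_mul h1' h2' (by positivity) (by positivity)
    have h4 : (α * β) * (T.m i * T.m j) ≤ 4 * (T.m i * T.m j) := by nlinarith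
    exact le_of_mul_le_mul_right h4 hmm
  have hne4 : α * β ≠ 4 := by
    intro h4
    -- equalities
    have e1 : α * T.m j = 2 * T.m i := by
      by_contra hne
      have hlt : α * T.m j < 2 * T.m i := lt_of_le_of_ne h1' hne
      have h5 : (α * T.m j) * (β * T.m i) < (2 * T.m i) * (β * T.m i) :=
        mul_lt_mul_of_pos_right hlt (by positivity)
      have h6 : (2 * T.m i) * (β * T.m i) ≤ (2 * T.m i) * (2 * T.m j) :=
        mul_le_mul_of_nonneg_left h2' (by positivity)
      have h7 : (α * β) * (T.m i * T.m j) < 4 * (T.m i * T.m j) := by nlinarith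
      rw [h4] at h7
      exact lt_irrefl _ h7
    have e2 : β * T.m i = 2 * T.m j := by
      by_contra hne
      have hlt : β * T.m i < 2 * T.m j := lt_of_le_of_ne h2' hne
      have h5 : (α * T.m j) * (β * T.m i) < (α * T.m j) * (2 * T.m j) :=
        mul_lt_mul_of_pos_left hlt (by positivity)
      have h6 : (α * T.m j) * (2 * T.m j) ≤ (2 * T.m i) * (2 * T.m j) :=
        mul_le_mul_of_nonneg_right h1' (by positivity)
      have h7 : (α * β) * (T.m i * T.m j) < 4 * (T.m i * T.m j) := by nlinarith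
      rw [h4] at h7
      exact lt_irrefl _ h7
    have hRi0 : rest T i j = 0 := by rw [e1] at h1; linarith
    have hRj0 : rest T j i = 0 := by rw [e2] at h2; linarith
    have hI : ({i, j} : Finset (Fin n)) ≠ univ := by
      intro h
      have hc := congrArg Finset.card h
      rw [Finset.card_univ, Fintype.card_fin, Finset.card_pair hij] at hc
      omega
    obtain ⟨i', hi', j', hj', hne⟩ := T.connected {i, j} ⟨i, by simp⟩ hI
    rw [Finset.mem_insert, Finset.mem_singleton] at hi'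
    rw [Finset.mem_insert, Finset.mem_singleton, not_or] at hj'
    rcases hi' with rfl | rfl
    · exact hne (a_eq_zero_of_rest T _ _ hRi0 j' hj'.1 hj'.2)
    · exact hne (a_eq_zero_of_rest T _ _ hRj0 j' hj'.2 hj'.1)
  have hα4 : α ≤ 4 := by nlinarith
  have hβ4 : β ≤ 4 := by nlinarith
  interval_cases α <;> interval_cases β <;> first
    | (exfalso; omega)
    | (exfalso; exact hne4 rfl)
    | skip
  · -- (1,1)
    refine ⟨i, j, Or.inl ⟨rfl, rfl⟩, Or.inl ⟨?_, ?_, ?_, ?_⟩⟩ <;> linarith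
  · -- (1,2): w i = 2 w j
    refine ⟨j, i, Or.inr ⟨rfl, rfl⟩, Or.inr (Or.inl ⟨?_, ?_, ?_, ?_⟩)⟩ <;> linarith
  · -- (1,3)
    refine ⟨j, i, Or.inr ⟨rfl, rfl⟩, Or.inr (Or.inr ⟨?_, ?_, ?_, ?_⟩)⟩ <;> linarith
  · -- (2,1)
    refine ⟨i, j, Or.inl ⟨rfl, rfl⟩, Or.inr (Or.inl ⟨?_, ?_, ?_, ?_⟩)⟩ <;> linarith
  · -- (3,1)
    refine ⟨i, j, Or.inl ⟨rfl, rfl⟩, Or.inr (Or.inr ⟨?_, ?_, ?_, ?_⟩)⟩ <;> linarith

end Groth.Agent.Lib.Helper20.NumType
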