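import Mathlib

/-!
# The Segre cone: a chain of primes of length `m + n - 1`

`A = k[z_ij]`, `S = k[x_i, y_j]`, `θ : z_ij ↦ x_i y_j`, `Iseg` the ideal of `2 × 2` minors.
In `A ⧸ Iseg` the kernel of the constant coefficient has height at least `m + n - 1`.
-/

set_option autoImplicit false

namespace Groth.Agent.Lib.Helper20.OneGen

open MvPolynomial

universe u

theorem le_height_of_chain {R : Type*} [CommRing R] (N : ℕ) (p : ℕ → Ideal R)
    (hp : ∀ i ≤ N, (p i).IsPrime) (hlt : ∀ i < N, p i < p (i + 1)) :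
    (N : ℕ∞) ≤ (p N).height := by
  induction N with
  | zero => simp
  | succ N ih =>
    have h1 := ih (fun i hi => hp i (by omega)) (fun i hi => hlt i (by omega))
    have hpN : (p N).IsPrime := hp N (by omega)
    have hpN1 : (p (N + 1)).IsPrime := hp (N + 1) le_rfl
    have h2 := Ideal.height_add_one_le_of_lt_of_isPrime (hlt N (by omega))
    calc ((N + 1 : ℕ) : ℕ∞) = (N : ℕ∞) + 1 := by push_cast; rfl
      _ ≤ (p N).height + 1 := by gcongr
      _ ≤ _ := h2

variable (k : Type u) [Field k] (m n : ℕ)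

/-- `z_ij ↦ x_i y_j` -/
noncomputable def θ : MvPolynomial (Fin m × Fin n) k →ₐ[k] MvPolynomial (Fin m ⊕ Fin n) k :=
  aeval (fun ij => X (Sum.inl ij.1) * X (Sum.inr ij.2))

/-- the `2 × 2` minor -/
noncomputable def minor (i i' : Fin m) (j j' : Fin n) : MvPolynomial (Fin m × Fin n) k :=
  X (i, j) * X (i', j') - X (i, j') * X (i', j)

/-- the ideal of `2 × 2` minors -/
noncomputable def Iseg : Ideal (MvPolynomial (Fin m × Fin n) k) :=
  Ideal.span {p | ∃ i i' j j', p = minor k m n i i' j j'}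

theorem θ_minor (i i' : Fin m) (j j' : Fin n) : θ k m n (minor k m n i i' j j') = 0 := by
  simp only [θ, minor, map_sub, map_mul, aeval_X]
  ring

theorem Iseg_le_ker_θ : Iseg k m n ≤ RingHom.ker (θ k m n).toRingHom := by
  rw [Iseg, Ideal.span_le]
  rintro _ ⟨i, i', j, j', rfl⟩
  exact θ_minor k m n i i' j j'

theorem constantCoeff_minor (i i' : Fin m) (j j' : Fin n) :
    constantCoeff (minor k m n i i' j j') = 0 := by
  simp [minor]

theorem Iseg_le_ker_cc : Iseg k m n ≤ RingHom.ker (constantCoeff (σ := Fin m × Fin n) (R := k)) := by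
  rw [Iseg, Ideal.span_le]
  rintro _ ⟨i, i', j, j', rfl⟩
  exact constantCoeff_minor k m n i i' j j'

/-- the Segre coordinate ring (up to nilpotents) -/
abbrev R' : Type u := MvPolynomial (Fin m × Fin n) k ⧸ Iseg k m n

noncomputable def θ' : R' k m n →+* MvPolynomial (Fin m ⊕ Fin n) k :=
  Ideal.Quotient.lift (Iseg k m n) (θ k m n).toRingHom (fun a ha => Iseg_le_ker_θ k m n ha)

noncomputable def cc' : R' k m n →+* k :=
  Ideal.Quotient.lift (Iseg k m n) constantCoeff (fun a ha => Iseg_le_ker_cc k m n ha)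

theorem θ'_mk (a : MvPolynomial (Fin m × Fin n) k) :
    θ' k m n (Ideal.Quotient.mk _ a) = θ k m n a := rfl

theorem cc'_mk (a : MvPolynomial (Fin m × Fin n) k) :
    cc' k m n (Ideal.Quotient.mk _ a) = constantCoeff a := rfl

/-- the variables killed at step `i` -/
def T (i : ℕ) : Set (Fin m ⊕ Fin n) :=
  {s | Sum.elim (fun a : Fin m => a.val < i ∧ a.val + 1 < m) (fun b : Fin n => b.val + m ≤ i) s}

theorem inl_mem_T (i : ℕ) (a : Fin m) : Sum.inl a ∈ T m n i ↔ a.val < i ∧ a.val + 1 < m := Iff.rfl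

theorem inr_mem_T (i : ℕ) (b : Fin n) : Sum.inr b ∈ T m n i ↔ b.val + m ≤ i := Iff.rfl

theorem T_mono (i : ℕ) : T m n i ⊆ T m n (i + 1) := by
  rintro (a | b) h
  · rw [inl_mem_T] at h ⊢; omega
  · rw [inr_mem_T] at h ⊢; omega

open Classical in
/-- kill the variables in `T i` -/
noncomputable def ev (i : ℕ) : MvPolynomial (Fin m ⊕ Fin n) k →ₐ[k] MvPolynomial (Fin m ⊕ Fin n) k :=
  aeval (fun s => if s ∈ T m n i then 0 else X s)

open Classical in
theorem ev_X (i : ℕ) (s : Fin m ⊕ Fin n) :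
    ev k m n i (X s) = if s ∈ T m n i then 0 else X s := by
  simp [ev]

theorem ev_comp (i : ℕ) : (ev k m n (i + 1)).comp (ev k m n i) = ev k m n (i + 1) := by
  classical
  apply MvPolynomial.algHom_ext
  intro s
  rw [AlgHom.comp_apply, ev_X, ev_X]
  by_cases h : s ∈ T m n i
  · rw [if_pos h, if_pos (T_mono m n i h), map_zero]
  · rw [if_neg h, ev_X]

theorem constantCoeff_ev_θ (i : ℕ) (a : MvPolynomial (Fin m × Fin n) k) :
    constantCoeff (ev k m n i (θ k m n a)) = constantCoeff a := by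
  classical
  have : (constantCoeff.comp ((ev k m n i).toRingHom.comp (θ k m n).toRingHom)) =
      (constantCoeff (σ := Fin m × Fin n) (R := k)) := by
    apply MvPolynomial.ringHom_ext
    · intro r
      simp
    · intro ij
      simp only [RingHom.comp_apply, AlgHom.toRingHom_eq_coe, RingHom.coe_coe, θ, aeval_X,
        map_mul, ev_X, constantCoeff_X]
      split_ifs <;> simp
  exact RingHom.congr_fun this a

/-- the chain of primes -/
noncomputable def P (i : ℕ) : Ideal (R' k m n) :=
  RingHom.ker ((ev k m n i).toRingHom.comp (θ' k m n))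

theorem P_isPrime (i : ℕ) : (P k m n i).IsPrime := RingHom.ker_isPrime _

theorem P_le_succ (i : ℕ) : P k m n i ≤ P k m n (i + 1) := by
  intro a ha
  rw [P, RingHom.mem_ker, RingHom.comp_apply] at ha ⊢
  have := congrArg (ev k m n (i + 1)) ha
  rw [map_zero] at this
  rw [← this]
  exact (AlgHom.congr_fun (ev_comp k m n i) _).symm

theorem P_le_ker_cc' (i : ℕ) : P k m n i ≤ RingHom.ker (cc' k m n) := by
  intro a ha
  obtain ⟨a, rfl⟩ := Ideal.Quotient.mk_surjective a
  rw [P, RingHom.mem_ker, RingHom.comp_apply, θ'_mk] at ha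
  rw [RingHom.mem_ker, cc'_mk, ← constantCoeff_ev_θ k m n i a]
  have : (ev k m n i) (θ k m n a) = 0 := ha
  rw [this, map_zero]

theorem ev_θ_X (i : ℕ) (a : Fin m) (b : Fin n) :
    ev k m n i (θ k m n (X (a, b))) =
      (open Classical in (if Sum.inl a ∈ T m n i then 0 else X (Sum.inl a))) *
        (open Classical in (if Sum.inr b ∈ T m n i then 0 else X (Sum.inr b))) := by
  classical
  simp only [θ, aeval_X, map_mul, ev_X]

variable (hm : 0 < m) (hn : 0 < n)

include hm hn in
theorem P_lt_succ (i : ℕ) (hi : i + 1 < m + n) : P k m n i < P k m n (i + 1) := by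
  classical
  refine lt_of_le_of_ne (P_le_succ k m n i) ?_
  intro heq
  by_cases h1 : i + 1 < m
  · -- witness `z_{i,0}`
    have hmem : Ideal.Quotient.mk (Iseg k m n) (X ((⟨i, by omega⟩ : Fin m), (⟨0, hn⟩ : Fin n)))
        ∈ P k m n (i + 1) := by
      rw [P, RingHom.mem_ker, RingHom.comp_apply, θ'_mk]
      change ev k m n (i + 1) (θ k m n (X _)) = 0
      rw [ev_θ_X, if_pos ((inl_mem_T m n _ _).2 ⟨by simp, by simpa using h1⟩), zero_mul]
    rw [← heq, P, RingHom.mem_ker, RingHom.comp_apply, θ'_mk] at hmem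
    change ev k m n i (θ k m n (X _)) = 0 at hmem
    rw [ev_θ_X, if_neg (fun h => by rw [inl_mem_T] at h; simp at h),
      if_neg (fun h => by rw [inr_mem_T] at h; simp at h; omega)] at hmem
    exact (mul_ne_zero (X_ne_zero _) (X_ne_zero _)) hmem
  · -- witness `z_{m-1, i+1-m}`
    have hmem : Ideal.Quotient.mk (Iseg k m n)
        (X ((⟨m - 1, by omega⟩ : Fin m), (⟨i + 1 - m, by omega⟩ : Fin n))) ∈ P k m n (i + 1) := by
      rw [P, RingHom.mem_ker, RingHom.comp_apply, θ'_mk]
      change ev k m n (i + 1) (θ k m n (X _)) = 0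
      rw [ev_θ_X, if_pos ((inr_mem_T m n _ _).2 (by simp; omega)), mul_zero]
    rw [← heq, P, RingHom.mem_ker, RingHom.comp_apply, θ'_mk] at hmem
    change ev k m n i (θ k m n (X _)) = 0 at hmem
    rw [ev_θ_X, if_neg (fun h => by rw [inl_mem_T] at h; simp at h; omega),
      if_neg (fun h => by rw [inr_mem_T] at h; simp at h; omega)] at hmem
    exact (mul_ne_zero (X_ne_zero _) (X_ne_zero _)) hmem

include hm hn in
/-- the vertex of the Segre cone has height at least `m + n - 1` -/
theorem le_height_ker_cc' : ((m + n - 1 : ℕ) : ℕ∞) ≤ (RingHom.ker (cc' k m n)).height := by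
  have h1 := le_height_of_chain (m + n - 1) (P k m n) (fun i _ => P_isPrime k m n i)
    (fun i hi => P_lt_succ k m n hm hn i (by omega))
  exact h1.trans (Ideal.height_mono (P_le_ker_cc' k m n _))

end Groth.Agent.Lib.Helper20.OneGen
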