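import Mathlib
import Groth.Agent.Lib.Helper20.OneGen1

/-!
# 1-generic bilinear maps over an algebraically closed field: `dim W ≥ dim U + dim V - 1`
-/

set_option autoImplicit false

namespace Groth.Agent.Lib.Helper20.OneGen

open MvPolynomial

universe u v

variable (k : Type u) [Field k] (m n w : ℕ)

/-- the linear forms cutting out the kernel of the bilinear map -/
noncomputable def lin (F : Fin m × Fin n → Fin w → k) (t : Fin w) : MvPolynomial (Fin m × Fin n) k :=
  ∑ ij : Fin m × Fin n, C (F ij t) * X ij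

theorem aeval_lin (F : Fin m × Fin n → Fin w → k) (t : Fin w) (c : Fin m × Fin n → k) :
    aeval c (lin k m n w F t) = ∑ ij : Fin m × Fin n, F ij t * c ij := by
  simp [lin]

theorem constantCoeff_lin (F : Fin m × Fin n → Fin w → k) (t : Fin w) :
    constantCoeff (lin k m n w F t) = 0 := by
  simp [lin]

theorem aeval_minor (c : Fin m × Fin n → k) (i i' : Fin m) (j j' : Fin n) :
    aeval c (minor k m n i i' j j') = c (i, j) * c (i', j') - c (i, j') * c (i', j) := by
  simp [minor]

/-- the total ideal -/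
noncomputable def J (F : Fin m × Fin n → Fin w → k) : Ideal (MvPolynomial (Fin m × Fin n) k) :=
  Iseg k m n ⊔ Ideal.span (Set.range (lin k m n w F))

variable {k m n w}

theorem zeroLocus_J (F : Fin m × Fin n → Fin w → k)
    (H : ∀ (α : Fin m → k) (β : Fin n → k), α ≠ 0 → β ≠ 0 →
      ∃ t, ∑ ij : Fin m × Fin n, α ij.1 * β ij.2 * F ij t ≠ 0)
    (c : Fin m × Fin n → k) (hc : c ∈ zeroLocus k (J k m n w F)) : c = 0 := by
  by_contra hne
  obtain ⟨⟨i0, j0⟩, h0⟩ : ∃ ij, c ij ≠ 0 := by
    by_contra hall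
    push_neg at hall
    exact hne (funext hall)
  have hminor : ∀ i i' j j', c (i, j) * c (i', j') - c (i, j') * c (i', j) = 0 := by
    intro i i' j j'
    rw [← aeval_minor]
    exact hc _ (Ideal.mem_sup_left (Ideal.subset_span ⟨i, i', j, j', rfl⟩))
  have hlin : ∀ t, ∑ ij : Fin m × Fin n, F ij t * c ij = 0 := by
    intro t
    rw [← aeval_lin]
    exact hc _ (Ideal.mem_sup_right (Ideal.subset_span ⟨t, rfl⟩))
  obtain ⟨t, ht⟩ := H (fun i => c (i, j0)) (fun j => c (i0, j))
    (fun h => h0 (congrFun h i0)) (fun h => h0 (congrFun h j0))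
  apply ht
  have : ∀ ij : Fin m × Fin n, c (ij.1, j0) * c (i0, ij.2) * F ij t = c (i0, j0) * (F ij t * c ij) := by
    rintro ⟨i, j⟩
    have := hminor i0 i j0 j
    simp only
    linear_combination (-(F (i, j) t)) * this
  simp only [this, ← Finset.mul_sum, hlin t, mul_zero]

variable [IsAlgClosed k]

theorem ker_cc_le_radical (F : Fin m × Fin n → Fin w → k)
    (H : ∀ (α : Fin m → k) (β : Fin n → k), α ≠ 0 → β ≠ 0 →
      ∃ t, ∑ ij : Fin m × Fin n, α ij.1 * β ij.2 * F ij t ≠ 0) :
    RingHom.ker (constantCoeff (σ := Fin m × Fin n) (R := k)) ≤ (J k m n w F).radical := by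
  intro p hp
  rw [← vanishingIdeal_zeroLocus_eq_radical (K := k), mem_vanishingIdeal_iff]
  intro c hc
  rw [zeroLocus_J F H c hc, aeval_zero]
  rw [RingHom.mem_ker] at hp
  rw [hp, map_zero]

theorem height_ker_cc'_le (F : Fin m × Fin n → Fin w → k)
    (H : ∀ (α : Fin m → k) (β : Fin n → k), α ≠ 0 → β ≠ 0 →
      ∃ t, ∑ ij : Fin m × Fin n, α ij.1 * β ij.2 * F ij t ≠ 0) :
    (RingHom.ker (cc' k m n)).height ≤ (w : ℕ∞) := by
  classical
  let s : Finset (R' k m n) :=
    Finset.univ.image (fun t => Ideal.Quotient.mk (Iseg k m n) (lin k m n w F t))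
  have hprime : (RingHom.ker (cc' k m n)).IsPrime := RingHom.ker_isPrime _
  have hmin : RingHom.ker (cc' k m n) ∈ (Ideal.span (s : Set (R' k m n))).minimalPrimes := by
    refine ⟨⟨hprime, ?_⟩, ?_⟩
    · rw [Ideal.span_le]
      intro x hx
      simp only [s, Finset.coe_image, Finset.coe_univ, Set.image_univ, Set.mem_range] at hx
      obtain ⟨t, rfl⟩ := hx
      rw [SetLike.mem_coe, RingHom.mem_ker, cc'_mk, constantCoeff_lin]
    · rintro Q ⟨hQ, hsQ⟩ -
      intro a ha
      obtain ⟨a, rfl⟩ := Ideal.Quotient.mk_surjective a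
      rw [RingHom.mem_ker, cc'_mk] at ha
      obtain ⟨N, hN⟩ := ker_cc_le_radical F H (RingHom.mem_ker.2 ha)
      have h1 : Ideal.Quotient.mk (Iseg k m n) (a ^ N) ∈
          (J k m n w F).map (Ideal.Quotient.mk (Iseg k m n)) := Ideal.mem_map_of_mem _ hN
      rw [J, Ideal.map_sup, Ideal.map_quotient_self, bot_sup_eq, Ideal.map_span] at h1
      have h2 : Ideal.span ((Ideal.Quotient.mk (Iseg k m n)) '' Set.range (lin k m n w F)) ≤ Q := by
        refine le_trans (Ideal.span_mono ?_) hsQ
        rintro _ ⟨_, ⟨t, rfl⟩, rfl⟩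
        simp only [s, Finset.coe_image, Finset.coe_univ, Set.image_univ, Set.mem_range]
        exact ⟨t, rfl⟩
      have h3 := h2 h1
      rw [map_pow] at h3
      exact hQ.mem_of_pow_mem N h3
  calc (RingHom.ker (cc' k m n)).height ≤ s.card :=
        Ideal.height_le_card_of_mem_minimalPrimes_span_finset hmin
    _ ≤ (w : ℕ∞) := by
        have : s.card ≤ w := by
          refine Finset.card_image_le.trans ?_
          simp
        exact_mod_cast this

/-- coordinate form of the bound -/
theorem add_le_of_oneGeneric (hm : 0 < m) (hn : 0 < n) (F : Fin m × Fin n → Fin w → k)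
    (H : ∀ (α : Fin m → k) (β : Fin n → k), α ≠ 0 → β ≠ 0 →
      ∃ t, ∑ ij : Fin m × Fin n, α ij.1 * β ij.2 * F ij t ≠ 0) :
    m + n ≤ w + 1 := by
  have h1 := le_height_ker_cc' k m n hm hn
  have h2 := height_ker_cc'_le F H
  have h3 : ((m + n - 1 : ℕ) : ℕ∞) ≤ (w : ℕ∞) := h1.trans h2
  have h4 : m + n - 1 ≤ w := by exact_mod_cast h3
  omega

/-- **Hopf's lemma**: a 1-generic bilinear map `U × V → W` over an algebraically closed field has
`dim U + dim V ≤ dim W + 1`. -/
theorem finrank_add_le (U V W : Type v) [AddCommGroup U] [Module k U] [AddCommGroup V] [Module k V]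
    [AddCommGroup W] [Module k W] [Module.Finite k U] [Module.Finite k V] [Module.Finite k W]
    [Nontrivial U] [Nontrivial V]
    (φ : U →ₗ[k] V →ₗ[k] W) (hφ : ∀ (a : U) (b : V), a ≠ 0 → b ≠ 0 → φ a b ≠ 0) :
    Module.finrank k U + Module.finrank k V ≤ Module.finrank k W + 1 := by
  classical
  let bU := Module.finBasis k U
  let bV := Module.finBasis k V
  let bW := Module.finBasis k W
  have hm : 0 < Module.finrank k U := Module.finrank_pos
  have hn : 0 < Module.finrank k V := Module.finrank_pos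
  refine add_le_of_oneGeneric hm hn (fun ij t => bW.repr (φ (bU ij.1) (bV ij.2)) t) ?_
  intro α β hα hβ
  have ha : (∑ i, α i • bU i) ≠ 0 := by
    intro h
    apply hα
    funext i
    exact Fintype.linearIndependent_iff.1 bU.linearIndependent α h i
  have hb : (∑ j, β j • bV j) ≠ 0 := by
    intro h
    apply hβ
    funext j
    exact Fintype.linearIndependent_iff.1 bV.linearIndependent β h j
  have hne := hφ _ _ ha hb
  have hex : ∃ t, bW.repr (φ (∑ i, α i • bU i) (∑ j, β j • bV j)) t ≠ 0 := by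
    by_contra hall
    push Not at hall
    apply hne
    apply bW.repr.injective
    ext t
    simpa using hall t
  obtain ⟨t, ht⟩ := hex
  refine ⟨t, ?_⟩
  convert ht using 1
  simp only [map_sum, map_smul, LinearMap.sum_apply, LinearMap.smul_apply, Finsupp.coe_finsetSum,
    Finsupp.coe_smul, Finset.sum_apply, Pi.smul_apply, smul_eq_mul]
  rw [Fintype.sum_prod_type, Finset.sum_comm]
  refine Finset.sum_congr rfl fun j _ => ?_
  rw [Finset.mul_sum]
  refine Finset.sum_congr rfl fun i _ => ?_
  ring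

end Groth.Agent.Lib.Helper20.OneGen
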