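import Mathlib

/-! # `p`-bases via the bijectivity of `c ↦ ∑ c_k ^ p * b_k`. -/

namespace Groth.Agent.Lib.Helper20.PBasis

open Polynomial

section defs
variable (p : ℕ) {A : Type*} [CommRing A] {κ : Type*} [Fintype κ]

/-- The map `c ↦ ∑ c_k ^ p * b_k`. -/
def phi (b : κ → A) (c : κ → A) : A := ∑ k, c k ^ p * b k

/-- `b` is a `p`-basis of `A`. -/
def IsPBasis (b : κ → A) : Prop := Function.Bijective (phi p b)

end defs

/-- `A` has a finite `p`-basis with `N` elements. -/
def HasPRank (p : ℕ) (A : Type*) [CommRing A] (N : ℕ) : Prop :=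
  ∃ (κ : Type) (_ : Fintype κ) (b : κ → A), Fintype.card κ = N ∧ IsPBasis p b

section basic
variable {p : ℕ} [hp : Fact p.Prime] {A : Type*} [CommRing A] {κ : Type*} [Fintype κ]

lemma phi_zero (b : κ → A) : phi p b 0 = 0 := by
  simp [phi, hp.out.ne_zero]

lemma phi_sub [CharP A p] (b c c' : κ → A) :
    phi p b (c - c') = phi p b c - phi p b c' := by
  simp only [phi, Pi.sub_apply, sub_pow_char, sub_mul, Finset.sum_sub_distrib]

lemma isPBasis_of_ker [CharP A p] (b : κ → A) (h0 : ∀ c, phi p b c = 0 → c = 0)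
    (hs : Function.Surjective (phi p b)) : IsPBasis p b := by
  refine ⟨fun c c' hcc => ?_, hs⟩
  have := h0 (c - c') (by rw [phi_sub, hcc, sub_self])
  exact sub_eq_zero.mp this

omit hp in
lemma IsPBasis.of_ringEquiv {B : Type*} [CommRing B] (e : A ≃+* B) {b : κ → A}
    (h : IsPBasis p b) : IsPBasis p (fun k => e (b k)) := by
  have : phi p (fun k => e (b k)) = e ∘ phi p b ∘ (fun c => fun k => e.symm (c k)) := by
    funext c
    simp [phi, map_sum, map_mul, map_pow]
  rw [IsPBasis, this]
  refine e.bijective.comp (h.comp ⟨fun c c' hcc => ?_, fun c => ⟨fun k => e (c k), ?_⟩⟩)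
  · funext k
    exact e.symm.injective (congrFun hcc k)
  · funext k
    simp

omit hp in
lemma HasPRank.of_ringEquiv {B : Type*} [CommRing B] (e : A ≃+* B) {N : ℕ}
    (h : HasPRank p A N) : HasPRank p B N := by
  obtain ⟨κ, _, b, hc, hb⟩ := h
  exact ⟨κ, _, _, hc, hb.of_ringEquiv e⟩

end basic

section poly
variable {p : ℕ} [hp : Fact p.Prime] {A : Type*} [CommRing A] [CharP A p]
  {κ : Type*} [Fintype κ]

lemma coeff_pow_char (f : A[X]) (n : ℕ) :
    (f ^ p).coeff n = if p ∣ n then (f.coeff (n / p)) ^ p else 0 := by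
  rw [← map_frobenius_expand, coeff_map, coeff_expand hp.out.pos]
  split_ifs <;> simp [frobenius_def, hp.out.ne_zero]

omit hp in
lemma arith_aux {m j j' : ℕ} (hj : j < p) (hj' : j' < p) (hle : j' ≤ p * m + j)
    (hd : p ∣ p * m + j - j') : j = j' := by
  obtain ⟨c, hc⟩ := hd
  have h : p * c + j' = p * m + j := by omega
  have := congrArg (· % p) h
  simpa [Nat.mul_add_mod, Nat.mod_eq_of_lt hj, Nat.mod_eq_of_lt hj'] using this.symm

lemma coeff_term (g : A[X]) (b : A) (j' : ℕ) (hj' : j' < p) (m j : ℕ) (hj : j < p) :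
    (g ^ p * (C b * X ^ j')).coeff (p * m + j) =
      if j = j' then (g.coeff m) ^ p * b else 0 := by
  rw [show g ^ p * (C b * X ^ j') = (C b * g ^ p) * X ^ j' by ring, coeff_mul_X_pow',
    coeff_C_mul, coeff_pow_char]
  by_cases hjj : j = j'
  · subst hjj
    rw [if_pos (Nat.le_add_left _ _), if_pos rfl, Nat.add_sub_cancel, if_pos (dvd_mul_right _ _),
      Nat.mul_div_cancel_left _ hp.out.pos, mul_comm]
  · rw [if_neg hjj]
    split_ifs with h1 h2
    · exact absurd (arith_aux hj hj' h1 h2) hjj
    · simp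
    · rfl

/-- The candidate `p`-basis of `A[X]`. -/
noncomputable def polyBasis (p : ℕ) (b : κ → A) : κ × Fin p → A[X] :=
  fun kj => C (b kj.1) * X ^ (kj.2 : ℕ)

lemma coeff_phi_polyBasis (b : κ → A) (g : κ × Fin p → A[X]) (m : ℕ) (j : Fin p) :
    (phi p (polyBasis p b) g).coeff (p * m + j) = phi p b (fun k => (g (k, j)).coeff m) := by
  simp only [phi, polyBasis]
  rw [Fintype.sum_prod_type, finsetSum_coeff]
  refine Finset.sum_congr rfl fun k _ => ?_
  rw [finsetSum_coeff]
  simp only [coeff_term _ _ _ (Fin.is_lt _) _ _ j.is_lt]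
  rw [Finset.sum_eq_single j]
  · simp
  · intro j' _ hne
    rw [if_neg]
    exact fun h => hne (Fin.ext h.symm)
  · simp

lemma IsPBasis.polynomial {b : κ → A} (h : IsPBasis p b) : IsPBasis p (polyBasis p b) := by
  constructor
  · intro g g' hgg
    funext ⟨k, j⟩
    ext m
    have h1 := congrArg (fun f => f.coeff (p * m + j)) hgg
    simp only [coeff_phi_polyBasis] at h1
    exact congrFun (h.1 h1) k
  · intro f
    let Ψ : A → (κ → A) := (Equiv.ofBijective _ h).symm
    have hΨ : ∀ a, phi p b (Ψ a) = a := fun a => (Equiv.ofBijective _ h).apply_symm_apply a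
    have hΨ0 : Ψ 0 = 0 := by
      apply h.1
      rw [hΨ, phi_zero]
    let g : κ × Fin p → A[X] := fun kj =>
      ∑ m ∈ Finset.range (f.natDegree + 1), monomial m (Ψ (f.coeff (p * m + kj.2)) kj.1)
    have hg : ∀ k j m, (g (k, j)).coeff m = Ψ (f.coeff (p * m + j)) k := by
      intro k j m
      simp only [g, finsetSum_coeff, coeff_monomial]
      rw [Finset.sum_ite_eq' (Finset.range (f.natDegree + 1)) m]
      split_ifs with hm
      · rfl
      · rw [Finset.mem_range, not_lt] at hm
        have hlt : f.natDegree < p * m + j := by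
          have : m ≤ p * m := Nat.le_mul_of_pos_left m hp.out.pos
          omega
        rw [coeff_eq_zero_of_natDegree_lt hlt, hΨ0]
        rfl
    refine ⟨g, ?_⟩
    ext n
    have hn : p * (n / p) + (⟨n % p, Nat.mod_lt _ hp.out.pos⟩ : Fin p) = n := Nat.div_add_mod n p
    rw [← hn, coeff_phi_polyBasis]
    simp only [hg]
    rw [hΨ]

lemma HasPRank.polynomial {N : ℕ} (h : HasPRank p A N) : HasPRank p A[X] (p * N) := by
  obtain ⟨κ, _, b, hc, hb⟩ := h
  refine ⟨κ × Fin p, inferInstance, polyBasis p b, ?_, hb.polynomial⟩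
  rw [Fintype.card_prod, Fintype.card_fin, hc, mul_comm]

end poly


section mvpoly
variable {p : ℕ} [hp : Fact p.Prime] {A : Type*} [CommRing A] [CharP A p]

lemma HasPRank.mvPolynomial_fin {N : ℕ} (h : HasPRank p A N) (n : ℕ) :
    HasPRank p (MvPolynomial (Fin n) A) (p ^ n * N) := by
  induction n with
  | zero =>
    rw [pow_zero, one_mul]
    exact h.of_ringEquiv (MvPolynomial.isEmptyRingEquiv A (Fin 0)).symm
  | succ n ih =>
    have := ih.polynomial
    rw [pow_succ, mul_comm (p ^ n) p, mul_assoc]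
    exact this.of_ringEquiv (MvPolynomial.finSuccEquiv A n).symm.toRingEquiv

lemma HasPRank.mvPolynomial {N : ℕ} (h : HasPRank p A N) (ι : Type*) [Fintype ι] :
    HasPRank p (MvPolynomial ι A) (p ^ Fintype.card ι * N) :=
  (h.mvPolynomial_fin (Fintype.card ι)).of_ringEquiv
    (MvPolynomial.renameEquiv A (Fintype.equivFin ι)).symm.toRingEquiv

end mvpoly

section frac
variable {p : ℕ} [hp : Fact p.Prime] {A : Type*} [CommRing A] [CharP A p] [IsDomain A]
  {κ : Type*} [Fintype κ]

lemma IsPBasis.of_isFractionRing (F : Type*) [Field F] [Algebra A F] [IsFractionRing A F]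
    {b : κ → A} (h : IsPBasis p b) : IsPBasis p (fun k => algebraMap A F (b k)) := by
  have : CharP F p := charP_of_injective_algebraMap (IsFractionRing.injective A F) p
  have hinj := IsFractionRing.injective A F
  apply isPBasis_of_ker
  · intro c hc
    obtain ⟨s, hs⟩ := IsLocalization.exist_integer_multiples_of_finite (nonZeroDivisors A) c
    choose a ha using hs
    have hs0 : algebraMap A F (s : A) ≠ 0 := by
      rw [Ne, map_eq_zero_iff _ hinj]
      exact nonZeroDivisors.ne_zero s.2
    have h1 : algebraMap A F (phi p b a) = 0 := by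
      simp only [phi, map_sum, map_mul, map_pow, ha, Algebra.smul_def]
      have : ∀ k, (algebraMap A F (s : A) * c k) ^ p * algebraMap A F (b k) =
          algebraMap A F (s : A) ^ p * (c k ^ p * algebraMap A F (b k)) := fun k => by ring
      simp only [this, ← Finset.mul_sum]
      simp only [phi] at hc
      rw [hc, mul_zero]
    have h2 : a = 0 := by
      apply h.1
      rw [phi_zero]
      exact hinj (by rw [h1, map_zero])
    funext k
    have := ha k
    rw [h2, Pi.zero_apply, map_zero, Algebra.smul_def] at this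
    exact ((mul_eq_zero.mp this.symm).resolve_left hs0)
  · intro x
    obtain ⟨a, s, hs, rfl⟩ := IsFractionRing.div_surjective (A := A) x
    obtain ⟨c, hc⟩ := h.2 (a * s ^ (p - 1))
    have hs0 : algebraMap A F s ≠ 0 := by
      rw [Ne, map_eq_zero_iff _ hinj]
      exact nonZeroDivisors.ne_zero hs
    refine ⟨fun k => algebraMap A F (c k) / algebraMap A F s, ?_⟩
    have h1 : algebraMap A F (phi p b c) = algebraMap A F a * algebraMap A F s ^ (p - 1) := by
      rw [hc, map_mul, map_pow]
    simp only [phi, map_sum, map_mul, map_pow] at h1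
    simp only [phi, div_pow, div_mul_eq_mul_div]
    rw [← Finset.sum_div, h1, div_eq_div_iff (pow_ne_zero _ hs0) hs0, mul_assoc, ← pow_succ,
      Nat.sub_add_cancel hp.out.one_le]

lemma HasPRank.of_isFractionRing (F : Type*) [Field F] [Algebra A F] [IsFractionRing A F]
    {N : ℕ} (h : HasPRank p A N) : HasPRank p F N := by
  obtain ⟨κ, _, b, hc, hb⟩ := h
  exact ⟨κ, _, _, hc, hb.of_isFractionRing F⟩

end frac

section finrank
variable {p : ℕ} [hp : Fact p.Prime] {K : Type*} [Field K] [CharP K p]

lemma HasPRank.finrank_eq {N : ℕ} (h : HasPRank p K N) :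
    Module.finrank (↥(frobenius K p).fieldRange) K = N := by
  obtain ⟨κ, _, b, hc, hb⟩ := h
  have hli : LinearIndependent (↥(frobenius K p).fieldRange) b := by
    rw [Fintype.linearIndependent_iff]
    intro g hg
    have : ∀ k, ∃ d : K, d ^ p = (g k : K) := fun k => by
      obtain ⟨d, hd⟩ := RingHom.mem_fieldRange.mp (g k).2
      exact ⟨d, by rw [← hd, frobenius_def]⟩
    choose d hd using this
    have h0 : phi p b d = 0 := by
      simp only [phi, hd]
      simpa [Subfield.smul_def] using hg
    have hd0 : d = 0 := hb.1 (by rw [h0, phi_zero])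
    intro k
    apply Subtype.ext
    rw [← hd k, hd0]
    simp [hp.out.ne_zero]
  have hsp : ⊤ ≤ Submodule.span (↥(frobenius K p).fieldRange) (Set.range b) := by
    intro x _
    obtain ⟨c, rfl⟩ := hb.2 x
    simp only [phi]
    refine Submodule.sum_mem _ fun k _ => ?_
    have : c k ^ p * b k =
        (⟨c k ^ p, RingHom.mem_fieldRange.mpr ⟨c k, frobenius_def _ _⟩⟩ :
          ↥(frobenius K p).fieldRange) • b k := by
      rw [Subfield.smul_def, smul_eq_mul]
    rw [this]
    exact Submodule.smul_mem _ _ (Submodule.subset_span ⟨k, rfl⟩)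
  rw [Module.finrank_eq_card_basis (Module.Basis.mk hli hsp), hc]

end finrank


section powerSeries
variable {p : ℕ} [hp : Fact p.Prime] {A : Type*} [CommRing A] [CharP A p]
  {κ : Type*} [Fintype κ]

open PowerSeries in
lemma ps_coeff_pow_char (f : A⟦X⟧) (n : ℕ) :
    PowerSeries.coeff n (f ^ p) = if p ∣ n then (PowerSeries.coeff (n / p) f) ^ p else 0 := by
  have h1 : PowerSeries.coeff n (f ^ p) =
      PowerSeries.coeff n ((PowerSeries.trunc (n + 1) f : A⟦X⟧) ^ p) := by
    rw [← PowerSeries.coeff_coe_trunc_of_lt n.lt_succ_self,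
      ← PowerSeries.coeff_coe_trunc_of_lt (f := (PowerSeries.trunc (n + 1) f : A⟦X⟧) ^ p)
        n.lt_succ_self, PowerSeries.trunc_trunc_pow]
  rw [h1, ← Polynomial.coe_pow, Polynomial.coeff_coe, coeff_pow_char]
  split_ifs with hd
  · rw [PowerSeries.coeff_trunc, if_pos]
    exact Nat.lt_succ_of_le (Nat.div_le_self n p)
  · rfl

lemma ps_coeff_term (g : PowerSeries A) (b : A) (j' : ℕ) (hj' : j' < p) (m j : ℕ) (hj : j < p) :
    PowerSeries.coeff (p * m + j) (g ^ p * (PowerSeries.C b * PowerSeries.X ^ j')) =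
      if j = j' then (PowerSeries.coeff m g) ^ p * b else 0 := by
  rw [show g ^ p * (PowerSeries.C b * PowerSeries.X ^ j') =
      (PowerSeries.C b * g ^ p) * PowerSeries.X ^ j' by ring, PowerSeries.coeff_mul_X_pow',
    PowerSeries.coeff_C_mul, ps_coeff_pow_char]
  by_cases hjj : j = j'
  · subst hjj
    rw [if_pos (Nat.le_add_left _ _), if_pos rfl, Nat.add_sub_cancel, if_pos (dvd_mul_right _ _),
      Nat.mul_div_cancel_left _ hp.out.pos, mul_comm]
  · rw [if_neg hjj]
    split_ifs with h1 h2
    · exact absurd (arith_aux hj hj' h1 h2) hjj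
    · simp
    · rfl

/-- The candidate `p`-basis of `A⟦X⟧`. -/
noncomputable def psBasis (p : ℕ) (b : κ → A) : κ × Fin p → PowerSeries A :=
  fun kj => PowerSeries.C (b kj.1) * PowerSeries.X ^ (kj.2 : ℕ)

lemma coeff_phi_psBasis (b : κ → A) (g : κ × Fin p → PowerSeries A) (m : ℕ) (j : Fin p) :
    PowerSeries.coeff (p * m + j) (phi p (psBasis p b) g) =
      phi p b (fun k => PowerSeries.coeff m (g (k, j))) := by
  simp only [phi, psBasis]
  rw [Fintype.sum_prod_type, map_sum]
  refine Finset.sum_congr rfl fun k _ => ?_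
  rw [map_sum]
  simp only [ps_coeff_term _ _ _ (Fin.is_lt _) _ _ j.is_lt]
  rw [Finset.sum_eq_single j]
  · simp
  · intro j' _ hne
    rw [if_neg]
    exact fun h => hne (Fin.ext h.symm)
  · simp

lemma IsPBasis.powerSeries {b : κ → A} (h : IsPBasis p b) : IsPBasis p (psBasis p b) := by
  constructor
  · intro g g' hgg
    funext ⟨k, j⟩
    ext m
    have h1 := congrArg (fun f => PowerSeries.coeff (p * m + j) f) hgg
    simp only [coeff_phi_psBasis] at h1
    exact congrFun (h.1 h1) k
  · intro f
    let Ψ : A → (κ → A) := (Equiv.ofBijective _ h).symm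
    have hΨ : ∀ a, phi p b (Ψ a) = a := fun a => (Equiv.ofBijective _ h).apply_symm_apply a
    let g : κ × Fin p → PowerSeries A := fun kj =>
      PowerSeries.mk fun m => Ψ (PowerSeries.coeff (p * m + kj.2) f) kj.1
    refine ⟨g, ?_⟩
    ext n
    have hn : p * (n / p) + (⟨n % p, Nat.mod_lt _ hp.out.pos⟩ : Fin p) = n := Nat.div_add_mod n p
    rw [← hn, coeff_phi_psBasis]
    simp only [g, PowerSeries.coeff_mk]
    rw [hΨ]

lemma HasPRank.powerSeries {N : ℕ} (h : HasPRank p A N) : HasPRank p (PowerSeries A) (p * N) := by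
  obtain ⟨κ, _, b, hc, hb⟩ := h
  refine ⟨κ × Fin p, inferInstance, psBasis p b, ?_, hb.powerSeries⟩
  rw [Fintype.card_prod, Fintype.card_fin, hc, mul_comm]

end powerSeries

section perfect
variable {p : ℕ} [hp : Fact p.Prime] (k : Type*) [Field k] [CharP k p] [PerfectRing k p]

lemma hasPRank_of_perfect : HasPRank p k 1 := by
  refine ⟨Unit, inferInstance, fun _ => 1, by simp, ?_⟩
  have : phi p (fun _ : Unit => (1 : k)) = (frobenius k p) ∘ (fun c => c ()) := by
    funext c
    simp [phi, frobenius_def]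
  rw [IsPBasis, this]
  refine (bijective_frobenius k p).comp ⟨fun c c' hcc => ?_, fun a => ⟨fun _ => a, rfl⟩⟩
  funext u
  exact hcc

lemma hasPRank_laurentSeries : HasPRank p (LaurentSeries k) p := by
  have h1 : HasPRank p (PowerSeries k) (p * 1) := (hasPRank_of_perfect k).powerSeries
  rw [mul_one] at h1
  have : CharP (PowerSeries k) p :=
    charP_of_injective_ringHom (PowerSeries.C_injective (R := k)) p
  exact h1.of_isFractionRing (LaurentSeries k)

end perfect

end Groth.Agent.Lib.Helper20.PBasis
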