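import Groth.Agent.Lib.Helper20.PBasis
import Groth.Agent.S19092

/-! # F-finiteness of local rings of finite type `k⟦t⟧`-algebras. -/

namespace Groth.Agent.Lib.Helper20.PBasisFinite

open Groth.Agent.Lib.Helper20.PBasis

universe u

lemma HasPRank.frobenius_finite {p : ℕ} [Fact p.Prime] {B : Type*} [CommRing B] [CharP B p]
    {N : ℕ} (h : HasPRank p B N) : (frobenius B p).Finite := by
  obtain ⟨κ, _, b, -, hb⟩ := h
  classical
  let alg : Algebra B B := (frobenius B p).toAlgebra
  change @Module.Finite B B _ _ alg.toModule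
  refine @Module.Finite.of_fg_top B B _ _ alg.toModule ⟨Finset.univ.image b, ?_⟩
  rw [eq_top_iff]
  intro x _
  obtain ⟨c, rfl⟩ := hb.2 x
  simp only [phi]
  refine sum_mem fun k _ => ?_
  have : c k ^ p * b k = @HSMul.hSMul B B B (@instHSMul B B alg.toSMul) (c k) (b k) := rfl
  rw [this]
  exact @Submodule.smul_mem B B _ _ alg.toModule _ _ (c k)
    (@Submodule.subset_span B B _ _ alg.toModule _ _ (by simp))

theorem main (p : ℕ) [Fact p.Prime]
    (k : Type u) [Field k] [Finite k] [CharP k p]
    (A : Type u) [CommRing A] [Algebra (PowerSeries k) A] [Algebra.FiniteType (PowerSeries k) A]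
    (P : Ideal A) [P.IsPrime] [CharP (Localization.AtPrime P) p] :
    (frobenius (Localization.AtPrime P) p).Finite := by
  have : Nontrivial A := ⟨⟨0, 1, fun h => ‹P.IsPrime›.ne_top (by
    rw [Ideal.eq_top_iff_one, ← h]; exact P.zero_mem)⟩⟩
  have hCA : CharP A p :=
    charP_of_injective_ringHom
      (((algebraMap (PowerSeries k) A).comp (PowerSeries.C (R := k))).injective) p
  have hCP : CharP (PowerSeries k) p :=
    charP_of_injective_ringHom (PowerSeries.C_injective (R := k)) p
  obtain ⟨n, f, hf⟩ := Algebra.FiniteType.iff_quotient_mvPolynomial''.mp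
    (inferInstance : Algebra.FiniteType (PowerSeries k) A)
  have h1 : HasPRank p (PowerSeries k) (p * 1) := (hasPRank_of_perfect k).powerSeries
  have h2 := h1.mvPolynomial_fin n
  have h3 : (frobenius (MvPolynomial (Fin n) (PowerSeries k)) p).Finite :=
    HasPRank.frobenius_finite h2
  have h4 : (frobenius A p).Finite := by
    have hcomm : (frobenius A p).comp (f : MvPolynomial (Fin n) (PowerSeries k) →+* A) =
        (f : MvPolynomial (Fin n) (PowerSeries k) →+* A).comp
          (frobenius (MvPolynomial (Fin n) (PowerSeries k)) p) := by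
      ext x <;> simp [frobenius_def]
    apply RingHom.Finite.of_comp_finite (f := (f : MvPolynomial (Fin n) (PowerSeries k) →+* A))
    rw [hcomm]
    exact (RingHom.Finite.of_surjective _ hf).comp h3
  exact (Groth.Agent.S19092.result p A h4).2 P.primeCompl (Localization.AtPrime P)

end Groth.Agent.Lib.Helper20.PBasisFinite
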