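import Mathlib
import Groth.Prelude.Def_PolLaw

/-!
# Base change of a polynomial law `B → A` along `A → A'`
-/

namespace Groth.Agent.Lib.Helper20.PLBC

open scoped TensorProduct

universe u

section Fun

variable {A : Type u} [CommRing A] {A' : Type u} [CommRing A'] [Algebra A A']
  {B : Type u} [CommRing B] [Algebra A B]
  (R : Type u) [CommSemiring R] [Algebra A R] [Algebra A' R] [IsScalarTower A A' R]

/-- the canonical isomorphism `R ⊗[A'] (A' ⊗[A] B) ≃ R ⊗[A] B` -/
noncomputable abbrev canc : R ⊗[A'] (A' ⊗[A] B) ≃ₐ[R] R ⊗[A] B :=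
  Algebra.TensorProduct.cancelBaseChange A A' R R B

/-- `R ⊗[A] A ≃ R` -/
noncomputable abbrev ridA : R ⊗[A] A ≃ₐ[R] R := Algebra.TensorProduct.rid A R R

/-- `R ⊗[A'] A' ≃ R` -/
noncomputable abbrev ridA' : R ⊗[A'] A' ≃ₐ[R] R := Algebra.TensorProduct.rid A' R R

/-- the members of the base-changed law -/
noncomputable def bcFun (F : B →ₚₗ[A] A) (z : R ⊗[A'] (A' ⊗[A] B)) : R ⊗[A'] A' :=
  (ridA' (A' := A') R).symm (ridA (A := A) R (F.toFun' R (canc (A := A) (A' := A') (B := B) R z)))

theorem bcFun_one (F : B →ₚₗ[A] A) (h1 : F.toFun' R 1 = 1) :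
    bcFun (A' := A') R F 1 = 1 := by
  unfold bcFun
  rw [map_one, h1, map_one, map_one]

theorem bcFun_mul (F : B →ₚₗ[A] A)
    (hm : ∀ x y : R ⊗[A] B, F.toFun' R (x * y) = F.toFun' R x * F.toFun' R y)
    (x y : R ⊗[A'] (A' ⊗[A] B)) :
    bcFun (A' := A') R F (x * y) = bcFun R F x * bcFun R F y := by
  unfold bcFun
  rw [map_mul, hm, map_mul, map_mul]

theorem bcFun_smul (F : B →ₚₗ[A] A) (d : ℕ)
    (hh : ∀ (s : R) (x : R ⊗[A] B), F.toFun' R (s • x) = s ^ d • F.toFun' R x)
    (s : R) (z : R ⊗[A'] (A' ⊗[A] B)) :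
    bcFun (A' := A') R F (s • z) = s ^ d • bcFun R F z := by
  unfold bcFun
  rw [map_smul, hh, map_smul, map_smul]

end Fun

section Nat

variable {A : Type u} [CommRing A] {A' : Type u} [CommRing A'] [Algebra A A']
  {B : Type u} [CommRing B] [Algebra A B]
  {R : Type u} [CommSemiring R] [Algebra A R] [Algebra A' R] [IsScalarTower A A' R]
  {R₂ : Type u} [CommSemiring R₂] [Algebra A R₂] [Algebra A' R₂] [IsScalarTower A A' R₂]

theorem canc_rTensor (φ : R →ₐ[A'] R₂) (z : R ⊗[A'] (A' ⊗[A] B)) :
    canc (A := A) (A' := A') (B := B) R₂ (φ.toLinearMap.rTensor (A' ⊗[A] B) z) =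
      (φ.restrictScalars A).toLinearMap.rTensor B (canc (A := A) (A' := A') (B := B) R z) := by
  induction z using TensorProduct.induction_on with
  | zero => simp
  | tmul r y =>
    induction y using TensorProduct.induction_on with
    | zero => simp
    | tmul a b =>
      simp only [LinearMap.rTensor_tmul, AlgHom.toLinearMap_apply,
        Algebra.TensorProduct.cancelBaseChange_tmul, AlgHom.coe_restrictScalars', map_smul]
    | add x y hx hy => simp only [TensorProduct.tmul_add, map_add, hx, hy]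
  | add x y hx hy => simp only [map_add, hx, hy]

theorem ridA_rTensor (φ : R →ₐ[A'] R₂) (y : R ⊗[A] A) :
    ridA (A := A) R₂ ((φ.restrictScalars A).toLinearMap.rTensor A y) = φ (ridA (A := A) R y) := by
  induction y using TensorProduct.induction_on with
  | zero => simp
  | tmul r a =>
    simp only [LinearMap.rTensor_tmul, AlgHom.toLinearMap_apply, AlgHom.coe_restrictScalars',
      Algebra.TensorProduct.rid_tmul]
    exact (map_smul (φ.restrictScalars A) a r).symm
  | add x y hx hy => simp only [map_add, hx, hy]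

theorem ridA'_symm_rTensor (φ : R →ₐ[A'] R₂) (r : R) :
    φ.toLinearMap.rTensor A' ((ridA' (A' := A') R).symm r) = (ridA' (A' := A') R₂).symm (φ r) := by
  simp [Algebra.TensorProduct.rid_symm_apply]

theorem bcFun_rTensor (F : B →ₚₗ[A] A) (φ : R →ₐ[A'] R₂) (z : R ⊗[A'] (A' ⊗[A] B)) :
    φ.toLinearMap.rTensor A' (bcFun R F z) = bcFun R₂ F (φ.toLinearMap.rTensor (A' ⊗[A] B) z) := by
  unfold bcFun
  rw [ridA'_symm_rTensor, canc_rTensor, ← PolynomialLaw.isCompat_apply', ridA_rTensor]

end Nat

section Law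

variable {A : Type u} [CommRing A] (A' : Type u) [CommRing A'] [Algebra A A']
  {B : Type u} [CommRing B] [Algebra A B]

/-- base change of a polynomial law `B → A` along `A → A'` -/
noncomputable def bcLaw (F : B →ₚₗ[A] A) : (A' ⊗[A] B) →ₚₗ[A'] A' where
  toFun' R _ _ z :=
    letI : Algebra A R := Algebra.compHom R (algebraMap A A')
    haveI : IsScalarTower A A' R := IsScalarTower.of_algebraMap_eq (fun _ => rfl)
    bcFun R F z
  isCompat' {R} _ _ {R₂} _ _ φ := by
    letI : Algebra A R := Algebra.compHom R (algebraMap A A')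
    haveI : IsScalarTower A A' R := IsScalarTower.of_algebraMap_eq (fun _ => rfl)
    letI : Algebra A R₂ := Algebra.compHom R₂ (algebraMap A A')
    haveI : IsScalarTower A A' R₂ := IsScalarTower.of_algebraMap_eq (fun _ => rfl)
    funext z
    exact bcFun_rTensor F φ z

theorem algebra_eq_compHom (R : Type u) [CommSemiring R] [i : Algebra A R] [Algebra A' R]
    [IsScalarTower A A' R] : i = Algebra.compHom R (algebraMap A A') :=
  Algebra.algebra_ext _ _ (fun a => IsScalarTower.algebraMap_apply A A' R a)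

theorem bcLaw_toFun' (F : B →ₚₗ[A] A) (R : Type u) [CommSemiring R] [i : Algebra A R]
    [Algebra A' R] [h : IsScalarTower A A' R] (z : R ⊗[A'] (A' ⊗[A] B)) :
    (bcLaw A' F).toFun' R z = bcFun R F z := by
  have e := algebra_eq_compHom A' R (i := i)
  subst e
  rfl

/-- base change of a multiplicative law -/
noncomputable def bcMulLaw {d : ℕ} (F : PolLaw.MulLaw A B A d) :
    PolLaw.MulLaw A' (A' ⊗[A] B) A' d where
  law := bcLaw A' F.law
  homog R _ _ s x := by
    letI : Algebra A R := Algebra.compHom R (algebraMap A A')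
    haveI : IsScalarTower A A' R := IsScalarTower.of_algebraMap_eq (fun _ => rfl)
    exact bcFun_smul R F.law d (F.homog R) s x
  mult R _ _ := by
    letI : Algebra A R := Algebra.compHom R (algebraMap A A')
    haveI : IsScalarTower A A' R := IsScalarTower.of_algebraMap_eq (fun _ => rfl)
    exact ⟨bcFun_one R F.law (F.mult R).1, bcFun_mul R F.law (F.mult R).2⟩

theorem bcMulLaw_law {d : ℕ} (F : PolLaw.MulLaw A B A d) :
    (bcMulLaw A' F).law = bcLaw A' F.law := rfl

end Law

section Ker

variable {A : Type u} [CommRing A] (A' : Type u) [CommRing A'] [Algebra A A']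
  {B : Type u} [CommRing B] [Algebra A B]

theorem canc_one_tmul (R : Type u) [CommSemiring R] [Algebra A R] [Algebra A' R]
    [IsScalarTower A A' R] (b' : A' ⊗[A] B) :
    canc (A := A) (A' := A') (B := B) R ((1 : R) ⊗ₜ[A'] b') =
      Algebra.TensorProduct.map (IsScalarTower.toAlgHom A A' R) (AlgHom.id A B) b' := by
  induction b' using TensorProduct.induction_on with
  | zero => simp
  | tmul a b =>
    rw [Algebra.TensorProduct.cancelBaseChange_tmul, Algebra.TensorProduct.map_tmul,
      IsScalarTower.coe_toAlgHom', AlgHom.coe_id, id_eq, Algebra.algebraMap_eq_smul_one]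
  | add x y hx hy => rw [TensorProduct.tmul_add, map_add, hx, hy, map_add]

theorem ker_bcLaw_le_kerBC (F : B →ₚₗ[A] A) :
    PolLaw.ker (bcLaw A' F) ≤ PolLaw.kerBC F A' := by
  intro b' hb' R _ _ _ _ x w
  have h := hb' R ((canc (A := A) (A' := A') (B := B) R).symm x)
    ((canc (A := A) (A' := A') (B := B) R).symm w)
  rw [bcLaw_toFun', bcLaw_toFun'] at h
  unfold bcFun at h
  have h2 := (ridA (A := A) R).injective ((ridA' (A' := A') R).symm.injective h)
  rw [map_add, map_mul, AlgEquiv.apply_symm_apply, AlgEquiv.apply_symm_apply,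
    canc_one_tmul] at h2
  exact h2

theorem kerBC_le_ker_bcLaw (F : B →ₚₗ[A] A) :
    PolLaw.kerBC F A' ≤ PolLaw.ker (bcLaw A' F) := by
  intro b' hb' R _ _ x w
  letI : Algebra A R := Algebra.compHom R (algebraMap A A')
  haveI : IsScalarTower A A' R := IsScalarTower.of_algebraMap_eq (fun _ => rfl)
  rw [bcLaw_toFun', bcLaw_toFun']
  unfold bcFun
  rw [map_add, map_mul, canc_one_tmul, hb' R]

theorem ker_bcLaw (F : B →ₚₗ[A] A) : PolLaw.ker (bcLaw A' F) = PolLaw.kerBC F A' :=
  le_antisymm (ker_bcLaw_le_kerBC A' F) (kerBC_le_ker_bcLaw A' F)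

end Ker

end Groth.Agent.Lib.Helper20.PLBC
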