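import Mathlib
import Groth.Prelude.Def_PolLaw
import Groth.Agent.Lib.Helper20.PLBC1
import Groth.Agent.Lib.lead.PolLawKerBC
import Groth.Agent.Lib.lead.PolLawUniv

/-!
# Transitivity of `kerBC`, and `kerBC` for polynomial rings in several variables
-/

namespace Groth.Agent.Lib.Helper20.PLBC

open scoped TensorProduct Polynomial
open Groth.Agent.Lib.lead.PolLawKerBC

universe u

section Functorial

variable {A : Type u} [CommRing A] {B : Type u} [CommRing B] [Algebra A B]
  {C : Type u} [CommRing C] [Algebra A C]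

theorem kerBC_map_le (F : B →ₚₗ[A] C) {A1 A2 : Type u} [CommRing A1] [Algebra A A1]
    [CommRing A2] [Algebra A A2] (σ : A1 →ₐ[A] A2) :
    (PolLaw.kerBC F A1).map (Algebra.TensorProduct.map σ (AlgHom.id A B)) ≤ PolLaw.kerBC F A2 := by
  rw [Ideal.map_le_iff_le_comap]
  intro z hz
  rw [Ideal.mem_comap, mem_kerBC_iff]
  intro R _ _ ρ x w
  rw [mem_kerBC_iff] at hz
  have h := hz R (ρ.comp σ) x w
  have e : Algebra.TensorProduct.map ρ (AlgHom.id A B)
      (Algebra.TensorProduct.map σ (AlgHom.id A B) z) =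
      Algebra.TensorProduct.map (ρ.comp σ) (AlgHom.id A B) z := by
    rw [← AlgHom.comp_apply, ← Algebra.TensorProduct.map_comp]
    rfl
  rw [e]
  exact h

end Functorial

section Trans

variable {A : Type u} [CommRing A] {B : Type u} [CommRing B] [Algebra A B]
  (A1 : Type u) [CommRing A1] [Algebra A A1]
  (A2 : Type u) [CommRing A2] [Algebra A A2] [Algebra A1 A2] [IsScalarTower A A1 A2]

theorem canc_map_symm (R : Type u) [CommSemiring R] [Algebra A R] [Algebra A1 R] [Algebra A2 R]
    [IsScalarTower A A1 R] [IsScalarTower A1 A2 R] [IsScalarTower A A2 R] (z : A2 ⊗[A] B) :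
    canc (A := A) (A' := A1) (B := B) R
      (Algebra.TensorProduct.map (IsScalarTower.toAlgHom A1 A2 R) (AlgHom.id A1 (A1 ⊗[A] B))
        ((canc (A := A) (A' := A1) (B := B) A2).symm z)) =
      Algebra.TensorProduct.map (IsScalarTower.toAlgHom A A2 R) (AlgHom.id A B) z := by
  induction z using TensorProduct.induction_on with
  | zero => simp
  | tmul q b =>
    rw [Algebra.TensorProduct.cancelBaseChange_symm_tmul, Algebra.TensorProduct.map_tmul,
      AlgHom.coe_id, id_eq, Algebra.TensorProduct.cancelBaseChange_tmul,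
      Algebra.TensorProduct.map_tmul, one_smul]
    rfl
  | add x y hx hy => simp only [map_add, hx, hy]

/-- transitivity of base change, for kernels -/
theorem canc_symm_mem_kerBC (F : B →ₚₗ[A] A) (z : A2 ⊗[A] B) (hz : z ∈ PolLaw.kerBC F A2) :
    (canc (A := A) (A' := A1) (B := B) A2).symm z ∈ PolLaw.kerBC (bcLaw A1 F) A2 := by
  intro R _ _ _ _ x w
  letI : Algebra A R := Algebra.compHom R (algebraMap A A1)
  haveI : IsScalarTower A A1 R := IsScalarTower.of_algebraMap_eq (fun _ => rfl)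
  haveI : IsScalarTower A A2 R := IsScalarTower.of_algebraMap_eq (fun a => by
    rw [IsScalarTower.algebraMap_apply A A1 A2, ← IsScalarTower.algebraMap_apply A1 A2 R]
    rfl)
  rw [bcLaw_toFun', bcLaw_toFun']
  unfold bcFun
  rw [map_add, map_mul, canc_map_symm, hz R]

end Trans

section Rel

variable {A : Type u} [CommRing A] {B : Type u} [CommRing B] [Algebra A B]

/-- relative version of the polynomial base change theorem -/
theorem kerBC_polynomial_le (A1 : Type u) [CommRing A1] [Algebra A A1] (F : B →ₚₗ[A] A) :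
    PolLaw.kerBC F A1[X] ≤ (PolLaw.kerBC F A1).map
      (Algebra.TensorProduct.map (IsScalarTower.toAlgHom A A1 A1[X]) (AlgHom.id A B)) := by
  intro z hz
  have h1 := canc_symm_mem_kerBC A1 A1[X] F z hz
  have h2 := kerBC_le_map (bcLaw A1 F) h1
  rw [ker_bcLaw] at h2
  have h4 : (PolLaw.kerBC F A1).map
      (Algebra.TensorProduct.includeRight : (A1 ⊗[A] B) →ₐ[A1] A1[X] ⊗[A1] (A1 ⊗[A] B)) ≤
      ((PolLaw.kerBC F A1).map
        (Algebra.TensorProduct.map (IsScalarTower.toAlgHom A A1 A1[X]) (AlgHom.id A B))).comap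
        (canc (A := A) (A' := A1) (B := B) A1[X]) := by
    rw [Ideal.map_le_iff_le_comap]
    intro k hk
    rw [Ideal.mem_comap, Ideal.mem_comap]
    change canc (A := A) (A' := A1) (B := B) A1[X] ((1 : A1[X]) ⊗ₜ[A1] k) ∈ _
    rw [canc_one_tmul]
    exact Ideal.mem_map_of_mem _ hk
  have h5 := h4 h2
  rw [Ideal.mem_comap, AlgEquiv.apply_symm_apply] at h5
  exact h5

theorem map_map_includeRight_le (F : B →ₚₗ[A] A) {A1 A2 : Type u} [CommRing A1] [Algebra A A1]
    [CommRing A2] [Algebra A A2] (σ : A1 →ₐ[A] A2) :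
    ((PolLaw.ker F).map (Algebra.TensorProduct.includeRight : B →ₐ[A] A1 ⊗[A] B)).map
      (Algebra.TensorProduct.map σ (AlgHom.id A B)) ≤
      (PolLaw.ker F).map (Algebra.TensorProduct.includeRight : B →ₐ[A] A2 ⊗[A] B) := by
  rw [Ideal.map_le_iff_le_comap, Ideal.map_le_iff_le_comap]
  intro b hb
  rw [Ideal.mem_comap, Ideal.mem_comap]
  have e : Algebra.TensorProduct.map σ (AlgHom.id A B)
      ((Algebra.TensorProduct.includeRight : B →ₐ[A] A1 ⊗[A] B) b) =
      (Algebra.TensorProduct.includeRight : B →ₐ[A] A2 ⊗[A] B) b := by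
    simp
  rw [e]
  exact Ideal.mem_map_of_mem _ hb

theorem kerBC_self_le (F : B →ₚₗ[A] A) :
    PolLaw.kerBC F A ≤ (PolLaw.ker F).map
      (Algebra.TensorProduct.includeRight : B →ₐ[A] A ⊗[A] B) := by
  intro z hz
  have hz1 : z = (1 : A) ⊗ₜ[A] (TensorProduct.lid A B z) := by
    rw [← TensorProduct.lid_symm_apply, LinearEquiv.symm_apply_apply]
  rw [hz1]
  apply Ideal.mem_map_of_mem (Algebra.TensorProduct.includeRight : B →ₐ[A] A ⊗[A] B)
  rw [mem_ker_iff]
  intro R _ _ x w
  rw [mem_kerBC_iff] at hz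
  have h := hz R (Algebra.ofId A R) x w
  rw [hz1, Algebra.TensorProduct.map_tmul, map_one] at h
  exact h

theorem kerBC_le_of_algEquiv (F : B →ₚₗ[A] A) {A1 A2 : Type u} [CommRing A1] [Algebra A A1]
    [CommRing A2] [Algebra A A2] (e : A1 ≃ₐ[A] A2)
    (h : PolLaw.kerBC F A2 ≤ (PolLaw.ker F).map
      (Algebra.TensorProduct.includeRight : B →ₐ[A] A2 ⊗[A] B)) :
    PolLaw.kerBC F A1 ≤ (PolLaw.ker F).map
      (Algebra.TensorProduct.includeRight : B →ₐ[A] A1 ⊗[A] B) := by
  intro z hz
  have h1 : Algebra.TensorProduct.map e.toAlgHom (AlgHom.id A B) z ∈ PolLaw.kerBC F A2 :=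
    kerBC_map_le F e.toAlgHom (Ideal.mem_map_of_mem _ hz)
  have h2 := map_map_includeRight_le F e.symm.toAlgHom (Ideal.mem_map_of_mem _ (h h1))
  have e3 : Algebra.TensorProduct.map e.symm.toAlgHom (AlgHom.id A B)
      (Algebra.TensorProduct.map e.toAlgHom (AlgHom.id A B) z) = z := by
    rw [← AlgHom.comp_apply, ← Algebra.TensorProduct.map_comp]
    simp
  rw [e3] at h2
  exact h2

theorem kerBC_mvPolynomial_le (F : B →ₚₗ[A] A) (n : ℕ) :
    PolLaw.kerBC F (MvPolynomial (Fin n) A) ≤ (PolLaw.ker F).map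
      (Algebra.TensorProduct.includeRight : B →ₐ[A] MvPolynomial (Fin n) A ⊗[A] B) := by
  induction n with
  | zero =>
    exact kerBC_le_of_algEquiv F (MvPolynomial.isEmptyAlgEquiv A (Fin 0)) (kerBC_self_le F)
  | succ n ih =>
    apply kerBC_le_of_algEquiv F (MvPolynomial.finSuccEquiv A n)
    refine (kerBC_polynomial_le (MvPolynomial (Fin n) A) F).trans ?_
    exact (Ideal.map_mono ih).trans (map_map_includeRight_le F _)

end Rel

end Groth.Agent.Lib.Helper20.PLBC
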