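import Mathlib
import Groth.Prelude.Def_PolLaw

/-!
# Coefficients of polynomial laws

For a polynomial law `F : M →ₚₗ[A] N` and a finite family `m : ι → M`, the coefficients
`coeff F m β` (`β : ι →₀ ℕ`) are defined by
`F_{A[X_i]}(∑ X_i ⊗ m_i) = ∑_β X^β ⊗ coeff F m β`.
-/

namespace Groth.Agent.Lib.Helper20.PLCoeff

open scoped TensorProduct
open MvPolynomial

universe u

section Ext

variable {A : Type u} [CommRing A] {N : Type u} [AddCommGroup N] [Module A N]
  {N' : Type u} [AddCommGroup N'] [Module A N'] {ι : Type}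

/-- coefficient extraction `A[X] ⊗ N → N` -/
noncomputable def ext1 (β : ι →₀ ℕ) : MvPolynomial ι A ⊗[A] N →ₗ[A] N :=
  (TensorProduct.lid A N).toLinearMap ∘ₗ (MvPolynomial.lcoeff A β).rTensor N

@[simp] theorem ext1_tmul (β : ι →₀ ℕ) (p : MvPolynomial ι A) (n : N) :
    ext1 β (p ⊗ₜ[A] n) = MvPolynomial.coeff β p • n := by
  simp [ext1]

theorem ext1_lTensor (g : N →ₗ[A] N') (β : ι →₀ ℕ) (z : MvPolynomial ι A ⊗[A] N) :
    ext1 β (g.lTensor (MvPolynomial ι A) z) = g (ext1 β z) := by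
  induction z using TensorProduct.induction_on with
  | zero => simp
  | tmul p n => simp
  | add x y hx hy => simp [hx, hy]

theorem exists_decomp (z : MvPolynomial ι A ⊗[A] N) :
    ∃ t : Finset (ι →₀ ℕ), (∀ β ∉ t, ext1 β z = 0) ∧
      z = ∑ β ∈ t, monomial β (1 : A) ⊗ₜ[A] ext1 β z := by
  classical
  induction z using TensorProduct.induction_on with
  | zero => exact ⟨∅, by simp, by simp⟩
  | tmul p n =>
    refine ⟨p.support, ?_, ?_⟩
    · intro β hβ
      rw [ext1_tmul, MvPolynomial.notMem_support_iff.mp hβ, zero_smul]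
    · conv_lhs => rw [← MvPolynomial.support_sum_monomial_coeff p]
      rw [TensorProduct.sum_tmul]
      refine Finset.sum_congr rfl (fun β _ => ?_)
      rw [ext1_tmul, ← TensorProduct.smul_tmul, MvPolynomial.smul_monomial, smul_eq_mul, mul_one]
  | add x y hx hy =>
    obtain ⟨t₁, h₁, e₁⟩ := hx
    obtain ⟨t₂, h₂, e₂⟩ := hy
    refine ⟨t₁ ∪ t₂, ?_, ?_⟩
    · intro β hβ
      rw [Finset.notMem_union] at hβ
      rw [map_add, h₁ β hβ.1, h₂ β hβ.2, add_zero]
    · have e₁' : x = ∑ β ∈ t₁ ∪ t₂, monomial β (1 : A) ⊗ₜ[A] ext1 β x := by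
        conv_lhs => rw [e₁]
        refine Finset.sum_subset Finset.subset_union_left (fun β _ hβ => ?_)
        rw [h₁ β hβ, TensorProduct.tmul_zero]
      have e₂' : y = ∑ β ∈ t₁ ∪ t₂, monomial β (1 : A) ⊗ₜ[A] ext1 β y := by
        conv_lhs => rw [e₂]
        refine Finset.sum_subset Finset.subset_union_right (fun β _ hβ => ?_)
        rw [h₂ β hβ, TensorProduct.tmul_zero]
      conv_lhs => rw [e₁', e₂']
      rw [← Finset.sum_add_distrib]
      refine Finset.sum_congr rfl (fun β _ => ?_)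
      rw [map_add, TensorProduct.tmul_add]

/-- a finite set of exponents containing all nonzero coefficients of `z` -/
noncomputable def supp (z : MvPolynomial ι A ⊗[A] N) : Finset (ι →₀ ℕ) :=
  (exists_decomp z).choose

theorem ext1_eq_zero_of_notMem {z : MvPolynomial ι A ⊗[A] N} {β : ι →₀ ℕ} (h : β ∉ supp z) :
    ext1 β z = 0 :=
  (exists_decomp z).choose_spec.1 β h

theorem eq_sum_of_subset {z : MvPolynomial ι A ⊗[A] N} {t : Finset (ι →₀ ℕ)} (h : supp z ⊆ t) :
    z = ∑ β ∈ t, monomial β (1 : A) ⊗ₜ[A] ext1 β z := by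
  conv_lhs => rw [(exists_decomp z).choose_spec.2]
  refine Finset.sum_subset h (fun β _ hβ => ?_)
  rw [ext1_eq_zero_of_notMem hβ, TensorProduct.tmul_zero]

theorem ext_ext1 {z z' : MvPolynomial ι A ⊗[A] N} (h : ∀ β, ext1 β z = ext1 β z') : z = z' := by
  classical
  have e₁ := eq_sum_of_subset (z := z) (t := supp z ∪ supp z') Finset.subset_union_left
  have e₂ := eq_sum_of_subset (z := z') (t := supp z ∪ supp z') Finset.subset_union_right
  exact e₁.trans ((Finset.sum_congr rfl (fun β _ => by rw [h β])).trans e₂.symm)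

theorem rTensor_eq_sum {S : Type u} [CommSemiring S] [Algebra A S] (ψ : MvPolynomial ι A →ₐ[A] S)
    (z : MvPolynomial ι A ⊗[A] N) {t : Finset (ι →₀ ℕ)} (h : supp z ⊆ t) :
    ψ.toLinearMap.rTensor N z = ∑ β ∈ t, ψ (monomial β (1 : A)) ⊗ₜ[A] ext1 β z := by
  conv_lhs => rw [eq_sum_of_subset h]
  rw [map_sum]
  rfl

end Ext

section Law

variable {A : Type u} [CommRing A] {M N : Type u} [AddCommGroup M] [Module A M]
  [AddCommGroup N] [Module A N]

/-- every tensor is a finite sum of pure tensors, indexed by a finite type -/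
theorem exists_rep {S : Type u} [CommSemiring S] [Algebra A S] (x : S ⊗[A] M) :
    ∃ (ι : Type) (_ : Fintype ι) (s : ι → S) (m : ι → M), x = ∑ i, s i ⊗ₜ[A] m i := by
  induction x using TensorProduct.induction_on with
  | zero => exact ⟨PEmpty, inferInstance, PEmpty.elim, PEmpty.elim, by simp⟩
  | tmul s m => exact ⟨Unit, inferInstance, fun _ => s, fun _ => m, by simp⟩
  | add x y hx hy =>
    obtain ⟨ι₁, _, s₁, m₁, rfl⟩ := hx
    obtain ⟨ι₂, _, s₂, m₂, rfl⟩ := hy
    exact ⟨ι₁ ⊕ ι₂, inferInstance, Sum.elim s₁ s₂, Sum.elim m₁ m₂, by simp⟩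

variable {ι : Type} [Fintype ι]

/-- the generic element `∑ X_i ⊗ m_i` -/
noncomputable def gen (m : ι → M) : MvPolynomial ι A ⊗[A] M := ∑ i, X i ⊗ₜ[A] m i

/-- the coefficients of a polynomial law at a finite family -/
noncomputable def coeff (F : M →ₚₗ[A] N) (m : ι → M) (β : ι →₀ ℕ) : N :=
  ext1 β (F.toFun' (MvPolynomial ι A) (gen m))

/-- a finite set containing the exponents of all nonzero coefficients -/
noncomputable def csupp (F : M →ₚₗ[A] N) (m : ι → M) : Finset (ι →₀ ℕ) :=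
  supp (F.toFun' (MvPolynomial ι A) (gen m))

theorem coeff_eq_zero_of_notMem {F : M →ₚₗ[A] N} {m : ι → M} {β : ι →₀ ℕ}
    (h : β ∉ csupp F m) : coeff F m β = 0 :=
  ext1_eq_zero_of_notMem h

theorem rTensor_aeval_gen {S : Type u} [CommSemiring S] [Algebra A S] (s : ι → S) (m : ι → M) :
    (aeval s : MvPolynomial ι A →ₐ[A] S).toLinearMap.rTensor M (gen m) = ∑ i, s i ⊗ₜ[A] m i := by
  simp [gen, map_sum]

/-- the fundamental formula: `F_S(∑ s_i ⊗ m_i) = ∑_β s^β ⊗ coeff F m β` -/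
theorem toFun'_sum_tmul (F : M →ₚₗ[A] N) (m : ι → M) (S : Type u) [CommSemiring S] [Algebra A S]
    (s : ι → S) {t : Finset (ι →₀ ℕ)} (ht : csupp F m ⊆ t) :
    F.toFun' S (∑ i, s i ⊗ₜ[A] m i) =
      ∑ β ∈ t, (aeval s (monomial β (1 : A))) ⊗ₜ[A] coeff F m β := by
  rw [← rTensor_aeval_gen, ← PolynomialLaw.isCompat_apply']
  exact rTensor_eq_sum _ _ ht

theorem toFun'_gen (F : M →ₚₗ[A] N) (m : ι → M) {t : Finset (ι →₀ ℕ)} (ht : csupp F m ⊆ t) :
    F.toFun' (MvPolynomial ι A) (gen m) = ∑ β ∈ t, monomial β (1 : A) ⊗ₜ[A] coeff F m β :=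
  eq_sum_of_subset ht

theorem aeval_monomial_one {S : Type u} [CommSemiring S] [Algebra A S] (s : ι → S) (β : ι →₀ ℕ) :
    aeval s (monomial β (1 : A)) = ∏ i, s i ^ β i := by
  rw [MvPolynomial.aeval_monomial, map_one, one_mul, Finsupp.prod_fintype]
  intro i
  exact pow_zero _

theorem prod_monomial_pow {κ ι' : Type} [Fintype κ] (μ : κ → (ι' →₀ ℕ)) (a : κ → A) (β : κ →₀ ℕ) :
    ∏ k, (monomial (μ k) (a k)) ^ (β k) = monomial (∑ k, β k • μ k) (∏ k, a k ^ β k) := by
  classical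
  have : ∀ t : Finset κ, ∏ k ∈ t, (monomial (μ k) (a k)) ^ (β k) =
      monomial (∑ k ∈ t, β k • μ k) (∏ k ∈ t, a k ^ β k) := by
    intro t
    induction t using Finset.induction_on with
    | empty => simp
    | insert k t hk ih =>
      rw [Finset.prod_insert hk, Finset.sum_insert hk, Finset.prod_insert hk, ih,
        MvPolynomial.monomial_pow, MvPolynomial.monomial_mul]
  exact this Finset.univ

/-- coefficient extraction after a monomial substitution -/
theorem ext1_toFun'_monomial_sum (F : M →ₚₗ[A] N) {κ ι' : Type} [Fintype κ] (m : κ → M)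
    (μ : κ → (ι' →₀ ℕ)) (a : κ → A) {t : Finset (κ →₀ ℕ)} (ht : csupp F m ⊆ t)
    (β' : ι' →₀ ℕ) [DecidableEq (ι' →₀ ℕ)] :
    ext1 β' (F.toFun' (MvPolynomial ι' A) (∑ k, monomial (μ k) (a k) ⊗ₜ[A] m k)) =
      ∑ β ∈ t, if (∑ k, β k • μ k) = β' then (∏ k, a k ^ β k) • coeff F m β else 0 := by
  classical
  rw [toFun'_sum_tmul F m _ _ ht, map_sum]
  refine Finset.sum_congr rfl (fun β _ => ?_)
  rw [aeval_monomial_one, prod_monomial_pow, ext1_tmul, MvPolynomial.coeff_monomial]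
  by_cases hβ : (∑ k, β k • μ k) = β'
  · rw [if_pos hβ, if_pos hβ]
  · rw [if_neg hβ, if_neg hβ, zero_smul]

/-- two laws which agree on all generic elements are equal -/
theorem ext_gen {F G : M →ₚₗ[A] N}
    (h : ∀ (ι : Type) [Fintype ι] (m : ι → M),
      F.toFun' (MvPolynomial ι A) (gen m) = G.toFun' (MvPolynomial ι A) (gen m)) : F = G := by
  apply PolynomialLaw.ext
  funext S _ _ x
  obtain ⟨ι, _, s, m, rfl⟩ := exists_rep x
  rw [← rTensor_aeval_gen, ← PolynomialLaw.isCompat_apply', ← PolynomialLaw.isCompat_apply', h]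

theorem coeff_postcomp {N' : Type u} [AddCommGroup N'] [Module A N'] (g : N →ₗ[A] N')
    (F : M →ₚₗ[A] N) (m : ι → M) (β : ι →₀ ℕ) :
    coeff (PolLaw.postcomp g F) m β = g (coeff F m β) := by
  unfold coeff
  rw [← ext1_lTensor]
  rfl

end Law

end Groth.Agent.Lib.Helper20.PLCoeff
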