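import Mathlib
import Groth.Prelude.Def_PolLaw
import Groth.Agent.S13174
import Groth.Agent.Lib.Helper20.PLCoeff

/-!
# Corestriction of polynomial laws, and checking multiplicativity / homogeneity on polynomial rings
-/

namespace Groth.Agent.Lib.Helper20.PLCorestrict

open scoped TensorProduct
open MvPolynomial Groth.Agent.Lib.Helper20.PLCoeff

universe u

section Corestrict

variable {A : Type u} [CommRing A] {M N N' : Type u} [AddCommGroup M] [Module A M]
  [AddCommGroup N] [Module A N] [AddCommGroup N'] [Module A N']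

theorem postcomp_toFun' (g : N →ₗ[A] N') (F : M →ₚₗ[A] N) (S : Type u) [CommSemiring S]
    [Algebra A S] (x : S ⊗[A] M) :
    (PolLaw.postcomp g F).toFun' S x = g.lTensor S (F.toFun' S x) := rfl

theorem precomp_toFun' {M' : Type u} [AddCommGroup M'] [Module A M'] (F : M →ₚₗ[A] N)
    (g : M' →ₗ[A] M) (S : Type u) [CommSemiring S]
    [Algebra A S] (x : S ⊗[A] M') :
    (PolLaw.precomp F g).toFun' S x = F.toFun' S (g.lTensor S x) := rfl

/-- the values of `F` lie in the image of `S ⊗ N'` when all coefficients lie in the image of `N'` -/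
theorem mem_range_lTensor (F : M →ₚₗ[A] N) (j : N' →ₗ[A] N)
    (h : ∀ (ι : Type) [Fintype ι] (m : ι → M) (β : ι →₀ ℕ), coeff F m β ∈ LinearMap.range j)
    (S : Type u) [CommSemiring S] [Algebra A S] (x : S ⊗[A] M) :
    F.toFun' S x ∈ LinearMap.range (j.lTensor S) := by
  obtain ⟨ι, _, s, m, rfl⟩ := exists_rep x
  rw [toFun'_sum_tmul F m S s (Finset.Subset.refl _)]
  refine Submodule.sum_mem _ (fun β _ => ?_)
  obtain ⟨c, hc⟩ := h ι m β
  exact ⟨(aeval s (monomial β (1 : A))) ⊗ₜ c, by simp [hc]⟩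

theorem lTensor_injective_mvPolynomial (j : N' →ₗ[A] N) (hj : Function.Injective j) (σ : Type*) :
    Function.Injective (j.lTensor (MvPolynomial σ A)) :=
  Module.Flat.lTensor_preserves_injective_linearMap j hj

/-- the family defining the corestricted law -/
noncomputable def corT (F : M →ₚₗ[A] N) (j : N' →ₗ[A] N)
    (h : ∀ (ι : Type) [Fintype ι] (m : ι → M) (β : ι →₀ ℕ), coeff F m β ∈ LinearMap.range j)
    (n : ℕ) (x : MvPolynomial (Fin n) A ⊗[A] M) : MvPolynomial (Fin n) A ⊗[A] N' :=
  (mem_range_lTensor F j h (MvPolynomial (Fin n) A) x).choose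

theorem corT_spec (F : M →ₚₗ[A] N) (j : N' →ₗ[A] N)
    (h : ∀ (ι : Type) [Fintype ι] (m : ι → M) (β : ι →₀ ℕ), coeff F m β ∈ LinearMap.range j)
    (n : ℕ) (x : MvPolynomial (Fin n) A ⊗[A] M) :
    j.lTensor (MvPolynomial (Fin n) A) (corT F j h n x) = F.toFun' (MvPolynomial (Fin n) A) x :=
  (mem_range_lTensor F j h (MvPolynomial (Fin n) A) x).choose_spec

theorem corT_compat (F : M →ₚₗ[A] N) (j : N' →ₗ[A] N) (hj : Function.Injective j)
    (h : ∀ (ι : Type) [Fintype ι] (m : ι → M) (β : ι →₀ ℕ), coeff F m β ∈ LinearMap.range j) :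
    Groth.Agent.S13174.Compat (corT F j h) := by
  intro n m φ
  funext x
  apply lTensor_injective_mvPolynomial j hj
  simp only [Function.comp_apply]
  rw [corT_spec, ← LinearMap.comp_apply, LinearMap.lTensor_comp_rTensor,
    ← LinearMap.rTensor_comp_lTensor, LinearMap.comp_apply, corT_spec,
    PolynomialLaw.isCompat_apply']

/-- corestriction of a polynomial law along an injective linear map containing all the
coefficients in its image -/
noncomputable def corestrict (F : M →ₚₗ[A] N) (j : N' →ₗ[A] N) (hj : Function.Injective j)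
    (h : ∀ (ι : Type) [Fintype ι] (m : ι → M) (β : ι →₀ ℕ), coeff F m β ∈ LinearMap.range j) :
    M →ₚₗ[A] N' :=
  Groth.Agent.S13174.lawOf (corT F j h) (corT_compat F j hj h)

theorem lTensor_corestrict (F : M →ₚₗ[A] N) (j : N' →ₗ[A] N) (hj : Function.Injective j)
    (h : ∀ (ι : Type) [Fintype ι] (m : ι → M) (β : ι →₀ ℕ), coeff F m β ∈ LinearMap.range j)
    (S : Type u) [CommSemiring S] [Algebra A S] (x : S ⊗[A] M) :
    j.lTensor S ((corestrict F j hj h).toFun' S x) = F.toFun' S x := by
  obtain ⟨n, ψ, p, rfl⟩ := PolynomialLaw.exists_lift (R := A) x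
  rw [← PolynomialLaw.isCompat_apply', ← PolynomialLaw.isCompat_apply',
    ← LinearMap.comp_apply, LinearMap.lTensor_comp_rTensor,
    ← LinearMap.rTensor_comp_lTensor, LinearMap.comp_apply]
  congr 1
  have : (corestrict F j hj h).toFun' (MvPolynomial (Fin n) A) = corT F j h n :=
    Groth.Agent.S13174.lawOf_toFun' (corT_compat F j hj h) n
  rw [this, corT_spec]

theorem postcomp_corestrict (F : M →ₚₗ[A] N) (j : N' →ₗ[A] N) (hj : Function.Injective j)
    (h : ∀ (ι : Type) [Fintype ι] (m : ι → M) (β : ι →₀ ℕ), coeff F m β ∈ LinearMap.range j) :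
    PolLaw.postcomp j (corestrict F j hj h) = F := by
  apply PolynomialLaw.ext
  funext S _ _ x
  exact lTensor_corestrict F j hj h S x

end Corestrict

section Tensor

variable {A : Type u} [CommRing A] {M : Type u} [AddCommGroup M] [Module A M]
  {B C : Type u} [CommRing B] [Algebra A B] [CommRing C] [Algebra A C]

theorem rTensor_eq_map {S S' : Type u} [CommSemiring S] [Algebra A S] [CommSemiring S']
    [Algebra A S'] (φ : S →ₐ[A] S') (z : S ⊗[A] B) :
    φ.toLinearMap.rTensor B z = Algebra.TensorProduct.map φ (AlgHom.id A B) z := by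
  induction z using TensorProduct.induction_on with
  | zero => simp
  | tmul a b => rfl
  | add a b ha hb => simp only [map_add, ha, hb]

theorem rTensor_mul {S S' : Type u} [CommSemiring S] [Algebra A S] [CommSemiring S']
    [Algebra A S'] (φ : S →ₐ[A] S') (z w : S ⊗[A] B) :
    φ.toLinearMap.rTensor B (z * w) = φ.toLinearMap.rTensor B z * φ.toLinearMap.rTensor B w := by
  rw [rTensor_eq_map, rTensor_eq_map, rTensor_eq_map, map_mul]

theorem rTensor_one {S S' : Type u} [CommSemiring S] [Algebra A S] [CommSemiring S']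
    [Algebra A S'] (φ : S →ₐ[A] S') :
    φ.toLinearMap.rTensor B (1 : S ⊗[A] B) = 1 := by
  rw [rTensor_eq_map, map_one]

theorem rTensor_smul {S S' : Type u} [CommSemiring S] [Algebra A S] [CommSemiring S']
    [Algebra A S'] (φ : S →ₐ[A] S') (a : S) (z : S ⊗[A] M) :
    φ.toLinearMap.rTensor M (a • z) = φ a • φ.toLinearMap.rTensor M z := by
  induction z using TensorProduct.induction_on with
  | zero => simp
  | tmul s m =>
    rw [TensorProduct.smul_tmul', LinearMap.rTensor_tmul, LinearMap.rTensor_tmul,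
      TensorProduct.smul_tmul']
    simp
  | add x y hx hy => rw [smul_add, map_add, hx, hy, map_add, smul_add]

theorem lTensor_smul {N N' : Type u} [AddCommGroup N] [Module A N] [AddCommGroup N']
    [Module A N'] {S : Type u} [CommSemiring S] [Algebra A S] (j : N' →ₗ[A] N) (a : S)
    (z : S ⊗[A] N') : j.lTensor S (a • z) = a • j.lTensor S z := by
  induction z using TensorProduct.induction_on with
  | zero => simp
  | tmul s m =>
    rw [TensorProduct.smul_tmul', LinearMap.lTensor_tmul, LinearMap.lTensor_tmul,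
      TensorProduct.smul_tmul']
  | add x y hx hy => rw [smul_add, map_add, hx, hy, map_add, smul_add]

/-- multiplicativity can be checked on polynomial rings -/
theorem isMult_of_poly (F : B →ₚₗ[A] C)
    (h : ∀ (ι : Type) [Fintype ι], F.toFun' (MvPolynomial ι A) 1 = 1 ∧
      ∀ x y : MvPolynomial ι A ⊗[A] B, F.toFun' (MvPolynomial ι A) (x * y) =
        F.toFun' (MvPolynomial ι A) x * F.toFun' (MvPolynomial ι A) y) :
    PolLaw.IsMult F := by
  intro S _ _
  constructor
  · have h1 := (h PEmpty).1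
    have := congrArg ((aeval (PEmpty.elim : PEmpty → S) :
      MvPolynomial PEmpty A →ₐ[A] S).toLinearMap.rTensor C) h1
    rw [PolynomialLaw.isCompat_apply', rTensor_one, rTensor_one] at this
    exact this
  · intro x y
    obtain ⟨ι₁, _, s₁, m₁, rfl⟩ := exists_rep x
    obtain ⟨ι₂, _, s₂, m₂, rfl⟩ := exists_rep y
    let ψ : MvPolynomial (ι₁ ⊕ ι₂) A →ₐ[A] S := aeval (Sum.elim s₁ s₂)
    let p : MvPolynomial (ι₁ ⊕ ι₂) A ⊗[A] B := ∑ i, X (Sum.inl i) ⊗ₜ[A] m₁ i
    let q : MvPolynomial (ι₁ ⊕ ι₂) A ⊗[A] B := ∑ i, X (Sum.inr i) ⊗ₜ[A] m₂ i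
    have hp : ψ.toLinearMap.rTensor B p = ∑ i, s₁ i ⊗ₜ[A] m₁ i := by
      simp [p, ψ, map_sum]
    have hq : ψ.toLinearMap.rTensor B q = ∑ i, s₂ i ⊗ₜ[A] m₂ i := by
      simp [q, ψ, map_sum]
    rw [← hp, ← hq, ← rTensor_mul, ← PolynomialLaw.isCompat_apply', (h _).2,
      rTensor_mul, PolynomialLaw.isCompat_apply', PolynomialLaw.isCompat_apply']

/-- homogeneity can be checked on polynomial rings -/
theorem isHomog_of_poly {N : Type u} [AddCommGroup N] [Module A N] (F : M →ₚₗ[A] N) (d : ℕ)
    (h : ∀ (ι : Type) [Fintype ι] (a : MvPolynomial ι A) (x : MvPolynomial ι A ⊗[A] M),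
      F.toFun' (MvPolynomial ι A) (a • x) = a ^ d • F.toFun' (MvPolynomial ι A) x) :
    PolLaw.IsHomog F d := by
  intro S _ _ s x
  obtain ⟨ι₁, _, s₁, m₁, rfl⟩ := exists_rep x
  let ψ : MvPolynomial (ι₁ ⊕ Unit) A →ₐ[A] S := aeval (Sum.elim s₁ (fun _ => s))
  let p : MvPolynomial (ι₁ ⊕ Unit) A ⊗[A] M := ∑ i, X (Sum.inl i) ⊗ₜ[A] m₁ i
  have hp : ψ.toLinearMap.rTensor M p = ∑ i, s₁ i ⊗ₜ[A] m₁ i := by
    simp [p, ψ, map_sum]
  have hs : ψ (X (Sum.inr ())) = s := by simp [ψ]
  rw [← hp, ← hs, ← rTensor_smul, ← PolynomialLaw.isCompat_apply', h, rTensor_smul, map_pow,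
    PolynomialLaw.isCompat_apply']

end Tensor

section Transfer

variable {A : Type u} [CommRing A] {B C C₀ : Type u} [CommRing B] [Algebra A B] [CommRing C]
  [Algebra A C] [CommRing C₀] [Algebra A C₀]

theorem isMult_of_postcomp (j : C₀ →ₐ[A] C) (hj : Function.Injective j) (F' : B →ₚₗ[A] C₀)
    (hF : PolLaw.IsMult (PolLaw.postcomp j.toLinearMap F')) : PolLaw.IsMult F' := by
  apply isMult_of_poly
  intro ι _
  have hinj := lTensor_injective_mvPolynomial j.toLinearMap hj ι
  constructor
  · apply hinj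
    have := (hF (MvPolynomial ι A)).1
    rw [postcomp_toFun'] at this
    rw [this, PolLaw.lTensor_algHom_apply, map_one]
  · intro x y
    apply hinj
    have := (hF (MvPolynomial ι A)).2 x y
    simp only [postcomp_toFun'] at this
    rw [this, PolLaw.lTensor_algHom_apply, PolLaw.lTensor_algHom_apply,
      PolLaw.lTensor_algHom_apply, map_mul]

theorem isHomog_of_postcomp {M N N' : Type u} [AddCommGroup M] [Module A M] [AddCommGroup N]
    [Module A N] [AddCommGroup N'] [Module A N'] (j : N' →ₗ[A] N) (hj : Function.Injective j)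
    (F' : M →ₚₗ[A] N') (d : ℕ)
    (hF : PolLaw.IsHomog (PolLaw.postcomp j F') d) : PolLaw.IsHomog F' d := by
  apply isHomog_of_poly
  intro ι _ a x
  apply lTensor_injective_mvPolynomial j hj ι
  have := hF (MvPolynomial ι A) a x
  simp only [postcomp_toFun'] at this
  rw [this, lTensor_smul]

theorem postcomp_comp {M N N' N'' : Type u} [AddCommGroup M] [Module A M] [AddCommGroup N]
    [Module A N] [AddCommGroup N'] [Module A N'] [AddCommGroup N''] [Module A N'']
    (g : N' →ₗ[A] N'') (f : N →ₗ[A] N') (F : M →ₚₗ[A] N) :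
    PolLaw.postcomp (g ∘ₗ f) F = PolLaw.postcomp g (PolLaw.postcomp f F) := by
  apply PolynomialLaw.ext
  funext S _ _ x
  simp only [postcomp_toFun']
  rw [LinearMap.lTensor_comp, LinearMap.comp_apply]

theorem postcomp_id {M N : Type u} [AddCommGroup M] [Module A M] [AddCommGroup N]
    [Module A N] (F : M →ₚₗ[A] N) :
    PolLaw.postcomp (LinearMap.id : N →ₗ[A] N) F = F := by
  apply PolynomialLaw.ext
  funext S _ _ x
  simp only [postcomp_toFun']
  rw [LinearMap.lTensor_id, LinearMap.id_apply]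

end Transfer

end Groth.Agent.Lib.Helper20.PLCorestrict
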