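import Mathlib
import Groth.Prelude.Def_PolLaw
import Groth.Agent.Lib.Helper20.PLCoeff

/-!
# The polarization of a polynomial law: the `(1,…,1)`-coefficient is multilinear
-/

namespace Groth.Agent.Lib.Helper20.PLPolar

open scoped TensorProduct
open MvPolynomial Groth.Agent.Lib.Helper20.PLCoeff

universe u

section LinComb

variable {A : Type u} [CommRing A] {M N : Type u} [AddCommGroup M] [Module A M]
  [AddCommGroup N] [Module A N]

/-- linear combination family: substituting `X_k ↦ a_k X_{f k}` -/
theorem sum_monomial_single_tmul {κ ι : Type} [Fintype κ] [Fintype ι] [DecidableEq ι]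
    (f : κ → ι) (a : κ → A) (m' : κ → M) :
    ∑ k, monomial (Finsupp.single (f k) 1) (a k) ⊗ₜ[A] m' k =
      gen (fun i => ∑ k ∈ Finset.univ.filter (fun k => f k = i), a k • m' k) := by
  unfold gen
  simp_rw [TensorProduct.tmul_sum]
  rw [Finset.sum_comm' (t' := Finset.univ) (s' := fun k => {f k})]
  · refine Finset.sum_congr rfl (fun k _ => ?_)
    rw [Finset.sum_singleton, TensorProduct.tmul_smul, TensorProduct.smul_tmul', MvPolynomial.X,
      MvPolynomial.smul_monomial, smul_eq_mul, mul_one]
  · intro i k
    simp [eq_comm]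

/-- coefficients of a linear combination family -/
theorem coeff_linComb (F : M →ₚₗ[A] N) {κ ι : Type} [Fintype κ] [Fintype ι] [DecidableEq ι]
    (f : κ → ι) (a : κ → A) (m' : κ → M) {t : Finset (κ →₀ ℕ)} (ht : csupp F m' ⊆ t)
    (β' : ι →₀ ℕ) [DecidableEq (ι →₀ ℕ)] :
    coeff F (fun i => ∑ k ∈ Finset.univ.filter (fun k => f k = i), a k • m' k) β' =
      ∑ β ∈ t, if (∑ k, β k • Finsupp.single (f k) 1) = β' then
        (∏ k, a k ^ β k) • coeff F m' β else 0 := by
  unfold PLCoeff.coeff
  rw [← sum_monomial_single_tmul]
  exact ext1_toFun'_monomial_sum F m' _ a ht β'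

end LinComb

section Pol

variable {A : Type u} [CommRing A] {M N : Type u} [AddCommGroup M] [Module A M]
  [AddCommGroup N] [Module A N]

/-- the exponent `(1,…,1)` -/
noncomputable def ones (d : ℕ) : Fin d →₀ ℕ := Finsupp.equivFunOnFinite.symm (fun _ => 1)

@[simp] theorem ones_apply {d : ℕ} (i : Fin d) : ones d i = 1 := rfl

/-- the `(1,…,1)`-coefficient of a law at a family of `d` elements -/
noncomputable def pol0 (F : M →ₚₗ[A] N) {d : ℕ} (b : Fin d → M) : N := coeff F b (ones d)

/-- the exponent map attached to a map of index sets -/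
noncomputable def Lf {κ ι : Type} [Fintype κ] (f : κ → ι) (β : κ →₀ ℕ) : ι →₀ ℕ :=
  ∑ k, β k • Finsupp.single (f k) 1

theorem Lf_apply {κ ι : Type} [Fintype κ] [DecidableEq ι] (f : κ → ι) (β : κ →₀ ℕ) (i : ι) :
    Lf f β i = ∑ k ∈ Finset.univ.filter (fun k => f k = i), β k := by
  unfold Lf
  rw [Finsupp.finset_sum_apply, Finset.sum_filter]
  refine Finset.sum_congr rfl (fun k _ => ?_)
  rw [Finsupp.smul_apply, Finsupp.single_apply]
  split_ifs <;> simp

theorem sum_filter_option {d : ℕ} {G : Type*} [AddCommMonoid G] (i i' : Fin d)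
    (g : Option (Fin d) → G) :
    ∑ k ∈ Finset.univ.filter (fun k : Option (Fin d) => k.elim i id = i'), g k =
      g (some i') + if i = i' then g none else 0 := by
  rw [Finset.sum_filter, Fintype.sum_option, add_comm]
  congr 1
  rw [Finset.sum_eq_single i']
  · simp
  · intro j _ hj
    simp [hj]
  · intro h
    exact absurd (Finset.mem_univ _) h

theorem pol0_update_add (F : M →ₚₗ[A] N) {d : ℕ} (b : Fin d → M) (i : Fin d) (x y : M) :
    pol0 F (Function.update b i (x + y)) =
      pol0 F (Function.update b i x) + pol0 F (Function.update b i y) := by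
  classical
  let f : Option (Fin d) → Fin d := fun k => k.elim i id
  let m' : Option (Fin d) → M := fun k => k.elim y (Function.update b i x)
  let a₁ : Option (Fin d) → A := fun _ => 1
  let a₂ : Option (Fin d) → A := fun k => k.elim 0 (fun _ => 1)
  let a₃ : Option (Fin d) → A := fun k => k.elim 1 (fun j => if j = i then 0 else 1)
  have h₁ : (fun i' => ∑ k ∈ Finset.univ.filter (fun k => f k = i'), a₁ k • m' k) =
      Function.update b i (x + y) := by
    funext i'
    rw [sum_filter_option]
    by_cases h : i' = i
    · subst h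
      simp [a₁, m']
    · simp [a₁, m', h, Ne.symm h]
  have h₂ : (fun i' => ∑ k ∈ Finset.univ.filter (fun k => f k = i'), a₂ k • m' k) =
      Function.update b i x := by
    funext i'
    rw [sum_filter_option]
    simp [a₂, m']
  have h₃ : (fun i' => ∑ k ∈ Finset.univ.filter (fun k => f k = i'), a₃ k • m' k) =
      Function.update b i y := by
    funext i'
    rw [sum_filter_option]
    by_cases h : i' = i
    · subst h
      simp [a₃, m']
    · simp [a₃, m', h, Ne.symm h]
  unfold pol0
  rw [← h₁, ← h₂, ← h₃, coeff_linComb F f a₁ m' (Finset.Subset.refl _),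
    coeff_linComb F f a₂ m' (Finset.Subset.refl _), coeff_linComb F f a₃ m' (Finset.Subset.refl _),
    ← Finset.sum_add_distrib]
  refine Finset.sum_congr rfl (fun β _ => ?_)
  by_cases hβ : (∑ k, β k • Finsupp.single (f k) 1) = ones d
  · rw [if_pos hβ, if_pos hβ, if_pos hβ, ← add_smul]
    congr 1
    have hi : β none + β (some i) = 1 := by
      have := DFunLike.congr_fun hβ i
      change Lf f β i = _ at this
      rw [Lf_apply, sum_filter_option, ones_apply, if_pos rfl] at this
      omega
    rw [Fintype.prod_option, Fintype.prod_option, Fintype.prod_option]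
    have e₃ : ∏ j, a₃ (some j) ^ β (some j) = (0 : A) ^ β (some i) := by
      rw [Finset.prod_eq_single i]
      · simp [a₃]
      · intro j _ hj
        simp [a₃, hj]
      · intro h
        exact absurd (Finset.mem_univ i) h
    rw [e₃]
    simp only [a₁, a₂, a₃, Option.elim_none, Option.elim_some, one_pow, Finset.prod_const_one,
      mul_one, one_mul]
    rcases Nat.eq_zero_or_pos (β none) with h0 | h0
    · have : β (some i) = 1 := by omega
      rw [h0, this]
      simp
    · have h1 : β none = 1 := by omega
      have : β (some i) = 0 := by omega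
      rw [h1, this]
      simp
  · rw [if_neg hβ, if_neg hβ, if_neg hβ, add_zero]

end Pol

section Pol2

variable {A : Type u} [CommRing A] {M N : Type u} [AddCommGroup M] [Module A M]
  [AddCommGroup N] [Module A N]

theorem Lf_id {ι : Type} [Fintype ι] (β : ι →₀ ℕ) : Lf (id : ι → ι) β = β := by
  classical
  ext i
  rw [Lf_apply]
  simp only [id_eq]
  rw [Finset.sum_eq_single i]
  · intro j hj hji
    rw [Finset.mem_filter] at hj
    exact absurd hj.2 hji
  · intro h
    simp at h

theorem pol0_update_smul (F : M →ₚₗ[A] N) {d : ℕ} (b : Fin d → M) (i : Fin d) (r : A) (x : M) :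
    pol0 F (Function.update b i (r • x)) = r • pol0 F (Function.update b i x) := by
  classical
  let m' : Fin d → M := Function.update b i x
  let a : Fin d → A := fun j => if j = i then r else 1
  have h₁ : (fun i' => ∑ k ∈ Finset.univ.filter (fun k => id k = i'), a k • m' k) =
      Function.update b i (r • x) := by
    funext i'
    simp only [id_eq]
    rw [Finset.sum_eq_single i']
    · by_cases h : i' = i
      · subst h
        simp [a, m']
      · simp [a, m', h]
    · intro j hj hji
      rw [Finset.mem_filter] at hj
      exact absurd hj.2 hji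
    · intro h
      simp at h
  unfold pol0
  rw [← h₁, coeff_linComb F id a m' (Finset.Subset.refl _)]
  have hL : ∀ β : Fin d →₀ ℕ, (∑ k, β k • Finsupp.single (id k) 1) = β := fun β => Lf_id β
  simp_rw [hL]
  rw [Finset.sum_ite_eq' (csupp F m') (ones d)]
  split_ifs with h
  · congr 1
    simp only [ones_apply, pow_one, a]
    rw [Finset.prod_ite_eq' Finset.univ i (fun _ => r), if_pos (Finset.mem_univ _)]
  · rw [show PLCoeff.coeff F m' (ones d) = 0 from coeff_eq_zero_of_notMem h, smul_zero]

/-- the polarization of a law, as a multilinear map -/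
noncomputable def pol (F : M →ₚₗ[A] N) (d : ℕ) : MultilinearMap A (fun _ : Fin d => M) N where
  toFun := pol0 F
  map_update_add' := by
    intro _ b i x y
    convert pol0_update_add F b i x y
  map_update_smul' := by
    intro _ b i r x
    convert pol0_update_smul F b i r x

theorem pol_apply (F : M →ₚₗ[A] N) (d : ℕ) (b : Fin d → M) :
    pol F d b = PLCoeff.coeff F b (ones d) := rfl

/-- the polarization of a law, as a linear map on the tensor power -/
noncomputable def polLin (F : M →ₚₗ[A] N) (d : ℕ) : (⨂[A] _ : Fin d, M) →ₗ[A] N :=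
  PiTensorProduct.lift (pol F d)

theorem polLin_tprod (F : M →ₚₗ[A] N) (d : ℕ) (b : Fin d → M) :
    polLin F d (PiTensorProduct.tprod A b) = PLCoeff.coeff F b (ones d) := by
  unfold polLin
  rw [PiTensorProduct.lift.tprod]
  rfl

end Pol2

end Groth.Agent.Lib.Helper20.PLPolar
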