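import Mathlib
import Groth.Prelude.Def_PolLaw
import Groth.Agent.Lib.Helper20.PLCoeff
import Groth.Agent.Lib.Helper20.PLPolar

/-!
# Types of maps, permutations, and the coefficients of a tensor-power-like law
-/

namespace Groth.Agent.Lib.Helper20.PLPolar

open scoped TensorProduct
open MvPolynomial Groth.Agent.Lib.Helper20.PLCoeff

universe u

section Typ

variable {ι : Type} {d : ℕ}

/-- the type (multiset of values, as an exponent) of a map `c : Fin d → ι` -/
noncomputable def typ (c : Fin d → ι) : ι →₀ ℕ := ∑ i, Finsupp.single (c i) 1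

theorem typ_apply [DecidableEq ι] (c : Fin d → ι) (j : ι) :
    typ c j = (Finset.univ.filter (fun i => c i = j)).card := by
  unfold typ
  rw [Finsupp.finset_sum_apply, Finset.card_filter]
  refine Finset.sum_congr rfl (fun i _ => ?_)
  rw [Finsupp.single_apply]

theorem prod_X_comp {A : Type*} [CommSemiring A] (c : Fin d → ι) :
    ∏ i, (X (c i) : MvPolynomial ι A) = monomial (typ c) 1 := by
  unfold typ
  rw [MvPolynomial.monomial_sum_one]
  rfl

theorem typ_perm (σ : Equiv.Perm (Fin d)) : typ (⇑σ) = ones d := by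
  classical
  ext j
  rw [typ_apply, ones_apply]
  have : Finset.univ.filter (fun i => σ i = j) = {σ.symm j} := by
    ext i
    simp [Equiv.eq_symm_apply]
  rw [this, Finset.card_singleton]

theorem bijective_of_typ_eq_ones (c : Fin d → Fin d) (h : typ c = ones d) :
    Function.Bijective c := by
  classical
  rw [← Finite.surjective_iff_bijective]
  intro j
  have := DFunLike.congr_fun h j
  rw [typ_apply, ones_apply] at this
  have hne : (Finset.univ.filter (fun i => c i = j)).Nonempty := by
    rw [← Finset.card_pos, this]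
    exact Nat.one_pos
  obtain ⟨i, hi⟩ := hne
  exact ⟨i, (Finset.mem_filter.mp hi).2⟩

theorem sum_typ_eq_ones {G : Type*} [AddCommMonoid G] (g : (Fin d → Fin d) → G)
    [DecidableEq (Fin d →₀ ℕ)] :
    (∑ c : Fin d → Fin d, if typ c = ones d then g c else 0) =
      ∑ σ : Equiv.Perm (Fin d), g ⇑σ := by
  classical
  rw [← Finset.sum_filter]
  symm
  refine Finset.sum_bij (fun σ _ => ⇑σ) ?_ ?_ ?_ ?_
  · intro σ _
    rw [Finset.mem_filter]
    exact ⟨Finset.mem_univ _, typ_perm σ⟩
  · intro σ _ τ _ h
    exact DFunLike.coe_injective h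
  · intro c hc
    rw [Finset.mem_filter] at hc
    exact ⟨Equiv.ofBijective c (bijective_of_typ_eq_ones c hc.2), Finset.mem_univ _, rfl⟩
  · intro σ _
    rfl

/-- the coefficient of `X_1 ⋯ X_d` in `(X_1 + ⋯ + X_d)^d` is `d!` -/
theorem coeff_ones_sum_pow (A : Type*) [CommSemiring A] :
    MvPolynomial.coeff (ones d) ((∑ i : Fin d, (X i : MvPolynomial (Fin d) A)) ^ d) =
      (d.factorial : A) := by
  classical
  have h : (∑ i : Fin d, (X i : MvPolynomial (Fin d) A)) ^ d =
      ∑ c : Fin d → Fin d, monomial (typ c) 1 := by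
    have : (∑ i : Fin d, (X i : MvPolynomial (Fin d) A)) ^ d =
        ∏ _k : Fin d, ∑ i : Fin d, (X i : MvPolynomial (Fin d) A) := by
      rw [Finset.prod_const, Finset.card_univ, Fintype.card_fin]
    rw [this, Finset.prod_univ_sum]
    simp only [Fintype.piFinset_univ]
    refine Finset.sum_congr rfl (fun c _ => ?_)
    exact prod_X_comp c
  rw [h, MvPolynomial.coeff_sum]
  simp only [MvPolynomial.coeff_monomial]
  rw [sum_typ_eq_ones (fun _ => (1 : A))]
  simp [Fintype.card_perm]

end Typ

end Groth.Agent.Lib.Helper20.PLPolar
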