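import Mathlib
import Groth.Prelude.Def_PolLaw
import Groth.Agent.Lib.Helper20.PLCoeff
import Groth.Agent.Lib.Helper20.PLCorestrict

/-!
# The universal degree-`d` multiplicative law is spanned by its coefficients
-/

namespace Groth.Agent.Lib.Helper20.PLSpan

open scoped TensorProduct
open MvPolynomial Groth.Agent.Lib.Helper20.PLCoeff Groth.Agent.Lib.Helper20.PLCorestrict

universe u

section General

variable {A : Type u} [CommRing A] {M N : Type u} [AddCommGroup M] [Module A M]
  [AddCommGroup N] [Module A N]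

/-- the set of all coefficients of a law -/
def coeffSet (F : M →ₚₗ[A] N) : Set N :=
  {c | ∃ (ι : Type) (_ : Fintype ι) (m : ι → M) (β : ι →₀ ℕ), c = coeff F m β}

/-- the span of all coefficients of a law -/
def coeffSpan (F : M →ₚₗ[A] N) : Submodule A N := Submodule.span A (coeffSet F)

theorem coeff_mem_coeffSpan (F : M →ₚₗ[A] N) {ι : Type} [Fintype ι] (m : ι → M) (β : ι →₀ ℕ) :
    coeff F m β ∈ coeffSpan F :=
  Submodule.subset_span ⟨ι, inferInstance, m, β, rfl⟩

theorem ext1_toFun'_mem (F : M →ₚₗ[A] N) {ι : Type} (w : MvPolynomial ι A ⊗[A] M)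
    (β : ι →₀ ℕ) : ext1 β (F.toFun' _ w) ∈ coeffSpan F := by
  have h := mem_range_lTensor F (coeffSpan F).subtype
    (fun κ _ m β => by
      rw [Submodule.range_subtype]
      exact coeff_mem_coeffSpan F m β) (MvPolynomial ι A) w
  obtain ⟨z, hz⟩ := h
  rw [← hz, ext1_lTensor]
  exact (ext1 β z).2

end General

section Mul

variable {A : Type u} [CommRing A] {B C : Type u} [CommRing B] [Algebra A B] [CommRing C]
  [Algebra A C]

theorem mapDomain_inl_add_inr_inj {ι₁ ι₂ : Type} (α₁ β₁ : ι₁ →₀ ℕ) (α₂ β₂ : ι₂ →₀ ℕ)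
    (h : Finsupp.mapDomain (Sum.inl : ι₁ → ι₁ ⊕ ι₂) α₁ + Finsupp.mapDomain Sum.inr α₂ =
      Finsupp.mapDomain Sum.inl β₁ + Finsupp.mapDomain Sum.inr β₂) : α₁ = β₁ ∧ α₂ = β₂ := by
  constructor
  · ext i
    have := DFunLike.congr_fun h (Sum.inl i)
    simp only [Finsupp.add_apply] at this
    rw [Finsupp.mapDomain_apply Sum.inl_injective, Finsupp.mapDomain_apply Sum.inl_injective,
      Finsupp.mapDomain_notin_range _ _ (by simp), Finsupp.mapDomain_notin_range _ _ (by simp)]
      at this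
    simpa using this
  · ext i
    have := DFunLike.congr_fun h (Sum.inr i)
    simp only [Finsupp.add_apply] at this
    rw [Finsupp.mapDomain_apply Sum.inr_injective, Finsupp.mapDomain_apply Sum.inr_injective,
      Finsupp.mapDomain_notin_range _ _ (by simp), Finsupp.mapDomain_notin_range _ _ (by simp)]
      at this
    simpa using this

theorem rTensor_rename_eq_sum {ι κ : Type} (f : ι → κ) (z : MvPolynomial ι A ⊗[A] C)
    {t : Finset (ι →₀ ℕ)} (h : supp z ⊆ t) :
    (rename f : MvPolynomial ι A →ₐ[A] MvPolynomial κ A).toLinearMap.rTensor C z =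
      ∑ β ∈ t, monomial (Finsupp.mapDomain f β) (1 : A) ⊗ₜ[A] ext1 β z := by
  rw [rTensor_eq_sum _ z h]
  refine Finset.sum_congr rfl (fun β _ => ?_)
  rw [rename_monomial]

/-- coefficient of a product of two tensors in disjoint sets of variables -/
theorem ext1_mul_rename {ι₁ ι₂ : Type} (z₁ : MvPolynomial ι₁ A ⊗[A] C)
    (z₂ : MvPolynomial ι₂ A ⊗[A] C) (β₁ : ι₁ →₀ ℕ) (β₂ : ι₂ →₀ ℕ) :
    ext1 (Finsupp.mapDomain Sum.inl β₁ + Finsupp.mapDomain Sum.inr β₂)
      ((rename Sum.inl : MvPolynomial ι₁ A →ₐ[A] MvPolynomial (ι₁ ⊕ ι₂) A).toLinearMap.rTensor C z₁ *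
        (rename Sum.inr : MvPolynomial ι₂ A →ₐ[A] MvPolynomial (ι₁ ⊕ ι₂) A).toLinearMap.rTensor C z₂) =
      ext1 β₁ z₁ * ext1 β₂ z₂ := by
  classical
  have h₁ : supp z₁ ⊆ insert β₁ (supp z₁) := Finset.subset_insert _ _
  have h₂ : supp z₂ ⊆ insert β₂ (supp z₂) := Finset.subset_insert _ _
  rw [rTensor_rename_eq_sum _ z₁ h₁, rTensor_rename_eq_sum _ z₂ h₂, Finset.sum_mul_sum, map_sum]
  simp only [map_sum, Algebra.TensorProduct.tmul_mul_tmul, monomial_mul, one_mul, ext1_tmul,
    coeff_monomial]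
  rw [Finset.sum_eq_single β₁]
  · rw [Finset.sum_eq_single β₂]
    · simp
    · intro α₂ _ hα₂
      rw [if_neg, zero_smul]
      intro h
      exact hα₂ (mapDomain_inl_add_inr_inj _ _ _ _ h).2
    · intro h
      exact absurd (Finset.mem_insert_self _ _) h
  · intro α₁ _ hα₁
    refine Finset.sum_eq_zero (fun α₂ _ => ?_)
    rw [if_neg, zero_smul]
    intro h
    exact hα₁ (mapDomain_inl_add_inr_inj _ _ _ _ h).1
  · intro h
    exact absurd (Finset.mem_insert_self _ _) h

variable {d : ℕ} (γ : PolLaw.MulLaw A B C d)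

theorem one_mem_coeffSpan : (1 : C) ∈ coeffSpan γ.law := by
  have h : (1 : C) = ext1 (Finsupp.single () d)
      (γ.law.toFun' (MvPolynomial Unit A) ((X () : MvPolynomial Unit A) • (1 : _ ⊗[A] B))) := by
    rw [γ.homog, (γ.mult _).1, Algebra.TensorProduct.one_def, TensorProduct.smul_tmul',
      ext1_tmul, smul_eq_mul, mul_one, MvPolynomial.coeff_X_pow, if_pos rfl, one_smul]
  rw [h]
  exact ext1_toFun'_mem _ _ _

theorem mul_mem_coeffSpan (x y : C) (hx : x ∈ coeffSpan γ.law) (hy : y ∈ coeffSpan γ.law) :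
    x * y ∈ coeffSpan γ.law := by
  have key : ∀ x ∈ coeffSet γ.law, ∀ y ∈ coeffSet γ.law, x * y ∈ coeffSpan γ.law := by
    rintro x ⟨ι₁, _, m₁, β₁, rfl⟩ y ⟨ι₂, _, m₂, β₂, rfl⟩
    unfold PLCoeff.coeff
    rw [← ext1_mul_rename, PolynomialLaw.isCompat_apply', PolynomialLaw.isCompat_apply',
      ← (γ.mult _).2]
    exact ext1_toFun'_mem _ _ _
  have : coeffSpan γ.law * coeffSpan γ.law ≤ coeffSpan γ.law := by
    unfold coeffSpan
    rw [Submodule.span_mul_span, Submodule.span_le]
    rintro _ ⟨a, ha, b, hb, rfl⟩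
    exact key a ha b hb
  exact this (Submodule.mul_mem_mul hx hy)

/-- the subalgebra spanned by the coefficients -/
noncomputable def coeffAlg : Subalgebra A C :=
  (coeffSpan γ.law).toSubalgebra (one_mem_coeffSpan γ) (mul_mem_coeffSpan γ)

theorem coeff_mem_range_val {ι : Type} [Fintype ι] (m : ι → B) (β : ι →₀ ℕ) :
    coeff γ.law m β ∈ LinearMap.range (coeffAlg γ).val.toLinearMap := by
  refine ⟨⟨coeff γ.law m β, ?_⟩, rfl⟩
  exact coeff_mem_coeffSpan γ.law m β

/-- the corestriction of `γ` to the subalgebra spanned by its coefficients -/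
noncomputable def corLaw : PolLaw.MulLaw A B (coeffAlg γ) d where
  law := corestrict γ.law (coeffAlg γ).val.toLinearMap Subtype.val_injective
    (fun _ _ m β => coeff_mem_range_val γ m β)
  homog := by
    apply isHomog_of_postcomp (coeffAlg γ).val.toLinearMap Subtype.val_injective
    rw [postcomp_corestrict]
    exact γ.homog
  mult := by
    apply isMult_of_postcomp (coeffAlg γ).val Subtype.val_injective
    rw [postcomp_corestrict]
    exact γ.mult

theorem postcomp_corLaw :
    PolLaw.postcomp (coeffAlg γ).val.toLinearMap (corLaw γ).law = γ.law :=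
  postcomp_corestrict γ.law (coeffAlg γ).val.toLinearMap Subtype.val_injective
    (fun _ _ m β => coeff_mem_range_val γ m β)

/-- **The universal algebra `Γ^d_A(B)` is spanned by the coefficients of its universal law.** -/
theorem coeffSpan_eq_top (hγ : PolLaw.IsGammaD γ) : coeffSpan γ.law = ⊤ := by
  obtain ⟨f, hf, -⟩ := hγ (coeffAlg γ) (corLaw γ)
  obtain ⟨g, -, hg⟩ := hγ C γ
  have h1 : (coeffAlg γ).val.comp f = g := by
    apply hg
    change PolLaw.postcomp ((coeffAlg γ).val.toLinearMap ∘ₗ f.toLinearMap) γ.law = γ.law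
    rw [postcomp_comp, hf, postcomp_corLaw]
  have h2 : AlgHom.id A C = g := by
    apply hg
    exact postcomp_id γ.law
  rw [eq_top_iff]
  intro c _
  have : c = (coeffAlg γ).val (f c) := by
    rw [← AlgHom.comp_apply, h1, ← h2]
    rfl
  rw [this]
  exact (f c).2

end Mul

end Groth.Agent.Lib.Helper20.PLSpan
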