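import Mathlib
import Groth.Prelude.Def_PolLaw
import Groth.Agent.Lib.Helper20.PLCoeff
import Groth.Agent.Lib.Helper20.PLPolar
import Groth.Agent.Lib.Helper20.PLPolar2
import Groth.Agent.Lib.Helper20.PLSpan

/-!
# The polarization formula for homogeneous polynomial laws
-/

namespace Groth.Agent.Lib.Helper20.PLPolar

open scoped TensorProduct
open MvPolynomial Groth.Agent.Lib.Helper20.PLCoeff

universe u

section TensorPowerLike

variable {A : Type u} [CommRing A] {M N : Type u} [AddCommGroup M] [Module A M]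
  [AddCommGroup N] [Module A N]

/-- coefficients of a law of "tensor power type" -/
theorem coeff_of_tensorPowerLike (G : M →ₚₗ[A] N) (d : ℕ) (e : (Fin d → M) → N)
    (h : ∀ (S : Type u) [CommSemiring S] [Algebra A S] (n : ℕ) (s : Fin n → S) (b : Fin n → M),
      G.toFun' S (∑ j, s j ⊗ₜ[A] b j) =
        ∑ c : Fin d → Fin n, (∏ i, s (c i)) ⊗ₜ[A] e (fun i => b (c i)))
    {n : ℕ} (b : Fin n → M) (β : Fin n →₀ ℕ) [DecidableEq (Fin n →₀ ℕ)] :
    PLCoeff.coeff G b β = ∑ c : Fin d → Fin n, if typ c = β then e (fun i => b (c i)) else 0 := by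
  classical
  unfold PLCoeff.coeff gen
  rw [h, map_sum]
  refine Finset.sum_congr rfl (fun c _ => ?_)
  rw [prod_X_comp, ext1_tmul, coeff_monomial]
  by_cases hc : typ c = β
  · rw [if_pos hc, if_pos hc, one_smul]
  · rw [if_neg hc, if_neg hc, zero_smul]

/-- the polarization of a law of tensor power type is the symmetrization -/
theorem polLin_of_tensorPowerLike {N' : Type u} [AddCommGroup N'] [Module A N']
    (F : M →ₚₗ[A] N) (g : N →ₗ[A] N') (d : ℕ) (e : (Fin d → M) → N')
    (h : ∀ (S : Type u) [CommSemiring S] [Algebra A S] (n : ℕ) (s : Fin n → S) (b : Fin n → M),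
      g.lTensor S (F.toFun' S (∑ j, s j ⊗ₜ[A] b j)) =
        ∑ c : Fin d → Fin n, (∏ i, s (c i)) ⊗ₜ[A] e (fun i => b (c i)))
    (b : Fin d → M) :
    g (polLin F d (PiTensorProduct.tprod A b)) =
      ∑ σ : Equiv.Perm (Fin d), e (fun i => b (σ i)) := by
  classical
  rw [polLin_tprod, ← coeff_postcomp,
    coeff_of_tensorPowerLike (PolLaw.postcomp g F) d e h b (ones d)]
  exact sum_typ_eq_ones (fun c => e (fun i => b (c i)))

end TensorPowerLike

section PolyLemma

variable {A : Type u} [CommRing A]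

theorem coeff_mul_rename {ι₁ ι₂ : Type} (p₁ : MvPolynomial ι₁ A) (p₂ : MvPolynomial ι₂ A)
    (β₁ : ι₁ →₀ ℕ) (β₂ : ι₂ →₀ ℕ) :
    MvPolynomial.coeff (Finsupp.mapDomain Sum.inl β₁ + Finsupp.mapDomain Sum.inr β₂)
      (rename Sum.inl p₁ * rename Sum.inr p₂) =
      MvPolynomial.coeff β₁ p₁ * MvPolynomial.coeff β₂ p₂ := by
  have := PLSpan.ext1_mul_rename (C := A) (p₁ ⊗ₜ[A] (1 : A)) (p₂ ⊗ₜ[A] (1 : A)) β₁ β₂
  simpa using this

end PolyLemma

section Nuc

variable {d : ℕ} {ι : Type} [Fintype ι]

/-- the exponent on pairs attached to a function -/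
noncomputable def nuc (c : Fin d → ι) : (Fin d × ι) →₀ ℕ := ∑ i, Finsupp.single (i, c i) 1

theorem nuc_apply [DecidableEq ι] (c : Fin d → ι) (i : Fin d) (j : ι) :
    nuc c (i, j) = if c i = j then 1 else 0 := by
  unfold nuc
  rw [Finsupp.finset_sum_apply, Finset.sum_eq_single i]
  · rw [Finsupp.single_apply]
    by_cases h : c i = j
    · rw [if_pos h, if_pos (by rw [h])]
    · rw [if_neg h, if_neg (by simpa using h)]
  · intro i' _ hi'
    rw [Finsupp.single_apply, if_neg]
    intro h
    exact hi' (congrArg Prod.fst h)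
  · intro h
    exact absurd (Finset.mem_univ _) h

theorem sum_nuc_smul {G : Type*} [AddCommMonoid G] (c : Fin d → ι) (g : Fin d × ι → G) :
    ∑ k, nuc c k • g k = ∑ i, g (i, c i) := by
  classical
  rw [Fintype.sum_prod_type]
  refine Finset.sum_congr rfl (fun i _ => ?_)
  rw [Finset.sum_eq_single (c i)]
  · rw [nuc_apply, if_pos rfl, one_smul]
  · intro j _ hj
    rw [nuc_apply, if_neg (Ne.symm hj), zero_smul]
  · intro h
    exact absurd (Finset.mem_univ _) h

theorem nuc_injective : Function.Injective (nuc : (Fin d → ι) → _) := by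
  classical
  intro c c' h
  funext i
  have := DFunLike.congr_fun h (i, c i)
  rw [nuc_apply, nuc_apply, if_pos rfl] at this
  by_contra hne
  rw [if_neg (Ne.symm hne)] at this
  exact one_ne_zero this

theorem ones_eq_sum : ones d = ∑ i, Finsupp.single i 1 := by
  classical
  ext j
  rw [Finsupp.finset_sum_apply, ones_apply]
  simp [Finsupp.single_apply]

theorem Lf_fst_nuc (c : Fin d → ι) : Lf Prod.fst (nuc c) = ones d := by
  unfold Lf
  rw [sum_nuc_smul c (fun k => Finsupp.single k.1 1), ones_eq_sum]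

/-- compatibility of an exponent on pairs with a function -/
def Compat (ν : (Fin d × ι) →₀ ℕ) (c : Fin d → ι) : Prop := ∀ k, ν k ≠ 0 → k.2 = c k.1

theorem eq_nuc_of_compat (ν : (Fin d × ι) →₀ ℕ) (c : Fin d → ι) (h1 : Lf Prod.fst ν = ones d)
    (h2 : Compat ν c) : ν = nuc c := by
  classical
  ext ⟨i, j⟩
  rw [nuc_apply]
  by_cases hj : c i = j
  · rw [if_pos hj]
    have := DFunLike.congr_fun h1 i
    rw [Lf_apply, ones_apply, Finset.sum_eq_single (i, j)] at this
    · exact this
    · rintro ⟨i', j'⟩ hk hne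
      rw [Finset.mem_filter] at hk
      by_contra h0
      have := h2 (i', j') h0
      simp only at this hk
      apply hne
      rw [Prod.mk.injEq]
      exact ⟨hk.2, by rw [this, hk.2, hj]⟩
    · intro h
      simp at h
  · rw [if_neg hj]
    by_contra h0
    exact hj (h2 (i, j) h0).symm

theorem compat_nuc (c : Fin d → ι) : Compat (nuc c) c := by
  classical
  rintro ⟨i, j⟩ h
  rw [nuc_apply] at h
  by_contra hne
  exact h (if_neg (fun e => hne e.symm))

theorem exists_compat_of_rows (ν : (Fin d × ι) →₀ ℕ) (h1 : Lf Prod.fst ν = ones d) :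
    ∃ c : Fin d → ι, Compat ν c := by
  classical
  have hrow : ∀ i, ∑ k ∈ Finset.univ.filter (fun k : Fin d × ι => k.1 = i), ν k = 1 := by
    intro i
    have := DFunLike.congr_fun h1 i
    rwa [Lf_apply, ones_apply] at this
  have hex : ∀ i, ∃ j, ν (i, j) ≠ 0 := by
    intro i
    by_contra hcon
    push_neg at hcon
    have : ∑ k ∈ Finset.univ.filter (fun k : Fin d × ι => k.1 = i), ν k = 0 := by
      apply Finset.sum_eq_zero
      rintro ⟨i', j'⟩ hk
      rw [Finset.mem_filter] at hk
      simp only at hk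
      rw [hk.2]
      exact hcon j'
    rw [hrow i] at this
    exact one_ne_zero this
  choose c hc using hex
  refine ⟨c, ?_⟩
  rintro ⟨i, j⟩ h0
  by_contra hne
  simp only at hne
  have hsub : ({(i, j), (i, c i)} : Finset (Fin d × ι)) ⊆
      Finset.univ.filter (fun k : Fin d × ι => k.1 = i) := by
    intro k hk
    rw [Finset.mem_insert, Finset.mem_singleton] at hk
    rw [Finset.mem_filter]
    rcases hk with rfl | rfl <;> simp
  have hle := Finset.sum_le_sum_of_subset (f := fun k => ν k) hsub
  rw [hrow i, Finset.sum_pair (by simpa using hne)] at hle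
  have := hc i
  omega

end Nuc

section Formula

variable {A : Type u} [CommRing A] {M N : Type u} [AddCommGroup M] [Module A M]
  [AddCommGroup N] [Module A N] {d : ℕ} {ι : Type} [Fintype ι]

theorem rTensor_rename_eq_sum' {ι κ : Type} (f : ι → κ) (z : MvPolynomial ι A ⊗[A] N)
    {t : Finset (ι →₀ ℕ)} (h : supp z ⊆ t) :
    (rename f : MvPolynomial ι A →ₐ[A] MvPolynomial κ A).toLinearMap.rTensor N z =
      ∑ β ∈ t, monomial (Finsupp.mapDomain f β) (1 : A) ⊗ₜ[A] ext1 β z := by
  rw [rTensor_eq_sum _ z h]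
  refine Finset.sum_congr rfl (fun β _ => ?_)
  rw [rename_monomial]

/-- the exponents of the monomials `u_i t_j` -/
noncomputable def muP (k : Fin d × ι) : (Fin d ⊕ ι) →₀ ℕ :=
  Finsupp.single (Sum.inl k.1) 1 + Finsupp.single (Sum.inr k.2) 1

theorem sum_nuc_muP (c : Fin d → ι) :
    ∑ k, nuc c k • muP k =
      Finsupp.mapDomain Sum.inl (ones d) + Finsupp.mapDomain Sum.inr (typ c) := by
  rw [sum_nuc_smul c muP]
  unfold muP typ
  rw [Finset.sum_add_distrib, ones_eq_sum, Finsupp.mapDomain_finset_sum,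
    Finsupp.mapDomain_finset_sum]
  simp only [Finsupp.mapDomain_single]

theorem Lf_fst_of_sum_muP (ν : (Fin d × ι) →₀ ℕ) (α : ι →₀ ℕ)
    (h : ∑ k, ν k • muP k =
      Finsupp.mapDomain Sum.inl (ones d) + Finsupp.mapDomain Sum.inr α) :
    Lf Prod.fst ν = ones d := by
  classical
  ext i
  have := DFunLike.congr_fun h (Sum.inl i)
  rw [Finsupp.add_apply, Finsupp.mapDomain_apply Sum.inl_injective,
    Finsupp.mapDomain_notin_range _ _ (by simp), add_zero, Finsupp.finset_sum_apply] at this
  rw [← this, Lf_apply, Finset.sum_filter]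
  refine Finset.sum_congr rfl (fun k _ => ?_)
  unfold muP
  rw [Finsupp.smul_apply, Finsupp.add_apply, Finsupp.single_apply, Finsupp.single_apply]
  by_cases hk : k.1 = i
  · simp [hk]
  · simp [hk]

/-- the combinatorial heart: for each exponent `ν` on pairs there is at most one compatible
function, and it has type `α` iff `ν` has the right image. -/
theorem sum_indicator (ν : (Fin d × ι) →₀ ℕ) (α : ι →₀ ℕ) [DecidableEq (ι →₀ ℕ)]
    [DecidableEq ((Fin d ⊕ ι) →₀ ℕ)] [DecidableEq (Fin d →₀ ℕ)] [DecidableEq ι] :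
    (∑ c : Fin d → ι, if typ c = α then
        (if Lf Prod.fst ν = ones d then
          ∏ k : Fin d × ι, (if k.2 = c k.1 then (1 : A) else 0) ^ ν k else 0) else 0) =
      if ∑ k, ν k • muP k =
        Finsupp.mapDomain Sum.inl (ones d) + Finsupp.mapDomain Sum.inr α then 1 else 0 := by
  classical
  have hprod : ∀ c : Fin d → ι,
      ∏ k : Fin d × ι, (if k.2 = c k.1 then (1 : A) else 0) ^ ν k =
        if Compat ν c then 1 else 0 := by
    intro c
    by_cases hc : Compat ν c
    · rw [if_pos hc]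
      apply Finset.prod_eq_one
      intro k _
      by_cases hk : ν k = 0
      · rw [hk, pow_zero]
      · rw [if_pos (hc k hk), one_pow]
    · rw [if_neg hc]
      unfold Compat at hc
      push_neg at hc
      obtain ⟨k, hk0, hk⟩ := hc
      apply Finset.prod_eq_zero (Finset.mem_univ k)
      rw [if_neg hk, zero_pow hk0]
  simp_rw [hprod]
  by_cases hex : ∃ c₀ : Fin d → ι, typ c₀ = α ∧ Lf Prod.fst ν = ones d ∧ Compat ν c₀
  · obtain ⟨c₀, h1, h2, h3⟩ := hex
    have hν : ν = nuc c₀ := eq_nuc_of_compat ν c₀ h2 h3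
    rw [Finset.sum_eq_single c₀]
    · rw [if_pos h1, if_pos h2, if_pos h3, if_pos]
      rw [hν, sum_nuc_muP, h1]
    · intro c _ hc
      by_cases h1' : typ c = α
      · rw [if_pos h1', if_pos h2, if_neg]
        intro h3'
        apply hc
        apply nuc_injective
        rw [← eq_nuc_of_compat ν c h2 h3', hν]
      · rw [if_neg h1']
    · intro h
      exact absurd (Finset.mem_univ _) h
  · rw [Finset.sum_eq_zero, if_neg]
    · intro h
      have h2 := Lf_fst_of_sum_muP ν α h
      obtain ⟨c, hc⟩ := exists_compat_of_rows ν h2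
      have hν : ν = nuc c := eq_nuc_of_compat ν c h2 hc
      rw [hν, sum_nuc_muP] at h
      have := (PLSpan.mapDomain_inl_add_inr_inj _ _ _ _ h).2
      exact hex ⟨c, this, h2, hc⟩
    · intro c _
      by_cases h1 : typ c = α
      · by_cases h2 : Lf Prod.fst ν = ones d
        · rw [if_pos h1, if_pos h2, if_neg]
          intro h3
          exact hex ⟨c, h1, h2, h3⟩
        · rw [if_pos h1, if_neg h2]
      · rw [if_neg h1]

end Formula

section Main

variable {A : Type u} [CommRing A] {M N : Type u} [AddCommGroup M] [Module A M]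
  [AddCommGroup N] [Module A N] {d : ℕ} {ι : Type} [Fintype ι]

/-- the element `∑ u_i t_j ⊗ b_j` -/
theorem sum_muP_eq (b : ι → M) :
    ∑ k : Fin d × ι, monomial (muP k) (1 : A) ⊗ₜ[A] b k.2 =
      (∑ i : Fin d, (X (Sum.inl i) : MvPolynomial (Fin d ⊕ ι) A)) •
        (rename Sum.inr : MvPolynomial ι A →ₐ[A] MvPolynomial (Fin d ⊕ ι) A).toLinearMap.rTensor M
          (gen b) := by
  unfold gen
  rw [map_sum, Finset.smul_sum, Fintype.sum_prod_type, Finset.sum_comm]
  refine Finset.sum_congr rfl (fun j _ => ?_)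
  rw [LinearMap.rTensor_tmul, AlgHom.toLinearMap_apply, rename_X, TensorProduct.smul_tmul',
    smul_eq_mul, Finset.sum_mul, TensorProduct.sum_tmul]
  refine Finset.sum_congr rfl (fun i _ => ?_)
  unfold muP
  rw [MvPolynomial.X, MvPolynomial.X, monomial_mul, one_mul]

/-- the right-hand side: the coefficient is `d!` times the coefficient of `F` -/
theorem ext1_rhs (F : M →ₚₗ[A] N) (hF : PolLaw.IsHomog F d) (b : ι → M) (α : ι →₀ ℕ) :
    ext1 (Finsupp.mapDomain Sum.inl (ones d) + Finsupp.mapDomain Sum.inr α)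
      (F.toFun' (MvPolynomial (Fin d ⊕ ι) A)
        (∑ k : Fin d × ι, monomial (muP k) (1 : A) ⊗ₜ[A] b k.2)) =
      (d.factorial : A) • PLCoeff.coeff F b α := by
  classical
  rw [sum_muP_eq, hF, ← PolynomialLaw.isCompat_apply']
  set z := F.toFun' (MvPolynomial ι A) (gen b) with hz
  have hsub : supp z ⊆ insert α (supp z) := Finset.subset_insert _ _
  rw [rTensor_rename_eq_sum' _ z hsub, Finset.smul_sum, map_sum]
  have hU : (∑ i : Fin d, (X (Sum.inl i) : MvPolynomial (Fin d ⊕ ι) A)) ^ d =
      rename Sum.inl ((∑ i : Fin d, (X i : MvPolynomial (Fin d) A)) ^ d) := by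
    rw [map_pow, map_sum]
    simp only [rename_X]
  rw [Finset.sum_eq_single α]
  · rw [TensorProduct.smul_tmul', smul_eq_mul, ext1_tmul, hU, ← rename_monomial,
      coeff_mul_rename, coeff_ones_sum_pow, coeff_monomial, if_pos rfl, mul_one]
    rfl
  · intro α' _ hα'
    rw [TensorProduct.smul_tmul', smul_eq_mul, ext1_tmul, hU, ← rename_monomial,
      coeff_mul_rename, coeff_monomial, if_neg hα', mul_zero, zero_smul]
  · intro h
    exact absurd (Finset.mem_insert_self _ _) h

/-- the family `b ∘ c` as a linear combination family -/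
theorem comp_eq_linComb [DecidableEq ι] (b : ι → M) (c : Fin d → ι) :
    (fun i => b (c i)) = fun i' => ∑ k ∈ Finset.univ.filter (fun k : Fin d × ι => k.1 = i'),
      (if k.2 = c k.1 then (1 : A) else 0) • b k.2 := by
  funext i'
  rw [Finset.sum_eq_single (i', c i')]
  · simp
  · rintro ⟨i, j⟩ hk hne
    rw [Finset.mem_filter] at hk
    simp only at hk
    rw [if_neg, zero_smul]
    intro hj
    apply hne
    simp only at hj
    rw [Prod.mk.injEq]
    exact ⟨hk.2, by rw [hj, hk.2]⟩
  · intro h
    simp at h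

/-- **Polarization formula.** For a law homogeneous of degree `d`, the sum of the polarization
over all maps of type `α` is `d!` times the `α`-coefficient. -/
theorem sum_pol0_eq (F : M →ₚₗ[A] N) (hF : PolLaw.IsHomog F d) (b : ι → M) (α : ι →₀ ℕ)
    [DecidableEq (ι →₀ ℕ)] :
    (∑ c : Fin d → ι, if typ c = α then pol0 F (fun i => b (c i)) else 0) =
      (d.factorial : A) • PLCoeff.coeff F b α := by
  classical
  rw [← ext1_rhs F hF b α]
  let m' : Fin d × ι → M := fun k => b k.2
  rw [ext1_toFun'_monomial_sum F m' muP (fun _ => (1 : A)) (Finset.Subset.refl _)]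
  have hpol : ∀ c : Fin d → ι, pol0 F (fun i => b (c i)) =
      ∑ ν ∈ csupp F m', if Lf Prod.fst ν = ones d then
        (∏ k : Fin d × ι, (if k.2 = c k.1 then (1 : A) else 0) ^ ν k) • PLCoeff.coeff F m' ν
        else 0 := by
    intro c
    unfold pol0
    rw [comp_eq_linComb (A := A) b c]
    exact coeff_linComb F Prod.fst _ m' (Finset.Subset.refl _) (ones d)
  simp_rw [hpol]
  have : ∀ c : Fin d → ι, (if typ c = α then
      ∑ ν ∈ csupp F m', (if Lf Prod.fst ν = ones d then
        (∏ k : Fin d × ι, (if k.2 = c k.1 then (1 : A) else 0) ^ ν k) • PLCoeff.coeff F m' ν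
        else 0) else 0) =
      ∑ ν ∈ csupp F m', (if typ c = α then (if Lf Prod.fst ν = ones d then
        ∏ k : Fin d × ι, (if k.2 = c k.1 then (1 : A) else 0) ^ ν k else 0) else 0) •
        PLCoeff.coeff F m' ν := by
    intro c
    by_cases h1 : typ c = α
    · simp only [if_pos h1]
      refine Finset.sum_congr rfl (fun ν _ => ?_)
      by_cases h2 : Lf Prod.fst ν = ones d
      · simp only [if_pos h2]
      · simp only [if_neg h2, zero_smul]
    · simp only [if_neg h1, zero_smul, Finset.sum_const_zero]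
  simp_rw [this]
  rw [Finset.sum_comm]
  refine Finset.sum_congr rfl (fun ν _ => ?_)
  rw [← Finset.sum_smul, sum_indicator ν α]
  by_cases h : ∑ k, ν k • muP k =
      Finsupp.mapDomain Sum.inl (ones d) + Finsupp.mapDomain Sum.inr α
  · rw [if_pos h, if_pos h, one_smul]
    simp
  · rw [if_neg h, if_neg h, zero_smul]

end Main

end Groth.Agent.Lib.Helper20.PLPolar
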