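import Mathlib
import Groth.Prelude.Def_PolLaw
import Groth.Prelude.Def_SymTen
import Groth.Agent.Lib.Helper20.PLCoeff
import Groth.Agent.Lib.Helper20.PLCorestrict
import Groth.Agent.Lib.Helper20.PLPolar
import Groth.Agent.Lib.Helper20.PLPolar2
import Groth.Agent.Lib.Helper20.PLPolar3

/-!
# The law `x ↦ x ⊗ ⋯ ⊗ x` into the tensor power and into the symmetric tensors
-/

namespace Groth.Agent.Lib.Helper20.PLTS

open scoped TensorProduct
open MvPolynomial Groth.Agent.Lib.Helper20.PLCoeff Groth.Agent.Lib.Helper20.PLPolar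
  Groth.Agent.Lib.Helper20.PLCorestrict

universe u

section Tlaw

variable (A : Type u) [CommRing A] (B : Type u) [CommRing B] [Algebra A B] (d : ℕ)

/-- the `i`-th coordinate inclusion `B → B^{⊗d}` -/
noncomputable def incl (i : Fin d) : B →ₐ[A] (⨂[A] _ : Fin d, B) :=
  PiTensorProduct.singleAlgHom (R := A) (A := fun _ : Fin d => B) i

theorem prod_incl (x : Fin d → B) : ∏ i, incl A B d i (x i) = PiTensorProduct.tprod A x := by
  unfold incl
  simp only [PiTensorProduct.singleAlgHom_apply]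
  have h := map_prod (PiTensorProduct.tprodMonoidHom (R := A) (A := fun _ : Fin d => B))
    (fun i => Pi.mulSingle i (x i)) Finset.univ
  rw [Finset.univ_prod_mulSingle] at h
  exact h.symm

theorem prod_tmul {S : Type u} [CommSemiring S] [Algebra A S] {R : Type u} [CommRing R]
    [Algebra A R] {κ : Type*} (t : Finset κ) (a : κ → S) (r : κ → R) :
    ∏ k ∈ t, (a k ⊗ₜ[A] r k) = (∏ k ∈ t, a k) ⊗ₜ[A] (∏ k ∈ t, r k) := by
  classical
  induction t using Finset.induction_on with
  | empty => simp [Algebra.TensorProduct.one_def]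
  | insert k t hk ih =>
    rw [Finset.prod_insert hk, Finset.prod_insert hk, Finset.prod_insert hk, ih,
      Algebra.TensorProduct.tmul_mul_tmul]

/-- the law `x ↦ x ⊗ ⋯ ⊗ x` into the tensor power -/
noncomputable def Tlaw : B →ₚₗ[A] (⨂[A] _ : Fin d, B) where
  toFun' S _ _ x := ∏ i : Fin d, (incl A B d i).toLinearMap.lTensor S x
  isCompat' {S} _ _ {S'} _ _ φ := by
    funext x
    simp only [Function.comp_apply]
    rw [rTensor_eq_map, map_prod]
    refine Finset.prod_congr rfl (fun i _ => ?_)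
    rw [← rTensor_eq_map, ← LinearMap.comp_apply, LinearMap.rTensor_comp_lTensor,
      ← LinearMap.lTensor_comp_rTensor, LinearMap.comp_apply]

theorem Tlaw_toFun' (S : Type u) [CommSemiring S] [Algebra A S] (x : S ⊗[A] B) :
    (Tlaw A B d).toFun' S x = ∏ i : Fin d, (incl A B d i).toLinearMap.lTensor S x := rfl

theorem Tlaw_sum_tmul (S : Type u) [CommSemiring S] [Algebra A S] {ι : Type} [Fintype ι]
    (s : ι → S) (b : ι → B) :
    (Tlaw A B d).toFun' S (∑ j, s j ⊗ₜ[A] b j) =
      ∑ c : Fin d → ι, (∏ i, s (c i)) ⊗ₜ[A] PiTensorProduct.tprod A (fun i => b (c i)) := by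
  classical
  rw [Tlaw_toFun']
  simp only [map_sum, LinearMap.lTensor_tmul, AlgHom.toLinearMap_apply]
  rw [Finset.prod_univ_sum]
  simp only [Fintype.piFinset_univ]
  refine Finset.sum_congr rfl (fun c _ => ?_)
  rw [prod_tmul, prod_incl]

theorem Tlaw_isMult : PolLaw.IsMult (Tlaw A B d) := by
  intro S _ _
  constructor
  · rw [Tlaw_toFun']
    apply Finset.prod_eq_one
    intro i _
    rw [PolLaw.lTensor_algHom_apply, map_one]
  · intro x y
    rw [Tlaw_toFun', Tlaw_toFun', Tlaw_toFun', ← Finset.prod_mul_distrib]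
    refine Finset.prod_congr rfl (fun i _ => ?_)
    rw [PolLaw.lTensor_algHom_apply, PolLaw.lTensor_algHom_apply, PolLaw.lTensor_algHom_apply,
      map_mul]

theorem Tlaw_isHomog : PolLaw.IsHomog (Tlaw A B d) d := by
  intro S _ _ s x
  rw [Tlaw_toFun', Tlaw_toFun']
  simp_rw [lTensor_smul]
  rw [Finset.prod_smul, Finset.prod_const, Finset.card_univ, Fintype.card_fin]

end Tlaw

section TSlaw

variable (A : Type u) [CommRing A] (B : Type u) [CommRing B] [Algebra A B] (d : ℕ)

theorem coeff_Tlaw {ι : Type} [Fintype ι] (m : ι → B) (β : ι →₀ ℕ) [DecidableEq (ι →₀ ℕ)] :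
    PLCoeff.coeff (Tlaw A B d) m β =
      ∑ c : Fin d → ι, if typ c = β then PiTensorProduct.tprod A (fun i => m (c i)) else 0 := by
  classical
  unfold PLCoeff.coeff gen
  rw [Tlaw_sum_tmul, map_sum]
  refine Finset.sum_congr rfl (fun c _ => ?_)
  rw [prod_X_comp, ext1_tmul, coeff_monomial]
  by_cases hc : typ c = β
  · rw [if_pos hc, if_pos hc, one_smul]
  · rw [if_neg hc, if_neg hc, zero_smul]

theorem typ_comp_perm {ι : Type} (c : Fin d → ι) (σ : Equiv.Perm (Fin d)) :
    typ (fun i => c (σ i)) = typ c := by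
  unfold typ
  exact Equiv.sum_comp σ (fun i => Finsupp.single (c i) 1)

theorem coeff_Tlaw_mem {ι : Type} [Fintype ι] (m : ι → B) (β : ι →₀ ℕ) :
    PLCoeff.coeff (Tlaw A B d) m β ∈ SymTen.TS A B d := by
  classical
  intro σ
  rw [coeff_Tlaw, map_sum]
  have h : ∀ c : Fin d → ι,
      PiTensorProduct.reindex A (fun _ : Fin d => B) σ
        (if typ c = β then PiTensorProduct.tprod A (fun i => m (c i)) else 0) =
      if typ (fun i => c (σ.symm i)) = β then
        PiTensorProduct.tprod A (fun i => m ((fun i => c (σ.symm i)) i)) else 0 := by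
    intro c
    rw [typ_comp_perm]
    by_cases hc : typ c = β
    · rw [if_pos hc, if_pos hc, PiTensorProduct.reindex_tprod]
    · rw [if_neg hc, if_neg hc, map_zero]
  simp_rw [h]
  exact Equiv.sum_comp (Equiv.arrowCongr σ (Equiv.refl ι))
    (fun c => if typ c = β then PiTensorProduct.tprod A (fun i => m (c i)) else 0)

/-- the law `x ↦ x ⊗ ⋯ ⊗ x` into the symmetric tensors -/
noncomputable def TSlawAux : B →ₚₗ[A] SymTen.TS A B d :=
  corestrict (Tlaw A B d) (SymTen.TS A B d).val.toLinearMap Subtype.val_injective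
    (fun _ _ m β => ⟨⟨_, coeff_Tlaw_mem A B d m β⟩, rfl⟩)

theorem postcomp_TSlawAux :
    PolLaw.postcomp (SymTen.TS A B d).val.toLinearMap (TSlawAux A B d) = Tlaw A B d :=
  postcomp_corestrict (Tlaw A B d) (SymTen.TS A B d).val.toLinearMap Subtype.val_injective
    (fun _ _ m β => ⟨⟨_, coeff_Tlaw_mem A B d m β⟩, rfl⟩)

/-- the universal candidate: `x ↦ x ⊗ ⋯ ⊗ x` as a multiplicative law into `TS^d` -/
noncomputable def TSlaw : PolLaw.MulLaw A B (SymTen.TS A B d) d where
  law := TSlawAux A B d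
  homog := by
    apply isHomog_of_postcomp (SymTen.TS A B d).val.toLinearMap Subtype.val_injective
    rw [postcomp_TSlawAux]
    exact Tlaw_isHomog A B d
  mult := by
    apply isMult_of_postcomp (SymTen.TS A B d).val Subtype.val_injective
    rw [postcomp_TSlawAux]
    exact Tlaw_isMult A B d

theorem val_TSlaw (S : Type u) [CommSemiring S] [Algebra A S] (x : S ⊗[A] B) :
    (SymTen.TS A B d).val.toLinearMap.lTensor S ((TSlaw A B d).law.toFun' S x) =
      (Tlaw A B d).toFun' S x :=
  lTensor_corestrict (Tlaw A B d) (SymTen.TS A B d).val.toLinearMap Subtype.val_injective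
    (fun _ _ m β => ⟨⟨_, coeff_Tlaw_mem A B d m β⟩, rfl⟩) S x

theorem val_TSlaw_sum_tmul (S : Type u) [CommSemiring S] [Algebra A S] {ι : Type} [Fintype ι]
    (s : ι → S) (b : ι → B) :
    (SymTen.TS A B d).val.toLinearMap.lTensor S
        ((TSlaw A B d).law.toFun' S (∑ j, s j ⊗ₜ[A] b j)) =
      ∑ c : Fin d → ι, (∏ i, s (c i)) ⊗ₜ[A] PiTensorProduct.tprod A (fun i => b (c i)) := by
  rw [val_TSlaw, Tlaw_sum_tmul]

theorem val_coeff_TSlaw {ι : Type} [Fintype ι] (m : ι → B) (β : ι →₀ ℕ) :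
    ((PLCoeff.coeff (TSlaw A B d).law m β : SymTen.TS A B d) : ⨂[A] _ : Fin d, B) =
      PLCoeff.coeff (Tlaw A B d) m β := by
  have := coeff_postcomp (SymTen.TS A B d).val.toLinearMap (TSlaw A B d).law m β
  rw [show PolLaw.postcomp (SymTen.TS A B d).val.toLinearMap (TSlaw A B d).law = Tlaw A B d from
    postcomp_TSlawAux A B d] at this
  exact this.symm

end TSlaw

end Groth.Agent.Lib.Helper20.PLTS
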