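import Mathlib
import Groth.Prelude.Def_PolLaw
import Groth.Prelude.Def_SymTen
import Groth.Agent.Lib.Helper20.PLTS

/-!
# General lemmas on polynomial laws: cancellation, ground maps, products of algebra maps
-/

namespace Groth.Agent.Lib.Helper20.PLNat

open scoped TensorProduct
open MvPolynomial Groth.Agent.Lib.Helper20.PLCoeff Groth.Agent.Lib.Helper20.PLCorestrict
  Groth.Agent.Lib.Helper20.PLTS

universe u

section General

variable {A : Type u} [CommRing A] {M M' M'' N N' : Type u} [AddCommGroup M] [Module A M]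
  [AddCommGroup M'] [Module A M'] [AddCommGroup M''] [Module A M'']
  [AddCommGroup N] [Module A N] [AddCommGroup N'] [Module A N']

theorem postcomp_injective (j : N' →ₗ[A] N) (hj : Function.Injective j) {F G : M →ₚₗ[A] N'}
    (h : PolLaw.postcomp j F = PolLaw.postcomp j G) : F = G := by
  apply ext_gen
  intro ι _ m
  apply lTensor_injective_mvPolynomial j hj ι
  exact congrArg (fun L : M →ₚₗ[A] N => L.toFun' (MvPolynomial ι A) (gen m)) h

theorem precomp_surjective_cancel (p : M' →ₗ[A] M) (hp : Function.Surjective p)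
    {F G : M →ₚₗ[A] N} (h : PolLaw.precomp F p = PolLaw.precomp G p) : F = G := by
  apply PolynomialLaw.ext
  funext S _ _ x
  obtain ⟨x', rfl⟩ := LinearMap.lTensor_surjective S hp x
  exact congrArg (fun L : M' →ₚₗ[A] N => L.toFun' S x') h

theorem postcomp_precomp (g : N →ₗ[A] N') (F : M →ₚₗ[A] N) (p : M' →ₗ[A] M) :
    PolLaw.postcomp g (PolLaw.precomp F p) = PolLaw.precomp (PolLaw.postcomp g F) p := by
  apply PolynomialLaw.ext
  funext S _ _ x
  rfl

theorem precomp_comp (F : M →ₚₗ[A] N) (p : M' →ₗ[A] M) (q : M'' →ₗ[A] M') :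
    PolLaw.precomp (PolLaw.precomp F p) q = PolLaw.precomp F (p ∘ₗ q) := by
  apply PolynomialLaw.ext
  funext S _ _ x
  simp only [precomp_toFun']
  rw [LinearMap.lTensor_comp, LinearMap.comp_apply]

theorem precomp_id (F : M →ₚₗ[A] N) :
    PolLaw.precomp F (LinearMap.id : M →ₗ[A] M) = F := by
  apply PolynomialLaw.ext
  funext S _ _ x
  simp only [precomp_toFun']
  rw [LinearMap.lTensor_id, LinearMap.id_apply]

theorem lid_lTensor (g : N →ₗ[A] N') (y : A ⊗[A] N) :
    TensorProduct.lid A N' (g.lTensor A y) = g (TensorProduct.lid A N y) := by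
  induction y using TensorProduct.induction_on with
  | zero => simp
  | tmul a n => simp
  | add x y hx hy => simp only [map_add, hx, hy]

theorem ground_postcomp (g : N →ₗ[A] N') (F : M →ₚₗ[A] N) (m : M) :
    (PolLaw.postcomp g F).ground m = g (F.ground m) := by
  rw [PolynomialLaw.ground_apply, PolynomialLaw.ground_apply, postcomp_toFun', lid_lTensor]

theorem ground_precomp (F : M →ₚₗ[A] N) (p : M' →ₗ[A] M) (m : M') :
    (PolLaw.precomp F p).ground m = F.ground (p m) := by
  rw [PolynomialLaw.ground_apply, PolynomialLaw.ground_apply, precomp_toFun',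
    LinearMap.lTensor_tmul]

end General

section Prod

variable {A : Type u} [CommRing A] {B B' C C' : Type u} [CommRing B] [Algebra A B]
  [CommRing B'] [Algebra A B'] [CommRing C] [Algebra A C] [CommRing C'] [Algebra A C']
  {κ : Type} [Fintype κ] (f : κ → (B →ₐ[A] C))

/-- the product of the laws of finitely many algebra maps -/
noncomputable def prodLaw : B →ₚₗ[A] C where
  toFun' S _ _ x := ∏ k, (f k).toLinearMap.lTensor S x
  isCompat' {S} _ _ {S'} _ _ φ := by
    funext x
    simp only [Function.comp_apply]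
    rw [rTensor_eq_map, map_prod]
    refine Finset.prod_congr rfl (fun i _ => ?_)
    rw [← rTensor_eq_map, ← LinearMap.comp_apply, LinearMap.rTensor_comp_lTensor,
      ← LinearMap.lTensor_comp_rTensor, LinearMap.comp_apply]

theorem prodLaw_toFun' (S : Type u) [CommSemiring S] [Algebra A S] (x : S ⊗[A] B) :
    (prodLaw f).toFun' S x = ∏ k, (f k).toLinearMap.lTensor S x := rfl

theorem prodLaw_isMult : PolLaw.IsMult (prodLaw f) := by
  intro S _ _
  constructor
  · rw [prodLaw_toFun']
    apply Finset.prod_eq_one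
    intro i _
    rw [PolLaw.lTensor_algHom_apply, map_one]
  · intro x y
    rw [prodLaw_toFun', prodLaw_toFun', prodLaw_toFun', ← Finset.prod_mul_distrib]
    refine Finset.prod_congr rfl (fun i _ => ?_)
    rw [PolLaw.lTensor_algHom_apply, PolLaw.lTensor_algHom_apply, PolLaw.lTensor_algHom_apply,
      map_mul]

theorem prodLaw_isHomog : PolLaw.IsHomog (prodLaw f) (Fintype.card κ) := by
  intro S _ _ s x
  rw [prodLaw_toFun', prodLaw_toFun']
  simp_rw [lTensor_smul]
  rw [Finset.prod_smul, Finset.prod_const, Finset.card_univ]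

theorem postcomp_prodLaw (g : C →ₐ[A] C') :
    PolLaw.postcomp g.toLinearMap (prodLaw f) = prodLaw (fun k => g.comp (f k)) := by
  apply PolynomialLaw.ext
  funext S _ _ x
  rw [postcomp_toFun', prodLaw_toFun', prodLaw_toFun', PolLaw.lTensor_algHom_apply, map_prod]
  refine Finset.prod_congr rfl (fun k _ => ?_)
  rw [← PolLaw.lTensor_algHom_apply, ← LinearMap.comp_apply, ← LinearMap.lTensor_comp]
  rfl

theorem precomp_prodLaw (p : B' →ₐ[A] B) :
    PolLaw.precomp (prodLaw f) p.toLinearMap = prodLaw (fun k => (f k).comp p) := by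
  apply PolynomialLaw.ext
  funext S _ _ x
  rw [precomp_toFun', prodLaw_toFun', prodLaw_toFun']
  refine Finset.prod_congr rfl (fun k _ => ?_)
  rw [← LinearMap.comp_apply, ← LinearMap.lTensor_comp]
  rfl

theorem ground_prodLaw (b : B) : (prodLaw f).ground b = ∏ k, f k b := by
  rw [PolynomialLaw.ground_apply, prodLaw_toFun']
  simp only [LinearMap.lTensor_tmul, AlgHom.toLinearMap_apply]
  rw [prod_tmul]
  simp

end Prod

end Groth.Agent.Lib.Helper20.PLNat
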