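import Mathlib
import Groth.Prelude.Def_PolLaw
import Groth.Prelude.Def_SymTen
import Groth.Agent.Lib.Helper20.PLNat

/-!
# The norm law `z ↦ ∏_σ σ(z)` on a tensor power, and naturality of the tensor power laws
-/

namespace Groth.Agent.Lib.Helper20.PLNorm

open scoped TensorProduct
open MvPolynomial Groth.Agent.Lib.Helper20.PLCoeff Groth.Agent.Lib.Helper20.PLCorestrict
  Groth.Agent.Lib.Helper20.PLTS Groth.Agent.Lib.Helper20.PLNat

universe u

section Norm

variable (A : Type u) [CommRing A] (B : Type u) [CommRing B] [Algebra A B] (d : ℕ)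

theorem perm_mul (τ σ : Equiv.Perm (Fin d)) :
    SymTen.perm A B d (τ * σ) = (SymTen.perm A B d τ).comp (SymTen.perm A B d σ) := by
  apply AlgHom.toLinearMap_injective
  apply PiTensorProduct.ext
  ext f
  simp only [LinearMap.compMultilinearMap_apply, AlgHom.toLinearMap_apply, AlgHom.comp_apply,
    SymTen.perm_tprod]
  rfl

theorem perm_val (σ : Equiv.Perm (Fin d)) (y : SymTen.TS A B d) :
    SymTen.perm A B d σ (y : ⨂[A] _ : Fin d, B) = y := by
  rw [SymTen.perm_apply]
  exact y.2 σ

/-- the norm law on the tensor power -/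
noncomputable def Nlaw : (⨂[A] _ : Fin d, B) →ₚₗ[A] (⨂[A] _ : Fin d, B) :=
  prodLaw (fun σ : Equiv.Perm (Fin d) => SymTen.perm A B d σ)

theorem perm_Nlaw (τ : Equiv.Perm (Fin d)) (S : Type u) [CommSemiring S] [Algebra A S]
    (x : S ⊗[A] (⨂[A] _ : Fin d, B)) :
    (SymTen.perm A B d τ).toLinearMap.lTensor S ((Nlaw A B d).toFun' S x) =
      (Nlaw A B d).toFun' S x := by
  unfold Nlaw
  rw [prodLaw_toFun', PolLaw.lTensor_algHom_apply, map_prod]
  refine Fintype.prod_equiv (Equiv.mulLeft τ) _ _ (fun σ => ?_)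
  rw [← PolLaw.lTensor_algHom_apply, ← LinearMap.comp_apply, ← LinearMap.lTensor_comp,
    Equiv.coe_mulLeft, perm_mul]
  rfl

theorem coeff_Nlaw_mem {ι : Type} [Fintype ι] (m : ι → (⨂[A] _ : Fin d, B)) (β : ι →₀ ℕ) :
    PLCoeff.coeff (Nlaw A B d) m β ∈ SymTen.TS A B d := by
  intro σ
  rw [← SymTen.perm_apply]
  unfold PLCoeff.coeff
  rw [← AlgHom.toLinearMap_apply, ← ext1_lTensor, perm_Nlaw]

/-- the norm law, corestricted to the symmetric tensors -/
noncomputable def NTSlawAux : (⨂[A] _ : Fin d, B) →ₚₗ[A] SymTen.TS A B d :=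
  corestrict (Nlaw A B d) (SymTen.TS A B d).val.toLinearMap Subtype.val_injective
    (fun _ _ m β => ⟨⟨_, coeff_Nlaw_mem A B d m β⟩, rfl⟩)

theorem postcomp_NTSlawAux :
    PolLaw.postcomp (SymTen.TS A B d).val.toLinearMap (NTSlawAux A B d) = Nlaw A B d :=
  postcomp_corestrict (Nlaw A B d) (SymTen.TS A B d).val.toLinearMap Subtype.val_injective
    (fun _ _ m β => ⟨⟨_, coeff_Nlaw_mem A B d m β⟩, rfl⟩)

theorem card_perm_fin : Fintype.card (Equiv.Perm (Fin d)) = d.factorial := by
  rw [Fintype.card_perm, Fintype.card_fin]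

/-- the norm law as a multiplicative law of degree `d!` into the symmetric tensors -/
noncomputable def NTSlaw : PolLaw.MulLaw A (⨂[A] _ : Fin d, B) (SymTen.TS A B d) d.factorial where
  law := NTSlawAux A B d
  homog := by
    apply isHomog_of_postcomp (SymTen.TS A B d).val.toLinearMap Subtype.val_injective
    rw [postcomp_NTSlawAux, ← card_perm_fin]
    exact prodLaw_isHomog _
  mult := by
    apply isMult_of_postcomp (SymTen.TS A B d).val Subtype.val_injective
    rw [postcomp_NTSlawAux]
    exact prodLaw_isMult _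

theorem postcomp_NTSlaw :
    PolLaw.postcomp (SymTen.TS A B d).val.toLinearMap (NTSlaw A B d).law = Nlaw A B d :=
  postcomp_NTSlawAux A B d

theorem ground_Nlaw (z : ⨂[A] _ : Fin d, B) :
    (Nlaw A B d).ground z = ∏ σ : Equiv.Perm (Fin d), SymTen.perm A B d σ z :=
  ground_prodLaw _ z

theorem val_ground_NTSlaw (z : ⨂[A] _ : Fin d, B) :
    (((NTSlaw A B d).law.ground z : SymTen.TS A B d) : ⨂[A] _ : Fin d, B) =
      ∏ σ : Equiv.Perm (Fin d), SymTen.perm A B d σ z := by
  rw [← ground_Nlaw, ← postcomp_NTSlaw, ground_postcomp]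
  rfl

/-- on symmetric tensors the norm law is the `d!`-th power -/
theorem precomp_NTSlaw_val :
    PolLaw.precomp (NTSlaw A B d).law (SymTen.TS A B d).val.toLinearMap =
      PolLaw.powLaw d.factorial := by
  apply postcomp_injective (SymTen.TS A B d).val.toLinearMap Subtype.val_injective
  rw [postcomp_precomp, postcomp_NTSlaw]
  unfold Nlaw
  rw [precomp_prodLaw]
  have : (fun σ : Equiv.Perm (Fin d) => (SymTen.perm A B d σ).comp (SymTen.TS A B d).val) =
      fun _ => (SymTen.TS A B d).val := by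
    funext σ
    exact AlgHom.ext (fun y => perm_val A B d σ y)
  rw [this]
  apply PolynomialLaw.ext
  funext S _ _ x
  rw [prodLaw_toFun', postcomp_toFun', Finset.prod_const, Finset.card_univ, card_perm_fin]
  change _ = (SymTen.TS A B d).val.toLinearMap.lTensor S (x ^ d.factorial)
  rw [PolLaw.lTensor_algHom_apply, PolLaw.lTensor_algHom_apply, map_pow]

end Norm

section Naturality

variable (A : Type u) [CommRing A] {B : Type u} [CommRing B] [Algebra A B]
  {B' : Type u} [CommRing B'] [Algebra A B'] (d : ℕ) (p : B →ₐ[A] B')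

theorem tmap_comp_perm (σ : Equiv.Perm (Fin d)) :
    (SymTen.tmap A d p).comp (SymTen.perm A B d σ) =
      (SymTen.perm A B' d σ).comp (SymTen.tmap A d p) := by
  apply AlgHom.toLinearMap_injective
  apply PiTensorProduct.ext
  ext f
  simp only [LinearMap.compMultilinearMap_apply, AlgHom.toLinearMap_apply, AlgHom.comp_apply,
    SymTen.perm_tprod, SymTen.tmap_tprod]

theorem postcomp_tmap_Nlaw :
    PolLaw.postcomp (SymTen.tmap A d p).toLinearMap (Nlaw A B d) =
      PolLaw.precomp (Nlaw A B' d) (SymTen.tmap A d p).toLinearMap := by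
  unfold Nlaw
  rw [postcomp_prodLaw, precomp_prodLaw]
  congr 1
  funext σ
  exact tmap_comp_perm A d p σ

theorem val_comp_TSmap :
    (SymTen.TS A B' d).val.comp (SymTen.TSmap A d p) =
      (SymTen.tmap A d p).comp (SymTen.TS A B d).val :=
  AlgHom.ext (fun _ => rfl)

theorem postcomp_TSmap_NTSlaw :
    PolLaw.postcomp (SymTen.TSmap A d p).toLinearMap (NTSlaw A B d).law =
      PolLaw.precomp (NTSlaw A B' d).law (SymTen.tmap A d p).toLinearMap := by
  apply postcomp_injective (SymTen.TS A B' d).val.toLinearMap Subtype.val_injective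
  rw [← postcomp_comp, ← AlgHom.comp_toLinearMap, val_comp_TSmap, AlgHom.comp_toLinearMap,
    postcomp_comp, postcomp_NTSlaw, postcomp_precomp, postcomp_NTSlaw, postcomp_tmap_Nlaw]

theorem tmap_comp_incl (i : Fin d) :
    (SymTen.tmap A d p).comp (incl A B d i) = (incl A B' d i).comp p := by
  apply AlgHom.ext
  intro b
  classical
  simp only [AlgHom.comp_apply, incl, PiTensorProduct.singleAlgHom_apply, SymTen.tmap_tprod]
  congr 1
  funext j
  by_cases hj : j = i
  · subst hj
    simp
  · simp [hj]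

theorem Tlaw_eq_prodLaw : Tlaw A B d = prodLaw (fun i : Fin d => incl A B d i) := rfl

theorem postcomp_tmap_Tlaw :
    PolLaw.postcomp (SymTen.tmap A d p).toLinearMap (Tlaw A B d) =
      PolLaw.precomp (Tlaw A B' d) p.toLinearMap := by
  rw [Tlaw_eq_prodLaw, Tlaw_eq_prodLaw, postcomp_prodLaw, precomp_prodLaw]
  congr 1
  funext i
  exact tmap_comp_incl A d p i

theorem postcomp_val_TSlaw :
    PolLaw.postcomp (SymTen.TS A B d).val.toLinearMap (TSlaw A B d).law = Tlaw A B d :=
  postcomp_TSlawAux A B d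

theorem postcomp_TSmap_TSlaw :
    PolLaw.postcomp (SymTen.TSmap A d p).toLinearMap (TSlaw A B d).law =
      PolLaw.precomp (TSlaw A B' d).law p.toLinearMap := by
  apply postcomp_injective (SymTen.TS A B' d).val.toLinearMap Subtype.val_injective
  rw [← postcomp_comp, ← AlgHom.comp_toLinearMap, val_comp_TSmap, AlgHom.comp_toLinearMap,
    postcomp_comp, postcomp_val_TSlaw, postcomp_precomp, postcomp_val_TSlaw, postcomp_tmap_Tlaw]

end Naturality

end Groth.Agent.Lib.Helper20.PLNorm
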