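import Mathlib
import Groth.Prelude.Def_PolLaw
import Groth.Prelude.Def_SymTen
import Groth.Agent.Lib.Helper20.PLNorm

/-!
# Cayley–Hamilton for multiplicative laws, part A: the computation in the tensor power
-/

namespace Groth.Agent.Lib.Helper20.PLCH

open scoped TensorProduct
open Groth.Agent.Lib.Helper20.PLCoeff Groth.Agent.Lib.Helper20.PLCorestrict
  Groth.Agent.Lib.Helper20.PLTS Groth.Agent.Lib.Helper20.PLNat Groth.Agent.Lib.Helper20.PLNorm

universe u

section PartA

variable {A : Type u} [CommRing A] {P : Type u} [CommRing P] [Algebra A P] (d : ℕ) (t : P)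

/-- `δ_t = 1 ⊗ t - t ⊗ 1` -/
noncomputable def delta : P ⊗[A] P := (1 : P) ⊗ₜ[A] t - t ⊗ₜ[A] (1 : P)

variable {R' : Type u} [CommSemiring R'] [Algebra A R'] (j' : (⨂[A] _ : Fin d, P) →ₐ[A] R')

/-- evaluation at the `i`-th point -/
noncomputable def eps (i : Fin d) : R' ⊗[A] P →ₐ[A] R' :=
  Algebra.TensorProduct.productMap (AlgHom.id A R') (j'.comp (incl A P d i))

/-- multiplication `R' ⊗ T → R'` -/
noncomputable def mu' : R' ⊗[A] (⨂[A] _ : Fin d, P) →ₐ[A] R' :=
  Algebra.TensorProduct.productMap (AlgHom.id A R') j'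

theorem mu'_lTensor_incl (i : Fin d) (y : R' ⊗[A] P) :
    mu' d j' ((incl A P d i).toLinearMap.lTensor R' y) = eps d j' i y := by
  induction y using TensorProduct.induction_on with
  | zero => simp
  | tmul r p => simp [mu', eps]
  | add a b ha hb => rw [map_add, map_add, ha, hb, map_add]

theorem mu'_Tlaw (y : R' ⊗[A] P) :
    mu' d j' ((Tlaw A P d).toFun' R' y) = ∏ i, eps d j' i y := by
  rw [Tlaw_toFun', map_prod]
  refine Finset.prod_congr rfl (fun i _ => ?_)
  exact mu'_lTensor_incl d j' i y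

theorem mu'_Tlaw_add (x w K : R' ⊗[A] P) (hK : ∀ i, eps d j' i K = 0) :
    mu' d j' ((Tlaw A P d).toFun' R' (x + w * K)) = mu' d j' ((Tlaw A P d).toFun' R' x) := by
  rw [mu'_Tlaw, mu'_Tlaw]
  refine Finset.prod_congr rfl (fun i _ => ?_)
  rw [map_add, map_mul, hK i, mul_zero, add_zero]

/-- `P ⊗ T → R' ⊗ P`, `p ⊗ c ↦ j'(c) ⊗ p` -/
noncomputable def Xi' : P ⊗[A] (⨂[A] _ : Fin d, P) →ₐ[A] R' ⊗[A] P :=
  (Algebra.TensorProduct.map j' (AlgHom.id A P)).comp
    (Algebra.TensorProduct.comm A P (⨂[A] _ : Fin d, P)).toAlgHom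

/-- `P ⊗ T → T`, `p ⊗ c ↦ incl_i(p) c` -/
noncomputable def nu (A : Type u) [CommRing A] (P : Type u) [CommRing P] [Algebra A P] (d : ℕ)
    (i : Fin d) : P ⊗[A] (⨂[A] _ : Fin d, P) →ₐ[A] (⨂[A] _ : Fin d, P) :=
  Algebra.TensorProduct.productMap (incl A P d i) (AlgHom.id A _)

theorem eps_Xi' (i : Fin d) (z : P ⊗[A] (⨂[A] _ : Fin d, P)) :
    eps d j' i (Xi' d j' z) = j' (nu A P d i z) := by
  induction z using TensorProduct.induction_on with
  | zero => simp
  | tmul p c => simp [eps, Xi', nu, mul_comm]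
  | add a b ha hb => rw [map_add, map_add, ha, hb, map_add, map_add]

theorem nu_Tlaw_delta (i : Fin d) : nu A P d i ((Tlaw A P d).toFun' P (delta (A := A) t)) = 0 := by
  rw [Tlaw_toFun', map_prod]
  apply Finset.prod_eq_zero (Finset.mem_univ i)
  unfold delta
  rw [map_sub, map_sub, LinearMap.lTensor_tmul, LinearMap.lTensor_tmul]
  simp [nu]

/-- the universal Cayley–Hamilton element in `R' ⊗ P` -/
noncomputable def K' : R' ⊗[A] P := Xi' d j' ((Tlaw A P d).toFun' P (delta (A := A) t))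

theorem eps_K' (i : Fin d) : eps d j' i (K' d t j') = 0 := by
  unfold K'
  rw [eps_Xi', nu_Tlaw_delta, map_zero]

/-- **Cayley–Hamilton in the tensor power** -/
theorem mu'_Tlaw_add_K' (x w : R' ⊗[A] P) :
    mu' d j' ((Tlaw A P d).toFun' R' (x + w * K' d t j')) =
      mu' d j' ((Tlaw A P d).toFun' R' x) :=
  mu'_Tlaw_add d j' x w _ (eps_K' d t j')

end PartA

end Groth.Agent.Lib.Helper20.PLCH
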