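import Mathlib
import Groth.Prelude.Def_PolLaw
import Groth.Prelude.Def_SymTen
import Groth.Agent.Lib.Helper20.PLCoeff
import Groth.Agent.Lib.Helper20.PLCorestrict
import Groth.Agent.Lib.Helper20.PLPolar
import Groth.Agent.Lib.Helper20.PLPolar2
import Groth.Agent.Lib.Helper20.PLPolar3
import Groth.Agent.Lib.Helper20.PLTS

/-!
# Symmetric tensors of a free algebra: coordinates and orbit sums
-/

namespace Groth.Agent.Lib.Helper20.PLFree

open scoped TensorProduct
open MvPolynomial Groth.Agent.Lib.Helper20.PLCoeff Groth.Agent.Lib.Helper20.PLPolar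
  Groth.Agent.Lib.Helper20.PLCorestrict Groth.Agent.Lib.Helper20.PLTS

universe u

section Orbit

variable {K : Type*} {d : ℕ}

/-- the type of a map `Fin d → K`, for `K` in any universe -/
noncomputable def typK (c : Fin d → K) : K →₀ ℕ := ∑ i, Finsupp.single (c i) 1

theorem typK_eq_typ {ι : Type} (c : Fin d → ι) : typK c = typ c := rfl

theorem typK_apply [DecidableEq K] (c : Fin d → K) (k : K) :
    typK c k = (Finset.univ.filter (fun i => c i = k)).card := by
  unfold typK
  rw [Finsupp.finset_sum_apply, Finset.card_filter]
  refine Finset.sum_congr rfl (fun i _ => ?_)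
  rw [Finsupp.single_apply]

theorem typK_comp_perm (c : Fin d → K) (σ : Equiv.Perm (Fin d)) :
    typK (fun i => c (σ i)) = typK c := by
  unfold typK
  exact Equiv.sum_comp σ (fun i => Finsupp.single (c i) 1)

theorem typK_comp_injective {K' : Type*} (k : K → K') (c : Fin d → K) :
    typK (fun i => k (c i)) = Finsupp.mapDomain k (typK c) := by
  unfold typK
  rw [Finsupp.mapDomain_finset_sum]
  simp only [Finsupp.mapDomain_single]

/-- two maps with the same type differ by a permutation -/
theorem exists_perm_of_typK_eq (c c' : Fin d → K) (h : typK c = typK c') :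
    ∃ σ : Equiv.Perm (Fin d), ∀ i, c' i = c (σ i) := by
  classical
  have hcard : ∀ k : K, Fintype.card {i // c' i = k} = Fintype.card {i // c i = k} := by
    intro k
    have := DFunLike.congr_fun h k
    rw [typK_apply, typK_apply] at this
    rw [Fintype.card_subtype, Fintype.card_subtype]
    exact this.symm
  let σ : Fin d ≃ Fin d := Equiv.ofFiberEquiv (f := c') (g := c)
    (fun k => Fintype.equivOfCardEq (hcard k))
  exact ⟨σ, fun i => (Equiv.ofFiberEquiv_map _ i).symm⟩

end Orbit

section Coord

variable {A : Type u} [CommRing A] {B : Type u} [CommRing B] [Algebra A B]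
  {K : Type u} (e : Module.Basis K A B) (d : ℕ)

/-- the basis of the tensor power -/
noncomputable def bT : Module.Basis (Fin d → K) A (⨂[A] _ : Fin d, B) :=
  Basis.piTensorProduct (fun _ : Fin d => e)

theorem bT_apply (c : Fin d → K) :
    bT e d c = PiTensorProduct.tprod A (fun i => e (c i)) := by
  unfold bT
  rw [Basis.piTensorProduct_apply]

theorem reindex_bT (σ : Equiv.Perm (Fin d)) (c : Fin d → K) :
    PiTensorProduct.reindex A (fun _ : Fin d => B) σ (bT e d c) =
      bT e d (fun i => c (σ.symm i)) := by
  rw [bT_apply, bT_apply, PiTensorProduct.reindex_tprod]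

theorem repr_reindex (σ : Equiv.Perm (Fin d)) (y : ⨂[A] _ : Fin d, B) (c : Fin d → K) :
    (bT e d).repr (PiTensorProduct.reindex A (fun _ : Fin d => B) σ y) c =
      (bT e d).repr y (fun i => c (σ i)) := by
  classical
  have h : (Finsupp.lapply c ∘ₗ (bT e d).repr.toLinearMap) ∘ₗ
      (PiTensorProduct.reindex A (fun _ : Fin d => B) σ).toLinearMap =
      Finsupp.lapply (fun i => c (σ i)) ∘ₗ (bT e d).repr.toLinearMap := by
    apply (bT e d).ext
    intro c'
    simp only [LinearMap.comp_apply, LinearEquiv.coe_coe, Finsupp.lapply_apply]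
    rw [reindex_bT, Module.Basis.repr_self, Module.Basis.repr_self, Finsupp.single_apply,
      Finsupp.single_apply]
    congr 1
    apply propext
    constructor
    · intro h
      rw [← h]
      funext i
      simp
    · intro h
      rw [h]
      funext i
      simp
  exact DFunLike.congr_fun h y

theorem repr_symm_of_mem_TS {y : ⨂[A] _ : Fin d, B} (hy : y ∈ SymTen.TS A B d)
    (σ : Equiv.Perm (Fin d)) (c : Fin d → K) :
    (bT e d).repr y (fun i => c (σ i)) = (bT e d).repr y c := by
  rw [← repr_reindex, hy σ]

theorem repr_eq_of_typK_eq {y : ⨂[A] _ : Fin d, B} (hy : y ∈ SymTen.TS A B d)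
    (c c' : Fin d → K) (h : typK c = typK c') :
    (bT e d).repr y c' = (bT e d).repr y c := by
  obtain ⟨σ, hσ⟩ := exists_perm_of_typK_eq c c' h
  have : c' = fun i => c (σ i) := funext hσ
  rw [this, repr_symm_of_mem_TS e d hy]

end Coord

section OrbitSum

variable {A : Type u} [CommRing A] {B : Type u} [CommRing B] [Algebra A B]
  {K : Type u} (e : Module.Basis K A B) (d : ℕ)

/-- compression of a map to an injective enumeration of its image -/
theorem exists_compress (c : Fin d → K) :
    ∃ (n : ℕ) (k : Fin n → K) (c₀ : Fin d → Fin n), Function.Injective k ∧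
      ∀ i, c i = k (c₀ i) := by
  classical
  let s : Finset K := Finset.univ.image c
  have hmem : ∀ i, c i ∈ s := fun i => Finset.mem_image_of_mem c (Finset.mem_univ i)
  refine ⟨s.card, fun j => (s.equivFin.symm j : K), fun i => s.equivFin ⟨c i, hmem i⟩, ?_, ?_⟩
  · intro j j' h
    exact s.equivFin.symm.injective (Subtype.ext h)
  · intro i
    simp

/-- the orbit sums: coefficients of the tensor power law at families of basis vectors -/
theorem val_coeff_TSlaw_basis {ι : Type} [Fintype ι] (k : ι → K) (β : ι →₀ ℕ)
    [DecidableEq (ι →₀ ℕ)] :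
    ((PLCoeff.coeff (TSlaw A B d).law (fun j => e (k j)) β : SymTen.TS A B d) :
        ⨂[A] _ : Fin d, B) =
      ∑ c₀ : Fin d → ι, if typ c₀ = β then bT e d (fun i => k (c₀ i)) else 0 := by
  rw [val_coeff_TSlaw, coeff_Tlaw]
  refine Finset.sum_congr rfl (fun c₀ _ => ?_)
  rw [bT_apply]

/-- coordinates of the orbit sums -/
theorem repr_val_coeff_TSlaw_basis {ι : Type} [Fintype ι] (k : ι → K)
    (hk : Function.Injective k) (β : ι →₀ ℕ) (c : Fin d → K) [DecidableEq (K →₀ ℕ)] :
    (bT e d).repr
      ((PLCoeff.coeff (TSlaw A B d).law (fun j => e (k j)) β : SymTen.TS A B d) :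
        ⨂[A] _ : Fin d, B) c =
      if typK c = Finsupp.mapDomain k β then 1 else 0 := by
  classical
  rw [val_coeff_TSlaw_basis, map_sum, Finsupp.finset_sum_apply]
  have hterm : ∀ c₀ : Fin d → ι,
      (bT e d).repr (if typ c₀ = β then bT e d (fun i => k (c₀ i)) else 0) c =
        if typ c₀ = β ∧ (fun i => k (c₀ i)) = c then 1 else 0 := by
    intro c₀
    by_cases h1 : typ c₀ = β
    · rw [if_pos h1, Module.Basis.repr_self, Finsupp.single_apply]
      by_cases h2 : (fun i => k (c₀ i)) = c
      · rw [if_pos h2, if_pos ⟨h1, h2⟩]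
      · rw [if_neg h2, if_neg (fun h => h2 h.2)]
    · rw [if_neg h1, map_zero, if_neg (fun h => h1 h.1)]
      rfl
  simp_rw [hterm]
  by_cases hc : typK c = Finsupp.mapDomain k β
  · rw [if_pos hc]
    -- all values of `c` lie in the range of `k`
    have hrange : ∀ i, ∃ j, k j = c i := by
      intro i
      have h1 : typK c (c i) ≠ 0 := by
        rw [typK_apply]
        exact Finset.card_ne_zero.mpr ⟨i, by simp⟩
      rw [hc] at h1
      by_contra hcon
      push_neg at hcon
      apply h1
      apply Finsupp.mapDomain_notin_range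
      rintro ⟨j, hj⟩
      exact hcon j hj
    choose c₀ hc₀ using hrange
    have hc₀' : (fun i => k (c₀ i)) = c := funext hc₀
    have htyp : typ c₀ = β := by
      apply Finsupp.mapDomain_injective hk
      rw [← hc, ← hc₀']
      exact (typK_comp_injective k c₀).symm
    rw [Finset.sum_eq_single c₀]
    · rw [if_pos ⟨htyp, hc₀'⟩]
    · intro c₁ _ hne
      rw [if_neg]
      rintro ⟨_, h2⟩
      apply hne
      funext i
      apply hk
      rw [hc₀ i]
      exact congrFun h2 i
    · intro h
      exact absurd (Finset.mem_univ _) h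
  · rw [if_neg hc]
    apply Finset.sum_eq_zero
    intro c₀ _
    rw [if_neg]
    rintro ⟨h1, h2⟩
    apply hc
    rw [← h2, typK_comp_injective, ← h1]
    rfl

/-- the set of orbit sums in `TS` -/
def orbitSums : Set (SymTen.TS A B d) :=
  {o | ∃ (n : ℕ) (k : Fin n → K) (_ : Function.Injective k) (β : Fin n →₀ ℕ),
    o = PLCoeff.coeff (TSlaw A B d).law (fun j => e (k j)) β}

/-- the symmetric tensors of a free algebra are spanned by the orbit sums -/
theorem span_orbitSums : Submodule.span A (orbitSums e d) = ⊤ := by
  classical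
  rw [eq_top_iff]
  have key : ∀ (n : ℕ) (y : SymTen.TS A B d),
      ((bT e d).repr (y : ⨂[A] _ : Fin d, B)).support.card ≤ n →
      y ∈ Submodule.span A (orbitSums e d) := by
    intro n
    induction n with
    | zero =>
      intro y hy
      have h0 : (bT e d).repr (y : ⨂[A] _ : Fin d, B) = 0 := by
        rw [← Finsupp.support_eq_empty, ← Finset.card_eq_zero]
        exact Nat.le_zero.mp hy
      have : (y : ⨂[A] _ : Fin d, B) = 0 := by
        rwa [LinearEquiv.map_eq_zero_iff] at h0
      have hy0 : y = 0 := Subtype.ext this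
      rw [hy0]
      exact Submodule.zero_mem _
    | succ n ih =>
      intro y hy
      by_cases h0 : ((bT e d).repr (y : ⨂[A] _ : Fin d, B)).support = ∅
      · apply ih
        rw [h0]
        simp
      · obtain ⟨c, hc⟩ := Finset.nonempty_iff_ne_empty.mpr h0
        obtain ⟨m, k, c₀, hk, hkc⟩ := exists_compress (d := d) c
        let β : Fin m →₀ ℕ := typ c₀
        let o : SymTen.TS A B d := PLCoeff.coeff (TSlaw A B d).law (fun j => e (k j)) β
        have ho : o ∈ Submodule.span A (orbitSums e d) :=
          Submodule.subset_span ⟨m, k, hk, β, rfl⟩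
        have hcβ : typK c = Finsupp.mapDomain k β := by
          have : c = fun i => k (c₀ i) := funext hkc
          rw [this, typK_comp_injective]
          rfl
        let a : A := (bT e d).repr (y : ⨂[A] _ : Fin d, B) c
        let y' : SymTen.TS A B d := y - a • o
        have hrepr : ∀ c', (bT e d).repr (y' : ⨂[A] _ : Fin d, B) c' =
            if typK c' = typK c then 0 else (bT e d).repr (y : ⨂[A] _ : Fin d, B) c' := by
          intro c'
          have : (y' : ⨂[A] _ : Fin d, B) = (y : ⨂[A] _ : Fin d, B) - a • (o : ⨂[A] _ : Fin d, B) :=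
            rfl
          rw [this, map_sub, map_smul, Finsupp.sub_apply, Finsupp.smul_apply,
            repr_val_coeff_TSlaw_basis e d k hk β c', ← hcβ]
          by_cases h : typK c' = typK c
          · rw [if_pos h, if_pos h, smul_eq_mul, mul_one,
              repr_eq_of_typK_eq e d y.2 c c' h.symm, sub_self]
          · rw [if_neg h, if_neg h, smul_zero, sub_zero]
        have hsub : ((bT e d).repr (y' : ⨂[A] _ : Fin d, B)).support ⊆
            ((bT e d).repr (y : ⨂[A] _ : Fin d, B)).support.erase c := by
          intro c' hc'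
          rw [Finsupp.mem_support_iff, hrepr c'] at hc'
          rw [Finset.mem_erase, Finsupp.mem_support_iff]
          by_cases h : typK c' = typK c
          · rw [if_pos h] at hc'
            exact absurd rfl hc'
          · rw [if_neg h] at hc'
            refine ⟨?_, hc'⟩
            rintro rfl
            exact h rfl
        have hcard : ((bT e d).repr (y' : ⨂[A] _ : Fin d, B)).support.card ≤ n := by
          have h1 := Finset.card_le_card hsub
          rw [Finset.card_erase_of_mem hc] at h1
          omega
        have hy' := ih y' hcard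
        have : y = y' + a • o := by
          simp [y']
        rw [this]
        exact Submodule.add_mem _ hy' (Submodule.smul_mem _ _ ho)
  intro y _
  exact key _ y le_rfl

end OrbitSum

end Groth.Agent.Lib.Helper20.PLFree
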