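import Mathlib
import Groth.Prelude.Def_PolLaw
import Groth.Prelude.Def_SymTen
import Groth.Agent.Lib.Helper20.PLCoeff
import Groth.Agent.Lib.Helper20.PLPolar
import Groth.Agent.Lib.Helper20.PLPolar2
import Groth.Agent.Lib.Helper20.PLPolar3
import Groth.Agent.Lib.Helper20.PLSpan

/-!
# `Γ^d_A(B) → TS^d_A(B)`: kernel and cokernel are killed by `d!`
-/

namespace Groth.Agent.Lib.Helper20.PLGamma

open scoped TensorProduct
open MvPolynomial Groth.Agent.Lib.Helper20.PLCoeff Groth.Agent.Lib.Helper20.PLPolar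
  Groth.Agent.Lib.Helper20.PLSpan

universe u

section Equiv

variable {A : Type u} [CommRing A] {M N : Type u} [AddCommGroup M] [Module A M]
  [AddCommGroup N] [Module A N]

theorem ext1_rename_of_injective {ι κ : Type} (f : ι → κ) (hf : Function.Injective f)
    (z : MvPolynomial ι A ⊗[A] N) (β : ι →₀ ℕ) :
    ext1 (Finsupp.mapDomain f β)
      ((rename f : MvPolynomial ι A →ₐ[A] MvPolynomial κ A).toLinearMap.rTensor N z) =
      ext1 β z := by
  classical
  have hsub : supp z ⊆ insert β (supp z) := Finset.subset_insert _ _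
  rw [rTensor_rename_eq_sum' f z hsub, map_sum, Finset.sum_eq_single β]
  · rw [ext1_tmul, coeff_monomial, if_pos rfl, one_smul]
  · intro β' _ hβ'
    rw [ext1_tmul, coeff_monomial, if_neg, zero_smul]
    intro h
    exact hβ' (Finsupp.mapDomain_injective hf h)
  · intro h
    exact absurd (Finset.mem_insert_self _ _) h

/-- transport of coefficients along an equivalence of index types -/
theorem coeff_equiv (F : M →ₚₗ[A] N) {ι κ : Type} [Fintype ι] [Fintype κ] (e : ι ≃ κ)
    (m : ι → M) (β : ι →₀ ℕ) :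
    PLCoeff.coeff F m β = PLCoeff.coeff F (fun j => m (e.symm j)) (Finsupp.mapDomain e β) := by
  unfold PLCoeff.coeff
  have hgen : (rename e : MvPolynomial ι A →ₐ[A] MvPolynomial κ A).toLinearMap.rTensor M (gen m) =
      gen (fun j => m (e.symm j)) := by
    unfold gen
    rw [map_sum, ← Equiv.sum_comp e]
    refine Finset.sum_congr rfl (fun i _ => ?_)
    rw [LinearMap.rTensor_tmul, AlgHom.toLinearMap_apply, rename_X]
    simp
  rw [← hgen, ← PolynomialLaw.isCompat_apply', ext1_rename_of_injective _ e.injective]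

/-- the coefficient span is spanned by the coefficients at `Fin n`-indexed families -/
theorem coeffSpan_le_fin (F : M →ₚₗ[A] N) (p : Submodule A N)
    (h : ∀ (n : ℕ) (b : Fin n → M) (β : Fin n →₀ ℕ), PLCoeff.coeff F b β ∈ p) :
    coeffSpan F ≤ p := by
  unfold coeffSpan
  rw [Submodule.span_le]
  rintro _ ⟨ι, _, m, β, rfl⟩
  rw [coeff_equiv F (Fintype.equivFin ι) m β]
  exact h _ _ _

end Equiv

section Main

variable {A B C : Type u} [CommRing A] [CommRing B] [Algebra A B] [CommRing C] [Algebra A C]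

/-- the canonical hypothesis on `φ : Γ^d(B) → TS^d(B)` -/
def IsCanonical {d : ℕ} (γ : PolLaw.MulLaw A B C d) (φ : C →ₐ[A] SymTen.TS A B d) : Prop :=
  ∀ (S : Type u) [CommSemiring S] [Algebra A S] (n : ℕ) (s : Fin n → S) (b : Fin n → B),
    ((SymTen.TS A B d).val.comp φ).toLinearMap.lTensor S (γ.law.toFun' S (∑ j, s j ⊗ₜ[A] b j)) =
      ∑ c : Fin d → Fin n, (∏ i, s (c i)) ⊗ₜ[A] PiTensorProduct.tprod A (fun i => b (c i))

variable {d : ℕ} (γ : PolLaw.MulLaw A B C d) (φ : C →ₐ[A] SymTen.TS A B d)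

/-- `φ ∘ ψ` is the symmetrization -/
theorem val_phi_polLin (hφ : IsCanonical γ φ) (z : ⨂[A] _ : Fin d, B) :
    ((SymTen.TS A B d).val.comp φ).toLinearMap (polLin γ.law d z) =
      ∑ σ : Equiv.Perm (Fin d), SymTen.perm A B d σ z := by
  induction z using PiTensorProduct.induction_on with
  | smul_tprod r b =>
    rw [map_smul, map_smul, polLin_of_tensorPowerLike γ.law _ d
      (fun m => PiTensorProduct.tprod A m) hφ b]
    have e1 : ∑ σ : Equiv.Perm (Fin d), SymTen.perm A B d σ (r • PiTensorProduct.tprod A b) =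
        r • ∑ σ : Equiv.Perm (Fin d), PiTensorProduct.tprod A (fun i => b (σ.symm i)) := by
      rw [Finset.smul_sum]
      refine Finset.sum_congr rfl (fun σ _ => ?_)
      rw [map_smul, SymTen.perm_tprod]
    rw [e1]
    congr 1
    exact (Equiv.sum_comp (Equiv.inv (Equiv.Perm (Fin d)))
      (fun σ => (PiTensorProduct.tprod A) fun i => b (σ i))).symm
  | add x y hx hy =>
    rw [map_add, map_add, hx, hy, ← Finset.sum_add_distrib]
    simp only [map_add]

/-- `ψ ∘ φ` is multiplication by `d!` on coefficients -/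
theorem polLin_val_phi_coeff (hφ : IsCanonical γ φ) {n : ℕ} (b : Fin n → B) (β : Fin n →₀ ℕ) :
    polLin γ.law d (((SymTen.TS A B d).val.comp φ).toLinearMap (PLCoeff.coeff γ.law b β)) =
      (d.factorial : A) • PLCoeff.coeff γ.law b β := by
  classical
  rw [← coeff_postcomp, coeff_of_tensorPowerLike
    (PolLaw.postcomp ((SymTen.TS A B d).val.comp φ).toLinearMap γ.law) d
    (fun m => PiTensorProduct.tprod A m) hφ b β, map_sum, ← sum_pol0_eq γ.law γ.homog b β]
  refine Finset.sum_congr rfl (fun c _ => ?_)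
  by_cases hc : typ c = β
  · rw [if_pos hc, if_pos hc, polLin_tprod]
    rfl
  · rw [if_neg hc, if_neg hc, map_zero]

/-- `ψ ∘ φ` is multiplication by `d!` -/
theorem polLin_val_phi (hγ : PolLaw.IsGammaD γ) (hφ : IsCanonical γ φ) (x : C) :
    polLin γ.law d (((SymTen.TS A B d).val.comp φ).toLinearMap x) = (d.factorial : A) • x := by
  let p : Submodule A C := LinearMap.ker
    ((polLin γ.law d) ∘ₗ ((SymTen.TS A B d).val.comp φ).toLinearMap -
      (d.factorial : A) • LinearMap.id)
  have hp : coeffSpan γ.law ≤ p := by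
    apply coeffSpan_le_fin
    intro n b β
    change _ = _
    rw [LinearMap.sub_apply, LinearMap.comp_apply, polLin_val_phi_coeff γ φ hφ b β]
    simp
  have hx : x ∈ p := hp (by rw [coeffSpan_eq_top γ hγ]; trivial)
  have : _ = _ := hx
  rw [LinearMap.sub_apply, LinearMap.comp_apply, sub_eq_zero] at this
  rw [this]
  simp

theorem main (hγ : PolLaw.IsGammaD γ) (hφ : IsCanonical γ φ) :
    (∀ x : C, φ x = 0 → d.factorial • x = 0) ∧
      (∀ y : SymTen.TS A B d, d.factorial • y ∈ φ.range) := by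
  constructor
  · intro x hx
    have h := polLin_val_phi γ φ hγ hφ x
    have h0 : ((SymTen.TS A B d).val.comp φ).toLinearMap x = 0 := by
      change ((φ x : SymTen.TS A B d) : ⨂[A] _ : Fin d, B) = 0
      rw [hx]
      rfl
    rw [h0, map_zero] at h
    rw [← Nat.cast_smul_eq_nsmul A]
    exact h.symm
  · intro y
    refine ⟨polLin γ.law d (y : ⨂[A] _ : Fin d, B), ?_⟩
    show φ (polLin γ.law d (y : ⨂[A] _ : Fin d, B)) = d.factorial • y
    apply Subtype.ext
    have h := val_phi_polLin γ φ hφ (y : ⨂[A] _ : Fin d, B)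
    change ((φ _ : SymTen.TS A B d) : ⨂[A] _ : Fin d, B) = _ at h
    rw [h]
    have hy : ∀ σ : Equiv.Perm (Fin d), SymTen.perm A B d σ (y : ⨂[A] _ : Fin d, B) = y := by
      intro σ
      rw [SymTen.perm_apply]
      exact y.2 σ
    simp only [hy, Finset.sum_const, Finset.card_univ, Fintype.card_perm, Fintype.card_fin]
    rfl

end Main

end Groth.Agent.Lib.Helper20.PLGamma
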