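import Mathlib
import Groth.Prelude.Def_PolLaw
import Groth.Agent.Lib.Helper20.PLCoeff
import Groth.Agent.Lib.Helper20.PLCorestrict
import Groth.Agent.Lib.Helper20.PLPolar
import Groth.Agent.Lib.Helper20.PLPolar2
import Groth.Agent.Lib.Helper20.PLPolar3
import Groth.Agent.Lib.Helper20.PLGamma

/-!
# Coefficients at subfamilies, vanishing of coefficients of the wrong degree
-/

namespace Groth.Agent.Lib.Helper20.PLSub

open scoped TensorProduct
open MvPolynomial Groth.Agent.Lib.Helper20.PLCoeff Groth.Agent.Lib.Helper20.PLPolar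
  Groth.Agent.Lib.Helper20.PLCorestrict Groth.Agent.Lib.Helper20.PLGamma

universe u

section Sub

variable {A : Type u} [CommRing A] {M N : Type u} [AddCommGroup M] [Module A M]
  [AddCommGroup N] [Module A N]

/-- coefficients at a subfamily -/
theorem coeff_comp_injective (F : M →ₚₗ[A] N) {ι κ : Type} [Fintype ι] [Fintype κ] (j : ι → κ)
    (hj : Function.Injective j) (m : κ → M) (β : ι →₀ ℕ) :
    PLCoeff.coeff F (fun i => m (j i)) β = PLCoeff.coeff F m (Finsupp.mapDomain j β) := by
  classical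
  let a : κ → A := fun k => if k ∈ Set.range j then 1 else 0
  have hgen : (rename j : MvPolynomial ι A →ₐ[A] MvPolynomial κ A).toLinearMap.rTensor M
      (gen (fun i => m (j i))) = ∑ k, monomial (Finsupp.single k 1) (a k) ⊗ₜ[A] m k := by
    unfold gen
    rw [map_sum]
    have h1 : ∀ i, (rename j : MvPolynomial ι A →ₐ[A] MvPolynomial κ A).toLinearMap.rTensor M
        (X i ⊗ₜ[A] m (j i)) = (fun k => monomial (Finsupp.single k 1) (a k) ⊗ₜ[A] m k) (j i) := by
      intro i
      rw [LinearMap.rTensor_tmul, AlgHom.toLinearMap_apply, rename_X]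
      simp only [a, Set.mem_range_self, if_true]
      rfl
    simp_rw [h1]
    rw [← Finset.sum_image (f := fun k => monomial (Finsupp.single k 1) (a k) ⊗ₜ[A] m k)
      (s := Finset.univ) (g := j) (fun x _ y _ h => hj h)]
    apply Finset.sum_subset (Finset.subset_univ _)
    intro k _ hk
    have : k ∉ Set.range j := by
      rintro ⟨i, rfl⟩
      exact hk (Finset.mem_image_of_mem j (Finset.mem_univ i))
    simp only [a, this, if_false, monomial_zero, TensorProduct.zero_tmul]
  have h2 := ext1_rename_of_injective j hj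
    (F.toFun' (MvPolynomial ι A) (gen (fun i => m (j i)))) β
  unfold PLCoeff.coeff
  rw [← h2, PolynomialLaw.isCompat_apply', hgen,
    ext1_toFun'_monomial_sum F m _ a (Finset.Subset.refl _)]
  have hL : ∀ ν : κ →₀ ℕ, (∑ k, ν k • Finsupp.single k 1) = ν := fun ν => Lf_id ν
  simp_rw [hL]
  rw [Finset.sum_ite_eq' (csupp F m) (Finsupp.mapDomain j β)]
  have hprod : ∏ k, a k ^ (Finsupp.mapDomain j β) k = 1 := by
    apply Finset.prod_eq_one
    intro k _
    by_cases hk : k ∈ Set.range j
    · simp only [a, hk, if_true, one_pow]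
    · rw [Finsupp.mapDomain_notin_range _ _ hk, pow_zero]
  split_ifs with h
  · rw [hprod, one_smul]
    rfl
  · exact (coeff_eq_zero_of_notMem h).symm

/-- the coefficient at a family of the form `e ∘ k`, `k` injective, only depends on the
push-forward of the exponent -/
theorem coeff_eq_of_mapDomain_eq {K : Type*} (F : M →ₚₗ[A] N) (e : K → M) {ι₁ ι₂ : Type}
    [Fintype ι₁] [Fintype ι₂] (k₁ : ι₁ → K) (hk₁ : Function.Injective k₁) (k₂ : ι₂ → K)
    (hk₂ : Function.Injective k₂) (β₁ : ι₁ →₀ ℕ) (β₂ : ι₂ →₀ ℕ)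
    (h : Finsupp.mapDomain k₁ β₁ = Finsupp.mapDomain k₂ β₂) :
    PLCoeff.coeff F (fun i => e (k₁ i)) β₁ = PLCoeff.coeff F (fun i => e (k₂ i)) β₂ := by
  classical
  let s : Finset K := Finset.univ.image k₁ ∪ Finset.univ.image k₂
  have hm₁ : ∀ i, k₁ i ∈ s := fun i =>
    Finset.mem_union_left _ (Finset.mem_image_of_mem k₁ (Finset.mem_univ i))
  have hm₂ : ∀ i, k₂ i ∈ s := fun i =>
    Finset.mem_union_right _ (Finset.mem_image_of_mem k₂ (Finset.mem_univ i))
  let k₃ : Fin s.card → K := fun j => (s.equivFin.symm j : K)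
  have hk₃ : Function.Injective k₃ := fun j j' h => s.equivFin.symm.injective (Subtype.ext h)
  let j₁ : ι₁ → Fin s.card := fun i => s.equivFin ⟨k₁ i, hm₁ i⟩
  let j₂ : ι₂ → Fin s.card := fun i => s.equivFin ⟨k₂ i, hm₂ i⟩
  have hj₁ : ∀ i, k₃ (j₁ i) = k₁ i := fun i => by simp [k₃, j₁]
  have hj₂ : ∀ i, k₃ (j₂ i) = k₂ i := fun i => by simp [k₃, j₂]
  have hinj₁ : Function.Injective j₁ := by
    intro i i' h
    apply hk₁
    rw [← hj₁, ← hj₁, h]
  have hinj₂ : Function.Injective j₂ := by
    intro i i' h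
    apply hk₂
    rw [← hj₂, ← hj₂, h]
  have e₁ : (fun i => e (k₁ i)) = fun i => (fun j => e (k₃ j)) (j₁ i) := by
    funext i
    show e (k₁ i) = e (k₃ (j₁ i))
    rw [hj₁]
  have e₂ : (fun i => e (k₂ i)) = fun i => (fun j => e (k₃ j)) (j₂ i) := by
    funext i
    show e (k₂ i) = e (k₃ (j₂ i))
    rw [hj₂]
  rw [e₁, e₂, coeff_comp_injective F j₁ hinj₁ (fun j => e (k₃ j)),
    coeff_comp_injective F j₂ hinj₂ (fun j => e (k₃ j))]
  congr 1
  apply Finsupp.mapDomain_injective hk₃
  rw [← Finsupp.mapDomain_comp, ← Finsupp.mapDomain_comp]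
  have c₁ : k₃ ∘ j₁ = k₁ := funext hj₁
  have c₂ : k₃ ∘ j₂ = k₂ := funext hj₂
  rw [c₁, c₂, h]

end Sub

section Degree

variable {A : Type u} [CommRing A] {M N : Type u} [AddCommGroup M] [Module A M]
  [AddCommGroup N] [Module A N]

theorem sum_smul_single_add {ι : Type} [Fintype ι] (ν : ι →₀ ℕ) :
    ∑ i, ν i • (Finsupp.single (Sum.inl i : ι ⊕ Unit) 1 + Finsupp.single (Sum.inr ()) 1) =
      Finsupp.mapDomain Sum.inl ν +
        Finsupp.mapDomain Sum.inr (Finsupp.single () (∑ i, ν i)) := by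
  simp only [smul_add, Finset.sum_add_distrib, Finsupp.smul_single, smul_eq_mul, mul_one]
  congr 1
  · rw [Finsupp.mapDomain, Finsupp.sum_fintype]
    intro i
    simp
  · rw [Finsupp.mapDomain_single, Finsupp.single_finset_sum]

/-- coefficients of a law homogeneous of degree `d` vanish at exponents of total degree `≠ d` -/
theorem coeff_eq_zero_of_sum_ne (F : M →ₚₗ[A] N) {d : ℕ} (hF : PolLaw.IsHomog F d) {ι : Type}
    [Fintype ι] (m : ι → M) (β : ι →₀ ℕ) (hβ : ∑ i, β i ≠ d) : PLCoeff.coeff F m β = 0 := by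
  classical
  let μ : ι → (ι ⊕ Unit →₀ ℕ) := fun i =>
    Finsupp.single (Sum.inl i) 1 + Finsupp.single (Sum.inr ()) 1
  let β' : ι ⊕ Unit →₀ ℕ := Finsupp.mapDomain Sum.inl β +
    Finsupp.mapDomain Sum.inr (Finsupp.single () (∑ i, β i))
  let w : MvPolynomial (ι ⊕ Unit) A ⊗[A] M := ∑ i, monomial (μ i) (1 : A) ⊗ₜ[A] m i
  have hw : w = (X (Sum.inr ()) : MvPolynomial (ι ⊕ Unit) A) •
      (rename Sum.inl : MvPolynomial ι A →ₐ[A] MvPolynomial (ι ⊕ Unit) A).toLinearMap.rTensor M
        (gen m) := by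
    unfold gen
    rw [map_sum, Finset.smul_sum]
    refine Finset.sum_congr rfl (fun i _ => ?_)
    rw [LinearMap.rTensor_tmul, AlgHom.toLinearMap_apply, rename_X, TensorProduct.smul_tmul',
      smul_eq_mul, MvPolynomial.X, MvPolynomial.X, monomial_mul, one_mul, add_comm]
  -- first computation: via the master formula
  have h1 : ext1 β' (F.toFun' _ w) = PLCoeff.coeff F m β := by
    rw [ext1_toFun'_monomial_sum F m μ (fun _ => (1 : A)) (Finset.Subset.refl _) β']
    have hcond : ∀ ν : ι →₀ ℕ, (∑ i, ν i • μ i = β') ↔ ν = β := by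
      intro ν
      rw [sum_smul_single_add]
      constructor
      · intro h
        exact (PLSpan.mapDomain_inl_add_inr_inj _ _ _ _ h).1
      · rintro rfl
        rfl
    simp_rw [hcond]
    rw [Finset.sum_ite_eq' (csupp F m) β]
    split_ifs with h
    · simp
    · exact (coeff_eq_zero_of_notMem h).symm
  -- second computation: via homogeneity
  have h2 : ext1 β' (F.toFun' _ w) = 0 := by
    rw [hw, hF, ← PolynomialLaw.isCompat_apply']
    set z := F.toFun' (MvPolynomial ι A) (gen m) with hz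
    rw [rTensor_rename_eq_sum' _ z (Finset.Subset.refl _), Finset.smul_sum, map_sum]
    apply Finset.sum_eq_zero
    intro ν _
    have hX : (X (Sum.inr ()) : MvPolynomial (ι ⊕ Unit) A) ^ d =
        rename Sum.inr ((X () : MvPolynomial Unit A) ^ d) := by
      rw [map_pow, rename_X]
    rw [TensorProduct.smul_tmul', smul_eq_mul, ext1_tmul, hX, ← rename_monomial, mul_comm,
      coeff_mul_rename, MvPolynomial.coeff_X_pow, if_neg, mul_zero, zero_smul]
    intro h
    apply hβ
    have := DFunLike.congr_fun h ()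
    simpa using this.symm
  rw [← h1, h2]

/-- existence of a map of a given type -/
theorem exists_typ_eq {ι : Type} [Fintype ι] {d : ℕ} (β : ι →₀ ℕ) (hβ : ∑ i, β i = d) :
    ∃ c : Fin d → ι, typ c = β := by
  classical
  have hcard : Fintype.card (Σ i : ι, Fin (β i)) = d := by
    rw [Fintype.card_sigma]
    simp [hβ]
  let e : (Σ i : ι, Fin (β i)) ≃ Fin d := Fintype.equivFinOfCardEq hcard
  refine ⟨fun x => (e.symm x).1, ?_⟩
  ext j
  rw [typ_apply]
  have h1 : (Finset.univ.filter (fun x : Fin d => (e.symm x).1 = j)).card =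
      (Finset.univ.filter (fun s : (Σ i : ι, Fin (β i)) => s.1 = j)).card := by
    apply Finset.card_bij (fun x _ => e.symm x)
    · intro x hx
      rw [Finset.mem_filter] at hx ⊢
      exact ⟨Finset.mem_univ _, hx.2⟩
    · intro x _ y _ h
      exact e.symm.injective h
    · intro s hs
      rw [Finset.mem_filter] at hs
      refine ⟨e s, ?_, by simp⟩
      rw [Finset.mem_filter]
      exact ⟨Finset.mem_univ _, by simpa using hs.2⟩
  rw [h1]
  have h2 : (Finset.univ.filter (fun s : (Σ i : ι, Fin (β i)) => s.1 = j)).card =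
      Fintype.card (Fin (β j)) := by
    rw [← Fintype.card_subtype]
    exact Fintype.card_congr (Equiv.sigmaSubtype j)
  rw [h2, Fintype.card_fin]

end Degree

end Groth.Agent.Lib.Helper20.PLSub
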