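import Mathlib
import Groth.Prelude.Def_PolLaw
import Groth.Prelude.Def_SymTen
import Groth.Agent.Lib.Helper20.PLCoeff
import Groth.Agent.Lib.Helper20.PLCorestrict
import Groth.Agent.Lib.Helper20.PLPolar
import Groth.Agent.Lib.Helper20.PLPolar2
import Groth.Agent.Lib.Helper20.PLPolar3
import Groth.Agent.Lib.Helper20.PLSpan
import Groth.Agent.Lib.Helper20.PLGamma
import Groth.Agent.Lib.Helper20.PLTS
import Groth.Agent.Lib.Helper20.PLSub
import Groth.Agent.Lib.Helper20.PLFree

/-!
# The symmetric tensors of a free algebra are the divided powers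
-/

namespace Groth.Agent.Lib.Helper20.PLFree

open scoped TensorProduct
open MvPolynomial Groth.Agent.Lib.Helper20.PLCoeff Groth.Agent.Lib.Helper20.PLPolar
  Groth.Agent.Lib.Helper20.PLCorestrict Groth.Agent.Lib.Helper20.PLTS
  Groth.Agent.Lib.Helper20.PLSub Groth.Agent.Lib.Helper20.PLSpan
  Groth.Agent.Lib.Helper20.PLGamma

universe u

section Determination

variable {A : Type u} [CommRing A] {M N : Type u} [AddCommGroup M] [Module A M]
  [AddCommGroup N] [Module A N]

/-- the value of a law at a generic element, for a family given by linear combinations -/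
theorem toFun'_gen_linComb (F : M →ₚₗ[A] N) {ι κ : Type} [Fintype ι] [Fintype κ] (m : ι → M)
    (e' : κ → M) (a : ι → κ → A) (hm : ∀ i, m i = ∑ k, a i k • e' k) {t : Finset (κ →₀ ℕ)}
    (ht : csupp F e' ⊆ t) :
    F.toFun' (MvPolynomial ι A) (gen m) =
      ∑ β ∈ t, (aeval (fun k => ∑ i, a i k • (X i : MvPolynomial ι A)) (monomial β (1 : A))) ⊗ₜ[A]
        PLCoeff.coeff F e' β := by
  have hgen : gen m = ∑ k, (∑ i, a i k • (X i : MvPolynomial ι A)) ⊗ₜ[A] e' k := by
    unfold gen
    simp_rw [TensorProduct.sum_tmul]
    rw [Finset.sum_comm]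
    refine Finset.sum_congr rfl (fun i _ => ?_)
    rw [hm i, TensorProduct.tmul_sum]
    refine Finset.sum_congr rfl (fun k _ => ?_)
    rw [TensorProduct.tmul_smul, TensorProduct.smul_tmul']
  rw [hgen, toFun'_sum_tmul F e' _ _ ht]

/-- a law on a free module is determined by its coefficients at injective families of basis
vectors -/
theorem ext_of_basis {K : Type u} (e : Module.Basis K A M) {F₁ F₂ : M →ₚₗ[A] N}
    (h : ∀ (n : ℕ) (k : Fin n → K), Function.Injective k → ∀ β : Fin n →₀ ℕ,
      PLCoeff.coeff F₁ (fun j => e (k j)) β = PLCoeff.coeff F₂ (fun j => e (k j)) β) :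
    F₁ = F₂ := by
  classical
  apply ext_gen
  intro ι _ m
  let s : Finset K := Finset.univ.biUnion (fun i => (e.repr (m i)).support)
  let k : Fin s.card → K := fun j => (s.equivFin.symm j : K)
  have hk : Function.Injective k := fun j j' h => s.equivFin.symm.injective (Subtype.ext h)
  let a : ι → Fin s.card → A := fun i j => e.repr (m i) (k j)
  have hm : ∀ i, m i = ∑ j, a i j • e (k j) := by
    intro i
    conv_lhs => rw [← e.linearCombination_repr (m i), Finsupp.linearCombination_apply,
      Finsupp.sum]
    have hsub : (e.repr (m i)).support ⊆ s := by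
      intro κ hκ
      exact Finset.mem_biUnion.mpr ⟨i, Finset.mem_univ i, hκ⟩
    rw [Finset.sum_subset hsub (fun κ _ hκ => by
      rw [Finsupp.notMem_support_iff.mp hκ, zero_smul])]
    rw [← Finset.sum_coe_sort s]
    exact (Equiv.sum_comp s.equivFin.symm (fun x : s => e.repr (m i) x • e x)).symm
  rw [toFun'_gen_linComb F₁ m (fun j => e (k j)) a hm
      (t := csupp F₁ (fun j => e (k j)) ∪ csupp F₂ (fun j => e (k j))) Finset.subset_union_left,
    toFun'_gen_linComb F₂ m (fun j => e (k j)) a hm
      (t := csupp F₁ (fun j => e (k j)) ∪ csupp F₂ (fun j => e (k j))) Finset.subset_union_right]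
  refine Finset.sum_congr rfl (fun β _ => ?_)
  rw [h _ k hk β]

end Determination

section Existence

variable {A : Type u} [CommRing A] {B : Type u} [CommRing B] [Algebra A B]
  {K : Type u} (e : Module.Basis K A B) (d : ℕ) {N : Type u} [AddCommGroup N] [Module A N]
  (G : B →ₚₗ[A] N)

/-- a chosen representative of the maps of a given type -/
noncomputable def repα (α : K →₀ ℕ) (h : ∃ c' : Fin d → K, typK c' = α) : Fin d → K := h.choose

/-- a chosen representative of the orbit of a map -/
noncomputable def rep (c : Fin d → K) : Fin d → K := repα d (typK c) ⟨c, rfl⟩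

theorem typK_rep (c : Fin d → K) : typK (rep d c) = typK c :=
  (⟨c, rfl⟩ : ∃ c' : Fin d → K, typK c' = typK c).choose_spec

theorem rep_eq_of_typK_eq (c c' : Fin d → K) (h : typK c = typK c') : rep d c = rep d c' := by
  have : ∀ (α α' : K →₀ ℕ) (hα : ∃ c' : Fin d → K, typK c' = α)
      (hα' : ∃ c' : Fin d → K, typK c' = α'), α = α' → repα d α hα = repα d α' hα' := by
    intro α α' hα hα' h
    subst h
    rfl
  exact this _ _ _ _ h

/-- the coefficient of `G` attached to a map `c : Fin d → K` -/
noncomputable def gc (c : Fin d → K) : N :=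
  PLCoeff.coeff G (fun j => e ((exists_compress (d := d) c).choose_spec.choose j))
    (typ (exists_compress (d := d) c).choose_spec.choose_spec.choose)

theorem gc_eq (c : Fin d → K) {ι : Type} [Fintype ι] (k : ι → K) (hk : Function.Injective k)
    (β : ι →₀ ℕ) (h : Finsupp.mapDomain k β = typK c) :
    gc e d G c = PLCoeff.coeff G (fun j => e (k j)) β := by
  unfold gc
  obtain ⟨hk', hc⟩ := (exists_compress (d := d) c).choose_spec.choose_spec.choose_spec
  apply coeff_eq_of_mapDomain_eq G e _ hk' k hk
  rw [h]
  have : c = fun i => (exists_compress (d := d) c).choose_spec.choose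
      ((exists_compress (d := d) c).choose_spec.choose_spec.choose i) := funext hc
  conv_rhs => rw [this]
  exact (typK_comp_injective _ _).symm

theorem exists_factor {ι : Type} [Fintype ι] (k : ι → K) (hk : Function.Injective k)
    (β : ι →₀ ℕ) (c : Fin d → K) (hc : typK c = Finsupp.mapDomain k β) :
    ∃ c₂ : Fin d → ι, (∀ i, k (c₂ i) = c i) ∧ typ c₂ = β := by
  classical
  have hrange : ∀ i, ∃ j, k j = c i := by
    intro i
    have h1 : typK c (c i) ≠ 0 := by
      rw [typK_apply]
      exact Finset.card_ne_zero.mpr ⟨i, by simp⟩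
    rw [hc] at h1
    by_contra hcon
    push_neg at hcon
    apply h1
    apply Finsupp.mapDomain_notin_range
    rintro ⟨j, hj⟩
    exact hcon j hj
  choose c₀ hc₀ using hrange
  refine ⟨c₀, hc₀, ?_⟩
  apply Finsupp.mapDomain_injective hk
  rw [← hc, ← funext hc₀]
  exact (typK_comp_injective k c₀).symm

theorem sum_typ {ι : Type} [Fintype ι] (c : Fin d → ι) : ∑ j, typ c j = d := by
  classical
  unfold typ
  simp_rw [Finsupp.finset_sum_apply]
  rw [Finset.sum_comm]
  simp [Finsupp.single_apply]

/-- the linear map on the tensor power inducing the factorization -/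
noncomputable def fT : (⨂[A] _ : Fin d, B) →ₗ[A] N :=
  (bT e d).constr A (fun c => by
    classical
    exact if c = rep d c then gc e d G c else 0)

theorem fT_bT (c : Fin d → K) [Decidable (c = rep d c)] :
    fT e d G (bT e d c) = if c = rep d c then gc e d G c else 0 := by
  unfold fT
  rw [Module.Basis.constr_basis]
  congr

/-- the factorization through the symmetric tensors -/
noncomputable def fTS : SymTen.TS A B d →ₗ[A] N :=
  fT e d G ∘ₗ (SymTen.TS A B d).val.toLinearMap

theorem fTS_coeff (hG : PolLaw.IsHomog G d) {ι : Type} [Fintype ι] (k : ι → K)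
    (hk : Function.Injective k) (β : ι →₀ ℕ) :
    fTS e d G (PLCoeff.coeff (TSlaw A B d).law (fun j => e (k j)) β) =
      PLCoeff.coeff G (fun j => e (k j)) β := by
  classical
  unfold fTS
  rw [LinearMap.comp_apply]
  change fT e d G ((PLCoeff.coeff (TSlaw A B d).law (fun j => e (k j)) β : SymTen.TS A B d) :
    ⨂[A] _ : Fin d, B) = _
  rw [val_coeff_TSlaw_basis, map_sum]
  by_cases hβ : ∑ j, β j = d
  · obtain ⟨c₁, hc₁⟩ := exists_typ_eq β hβ
    let r : Fin d → K := rep d (fun i => k (c₁ i))
    have hr : typK r = Finsupp.mapDomain k β := by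
      rw [typK_rep, typK_comp_injective, ← hc₁]
      rfl
    obtain ⟨c₂, hc₂, hc₂'⟩ := exists_factor d k hk β r hr
    rw [Finset.sum_eq_single c₂]
    · rw [if_pos hc₂', fT_bT]
      have hrep : rep d (fun i => k (c₂ i)) = r := by
        apply rep_eq_of_typK_eq
        rw [typK_comp_injective k c₂, typK_comp_injective k c₁, typK_eq_typ, typK_eq_typ,
          hc₂', hc₁]
      rw [if_pos]
      · apply gc_eq e d G _ k hk β
        rw [typK_comp_injective, ← hc₂']
        rfl
      · rw [hrep]
        exact funext hc₂
    · intro c₀ _ hne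
      by_cases h0 : typ c₀ = β
      · rw [if_pos h0, fT_bT, if_neg]
        intro h
        apply hne
        have hrep : rep d (fun i => k (c₀ i)) = r := by
          apply rep_eq_of_typK_eq
          rw [typK_comp_injective k c₀, typK_comp_injective k c₁, typK_eq_typ, typK_eq_typ,
            h0, hc₁]
        rw [hrep] at h
        funext i
        apply hk
        rw [hc₂ i]
        exact congrFun h i
      · rw [if_neg h0, map_zero]
    · intro h
      exact absurd (Finset.mem_univ _) h
  · rw [coeff_eq_zero_of_sum_ne G hG _ β hβ]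
    apply Finset.sum_eq_zero
    intro c₀ _
    rw [if_neg, map_zero]
    intro h
    apply hβ
    rw [← h]
    exact sum_typ d c₀

/-- existence of the factorization -/
theorem postcomp_fTS (hG : PolLaw.IsHomog G d) :
    PolLaw.postcomp (fTS e d G) (TSlaw A B d).law = G := by
  apply ext_of_basis e
  intro n k hk β
  rw [coeff_postcomp]
  exact fTS_coeff e d G hG k hk β

include e in
/-- uniqueness of the factorization -/
theorem unique_linear (f₁ f₂ : SymTen.TS A B d →ₗ[A] N)
    (h : PolLaw.postcomp f₁ (TSlaw A B d).law = PolLaw.postcomp f₂ (TSlaw A B d).law) :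
    f₁ = f₂ := by
  apply LinearMap.ext_on (span_orbitSums e d)
  rintro _ ⟨n, k, _, β, rfl⟩
  rw [← coeff_postcomp, ← coeff_postcomp, h]

include e in
theorem coeffSpan_TSlaw_eq_top : coeffSpan (TSlaw A B d).law = ⊤ := by
  rw [eq_top_iff, ← span_orbitSums e d]
  apply Submodule.span_mono
  rintro _ ⟨n, k, _, β, rfl⟩
  exact ⟨Fin n, inferInstance, _, β, rfl⟩

end Existence

end Groth.Agent.Lib.Helper20.PLFree
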