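import Mathlib
import Groth.Prelude.Def_PolLaw
import Groth.Prelude.Def_SymTen
import Groth.Agent.Lib.Helper20.PLCoeff
import Groth.Agent.Lib.Helper20.PLCorestrict
import Groth.Agent.Lib.Helper20.PLSpan
import Groth.Agent.Lib.Helper20.PLTS
import Groth.Agent.Lib.Helper20.PLFree
import Groth.Agent.Lib.Helper20.PLFree2

/-!
# `TS^d_A(B)` is `Γ^d_A(B)` for `B` free over `A`
-/

namespace Groth.Agent.Lib.Helper20.PLFree

open scoped TensorProduct
open MvPolynomial Groth.Agent.Lib.Helper20.PLCoeff
  Groth.Agent.Lib.Helper20.PLCorestrict Groth.Agent.Lib.Helper20.PLTS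
  Groth.Agent.Lib.Helper20.PLSpan

universe u

section AlgHom

variable {A : Type u} [CommRing A] {B C C' : Type u} [CommRing B] [Algebra A B] [CommRing C]
  [Algebra A C] [CommRing C'] [Algebra A C'] {d : ℕ}

theorem ext1_one (γ : PolLaw.MulLaw A B C d) :
    ext1 (Finsupp.single () d)
      (γ.law.toFun' (MvPolynomial Unit A) ((X () : MvPolynomial Unit A) • (1 : _ ⊗[A] B))) =
      (1 : C) := by
  rw [γ.homog, (γ.mult _).1, Algebra.TensorProduct.one_def, TensorProduct.smul_tmul',
    ext1_tmul, smul_eq_mul, mul_one, MvPolynomial.coeff_X_pow, if_pos rfl, one_smul]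

theorem postcomp_apply' (f : C →ₗ[A] C') (γ : B →ₚₗ[A] C) (G : B →ₚₗ[A] C')
    (hf : PolLaw.postcomp f γ = G) (S : Type u) [CommSemiring S] [Algebra A S] (x : S ⊗[A] B) :
    f.lTensor S (γ.toFun' S x) = G.toFun' S x := by
  rw [← hf]
  rfl

/-- a linear map compatible with two multiplicative laws, the first one spanning, is an
algebra homomorphism -/
theorem exists_algHom_of_linear (γ : PolLaw.MulLaw A B C d) (hspan : coeffSpan γ.law = ⊤)
    (G : PolLaw.MulLaw A B C' d) (f : C →ₗ[A] C') (hf : PolLaw.postcomp f γ.law = G.law) :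
    ∃ f' : C →ₐ[A] C', f'.toLinearMap = f := by
  have h1 : f 1 = 1 := by
    rw [← ext1_one γ, ← ext1_lTensor, postcomp_apply' f γ.law G.law hf, ext1_one G]
  have hgen : ∀ x ∈ coeffSet γ.law, ∀ y ∈ coeffSet γ.law, f (x * y) = f x * f y := by
    rintro x ⟨ι₁, _, m₁, β₁, rfl⟩ y ⟨ι₂, _, m₂, β₂, rfl⟩
    have e1 : f (PLCoeff.coeff γ.law m₁ β₁) = PLCoeff.coeff G.law m₁ β₁ := by
      rw [← coeff_postcomp, hf]
    have e2 : f (PLCoeff.coeff γ.law m₂ β₂) = PLCoeff.coeff G.law m₂ β₂ := by
      rw [← coeff_postcomp, hf]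
    rw [e1, e2]
    unfold PLCoeff.coeff
    rw [← ext1_mul_rename, ← ext1_mul_rename, PolynomialLaw.isCompat_apply',
      PolynomialLaw.isCompat_apply', PolynomialLaw.isCompat_apply', PolynomialLaw.isCompat_apply',
      ← (γ.mult _).2, ← (G.mult _).2, ← ext1_lTensor, postcomp_apply' f γ.law G.law hf]
  have hmul : ∀ x y : C, f (x * y) = f x * f y := by
    intro x y
    have hx : x ∈ Submodule.span A (coeffSet γ.law) := by
      change x ∈ coeffSpan γ.law
      rw [hspan]
      trivial
    have hy : y ∈ Submodule.span A (coeffSet γ.law) := by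
      change y ∈ coeffSpan γ.law
      rw [hspan]
      trivial
    induction hx using Submodule.span_induction with
    | mem x hx =>
      induction hy using Submodule.span_induction with
      | mem y hy => exact hgen x hx y hy
      | zero => simp
      | add y₁ y₂ _ _ h₁ h₂ => rw [mul_add, map_add, h₁, h₂, map_add, mul_add]
      | smul a y _ h => rw [mul_smul_comm, map_smul, h, map_smul, mul_smul_comm]
    | zero => simp
    | add x₁ x₂ _ _ h₁ h₂ => rw [add_mul, map_add, h₁, h₂, map_add, add_mul]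
    | smul a x _ h => rw [smul_mul_assoc, map_smul, h, map_smul, smul_mul_assoc]
  exact ⟨AlgHom.ofLinearMap f h1 hmul, rfl⟩

end AlgHom

section Free

variable {A : Type u} [CommRing A] {B : Type u} [CommRing B] [Algebra A B]
  {K : Type u} (e : Module.Basis K A B) (d : ℕ)

include e in
/-- **For `B` free over `A`, the symmetric tensors with `x ↦ x ⊗ ⋯ ⊗ x` are the degree-`d`
divided power algebra of `B`.** -/
theorem isGammaD_TSlaw_of_basis : PolLaw.IsGammaD (TSlaw A B d) := by
  intro C' _ _ G
  obtain ⟨f', hf'⟩ := exists_algHom_of_linear (TSlaw A B d) (coeffSpan_TSlaw_eq_top e d) G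
    (fTS e d G.law) (postcomp_fTS e d G.law G.homog)
  refine ⟨f', ?_, ?_⟩
  · show PolLaw.postcomp f'.toLinearMap (TSlaw A B d).law = G.law
    rw [hf']
    exact postcomp_fTS e d G.law G.homog
  · intro f'' hf''
    apply AlgHom.toLinearMap_injective
    rw [hf']
    apply unique_linear e d
    rw [postcomp_fTS e d G.law G.homog]
    exact hf''

theorem isGammaD_TSlaw_of_free [Module.Free A B] : PolLaw.IsGammaD (TSlaw A B d) :=
  isGammaD_TSlaw_of_basis (Module.Free.chooseBasis A B) d

end Free

end Groth.Agent.Lib.Helper20.PLFree
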