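import Mathlib
import Groth.Prelude.Def_PolLaw
import Groth.Prelude.Def_SymTen
import Groth.Agent.Lib.Helper20.PLCH1
import Groth.Agent.Lib.Helper20.PLFree3

/-!
# Cayley–Hamilton for multiplicative laws, part B: free algebras
-/

namespace Groth.Agent.Lib.Helper20.PLCH

open scoped TensorProduct
open Groth.Agent.Lib.Helper20.PLCoeff Groth.Agent.Lib.Helper20.PLCorestrict
  Groth.Agent.Lib.Helper20.PLTS Groth.Agent.Lib.Helper20.PLNat Groth.Agent.Lib.Helper20.PLNorm
  Groth.Agent.Lib.Helper20.PLFree

universe u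

section PartB

variable (A : Type u) [CommRing A] (P : Type u) [CommRing P] [Algebra A P] [Module.Free A P]
  (d : ℕ) (t : P) (S : Type u) [CommSemiring S] [Algebra A S]

/-- `ι = S ⊗ val : S ⊗ TS → S ⊗ T` -/
noncomputable def iot : S ⊗[A] SymTen.TS A P d →ₐ[A] S ⊗[A] (⨂[A] _ : Fin d, P) :=
  Algebra.TensorProduct.map (AlgHom.id A S) (SymTen.TS A P d).val

theorem iot_eq_lTensor (z : S ⊗[A] SymTen.TS A P d) :
    iot A P d S z = (SymTen.TS A P d).val.toLinearMap.lTensor S z := by
  induction z using TensorProduct.induction_on with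
  | zero => simp
  | tmul s c => simp [iot]
  | add a b ha hb => rw [map_add, map_add, ha, hb]

theorem iot_injective : Function.Injective (iot (A := A) (P := P) d S) := by
  let e := Module.Free.chooseBasis A P
  let r : (⨂[A] _ : Fin d, P) →ₗ[A] SymTen.TS A P d := fT e d (TSlaw A P d).law
  have hr : r ∘ₗ (SymTen.TS A P d).val.toLinearMap = LinearMap.id := by
    apply unique_linear e d
    rw [postcomp_id]
    exact postcomp_fTS e d (TSlaw A P d).law (TSlaw A P d).homog
  intro z₁ z₂ h
  rw [iot_eq_lTensor, iot_eq_lTensor] at h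
  have := congrArg (r.lTensor S) h
  rw [← LinearMap.comp_apply, ← LinearMap.comp_apply, ← LinearMap.lTensor_comp, hr,
    LinearMap.lTensor_id] at this
  exact this

/-- `j : TS → S ⊗ TS` -/
noncomputable def jR : SymTen.TS A P d →ₐ[A] S ⊗[A] SymTen.TS A P d :=
  Algebra.TensorProduct.includeRight

/-- `j' : T → S ⊗ T` -/
noncomputable def jR' : (⨂[A] _ : Fin d, P) →ₐ[A] S ⊗[A] (⨂[A] _ : Fin d, P) :=
  Algebra.TensorProduct.includeRight

/-- multiplication `R ⊗ TS → R` -/
noncomputable def muR : (S ⊗[A] SymTen.TS A P d) ⊗[A] SymTen.TS A P d →ₐ[A]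
    S ⊗[A] SymTen.TS A P d :=
  Algebra.TensorProduct.productMap (AlgHom.id A _) (jR A P d S)

theorem mu'_iot (z : (S ⊗[A] SymTen.TS A P d) ⊗[A] SymTen.TS A P d) :
    mu' d (jR' A P d S) ((iot A P d S).toLinearMap.rTensor _
      ((SymTen.TS A P d).val.toLinearMap.lTensor _ z)) = iot A P d S (muR A P d S z) := by
  induction z using TensorProduct.induction_on with
  | zero => simp
  | tmul r c =>
    simp only [LinearMap.lTensor_tmul, LinearMap.rTensor_tmul, AlgHom.toLinearMap_apply, mu',
      muR, Algebra.TensorProduct.productMap_apply_tmul, AlgHom.coe_id, id_eq, map_mul]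
    congr 1
  | add a b ha hb => simp only [map_add, ha, hb]

theorem iot_muR_TSlaw (y : (S ⊗[A] SymTen.TS A P d) ⊗[A] P) :
    iot A P d S (muR A P d S ((TSlaw A P d).law.toFun' _ y)) =
      mu' d (jR' A P d S) ((Tlaw A P d).toFun' _ ((iot A P d S).toLinearMap.rTensor P y)) := by
  rw [← PolynomialLaw.isCompat_apply', ← val_TSlaw, mu'_iot]

/-- `P ⊗ TS → R ⊗ P`, `p ⊗ c ↦ j(c) ⊗ p` -/
noncomputable def XiR : P ⊗[A] SymTen.TS A P d →ₐ[A] (S ⊗[A] SymTen.TS A P d) ⊗[A] P :=
  (Algebra.TensorProduct.map (jR A P d S) (AlgHom.id A P)).comp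
    (Algebra.TensorProduct.comm A P (SymTen.TS A P d)).toAlgHom

theorem rTensor_XiR (z : P ⊗[A] SymTen.TS A P d) :
    (iot A P d S).toLinearMap.rTensor P (XiR A P d S z) =
      Xi' d (jR' A P d S) ((SymTen.TS A P d).val.toLinearMap.lTensor P z) := by
  induction z using TensorProduct.induction_on with
  | zero => simp
  | tmul p c => simp [XiR, Xi', iot, jR, jR']
  | add a b ha hb => simp only [map_add, ha, hb]

/-- the Cayley–Hamilton element over `R = S ⊗ TS` -/
noncomputable def KR : (S ⊗[A] SymTen.TS A P d) ⊗[A] P :=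
  XiR A P d S ((TSlaw A P d).law.toFun' P (delta (A := A) t))

theorem rTensor_KR :
    (iot A P d S).toLinearMap.rTensor P (KR A P d t S) = K' d t (jR' A P d S) := by
  unfold KR K'
  rw [rTensor_XiR, val_TSlaw]

/-- Cayley–Hamilton over `R = S ⊗ TS` -/
theorem muR_TSlaw_add_KR (x w : (S ⊗[A] SymTen.TS A P d) ⊗[A] P) :
    muR A P d S ((TSlaw A P d).law.toFun' _ (x + w * KR A P d t S)) =
      muR A P d S ((TSlaw A P d).law.toFun' _ x) := by
  apply iot_injective A P d S
  rw [iot_muR_TSlaw, iot_muR_TSlaw, map_add, rTensor_mul, rTensor_KR, mu'_Tlaw_add_K']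

end PartB

section PartC

variable {A : Type u} [CommRing A] {P : Type u} [CommRing P] [Algebra A P] [Module.Free A P]
  (d : ℕ) (t : P) (S : Type u) [CommSemiring S] [Algebra A S] (f : SymTen.TS A P d →ₐ[A] A)

/-- `θ = S ⊗ f : S ⊗ TS → S` -/
noncomputable def theta : S ⊗[A] SymTen.TS A P d →ₐ[A] S :=
  Algebra.TensorProduct.productMap (AlgHom.id A S) ((Algebra.ofId A S).comp f)

theorem theta_lTensor (z : (S ⊗[A] SymTen.TS A P d) ⊗[A] SymTen.TS A P d) :
    (theta d S f).toLinearMap.rTensor A (f.toLinearMap.lTensor _ z) =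
      theta d S f (muR A P d S z) ⊗ₜ[A] (1 : A) := by
  induction z using TensorProduct.induction_on with
  | zero => simp
  | tmul r c =>
    simp only [LinearMap.lTensor_tmul, LinearMap.rTensor_tmul, AlgHom.toLinearMap_apply, muR,
      Algebra.TensorProduct.productMap_apply_tmul, AlgHom.coe_id, id_eq, map_mul]
    have h1 : theta d S f (jR A P d S c) = algebraMap A S (f c) := by
      simp [theta, jR, Algebra.ofId_apply]
    rw [h1, mul_comm, ← Algebra.smul_def, TensorProduct.smul_tmul, smul_eq_mul, mul_one]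
  | add a b ha hb => simp only [map_add, ha, hb, TensorProduct.add_tmul]

theorem postcomp_theta (y : (S ⊗[A] SymTen.TS A P d) ⊗[A] P) :
    (PolLaw.postcomp f.toLinearMap (TSlaw A P d).law).toFun' S
        ((theta d S f).toLinearMap.rTensor P y) =
      theta d S f (muR A P d S ((TSlaw A P d).law.toFun' _ y)) ⊗ₜ[A] (1 : A) := by
  rw [← PolynomialLaw.isCompat_apply', postcomp_toFun', theta_lTensor]

theorem theta_rTensor_includeLeft (x : S ⊗[A] P) :
    (theta d S f).toLinearMap.rTensor P
      ((Algebra.TensorProduct.includeLeft : S →ₐ[A] S ⊗[A] SymTen.TS A P d).toLinearMap.rTensor P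
        x) = x := by
  induction x using TensorProduct.induction_on with
  | zero => simp
  | tmul s p => simp [theta]
  | add a b ha hb => simp only [map_add, ha, hb]

theorem theta_rTensor_XiR (z : P ⊗[A] SymTen.TS A P d) :
    (theta d S f).toLinearMap.rTensor P (XiR A P d S z) =
      (1 : S) ⊗ₜ[A] TensorProduct.rid A P (f.toLinearMap.lTensor P z) := by
  induction z using TensorProduct.induction_on with
  | zero => simp
  | tmul p c =>
    have h1 : theta d S f (jR A P d S c) = algebraMap A S (f c) := by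
      simp [theta, jR, Algebra.ofId_apply]
    have h2 : XiR A P d S (p ⊗ₜ[A] c) = (jR A P d S c) ⊗ₜ[A] p := by simp [XiR]
    rw [h2, LinearMap.rTensor_tmul, AlgHom.toLinearMap_apply, h1, LinearMap.lTensor_tmul,
      AlgHom.toLinearMap_apply, TensorProduct.rid_tmul, Algebra.algebraMap_eq_smul_one,
      TensorProduct.smul_tmul]
  | add a b ha hb => simp only [map_add, ha, hb, TensorProduct.tmul_add]

/-- **Cayley–Hamilton for laws on a free algebra which factor through `TS`** -/
theorem ch_free_aux :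
    TensorProduct.rid A P
      ((PolLaw.postcomp f.toLinearMap (TSlaw A P d).law).toFun' P (delta (A := A) t)) ∈
      PolLaw.ker (PolLaw.postcomp f.toLinearMap (TSlaw A P d).law) := by
  intro S _ _ x w
  let ρ := (Algebra.TensorProduct.includeLeft : S →ₐ[A] S ⊗[A] SymTen.TS A P d)
  have e1 : (theta d S f).toLinearMap.rTensor P
      (ρ.toLinearMap.rTensor P x + ρ.toLinearMap.rTensor P w * KR A P d t S) =
      x + w * ((1 : S) ⊗ₜ[A] TensorProduct.rid A P
        ((PolLaw.postcomp f.toLinearMap (TSlaw A P d).law).toFun' P (delta (A := A) t))) := by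
    rw [map_add, rTensor_mul, theta_rTensor_includeLeft, theta_rTensor_includeLeft]
    unfold KR
    rw [theta_rTensor_XiR]
    rfl
  have e2 : (theta d S f).toLinearMap.rTensor P (ρ.toLinearMap.rTensor P x) = x :=
    theta_rTensor_includeLeft d S f x
  rw [← e1, postcomp_theta, muR_TSlaw_add_KR, ← postcomp_theta, e2]

end PartC

end Groth.Agent.Lib.Helper20.PLCH
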