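import Mathlib
import Groth.Prelude.Def_PolLaw
import Groth.Prelude.Def_SymTen
import Groth.Agent.Lib.Helper20.PLTS

/-!
# The kernel of the tensor power of a surjective algebra map
-/

namespace Groth.Agent.Lib.Helper20.PLKer

open scoped TensorProduct
open Groth.Agent.Lib.Helper20.PLTS

universe u

section Ker

variable {A : Type u} [CommRing A] {P B : Type u} [CommRing P] [Algebra A P] [CommRing B]
  [Algebra A B] (d : ℕ) (π : P →ₐ[A] B)

/-- the ideal of the tensor power generated by the kernel of `π` in each factor -/
def kerIdeal : Ideal (⨂[A] _ : Fin d, P) :=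
  Ideal.span {x | ∃ (i : Fin d) (k : P), π k = 0 ∧ x = incl A P d i k}

theorem tprod_update_eq (f : Fin d → P) (i : Fin d) (a : P) :
    PiTensorProduct.tprod A (Function.update f i a) =
      incl A P d i a * PiTensorProduct.tprod A (Function.update f i 1) := by
  unfold incl
  rw [PiTensorProduct.singleAlgHom_apply, PiTensorProduct.tprod_mul_tprod]
  congr 1
  funext j
  by_cases h : j = i
  · subst h
    simp
  · simp [h]

theorem tprod_update_mem (f : Fin d → P) (i : Fin d) (a : P) (ha : π a = 0) :
    PiTensorProduct.tprod A (Function.update f i a) ∈ kerIdeal d π := by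
  rw [tprod_update_eq]
  exact Ideal.mul_mem_right _ _ (Ideal.subset_span ⟨i, a, ha, rfl⟩)

theorem tprod_update_sub_mem (f : Fin d → P) (i : Fin d) (a b : P) (hab : π a = π b) :
    PiTensorProduct.tprod A (Function.update f i a) -
      PiTensorProduct.tprod A (Function.update f i b) ∈ kerIdeal d π := by
  have := tprod_update_mem d π f i (a - b) (by rw [map_sub, hab, sub_self])
  rwa [MultilinearMap.map_update_sub] at this

theorem tprod_sub_mem (p p' : Fin d → P) (h : ∀ i, π (p i) = π (p' i)) :
    PiTensorProduct.tprod A p - PiTensorProduct.tprod A p' ∈ kerIdeal d π := by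
  classical
  have key : ∀ s : Finset (Fin d),
      PiTensorProduct.tprod A p -
        PiTensorProduct.tprod A (fun i => if i ∈ s then p' i else p i) ∈ kerIdeal d π := by
    intro s
    induction s using Finset.induction_on with
    | empty => simp
    | insert j s hj ih =>
      have e1 : (fun i => if i ∈ insert j s then p' i else p i) =
          Function.update (fun i => if i ∈ s then p' i else p i) j (p' j) := by
        funext i
        by_cases hi : i = j
        · subst hi
          simp
        · simp [hi, Finset.mem_insert]
      have e2 : (fun i => if i ∈ s then p' i else p i) =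
          Function.update (fun i => if i ∈ s then p' i else p i) j (p j) := by
        funext i
        by_cases hi : i = j
        · subst hi
          simp [hj]
        · simp [hi]
      have h2 := tprod_update_sub_mem d π (fun i => if i ∈ s then p' i else p i) j (p j) (p' j)
        (h j)
      rw [← e1, ← e2] at h2
      have := Ideal.add_mem _ ih h2
      simpa using this
  have := key Finset.univ
  simpa using this

theorem mkA_eq (x y : ⨂[A] _ : Fin d, P) :
    Ideal.Quotient.mkₐ A (kerIdeal d π) x = Ideal.Quotient.mkₐ A (kerIdeal d π) y ↔
      x - y ∈ kerIdeal d π := by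
  rw [Ideal.Quotient.mkₐ_eq_mk, Ideal.Quotient.eq]

theorem surjInv_update (hπ : Function.Surjective π) (n : Fin d → B) (i : Fin d) (z : B) :
    (fun j => Function.surjInv hπ (Function.update n i z j)) =
        Function.update (fun j => Function.surjInv hπ (n j)) i (Function.surjInv hπ z) := by
  funext j
  by_cases hj : j = i
  · subst hj
    simp
  · simp [hj]

/-- the multilinear map used to invert `tmap π` modulo the kernel ideal -/
noncomputable def invMulti (hπ : Function.Surjective π) :
    MultilinearMap A (fun _ : Fin d => B) ((⨂[A] _ : Fin d, P) ⧸ kerIdeal d π) where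
  toFun n := Ideal.Quotient.mkₐ A (kerIdeal d π)
    (PiTensorProduct.tprod A (fun i => Function.surjInv hπ (n i)))
  map_update_add' := by
    intro inst n i x y
    obtain rfl := Subsingleton.elim inst (instDecidableEqFin d)
    rw [← map_add, mkA_eq, surjInv_update, surjInv_update, surjInv_update,
      ← MultilinearMap.map_update_add]
    apply tprod_update_sub_mem
    rw [map_add, Function.surjInv_eq hπ, Function.surjInv_eq hπ, Function.surjInv_eq hπ]
  map_update_smul' := by
    intro inst n i r x
    obtain rfl := Subsingleton.elim inst (instDecidableEqFin d)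
    rw [← map_smul, mkA_eq, surjInv_update, surjInv_update,
      ← MultilinearMap.map_update_smul]
    apply tprod_update_sub_mem
    rw [map_smul, Function.surjInv_eq hπ, Function.surjInv_eq hπ]

theorem ker_tmap_le (hπ : Function.Surjective π) :
    RingHom.ker (SymTen.tmap A d π) ≤ kerIdeal d π := by
  intro z hz
  rw [RingHom.mem_ker] at hz
  let L : (⨂[A] _ : Fin d, B) →ₗ[A] ((⨂[A] _ : Fin d, P) ⧸ kerIdeal d π) :=
    PiTensorProduct.lift (invMulti d π hπ)
  have hL : ∀ z : ⨂[A] _ : Fin d, P,
      L (SymTen.tmap A d π z) = Ideal.Quotient.mkₐ A (kerIdeal d π) z := by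
    intro z
    induction z using PiTensorProduct.induction_on with
    | smul_tprod r p =>
      rw [map_smul, map_smul, map_smul, SymTen.tmap_tprod, PiTensorProduct.lift.tprod]
      congr 1
      change Ideal.Quotient.mkₐ A (kerIdeal d π) _ = _
      rw [mkA_eq]
      apply tprod_sub_mem
      intro i
      exact Function.surjInv_eq hπ _
    | add x y hx hy => rw [map_add, map_add, hx, hy, map_add]
  have := hL z
  rw [hz, map_zero, Ideal.Quotient.mkₐ_eq_mk] at this
  exact Ideal.Quotient.eq_zero_iff_mem.mp this.symm

end Ker

end Groth.Agent.Lib.Helper20.PLKer
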