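import Mathlib
import Groth.Prelude.Def_PolLaw
import Groth.Prelude.Def_SymTen
import Groth.Agent.Lib.Helper20.PLNorm
import Groth.Agent.Lib.Helper20.PLFree3
import Groth.Agent.Lib.Helper20.PLKer
import Groth.Agent.Lib.lead.PolLawQuot

/-!
# The norm law `T^d(B) → Γ^d(B)` (descent from a polynomial presentation)
-/

namespace Groth.Agent.Lib.Helper20.PLDescend

open scoped TensorProduct
open MvPolynomial Groth.Agent.Lib.Helper20.PLCoeff Groth.Agent.Lib.Helper20.PLCorestrict
  Groth.Agent.Lib.Helper20.PLTS Groth.Agent.Lib.Helper20.PLNat Groth.Agent.Lib.Helper20.PLNorm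
  Groth.Agent.Lib.Helper20.PLFree Groth.Agent.Lib.Helper20.PLKer

universe u

section Tmap

variable (A : Type u) [CommRing A] {B B' B'' : Type u} [CommRing B] [Algebra A B]
  [CommRing B'] [Algebra A B'] [CommRing B''] [Algebra A B''] (d : ℕ)

theorem tmap_comp (p : B' →ₐ[A] B'') (q : B →ₐ[A] B') :
    SymTen.tmap A d (p.comp q) = (SymTen.tmap A d p).comp (SymTen.tmap A d q) := by
  apply AlgHom.toLinearMap_injective
  apply PiTensorProduct.ext
  ext f
  simp only [LinearMap.compMultilinearMap_apply, AlgHom.toLinearMap_apply, AlgHom.comp_apply,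
    SymTen.tmap_tprod]

theorem tmap_id : SymTen.tmap A d (AlgHom.id A B) = AlgHom.id A _ := by
  apply AlgHom.toLinearMap_injective
  apply PiTensorProduct.ext
  ext f
  simp only [LinearMap.compMultilinearMap_apply, AlgHom.toLinearMap_apply,
    SymTen.tmap_tprod, AlgHom.id_apply]

theorem tmap_surjective (p : B →ₐ[A] B') (hp : Function.Surjective p) :
    Function.Surjective (SymTen.tmap A d p) := by
  intro z
  induction z using PiTensorProduct.induction_on with
  | smul_tprod r f =>
    refine ⟨r • PiTensorProduct.tprod A (fun i => Function.surjInv hp (f i)), ?_⟩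
    rw [map_smul, SymTen.tmap_tprod]
    simp only [Function.surjInv_eq hp]
  | add x y hx hy =>
    obtain ⟨x', rfl⟩ := hx
    obtain ⟨y', rfl⟩ := hy
    exact ⟨x' + y', map_add _ _ _⟩

end Tmap

section Main

variable {A B C : Type u} [CommRing A] [CommRing B] [Algebra A B] [CommRing C] [Algebra A C]
  (d : ℕ) (γ : PolLaw.MulLaw A B C d)

/-- the hypothesis on `φ`, as an equation of laws -/
theorem postcomp_phi (φ : C →ₐ[A] SymTen.TS A B d)
    (hφ : ∀ (S : Type u) [CommSemiring S] [Algebra A S] (n : ℕ) (s : Fin n → S) (b : Fin n → B),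
      ((SymTen.TS A B d).val.comp φ).toLinearMap.lTensor S (γ.law.toFun' S (∑ j, s j ⊗ₜ[A] b j)) =
        ∑ c : Fin d → Fin n, (∏ i, s (c i)) ⊗ₜ[A] PiTensorProduct.tprod A (fun i => b (c i))) :
    PolLaw.postcomp φ.toLinearMap γ.law = (TSlaw A B d).law := by
  apply postcomp_injective (SymTen.TS A B d).val.toLinearMap Subtype.val_injective
  rw [← postcomp_comp, postcomp_val_TSlaw]
  apply PolynomialLaw.ext
  funext S _ _ x
  obtain ⟨ι, _, s, m, rfl⟩ := exists_rep x
  let e := Fintype.equivFin ι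
  have hsum : ∑ i, s i ⊗ₜ[A] m i = ∑ j : Fin (Fintype.card ι), s (e.symm j) ⊗ₜ[A] m (e.symm j) :=
    (Equiv.sum_comp e.symm (fun i => s i ⊗ₜ[A] m i)).symm
  rw [hsum, Tlaw_sum_tmul]
  exact hφ S _ _ _

/-- the polynomial presentation of `B` -/
noncomputable def πP : MvPolynomial B A →ₐ[A] B := aeval id

theorem πP_surjective : Function.Surjective (πP (A := A) (B := B)) :=
  fun b => ⟨X b, by simp [πP]⟩

/-- the comparison map `TS^d(P) → Γ^d(B)` -/
noncomputable def gP : SymTen.TS A (MvPolynomial B A) d →ₐ[A] C :=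
  ((isGammaD_TSlaw_of_free (A := A) (B := MvPolynomial B A) d) C
    (γ.precomp πP)).exists.choose

theorem gP_spec :
    PolLaw.postcomp (gP d γ).toLinearMap (TSlaw A (MvPolynomial B A) d).law =
      PolLaw.precomp γ.law (πP (A := A) (B := B)).toLinearMap :=
  ((isGammaD_TSlaw_of_free (A := A) (B := MvPolynomial B A) d) C
    (γ.precomp πP)).exists.choose_spec

theorem algHom_eq_of_free {P C' : Type u} [CommRing P] [Algebra A P] [Module.Free A P]
    [CommRing C'] [Algebra A C'] (f₁ f₂ : SymTen.TS A P d →ₐ[A] C') (G : PolLaw.MulLaw A P C' d)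
    (h₁ : PolLaw.postcomp f₁.toLinearMap (TSlaw A P d).law = G.law)
    (h₂ : PolLaw.postcomp f₂.toLinearMap (TSlaw A P d).law = G.law) : f₁ = f₂ :=
  ((isGammaD_TSlaw_of_free (A := A) (B := P) d) C' G).unique h₁ h₂

theorem phi_comp_gP (φ : C →ₐ[A] SymTen.TS A B d)
    (hφ : PolLaw.postcomp φ.toLinearMap γ.law = (TSlaw A B d).law) :
    φ.comp (gP d γ) = SymTen.TSmap A d πP := by
  apply algHom_eq_of_free d _ _ ((TSlaw A B d).precomp πP)
  · rw [AlgHom.comp_toLinearMap, postcomp_comp, gP_spec, postcomp_precomp, hφ]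
    rfl
  · exact postcomp_TSmap_TSlaw A d πP

theorem gP_surjective (hγ : PolLaw.IsGammaD γ) : Function.Surjective (gP d γ) :=
  Groth.Agent.Lib.lead.PolLawQuot.main_surj (TSlaw A (MvPolynomial B A) d) γ hγ πP πP_surjective
    (gP d γ) (gP_spec d γ)

/-- the norm law on the polynomial presentation, pushed to `Γ^d(B)` -/
noncomputable def G0 : PolLaw.MulLaw A (⨂[A] _ : Fin d, MvPolynomial B A) C d.factorial :=
  (NTSlaw A (MvPolynomial B A) d).postcomp (gP d γ)

theorem G0_law : (G0 d γ).law =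
    PolLaw.postcomp (gP d γ).toLinearMap (NTSlaw A (MvPolynomial B A) d).law := rfl

/-- the inclusion of `P` into `P[t]` -/
noncomputable def ιP : MvPolynomial B A →ₐ[A] MvPolynomial (Option B) A := rename some

/-- evaluation of the extra variable at `k` -/
noncomputable def pK (k : MvPolynomial B A) : MvPolynomial (Option B) A →ₐ[A] MvPolynomial B A :=
  aeval (fun o => Option.elim o k X)

theorem pK_comp_ιP (k : MvPolynomial B A) : (pK k).comp ιP = AlgHom.id A _ := by
  apply MvPolynomial.algHom_ext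
  intro b
  simp [pK, ιP]

theorem pK_X_none (k : MvPolynomial B A) : pK k (X none) = k := by
  simp [pK]

theorem πP_comp_pK (k : MvPolynomial B A) (hk : πP k = 0) :
    (πP (A := A) (B := B)).comp (pK k) = πP.comp (pK 0) := by
  apply MvPolynomial.algHom_ext
  intro o
  cases o with
  | none => simp [pK, hk]
  | some b => simp [pK]

theorem precomp_G0_tmap (q : MvPolynomial (Option B) A →ₐ[A] MvPolynomial B A) :
    PolLaw.precomp (G0 d γ).law (SymTen.tmap A d q).toLinearMap =
      PolLaw.postcomp ((gP d γ).comp (SymTen.TSmap A d q)).toLinearMap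
        (NTSlaw A (MvPolynomial (Option B) A) d).law := by
  rw [G0_law, ← postcomp_precomp, ← postcomp_TSmap_NTSlaw, ← postcomp_comp,
    AlgHom.comp_toLinearMap]

theorem postcomp_gP_TSmap (q : MvPolynomial (Option B) A →ₐ[A] MvPolynomial B A) :
    PolLaw.postcomp ((gP d γ).comp (SymTen.TSmap A d q)).toLinearMap
      (TSlaw A (MvPolynomial (Option B) A) d).law = (γ.precomp (πP.comp q)).law := by
  rw [AlgHom.comp_toLinearMap, postcomp_comp, postcomp_TSmap_TSlaw, postcomp_precomp, gP_spec,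
    precomp_comp]
  rfl

theorem precomp_G0_eq (k : MvPolynomial B A) (hk : πP k = 0) :
    PolLaw.precomp (G0 d γ).law (SymTen.tmap A d (pK k)).toLinearMap =
      PolLaw.precomp (G0 d γ).law (SymTen.tmap A d (pK 0)).toLinearMap := by
  rw [precomp_G0_tmap, precomp_G0_tmap]
  have : (gP d γ).comp (SymTen.TSmap A d (pK k)) = (gP d γ).comp (SymTen.TSmap A d (pK 0)) := by
    apply algHom_eq_of_free d _ _ (γ.precomp (πP.comp (pK 0)))
    · rw [postcomp_gP_TSmap, πP_comp_pK k hk]
    · rw [postcomp_gP_TSmap]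
  rw [this]

theorem lTensor_tmap_pK_ιP (k : MvPolynomial B A) (S : Type u) [CommSemiring S] [Algebra A S]
    (x : S ⊗[A] (⨂[A] _ : Fin d, MvPolynomial B A)) :
    (SymTen.tmap A d (pK k)).toLinearMap.lTensor S
      ((SymTen.tmap A d ιP).toLinearMap.lTensor S x) = x := by
  rw [← LinearMap.comp_apply, ← LinearMap.lTensor_comp, ← AlgHom.comp_toLinearMap, ← tmap_comp,
    pK_comp_ιP, tmap_id]
  change (LinearMap.id : _ →ₗ[A] _).lTensor S x = x
  rw [LinearMap.lTensor_id, LinearMap.id_apply]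

theorem incl_mem_ker_G0 (i : Fin d) (k : MvPolynomial B A) (hk : πP k = 0) :
    incl A (MvPolynomial B A) d i k ∈ PolLaw.ker (G0 d γ).law := by
  intro S _ _ x w
  let J := (SymTen.tmap A d (ιP (A := A) (B := B))).toLinearMap.lTensor S
  let y' : S ⊗[A] (⨂[A] _ : Fin d, MvPolynomial (Option B) A) :=
    J x + J w * ((1 : S) ⊗ₜ[A] incl A (MvPolynomial (Option B) A) d i (X none))
  have h1 : ∀ k' : MvPolynomial B A, (SymTen.tmap A d (pK k')).toLinearMap.lTensor S y' =
      x + w * ((1 : S) ⊗ₜ[A] incl A (MvPolynomial B A) d i k') := by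
    intro k'
    have e1 : (SymTen.tmap A d (pK k')).toLinearMap.lTensor S
        ((1 : S) ⊗ₜ[A] incl A (MvPolynomial (Option B) A) d i (X none)) =
        (1 : S) ⊗ₜ[A] incl A (MvPolynomial B A) d i k' := by
      rw [LinearMap.lTensor_tmul, AlgHom.toLinearMap_apply, ← AlgHom.comp_apply, tmap_comp_incl,
        AlgHom.comp_apply, pK_X_none]
    have e2 : ∀ z w' : S ⊗[A] (⨂[A] _ : Fin d, MvPolynomial (Option B) A),
        (SymTen.tmap A d (pK k')).toLinearMap.lTensor S (z * w') =
        (SymTen.tmap A d (pK k')).toLinearMap.lTensor S z *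
          (SymTen.tmap A d (pK k')).toLinearMap.lTensor S w' := by
      intro z w'
      rw [PolLaw.lTensor_algHom_apply, PolLaw.lTensor_algHom_apply, PolLaw.lTensor_algHom_apply,
        map_mul]
    show (SymTen.tmap A d (pK k')).toLinearMap.lTensor S (J x + J w * _) = _
    rw [map_add, e2, e1, lTensor_tmap_pK_ιP, lTensor_tmap_pK_ιP]
  have h := congrArg (fun L : (⨂[A] _ : Fin d, MvPolynomial (Option B) A) →ₚₗ[A] C =>
    L.toFun' S y') (precomp_G0_eq d γ k hk)
  simp only [precomp_toFun'] at h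
  rw [h1 k, h1 0, map_zero, TensorProduct.tmul_zero, mul_zero, add_zero] at h
  exact h

theorem ker_tmap_le_ker_G0 (z : ⨂[A] _ : Fin d, MvPolynomial B A)
    (hz : SymTen.tmap A d (πP (A := A) (B := B)) z = 0) : z ∈ PolLaw.ker (G0 d γ).law := by
  have h1 : z ∈ kerIdeal d (πP (A := A) (B := B)) :=
    ker_tmap_le d πP πP_surjective ((RingHom.mem_ker).mpr hz)
  have h2 : kerIdeal d (πP (A := A) (B := B)) ≤ PolLaw.ker (G0 d γ).law := by
    unfold kerIdeal
    rw [Ideal.span_le]
    rintro x ⟨i, k, hk, rfl⟩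
    exact incl_mem_ker_G0 d γ i k hk
  exact h2 h1

/-- **the norm law `T^d(B) → Γ^d(B)`** -/
noncomputable def normLaw : PolLaw.MulLaw A (⨂[A] _ : Fin d, B) C d.factorial :=
  Groth.Agent.Lib.lead.PolLawQuot.quotMulLaw (SymTen.tmap A d (πP (A := A) (B := B)))
    (tmap_surjective A d πP πP_surjective) (G0 d γ) (ker_tmap_le_ker_G0 d γ)

theorem precomp_normLaw :
    PolLaw.precomp (normLaw d γ).law (SymTen.tmap A d (πP (A := A) (B := B))).toLinearMap =
      (G0 d γ).law := by
  apply PolynomialLaw.ext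
  funext S _ _ x
  exact Groth.Agent.Lib.lead.PolLawQuot.quotLaw_apply (SymTen.tmap A d (πP (A := A) (B := B)))
    (tmap_surjective A d πP πP_surjective) (G0 d γ).law (ker_tmap_le_ker_G0 d γ) S x

theorem postcomp_normLaw (φ : C →ₐ[A] SymTen.TS A B d)
    (hφ : PolLaw.postcomp φ.toLinearMap γ.law = (TSlaw A B d).law) :
    PolLaw.postcomp ((SymTen.TS A B d).val.comp φ).toLinearMap (normLaw d γ).law =
      Nlaw A B d := by
  apply precomp_surjective_cancel (SymTen.tmap A d (πP (A := A) (B := B))).toLinearMap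
    (tmap_surjective A d πP πP_surjective)
  rw [← postcomp_precomp, precomp_normLaw, G0_law, ← postcomp_comp, ← AlgHom.comp_toLinearMap,
    AlgHom.comp_assoc, phi_comp_gP d γ φ hφ, val_comp_TSmap, AlgHom.comp_toLinearMap,
    postcomp_comp, postcomp_NTSlaw, postcomp_tmap_Nlaw]

end Main

end Groth.Agent.Lib.Helper20.PLDescend
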