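import Mathlib
import Groth.Prelude.Def_PolLaw
import Groth.Prelude.Def_SymTen
import Groth.Agent.Lib.Helper20.PLCH2
import Groth.Agent.Lib.Helper20.PLDescend

/-!
# Cayley–Hamilton for multiplicative laws
-/

namespace Groth.Agent.Lib.Helper20.PLCH

open scoped TensorProduct
open Groth.Agent.Lib.Helper20.PLCoeff Groth.Agent.Lib.Helper20.PLCorestrict
  Groth.Agent.Lib.Helper20.PLTS Groth.Agent.Lib.Helper20.PLNat Groth.Agent.Lib.Helper20.PLNorm
  Groth.Agent.Lib.Helper20.PLFree Groth.Agent.Lib.Helper20.PLDescend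

universe u

section PartD

variable {A : Type u} [CommRing A] {B : Type u} [CommRing B] [Algebra A B] {d : ℕ}

/-- the Cayley–Hamilton element `χ_b(b)` of a law `F : B → A` -/
noncomputable def chElt (F : B →ₚₗ[A] A) (b : B) : B :=
  TensorProduct.rid A B (F.toFun' B (delta (A := A) b))

theorem rid_rTensor {S S' : Type u} [CommSemiring S] [Algebra A S] [CommSemiring S']
    [Algebra A S'] (φ : S →ₐ[A] S') (z : S ⊗[A] A) :
    TensorProduct.rid A S' (φ.toLinearMap.rTensor A z) = φ (TensorProduct.rid A S z) := by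
  induction z using TensorProduct.induction_on with
  | zero => simp
  | tmul s a => simp
  | add x y hx hy => simp only [map_add, hx, hy]

/-- the Cayley–Hamilton element is natural in the test algebra -/
theorem rid_toFun'_eq_chElt (F : B →ₚₗ[A] A) (b : B) {S : Type u} [CommRing S] [Algebra A S]
    (s : S) (φ : S →ₐ[A] B) (hφ : φ s = b) :
    φ (TensorProduct.rid A S (F.toFun' S ((1 : S) ⊗ₜ[A] b - s ⊗ₜ[A] (1 : B)))) = chElt F b := by
  unfold chElt delta
  rw [← rid_rTensor, PolynomialLaw.isCompat_apply']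
  congr 2
  rw [map_sub, LinearMap.rTensor_tmul, LinearMap.rTensor_tmul, AlgHom.toLinearMap_apply,
    AlgHom.toLinearMap_apply, map_one, hφ]

theorem ch_free {P : Type u} [CommRing P] [Algebra A P] [Module.Free A P]
    (F : PolLaw.MulLaw A P A d) (t : P) : chElt F.law t ∈ PolLaw.ker F.law := by
  obtain ⟨f, hf, -⟩ := isGammaD_TSlaw_of_free (A := A) (B := P) d A F
  have hf' : PolLaw.postcomp f.toLinearMap (TSlaw A P d).law = F.law := hf
  have := ch_free_aux d t f
  rw [hf'] at this
  exact this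

/-- **Cayley–Hamilton for multiplicative laws** -/
theorem ch (F : PolLaw.MulLaw A B A d) (b : B) : chElt F.law b ∈ PolLaw.ker F.law := by
  intro S _ _ x w
  let π := πP (A := A) (B := B)
  let F' := F.precomp π
  let t : MvPolynomial B A := MvPolynomial.X b
  have hπt : π t = b := by simp [π, t, πP]
  have hκ : π (chElt F'.law t) = chElt F.law b := by
    have h1 : F'.law.toFun' (MvPolynomial B A) (delta (A := A) t) =
        F.law.toFun' (MvPolynomial B A)
          ((1 : MvPolynomial B A) ⊗ₜ[A] b - t ⊗ₜ[A] (1 : B)) := by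
      change F.law.toFun' _ (π.toLinearMap.lTensor _ (delta (A := A) t)) = _
      congr 1
      unfold delta
      rw [map_sub, LinearMap.lTensor_tmul, LinearMap.lTensor_tmul, AlgHom.toLinearMap_apply,
        AlgHom.toLinearMap_apply, map_one, hπt]
    unfold chElt
    rw [h1]
    exact rid_toFun'_eq_chElt F.law b t π hπt
  obtain ⟨x', rfl⟩ := LinearMap.lTensor_surjective S (g := π.toLinearMap) πP_surjective x
  obtain ⟨w', rfl⟩ := LinearMap.lTensor_surjective S (g := π.toLinearMap) πP_surjective w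
  have key := ch_free F' t S x' w'
  have e : π.toLinearMap.lTensor S (x' + w' * ((1 : S) ⊗ₜ[A] chElt F'.law t)) =
      π.toLinearMap.lTensor S x' + π.toLinearMap.lTensor S w' *
        ((1 : S) ⊗ₜ[A] chElt F.law b) := by
    rw [map_add, PolLaw.lTensor_algHom_apply, PolLaw.lTensor_algHom_apply,
      PolLaw.lTensor_algHom_apply, map_mul, Algebra.TensorProduct.map_tmul, hκ]
    rfl
  rw [← e]
  exact key

end PartD

section Poly

variable {A : Type u} [CommRing A] {B : Type u} [CommRing B] [Algebra A B] {d : ℕ}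

theorem aeval_chi (F : PolLaw.MulLaw A B A d) (χ : B → Polynomial A)
    (hχ : ∀ b : B, χ b = TensorProduct.rid A (Polynomial A)
      (F.law.toFun' (Polynomial A) ((1 : Polynomial A) ⊗ₜ[A] b - Polynomial.X ⊗ₜ[A] (1 : B))))
    (b : B) : Polynomial.aeval b (χ b) = chElt F.law b := by
  rw [hχ b]
  exact rid_toFun'_eq_chElt F.law b Polynomial.X (Polynomial.aeval b) (Polynomial.aeval_X b)

theorem chi_of_mem_ker (F : PolLaw.MulLaw A B A d) (k : B) (hk : k ∈ PolLaw.ker F.law) :
    TensorProduct.rid A (Polynomial A)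
      (F.law.toFun' (Polynomial A) ((1 : Polynomial A) ⊗ₜ[A] k - Polynomial.X ⊗ₜ[A] (1 : B))) =
      (-Polynomial.X) ^ d := by
  have h1 : (1 : Polynomial A) ⊗ₜ[A] k - Polynomial.X ⊗ₜ[A] (1 : B) =
      (-Polynomial.X : Polynomial A) • (1 : Polynomial A ⊗[A] B) +
        1 * ((1 : Polynomial A) ⊗ₜ[A] k) := by
    rw [one_mul, Algebra.TensorProduct.one_def, TensorProduct.smul_tmul', smul_eq_mul, mul_one,
      TensorProduct.neg_tmul]
    ring
  rw [h1, hk (Polynomial A), F.homog, (F.mult _).1, Algebra.TensorProduct.one_def,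
    TensorProduct.smul_tmul', TensorProduct.rid_tmul, smul_eq_mul, mul_one, one_smul]

theorem main13696 (F : PolLaw.MulLaw A B A d) (χ : B → Polynomial A)
    (hχ : ∀ b : B, χ b = TensorProduct.rid A (Polynomial A)
      (F.law.toFun' (Polynomial A) ((1 : Polynomial A) ⊗ₜ[A] b - Polynomial.X ⊗ₜ[A] (1 : B)))) :
    Ideal.span (Set.range fun b : B => Polynomial.aeval b (χ b)) ≤ PolLaw.ker F.law ∧
      PolLaw.ker F.law ≤
        (Ideal.span (Set.range fun b : B => Polynomial.aeval b (χ b))).radical := by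
  constructor
  · rw [Ideal.span_le]
    rintro _ ⟨b, rfl⟩
    change Polynomial.aeval b (χ b) ∈ PolLaw.ker F.law
    rw [aeval_chi F χ hχ]
    exact ch F b
  · intro k hk
    have h1 : Polynomial.aeval k (χ k) ∈
        Ideal.span (Set.range fun b : B => Polynomial.aeval b (χ b)) :=
      Ideal.subset_span ⟨k, rfl⟩
    rw [hχ k, chi_of_mem_ker F k hk, map_pow, map_neg, Polynomial.aeval_X] at h1
    refine ⟨d, ?_⟩
    have h2 : k ^ d = (-1) ^ d * (-k) ^ d := by
      rw [← mul_pow]
      simp
    rw [h2]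
    exact Ideal.mul_mem_left _ _ h1

end Poly

end Groth.Agent.Lib.Helper20.PLCH
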