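import Mathlib
import Groth.Prelude.Def_PolLaw
import Groth.Agent.Lib.Helper20.PLBC2
import Groth.Agent.Lib.Helper20.PLCH3

/-!
# Generic Cayley–Hamilton for multiplicative laws, and the support commutes with base change
-/

namespace Groth.Agent.Lib.Helper20.PLBC

open scoped TensorProduct Polynomial
open Groth.Agent.Lib.lead.PolLawKerBC Groth.Agent.Lib.Helper20.PLCH

universe u

section Generic

variable {A : Type u} [CommRing A] {B : Type u} [CommRing B] [Algebra A B]

/-- the argument of the generic Cayley–Hamilton element -/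
noncomputable def deltaG (S : Type u) [CommRing S] [Algebra A S] (β : S ⊗[A] B) :
    (S ⊗[A] B) ⊗[A] B :=
  Algebra.TensorProduct.map (Algebra.TensorProduct.includeLeft : S →ₐ[A] S ⊗[A] B)
    (AlgHom.id A B) β - β ⊗ₜ[A] (1 : B)

/-- the generic Cayley–Hamilton element `χ_β(β)` for `β ∈ S ⊗ B` -/
noncomputable def chG (F : B →ₚₗ[A] A) (S : Type u) [CommRing S] [Algebra A S] (β : S ⊗[A] B) :
    S ⊗[A] B :=
  TensorProduct.rid A (S ⊗[A] B) (F.toFun' (S ⊗[A] B) (deltaG S β))

theorem rTensor_deltaG {S S₂ : Type u} [CommRing S] [Algebra A S] [CommRing S₂] [Algebra A S₂]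
    (σ : S →ₐ[A] S₂) (β : S ⊗[A] B) :
    (Algebra.TensorProduct.map σ (AlgHom.id A B)).toLinearMap.rTensor B (deltaG S β) =
      deltaG S₂ (Algebra.TensorProduct.map σ (AlgHom.id A B) β) := by
  unfold deltaG
  rw [map_sub, LinearMap.rTensor_tmul, AlgHom.toLinearMap_apply]
  congr 1
  induction β using TensorProduct.induction_on with
  | zero => simp
  | tmul s b => simp
  | add x y hx hy => simp only [map_add, hx, hy]

theorem map_chG (F : B →ₚₗ[A] A) {S S₂ : Type u} [CommRing S] [Algebra A S] [CommRing S₂]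
    [Algebra A S₂] (σ : S →ₐ[A] S₂) (β : S ⊗[A] B) :
    Algebra.TensorProduct.map σ (AlgHom.id A B) (chG F S β) =
      chG F S₂ (Algebra.TensorProduct.map σ (AlgHom.id A B) β) := by
  unfold chG
  rw [← rid_rTensor, PolynomialLaw.isCompat_apply', rTensor_deltaG]

theorem rid_ridA'_symm (P : Type u) [CommRing P] (R : Type u) [CommSemiring R] [Algebra P R]
    (y : R) : TensorProduct.rid P R ((ridA' (A' := P) R).symm y) = y := by
  rw [Algebra.TensorProduct.rid_symm_apply, TensorProduct.rid_tmul, one_smul]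

theorem ridA_eq (R : Type u) [CommSemiring R] [Algebra A R] (y : R ⊗[A] A) :
    ridA (A := A) R y = TensorProduct.rid A R y := by
  induction y using TensorProduct.induction_on with
  | zero => simp
  | tmul r a => simp
  | add x y hx hy => simp only [map_add, hx, hy]

theorem canc_delta (P : Type u) [CommRing P] [Algebra A P] (β : P ⊗[A] B) :
    canc (A := A) (A' := P) (B := B) (P ⊗[A] B) (delta (A := P) β) = deltaG P β := by
  unfold delta deltaG
  rw [map_sub, canc_one_tmul]
  congr 1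
  rw [Algebra.TensorProduct.one_def, Algebra.TensorProduct.cancelBaseChange_tmul, one_smul]

theorem chElt_bcLaw (F : B →ₚₗ[A] A) (P : Type u) [CommRing P] [Algebra A P] (β : P ⊗[A] B) :
    chElt (bcLaw P F) β = chG F P β := by
  unfold chElt chG
  rw [bcLaw_toFun']
  unfold bcFun
  rw [rid_ridA'_symm, ridA_eq, canc_delta]

/-- **generic Cayley–Hamilton** : `χ_β(β)` lies in the kernel of the base change -/
theorem chG_mem_kerBC {d : ℕ} (F : PolLaw.MulLaw A B A d) (P : Type u) [CommRing P] [Algebra A P]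
    (β : P ⊗[A] B) : chG F.law P β ∈ PolLaw.kerBC F.law P := by
  rw [← chElt_bcLaw, ← ker_bcLaw]
  exact ch (bcMulLaw P F) β

/-- **generic Cayley–Hamilton** over a polynomial ring -/
theorem chG_mem_map_ker {d : ℕ} (F : PolLaw.MulLaw A B A d) (n : ℕ)
    (β : MvPolynomial (Fin n) A ⊗[A] B) :
    chG F.law (MvPolynomial (Fin n) A) β ∈ (PolLaw.ker F.law).map
      (Algebra.TensorProduct.includeRight : B →ₐ[A] MvPolynomial (Fin n) A ⊗[A] B) :=
  kerBC_mvPolynomial_le F.law n (chG_mem_kerBC F _ β)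

/-- **generic Cayley–Hamilton**, general form -/
theorem chG_mem_map_ker' {d : ℕ} (F : PolLaw.MulLaw A B A d) (S : Type u) [CommRing S]
    [Algebra A S] (β : S ⊗[A] B) :
    chG F.law S β ∈ (PolLaw.ker F.law).map
      (Algebra.TensorProduct.includeRight : B →ₐ[A] S ⊗[A] B) := by
  obtain ⟨n, s, b, rfl⟩ := TensorProduct.exists_sum_tmul_eq β
  let ev : MvPolynomial (Fin n) A →ₐ[A] S := MvPolynomial.aeval s
  let β' : MvPolynomial (Fin n) A ⊗[A] B := ∑ j, (MvPolynomial.X j) ⊗ₜ[A] b j
  have hβ : Algebra.TensorProduct.map ev (AlgHom.id A B) β' = ∑ j, s j ⊗ₜ[A] b j := by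
    simp [β', ev]
  rw [← hβ, ← map_chG]
  exact map_map_includeRight_le F.law ev (Ideal.mem_map_of_mem _ (chG_mem_map_ker F n β'))

theorem chG_of_mem_kerBC {d : ℕ} (F : PolLaw.MulLaw A B A d) (A' : Type u) [CommRing A']
    [Algebra A A'] (b' : A' ⊗[A] B) (hb' : b' ∈ PolLaw.kerBC F.law A') :
    chG F.law A' b' = (-b') ^ d := by
  rw [mem_kerBC_iff] at hb'
  have h := hb' (A' ⊗[A] B) (Algebra.TensorProduct.includeLeft : A' →ₐ[A] A' ⊗[A] B)
    (-(b' ⊗ₜ[A] (1 : B))) 1
  have e : deltaG A' b' = -(b' ⊗ₜ[A] (1 : B)) + 1 *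
      Algebra.TensorProduct.map (Algebra.TensorProduct.includeLeft : A' →ₐ[A] A' ⊗[A] B)
        (AlgHom.id A B) b' := by
    unfold deltaG
    ring
  have e2 : -(b' ⊗ₜ[A] (1 : B)) = (-b') • (1 : (A' ⊗[A] B) ⊗[A] B) := by
    rw [Algebra.TensorProduct.one_def, TensorProduct.smul_tmul', smul_eq_mul, mul_one,
      TensorProduct.neg_tmul]
  unfold chG
  rw [e, h, e2, F.homog, (F.mult _).1, Algebra.TensorProduct.one_def, TensorProduct.smul_tmul',
    TensorProduct.rid_tmul, one_smul, smul_eq_mul, mul_one]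

/-- the support of a multiplicative law commutes with base change -/
theorem main13697 {d : ℕ} (F : PolLaw.MulLaw A B A d) (A' : Type u) [CommRing A']
    [Algebra A A'] :
    (PolLaw.kerBC F.law A').radical =
      ((PolLaw.ker F.law).map
        (Algebra.TensorProduct.includeRight : B →ₐ[A] A' ⊗[A] B)).radical := by
  apply le_antisymm
  · rw [Ideal.radical_le_radical_iff]
    intro b' hb'
    refine ⟨d, ?_⟩
    have h1 := chG_mem_map_ker' F A' b'
    rw [chG_of_mem_kerBC F A' b' hb'] at h1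
    have h2 : b' ^ d = (-1) ^ d * (-b') ^ d := by
      rw [← mul_pow]
      simp
    rw [h2]
    exact Ideal.mul_mem_left _ _ h1
  · exact Ideal.radical_mono (Groth.Agent.Lib.lead.PolLawUniv.map_le_kerBC' F.law A')

end Generic

end Groth.Agent.Lib.Helper20.PLBC
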