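import Mathlib
import Groth.Prelude.Def_PolLaw
import Groth.Prelude.Def_SymTen
import Groth.Agent.Lib.Helper20.PLCH3
import Groth.Agent.Lib.Helper20.PLSub

/-!
# The image of a multiplicative law `B → A` is integral over `A`
-/

namespace Groth.Agent.Lib.Helper20.PLCH

open scoped TensorProduct
open Groth.Agent.Lib.Helper20.PLCoeff Groth.Agent.Lib.Helper20.PLCorestrict
  Groth.Agent.Lib.Helper20.PLTS Groth.Agent.Lib.Helper20.PLNat Groth.Agent.Lib.Helper20.PLNorm
  Groth.Agent.Lib.Helper20.PLFree Groth.Agent.Lib.Helper20.PLDescend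
  Groth.Agent.Lib.Helper20.PLPolar Groth.Agent.Lib.Helper20.PLSub

universe u

section Integral

variable {A : Type u} [CommRing A] {B : Type u} [CommRing B] [Algebra A B] {d : ℕ}

/-- the (monic) characteristic polynomial `F(X - b)` -/
noncomputable def psi (F : B →ₚₗ[A] A) (b : B) : Polynomial A :=
  TensorProduct.rid A (Polynomial A)
    (F.toFun' (Polynomial A) (Polynomial.X ⊗ₜ[A] (1 : B) - (1 : Polynomial A) ⊗ₜ[A] b))

theorem rid_smul {S : Type u} [CommSemiring S] [Algebra A S] (p : S) (w : S ⊗[A] A) :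
    TensorProduct.rid A S (p • w) = p * TensorProduct.rid A S w := by
  induction w using TensorProduct.induction_on with
  | zero => simp
  | tmul s a => simp [TensorProduct.smul_tmul']
  | add x y hx hy => rw [smul_add, map_add, hx, hy, map_add, mul_add]

theorem aeval_psi_mem (F : PolLaw.MulLaw A B A d) (b : B) :
    Polynomial.aeval b (psi F.law b) ∈ PolLaw.ker F.law := by
  have h1 : Polynomial.X ⊗ₜ[A] (1 : B) - (1 : Polynomial A) ⊗ₜ[A] b =
      (-1 : Polynomial A) • ((1 : Polynomial A) ⊗ₜ[A] b - Polynomial.X ⊗ₜ[A] (1 : B)) := by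
    rw [smul_sub, TensorProduct.smul_tmul', TensorProduct.smul_tmul', smul_eq_mul, smul_eq_mul,
      neg_one_mul, neg_one_mul, TensorProduct.neg_tmul, TensorProduct.neg_tmul]
    abel
  unfold psi
  rw [h1, F.homog, rid_smul, map_mul]
  apply Ideal.mul_mem_left
  rw [rid_toFun'_eq_chElt F.law b Polynomial.X (Polynomial.aeval b) (Polynomial.aeval_X b)]
  exact ch F b

theorem coeff_one_single (F : PolLaw.MulLaw A B A d) (b : B) :
    PLCoeff.coeff F.law (![1, b] : Fin 2 → B) (Finsupp.single 0 d) = 1 := by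
  have hj : Function.Injective (fun _ : Unit => (0 : Fin 2)) := fun _ _ _ => rfl
  have h1 := coeff_comp_injective F.law (fun _ : Unit => (0 : Fin 2)) hj (![1, b] : Fin 2 → B)
    (Finsupp.single () d)
  rw [Finsupp.mapDomain_single] at h1
  rw [← h1]
  have h2 : (fun i : Unit => (![1, b] : Fin 2 → B) ((fun _ : Unit => (0 : Fin 2)) i)) =
      fun _ => (1 : B) := by
    funext i
    simp
  rw [h2]
  unfold PLCoeff.coeff gen
  have h3 : ∑ i : Unit, (MvPolynomial.X i : MvPolynomial Unit A) ⊗ₜ[A] (1 : B) =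
      (MvPolynomial.X () : MvPolynomial Unit A) • (1 : MvPolynomial Unit A ⊗[A] B) := by
    rw [Fintype.sum_unique, Algebra.TensorProduct.one_def, TensorProduct.smul_tmul', smul_eq_mul,
      mul_one]
  rw [h3]
  exact ext1_one F

theorem psi_monic (F : PolLaw.MulLaw A B A d) (b : B) : (psi F.law b).Monic := by
  classical
  let m : Fin 2 → B := ![1, b]
  let s : Fin 2 → Polynomial A := ![Polynomial.X, -1]
  let βs : Fin 2 →₀ ℕ := Finsupp.single 0 d
  let t : Finset (Fin 2 →₀ ℕ) := insert βs (csupp F.law m)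
  have ht : csupp F.law m ⊆ t := Finset.subset_insert _ _
  have harg : Polynomial.X ⊗ₜ[A] (1 : B) - (1 : Polynomial A) ⊗ₜ[A] b = ∑ i, s i ⊗ₜ[A] m i := by
    rw [Fin.sum_univ_two]
    simp [s, m, TensorProduct.neg_tmul, sub_eq_add_neg]
  have hpsi : psi F.law b = ∑ β ∈ t,
      PLCoeff.coeff F.law m β • (Polynomial.X ^ β 0 * (-1) ^ β 1 : Polynomial A) := by
    unfold psi
    rw [harg, toFun'_sum_tmul F.law m (Polynomial A) s ht, map_sum]
    refine Finset.sum_congr rfl (fun β _ => ?_)
    rw [TensorProduct.rid_tmul, aeval_monomial_one, Fin.prod_univ_two]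
    rfl
  have hsplit : psi F.law b = Polynomial.X ^ d + ∑ β ∈ t.erase βs,
      PLCoeff.coeff F.law m β • (Polynomial.X ^ β 0 * (-1) ^ β 1 : Polynomial A) := by
    rw [hpsi, ← Finset.add_sum_erase t _ (Finset.mem_insert_self βs _)]
    congr 1
    have : PLCoeff.coeff F.law m βs = 1 := coeff_one_single F b
    rw [this, one_smul]
    simp [βs]
  rw [hsplit]
  apply Polynomial.monic_X_pow_add
  rw [← Polynomial.mem_degreeLT]
  refine Submodule.sum_mem _ (fun β hβ => ?_)
  have hne : β ≠ βs := (Finset.mem_erase.mp hβ).1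
  by_cases hsum : ∑ i, β i = d
  · rw [Fin.sum_univ_two] at hsum
    have hlt : β 0 < d := by
      rcases Nat.lt_or_ge (β 0) d with h | h
      · exact h
      · exfalso
        apply hne
        have h0 : β 0 = d := by omega
        have h1 : β 1 = 0 := by omega
        ext i
        fin_cases i
        · simp [βs, h0]
        · simp [βs, h1]
    rw [Polynomial.mem_degreeLT]
    have e : PLCoeff.coeff F.law m β • (Polynomial.X ^ β 0 * (-1) ^ β 1 : Polynomial A) =
        Polynomial.C (PLCoeff.coeff F.law m β * (-1) ^ β 1) * Polynomial.X ^ β 0 := by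
      rw [Polynomial.smul_eq_C_mul]
      simp only [Polynomial.C_mul, Polynomial.C_pow, Polynomial.C_neg, Polynomial.C_1]
      ring
    rw [e]
    refine lt_of_le_of_lt (Polynomial.degree_C_mul_X_pow_le _ _) ?_
    exact_mod_cast hlt
  · rw [coeff_eq_zero_of_sum_ne F.law F.homog m β hsum, zero_smul]
    exact Submodule.zero_mem _

theorem main13695 (F : PolLaw.MulLaw A B A d) : Algebra.IsIntegral A (PolLaw.image F.law) := by
  constructor
  intro z
  obtain ⟨b, rfl⟩ := Ideal.Quotient.mk_surjective z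
  refine ⟨psi F.law b, psi_monic F b, ?_⟩
  rw [← Polynomial.aeval_def]
  have h : Polynomial.aeval (Ideal.Quotient.mkₐ A (PolLaw.ker F.law) b) (psi F.law b) =
      Ideal.Quotient.mkₐ A (PolLaw.ker F.law) (Polynomial.aeval b (psi F.law b)) :=
    Polynomial.aeval_algHom_apply (Ideal.Quotient.mkₐ A (PolLaw.ker F.law)) b (psi F.law b)
  rw [Ideal.Quotient.mkₐ_eq_mk] at h
  rw [h]
  exact Ideal.Quotient.eq_zero_iff_mem.mpr (aeval_psi_mem F b)

end Integral

end Groth.Agent.Lib.Helper20.PLCH
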