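import Mathlib
import Groth.Prelude.Def_PolLaw
import Groth.Agent.Lib.lead.PolLawProd

/-!
# Idempotents and multiplicative laws over a connected base
-/

namespace Groth.Agent.Lib.Helper20.PLIdem

open scoped TensorProduct
open Groth.Agent.Lib.lead.PolLawProd

universe u

variable {A : Type u} [CommRing A] {B : Type u} [CommRing B] [Algebra A B]

theorem rTensor_eq_map {S S' : Type u} [CommSemiring S] [Algebra A S] [CommSemiring S']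
    [Algebra A S'] (φ : S →ₐ[A] S') (z : S ⊗[A] B) :
    (φ.toLinearMap.rTensor B) z = (Algebra.TensorProduct.map φ (AlgHom.id A B)) z := by
  induction z using TensorProduct.induction_on with
  | zero => simp
  | tmul a b => rfl
  | add a b ha hb => simp [ha, hb]

/-- the affine law `x ↦ (1 - ε) + ε x` -/
noncomputable def affLaw (ε : B) : B →ₚₗ[A] B where
  toFun' S _ _ x := (1 : S) ⊗ₜ[A] (1 - ε) + ((1 : S) ⊗ₜ[A] ε) * x
  isCompat' {S} _ _ {S'} _ _ φ := by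
    funext x
    simp only [Function.comp_apply]
    rw [rTensor_eq_map, rTensor_eq_map, map_add, map_mul, Algebra.TensorProduct.map_tmul,
      Algebra.TensorProduct.map_tmul, map_one, AlgHom.id_apply, AlgHom.id_apply]

variable (F : B →ₚₗ[A] A)

/-- the law `x ↦ F((1 - ε) + ε x)` -/
noncomputable def G (ε : B) : B →ₚₗ[A] A := F.comp (affLaw ε)

theorem G_apply (ε : B) (S : Type u) [CommSemiring S] [Algebra A S] (x : S ⊗[A] B) :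
    (G F ε).toFun' S x = F.toFun' S ((1 : S) ⊗ₜ[A] (1 - ε) + ((1 : S) ⊗ₜ[A] ε) * x) := rfl

section Ring

variable {S : Type u} [CommSemiring S] [Algebra A S]

/-- the semiring `S ⊗ B` is a ring -/
noncomputable def ringInst : CommRing (S ⊗[A] B) :=
  { (inferInstance : CommSemiring (S ⊗[A] B)),
    Module.addCommMonoidToAddCommGroup A (M := S ⊗[A] B) with }

theorem aff_one (ε : B) :
    (1 : S) ⊗ₜ[A] (1 - ε) + ((1 : S) ⊗ₜ[A] ε) * (1 : S ⊗[A] B) = 1 := by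
  rw [mul_one, ← TensorProduct.tmul_add, sub_add_cancel]
  rfl

theorem aff_mul {ε : B} (hε : IsIdempotentElem ε) (x y : S ⊗[A] B) :
    ((1 : S) ⊗ₜ[A] (1 - ε) + ((1 : S) ⊗ₜ[A] ε) * x) *
      ((1 : S) ⊗ₜ[A] (1 - ε) + ((1 : S) ⊗ₜ[A] ε) * y) =
    (1 : S) ⊗ₜ[A] (1 - ε) + ((1 : S) ⊗ₜ[A] ε) * (x * y) := by
  have h1 : ((1 : S) ⊗ₜ[A] (1 - ε)) * ((1 : S) ⊗ₜ[A] (1 - ε)) = (1 : S) ⊗ₜ[A] (1 - ε) := by
    rw [Algebra.TensorProduct.tmul_mul_tmul, mul_one, hε.one_sub.eq]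
  have h2 : ((1 : S) ⊗ₜ[A] (1 - ε)) * ((1 : S) ⊗ₜ[A] ε) = 0 := by
    rw [Algebra.TensorProduct.tmul_mul_tmul, mul_one, sub_mul, one_mul, hε.eq, sub_self,
      TensorProduct.tmul_zero]
  have h3 : ((1 : S) ⊗ₜ[A] ε) * ((1 : S) ⊗ₜ[A] ε) = (1 : S) ⊗ₜ[A] ε := by
    rw [Algebra.TensorProduct.tmul_mul_tmul, mul_one, hε.eq]
  calc ((1 : S) ⊗ₜ[A] (1 - ε) + ((1 : S) ⊗ₜ[A] ε) * x) *
      ((1 : S) ⊗ₜ[A] (1 - ε) + ((1 : S) ⊗ₜ[A] ε) * y)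
      = ((1 : S) ⊗ₜ[A] (1 - ε)) * ((1 : S) ⊗ₜ[A] (1 - ε)) +
        (((1 : S) ⊗ₜ[A] (1 - ε)) * ((1 : S) ⊗ₜ[A] ε)) * y +
        (((1 : S) ⊗ₜ[A] (1 - ε)) * ((1 : S) ⊗ₜ[A] ε)) * x +
        (((1 : S) ⊗ₜ[A] ε) * ((1 : S) ⊗ₜ[A] ε)) * (x * y) := by ring
    _ = _ := by rw [h1, h2, h3, zero_mul, zero_mul, add_zero, add_zero]

theorem aff_add {ε η : B} (h : ε * η = 0) (x : S ⊗[A] B) :
    ((1 : S) ⊗ₜ[A] (1 - ε) + ((1 : S) ⊗ₜ[A] ε) * x) *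
      ((1 : S) ⊗ₜ[A] (1 - η) + ((1 : S) ⊗ₜ[A] η) * x) =
    (1 : S) ⊗ₜ[A] (1 - (ε + η)) + ((1 : S) ⊗ₜ[A] (ε + η)) * x := by
  have h1 : ((1 : S) ⊗ₜ[A] (1 - ε)) * ((1 : S) ⊗ₜ[A] (1 - η)) = (1 : S) ⊗ₜ[A] (1 - (ε + η)) := by
    rw [Algebra.TensorProduct.tmul_mul_tmul, mul_one]
    congr 1
    have : (1 - ε) * (1 - η) = 1 - (ε + η) + ε * η := by ring
    rw [this, h, add_zero]
  have h2 : ((1 : S) ⊗ₜ[A] (1 - ε)) * ((1 : S) ⊗ₜ[A] η) = (1 : S) ⊗ₜ[A] η := by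
    rw [Algebra.TensorProduct.tmul_mul_tmul, mul_one, sub_mul, one_mul, h, sub_zero]
  have h3 : ((1 : S) ⊗ₜ[A] ε) * ((1 : S) ⊗ₜ[A] (1 - η)) = (1 : S) ⊗ₜ[A] ε := by
    rw [Algebra.TensorProduct.tmul_mul_tmul, mul_one, mul_sub, mul_one, h, sub_zero]
  have h4 : ((1 : S) ⊗ₜ[A] ε) * ((1 : S) ⊗ₜ[A] η) = 0 := by
    rw [Algebra.TensorProduct.tmul_mul_tmul, mul_one, h, TensorProduct.tmul_zero]
  calc ((1 : S) ⊗ₜ[A] (1 - ε) + ((1 : S) ⊗ₜ[A] ε) * x) *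
      ((1 : S) ⊗ₜ[A] (1 - η) + ((1 : S) ⊗ₜ[A] η) * x)
      = ((1 : S) ⊗ₜ[A] (1 - ε)) * ((1 : S) ⊗ₜ[A] (1 - η)) +
        (((1 : S) ⊗ₜ[A] (1 - ε)) * ((1 : S) ⊗ₜ[A] η)) * x +
        (((1 : S) ⊗ₜ[A] ε) * ((1 : S) ⊗ₜ[A] (1 - η))) * x +
        (((1 : S) ⊗ₜ[A] ε) * ((1 : S) ⊗ₜ[A] η)) * (x * x) := by ring
    _ = _ := by
      rw [h1, h2, h3, h4, zero_mul, add_zero, TensorProduct.tmul_add, add_mul, add_assoc]
      congr 1
      rw [add_comm]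

end Ring

theorem G_mult (hF : PolLaw.IsMult F) {ε : B} (hε : IsIdempotentElem ε) :
    PolLaw.IsMult (G F ε) := by
  intro S _ _
  refine ⟨?_, fun x y => ?_⟩
  · rw [G_apply, aff_one, (hF S).1]
  · rw [G_apply, G_apply, G_apply, ← (hF S).2, aff_mul hε]

theorem G_add (hF : PolLaw.IsMult F) {ε η : B} (h : ε * η = 0) (S : Type u) [CommSemiring S]
    [Algebra A S] (x : S ⊗[A] B) :
    (G F (ε + η)).toFun' S x = (G F ε).toFun' S x * (G F η).toFun' S x := by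
  rw [G_apply, G_apply, G_apply, ← (hF S).2, aff_add h]

theorem G_one (S : Type u) [CommSemiring S] [Algebra A S] (x : S ⊗[A] B) :
    (G F 1).toFun' S x = F.toFun' S x := by
  rw [G_apply, sub_self, TensorProduct.tmul_zero, zero_add]
  congr 1
  exact one_mul x

theorem G_zero (hF : PolLaw.IsMult F) (S : Type u) [CommSemiring S] [Algebra A S]
    (x : S ⊗[A] B) : (G F 0).toFun' S x = 1 := by
  rw [G_apply, sub_zero, TensorProduct.tmul_zero, zero_mul, add_zero]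
  exact (hF S).1

end Groth.Agent.Lib.Helper20.PLIdem
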