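import Mathlib
import Groth.Prelude.Def_PolLaw
import Groth.Agent.Lib.Helper20.PLIdem

/-!
# Counting orthogonal idempotents outside the kernel of a multiplicative law
-/

namespace Groth.Agent.Lib.Helper20.PLIdem

open scoped TensorProduct
open Groth.Agent.Lib.lead.PolLawProd

universe u

variable {A : Type u} [CommRing A] {B : Type u} [CommRing B] [Algebra A B]

open Polynomial in
theorem deg_unique [Nontrivial A] (H : B →ₚₗ[A] A) (hH : PolLaw.IsMult H) {k l : ℕ}
    (hk : PolLaw.IsHomog H k) (hl : PolLaw.IsHomog H l) : k = l := by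
  apply X_pow_smul_inj (A := A)
  have h1 := hk A[X] X 1
  have h2 := hl A[X] X 1
  rw [(hH _).1] at h1 h2
  exact h1.symm.trans h2

variable (F : B →ₚₗ[A] A)

theorem mem_ker_of_deg_zero (hF : PolLaw.IsMult F) {ε : B} (hε : IsIdempotentElem ε)
    (h0 : PolLaw.IsHomog (G F ε) 0) : ε ∈ PolLaw.ker F := by
  have hG1 : ∀ (S : Type u) [CommSemiring S] [Algebra A S] (x : S ⊗[A] B),
      (G F ε).toFun' S x = 1 := by
    intro S _ _ x
    have h1 := h0 S 0 x
    have h2 := h0 S 0 1
    rw [zero_smul, pow_zero, one_smul] at h1 h2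
    rw [← h1, h2, (G_mult F hF hε S).1]
  have hmul : ε * (1 - ε) = 0 := by rw [mul_sub, mul_one, hε.eq, sub_self]
  have hsplit : ∀ (S : Type u) [CommSemiring S] [Algebra A S] (y : S ⊗[A] B),
      F.toFun' S y = (G F ε).toFun' S y * (G F (1 - ε)).toFun' S y := by
    intro S _ _ y
    rw [← G_add F hF hmul, add_sub_cancel, G_one]
  intro S _ _ x w
  rw [hsplit S (x + w * (1 ⊗ₜ[A] ε)), hsplit S x, hG1, hG1, one_mul, one_mul, G_apply, G_apply]
  congr 1
  have h3 : ((1 : S) ⊗ₜ[A] (1 - ε)) * (w * ((1 : S) ⊗ₜ[A] ε)) = 0 := by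
    rw [mul_left_comm, Algebra.TensorProduct.tmul_mul_tmul, mul_one, sub_mul, one_mul, hε.eq,
      sub_self, TensorProduct.tmul_zero, mul_zero]
  rw [mul_add, h3, add_zero]

theorem exists_deg_sum [ConnectedSpace (PrimeSpectrum A)] (hF : PolLaw.IsMult F) {ι : Type*}
    [DecidableEq ι] (ε : ι → B) (hidem : ∀ i, IsIdempotentElem (ε i))
    (horth : ∀ i j, i ≠ j → ε i * ε j = 0) (hker : ∀ i, ε i ∉ PolLaw.ker F) (s : Finset ι) :
    ∃ k, PolLaw.IsHomog (G F (∑ i ∈ s, ε i)) k ∧ s.card ≤ k := by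
  induction s using Finset.induction_on with
  | empty =>
    refine ⟨0, ?_, le_refl _⟩
    intro S _ _ t x
    rw [Finset.sum_empty, G_zero F hF, G_zero F hF, pow_zero, one_smul]
  | insert a s ha ih =>
    obtain ⟨k, hk, hcard⟩ := ih
    obtain ⟨l, hl⟩ := mult_homog (G F (ε a)) (G_mult F hF (hidem a))
    have hl1 : 1 ≤ l := by
      by_contra h
      have h0 : l = 0 := by omega
      subst h0
      exact hker a (mem_ker_of_deg_zero F hF (hidem a) hl)
    have horth' : ε a * ∑ i ∈ s, ε i = 0 := by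
      rw [Finset.mul_sum]
      exact Finset.sum_eq_zero (fun i hi => horth a i (by rintro rfl; exact ha hi))
    refine ⟨l + k, ?_, by rw [Finset.card_insert_of_notMem ha]; omega⟩
    rw [Finset.sum_insert ha]
    intro S _ _ t x
    rw [G_add F hF horth', G_add F hF horth', hl S t x, hk S t x, smul_mul_smul_comm, pow_add]

theorem card_le_of_orthogonal [ConnectedSpace (PrimeSpectrum A)] {d : ℕ}
    (F : PolLaw.MulLaw A B A d) {ι : Type*} [Fintype ι] [DecidableEq ι] (ε : ι → B)
    (hidem : ∀ i, IsIdempotentElem (ε i)) (horth : ∀ i j, i ≠ j → ε i * ε j = 0)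
    (hker : ∀ i, ε i ∉ PolLaw.ker F.law) : Fintype.card ι ≤ d := by
  haveI := nontrivial_of_conn (A := A)
  obtain ⟨k, hk, hcard⟩ := exists_deg_sum F.law F.mult ε hidem horth hker Finset.univ
  have hs : IsIdempotentElem (∑ i, ε i) :=
    OrthogonalIdempotents.isIdempotentElem_sum ⟨hidem, fun i j hij => horth i j hij⟩
  obtain ⟨l, hl⟩ := mult_homog (G F.law (1 - ∑ i, ε i)) (G_mult _ F.mult hs.one_sub)
  have hmul : (∑ i, ε i) * (1 - ∑ i, ε i) = 0 := by rw [mul_sub, mul_one, hs.eq, sub_self]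
  have h1 : PolLaw.IsHomog (G F.law 1) (k + l) := by
    have e1 : G F.law (1 : B) = G F.law ((∑ i, ε i) + (1 - ∑ i, ε i)) := by
      rw [add_sub_cancel]
    rw [e1]
    intro S _ _ t x
    rw [G_add F.law F.mult hmul, G_add F.law F.mult hmul, hk S t x, hl S t x,
      smul_mul_smul_comm, pow_add]
  have h2 : PolLaw.IsHomog (G F.law 1) d := fun S _ _ t x => by
    rw [G_one, G_one, F.homog]
  have h3 := deg_unique (G F.law 1) (G_mult F.law F.mult IsIdempotentElem.one) h1 h2
  rw [Finset.card_univ] at hcard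
  omega

end Groth.Agent.Lib.Helper20.PLIdem
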