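import Mathlib
import Groth.Prelude.Def_PolLaw
import Groth.Agent.Lib.Helper20.PLIdem2
import Groth.Agent.Lib.lead.PolLawQuot

/-!
# The image of a family of zero cycles over a connected base has at most `d` components
-/

namespace Groth.Agent.Lib.Helper20.PLIdem

open scoped TensorProduct
open Groth.Agent.Lib.lead.PolLawProd Groth.Agent.Lib.lead.PolLawQuot

universe u
set_option linter.style.haveILetI false

section Top

variable {X : Type*} [TopologicalSpace X]

/-- refine a partition when a piece is not preconnected -/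
theorem exists_refine {n : ℕ} (f : X → Fin n) (hf : Continuous f) (hs : Function.Surjective f)
    (i : Fin n) (hi : ¬ IsPreconnected (f ⁻¹' {i})) :
    ∃ g : X → Fin (n + 1), Continuous g ∧ Function.Surjective g := by
  classical
  unfold IsPreconnected at hi
  push_neg at hi
  obtain ⟨u, v, hu, hv, hsub, ⟨a, has, hau⟩, ⟨b, hbs, hbv⟩, hempty0⟩ := hi
  have hempty : ∀ x, x ∈ f ⁻¹' {i} ∩ (u ∩ v) → False := fun x hx =>
    Set.eq_empty_iff_forall_notMem.mp hempty0 x hx
  set s := f ⁻¹' {i} with hs_def
  have hs_clopen : IsClopen s := (isClopen_discrete {i}).preimage hf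
  have hcompl : (s ∩ v)ᶜ = sᶜ ∪ (s ∩ u) := by
    ext x
    simp only [Set.mem_compl_iff, Set.mem_inter_iff, Set.mem_union, not_and]
    constructor
    · intro h
      by_cases hx : x ∈ s
      · right
        refine ⟨hx, ?_⟩
        rcases hsub hx with h1 | h1
        · exact h1
        · exact absurd h1 (h hx)
      · left; exact hx
    · rintro (h | ⟨h1, h2⟩) hx
      · exact absurd hx h
      · intro hxv
        exact hempty x ⟨h1, h2, hxv⟩
  have hclopen : IsClopen (s ∩ v) := by
    refine ⟨?_, hs_clopen.2.inter hv⟩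
    rw [← isOpen_compl_iff, hcompl]
    exact hs_clopen.compl.2.union (hs_clopen.2.inter hu)
  refine ⟨fun x => if x ∈ s ∩ v then Fin.last n else (f x).castSucc, ?_, ?_⟩
  · apply Continuous.if
    · intro x hx
      have : frontier {x | x ∈ s ∩ v} = ∅ := hclopen.frontier_eq
      rw [this] at hx
      exact absurd hx (Set.notMem_empty x)
    · exact continuous_const
    · exact (continuous_of_discreteTopology (f := Fin.castSucc)).comp hf
  · intro j
    induction j using Fin.lastCases with
    | last => exact ⟨b, by simp only [if_pos (show b ∈ s ∩ v from ⟨hbs, hbv⟩)]⟩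
    | cast j =>
      by_cases hji : j = i
      · subst hji
        refine ⟨a, ?_⟩
        have hav : a ∉ s ∩ v := fun h => hempty a ⟨has, hau, h.2⟩
        simp only [if_neg hav]
        congr 1
      · obtain ⟨x, hx⟩ := hs j
        refine ⟨x, ?_⟩
        have hxs : x ∉ s ∩ v := fun h => hji (hx.symm.trans h.1)
        simp only [if_neg hxs, hx]

theorem card_connectedComponents_le (N : ℕ)
    (hN : ∀ (n : ℕ) (f : X → Fin n), Continuous f → Function.Surjective f → n ≤ N) :
    Finite (ConnectedComponents X) ∧ Nat.card (ConnectedComponents X) ≤ N := by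
  classical
  let P : ℕ → Prop := fun n => ∃ f : X → Fin n, Continuous f ∧ Function.Surjective f
  have hne : ∃ n, P n := by
    by_cases hX : Nonempty X
    · exact ⟨1, fun _ => 0, continuous_const, fun j => ⟨hX.some, (Subsingleton.elim _ _)⟩⟩
    · rw [not_nonempty_iff] at hX
      exact ⟨0, fun x => isEmptyElim x, continuous_of_discreteTopology, fun j => j.elim0⟩
  have hbdd : ∀ n, P n → n ≤ N := fun n ⟨f, hf, hs⟩ => hN n f hf hs
  obtain ⟨n₀, hn₀⟩ := hne
  let n := Nat.findGreatest P N
  have hPn : P n := Nat.findGreatest_spec (hbdd n₀ hn₀) hn₀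
  have hmax : ∀ m, P m → m ≤ n := fun m hm => Nat.le_findGreatest (hbdd m hm) hm
  obtain ⟨f, hf, hs⟩ := hPn
  have hconn : ∀ i, IsPreconnected (f ⁻¹' {i}) := by
    intro i
    by_contra hi
    obtain ⟨g, hg, hgs⟩ := exists_refine f hf hs i hi
    have := hmax (n + 1) ⟨g, hg, hgs⟩
    omega
  let φ : ConnectedComponents X → Fin n := hf.connectedComponentsLift
  have hφ : Function.Injective φ := by
    intro a b hab
    obtain ⟨x, rfl⟩ := ConnectedComponents.surjective_coe a
    obtain ⟨y, rfl⟩ := ConnectedComponents.surjective_coe b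
    have hxy : f x = f y := by
      have h1 := hf.connectedComponentsLift_apply_coe x
      have h2 := hf.connectedComponentsLift_apply_coe y
      rw [← h1, ← h2]
      exact hab
    rw [ConnectedComponents.coe_eq_coe']
    have hsub := (hconn (f x)).subset_connectedComponent (x := x) rfl
    have hy : y ∈ connectedComponent x := hsub (show y ∈ f ⁻¹' {f x} from hxy.symm)
    rw [← connectedComponent_eq hy]
    exact mem_connectedComponent
  haveI : Finite (ConnectedComponents X) := Finite.of_injective φ hφ
  refine ⟨inferInstance, ?_⟩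
  have h1 := Nat.card_le_card_of_injective φ hφ
  rw [Nat.card_fin] at h1
  exact h1.trans (hbdd n ⟨f, hf, hs⟩)

end Top

section Spec

variable {R : Type*} [CommRing R]

theorem idem_nilpotent_eq_zero {e : R} (he : IsIdempotentElem e) (hn : IsNilpotent e) : e = 0 := by
  obtain ⟨k, hk⟩ := hn
  cases k with
  | zero =>
    rw [pow_zero] at hk
    rw [← mul_one e, hk, mul_zero]
  | succ k => rwa [he.pow_succ_eq] at hk

theorem exists_idem_of_surj {n : ℕ} (f : PrimeSpectrum R → Fin n) (hf : Continuous f)
    (hs : Function.Surjective f) :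
    ∃ ε : Fin n → R, (∀ i, IsIdempotentElem (ε i)) ∧ (∀ i j, i ≠ j → ε i * ε j = 0) ∧
      ∀ i, ε i ≠ 0 := by
  have h : ∀ i : Fin n, ∃ e : R, IsIdempotentElem e ∧
      f ⁻¹' {i} = (PrimeSpectrum.basicOpen e : Set (PrimeSpectrum R)) :=
    fun i => PrimeSpectrum.isClopen_iff.mp ((isClopen_discrete {i}).preimage hf)
  choose ε hε1 hε2 using h
  refine ⟨ε, hε1, ?_, ?_⟩
  · intro i j hij
    apply idem_nilpotent_eq_zero ((hε1 i).mul (hε1 j))
    rw [← PrimeSpectrum.basicOpen_eq_bot_iff, PrimeSpectrum.basicOpen_mul]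
    apply TopologicalSpace.Opens.ext
    rw [TopologicalSpace.Opens.coe_inf, ← hε2 i, ← hε2 j]
    ext x
    simp only [Set.mem_inter_iff, Set.mem_preimage, Set.mem_singleton_iff,
      TopologicalSpace.Opens.coe_bot, Set.mem_empty_iff_false, iff_false, not_and]
    intro h1 h2
    exact hij (h1.symm.trans h2)
  · intro i hi
    obtain ⟨x, hx⟩ := hs i
    have : x ∈ f ⁻¹' {i} := hx
    rw [hε2 i, hi, PrimeSpectrum.basicOpen_zero] at this
    exact this

end Spec

section Main

variable {A : Type u} [CommRing A] [ConnectedSpace (PrimeSpectrum A)]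
    {B : Type u} [CommRing B] [Algebra A B] {d : ℕ} (F : PolLaw.MulLaw A B A d)

/-- the quotient map to the image -/
noncomputable def πI : B →ₐ[A] PolLaw.image F.law := Ideal.Quotient.mkₐ A (PolLaw.ker F.law)

theorem πI_surjective : Function.Surjective (πI F) := Ideal.Quotient.mkₐ_surjective A _

theorem πI_ker (k : B) (hk : πI F k = 0) : k ∈ PolLaw.ker F.law :=
  Ideal.Quotient.eq_zero_iff_mem.mp hk

/-- the law induced on the image -/
noncomputable def Fbar : PolLaw.MulLaw A (PolLaw.image F.law) A d :=
  quotMulLaw (πI F) (πI_surjective F) F (πI_ker F)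

theorem ker_Fbar (r : PolLaw.image F.law) (hr : r ∈ PolLaw.ker (Fbar F).law) : r = 0 := by
  obtain ⟨b, rfl⟩ := πI_surjective F r
  have hb : b ∈ PolLaw.ker F.law := by
    intro S _ _ x w
    have h1 := quotLaw_apply (πI F) (πI_surjective F) F.law (πI_ker F) S
      (x + w * ((1 : S) ⊗ₜ[A] b))
    have h2 := quotLaw_apply (πI F) (πI_surjective F) F.law (πI_ker F) S x
    rw [← h1, ← h2, PolLaw.lTensor_algHom_apply, map_add, map_mul,
      Algebra.TensorProduct.map_tmul, AlgHom.id_apply, ← PolLaw.lTensor_algHom_apply,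
      ← PolLaw.lTensor_algHom_apply]
    exact hr S _ _
  exact Ideal.Quotient.eq_zero_iff_mem.mpr hb

theorem main13727 :
    Finite (ConnectedComponents (PrimeSpectrum (PolLaw.image F.law))) ∧
      Nat.card (ConnectedComponents (PrimeSpectrum (PolLaw.image F.law))) ≤ d := by
  apply card_connectedComponents_le
  intro n f hf hs
  obtain ⟨ε, h1, h2, h3⟩ := exists_idem_of_surj f hf hs
  have := card_le_of_orthogonal (Fbar F) ε h1 h2 (fun i hi => h3 i (ker_Fbar F _ hi))
  rwa [Fintype.card_fin] at this

end Main

end Groth.Agent.Lib.Helper20.PLIdem
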