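import Mathlib
import Groth.Prelude.Def_PolLaw
import Groth.Agent.Lib.Helper20.PLCH4
import Groth.Agent.Lib.Helper20.PLIdem3

/-!
# Zero cycles over a field: the image is a finite set of closed points
-/

namespace Groth.Agent.Lib.Helper20.PLField

open scoped TensorProduct
open IntermediateField Module Groth.Agent.Lib.Helper20.PLCH Groth.Agent.Lib.Helper20.PLIdem

universe u
set_option linter.style.haveILetI false

section BD

theorem finiteDimensional_of_bounded {F L : Type*} [Field F] [Field L] [Algebra F L]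
    [Algebra.IsSeparable F L] (d : ℕ) (h : ∀ x : L, (minpoly F x).natDegree ≤ d) :
    FiniteDimensional F L := by
  classical
  obtain ⟨α, hα⟩ : ∃ α : L, ∀ β : L, (minpoly F β).natDegree ≤ (minpoly F α).natDegree := by
    let P : ℕ → Prop := fun n => ∃ x : L, (minpoly F x).natDegree = n
    have h0 : P (minpoly F (0:L)).natDegree := ⟨0, rfl⟩
    obtain ⟨α, hα⟩ := Nat.findGreatest_spec (h 0) h0
    exact ⟨α, fun β => by rw [hα]; exact Nat.le_findGreatest (h β) ⟨β, rfl⟩⟩
  have hint : ∀ x : L, IsIntegral F x := fun x => (Algebra.IsSeparable.isSeparable F x).isIntegral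
  have htop : F⟮α⟯ = ⊤ := by
    rw [eq_top_iff]
    intro β _
    let K := IntermediateField.adjoin F ({α, β} : Set L)
    haveI : FiniteDimensional F K :=
      IntermediateField.finiteDimensional_adjoin (fun x _ => hint x)
    obtain ⟨γ', hγ'⟩ := Field.exists_primitive_element F K
    have hK : F⟮(γ' : L)⟯ = K := by
      have := congrArg (IntermediateField.lift) hγ'
      rw [IntermediateField.lift_adjoin_simple, IntermediateField.lift_top] at this
      exact this
    have h1 : F⟮α⟯ ≤ F⟮(γ' : L)⟯ := by
      rw [hK]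
      exact IntermediateField.adjoin.mono _ _ _ (by simp)
    have h2 : finrank F F⟮(γ' : L)⟯ ≤ finrank F F⟮α⟯ := by
      rw [IntermediateField.adjoin.finrank (hint _), IntermediateField.adjoin.finrank (hint α)]
      exact hα _
    haveI : FiniteDimensional F F⟮(γ' : L)⟯ := IntermediateField.adjoin.finiteDimensional (hint _)
    have h3 : F⟮α⟯ = F⟮(γ' : L)⟯ := IntermediateField.eq_of_le_of_finrank_le h1 h2
    rw [h3, hK]
    exact IntermediateField.subset_adjoin F _ (by simp)
  have : FiniteDimensional F F⟮α⟯ := IntermediateField.adjoin.finiteDimensional (hint α)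
  rw [htop] at this
  exact (IntermediateField.topEquiv (F := F) (E := L)).toLinearEquiv.finiteDimensional

open Cardinal in
theorem finite_emb_of_bounded {F E : Type*} [Field F] [Field E] [Algebra F E]
    [Algebra.IsAlgebraic F E] (d : ℕ) (h : ∀ x : E, (minpoly F x).natDegree ≤ d) :
    Finite (Field.Emb F E) := by
  haveI : FiniteDimensional F (separableClosure F E) := by
    apply finiteDimensional_of_bounded d
    intro x
    rw [IntermediateField.minpoly_eq]
    exact h _
  have h1 : Finite (Field.Emb F (separableClosure F E)) :=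
    Nat.finite_of_card_ne_zero (NeZero.ne (Field.finSepDegree F (separableClosure F E)))
  rw [← Cardinal.mk_lt_aleph0_iff] at h1 ⊢
  rwa [← Field.Emb.cardinal_separableClosure]

end BD

section Clopen

variable {k R : Type*} [Field k] [CommRing R] [Algebra k R]

theorem exists_idem_basicOpen (a : R) (ha : IsIntegral k a) :
    ∃ e : R, IsIdempotentElem e ∧ PrimeSpectrum.basicOpen a = PrimeSpectrum.basicOpen e := by
  let S := Algebra.adjoin k {a}
  haveI : Module.Finite k S := ⟨(Submodule.fg_top _).mpr ha.fg_adjoin_singleton⟩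
  haveI : IsArtinianRing S := IsArtinianRing.of_finite k S
  let a' : S := ⟨a, Algebra.self_mem_adjoin_singleton k a⟩
  obtain ⟨n, y, hy⟩ := IsArtinian.exists_pow_succ_smul_dvd a' (1 : S)
  have h1 : a ^ (n + 1) * (y : R) = a ^ n := by
    have := congrArg Subtype.val hy
    simpa [a'] using this
  have h2 : a ^ (n + 1 + 1) * (y : R) = a ^ (n + 1) := by
    rw [pow_succ' a (n + 1), mul_assoc, h1, ← pow_succ']
  have h3 : ∀ j, a ^ (n + 1) = a ^ (n + 1 + j) * (y : R) ^ j := by
    intro j
    induction j with
    | zero => simp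
    | succ j ih =>
      calc a ^ (n + 1) = a ^ (n + 1 + j) * (y : R) ^ j := ih
        _ = a ^ j * a ^ (n + 1) * (y : R) ^ j := by ring
        _ = a ^ j * (a ^ (n + 1 + 1) * (y : R)) * (y : R) ^ j := by rw [h2]
        _ = a ^ (n + 1 + (j + 1)) * (y : R) ^ (j + 1) := by ring
  refine ⟨a ^ (n + 1) * (y : R) ^ (n + 1), ?_, ?_⟩
  · unfold IsIdempotentElem
    calc a ^ (n + 1) * (y : R) ^ (n + 1) * (a ^ (n + 1) * (y : R) ^ (n + 1))
        = (a ^ (n + 1 + (n + 1)) * (y : R) ^ (n + 1)) * (y : R) ^ (n + 1) := by ring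
      _ = a ^ (n + 1) * (y : R) ^ (n + 1) := by rw [← h3 (n + 1)]
  · apply le_antisymm
    · have h4 : a ^ (n + 1) = a ^ (n + 1) * (a ^ (n + 1) * (y : R) ^ (n + 1)) := by
        rw [← mul_assoc, ← pow_add, ← h3 (n + 1)]
      calc PrimeSpectrum.basicOpen a = PrimeSpectrum.basicOpen (a ^ (n + 1)) :=
            (PrimeSpectrum.basicOpen_pow a (n + 1) (by omega)).symm
        _ = PrimeSpectrum.basicOpen (a ^ (n + 1) * (a ^ (n + 1) * (y : R) ^ (n + 1))) :=
            congrArg _ h4
        _ = PrimeSpectrum.basicOpen (a ^ (n + 1)) ⊓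
            PrimeSpectrum.basicOpen (a ^ (n + 1) * (y : R) ^ (n + 1)) :=
            PrimeSpectrum.basicOpen_mul _ _
        _ ≤ _ := inf_le_right
    · rw [PrimeSpectrum.basicOpen_mul, PrimeSpectrum.basicOpen_pow a (n + 1) (by omega)]
      exact inf_le_left (b := PrimeSpectrum.basicOpen ((y : R) ^ (n + 1)))

theorem isMaximal_of_integral [Algebra.IsIntegral k R] (P : PrimeSpectrum R) :
    P.asIdeal.IsMaximal := by
  apply Ideal.isMaximal_of_isIntegral_of_isMaximal_comap (R := k) P.asIdeal
  have : Ideal.comap (algebraMap k R) P.asIdeal = ⊥ := by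
    rcases Ideal.eq_bot_or_top (Ideal.comap (algebraMap k R) P.asIdeal) with h | h
    · exact h
    · exact absurd h (Ideal.IsPrime.ne_top inferInstance)
  rw [this]
  exact Ideal.bot_isMaximal

theorem coe_injective_of_integral [Algebra.IsIntegral k R] :
    Function.Injective (fun x : PrimeSpectrum R => (x : ConnectedComponents (PrimeSpectrum R))) := by
  intro x y hxy
  by_contra hne
  have hx := isMaximal_of_integral (k := k) x
  have hy := isMaximal_of_integral (k := k) y
  have hnle : ¬ y.asIdeal ≤ x.asIdeal := fun h =>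
    hne (PrimeSpectrum.ext (hy.eq_of_le hx.ne_top h)).symm
  obtain ⟨a, hay, hax⟩ := Set.not_subset.mp hnle
  obtain ⟨e, he, hD⟩ := exists_idem_basicOpen (k := k) a (Algebra.IsIntegral.isIntegral a)
  have hclopen : IsClopen (PrimeSpectrum.basicOpen a : Set (PrimeSpectrum R)) := by
    rw [hD]
    exact PrimeSpectrum.isClopen_iff.mpr ⟨e, he, rfl⟩
  have hxD : x ∈ (PrimeSpectrum.basicOpen a : Set (PrimeSpectrum R)) := hax
  have hsub := hclopen.connectedComponent_subset hxD
  have hyx : y ∈ connectedComponent x := (ConnectedComponents.coe_eq_coe').mp hxy.symm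
  exact (hsub hyx) hay

end Clopen

end Groth.Agent.Lib.Helper20.PLField
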