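import Mathlib
import Groth.Prelude.Def_PolLaw
import Groth.Agent.Lib.Helper20.PLField

/-!
# Zero cycles over a field: the image is a finite set of closed points (main statement)
-/

namespace Groth.Agent.Lib.Helper20.PLField

open scoped TensorProduct
open IntermediateField Module Groth.Agent.Lib.Helper20.PLCH Groth.Agent.Lib.Helper20.PLIdem
  Groth.Agent.Lib.Helper20.PLCoeff Groth.Agent.Lib.Helper20.PLSub

universe u
set_option linter.style.haveILetI false

section Degree

variable {A : Type u} [CommRing A] {B : Type u} [CommRing B] [Algebra A B] {d : ℕ}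

theorem psi_natDegree_le (F : PolLaw.MulLaw A B A d) (b : B) : (psi F.law b).natDegree ≤ d := by
  classical
  let m : Fin 2 → B := ![1, b]
  let s : Fin 2 → Polynomial A := ![Polynomial.X, -1]
  let βs : Fin 2 →₀ ℕ := Finsupp.single 0 d
  let t : Finset (Fin 2 →₀ ℕ) := insert βs (csupp F.law m)
  have ht : csupp F.law m ⊆ t := Finset.subset_insert _ _
  have harg : Polynomial.X ⊗ₜ[A] (1 : B) - (1 : Polynomial A) ⊗ₜ[A] b = ∑ i, s i ⊗ₜ[A] m i := by
    rw [Fin.sum_univ_two]
    simp [s, m, TensorProduct.neg_tmul, sub_eq_add_neg]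
  have hpsi : psi F.law b = ∑ β ∈ t,
      PLCoeff.coeff F.law m β • (Polynomial.X ^ β 0 * (-1) ^ β 1 : Polynomial A) := by
    unfold psi
    rw [harg, toFun'_sum_tmul F.law m (Polynomial A) s ht, map_sum]
    refine Finset.sum_congr rfl (fun β _ => ?_)
    rw [TensorProduct.rid_tmul, aeval_monomial_one, Fin.prod_univ_two]
    rfl
  rw [hpsi]
  apply Polynomial.natDegree_sum_le_of_forall_le
  intro β _
  by_cases hsum : ∑ i, β i = d
  · rw [Fin.sum_univ_two] at hsum
    have e : PLCoeff.coeff F.law m β • (Polynomial.X ^ β 0 * (-1) ^ β 1 : Polynomial A) =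
        Polynomial.C (PLCoeff.coeff F.law m β * (-1) ^ β 1) * Polynomial.X ^ β 0 := by
      rw [Polynomial.smul_eq_C_mul]
      simp only [Polynomial.C_mul, Polynomial.C_pow, Polynomial.C_neg, Polynomial.C_1]
      ring
    rw [e]
    refine (Polynomial.natDegree_C_mul_X_pow_le _ _).trans ?_
    omega
  · rw [coeff_eq_zero_of_sum_ne F.law F.homog m β hsum, zero_smul, Polynomial.natDegree_zero]
    exact Nat.zero_le _

end Degree

section Main

variable {k : Type u} [Field k] {B : Type u} [CommRing B] [Algebra k B] {d : ℕ}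
  (F : PolLaw.MulLaw k B k d)

theorem aeval_mk_psi (b : B) :
    Polynomial.aeval (Ideal.Quotient.mk (PolLaw.ker F.law) b) (psi F.law b) = 0 := by
  have h : Polynomial.aeval (Ideal.Quotient.mkₐ k (PolLaw.ker F.law) b) (psi F.law b) =
      Ideal.Quotient.mkₐ k (PolLaw.ker F.law) (Polynomial.aeval b (psi F.law b)) :=
    Polynomial.aeval_algHom_apply (Ideal.Quotient.mkₐ k (PolLaw.ker F.law)) b (psi F.law b)
  rw [Ideal.Quotient.mkₐ_eq_mk] at h
  rw [h]
  exact Ideal.Quotient.eq_zero_iff_mem.mpr (aeval_psi_mem F b)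

theorem main13707 :
    Finite (PrimeSpectrum (PolLaw.image F.law)) ∧ Nat.card (PrimeSpectrum (PolLaw.image F.law)) ≤ d ∧
      ∀ P : PrimeSpectrum (PolLaw.image F.law), P.asIdeal.IsMaximal ∧
        Finite (Field.Emb k P.asIdeal.ResidueField) := by
  haveI : Algebra.IsIntegral k (PolLaw.image F.law) := main13695 F
  obtain ⟨hfin, hcard⟩ := main13727 F
  have hinj := coe_injective_of_integral (k := k) (R := PolLaw.image F.law)
  haveI : Finite (PrimeSpectrum (PolLaw.image F.law)) := Finite.of_injective _ hinj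
  refine ⟨inferInstance, (Nat.card_le_card_of_injective _ hinj).trans hcard, fun P => ?_⟩
  have hmax := isMaximal_of_integral (k := k) P
  refine ⟨hmax, ?_⟩
  haveI := hmax
  have hsurj : Function.Surjective (algebraMap (PolLaw.image F.law) P.asIdeal.ResidueField) :=
    Ideal.algebraMap_residueField_surjective P.asIdeal
  have hdeg : ∀ x : P.asIdeal.ResidueField, IsIntegral k x ∧ (minpoly k x).natDegree ≤ d := by
    intro x
    obtain ⟨r, rfl⟩ := hsurj x
    obtain ⟨b, rfl⟩ := Ideal.Quotient.mk_surjective r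
    have h0 : Polynomial.aeval (algebraMap (PolLaw.image F.law) P.asIdeal.ResidueField
        (Ideal.Quotient.mk (PolLaw.ker F.law) b)) (psi F.law b) = 0 := by
      rw [Polynomial.aeval_algebraMap_apply, aeval_mk_psi, map_zero]
    refine ⟨⟨psi F.law b, psi_monic F b, ?_⟩, ?_⟩
    · rw [← Polynomial.aeval_def]
      exact h0
    · exact (Polynomial.natDegree_le_natDegree (minpoly.min k _ (psi_monic F b) h0)).trans
        (psi_natDegree_le F b)
  haveI : Algebra.IsAlgebraic k P.asIdeal.ResidueField :=
    ⟨fun x => (hdeg x).1.isAlgebraic⟩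
  exact finite_emb_of_bounded d (fun x => (hdeg x).2)

end Main

end Groth.Agent.Lib.Helper20.PLField
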