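import Mathlib
import Groth.Prelude.Def_PolLaw
import Groth.Agent.Lib.Helper20.PLBC3
import Groth.Agent.Lib.Helper20.PLField2
import Groth.Agent.Lib.lead.PolLawQuot

/-!
# Fibres of the image of a multiplicative law
-/

namespace Groth.Agent.Lib.Helper20.PLBC

open scoped TensorProduct
open Groth.Agent.Lib.lead.PolLawQuot Groth.Agent.Lib.Helper20.PLField

universe u

section Image

variable {A : Type u} [CommRing A] {B : Type u} [CommRing B] [Algebra A B] {d : ℕ}
  (F : PolLaw.MulLaw A B A d)

/-- the quotient map to the image -/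
noncomputable def πI' : B →ₐ[A] PolLaw.image F.law := Ideal.Quotient.mkₐ A (PolLaw.ker F.law)

theorem πI'_surjective : Function.Surjective (πI' F) := Ideal.Quotient.mkₐ_surjective A _

theorem πI'_ker (k : B) (hk : πI' F k = 0) : k ∈ PolLaw.ker F.law :=
  Ideal.Quotient.eq_zero_iff_mem.mp hk

/-- the law induced on the image -/
noncomputable def Fq : PolLaw.MulLaw A (PolLaw.image F.law) A d :=
  quotMulLaw (πI' F) (πI'_surjective F) F (πI'_ker F)

theorem Fq_apply (S : Type u) [CommSemiring S] [Algebra A S] (x : S ⊗[A] B) :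
    (Fq F).law.toFun' S ((πI' F).toLinearMap.lTensor S x) = F.law.toFun' S x :=
  quotLaw_apply (πI' F) (πI'_surjective F) F.law (πI'_ker F) S x

theorem ker_Fq : PolLaw.ker (Fq F).law = ⊥ := by
  rw [eq_bot_iff]
  intro r hr
  obtain ⟨b, rfl⟩ := πI'_surjective F r
  have hb : b ∈ PolLaw.ker F.law := by
    intro S _ _ x w
    rw [← Fq_apply, ← Fq_apply F S x, PolLaw.lTensor_algHom_apply, map_add, map_mul,
      Algebra.TensorProduct.map_tmul, AlgHom.id_apply, ← PolLaw.lTensor_algHom_apply,
      ← PolLaw.lTensor_algHom_apply]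
    exact hr S _ _
  rw [Ideal.mem_bot]
  exact Ideal.Quotient.eq_zero_iff_mem.mpr hb

theorem kerBC_Fq_le_nilradical (A' : Type u) [CommRing A'] [Algebra A A'] :
    PolLaw.kerBC (Fq F).law A' ≤ nilradical (A' ⊗[A] PolLaw.image F.law) := by
  have h := main13697 (Fq F) A'
  rw [ker_Fq, Ideal.map_bot] at h
  exact Ideal.le_radical.trans h.le

theorem main13723 (K : Type u) [Field K] [Algebra A K] :
    Finite (PrimeSpectrum (K ⊗[A] PolLaw.image F.law)) ∧
      Nat.card (PrimeSpectrum (K ⊗[A] PolLaw.image F.law)) ≤ d := by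
  obtain ⟨hfin, hcard, -⟩ := main13707 (bcMulLaw K (Fq F))
  have hI : PolLaw.ker (bcMulLaw K (Fq F)).law ≤ nilradical (K ⊗[A] PolLaw.image F.law) := by
    rw [bcMulLaw_law, ker_bcLaw]
    exact kerBC_Fq_le_nilradical F K
  have hsurj : Function.Surjective
      (PrimeSpectrum.comap (Ideal.Quotient.mk (PolLaw.ker (bcMulLaw K (Fq F)).law))) := by
    intro p
    have hp : p ∈ Set.range
        (PrimeSpectrum.comap (Ideal.Quotient.mk (PolLaw.ker (bcMulLaw K (Fq F)).law))) := by
      rw [range_comap_of_surjective _ _ Ideal.Quotient.mk_surjective, Ideal.mk_ker]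
      intro x hx
      exact nilradical_le_prime p.asIdeal (hI hx)
    exact hp
  have := hfin
  exact ⟨Finite.of_surjective _ hsurj, (Nat.card_le_card_of_surjective _ hsurj).trans hcard⟩

end Image

end Groth.Agent.Lib.Helper20.PLBC
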