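import Mathlib
import Groth.Prelude.Def_PolLaw
import Groth.Agent.Lib.Helper20.PLCH4

/-!
# The support of a multiplicative law is open over the base
-/

namespace Groth.Agent.Lib.Helper20.PLBC

open scoped TensorProduct
open Groth.Agent.Lib.Helper20.PLCH

universe u

section Open

variable {R : Type u} [CommRing R] {C : Type u} [CommRing C] [Algebra R C] {d : ℕ}
  (G : PolLaw.MulLaw R C R d)

/-- the characteristic polynomial over another test field -/
theorem psi_map (K : Type u) [CommRing K] [Algebra R K] (c : C) :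
    (psi G.law c).map (algebraMap R K) =
      TensorProduct.rid R (Polynomial K)
        (G.law.toFun' (Polynomial K)
          (Polynomial.X ⊗ₜ[R] (1 : C) - (1 : Polynomial K) ⊗ₜ[R] c)) := by
  have h := rid_rTensor (A := R) (Polynomial.mapAlgHom (Algebra.ofId R K))
    (G.law.toFun' (Polynomial R) (Polynomial.X ⊗ₜ[R] (1 : C) - (1 : Polynomial R) ⊗ₜ[R] c))
  rw [PolynomialLaw.isCompat_apply'] at h
  unfold psi
  have e : (Polynomial.mapAlgHom (Algebra.ofId R K)).toLinearMap.rTensor C
      (Polynomial.X ⊗ₜ[R] (1 : C) - (1 : Polynomial R) ⊗ₜ[R] c) =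
      Polynomial.X ⊗ₜ[R] (1 : C) - (1 : Polynomial K) ⊗ₜ[R] c := by
    simp
  rw [e] at h
  rw [h]
  simp [Polynomial.mapAlgHom, Algebra.ofId]

theorem algRid_eq (S : Type u) [CommRing S] [Algebra R S] (y : S ⊗[R] R) :
    Algebra.TensorProduct.rid R S S y = TensorProduct.rid R S y := by
  induction y using TensorProduct.induction_on with
  | zero => simp
  | tmul r a => simp
  | add x y hx hy => simp only [map_add, hx, hy]

/-- over a field, the characteristic polynomial of a nilpotent element is a power of `X` -/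
theorem psi_map_of_isNilpotent (K : Type u) [Field K] [Algebra R K] (c : C)
    (hc : IsNilpotent ((1 : K) ⊗ₜ[R] c)) :
    (psi G.law c).map (algebraMap R K) = Polynomial.X ^ (psi G.law c).natDegree := by
  obtain ⟨N, hN⟩ := hc
  have hc' : ((1 : Polynomial K) ⊗ₜ[R] c) ^ N = 0 := by
    have h1 := congrArg (Algebra.TensorProduct.map
      (IsScalarTower.toAlgHom R K (Polynomial K)) (AlgHom.id R C)) hN
    rw [map_pow, Algebra.TensorProduct.map_tmul, map_one, map_zero] at h1
    exact h1
  obtain ⟨y, hy⟩ := sub_dvd_pow_sub_pow ((Polynomial.X : Polynomial K) ⊗ₜ[R] (1 : C))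
    ((1 : Polynomial K) ⊗ₜ[R] c) N
  rw [hc', sub_zero] at hy
  have h2 := congrArg (G.law.toFun' (Polynomial K)) hy
  rw [(G.mult _).2] at h2
  have e1 : ((Polynomial.X : Polynomial K) ⊗ₜ[R] (1 : C)) ^ N =
      ((Polynomial.X : Polynomial K) ^ N) • (1 : Polynomial K ⊗[R] C) := by
    rw [Algebra.TensorProduct.tmul_pow, one_pow, Algebra.TensorProduct.one_def,
      TensorProduct.smul_tmul', smul_eq_mul, mul_one]
  rw [e1, G.homog, (G.mult _).1] at h2
  have h3 := congrArg (Algebra.TensorProduct.rid R (Polynomial K) (Polynomial K)) h2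
  rw [map_smul, map_one, smul_eq_mul, mul_one, map_mul, algRid_eq, ← psi_map] at h3
  have hdvd : (psi G.law c).map (algebraMap R K) ∣ (Polynomial.X : Polynomial K) ^ (N * d) := by
    rw [pow_mul, h3]
    exact dvd_mul_right _ _
  obtain ⟨i, -, hi⟩ := (dvd_prime_pow Polynomial.prime_X _).mp hdvd
  have hmonic : ((psi G.law c).map (algebraMap R K)).Monic := (psi_monic G c).map _
  have h4 : (psi G.law c).map (algebraMap R K) = Polynomial.X ^ i :=
    Polynomial.eq_of_monic_of_associated hmonic (Polynomial.monic_X_pow i) hi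
  have h5 : i = (psi G.law c).natDegree := by
    have := congrArg Polynomial.natDegree h4
    rw [(psi_monic G c).natDegree_map, Polynomial.natDegree_X_pow] at this
    exact this.symm
  rw [h4, h5]

theorem image_basicOpen (hker : PolLaw.ker G.law ≤ nilradical C) (c : C) :
    PrimeSpectrum.comap (algebraMap R C) '' (PrimeSpectrum.basicOpen c : Set (PrimeSpectrum C)) =
      ⋃ i ∈ Finset.range (psi G.law c).natDegree,
        (PrimeSpectrum.basicOpen ((psi G.law c).coeff i) : Set (PrimeSpectrum R)) := by
  apply Set.Subset.antisymm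
  · rintro _ ⟨Q, hQ, rfl⟩
    by_contra hcon
    have hall : ∀ i ∈ Finset.range (psi G.law c).natDegree,
        algebraMap R C ((psi G.law c).coeff i) ∈ Q.asIdeal := by
      intro i hi
      by_contra hni
      apply hcon
      exact Set.mem_biUnion hi hni
    have h1 : Polynomial.aeval c (psi G.law c) ∈ Q.asIdeal :=
      nilradical_le_prime Q.asIdeal (hker (aeval_psi_mem G c))
    rw [Polynomial.aeval_eq_sum_range, Finset.sum_range_succ, (psi_monic G c).coeff_natDegree,
      one_smul] at h1
    have h2 : ∑ i ∈ Finset.range (psi G.law c).natDegree, (psi G.law c).coeff i • c ^ i ∈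
        Q.asIdeal := by
      refine Ideal.sum_mem _ (fun i hi => ?_)
      rw [Algebra.smul_def]
      exact Ideal.mul_mem_right _ _ (hall i hi)
    have h3 : c ^ (psi G.law c).natDegree ∈ Q.asIdeal := by
      have := Q.asIdeal.sub_mem h1 h2
      rwa [add_sub_cancel_left] at this
    exact hQ (Q.isPrime.mem_of_pow_mem _ h3)
  · intro p hp
    obtain ⟨i, hi, hpi⟩ := Set.mem_iUnion₂.mp hp
    by_contra hcon
    have hall : ∀ Q : PrimeSpectrum C, PrimeSpectrum.comap (algebraMap R C) Q = p →
        c ∈ Q.asIdeal := by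
      intro Q hQ
      by_contra hcQ
      exact hcon ⟨Q, hcQ, hQ⟩
    have hnil : IsNilpotent ((1 : p.asIdeal.ResidueField) ⊗ₜ[R] c) := by
      rw [← mem_nilradical, nilradical_eq_sInf, Ideal.mem_sInf]
      intro QK hQK
      have hQKp : QK.IsPrime := hQK
      let Q' := (PrimeSpectrum.preimageEquivFiber R C p).symm ⟨QK, hQKp⟩
      have h1 : c ∈ Q'.1.asIdeal := hall Q'.1 Q'.2
      exact h1
    have h2 := psi_map_of_isNilpotent G p.asIdeal.ResidueField c hnil
    have h3 := congrArg (fun q => Polynomial.coeff q i) h2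
    simp only [Polynomial.coeff_map, Polynomial.coeff_X_pow] at h3
    rw [if_neg (Finset.mem_range.mp hi).ne, Ideal.algebraMap_residueField_eq_zero] at h3
    exact hpi h3

theorem isOpenMap_comap (hker : PolLaw.ker G.law ≤ nilradical C) :
    IsOpenMap (PrimeSpectrum.comap (algebraMap R C)) := by
  rw [PrimeSpectrum.isTopologicalBasis_basic_opens.isOpenMap_iff]
  rintro _ ⟨c, rfl⟩
  rw [image_basicOpen G hker c]
  exact isOpen_biUnion (fun i _ => (PrimeSpectrum.basicOpen _).isOpen)

end Open

end Groth.Agent.Lib.Helper20.PLBC
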