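import Mathlib
import Groth.Prelude.Def_PolLaw
import Groth.Agent.Lib.Helper20.PLBC4
import Groth.Agent.Lib.Helper20.PLBC9

/-!
# The image of a multiplicative law is universally open over the base
-/

namespace Groth.Agent.Lib.Helper20.PLBC

open scoped TensorProduct
open CategoryTheory CategoryTheory.Limits AlgebraicGeometry MorphismProperty

universe u

section UOpen

variable {A : Type u} [CommRing A] {B : Type u} [CommRing B] [Algebra A B] {d : ℕ}
  (F : PolLaw.MulLaw A B A d)

theorem isOpenMap_comap_image (A' : Type u) [CommRing A'] [Algebra A A'] :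
    IsOpenMap (PrimeSpectrum.comap (algebraMap A' (A' ⊗[A] PolLaw.image F.law))) := by
  apply isOpenMap_comap (bcMulLaw A' (Fq F))
  rw [bcMulLaw_law, ker_bcLaw]
  exact kerBC_Fq_le_nilradical F A'

theorem main13705 :
    AlgebraicGeometry.UniversallyOpen
      (AlgebraicGeometry.Spec.map (CommRingCat.ofHom (algebraMap A (PolLaw.image F.law)))) := by
  refine ⟨universally_mk' _ _ fun {T} g _ ↦ ?_⟩
  wlog hT : ∃ R, T = Spec R generalizing T
  · refine (IsZariskiLocalAtTarget.iff_of_openCover T.affineCover).mpr fun i ↦ ?_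
    refine (MorphismProperty.cancel_left_of_respectsIso _
      ((pullbackRightPullbackFstIso ..).inv ≫ (pullbackSymmetry ..).hom) _).mp ?_
    simpa [Scheme.Cover.pullbackHom] using! this _ _ ⟨_, rfl⟩
  obtain ⟨R, rfl⟩ := hT
  obtain ⟨ψ, rfl⟩ := Spec.map_surjective g
  algebraize [ψ.hom]
  refine (MorphismProperty.cancel_left_of_respectsIso _
    (pullbackSpecIso A R (PolLaw.image F.law)).inv _).mp ?_
  convert_to! topologically _
    (Spec.map <| CommRingCat.ofHom (algebraMap R (TensorProduct A R (PolLaw.image F.law))))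
  · exact pullbackSpecIso_inv_fst ..
  exact isOpenMap_comap_image F R

end UOpen

end Groth.Agent.Lib.Helper20.PLBC
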