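import Mathlib
import Groth.Prelude.Def_PolLaw
import Groth.Agent.Lib.Helper20.PLPolar3

/-!
# The kernel of a law in characteristic zero, via the polarization
-/

namespace Groth.Agent.Lib.Helper20.PLBC

open scoped TensorProduct
open Groth.Agent.Lib.Helper20.PLCoeff Groth.Agent.Lib.Helper20.PLPolar

universe u

section Pol

variable {A : Type u} [CommRing A] {B : Type u} [CommRing B] [Algebra A B] {d : ℕ}

theorem gen_update {ι : Type} [Fintype ι] [DecidableEq ι] (y : ι → B) (i : ι) (b' : B) :
    gen (A := A) (Function.update y i b') =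
      gen (A := A) (Function.update y i 0) +
        ((MvPolynomial.X i : MvPolynomial ι A) ⊗ₜ[A] (1 : B)) *
          ((1 : MvPolynomial ι A) ⊗ₜ[A] b') := by
  unfold gen
  rw [Algebra.TensorProduct.tmul_mul_tmul, mul_one, one_mul,
    ← Finset.add_sum_erase _ _ (Finset.mem_univ i),
    ← Finset.add_sum_erase (a := i) (f := fun j => (MvPolynomial.X j : MvPolynomial ι A) ⊗ₜ[A]
      (Function.update y i (0 : B) j)) _ (Finset.mem_univ i)]
  simp only [Function.update_self, TensorProduct.tmul_zero, zero_add]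
  rw [add_comm]
  congr 1
  refine Finset.sum_congr rfl (fun j hj => ?_)
  rw [Function.update_of_ne (Finset.ne_of_mem_erase hj),
    Function.update_of_ne (Finset.ne_of_mem_erase hj)]

/-- the polarization vanishes when one argument is in the kernel -/
theorem pol_update_of_mem_ker (G : B →ₚₗ[A] A) (b' : B) (hb' : b' ∈ PolLaw.ker G)
    (y : Fin d → B) (i : Fin d) : pol G d (Function.update y i b') = 0 := by
  have h0 : pol G d (Function.update y i 0) = 0 := (pol G d).map_update_zero y i
  rw [pol_apply] at h0 ⊢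
  unfold PLCoeff.coeff at h0 ⊢
  rw [gen_update, hb']
  exact h0

/-- in characteristic zero, the kernel of a homogeneous law is cut out by its polarization -/
theorem mem_ker_of_pol (G : B →ₚₗ[A] A) (hG : PolLaw.IsHomog G d)
    (hd : IsUnit ((d.factorial : ℕ) : A)) (b : B)
    (hb : ∀ (c : B) (y : Fin d → B) (i : Fin d), pol G d (Function.update y i (c * b)) = 0) :
    b ∈ PolLaw.ker G := by
  classical
  intro S _ _ x w
  obtain ⟨ι₁, _, s, xs, rfl⟩ := exists_rep x
  obtain ⟨ι₂, _, t, ws, rfl⟩ := exists_rep w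
  let m : ι₁ ⊕ ι₂ → B := Sum.elim xs (fun l => ws l * b)
  let m₀ : ι₁ ⊕ ι₂ → B := Sum.elim xs (fun _ => 0)
  let σ : ι₁ ⊕ ι₂ → S := Sum.elim s t
  have key : G.toFun' (MvPolynomial (ι₁ ⊕ ι₂) A) (gen m) =
      G.toFun' (MvPolynomial (ι₁ ⊕ ι₂) A) (gen m₀) := by
    apply ext_ext1
    intro β
    change PLCoeff.coeff G m β = PLCoeff.coeff G m₀ β
    have h1 := sum_pol0_eq G hG m β
    have h2 := sum_pol0_eq G hG m₀ β
    have h3 : ∀ c : Fin d → ι₁ ⊕ ι₂,
        pol0 G (fun i => m (c i)) = pol0 G (fun i => m₀ (c i)) := by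
      intro c
      by_cases hc : ∃ i l, c i = Sum.inr l
      · obtain ⟨i, l, hil⟩ := hc
        have e1 : (fun j => m (c j)) = Function.update (fun j => m (c j)) i (ws l * b) := by
          symm
          rw [Function.update_eq_self_iff]
          simp [m, hil]
        have e2 : (fun j => m₀ (c j)) = Function.update (fun j => m₀ (c j)) i 0 := by
          symm
          rw [Function.update_eq_self_iff]
          simp [m₀, hil]
        rw [e1, e2]
        exact (hb (ws l) _ i).trans ((pol G d).map_update_zero _ i).symm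
      · push_neg at hc
        congr 1
        funext j
        rcases h : c j with a | l
        · simp [m, m₀]
        · exact absurd h (hc j l)
    have h4 : (∑ c : Fin d → ι₁ ⊕ ι₂, if typ c = β then pol0 G (fun i => m (c i)) else 0) =
        ∑ c : Fin d → ι₁ ⊕ ι₂, if typ c = β then pol0 G (fun i => m₀ (c i)) else 0 :=
      Finset.sum_congr rfl (fun c _ => by rw [h3 c])
    rw [h4, h2] at h1
    exact hd.smul_left_cancel.mp h1.symm
  have ex : ∑ i, s i ⊗ₜ[A] xs i + (∑ l, t l ⊗ₜ[A] ws l) * ((1 : S) ⊗ₜ[A] b) =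
      (MvPolynomial.aeval σ : MvPolynomial (ι₁ ⊕ ι₂) A →ₐ[A] S).toLinearMap.rTensor B (gen m) := by
    rw [rTensor_aeval_gen, Fintype.sum_sum_type, Finset.sum_mul]
    simp [σ, m, Algebra.TensorProduct.tmul_mul_tmul]
  have ex0 : ∑ i, s i ⊗ₜ[A] xs i =
      (MvPolynomial.aeval σ : MvPolynomial (ι₁ ⊕ ι₂) A →ₐ[A] S).toLinearMap.rTensor B
        (gen m₀) := by
    rw [rTensor_aeval_gen, Fintype.sum_sum_type]
    simp [σ, m₀]
  rw [ex, ex0, ← PolynomialLaw.isCompat_apply', ← PolynomialLaw.isCompat_apply', key]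

end Pol

end Groth.Agent.Lib.Helper20.PLBC
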