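import Mathlib
import Groth.Prelude.Def_PolLaw
import Groth.Agent.Lib.Helper20.PLBC11
import Groth.Agent.Lib.Helper20.PLBC1

/-!
# The polarization commutes with base change
-/

namespace Groth.Agent.Lib.Helper20.PLBC

open scoped TensorProduct
open Groth.Agent.Lib.Helper20.PLCoeff Groth.Agent.Lib.Helper20.PLPolar

universe u

section PolBC

variable {A : Type u} [CommRing A] {B : Type u} [CommRing B] [Algebra A B]
  (A' : Type u) [CommRing A'] [Algebra A A']

theorem canc_gen {ι : Type} [Fintype ι] (y : ι → B) :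
    canc (A := A) (A' := A') (B := B) (MvPolynomial ι A')
      (gen (A := A') (fun j => (1 : A') ⊗ₜ[A] y j)) =
      ∑ j, (MvPolynomial.X j : MvPolynomial ι A') ⊗ₜ[A] y j := by
  unfold gen
  rw [map_sum]
  refine Finset.sum_congr rfl (fun j _ => ?_)
  rw [Algebra.TensorProduct.cancelBaseChange_tmul, one_smul]

theorem coeff_bcLaw {ι : Type} [Fintype ι] (G : B →ₚₗ[A] A) (y : ι → B) (β₀ : ι →₀ ℕ) :
    PLCoeff.coeff (bcLaw A' G) (fun j => (1 : A') ⊗ₜ[A] y j) β₀ =
      algebraMap A A' (PLCoeff.coeff G y β₀) := by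
  classical
  unfold PLCoeff.coeff
  rw [bcLaw_toFun']
  unfold bcFun
  rw [canc_gen, toFun'_sum_tmul G y (MvPolynomial ι A') MvPolynomial.X
    (t := insert β₀ (csupp G y)) (Finset.subset_insert _ _), map_sum, map_sum, map_sum]
  rw [Finset.sum_eq_single β₀]
  · rw [aeval_monomial_one, Algebra.TensorProduct.rid_tmul, Algebra.TensorProduct.rid_symm_apply,
      ext1_tmul]
    have e : (∏ i, (MvPolynomial.X i : MvPolynomial ι A') ^ β₀ i) = MvPolynomial.monomial β₀ 1 := by
      rw [MvPolynomial.monomial_eq, map_one, one_mul, Finsupp.prod_fintype]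
      intro i
      exact pow_zero _
    rw [e, MvPolynomial.coeff_smul, MvPolynomial.coeff_monomial, if_pos rfl, smul_eq_mul,
      Algebra.smul_def, mul_one, mul_one]
    rfl
  · intro β _ hβ
    rw [aeval_monomial_one, Algebra.TensorProduct.rid_tmul, Algebra.TensorProduct.rid_symm_apply,
      ext1_tmul]
    have e : (∏ i, (MvPolynomial.X i : MvPolynomial ι A') ^ β i) = MvPolynomial.monomial β 1 := by
      rw [MvPolynomial.monomial_eq, map_one, one_mul, Finsupp.prod_fintype]
      intro i
      exact pow_zero _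
    rw [e, MvPolynomial.coeff_smul, MvPolynomial.coeff_monomial, if_neg hβ, smul_zero, zero_smul]
  · intro h
    exact absurd (Finset.mem_insert_self _ _) h

theorem pol_bcLaw {d : ℕ} (G : B →ₚₗ[A] A) (y : Fin d → B) :
    pol (bcLaw A' G) d (fun j => (1 : A') ⊗ₜ[A] y j) = algebraMap A A' (pol G d y) := by
  rw [pol_apply, pol_apply, coeff_bcLaw]

end PolBC

end Groth.Agent.Lib.Helper20.PLBC
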