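import Mathlib
import Groth.Prelude.Def_PolLaw
import Groth.Agent.Lib.Helper20.PLBC12
import Groth.Agent.Lib.Helper20.PLBC4

/-!
# In characteristic zero the kernel of a multiplicative law on a finite algebra commutes with
flat base change
-/

namespace Groth.Agent.Lib.Helper20.PLBC

open scoped TensorProduct
open Groth.Agent.Lib.Helper20.PLCoeff Groth.Agent.Lib.Helper20.PLPolar

universe u

section Lam

variable {A : Type u} [CommRing A] {B : Type u} [CommRing B] [Algebra A B] {n : ℕ}
  (e : Fin n → B)

/-- the linear forms cutting out the kernel -/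
noncomputable def lam (G : B →ₚₗ[A] A) (d : ℕ) (k : Fin d × (Fin d → Fin n)) : B →ₗ[A] A :=
  ((pol G d).toLinearMap (fun j => e (k.2 j)) k.1).comp (LinearMap.mulLeft A (e (k.2 k.1)))

theorem lam_apply (G : B →ₚₗ[A] A) (d : ℕ) (k : Fin d × (Fin d → Fin n)) (b : B) :
    lam e G d k b =
      pol G d (Function.update (fun j => e (k.2 j)) k.1 (e (k.2 k.1) * b)) := rfl

theorem pol_update_of_lam (he : Submodule.span A (Set.range e) = ⊤) (G : B →ₚₗ[A] A) (d : ℕ)
    (b : B) (hb : ∀ k, lam e G d k b = 0) (c : B) (y : Fin d → B) (i : Fin d) :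
    pol G d (Function.update y i (c * b)) = 0 := by
  classical
  let Ψ : MultilinearMap A (fun _ : Fin d => B) A :=
    (pol G d).compLinearMap (fun j => if j = i then LinearMap.mulRight A b else LinearMap.id)
  have hΨ : ∀ y' : Fin d → B, Ψ y' = pol G d (Function.update y' i (y' i * b)) := by
    intro y'
    change pol G d _ = _
    congr 1
    funext j
    by_cases hj : j = i
    · subst hj
      simp
    · simp [hj]
  let π : (Fin n → A) →ₗ[A] B := Fintype.linearCombination A e
  have hπ : Function.Surjective π := by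
    rw [← LinearMap.range_eq_top, Fintype.range_linearCombination, he]
  have h0 : Ψ.compLinearMap (fun _ => π) = 0 := by
    apply Module.Basis.ext_multilinear (fun _ => Pi.basisFun A (Fin n))
    intro v
    change Ψ (fun j => π (Pi.basisFun A (Fin n) (v j))) = 0
    have e1 : (fun j => π (Pi.basisFun A (Fin n) (v j))) = fun j => e (v j) := by
      funext j
      simp [π]
    rw [e1, hΨ]
    exact hb (i, v)
  have h1 : Ψ (Function.update y i c) = 0 := by
    choose y₀ hy₀ using fun j => hπ (Function.update y i c j)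
    have e2 : Function.update y i c = fun j => π (y₀ j) := by
      funext j
      exact (hy₀ j).symm
    rw [e2]
    change (Ψ.compLinearMap (fun _ => π)) y₀ = 0
    rw [h0]
    rfl
  rw [hΨ] at h1
  simpa using h1

theorem rid_lTensor_lam (G : B →ₚₗ[A] A) (d : ℕ) (k : Fin d × (Fin d → Fin n))
    (A' : Type u) [CommRing A'] [Algebra A A'] (z' : A' ⊗[A] B) :
    TensorProduct.rid A A' ((lam e G d k).lTensor A' z') =
      pol (bcLaw A' G) d (Function.update (fun j => (1 : A') ⊗ₜ[A] e (k.2 j)) k.1
        (((1 : A') ⊗ₜ[A] e (k.2 k.1)) * z')) := by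
  classical
  induction z' using TensorProduct.induction_on with
  | zero =>
    rw [map_zero, map_zero, mul_zero, (pol (bcLaw A' G) d).map_update_zero]
  | tmul a' b =>
    rw [LinearMap.lTensor_tmul, TensorProduct.rid_tmul, Algebra.TensorProduct.tmul_mul_tmul,
      one_mul, lam_apply]
    have e1 : a' ⊗ₜ[A] (e (k.2 k.1) * b) = a' • ((1 : A') ⊗ₜ[A] (e (k.2 k.1) * b)) := by
      rw [TensorProduct.smul_tmul', smul_eq_mul, mul_one]
    have e2 : Function.update (fun j => (1 : A') ⊗ₜ[A] e (k.2 j)) k.1
        ((1 : A') ⊗ₜ[A] (e (k.2 k.1) * b)) =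
        fun j => (1 : A') ⊗ₜ[A] (Function.update (fun j => e (k.2 j)) k.1 (e (k.2 k.1) * b) j) := by
      funext j
      by_cases hj : j = k.1
      · subst hj
        simp
      · simp [hj]
    rw [e1, (pol (bcLaw A' G) d).map_update_smul, e2, pol_bcLaw, Algebra.smul_def, smul_eq_mul,
      mul_comm]
  | add x y hx hy =>
    rw [map_add, map_add, hx, hy, mul_add, (pol (bcLaw A' G) d).map_update_add]

theorem piRight_lTensor_pi {Idx : Type} [Fintype Idx] [DecidableEq Idx] (l : Idx → B →ₗ[A] A)
    (A' : Type u) [CommRing A'] [Algebra A A'] (z' : A' ⊗[A] B) (k : Idx) :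
    TensorProduct.piRight A A' A' (fun _ : Idx => A) ((LinearMap.pi l).lTensor A' z') k =
      (l k).lTensor A' z' := by
  induction z' using TensorProduct.induction_on with
  | zero => simp
  | tmul a' b => simp
  | add x y hx hy => simp only [map_add, Pi.add_apply, hx, hy]

end Lam

section Main

variable {A : Type u} [CommRing A] [Algebra ℚ A] {B : Type u} [CommRing B] [Algebra A B]
  [Module.Finite A B] {d : ℕ} (F : PolLaw.MulLaw A B A d)

theorem isUnit_factorial : IsUnit ((d.factorial : ℕ) : A) := by
  have h : IsUnit ((d.factorial : ℕ) : ℚ) :=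
    (Nat.cast_ne_zero.mpr (Nat.factorial_ne_zero d)).isUnit
  have := h.map (algebraMap ℚ A)
  rwa [map_natCast] at this

theorem eq_zero_of_mem_kerBC_of_flat (hker : PolLaw.ker F.law = ⊥) (A' : Type u) [CommRing A']
    [Algebra A A'] [Module.Flat A A'] (z' : A' ⊗[A] B) (hz' : z' ∈ PolLaw.kerBC F.law A') :
    z' = 0 := by
  classical
  obtain ⟨n, e, he⟩ := Module.Finite.exists_fin (R := A) (M := B)
  let Λ : B →ₗ[A] (Fin d × (Fin d → Fin n) → A) := LinearMap.pi (lam e F.law d)
  have hΛ : Function.Injective Λ := by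
    rw [← LinearMap.ker_eq_bot, LinearMap.ker_eq_bot']
    intro b hb
    have hb' : ∀ k, lam e F.law d k b = 0 := fun k => congrFun hb k
    have h1 : b ∈ PolLaw.ker F.law :=
      mem_ker_of_pol F.law F.homog isUnit_factorial b (pol_update_of_lam e he F.law d b hb')
    rw [hker, Ideal.mem_bot] at h1
    exact h1
  have hflat : Function.Injective (Λ.lTensor A') :=
    Module.Flat.lTensor_preserves_injective_linearMap Λ hΛ
  apply hflat
  rw [map_zero]
  apply (TensorProduct.piRight A A' A' (fun _ : Fin d × (Fin d → Fin n) => A)).injective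
  rw [map_zero]
  funext k
  rw [piRight_lTensor_pi, Pi.zero_apply]
  apply (TensorProduct.rid A A').injective
  rw [map_zero, rid_lTensor_lam]
  apply pol_update_of_mem_ker
  rw [ker_bcLaw]
  exact Ideal.mul_mem_left _ _ hz'

end Main

section Quot

variable {A : Type u} [CommRing A] {B : Type u} [CommRing B] [Algebra A B] {d : ℕ}
  (F : PolLaw.MulLaw A B A d)

/-- the kernel of the base change maps into the kernel of the base change of the law on the
image -/
theorem map_mem_kerBC_Fq (A' : Type u) [CommRing A'] [Algebra A A'] (z' : A' ⊗[A] B)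
    (hz' : z' ∈ PolLaw.kerBC F.law A') :
    Algebra.TensorProduct.map (AlgHom.id A A') (πI' F) z' ∈ PolLaw.kerBC (Fq F).law A' := by
  intro R _ _ _ _ x w
  obtain ⟨x₀, rfl⟩ := LinearMap.lTensor_surjective R (g := (πI' F).toLinearMap) (πI'_surjective F) x
  obtain ⟨w₀, rfl⟩ := LinearMap.lTensor_surjective R (g := (πI' F).toLinearMap) (πI'_surjective F) w
  have e1' : ∀ z : A' ⊗[A] B, Algebra.TensorProduct.map (IsScalarTower.toAlgHom A A' R)
      (AlgHom.id A (PolLaw.image F.law))
      (Algebra.TensorProduct.map (AlgHom.id A A') (πI' F) z) =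
      (πI' F).toLinearMap.lTensor R
        (Algebra.TensorProduct.map (IsScalarTower.toAlgHom A A' R) (AlgHom.id A B) z) := by
    intro z
    rw [PolLaw.lTensor_algHom_apply]
    induction z using TensorProduct.induction_on with
    | zero => simp
    | tmul a b => simp
    | add u v hu hv => simp only [map_add, hu, hv]
  have e1 := e1' z'
  have e2 : (πI' F).toLinearMap.lTensor R x₀ + (πI' F).toLinearMap.lTensor R w₀ *
      (πI' F).toLinearMap.lTensor R
        (Algebra.TensorProduct.map (IsScalarTower.toAlgHom A A' R) (AlgHom.id A B) z') =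
      (πI' F).toLinearMap.lTensor R (x₀ + w₀ *
        Algebra.TensorProduct.map (IsScalarTower.toAlgHom A A' R) (AlgHom.id A B) z') := by
    rw [PolLaw.lTensor_algHom_apply, PolLaw.lTensor_algHom_apply, PolLaw.lTensor_algHom_apply,
      PolLaw.lTensor_algHom_apply, map_add, map_mul]
  rw [e1, e2, Fq_apply, Fq_apply]
  exact hz' R x₀ w₀

theorem main13701 [Algebra ℚ A] [Module.Finite A B] (A' : Type u) [CommRing A'] [Algebra A A']
    [Module.Flat A A'] :
    (PolLaw.ker F.law).map (Algebra.TensorProduct.includeRight : B →ₐ[A] A' ⊗[A] B) =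
      PolLaw.kerBC F.law A' := by
  apply le_antisymm (Groth.Agent.Lib.lead.PolLawUniv.map_le_kerBC' F.law A')
  intro z' hz'
  have h1 := eq_zero_of_mem_kerBC_of_flat (Fq F) (ker_Fq F) A' _ (map_mem_kerBC_Fq F A' z' hz')
  have h2 : z' ∈ RingHom.ker (Algebra.TensorProduct.map (AlgHom.id A A') (πI' F)) := h1
  rw [Algebra.TensorProduct.lTensor_ker _ (πI'_surjective F)] at h2
  have h3 : RingHom.ker (πI' F) = PolLaw.ker F.law := Ideal.mk_ker
  rw [h3] at h2
  exact h2

end Quot

end Groth.Agent.Lib.Helper20.PLBC
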