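import Mathlib
import Groth.Prelude.Def_PolLaw
import Groth.Agent.Lib.Helper20.PLBC4
import Groth.Agent.Lib.Helper20.PLCH4

/-!
# The image of a multiplicative law over a semilocal ring is semilocal
-/

namespace Groth.Agent.Lib.Helper20.PLBC

open scoped TensorProduct
open Groth.Agent.Lib.Helper20.PLCH

universe u

section Semilocal

variable {A : Type u} [CommRing A] {B : Type u} [CommRing B] [Algebra A B] {d : ℕ}
  (F : PolLaw.MulLaw A B A d)

theorem finite_fibre (p : PrimeSpectrum A) :
    (PrimeSpectrum.comap (algebraMap A (PolLaw.image F.law)) ⁻¹' {p}).Finite := by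
  have h := (main13723 F p.asIdeal.ResidueField).1
  have h2 : Finite ↥(PrimeSpectrum.comap (algebraMap A (PolLaw.image F.law)) ⁻¹' {p}) :=
    Finite.of_equiv _ (PrimeSpectrum.preimageEquivFiber A (PolLaw.image F.law) p).symm
  exact Set.toFinite _

theorem main13724 [Finite (MaximalSpectrum A)] :
    Finite (MaximalSpectrum (PolLaw.image F.law)) := by
  have hint : Algebra.IsIntegral A (PolLaw.image F.law) := main13695 F
  let S : Set (PrimeSpectrum (PolLaw.image F.law)) :=
    ⋃ n : MaximalSpectrum A,
      PrimeSpectrum.comap (algebraMap A (PolLaw.image F.law)) ⁻¹' {n.toPrimeSpectrum}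
  have hS : S.Finite := Set.finite_iUnion (fun n => finite_fibre F n.toPrimeSpectrum)
  have hmem : ∀ m : MaximalSpectrum (PolLaw.image F.law), m.toPrimeSpectrum ∈ S := by
    intro m
    have hmax : (m.asIdeal.comap (algebraMap A (PolLaw.image F.law))).IsMaximal :=
      Ideal.isMaximal_comap_of_isIntegral_of_isMaximal (R := A) m.asIdeal
    refine Set.mem_iUnion.mpr ⟨⟨_, hmax⟩, ?_⟩
    rw [Set.mem_preimage, Set.mem_singleton_iff]
    rfl
  have := hS.to_subtype
  refine Finite.of_injective (fun m : MaximalSpectrum (PolLaw.image F.law) =>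
    (⟨m.toPrimeSpectrum, hmem m⟩ : S)) ?_
  intro m₁ m₂ h
  have h2 : m₁.toPrimeSpectrum = m₂.toPrimeSpectrum := congrArg Subtype.val h
  exact MaximalSpectrum.toPrimeSpectrum_injective h2

end Semilocal

end Groth.Agent.Lib.Helper20.PLBC
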