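import Mathlib
import Groth.Prelude.Def_PolLaw
import Groth.Agent.Lib.Helper20.PLBC3
import Groth.Agent.Lib.Helper20.PLCH4

/-!
# The support of a multiplicative law on a finite type algebra is cut out by a f.g. ideal
-/

namespace Groth.Agent.Lib.Helper20.PLBC

open scoped TensorProduct
open Groth.Agent.Lib.Helper20.PLCH Groth.Agent.Lib.lead.PolLawKerBC

universe u

section Theta

variable {A : Type u} [CommRing A] {B : Type u} [CommRing B] [Algebra A B] (N : ℕ)

/-- `A[X] ⊗ B ≃ B[X]` -/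
noncomputable def theta : MvPolynomial (Fin N) A ⊗[A] B ≃ₐ[A] MvPolynomial (Fin N) B :=
  (Algebra.TensorProduct.comm A (MvPolynomial (Fin N) A) B).trans
    ((MvPolynomial.algebraTensorAlgEquiv (σ := Fin N) A B).restrictScalars A)

theorem theta_tmul (p : MvPolynomial (Fin N) A) (b : B) :
    theta N (p ⊗ₜ[A] b) = b • MvPolynomial.map (algebraMap A B) p := by
  simp [theta]

theorem coeff_theta_mem (I : Ideal B) (z : MvPolynomial (Fin N) A ⊗[A] B)
    (hz : z ∈ I.map (Algebra.TensorProduct.includeRight : B →ₐ[A] MvPolynomial (Fin N) A ⊗[A] B))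
    (m : Fin N →₀ ℕ) : (theta N z).coeff m ∈ I := by
  have h1 : I.map (Algebra.TensorProduct.includeRight : B →ₐ[A] MvPolynomial (Fin N) A ⊗[A] B) ≤
      (I.map (MvPolynomial.C : B →+* MvPolynomial (Fin N) B)).comap (theta (A := A) N) := by
    rw [Ideal.map_le_iff_le_comap]
    intro b hb
    rw [Ideal.mem_comap, Ideal.mem_comap]
    change theta N ((1 : MvPolynomial (Fin N) A) ⊗ₜ[A] b) ∈ _
    rw [theta_tmul, map_one, MvPolynomial.smul_eq_C_mul, mul_one]
    exact Ideal.mem_map_of_mem _ hb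
  have h2 := h1 hz
  rw [Ideal.mem_comap, MvPolynomial.mem_map_C_iff] at h2
  exact h2 m

theorem lid_map_aeval (a : Fin N → A) (z : MvPolynomial (Fin N) A ⊗[A] B) :
    TensorProduct.lid A B
      (Algebra.TensorProduct.map (MvPolynomial.aeval a : MvPolynomial (Fin N) A →ₐ[A] A)
        (AlgHom.id A B) z) =
      MvPolynomial.aeval (fun i => algebraMap A B (a i)) (theta N z) := by
  induction z using TensorProduct.induction_on with
  | zero => simp
  | tmul p b =>
    rw [theta_tmul, Algebra.TensorProduct.map_tmul, TensorProduct.lid_tmul, map_smul,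
      MvPolynomial.aeval_map_algebraMap, AlgHom.id_apply, smul_eq_mul, Algebra.smul_def, mul_comm]
    congr 1
    exact (MvPolynomial.aeval_algebraMap_apply B a p).symm
  | add x y hx hy => simp only [map_add, hx, hy]

theorem aeval_mem_span (q : MvPolynomial (Fin N) B) (pt : Fin N → B) :
    MvPolynomial.aeval pt q ∈ Ideal.span ((fun m => q.coeff m) '' (q.support : Set (Fin N →₀ ℕ))) := by
  rw [MvPolynomial.aeval_def, MvPolynomial.eval₂_eq]
  refine Ideal.sum_mem _ (fun m hm => Ideal.mul_mem_right _ _ ?_)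
  exact Ideal.subset_span ⟨m, hm, rfl⟩

end Theta

section FT

variable {A : Type u} [CommRing A] {B : Type u} [CommRing B] [Algebra A B] {d : ℕ}
  (F : PolLaw.MulLaw A B A d)

theorem lid_chG_self (k' : B) (hk' : k' ∈ PolLaw.ker F.law) :
    TensorProduct.lid A B (chG F.law A ((1 : A) ⊗ₜ[A] k')) = (-k') ^ d := by
  have h1 : (1 : A) ⊗ₜ[A] k' ∈ PolLaw.kerBC F.law A :=
    Groth.Agent.Lib.lead.PolLawUniv.map_le_kerBC' F.law A
      (Ideal.mem_map_of_mem (Algebra.TensorProduct.includeRight : B →ₐ[A] A ⊗[A] B) hk')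
  rw [chG_of_mem_kerBC F A _ h1, ← TensorProduct.tmul_neg, Algebra.TensorProduct.tmul_pow, one_pow,
    TensorProduct.lid_tmul, one_smul]

theorem main13706 [Algebra.FiniteType A B] :
    ∃ J : Ideal B, J.FG ∧ J ≤ PolLaw.ker F.law ∧ J.radical = (PolLaw.ker F.law).radical := by
  classical
  obtain ⟨s, hs⟩ := (Algebra.FiniteType.out : (⊤ : Subalgebra A B).FG)
  let g : B → B := fun x => Polynomial.aeval x (psi F.law x)
  let J₀ : Ideal B := Ideal.span (g '' (s : Set B))
  have hJ₀fg : J₀.FG := ⟨s.image g, by simp [J₀]⟩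
  have hJ₀le : J₀ ≤ PolLaw.ker F.law := Ideal.span_le.mpr (by
    rintro _ ⟨x, -, rfl⟩
    exact aeval_psi_mem F x)
  let q : B →ₐ[A] B ⧸ J₀ := Ideal.Quotient.mkₐ A J₀
  have hq : Function.Surjective q := Ideal.Quotient.mkₐ_surjective A J₀
  have hint : ∀ y ∈ q '' (s : Set B), IsIntegral A y := by
    rintro _ ⟨x, hx, rfl⟩
    refine ⟨psi F.law x, psi_monic F x, ?_⟩
    rw [← Polynomial.aeval_def, Polynomial.aeval_algHom_apply]
    exact Ideal.Quotient.eq_zero_iff_mem.mpr (Ideal.subset_span ⟨x, hx, rfl⟩)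
  have hadj : Algebra.adjoin A (q '' (s : Set B)) = ⊤ := by
    rw [← AlgHom.map_adjoin, hs, Algebra.map_top, (AlgHom.range_eq_top q).mpr hq]
  have hfin : Module.Finite A (B ⧸ J₀) := by
    have h := fg_adjoin_of_finite ((s.finite_toSet).image q) hint
    rw [hadj, Algebra.top_toSubmodule] at h
    exact ⟨h⟩
  obtain ⟨N, e, he⟩ := Module.Finite.exists_fin (R := A) (M := B ⧸ J₀)
  choose et het using fun k => hq (e k)
  let β : MvPolynomial (Fin N) A ⊗[A] B := ∑ k, (MvPolynomial.X k) ⊗ₜ[A] et k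
  have hz : chG F.law (MvPolynomial (Fin N) A) β ∈ (PolLaw.ker F.law).map
      (Algebra.TensorProduct.includeRight : B →ₐ[A] MvPolynomial (Fin N) A ⊗[A] B) :=
    chG_mem_map_ker F N β
  let Q : MvPolynomial (Fin N) B := theta N (chG F.law (MvPolynomial (Fin N) A) β)
  let J₁ : Ideal B := Ideal.span ((fun m => Q.coeff m) '' (Q.support : Set (Fin N →₀ ℕ)))
  have hJ₁fg : J₁.FG := ⟨Q.support.image (fun m => Q.coeff m), by simp [J₁]⟩
  have hJ₁le : J₁ ≤ PolLaw.ker F.law := Ideal.span_le.mpr (by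
    rintro _ ⟨m, -, rfl⟩
    exact coeff_theta_mem N _ _ hz m)
  have hJle : J₀ ⊔ J₁ ≤ PolLaw.ker F.law := sup_le hJ₀le hJ₁le
  refine ⟨J₀ ⊔ J₁, Submodule.FG.sup hJ₀fg hJ₁fg, hJle, ?_⟩
  apply le_antisymm (Ideal.radical_mono hJle)
  rw [Ideal.radical_le_radical_iff]
  intro k hk
  have hmem : q k ∈ Submodule.span A (Set.range e) := by
    rw [he]
    trivial
  obtain ⟨a, ha⟩ := (Submodule.mem_span_range_iff_exists_fun A).mp hmem
  let k' : B := ∑ i, a i • et i
  have hqk' : q k' = q k := by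
    rw [map_sum, ← ha]
    refine Finset.sum_congr rfl (fun i _ => ?_)
    rw [map_smul, het]
  have hj₀ : k - k' ∈ J₀ := by
    rw [← Ideal.Quotient.eq_zero_iff_mem]
    change q (k - k') = 0
    rw [map_sub, hqk', sub_self]
  have hk' : k' ∈ PolLaw.ker F.law := by
    have h := (PolLaw.ker F.law).sub_mem hk (hJ₀le hj₀)
    rwa [sub_sub_cancel] at h
  have hpow : (-k') ^ d ∈ J₁ := by
    have h1 := lid_map_aeval N a (chG F.law (MvPolynomial (Fin N) A) β)
    have h2 := map_chG F.law (MvPolynomial.aeval a : MvPolynomial (Fin N) A →ₐ[A] A) β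
    have h3 : Algebra.TensorProduct.map
        (MvPolynomial.aeval a : MvPolynomial (Fin N) A →ₐ[A] A) (AlgHom.id A B) β =
        (1 : A) ⊗ₜ[A] k' := by
      simp only [β, k', map_sum, Algebra.TensorProduct.map_tmul, MvPolynomial.aeval_X,
        AlgHom.id_apply, TensorProduct.tmul_sum]
      refine Finset.sum_congr rfl (fun i _ => ?_)
      rw [TensorProduct.tmul_smul, TensorProduct.smul_tmul', smul_eq_mul, mul_one]
    rw [h3] at h2
    rw [← lid_chG_self F k' hk', ← h2, h1]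
    exact aeval_mem_span N Q _
  refine ⟨d, ?_⟩
  rw [← Ideal.Quotient.eq_zero_iff_mem, map_pow]
  have e1 : Ideal.Quotient.mk (J₀ ⊔ J₁) k = Ideal.Quotient.mk (J₀ ⊔ J₁) k' := by
    rw [Ideal.Quotient.eq]
    exact le_sup_left (a := J₀) hj₀
  have e2 : k' ^ d ∈ J₀ ⊔ J₁ := by
    have h2 : k' ^ d = (-1) ^ d * (-k') ^ d := by
      rw [← mul_pow]
      simp
    rw [h2]
    exact Ideal.mul_mem_left _ _ (le_sup_right (a := J₀) hpow)
  rw [e1, ← map_pow]
  exact Ideal.Quotient.eq_zero_iff_mem.mpr e2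

end FT

end Groth.Agent.Lib.Helper20.PLBC
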