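import Mathlib
import Groth.Prelude.Def_PolLaw
import Groth.Agent.Lib.Helper20.PLCH4
import Groth.Agent.Lib.lead.PolLawKerBC

/-!
# Irreducible components of the support of a multiplicative law dominate the base
-/

namespace Groth.Agent.Lib.Helper20.PLBC

open scoped TensorProduct
open Groth.Agent.Lib.Helper20.PLCH Groth.Agent.Lib.lead.PolLawKerBC Groth.Agent.Lib.lead.PolLawBC

universe u

section TestPoly

variable {A : Type u} [CommRing A] {B : Type u} [CommRing B] [Algebra A B]

/-- the kernel of a law can be tested on polynomial rings -/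
theorem mem_ker_of_mvPolynomial (F : B →ₚₗ[A] A) (b : B)
    (h : ∀ (σ : Type u) (x w : MvPolynomial σ A ⊗[A] B),
      F.toFun' (MvPolynomial σ A) (x + w * ((1 : MvPolynomial σ A) ⊗ₜ[A] b)) =
        F.toFun' (MvPolynomial σ A) x) :
    b ∈ PolLaw.ker F := by
  rw [mem_ker_iff]
  intro R _ _ x w
  let ψ : MvPolynomial R A →ₐ[A] R := MvPolynomial.aeval id
  have hψ : Function.Surjective ψ := fun r => ⟨MvPolynomial.X r, by simp [ψ]⟩
  have hs : Function.Surjective (bc B ψ) := by
    have h0 := LinearMap.rTensor_surjective B (g := ψ.toLinearMap) hψ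
    have h1 : ∀ z : MvPolynomial R A ⊗[A] B, bc B ψ z = ψ.toLinearMap.rTensor B z := by
      intro z
      induction z using TensorProduct.induction_on with
      | zero => simp
      | tmul p c => simp
      | add u v hu hv => simp only [map_add, hu, hv]
    intro y
    obtain ⟨z, hz⟩ := h0 y
    exact ⟨z, (h1 z).trans hz⟩
  obtain ⟨x', rfl⟩ := hs x
  obtain ⟨w', rfl⟩ := hs w
  have e : bc B ψ x' + bc B ψ w' * ((1 : R) ⊗ₜ[A] b) =
      bc B ψ (x' + w' * ((1 : MvPolynomial R A) ⊗ₜ[A] b)) := by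
    rw [map_add, map_mul, Algebra.TensorProduct.map_tmul, map_one, AlgHom.id_apply]
  rw [e, compat, compat, h]

end TestPoly

section Domain

variable {A : Type u} [CommRing A] [IsDomain A] {B : Type u} [CommRing B] [Algebra A B] {d : ℕ}
  (F : PolLaw.MulLaw A B A d)

/-- over a domain the kernel of a multiplicative law is saturated -/
theorem mem_ker_of_smul_mem (a : A) (ha : a ≠ 0) (s : B) (hs : a • s ∈ PolLaw.ker F.law) :
    s ∈ PolLaw.ker F.law := by
  apply mem_ker_of_mvPolynomial
  intro σ x w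
  have e : (algebraMap A (MvPolynomial σ A) a) • (x + w * ((1 : MvPolynomial σ A) ⊗ₜ[A] s)) =
      (algebraMap A (MvPolynomial σ A) a) • x +
        w * ((1 : MvPolynomial σ A) ⊗ₜ[A] (a • s)) := by
    rw [smul_add, ← mul_smul_comm, TensorProduct.smul_tmul', smul_eq_mul, mul_one,
      TensorProduct.tmul_smul, TensorProduct.smul_tmul', Algebra.algebraMap_eq_smul_one]
  have h1 : F.law.toFun' (MvPolynomial σ A)
      ((algebraMap A (MvPolynomial σ A) a) • (x + w * ((1 : MvPolynomial σ A) ⊗ₜ[A] s))) =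
      F.law.toFun' (MvPolynomial σ A) ((algebraMap A (MvPolynomial σ A) a) • x) := by
    rw [e]
    exact hs _ _ _
  rw [F.homog, F.homog] at h1
  have h2 := congrArg (Algebra.TensorProduct.rid A (MvPolynomial σ A) (MvPolynomial σ A)) h1
  rw [map_smul, map_smul, smul_eq_mul, smul_eq_mul] at h2
  have hne : (algebraMap A (MvPolynomial σ A) a) ^ d ≠ 0 := by
    apply pow_ne_zero
    rw [MvPolynomial.algebraMap_eq]
    exact fun h => ha ((MvPolynomial.C_injective σ A) (h.trans (map_zero _).symm))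
  exact (Algebra.TensorProduct.rid A (MvPolynomial σ A) (MvPolynomial σ A)).injective
    (mul_left_cancel₀ hne h2)

theorem exists_pow_mul_mem {R : Type*} [CommRing R] {I P : Ideal R} (hP : P ∈ I.minimalPrimes)
    {x : R} (hx : x ∈ P) : ∃ s, s ∉ P ∧ ∃ n : ℕ, x ^ n * s ∈ I := by
  have := hP.1.1
  have h1 := IsLocalization.AtPrime.radical_map_of_mem_minimalPrimes
    (A := Localization.AtPrime P) P I hP
  have h2 : algebraMap R (Localization.AtPrime P) x ∈
      (I.map (algebraMap R (Localization.AtPrime P))).radical := by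
    rw [h1]
    exact Ideal.mem_map_of_mem _ hx
  obtain ⟨n, hn⟩ := h2
  rw [IsLocalization.mem_map_algebraMap_iff (M := P.primeCompl)] at hn
  obtain ⟨⟨i, b⟩, hib⟩ := hn
  rw [← map_pow, ← map_mul, IsLocalization.eq_iff_exists P.primeCompl] at hib
  obtain ⟨t, ht⟩ := hib
  refine ⟨t.1 * b.1, fun h => ?_, n, ?_⟩
  · rcases hP.1.1.mem_or_mem h with h | h
    · exact t.2 h
    · exact b.2 h
  · have e : x ^ n * (t.1 * b.1) = t.1 * (x ^ n * b.1) := by ring
    rw [e, ht]
    exact I.mul_mem_left _ i.2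

theorem main13703 {P : Ideal B} (hP : P ∈ (PolLaw.ker F.law).minimalPrimes) :
    P.comap (algebraMap A B) = ⊥ ∧
      ∀ q : Ideal A, q.IsPrime → ∃ Q : Ideal B, Q.IsPrime ∧ P ≤ Q ∧
        Q.comap (algebraMap A B) = q := by
  have hPprime : P.IsPrime := hP.1.1
  have hle : PolLaw.ker F.law ≤ P := hP.1.2
  have h1 : P.comap (algebraMap A B) = ⊥ := by
    rw [eq_bot_iff]
    intro a ha
    rw [Ideal.mem_bot]
    by_contra hne
    obtain ⟨s, hsP, n, hn⟩ := exists_pow_mul_mem hP (Ideal.mem_comap.mp ha)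
    have h2 : (a ^ n) • s ∈ PolLaw.ker F.law := by
      rw [Algebra.smul_def, map_pow]
      exact hn
    exact hsP (hle (mem_ker_of_smul_mem F (a ^ n) (pow_ne_zero n hne) s h2))
  refine ⟨h1, fun q hq => ?_⟩
  have : Algebra.IsIntegral A (PolLaw.image F.law) := main13695 F
  have hIP : (P.map (Ideal.Quotient.mk (PolLaw.ker F.law))).comap
      (algebraMap A (PolLaw.image F.law)) ≤ q := by
    intro a ha
    rw [Ideal.mem_comap] at ha
    have h3 : algebraMap A B a ∈ P := (Ideal.mem_quotient_iff_mem hle).mp ha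
    have h4 : a ∈ P.comap (algebraMap A B) := h3
    rw [h1, Ideal.mem_bot] at h4
    rw [h4]
    exact q.zero_mem
  obtain ⟨Q', hQ'ge, hQ'prime, hQ'⟩ := Ideal.exists_ideal_over_prime_of_isIntegral q
    (P.map (Ideal.Quotient.mk (PolLaw.ker F.law))) hIP
  refine ⟨Q'.comap (Ideal.Quotient.mk (PolLaw.ker F.law)), Ideal.comap_isPrime _ _, ?_, ?_⟩
  · exact (Ideal.le_comap_map).trans (Ideal.comap_mono hQ'ge)
  · rw [← hQ', Ideal.comap_comap]
    rfl

end Domain

end Groth.Agent.Lib.Helper20.PLBC
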