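import Mathlib
import Groth.Prelude.Def_PolLaw
import Groth.Agent.Lib.Helper20.PLBC4
import Groth.Agent.Lib.Helper20.PLBC7

/-!
# The image of a multiplicative law is universally generizing over the base
-/

namespace Groth.Agent.Lib.Helper20.PLBC

open scoped TensorProduct

universe u

section GoingDown

variable {A : Type u} [CommRing A] {B : Type u} [CommRing B] [Algebra A B] {d : ℕ}
  (F : PolLaw.MulLaw A B A d) (A' : Type u) [CommRing A'] [Algebra A A']

theorem hasGoingDown_image : Algebra.HasGoingDown A' (A' ⊗[A] PolLaw.image F.law) := by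
  refine ⟨fun {p} _ Q _ hlt => ?_⟩
  -- the base change to the domain `A' ⧸ p`
  let mk : A' →ₐ[A] A' ⧸ p := Ideal.Quotient.mkₐ A p
  have hmk : Function.Surjective mk := Ideal.Quotient.mkₐ_surjective A p
  let τ : A' ⊗[A] PolLaw.image F.law →ₐ[A] (A' ⧸ p) ⊗[A] PolLaw.image F.law :=
    Algebra.TensorProduct.map mk (AlgHom.id A (PolLaw.image F.law))
  have hτ : Function.Surjective τ :=
    Algebra.TensorProduct.map_surjective mk (AlgHom.id A (PolLaw.image F.law)) hmk
      Function.surjective_id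
  have hker : RingHom.ker τ ≤ Q := by
    have h1 : RingHom.ker τ = (RingHom.ker mk).map
        (Algebra.TensorProduct.includeLeft : A' →ₐ[A] A' ⊗[A] PolLaw.image F.law) :=
      Algebra.TensorProduct.rTensor_ker mk hmk
    rw [h1, Ideal.map_le_iff_le_comap]
    intro a ha
    have ha' : a ∈ p := by
      have h2 : mk a = 0 := ha
      exact Ideal.Quotient.eq_zero_iff_mem.mp h2
    exact hlt.le ha'
  have hQbar : (Q.map τ).IsPrime := Ideal.map_isPrime_of_surjective hτ hker
  have hQcomap : (Q.map τ).comap τ = Q := by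
    rw [Ideal.comap_map_of_surjective τ hτ]
    exact sup_eq_left.mpr hker
  -- a minimal prime of the kernel of the base-changed law
  have hIle : PolLaw.ker (bcMulLaw (A' ⧸ p) (Fq F)).law ≤ Q.map τ := by
    rw [bcMulLaw_law, ker_bcLaw]
    exact (kerBC_Fq_le_nilradical F (A' ⧸ p)).trans (nilradical_le_prime _)
  obtain ⟨Q', hQ'min, hQ'le⟩ := Ideal.exists_minimalPrimes_le hIle
  have hQ'prime : Q'.IsPrime := hQ'min.1.1
  have hbot := (main13703 (bcMulLaw (A' ⧸ p) (Fq F)) hQ'min).1
  refine ⟨Q'.comap τ, ?_, Ideal.comap_isPrime _ _, ⟨?_⟩⟩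
  · rw [← hQcomap]
    exact Ideal.comap_mono hQ'le
  · ext a
    have e : τ (algebraMap A' (A' ⊗[A] PolLaw.image F.law) a) =
        algebraMap (A' ⧸ p) ((A' ⧸ p) ⊗[A] PolLaw.image F.law) (Ideal.Quotient.mk p a) := by
      simp [τ, mk]
    have h1 : a ∈ Ideal.under A' (Q'.comap τ) ↔
        Ideal.Quotient.mk p a ∈ Q'.comap
          (algebraMap (A' ⧸ p) ((A' ⧸ p) ⊗[A] PolLaw.image F.law)) := by
      rw [Ideal.under, Ideal.mem_comap, Ideal.mem_comap, Ideal.mem_comap, e]
    rw [h1, hbot, Ideal.mem_bot, Ideal.Quotient.eq_zero_iff_mem]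

theorem main13704 :
    GeneralizingMap (PrimeSpectrum.comap (algebraMap A' (A' ⊗[A] PolLaw.image F.law))) :=
  Algebra.HasGoingDown.iff_generalizingMap_primeSpectrumComap.mp (hasGoingDown_image F A')

end GoingDown

end Groth.Agent.Lib.Helper20.PLBC
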