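import Mathlib
import Groth.Prelude.Def_PolLaw
import Groth.Prelude.Def_SymTen
import Groth.Agent.Lib.Helper20.PLCH4

/-!
# The support of a push-forward of a multiplicative law
-/

namespace Groth.Agent.Lib.Helper20.PLCH

open scoped TensorProduct
open Groth.Agent.Lib.Helper20.PLCoeff Groth.Agent.Lib.Helper20.PLCorestrict

universe u

section Push

variable {A : Type u} [CommRing A] {B : Type u} [CommRing B] [Algebra A B]
  {B' : Type u} [CommRing B'] [Algebra A B'] {d : ℕ}

theorem comap_ker_le_ker_precomp (F : PolLaw.MulLaw A B A d) (φ : B' →ₐ[A] B) :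
    (PolLaw.ker F.law).comap φ ≤ PolLaw.ker (F.precomp φ).law := by
  intro b' hb' S _ _ x w
  change F.law.toFun' S (φ.toLinearMap.lTensor S (x + w * ((1 : S) ⊗ₜ[A] b'))) =
    F.law.toFun' S (φ.toLinearMap.lTensor S x)
  have e : φ.toLinearMap.lTensor S (x + w * ((1 : S) ⊗ₜ[A] b')) =
      φ.toLinearMap.lTensor S x + φ.toLinearMap.lTensor S w * ((1 : S) ⊗ₜ[A] φ b') := by
    rw [map_add, PolLaw.lTensor_algHom_apply, PolLaw.lTensor_algHom_apply,
      PolLaw.lTensor_algHom_apply, map_mul, Algebra.TensorProduct.map_tmul]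
    rfl
  rw [e]
  exact hb' S _ _

theorem pow_mem_ker_of_mem_ker_precomp (F : PolLaw.MulLaw A B A d) (φ : B' →ₐ[A] B) (b' : B')
    (hb' : b' ∈ PolLaw.ker (F.precomp φ).law) : (φ b') ^ d ∈ PolLaw.ker F.law := by
  have h1 := ch F (φ b')
  have h2 : chElt F.law (φ b') = (-(φ b')) ^ d := by
    rw [← rid_toFun'_eq_chElt F.law (φ b') Polynomial.X (Polynomial.aeval (φ b'))
      (Polynomial.aeval_X _)]
    have h3 := chi_of_mem_ker (F.precomp φ) b' hb'
    have h4 : (F.precomp φ).law.toFun' (Polynomial A)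
        ((1 : Polynomial A) ⊗ₜ[A] b' - Polynomial.X ⊗ₜ[A] (1 : B')) =
        F.law.toFun' (Polynomial A)
          ((1 : Polynomial A) ⊗ₜ[A] φ b' - Polynomial.X ⊗ₜ[A] (1 : B)) := by
      change F.law.toFun' _ (φ.toLinearMap.lTensor _ _) = _
      congr 1
      rw [map_sub, LinearMap.lTensor_tmul, LinearMap.lTensor_tmul, AlgHom.toLinearMap_apply,
        AlgHom.toLinearMap_apply, map_one]
    rw [← h4, h3, map_pow, map_neg, Polynomial.aeval_X]
  rw [h2] at h1
  have h5 : (φ b') ^ d = (-1) ^ d * (-(φ b')) ^ d := by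
    rw [← mul_pow]
    simp
  rw [h5]
  exact Ideal.mul_mem_left _ _ h1

theorem main13718 (F : PolLaw.MulLaw A B A d) (φ : B' →ₐ[A] B) :
    (PolLaw.ker (F.precomp φ).law).radical = ((PolLaw.ker F.law).comap φ).radical := by
  apply le_antisymm
  · rw [Ideal.radical_le_radical_iff]
    intro b' hb'
    refine ⟨d, ?_⟩
    rw [Ideal.mem_comap, map_pow]
    exact pow_mem_ker_of_mem_ker_precomp F φ b' hb'
  · exact Ideal.radical_mono (comap_ker_le_ker_precomp F φ)

end Push

end Groth.Agent.Lib.Helper20.PLCH
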