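import Mathlib
import Groth.Prelude.Def_PolLaw
import Groth.Prelude.Def_PolLaw2
import Groth.Agent.Lib.lead.PolLawProd

/-!
# The determinant law of a finite projective module: the auxiliary module `M × M'`
-/

namespace Groth.Agent.Lib.Helper20.PLDet

open scoped TensorProduct

universe u

section ProdModule

/-- the product `M × M'`, on which `B × A` acts componentwise -/
def PM (M M' : Type u) : Type u := M × M'

variable {A : Type u} [CommRing A] {B : Type u} [CommRing B] [Algebra A B]
  (M : Type u) [AddCommGroup M] [Module A M] [Module B M] [IsScalarTower A B M]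
  (M' : Type u) [AddCommGroup M'] [Module A M']

noncomputable instance : AddCommGroup (PM M M') := inferInstanceAs (AddCommGroup (M × M'))

noncomputable instance : Module A (PM M M') := inferInstanceAs (Module A (M × M'))

variable (A) in
/-- the identification with the product -/
noncomputable def PM.equiv : PM M M' ≃ₗ[A] M × M' := LinearEquiv.refl A (M × M')

noncomputable instance : Module (B × A) (PM M M') where
  smul c p := (PM.equiv A M M').symm (c.1 • (PM.equiv A M M' p).1, c.2 • (PM.equiv A M M' p).2)
  one_smul p := by
    change ((1 : B) • p.1, (1 : A) • p.2) = p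
    rw [one_smul, one_smul]
    rfl
  mul_smul c c' p := by
    change ((c.1 * c'.1) • p.1, (c.2 * c'.2) • p.2) = (c.1 • c'.1 • p.1, c.2 • c'.2 • p.2)
    rw [mul_smul, mul_smul]
  smul_zero c := by
    change (c.1 • (0 : M), c.2 • (0 : M')) = 0
    rw [smul_zero, smul_zero]
    rfl
  smul_add c p p' := by
    change (c.1 • (p.1 + p'.1), c.2 • (p.2 + p'.2)) = (c.1 • p.1 + c.1 • p'.1, c.2 • p.2 + c.2 • p'.2)
    rw [smul_add, smul_add]
  add_smul c c' p := by
    change ((c.1 + c'.1) • p.1, (c.2 + c'.2) • p.2) = (c.1 • p.1 + c'.1 • p.1, c.2 • p.2 + c'.2 • p.2)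
    rw [add_smul, add_smul]
  zero_smul p := by
    change ((0 : B) • p.1, (0 : A) • p.2) = 0
    rw [zero_smul, zero_smul]
    rfl

theorem PM.smul_def (c : B × A) (p : PM M M') :
    PM.equiv A M M' (c • p) = (c.1 • (PM.equiv A M M' p).1, c.2 • (PM.equiv A M M' p).2) := rfl

instance : IsScalarTower A (B × A) (PM M M') where
  smul_assoc a c p := by
    apply (PM.equiv A M M').injective
    rw [PM.smul_def, map_smul, PM.smul_def, Prod.smul_mk]
    simp only [smul_assoc]
    rfl

end ProdModule

end Groth.Agent.Lib.Helper20.PLDet
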