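import Mathlib
import Groth.Prelude.Def_PolLaw
import Groth.Prelude.Def_PolLaw2
import Groth.Agent.Lib.Helper20.PLDet1

/-!
# The determinant law of a finite projective module: the action on `M × M'`
-/

namespace Groth.Agent.Lib.Helper20.PLDet

open scoped TensorProduct
open Groth.Agent.Lib.lead.PolLawProd

universe u

section Act

variable {A : Type u} [CommRing A] {B : Type u} [CommRing B] [Algebra A B]
  (M : Type u) [AddCommGroup M] [Module A M] [Module B M] [IsScalarTower A B M]
  (M' : Type u) [AddCommGroup M'] [Module A M']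
  (S : Type u) [CommSemiring S] [Algebra A S]

/-- `S ⊗ (M × M') ≃ (S ⊗ M) × (S ⊗ M')` -/
noncomputable def eP : S ⊗[A] PM M M' ≃ₗ[S] (S ⊗[A] M) × (S ⊗[A] M') :=
  TensorProduct.prodRight A S S M M'

theorem eP_tmul (t : S) (p : PM M M') :
    eP M M' S (t ⊗ₜ[A] p) = (t ⊗ₜ[A] (PM.equiv A M M' p).1, t ⊗ₜ[A] (PM.equiv A M M' p).2) := rfl

theorem eP_actEnd (y : S ⊗[A] (B × A)) (z : S ⊗[A] PM M M') :
    eP M M' S (PolLaw.actEnd (PM M M') S y z) =
      (PolLaw.actEnd M S (E A B A S y).1 (eP M M' S z).1,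
        PolLaw.actEnd (B := A) M' S (E A B A S y).2 (eP M M' S z).2) := by
  induction y using TensorProduct.induction_on with
  | zero => simp; rfl
  | tmul s c =>
    induction z using TensorProduct.induction_on with
    | zero => simp; rfl
    | tmul t p =>
      rw [PolLaw.actEnd_tmul_tmul, eP_tmul, eP_tmul, PM.smul_def]
      have h1 : E A B A S (s ⊗ₜ[A] c) = (s ⊗ₜ[A] c.1, s ⊗ₜ[A] c.2) := rfl
      rw [h1, PolLaw.actEnd_tmul_tmul, PolLaw.actEnd_tmul_tmul]
    | add z z' hz hz' =>
      rw [map_add, map_add, hz, hz', map_add, Prod.fst_add, Prod.snd_add, map_add, map_add]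
      rfl
  | add y y' hy hy' =>
    rw [map_add, LinearMap.add_apply, map_add, hy, hy', map_add, Prod.fst_add, Prod.snd_add,
      map_add, map_add, LinearMap.add_apply, LinearMap.add_apply]
    rfl

end Act

end Groth.Agent.Lib.Helper20.PLDet
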