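import Mathlib
import Groth.Prelude.Def_PolLaw
import Groth.Prelude.Def_PolLaw2
import Groth.Agent.Lib.Helper20.PLDet2

/-!
# The determinant law of a finite projective module: the law and its values
-/

namespace Groth.Agent.Lib.Helper20.PLDet

open scoped TensorProduct
open Groth.Agent.Lib.lead.PolLawProd

universe u

section Value

variable {A : Type u} [CommRing A] {B : Type u} [CommRing B] [Algebra A B]
  (M : Type u) [AddCommGroup M] [Module A M] [Module B M] [IsScalarTower A B M]
  (M' : Type u) [AddCommGroup M'] [Module A M']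

/-- conjugating the action on `M × M'` -/
theorem actEnd_conj (S : Type u) [CommRing S] [Algebra A S] (y : S ⊗[A] (B × A)) :
    (((eP (A := A) M M' S : S ⊗[A] PM M M' ≃ₗ[S] ((S ⊗[A] M) × (S ⊗[A] M'))) :
        S ⊗[A] PM M M' →ₗ[S] ((S ⊗[A] M) × (S ⊗[A] M'))) ∘ₗ
      (PolLaw.actEnd (PM M M') S y) ∘ₗ
      (((eP (A := A) M M' S).symm : ((S ⊗[A] M) × (S ⊗[A] M')) ≃ₗ[S] S ⊗[A] PM M M') :
        ((S ⊗[A] M) × (S ⊗[A] M')) →ₗ[S] S ⊗[A] PM M M')) =
      LinearMap.prodMap (PolLaw.actEnd M S (E A B A S y).1)
        (PolLaw.actEnd (B := A) M' S (E A B A S y).2) := by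
  apply LinearMap.ext
  intro w
  rw [LinearMap.comp_apply, LinearMap.comp_apply, LinearEquiv.coe_coe, LinearEquiv.coe_coe,
    eP_actEnd, LinearEquiv.apply_symm_apply]
  rfl

theorem detAct_PM (S : Type u) [CommRing S] [Algebra A S]
    [Module.Free S (S ⊗[A] M)] [Module.Finite S (S ⊗[A] M)]
    [Module.Free S (S ⊗[A] M')] [Module.Finite S (S ⊗[A] M')] (x : S ⊗[A] B) :
    PolLaw.detAct (PM M M') S ((E A B A S).symm (x, 1)) = PolLaw.detAct M S x := by
  unfold PolLaw.detAct
  rw [← LinearMap.det_conj _ (eP (A := A) M M' S), actEnd_conj, LinearMap.det_prodMap,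
    AlgEquiv.apply_symm_apply, map_one, map_one, mul_one]

variable [Module.Free A (PM M M')] [Module.Finite A (PM M M')]

variable (B) in
/-- the determinant law of `M`, a direct summand of a finite free module -/
noncomputable def detN : B →ₚₗ[A] A :=
  law1 (PolLaw.detPLaw (A := A) (B := B × A) (M := PM M M'))

theorem detN_isMult : PolLaw.IsMult (detN (A := A) B M M') :=
  law1_mult _ (fun S _ _ => ⟨PolLaw.detFun_one (M := PM M M') S, PolLaw.detFun_mul (M := PM M M') S⟩)

theorem detN_apply (S : Type u) [CommRing S] [Algebra A S]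
    [Module.Free S (S ⊗[A] M)] [Module.Finite S (S ⊗[A] M)]
    [Module.Free S (S ⊗[A] M')] [Module.Finite S (S ⊗[A] M')] (x : S ⊗[A] B) :
    (detN (A := A) B M M').toFun' S x = PolLaw.detAct M S x ⊗ₜ[A] (1 : A) := by
  rw [detN, law1_apply]
  change PolLaw.detFun A (B × A) (PM M M') S _ = _
  rw [PolLaw.detFun_eq_detAct, detAct_PM]

end Value

section Unique

variable {A : Type u} [CommRing A] {B : Type u} [CommRing B] [Algebra A B]

theorem eq_of_local_ring (N₁ N₂ : B →ₚₗ[A] A)
    (h : ∀ (S : Type u) [CommRing S] [IsLocalRing S] [Algebra A S] (x : S ⊗[A] B),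
      N₁.toFun' S x = N₂.toFun' S x)
    (S : Type u) [CommRing S] [Algebra A S] (x : S ⊗[A] B) :
    N₁.toFun' S x = N₂.toFun' S x := by
  apply (Algebra.TensorProduct.rid A S S).injective
  rw [← sub_eq_zero]
  apply eq_zero_of_localization
  intro J hJ
  let φ : S →ₐ[A] Localization.AtPrime J := IsScalarTower.toAlgHom A S (Localization.AtPrime J)
  have key : ∀ z : S ⊗[A] A, algebraMap S (Localization.AtPrime J) (Algebra.TensorProduct.rid A S S z)
      = Algebra.TensorProduct.rid A (Localization.AtPrime J) (Localization.AtPrime J)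
        (φ.toLinearMap.rTensor A z) := by
    intro z
    induction z using TensorProduct.induction_on with
    | zero => simp
    | tmul s a =>
      rw [LinearMap.rTensor_tmul, Algebra.TensorProduct.rid_tmul, Algebra.TensorProduct.rid_tmul,
        AlgHom.toLinearMap_apply]
      change algebraMap S _ (a • s) = a • algebraMap S _ s
      rw [Algebra.smul_def, map_mul, ← IsScalarTower.algebraMap_apply, Algebra.smul_def]
    | add z z' hz hz' => rw [map_add, map_add, hz, hz', map_add, map_add]
  rw [map_sub, key, key, PolynomialLaw.isCompat_apply', PolynomialLaw.isCompat_apply', h,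
    sub_self]

theorem ext_of_local (N₁ N₂ : B →ₚₗ[A] A)
    (h : ∀ (S : Type u) [CommRing S] [IsLocalRing S] [Algebra A S] (x : S ⊗[A] B),
      N₁.toFun' S x = N₂.toFun' S x) : N₁ = N₂ := by
  apply PolynomialLaw.ext
  funext S _ _ x
  let _ : CommRing S :=
    { (inferInstance : CommSemiring S), Module.addCommMonoidToAddCommGroup A (M := S) with }
  exact eq_of_local_ring N₁ N₂ h S x

end Unique

end Groth.Agent.Lib.Helper20.PLDet
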