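import Mathlib
import Groth.Prelude.Def_PolLaw
import Groth.Prelude.Def_PolLaw2
import Groth.Agent.Lib.Helper20.PLDet3

/-!
# The determinant law of a finite projective module: existence and uniqueness
-/

namespace Groth.Agent.Lib.Helper20.PLDet

open scoped TensorProduct
open Groth.Agent.Lib.lead.PolLawProd

universe u

section Summand0

variable (A : Type u) [CommRing A]
  (M : Type u) [AddCommGroup M] [Module A M]
  (M' : Type u) [AddCommGroup M'] [Module A M']

theorem finite_fst (_h : Module.Finite A (PM M M')) : Module.Finite A M :=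
  Module.Finite.of_surjective ((LinearMap.fst A M M') ∘ₗ (PM.equiv A M M').toLinearMap)
    (fun m => ⟨(PM.equiv A M M').symm (m, 0), rfl⟩)

theorem finite_snd (_h : Module.Finite A (PM M M')) : Module.Finite A M' :=
  Module.Finite.of_surjective ((LinearMap.snd A M M') ∘ₗ (PM.equiv A M M').toLinearMap)
    (fun m => ⟨(PM.equiv A M M').symm (0, m), rfl⟩)

theorem projective_fst (_h : Module.Free A (PM M M')) : Module.Projective A M :=
  Module.Projective.of_split ((PM.equiv A M M').symm.toLinearMap ∘ₗ LinearMap.inl A M M')
    ((LinearMap.fst A M M') ∘ₗ (PM.equiv A M M').toLinearMap) (by ext; rfl)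

theorem projective_snd (_h : Module.Free A (PM M M')) : Module.Projective A M' :=
  Module.Projective.of_split ((PM.equiv A M M').symm.toLinearMap ∘ₗ LinearMap.inr A M M')
    ((LinearMap.snd A M M') ∘ₗ (PM.equiv A M M').toLinearMap) (by ext; rfl)

end Summand0

section Summand

variable (A : Type u) [CommRing A] {B : Type u} [CommRing B] [Algebra A B]
  (M : Type u) [AddCommGroup M] [Module A M] [Module B M] [IsScalarTower A B M]
  (M' : Type u) [AddCommGroup M'] [Module A M']
  [Module.Free A (PM M M')] [Module.Finite A (PM M M')]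

variable {A}

theorem detN_apply_local (S : Type u) [CommRing S] [IsLocalRing S] [Algebra A S] (x : S ⊗[A] B) :
    (detN (A := A) B M M').toFun' S x = PolLaw.detAct M S x ⊗ₜ[A] (1 : A) := by
  have := finite_fst A M M' inferInstance
  have := finite_snd A M M' inferInstance
  have := projective_fst A M M' inferInstance
  have := projective_snd A M M' inferInstance
  have : Module.Free S (S ⊗[A] M) := Module.free_of_flat_of_isLocalRing
  have : Module.Free S (S ⊗[A] M') := Module.free_of_flat_of_isLocalRing
  exact detN_apply M M' S x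

end Summand

section Split

variable {A : Type u} [CommRing A] {M : Type u} [AddCommGroup M] [Module A M]
  {F : Type u} [AddCommGroup F] [Module A F]

/-- a split surjection gives a product decomposition -/
noncomputable def splitEquiv (π : F →ₗ[A] M) (s : M →ₗ[A] F) (h : π ∘ₗ s = LinearMap.id) :
    F ≃ₗ[A] M × LinearMap.ker π :=
  LinearEquiv.ofLinearMap
    (π.prod ((LinearMap.id - s ∘ₗ π).codRestrict (LinearMap.ker π) (fun x => by
      rw [LinearMap.mem_ker, LinearMap.sub_apply, map_sub, LinearMap.id_apply,
        LinearMap.comp_apply, ← LinearMap.comp_apply, h, LinearMap.id_apply, sub_self])))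
    (s.coprod (LinearMap.ker π).subtype)
    (by
      apply LinearMap.ext
      rintro ⟨m, k⟩
      have hk : π k.1 = 0 := k.2
      have hm : π (s m) = m := by rw [← LinearMap.comp_apply, h, LinearMap.id_apply]
      apply Prod.ext
      · simp [hk, hm]
      · apply Subtype.ext
        simp [hk, hm])
    (by
      apply LinearMap.ext
      intro x
      simp)

end Split

section Exists

variable {A : Type u} [CommRing A] {B : Type u} [CommRing B] [Algebra A B]
  (M : Type u) [AddCommGroup M] [Module A M] [Module B M] [IsScalarTower A B M]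
  [Module.Finite A M] [Module.Projective A M]

variable (B) in
theorem exists_detLaw : ∃ N : B →ₚₗ[A] A, PolLaw.IsMult N ∧
    ∀ (S : Type u) [CommRing S] [IsLocalRing S] [Algebra A S] (x : S ⊗[A] B),
      N.toFun' S x = PolLaw.detAct M S x ⊗ₜ[A] (1 : A) := by
  obtain ⟨n, π, s, -, -, hπs⟩ := Module.Finite.exists_comp_eq_id_of_projective A M
  let e : (Fin n → A) ≃ₗ[A] PM M (LinearMap.ker π) :=
    (splitEquiv π s hπs).trans (PM.equiv A M (LinearMap.ker π)).symm
  have : Module.Free A (PM M (LinearMap.ker π)) := Module.Free.of_equiv e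
  have : Module.Finite A (PM M (LinearMap.ker π)) := Module.Finite.equiv e
  exact ⟨detN (A := A) B M (LinearMap.ker π), detN_isMult M (LinearMap.ker π),
    fun S _ _ _ x => detN_apply_local M (LinearMap.ker π) S x⟩

theorem main19867 : ∃! N : B →ₚₗ[A] A, PolLaw.IsMult N ∧
    ∀ (S : Type u) [CommRing S] [IsLocalRing S] [Algebra A S] (x : S ⊗[A] B),
      N.toFun' S x = PolLaw.detAct M S x ⊗ₜ[A] (1 : A) := by
  obtain ⟨N, hN, hN'⟩ := exists_detLaw (A := A) B M
  refine ⟨N, ⟨hN, hN'⟩, ?_⟩
  rintro N₂ ⟨-, hN₂⟩
  apply ext_of_local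
  intro S _ _ _ x
  rw [hN₂, hN']

end Exists

end Groth.Agent.Lib.Helper20.PLDet
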