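import Mathlib
import Groth.Prelude.Def_PolLaw
import Groth.Prelude.Def_PolLaw2
import Groth.Agent.Lib.Helper20.PLDet4

/-!
# The determinant law of a finite projective module of constant rank: homogeneity
-/

namespace Groth.Agent.Lib.Helper20.PLDet

open scoped TensorProduct
open Groth.Agent.Lib.lead.PolLawProd

universe u

section Homog

variable {A : Type u} [CommRing A] {B : Type u} [CommRing B] [Algebra A B]

theorem rTensor_smul_alg {S S' : Type u} [CommSemiring S] [Algebra A S] [CommSemiring S']
    [Algebra A S'] (φ : S →ₐ[A] S') (N : Type u) [AddCommMonoid N] [Module A N] (s : S)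
    (z : S ⊗[A] N) :
    φ.toLinearMap.rTensor N (s • z) = φ s • φ.toLinearMap.rTensor N z := by
  induction z using TensorProduct.induction_on with
  | zero => simp
  | tmul t n =>
    rw [TensorProduct.smul_tmul', LinearMap.rTensor_tmul, LinearMap.rTensor_tmul,
      TensorProduct.smul_tmul', AlgHom.toLinearMap_apply, AlgHom.toLinearMap_apply, smul_eq_mul,
      smul_eq_mul, map_mul]
  | add z z' hz hz' => rw [smul_add, map_add, hz, hz', map_add, smul_add]

theorem homog_of_local_ring (N : B →ₚₗ[A] A) (d : ℕ)
    (h : ∀ (S : Type u) [CommRing S] [IsLocalRing S] [Algebra A S] (s : S) (x : S ⊗[A] B),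
      N.toFun' S (s • x) = s ^ d • N.toFun' S x)
    (S : Type u) [CommRing S] [Algebra A S] (s : S) (x : S ⊗[A] B) :
    N.toFun' S (s • x) = s ^ d • N.toFun' S x := by
  apply (Algebra.TensorProduct.rid A S S).injective
  rw [← sub_eq_zero]
  apply eq_zero_of_localization
  intro J hJ
  let φ : S →ₐ[A] Localization.AtPrime J := IsScalarTower.toAlgHom A S (Localization.AtPrime J)
  have key : ∀ z : S ⊗[A] A, algebraMap S (Localization.AtPrime J) (Algebra.TensorProduct.rid A S S z)
      = Algebra.TensorProduct.rid A (Localization.AtPrime J) (Localization.AtPrime J)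
        (φ.toLinearMap.rTensor A z) := by
    intro z
    induction z using TensorProduct.induction_on with
    | zero => simp
    | tmul s a =>
      rw [LinearMap.rTensor_tmul, Algebra.TensorProduct.rid_tmul, Algebra.TensorProduct.rid_tmul,
        AlgHom.toLinearMap_apply]
      change algebraMap S _ (a • s) = a • algebraMap S _ s
      rw [Algebra.smul_def, map_mul, ← IsScalarTower.algebraMap_apply, Algebra.smul_def]
    | add z z' hz hz' => rw [map_add, map_add, hz, hz', map_add, map_add]
  rw [map_sub, key, key, PolynomialLaw.isCompat_apply', rTensor_smul_alg, rTensor_smul_alg,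
    PolynomialLaw.isCompat_apply', h, map_pow, sub_self]

theorem isHomog_of_local (N : B →ₚₗ[A] A) (d : ℕ)
    (h : ∀ (S : Type u) [CommRing S] [IsLocalRing S] [Algebra A S] (s : S) (x : S ⊗[A] B),
      N.toFun' S (s • x) = s ^ d • N.toFun' S x) : PolLaw.IsHomog N d := by
  intro S _ _ s x
  let _ : CommRing S :=
    { (inferInstance : CommSemiring S), Module.addCommMonoidToAddCommGroup A (M := S) with }
  exact homog_of_local_ring N d h S s x

end Homog

section Rank

variable {A : Type u} [CommRing A] {B : Type u} [CommRing B] [Algebra A B]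
  (M : Type u) [AddCommGroup M] [Module A M] [Module B M] [IsScalarTower A B M]
  [Module.Finite A M] [Module.Projective A M]

omit [Module B M] [IsScalarTower A B M] in
theorem finrank_of_rankAtStalk (d : ℕ) (hd : ∀ p : PrimeSpectrum A, Module.rankAtStalk M p = d)
    (S : Type u) [CommRing S] [IsLocalRing S] [Algebra A S] :
    Module.finrank S (S ⊗[A] M) = d := by
  have : Module.Free S (S ⊗[A] M) := Module.free_of_flat_of_isLocalRing
  have h1 := congrFun (Module.rankAtStalk_eq_finrank_of_free (R := S) (M := S ⊗[A] M))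
    (IsLocalRing.closedPoint S)
  rw [Module.rankAtStalk_baseChange, hd] at h1
  exact h1.symm

theorem detAct_smul_local (d : ℕ) (hd : ∀ p : PrimeSpectrum A, Module.rankAtStalk M p = d)
    (S : Type u) [CommRing S] [IsLocalRing S] [Algebra A S] (s : S) (x : S ⊗[A] B) :
    PolLaw.detAct M S (s • x) = s ^ d * PolLaw.detAct M S x := by
  have : Module.Free S (S ⊗[A] M) := Module.free_of_flat_of_isLocalRing
  unfold PolLaw.detAct
  rw [map_smul, LinearMap.det_smul, finrank_of_rankAtStalk M d hd S]

theorem main13876 (d : ℕ) (hd : ∀ p : PrimeSpectrum A, Module.rankAtStalk M p = d) :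
    ∃! N : PolLaw.MulLaw A B A d,
      ∀ (S : Type u) [CommRing S] [IsLocalRing S] [Algebra A S] (x : S ⊗[A] B),
        N.law.toFun' S x = PolLaw.detAct M S x ⊗ₜ[A] (1 : A) := by
  obtain ⟨N, hN, hN'⟩ := exists_detLaw (A := A) B M
  have hh : PolLaw.IsHomog N d := by
    apply isHomog_of_local
    intro S _ _ _ s x
    rw [hN', hN', detAct_smul_local M d hd, TensorProduct.smul_tmul', smul_eq_mul]
  refine ⟨⟨N, hh, hN⟩, hN', ?_⟩
  intro N₂ hN₂
  apply PolLaw.MulLaw.ext
  apply ext_of_local
  intro S _ _ _ x
  rw [hN₂, hN']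

end Rank

end Groth.Agent.Lib.Helper20.PLDet
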