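import Mathlib

/-!
# A splitting algebra with unit root differences for a monic separable polynomial
-/

namespace Groth.Agent.Lib.Helper20.PLEt

open Polynomial

universe u

section Step

variable {A : Type u} [CommRing A] (g : A[X])

/-- the `A`-linear retraction of `A → A[X]/(g)`: the constant coefficient of the remainder -/
noncomputable def ret0 (hg : g.Monic) : AdjoinRoot g →ₗ[A] A :=
  (Polynomial.lcoeff A 0) ∘ₗ AdjoinRoot.modByMonicHom hg

theorem ret0_one (hg : g.Monic) (h : 0 < g.natDegree) : ret0 g hg 1 = 1 := by
  rcases subsingleton_or_nontrivial A with hA | hA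
  · exact Subsingleton.elim _ _
  have h1 : (1 : AdjoinRoot g) = AdjoinRoot.mk g 1 := (map_one _).symm
  rw [ret0, LinearMap.comp_apply, h1, AdjoinRoot.modByMonicHom_mk,
    (Polynomial.modByMonic_eq_self_iff hg).2
      (lt_of_le_of_lt degree_one_le (natDegree_pos_iff_degree_pos.mp h))]
  simp

theorem nontrivial_adjoinRoot [Nontrivial A] (hg : g.Monic) (h : 0 < g.natDegree) :
    Nontrivial (AdjoinRoot g) := by
  refine ⟨⟨0, 1, fun h01 => ?_⟩⟩
  have := congrArg (ret0 g hg) h01
  rw [map_zero, ret0_one g hg h] at this
  exact zero_ne_one this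

/-- the cofactor of the universal root -/
noncomputable def cof : (AdjoinRoot g)[X] :=
  (g.map (AdjoinRoot.of g)) /ₘ (X - C (AdjoinRoot.root g))

theorem cof_mul : (X - C (AdjoinRoot.root g)) * cof g = g.map (AdjoinRoot.of g) :=
  Polynomial.mul_divByMonic_eq_iff_isRoot.2 (AdjoinRoot.isRoot_root g)

theorem cof_monic (hg : g.Monic) : (cof g).Monic := by
  have h1 : ((X - C (AdjoinRoot.root g)) * cof g).Monic := by
    rw [cof_mul]; exact hg.map _
  exact (monic_X_sub_C _).of_mul_monic_left h1

theorem cof_natDegree [Nontrivial A] (hg : g.Monic) (n : ℕ) (h : g.natDegree = n + 1) :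
    (cof g).natDegree = n := by
  have := nontrivial_adjoinRoot g hg (by omega)
  have h1 := congrArg natDegree (cof_mul g)
  rw [(monic_X_sub_C _).natDegree_mul (cof_monic g hg), natDegree_X_sub_C,
    hg.natDegree_map, h] at h1
  omega

theorem cof_separable (hs : g.Separable) : (cof g).Separable := by
  have h1 : ((X - C (AdjoinRoot.root g)) * cof g).Separable := by
    rw [cof_mul]; exact hs.map
  exact h1.of_mul_right

theorem cof_eval_isUnit (hs : g.Separable) : IsUnit ((cof g).eval (AdjoinRoot.root g)) := by
  have h1 : ((X - C (AdjoinRoot.root g)) * cof g).Separable := by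
    rw [cof_mul]; exact hs.map
  obtain ⟨a, b, hab⟩ := h1
  have h2 := congrArg (Polynomial.eval (AdjoinRoot.root g)) hab
  simp only [eval_add, eval_mul, derivative_mul, derivative_sub, derivative_X, derivative_C,
    sub_zero, one_mul, eval_sub, eval_X, eval_C, sub_self, zero_mul, mul_zero, add_zero,
    zero_add, eval_one] at h2
  exact IsUnit.of_mul_eq_one _ (by rw [mul_comm]; exact h2)

end Step

section Exists

theorem exists_split : ∀ (n : ℕ) (A : Type u) [CommRing A] (g : A[X]), g.Monic → g.Separable →
    g.natDegree = n → ∃ (R : Type u) (_ : CommRing R) (_ : Algebra A R) (ret : R →ₗ[A] A)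
      (r : Fin n → R), ret 1 = 1 ∧ g.map (algebraMap A R) = ∏ i, (X - C (r i)) ∧
        ∀ i j, i ≠ j → IsUnit (r i - r j) := by
  intro n
  induction n with
  | zero =>
    intro A _ g hg _ hn
    refine ⟨A, inferInstance, inferInstance, LinearMap.id, fun i => i.elim0, rfl, ?_, ?_⟩
    · rw [eq_one_of_monic_natDegree_zero hg hn]
      simp
    · intro i; exact i.elim0
  | succ n ih =>
    intro A _ g hg hs hn
    rcases subsingleton_or_nontrivial A with hA | hA
    · exfalso
      rw [Subsingleton.elim g 0, natDegree_zero] at hn
      omega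
    obtain ⟨R, cR, aR, ret, r, hret, hprod, hunit⟩ := ih (AdjoinRoot g) (cof g) (cof_monic g hg)
      (cof_separable g hs) (cof_natDegree g hg n hn)
    let _ : Algebra A R := Algebra.compHom R (algebraMap A (AdjoinRoot g))
    have : IsScalarTower A (AdjoinRoot g) R := IsScalarTower.of_algebraMap_eq (fun _ => rfl)
    let ρ : R := algebraMap (AdjoinRoot g) R (AdjoinRoot.root g)
    have hmap : g.map (algebraMap A R) = (X - C ρ) * ∏ i, (X - C (r i)) := by
      rw [IsScalarTower.algebraMap_eq A (AdjoinRoot g) R, ← Polynomial.map_map,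
        AdjoinRoot.algebraMap_eq, ← cof_mul, Polynomial.map_mul, hprod]
      simp [ρ]
    have hev : IsUnit (∏ i, (ρ - r i)) := by
      have h1 := (cof_eval_isUnit g hs).map (algebraMap (AdjoinRoot g) R)
      have h2 : algebraMap (AdjoinRoot g) R ((cof g).eval (AdjoinRoot.root g)) =
          ((cof g).map (algebraMap (AdjoinRoot g) R)).eval ρ := by
        rw [Polynomial.eval_map, Polynomial.eval₂_at_apply]
      rw [h2, hprod, Polynomial.eval_prod] at h1
      simpa using h1
    have hev' : ∀ i, IsUnit (ρ - r i) := fun i =>
      isUnit_of_dvd_unit (Finset.dvd_prod_of_mem (fun i => ρ - r i) (Finset.mem_univ i)) hev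
    refine ⟨R, cR, inferInstance, (ret0 g hg) ∘ₗ (ret.restrictScalars A), Fin.cons ρ r, ?_, ?_, ?_⟩
    · rw [LinearMap.comp_apply, LinearMap.restrictScalars_apply, hret, ret0_one g hg (by omega)]
    · rw [hmap, Fin.prod_univ_succ]
      simp
    · intro i j hij
      induction i using Fin.cases with
      | zero =>
        induction j using Fin.cases with
        | zero => exact absurd rfl hij
        | succ j => simpa using hev' j
      | succ i =>
        induction j using Fin.cases with
        | zero =>
          have := (hev' i).neg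
          simpa using this
        | succ j =>
          simpa using hunit i j (fun h => hij (by rw [h]))

end Exists

end Groth.Agent.Lib.Helper20.PLEt
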