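import Mathlib
import Groth.Prelude.Def_PolLaw
import Groth.Prelude.Def_PolLaw2
import Groth.Agent.Lib.lead.PolLawKerBC
import Groth.Agent.Lib.lead.PolLawUniv
import Groth.Agent.Lib.Helper20.PLBC2
import Groth.Agent.Lib.Helper20.PLEt1

/-!
# Kernels of polynomial laws and base change to `A[X]/(g)`, `g` monic separable
-/

namespace Groth.Agent.Lib.Helper20.PLEt

open scoped TensorProduct
open Polynomial
open Groth.Agent.Lib.lead.PolLawKerBC Groth.Agent.Lib.lead.PolLawUniv
open Groth.Agent.Lib.Helper20.PLBC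

universe u

section Descent

variable {A : Type u} [CommRing A] {B : Type u} [CommRing B] [Algebra A B]
  {C : Type u} [CommRing C] [Algebra A C]

/-- descent of kernel membership along an algebra with an `A`-linear retraction -/
theorem mem_ker_of_retraction (F : B →ₚₗ[A] C) (R : Type u) [CommRing R] [Algebra A R]
    (ret : R →ₗ[A] A) (hret : ret 1 = 1) (b : B)
    (h : (1 : R) ⊗ₜ[A] b ∈ PolLaw.kerBC F R) : b ∈ PolLaw.ker F := by
  rw [mem_ker_iff]
  intro S _ _ x w
  rw [mem_kerBC_iff] at h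
  let φ : S →ₐ[A] S ⊗[A] R := Algebra.TensorProduct.includeLeft
  let ψ : S ⊗[A] R →ₗ[A] S := (TensorProduct.rid A S).toLinearMap ∘ₗ LinearMap.lTensor S ret
  have hψφ : ψ ∘ₗ φ.toLinearMap = LinearMap.id := by
    apply LinearMap.ext
    intro s
    simp [ψ, φ, hret]
  have hinj : Function.Injective (φ.toLinearMap.rTensor C) := by
    apply Function.LeftInverse.injective (g := ψ.rTensor C)
    intro z
    rw [← LinearMap.comp_apply, ← LinearMap.rTensor_comp, hψφ, LinearMap.rTensor_id,
      LinearMap.id_apply]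
  apply hinj
  rw [PolynomialLaw.isCompat_apply', PolynomialLaw.isCompat_apply', PolLaw.rTensor_algHom_apply,
    PolLaw.rTensor_algHom_apply, map_add, map_mul]
  have h1 := h (S ⊗[A] R) (Algebra.TensorProduct.includeRight : R →ₐ[A] S ⊗[A] R)
    (Algebra.TensorProduct.map φ (AlgHom.id A B) x) (Algebra.TensorProduct.map φ (AlgHom.id A B) w)
  rw [Algebra.TensorProduct.map_tmul, map_one] at h1
  rw [Algebra.TensorProduct.map_tmul, map_one]
  exact h1

end Descent

section Vandermonde

variable {R : Type u} [CommRing R] {N : Type u} [AddCommGroup N] [Module R N]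

theorem mem_of_matrix {n : ℕ} (V : Matrix (Fin n) (Fin n) R) (hV : IsUnit V.det)
    (P : Submodule R N) (v : Fin n → N) (h : ∀ j, ∑ i, V j i • v i ∈ P) (k : Fin n) :
    v k ∈ P := by
  have hWV : V⁻¹ * V = 1 := Matrix.nonsing_inv_mul V hV
  have h1 : v k = ∑ j, V⁻¹ k j • ∑ i, V j i • v i := by
    calc v k = ∑ i, (1 : Matrix (Fin n) (Fin n) R) k i • v i := by
          simp [Matrix.one_apply]
      _ = ∑ i, (V⁻¹ * V) k i • v i := by rw [hWV]
      _ = ∑ i, ∑ j, (V⁻¹ k j * V j i) • v i := by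
          simp only [Matrix.mul_apply, Finset.sum_smul]
      _ = ∑ j, ∑ i, (V⁻¹ k j * V j i) • v i := Finset.sum_comm
      _ = ∑ j, V⁻¹ k j • ∑ i, V j i • v i := by
          simp only [Finset.smul_sum, mul_smul]
  rw [h1]
  exact P.sum_mem (fun j _ => P.smul_mem _ (h j))

theorem mem_of_vandermonde {n : ℕ} (r : Fin n → R) (hr : ∀ i j, i ≠ j → IsUnit (r i - r j))
    (P : Submodule R N) (v : Fin n → N) (h : ∀ j, ∑ i : Fin n, r j ^ (i : ℕ) • v i ∈ P)
    (k : Fin n) : v k ∈ P := by
  apply mem_of_matrix (Matrix.vandermonde r) _ P v h k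
  rw [Matrix.det_vandermonde, IsUnit.prod_iff]
  intro i _
  rw [IsUnit.prod_iff]
  intro j hj
  exact hr j i (ne_of_gt (Finset.mem_Ioi.1 hj))

end Vandermonde

section Main

variable {A : Type u} [CommRing A] {B : Type u} [CommRing B] [Algebra A B]

theorem kerBC_adjoinRoot_le (F : B →ₚₗ[A] A) (g : A[X]) (hg : g.Monic) (hsep : g.Separable) :
    PolLaw.kerBC F (AdjoinRoot g) ≤
      (PolLaw.ker F).map (Algebra.TensorProduct.includeRight : B →ₐ[A] AdjoinRoot g ⊗[A] B) := by
  intro b' hb'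
  obtain ⟨R, _, _, ret, r, hret, hprod, hunit⟩ := exists_split g.natDegree A g hg hsep rfl
  have hb : ∀ i, AdjoinRoot.powerBasisAux' hg i = AdjoinRoot.root g ^ (i : ℕ) :=
    fun i => (AdjoinRoot.powerBasis' hg).basis_eq_pow i
  obtain ⟨c, rfl⟩ :=
    (TensorProduct.equivFinsuppOfBasisLeft (N := B) (AdjoinRoot.powerBasisAux' hg)).symm.surjective b'
  rw [TensorProduct.equivFinsuppOfBasisLeft_symm_apply, Finsupp.sum_fintype _ _ (by simp)] at hb' ⊢
  have hroot : ∀ j, g.eval₂ (Algebra.ofId A R : A →ₐ[A] R) (r j) = 0 := by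
    intro j
    have h1 : g.eval₂ (algebraMap A R) (r j) = (g.map (algebraMap A R)).eval (r j) :=
      (Polynomial.eval_map _ _).symm
    change g.eval₂ (algebraMap A R) (r j) = 0
    rw [h1, hprod, Polynomial.eval_prod]
    exact Finset.prod_eq_zero (Finset.mem_univ j) (by simp)
  have key : ∀ i, c i ∈ PolLaw.ker F := by
    intro i
    apply mem_ker_of_retraction F R ret hret
    apply mem_of_vandermonde r hunit ((PolLaw.kerBC F R).restrictScalars R)
      (fun i => (1 : R) ⊗ₜ[A] c i) _ i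
    intro j
    have h2 := kerBC_map_le F (AdjoinRoot.liftAlgHom g (Algebra.ofId A R) (r j) (hroot j))
      (Ideal.mem_map_of_mem _ hb')
    rw [Submodule.restrictScalars_mem]
    convert h2 using 1
    rw [map_sum]
    refine Finset.sum_congr rfl (fun i _ => ?_)
    rw [Algebra.TensorProduct.map_tmul, hb, map_pow, AdjoinRoot.liftAlgHom_root,
      TensorProduct.smul_tmul', smul_eq_mul, mul_one]
    rfl
  refine Ideal.sum_mem _ (fun i _ => ?_)
  have h3 : AdjoinRoot.powerBasisAux' hg i ⊗ₜ[A] c i =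
      (AdjoinRoot.powerBasisAux' hg i ⊗ₜ[A] (1 : B)) *
        (Algebra.TensorProduct.includeRight : B →ₐ[A] AdjoinRoot g ⊗[A] B) (c i) := by
    rw [Algebra.TensorProduct.includeRight_apply, Algebra.TensorProduct.tmul_mul_tmul, mul_one,
      one_mul]
  rw [h3]
  exact Ideal.mul_mem_left _ _ (Ideal.mem_map_of_mem _ (key i))

theorem main13700 {d : ℕ} (F : PolLaw.MulLaw A B A d) (g : A[X]) (hg : g.Monic)
    (hsep : g.Separable) :
    (PolLaw.ker F.law).map (Algebra.TensorProduct.includeRight : B →ₐ[A] AdjoinRoot g ⊗[A] B) =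
      PolLaw.kerBC F.law (AdjoinRoot g) :=
  le_antisymm (map_le_kerBC' F.law (AdjoinRoot g)) (kerBC_adjoinRoot_le F.law g hg hsep)

end Main

end Groth.Agent.Lib.Helper20.PLEt
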