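import Mathlib
import Groth.Agent.Lib.Helper20.PLEt1

/-!
# A finite free splitting algebra for a monic polynomial
-/

namespace Groth.Agent.Lib.Helper20.PLEt

open Polynomial

universe u

theorem exists_split_gen : ∀ (n : ℕ) (A : Type u) [CommRing A] (g : A[X]), g.Monic →
    g.natDegree = n → ∃ (R : Type u) (_ : CommRing R) (_ : Algebra A R) (ret : R →ₗ[A] A)
      (r : Fin n → R), ret 1 = 1 ∧ g.map (algebraMap A R) = ∏ i, (X - C (r i)) ∧
        Module.Finite A R ∧ Module.Free A R := by
  intro n
  induction n with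
  | zero =>
    intro A _ g hg hn
    refine ⟨A, inferInstance, inferInstance, LinearMap.id, fun i => i.elim0, rfl, ?_,
      inferInstance, inferInstance⟩
    rw [eq_one_of_monic_natDegree_zero hg hn]
    simp
  | succ n ih =>
    intro A _ g hg hn
    rcases subsingleton_or_nontrivial A with hA | hA
    · exfalso
      rw [Subsingleton.elim g 0, natDegree_zero] at hn
      omega
    obtain ⟨R, cR, aR, ret, r, hret, hprod, hfin, hfree⟩ := ih (AdjoinRoot g) (cof g)
      (cof_monic g hg) (cof_natDegree g hg n hn)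
    let _ : Algebra A R := Algebra.compHom R (algebraMap A (AdjoinRoot g))
    have : IsScalarTower A (AdjoinRoot g) R := IsScalarTower.of_algebraMap_eq (fun _ => rfl)
    let ρ : R := algebraMap (AdjoinRoot g) R (AdjoinRoot.root g)
    have hmap : g.map (algebraMap A R) = (X - C ρ) * ∏ i, (X - C (r i)) := by
      rw [IsScalarTower.algebraMap_eq A (AdjoinRoot g) R, ← Polynomial.map_map,
        AdjoinRoot.algebraMap_eq, ← cof_mul, Polynomial.map_mul, hprod]
      simp [ρ]
    have h1 : Module.Finite A (AdjoinRoot g) := hg.finite_adjoinRoot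
    have h2 : Module.Free A (AdjoinRoot g) := hg.free_adjoinRoot
    refine ⟨R, cR, inferInstance, (ret0 g hg) ∘ₗ (ret.restrictScalars A), Fin.cons ρ r, ?_, ?_,
      Module.Finite.trans (AdjoinRoot g) R,
      Module.Free.of_basis ((Module.Free.chooseBasis A (AdjoinRoot g)).smulTower
        (Module.Free.chooseBasis (AdjoinRoot g) R))⟩
    · rw [LinearMap.comp_apply, LinearMap.restrictScalars_apply, hret, ret0_one g hg (by omega)]
    · rw [hmap, Fin.prod_univ_succ]
      simp

theorem isUnit_sub_of_separable_prod {R : Type u} [CommRing R] {n : ℕ} (r : Fin n → R)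
    (h : (∏ i, (X - C (r i))).Separable) (i j : Fin n) (hij : i ≠ j) : IsUnit (r i - r j) := by
  classical
  have h1 : ((X - C (r i)) * (X - C (r j))) ∣ ∏ l, (X - C (r l)) := by
    rw [← Finset.mul_prod_erase Finset.univ _ (Finset.mem_univ i)]
    apply mul_dvd_mul_left
    exact Finset.dvd_prod_of_mem _ (Finset.mem_erase.2 ⟨hij.symm, Finset.mem_univ j⟩)
  have h2 : ((X - C (r i)) * (X - C (r j))).Separable := h.of_dvd h1
  obtain ⟨u, v, huv⟩ := h2.isCoprime
  have h3 := congrArg (Polynomial.eval (r i)) huv
  simp only [eval_add, eval_mul, eval_sub, eval_X, eval_C, sub_self, mul_zero, zero_add,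
    eval_one] at h3
  exact IsUnit.of_mul_eq_one _ (by rw [mul_comm]; exact h3)

end Groth.Agent.Lib.Helper20.PLEt
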