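import Mathlib
import Groth.Agent.Lib.Helper20.PLEt3

/-!
# Powers `t^(q i)` form a basis of `A[X]/(g)` for `g` monic separable over a local ring of
residue characteristic `p`, `q = p^s`
-/

namespace Groth.Agent.Lib.Helper20.PLEt

open Polynomial

universe u

section Jac

variable {A : Type u} [CommRing A] [IsLocalRing A] {R : Type u} [CommRing R] [Algebra A R]
  [Algebra.IsIntegral A R]

theorem isUnit_add_of_mem_maximalIdeal (u : R) (hu : IsUnit u) (a : A)
    (ha : a ∈ IsLocalRing.maximalIdeal A) (c : R) : IsUnit (u + algebraMap A R a * c) := by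
  by_contra hnu
  obtain ⟨M, hM, hxM⟩ := exists_max_ideal_of_mem_nonunits (mem_nonunits_iff.2 hnu)
  have h1 : (M.comap (algebraMap A R)).IsMaximal :=
    Ideal.isMaximal_comap_of_isIntegral_of_isMaximal M
  have h2 : M.comap (algebraMap A R) = IsLocalRing.maximalIdeal A := IsLocalRing.eq_maximalIdeal h1
  have h3 : algebraMap A R a ∈ M := by
    have : a ∈ M.comap (algebraMap A R) := by rw [h2]; exact ha
    exact this
  have h4 : u ∈ M := by
    have := M.sub_mem hxM (M.mul_mem_right c h3)
    simpa using this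
  exact hM.ne_top (Ideal.eq_top_of_isUnit_mem _ h4 hu)

end Jac

section Main

variable {A : Type u} [CommRing A] [IsLocalRing A]

theorem main13702 (p : ℕ) [hp : Fact p.Prime] [CharP (IsLocalRing.ResidueField A) p]
    (g : A[X]) (hg : g.Monic) (hsep : g.Separable) (s : ℕ) :
    ∃ b : Module.Basis (Fin g.natDegree) A (AdjoinRoot g),
      ∀ i : Fin g.natDegree, b i = AdjoinRoot.root g ^ (p ^ s * (i : ℕ)) := by
  classical
  obtain ⟨R, _, _, ret, r, hret, hprod, hfin, hfree⟩ := exists_split_gen g.natDegree A g hg rfl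
  have hunit : ∀ i j, i ≠ j → IsUnit (r i - r j) :=
    isUnit_sub_of_separable_prod r (hprod ▸ hsep.map)
  have hint : Algebra.IsIntegral A R := Algebra.IsIntegral.of_finite A R
  have hpm : (p : A) ∈ IsLocalRing.maximalIdeal A := by
    rw [← IsLocalRing.residue_eq_zero_iff, map_natCast]
    exact CharP.cast_eq_zero _ p
  -- units
  have hunit' : ∀ i j, i ≠ j → IsUnit (r j ^ p ^ s - r i ^ p ^ s) := by
    intro i j hij
    obtain ⟨c, hc⟩ := exists_add_pow_prime_pow_eq hp.out (r j - r i) (r i) s
    rw [sub_add_cancel] at hc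
    have h1 : r j ^ p ^ s - r i ^ p ^ s =
        (r j - r i) ^ p ^ s + algebraMap A R (p : A) * ((r j - r i) * r i * c) := by
      rw [hc, map_natCast]; ring
    rw [h1]
    exact isUnit_add_of_mem_maximalIdeal _ ((hunit j i (Ne.symm hij)).pow _) _ hpm _
  have hV1 : IsUnit (Matrix.vandermonde r).det := by
    rw [Matrix.det_vandermonde, IsUnit.prod_iff]
    intro i _
    rw [IsUnit.prod_iff]
    intro j hj
    exact hunit j i (ne_of_gt (Finset.mem_Ioi.1 hj))
  have hV2 : IsUnit (Matrix.vandermonde (fun j => r j ^ p ^ s)).det := by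
    rw [Matrix.det_vandermonde, IsUnit.prod_iff]
    intro i _
    rw [IsUnit.prod_iff]
    intro j hj
    exact hunit' i j (ne_of_lt (Finset.mem_Ioi.1 hj))
  -- evaluation maps
  have hroot : ∀ j, g.eval₂ (Algebra.ofId A R : A →ₐ[A] R) (r j) = 0 := by
    intro j
    have h1 : g.eval₂ (algebraMap A R) (r j) = (g.map (algebraMap A R)).eval (r j) :=
      (Polynomial.eval_map _ _).symm
    change g.eval₂ (algebraMap A R) (r j) = 0
    rw [h1, hprod, Polynomial.eval_prod]
    exact Finset.prod_eq_zero (Finset.mem_univ j) (by simp)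
  let ev : Fin g.natDegree → (AdjoinRoot g →ₐ[A] R) := fun j =>
    AdjoinRoot.liftAlgHom g (Algebra.ofId A R) (r j) (hroot j)
  have hev : ∀ j, ev j (AdjoinRoot.root g) = r j := fun j => AdjoinRoot.liftAlgHom_root _ _ _ _
  let b₀ := AdjoinRoot.powerBasisAux' hg
  have hb₀ : ∀ i, b₀ i = AdjoinRoot.root g ^ (i : ℕ) :=
    fun i => (AdjoinRoot.powerBasis' hg).basis_eq_pow i
  let v : Fin g.natDegree → AdjoinRoot g := fun i => AdjoinRoot.root g ^ (p ^ s * (i : ℕ))
  have hmat : Matrix.vandermonde (fun j => r j ^ p ^ s) =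
      Matrix.vandermonde r * (b₀.toMatrix v).map (algebraMap A R) := by
    ext j i
    rw [Matrix.vandermonde_apply, Matrix.mul_apply]
    have h1 : ev j (v i) = ev j (∑ l, b₀.toMatrix v l i • b₀ l) := by
      rw [b₀.sum_toMatrix_smul_self]
    rw [map_sum] at h1
    have h2 : ev j (v i) = (r j ^ p ^ s) ^ (i : ℕ) := by
      simp only [v]
      rw [map_pow, hev, pow_mul]
    rw [← h2, h1]
    refine Finset.sum_congr rfl (fun l _ => ?_)
    rw [map_smul, hb₀, map_pow, hev, Matrix.vandermonde_apply, Matrix.map_apply, Algebra.smul_def,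
      mul_comm]
  have hdet : IsUnit (algebraMap A R (b₀.toMatrix v).det) := by
    have h1 := congrArg Matrix.det hmat
    rw [Matrix.det_mul] at h1
    have h2 : ((b₀.toMatrix v).map (algebraMap A R)).det = algebraMap A R (b₀.toMatrix v).det :=
      ((algebraMap A R).map_det _).symm
    rw [h2] at h1
    rw [h1] at hV2
    exact isUnit_of_mul_isUnit_right hV2
  have hdetA : IsUnit (b₀.det v) := by
    rw [Module.Basis.det_apply]
    obtain ⟨y, hy⟩ := hdet.exists_right_inv
    have h1 := congrArg ret hy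
    rw [← Algebra.smul_def, map_smul, hret, smul_eq_mul] at h1
    exact IsUnit.of_mul_eq_one _ h1
  obtain ⟨hli, hsp⟩ := (b₀.is_basis_iff_det).2 hdetA
  refine ⟨Module.Basis.mk hli hsp.ge, fun i => ?_⟩
  rw [Module.Basis.mk_apply]

end Main

end Groth.Agent.Lib.Helper20.PLEt
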