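import Mathlib
import Groth.Prelude.Def_PolLaw
import Groth.Prelude.Def_PolLaw2

/-!
# Naturality of the determinant of the action when the base-changed module is free
-/

namespace Groth.Agent.Lib.Helper20.PLNorm

open scoped TensorProduct

universe u

section Nat

variable {A : Type u} [CommRing A] {B : Type u} [CommRing B] [Algebra A B]
  (M : Type u) [AddCommGroup M] [Module A M] [Module B M] [IsScalarTower A B M]

theorem actEnd_cancel {R R' : Type u} [CommRing R] [Algebra A R] [CommRing R'] [Algebra A R']
    [Algebra R R'] [IsScalarTower A R R'] (x : R ⊗[A] B) (z : R' ⊗[R] (R ⊗[A] M)) :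
    TensorProduct.AlgebraTensorModule.cancelBaseChange A R R' R' M
      ((PolLaw.actEnd M R x).baseChange R' z) =
    PolLaw.actEnd M R' (Algebra.TensorProduct.map (IsScalarTower.toAlgHom A R R') (AlgHom.id A B) x)
      (TensorProduct.AlgebraTensorModule.cancelBaseChange A R R' R' M z) := by
  induction x using TensorProduct.induction_on with
  | zero => simp
  | tmul s b =>
    induction z using TensorProduct.induction_on with
    | zero => simp
    | tmul r' w =>
      induction w using TensorProduct.induction_on with
      | zero => simp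
      | tmul r m =>
        rw [LinearMap.baseChange_tmul, PolLaw.actEnd_tmul_tmul,
          TensorProduct.AlgebraTensorModule.cancelBaseChange_tmul,
          TensorProduct.AlgebraTensorModule.cancelBaseChange_tmul,
          Algebra.TensorProduct.map_tmul, PolLaw.actEnd_tmul_tmul]
        congr 1
        rw [Algebra.smul_def, Algebra.smul_def, map_mul, mul_assoc]
        rfl
      | add w w' hw hw' =>
        rw [TensorProduct.tmul_add, map_add, map_add, hw, hw', map_add, map_add]
    | add z z' hz hz' => rw [map_add, map_add, hz, hz', map_add, map_add]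
  | add x y hx hy =>
    rw [map_add, LinearMap.baseChange_add, LinearMap.add_apply, map_add, hx, hy, map_add, map_add,
      LinearMap.add_apply]

theorem detAct_map_of_free' {R R' : Type u} [CommRing R] [Algebra A R] [CommRing R'] [Algebra A R']
    [Algebra R R'] [IsScalarTower A R R']
    [Module.Free R (R ⊗[A] M)] [Module.Finite R (R ⊗[A] M)] (x : R ⊗[A] B) :
    PolLaw.detAct M R' (Algebra.TensorProduct.map (IsScalarTower.toAlgHom A R R') (AlgHom.id A B) x) =
      algebraMap R R' (PolLaw.detAct M R x) := by
  have h : ((TensorProduct.AlgebraTensorModule.cancelBaseChange A R R' R' M :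
        R' ⊗[R] (R ⊗[A] M) ≃ₗ[R'] R' ⊗[A] M) : R' ⊗[R] (R ⊗[A] M) →ₗ[R'] R' ⊗[A] M) ∘ₗ
      ((PolLaw.actEnd M R x).baseChange R') ∘ₗ
      (((TensorProduct.AlgebraTensorModule.cancelBaseChange A R R' R' M).symm :
        R' ⊗[A] M ≃ₗ[R'] R' ⊗[R] (R ⊗[A] M)) : R' ⊗[A] M →ₗ[R'] R' ⊗[R] (R ⊗[A] M)) =
      PolLaw.actEnd M R'
        (Algebra.TensorProduct.map (IsScalarTower.toAlgHom A R R') (AlgHom.id A B) x) := by
    apply LinearMap.ext
    intro w
    rw [LinearMap.comp_apply, LinearMap.comp_apply, LinearEquiv.coe_coe, LinearEquiv.coe_coe,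
      actEnd_cancel, LinearEquiv.apply_symm_apply]
  unfold PolLaw.detAct
  rw [← h, LinearMap.det_conj, LinearMap.det_baseChange]

theorem detAct_map_of_free {R R' : Type u} [CommRing R] [Algebra A R] [CommRing R'] [Algebra A R']
    (ψ : R →ₐ[A] R') [Module.Free R (R ⊗[A] M)] [Module.Finite R (R ⊗[A] M)] (x : R ⊗[A] B) :
    PolLaw.detAct M R' (Algebra.TensorProduct.map ψ (AlgHom.id A B) x) =
      ψ (PolLaw.detAct M R x) := by
  letI : Algebra R R' := ψ.toRingHom.toAlgebra
  haveI : IsScalarTower A R R' := IsScalarTower.of_algebraMap_eq (fun a => (ψ.commutes a).symm)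
  have e : IsScalarTower.toAlgHom A R R' = ψ := AlgHom.ext (fun _ => rfl)
  have := detAct_map_of_free' M (R := R) (R' := R') x
  rw [e] at this
  exact this

end Nat

end Groth.Agent.Lib.Helper20.PLNorm
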