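import Mathlib

/-!
# Integrality of the determinant of an endomorphism stabilising a finitely generated lattice
-/

namespace Groth.Agent.Lib.Helper20.PLNorm

universe u

section Expand

variable {S : Type*} [CommRing S] {V : Type*} [AddCommGroup V] [Module S V]

theorem expand {ι : Type*} [Fintype ι] [DecidableEq ι] {k : ℕ}
    (D : MultilinearMap S (fun _ : ι => V) S) (g : Fin k → V) (c : ι → Fin k → S) :
    D (fun i => ∑ j, c i j • g j) =
      ∑ σ : ι → Fin k, (∏ i, c i (σ i)) * D (fun i => g (σ i)) := by
  rw [MultilinearMap.map_sum]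
  refine Finset.sum_congr rfl (fun σ _ => ?_)
  rw [MultilinearMap.map_smul_univ, smul_eq_mul]

end Expand

section Integral

variable {R : Type*} [CommRing R] {S : Type*} [CommRing S] [IsDomain S] [Algebra R S]
  {V : Type*} [AddCommGroup V] [Module S V] [Module.Free S V] [Module.Finite S V]

theorem isIntegral_det_of_matrix {k : ℕ} (f : V →ₗ[S] V) (g : Fin k → V)
    (hg : Submodule.span S (Set.range g) = ⊤) (p : Fin k → Fin k → R)
    (hp : ∀ j, f (g j) = ∑ l, algebraMap R S (p j l) • g l) :
    IsIntegral R (LinearMap.det f) := by
  classical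
  let b := Module.finBasis S V
  let D : MultilinearMap S (fun _ : Fin (Module.finrank S V) => V) S := b.det.toMultilinearMap
  have hD : ∀ v, D v = b.det v := fun _ => rfl
  let J : Submodule R S := Submodule.span R
    (Set.range fun σ : Fin (Module.finrank S V) → Fin k => D (fun i => g (σ i)))
  have hJfg : J.FG := Submodule.fg_span (Set.finite_range _)
  have hJne : J ≠ ⊥ := by
    intro h
    have h0 : ∀ σ : Fin (Module.finrank S V) → Fin k, D (fun i => g (σ i)) = 0 := fun σ => by
      have h1 : D (fun i => g (σ i)) ∈ J := Submodule.subset_span ⟨σ, rfl⟩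
      rw [h] at h1
      exact (Submodule.mem_bot R).1 h1
    have hb : ∀ i, ∃ c : Fin k → S, ∑ j, c j • g j = b i := fun i => by
      have h1 : b i ∈ Submodule.span S (Set.range g) := by rw [hg]; trivial
      exact (Submodule.mem_span_range_iff_exists_fun S).1 h1
    choose c hc using hb
    have h2 : D b = 0 := by
      have h3 : (b : Fin _ → V) = fun i => ∑ j, c i j • g j := funext (fun i => (hc i).symm)
      rw [h3, expand]
      exact Finset.sum_eq_zero (fun σ _ => by rw [h0, mul_zero])
    rw [hD, b.det_self] at h2
    exact one_ne_zero h2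
  have hstab : ∀ n ∈ J, LinearMap.det f • n ∈ J := by
    intro n hn
    induction hn using Submodule.span_induction with
    | mem n hn =>
      obtain ⟨σ, rfl⟩ := hn
      have h1 : LinearMap.det f • D (fun i => g (σ i)) =
          D (fun i => ∑ l, algebraMap R S (p (σ i) l) • g l) := by
        rw [smul_eq_mul, hD, hD, ← b.det_comp]
        congr 1
        funext i
        exact hp (σ i)
      rw [h1, expand]
      refine J.sum_mem (fun τ _ => ?_)
      rw [← map_prod, ← Algebra.smul_def]
      exact J.smul_mem _ (Submodule.subset_span ⟨τ, rfl⟩)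
    | zero => rw [smul_zero]; exact J.zero_mem
    | add x y _ _ hx hy => rw [smul_add]; exact J.add_mem hx hy
    | smul a x _ hx => rw [smul_comm]; exact J.smul_mem a hx
  exact isIntegral_of_smul_mem_submodule J hJne hJfg _ hstab

end Integral

end Groth.Agent.Lib.Helper20.PLNorm
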