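import Mathlib
import Groth.Prelude.Def_PolLaw
import Groth.Prelude.Def_PolLaw2
import Groth.Agent.Lib.Helper20.PLNorm1
import Groth.Agent.Lib.Helper20.PLNorm2

/-!
# Integrality of the determinant of the action on a finite module
-/

namespace Groth.Agent.Lib.Helper20.PLNorm

open scoped TensorProduct

universe u

section Span

variable {A : Type u} [CommRing A] {M : Type u} [AddCommGroup M] [Module A M]
  (R : Type u) [CommRing R] [Algebra A R]

theorem span_one_tmul {k : ℕ} (m : Fin k → M) (hm : Submodule.span A (Set.range m) = ⊤) :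
    Submodule.span R (Set.range fun j => (1 : R) ⊗ₜ[A] m j) = ⊤ := by
  rw [eq_top_iff]
  rintro z -
  induction z using TensorProduct.induction_on with
  | zero => exact Submodule.zero_mem _
  | tmul r x =>
    have hx : x ∈ Submodule.span A (Set.range m) := by rw [hm]; trivial
    obtain ⟨c, rfl⟩ := (Submodule.mem_span_range_iff_exists_fun A).1 hx
    rw [TensorProduct.tmul_sum]
    refine Submodule.sum_mem _ (fun j _ => ?_)
    have h1 : r ⊗ₜ[A] (c j • m j) = (c j • r) • ((1 : R) ⊗ₜ[A] m j) := by
      rw [TensorProduct.tmul_smul, TensorProduct.smul_tmul', TensorProduct.smul_tmul', smul_eq_mul,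
        mul_one]
    rw [h1]
    exact Submodule.smul_mem _ _ (Submodule.subset_span ⟨j, rfl⟩)
  | add z z' hz hz' => exact Submodule.add_mem _ hz hz'

end Span

section Matrix

variable {A : Type u} [CommRing A] {B : Type u} [CommRing B] [Algebra A B]
  (M : Type u) [AddCommGroup M] [Module A M] [Module B M] [IsScalarTower A B M]

theorem exists_matrix {k : ℕ} (m : Fin k → M) (hm : Submodule.span A (Set.range m) = ⊤)
    {P R : Type u} [CommRing P] [Algebra A P] [CommRing R] [Algebra A R] [Algebra P R]
    [IsScalarTower A P R] (x : P ⊗[A] B) :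
    ∃ p : Fin k → Fin k → P, ∀ j,
      PolLaw.actEnd M R (Algebra.TensorProduct.map (IsScalarTower.toAlgHom A P R) (AlgHom.id A B) x)
        ((1 : R) ⊗ₜ[A] m j) = ∑ l, algebraMap P R (p j l) • ((1 : R) ⊗ₜ[A] m l) := by
  induction x using TensorProduct.induction_on with
  | zero =>
    exact ⟨fun _ _ => 0, fun j => by simp⟩
  | tmul s b =>
    have hb : ∀ j, ∃ c : Fin k → A, ∑ l, c l • m l = b • m j := fun j => by
      have h1 : b • m j ∈ Submodule.span A (Set.range m) := by rw [hm]; trivial
      exact (Submodule.mem_span_range_iff_exists_fun A).1 h1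
    choose c hc using hb
    refine ⟨fun j l => c j l • s, fun j => ?_⟩
    rw [Algebra.TensorProduct.map_tmul, PolLaw.actEnd_tmul_tmul, mul_one, AlgHom.id_apply, ← hc,
      TensorProduct.tmul_sum]
    refine Finset.sum_congr rfl (fun l _ => ?_)
    rw [TensorProduct.tmul_smul, TensorProduct.smul_tmul', TensorProduct.smul_tmul', smul_eq_mul,
      mul_one, IsScalarTower.coe_toAlgHom']
    congr 1
    exact (map_smul (IsScalarTower.toAlgHom A P R) (c j l) s).symm
  | add x y hx hy =>
    obtain ⟨p, hp⟩ := hx
    obtain ⟨q, hq⟩ := hy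
    refine ⟨fun j l => p j l + q j l, fun j => ?_⟩
    rw [map_add, map_add, LinearMap.add_apply, hp, hq, ← Finset.sum_add_distrib]
    refine Finset.sum_congr rfl (fun l _ => ?_)
    rw [map_add, add_smul]

variable [Module.Finite A M]

theorem isIntegral_detAct {P R : Type u} [CommRing P] [Algebra A P] [CommRing R] [IsDomain R]
    [Algebra A R] [Algebra P R] [IsScalarTower A P R] [Module.Free R (R ⊗[A] M)] (x : P ⊗[A] B) :
    IsIntegral P (PolLaw.detAct M R
      (Algebra.TensorProduct.map (IsScalarTower.toAlgHom A P R) (AlgHom.id A B) x)) := by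
  obtain ⟨k, m, hm⟩ := Module.Finite.exists_fin (R := A) (M := M)
  obtain ⟨p, hp⟩ := exists_matrix M m hm (P := P) (R := R) x
  exact isIntegral_det_of_matrix _ (fun j => (1 : R) ⊗ₜ[A] m j) (span_one_tmul R m hm) p hp

end Matrix

section Free

variable {A : Type u} [CommRing A] (M : Type u) [AddCommGroup M] [Module A M]
  (K : Type u) [Field K] [Algebra A K] (R : Type u) [CommRing R] [Algebra A R] [Algebra K R]
  [IsScalarTower A K R]

include K in
theorem free_of_field : Module.Free R (R ⊗[A] M) :=
  Module.Free.of_equiv (TensorProduct.AlgebraTensorModule.cancelBaseChange A K R R M)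

theorem finrank_of_field [Nontrivial R] :
    Module.finrank R (R ⊗[A] M) = Module.finrank K (K ⊗[A] M) := by
  rw [← (TensorProduct.AlgebraTensorModule.cancelBaseChange A K R R M).finrank_eq,
    Module.finrank_baseChange]

end Free

end Groth.Agent.Lib.Helper20.PLNorm
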