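import Mathlib
import Groth.Agent.Lib.Helper20.PLEt3
import Groth.Agent.Lib.Helper20.PLNorm3

/-!
# A finite free extension over which a finite algebra becomes a quotient of a split algebra
-/

namespace Groth.Agent.Lib.Helper20.PLEt

open Polynomial
open scoped TensorProduct

universe u

theorem main6886 (R S : Type u) [CommRing R] [CommRing S] [Algebra R S] [Module.Finite R S] :
    ∃ (R' : Type u) (_ : CommRing R') (_ : Algebra R R'), Module.Finite R R' ∧ Module.Free R R' ∧
      Function.Injective (algebraMap R R') ∧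
      ∃ (n : ℕ) (d : Fin n → ℕ) (α : (i : Fin n) → Fin (d i) → R')
        (φ : MvPolynomial (Fin n) R' →ₐ[R'] R' ⊗[R] S), Function.Surjective φ ∧
          ∀ i, φ (∏ j, (MvPolynomial.X i - MvPolynomial.C (α i j))) = 0 := by
  classical
  obtain ⟨n, s, hs⟩ := Module.Finite.exists_fin (R := R) (M := S)
  have hint : ∀ i, ∃ q : R[X], q.Monic ∧ Polynomial.aeval (s i) q = 0 := fun i => by
    obtain ⟨q, hq, hq0⟩ := Algebra.IsIntegral.isIntegral (R := R) (s i)
    exact ⟨q, hq, by rw [Polynomial.aeval_def]; exact hq0⟩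
  choose q hq hq0 using hint
  let P : R[X] := ∏ i, q i
  have hP : P.Monic := monic_prod_of_monic _ _ (fun i _ => hq i)
  have hP0 : ∀ i, Polynomial.aeval (s i) P = 0 := by
    intro i
    rw [map_prod]
    exact Finset.prod_eq_zero (Finset.mem_univ i) (hq0 i)
  obtain ⟨R', _, _, ret, r, hret, hprod, hfin, hfree⟩ := exists_split_gen P.natDegree R P hP rfl
  refine ⟨R', inferInstance, inferInstance, hfin, hfree, ?_, n, fun _ => P.natDegree, fun _ => r,
    MvPolynomial.aeval (fun i => (1 : R') ⊗ₜ[R] s i), ?_, ?_⟩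
  · intro a b hab
    have h1 := congrArg ret hab
    rwa [Algebra.algebraMap_eq_smul_one, Algebra.algebraMap_eq_smul_one, map_smul, map_smul, hret,
      smul_eq_mul, smul_eq_mul, mul_one, mul_one] at h1
  · rw [← AlgHom.range_eq_top, ← Algebra.toSubmodule_eq_top, eq_top_iff,
      ← Groth.Agent.Lib.Helper20.PLNorm.span_one_tmul R' s hs, Submodule.span_le]
    rintro _ ⟨i, rfl⟩
    exact ⟨MvPolynomial.X i, by simp⟩
  · intro i
    rw [map_prod]
    have h1 : ∀ j, (MvPolynomial.aeval (fun i => (1 : R') ⊗ₜ[R] s i))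
        (MvPolynomial.X i - MvPolynomial.C (r j)) =
        Polynomial.aeval ((1 : R') ⊗ₜ[R] s i) (X - C (r j)) := by
      intro j
      simp
    rw [Finset.prod_congr rfl (fun j _ => h1 j), ← map_prod, ← hprod,
      Polynomial.aeval_map_algebraMap]
    have h2 : (1 : R') ⊗ₜ[R] s i =
        (Algebra.TensorProduct.includeRight : S →ₐ[R] R' ⊗[R] S) (s i) := rfl
    rw [h2, Polynomial.aeval_algHom_apply, hP0, map_zero]

end Groth.Agent.Lib.Helper20.PLEt
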