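import Mathlib
import Groth.Prelude.Def_PolLaw
import Groth.Prelude.Def_SymTen
import Groth.Agent.Lib.Helper20.PLDescend

/-!
# `Γ^d(B)` versus `TS^d(B)`: the norm law and its consequences
-/

namespace Groth.Agent.Lib.Helper20.PLMain

open scoped TensorProduct
open MvPolynomial Groth.Agent.Lib.Helper20.PLCoeff Groth.Agent.Lib.Helper20.PLCorestrict
  Groth.Agent.Lib.Helper20.PLTS Groth.Agent.Lib.Helper20.PLNat Groth.Agent.Lib.Helper20.PLNorm
  Groth.Agent.Lib.Helper20.PLFree Groth.Agent.Lib.Helper20.PLKer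
  Groth.Agent.Lib.Helper20.PLDescend

universe u

theorem ground_powLaw {A : Type u} [CommRing A] {B : Type u} [CommRing B] [Algebra A B] (n : ℕ)
    (b : B) : (PolLaw.powLaw (A := A) (B := B) n).ground b = b ^ n := by
  rw [PolynomialLaw.ground_apply]
  change TensorProduct.lid A B (((1 : A) ⊗ₜ[A] b) ^ n) = b ^ n
  rw [Algebra.TensorProduct.tmul_pow, one_pow, TensorProduct.lid_tmul, one_smul]

theorem ground_zero_of_homog {A : Type u} [CommRing A] {M N : Type u} [AddCommGroup M]
    [Module A M] [AddCommGroup N] [Module A N] (F : M →ₚₗ[A] N) (n : ℕ) (hn : n ≠ 0)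
    (hF : PolLaw.IsHomog F n) : F.ground 0 = 0 := by
  rw [PolynomialLaw.ground_apply, TensorProduct.tmul_zero]
  have := hF A (0 : A) 0
  rw [smul_zero, zero_pow hn, zero_smul] at this
  rw [this, map_zero]

variable {A B C : Type u} [CommRing A] [CommRing B] [Algebra A B] [CommRing C] [Algebra A C]
  (d : ℕ) (γ : PolLaw.MulLaw A B C d) (hγ : PolLaw.IsGammaD γ) (φ : C →ₐ[A] SymTen.TS A B d)
  (hφ : ∀ (S : Type u) [CommSemiring S] [Algebra A S] (n : ℕ) (s : Fin n → S) (b : Fin n → B),
      ((SymTen.TS A B d).val.comp φ).toLinearMap.lTensor S (γ.law.toFun' S (∑ j, s j ⊗ₜ[A] b j)) =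
        ∑ c : Fin d → Fin n, (∏ i, s (c i)) ⊗ₜ[A] PiTensorProduct.tprod A (fun i => b (c i)))

include hφ in
theorem main13396 :
    ∃ F : PolLaw.MulLaw A (⨂[A] _ : Fin d, B) C d.factorial,
      ∀ z : ⨂[A] _ : Fin d, B, ((SymTen.TS A B d).val (φ (F.law.ground z)) : ⨂[A] _ : Fin d, B) =
        ∏ σ : Equiv.Perm (Fin d), SymTen.perm A B d σ z := by
  refine ⟨normLaw d γ, fun z => ?_⟩
  have h := postcomp_normLaw d γ φ (postcomp_phi d γ φ hφ)
  have h2 := congrArg (fun L : (⨂[A] _ : Fin d, B) →ₚₗ[A] (⨂[A] _ : Fin d, B) => L.ground z) h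
  rw [ground_postcomp, ground_Nlaw] at h2
  exact h2

include hγ hφ in
theorem main13397 :
    ∃ F : PolLaw.MulLaw A (SymTen.TS A B d) C d.factorial,
      PolLaw.MulLaw.postcomp φ F = PolLaw.MulLaw.pow A (SymTen.TS A B d) d.factorial ∧
      PolLaw.MulLaw.precomp F φ = PolLaw.MulLaw.pow A C d.factorial := by
  have hφ' := postcomp_phi d γ φ hφ
  refine ⟨(normLaw d γ).precomp (SymTen.TS A B d).val, ?_, ?_⟩
  · apply PolLaw.MulLaw.ext
    show PolLaw.postcomp φ.toLinearMap
      (PolLaw.precomp (normLaw d γ).law (SymTen.TS A B d).val.toLinearMap) =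
      PolLaw.powLaw d.factorial
    apply postcomp_injective (SymTen.TS A B d).val.toLinearMap Subtype.val_injective
    rw [← postcomp_comp, ← AlgHom.comp_toLinearMap, postcomp_precomp,
      postcomp_normLaw d γ φ hφ', ← precomp_NTSlaw_val, postcomp_precomp, postcomp_NTSlaw]
  · apply PolLaw.MulLaw.ext
    show PolLaw.precomp (PolLaw.precomp (normLaw d γ).law (SymTen.TS A B d).val.toLinearMap)
      φ.toLinearMap = PolLaw.powLaw d.factorial
    apply precomp_surjective_cancel (gP d γ).toLinearMap (gP_surjective d γ hγ)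
    rw [precomp_comp, precomp_comp, ← AlgHom.comp_toLinearMap, ← AlgHom.comp_toLinearMap,
      phi_comp_gP d γ φ hφ', val_comp_TSmap, AlgHom.comp_toLinearMap, ← precomp_comp,
      precomp_normLaw, G0_law, ← postcomp_precomp, precomp_NTSlaw_val]
    apply PolynomialLaw.ext
    funext S _ _ x
    show (gP d γ).toLinearMap.lTensor S (x ^ d.factorial) =
      ((gP d γ).toLinearMap.lTensor S x) ^ d.factorial
    rw [PolLaw.lTensor_algHom_apply, PolLaw.lTensor_algHom_apply, map_pow]

include hγ hφ in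
theorem main13398 :
    (∀ x : C, φ x = 0 → x ^ d.factorial = 0) ∧
      (∀ y : SymTen.TS A B d, y ^ d.factorial ∈ φ.range) := by
  obtain ⟨F, h1, h2⟩ := main13397 d γ hγ φ hφ
  have g1 : ∀ y : SymTen.TS A B d, φ (F.law.ground y) = y ^ d.factorial := by
    intro y
    have := congrArg (fun G : PolLaw.MulLaw A (SymTen.TS A B d) (SymTen.TS A B d) d.factorial =>
      G.law.ground y) h1
    change (PolLaw.postcomp φ.toLinearMap F.law).ground y = (PolLaw.powLaw d.factorial).ground y
      at this
    rw [ground_postcomp, ground_powLaw] at this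
    exact this
  have g2 : ∀ x : C, F.law.ground (φ x) = x ^ d.factorial := by
    intro x
    have := congrArg (fun G : PolLaw.MulLaw A C C d.factorial => G.law.ground x) h2
    change (PolLaw.precomp F.law φ.toLinearMap).ground x = (PolLaw.powLaw d.factorial).ground x
      at this
    rw [ground_precomp, ground_powLaw] at this
    exact this
  constructor
  · intro x hx
    rw [← g2 x, hx]
    exact ground_zero_of_homog F.law d.factorial (Nat.factorial_ne_zero d) F.homog
  · intro y
    exact ⟨F.law.ground y, g1 y⟩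

end Groth.Agent.Lib.Helper20.PLMain
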