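import Mathlib
import Groth.Prelude.Def_PolLaw
import Groth.Prelude.Def_SymTen
import Groth.Agent.Lib.Helper20.PLMain
import Groth.Agent.Lib.Helper9.UnivHomeoRing4

/-!
# `Spec TS^d(B) → Spec Γ^d(B)`: integrality, surjectivity, radiciality
-/

namespace Groth.Agent.Lib.Helper20.PLUH

open scoped TensorProduct
open Polynomial Groth.Agent.Lib.Helper9

universe u
set_option linter.style.haveILetI false

section General

variable {A : Type u} [CommRing A] {R C : Type u} [CommRing R] [Algebra A R] [CommRing C]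
  [Algebra A C] (φ : C →ₐ[A] R) (n : ℕ)

theorem isIntegral_of_pow_mem (hn : n ≠ 0) (h : ∀ y : R, y ^ n ∈ φ.range) :
    φ.toRingHom.IsIntegral := by
  intro y
  obtain ⟨c, hc⟩ := h y
  refine ⟨X ^ n - Polynomial.C c, monic_X_pow_sub_C c hn, ?_⟩
  have hc' : φ.toRingHom c = y ^ n := hc
  rw [eval₂_sub, eval₂_pow, eval₂_X, eval₂_C, hc', sub_self]

theorem comap_surjective_of_nil (hint : φ.toRingHom.IsIntegral)
    (hker : ∀ x : C, φ x = 0 → x ^ n = 0) :
    Function.Surjective (PrimeSpectrum.comap φ.toRingHom) := by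
  intro P
  letI := φ.toRingHom.toAlgebra
  haveI : Algebra.IsIntegral C R := ⟨hint⟩
  have hle : (⊥ : Ideal R).comap (algebraMap C R) ≤ P.asIdeal := by
    intro x hx
    have h0 : φ x = 0 := hx
    have h1 := hker x h0
    apply P.isPrime.mem_of_pow_mem n
    rw [h1]
    exact P.asIdeal.zero_mem
  obtain ⟨Q, -, hQ, hQP⟩ := Ideal.exists_ideal_over_prime_of_isIntegral P.asIdeal ⊥ hle
  exact ⟨⟨Q, hQ⟩, PrimeSpectrum.ext hQP⟩

theorem isRadicial_of_law (hn : n ≠ 0) (F : R →ₚₗ[A] C)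
    (hF : ∀ z : A[X] ⊗[A] R, φ.toLinearMap.lTensor A[X] (F.toFun' A[X] z) = z ^ n) :
    UnivHomeoRing.IsRadicial φ.toRingHom := by
  intro K _ g₁ g₂ hg
  letI : Algebra A K := (g₁.comp (algebraMap A R)).toAlgebra
  let G₁ : R →ₐ[A] K := { g₁ with commutes' := fun a => rfl }
  have hgφ : ∀ c : C, g₁ (φ c) = g₂ (φ c) := fun c =>
    congrArg (fun ψ : C →+* K => ψ c) hg
  have hcomm : ∀ a, g₂ (algebraMap A R a) = algebraMap A K a := by
    intro a
    have h1 := hgφ (algebraMap A C a)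
    rw [φ.commutes] at h1
    exact h1.symm
  let G₂ : R →ₐ[A] K := { g₂ with commutes' := hcomm }
  refine RingHom.ext fun y => ?_
  let t₀ : K := - g₁ y
  let H : (R →ₐ[A] K) → (A[X] ⊗[A] R →ₐ[A] K) := fun G =>
    Algebra.TensorProduct.lift (aeval t₀) G (fun _ _ => Commute.all _ _)
  have hH : ∀ w : A[X] ⊗[A] C,
      H G₁ (φ.toLinearMap.lTensor A[X] w) = H G₂ (φ.toLinearMap.lTensor A[X] w) := by
    intro w
    induction w using TensorProduct.induction_on with
    | zero => simp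
    | tmul p c =>
      simp only [LinearMap.lTensor_tmul, AlgHom.toLinearMap_apply, H,
        Algebra.TensorProduct.lift_tmul]
      congr 1
      exact hgφ c
    | add a b ha hb => rw [map_add, map_add, map_add, ha, hb]
  let z : A[X] ⊗[A] R := X ⊗ₜ[A] 1 + 1 ⊗ₜ[A] y
  have h1 := hH (F.toFun' A[X] z)
  rw [hF z, map_pow, map_pow] at h1
  have hz : ∀ G : R →ₐ[A] K, H G z = t₀ + G y := by
    intro G
    simp only [z, H, map_add, Algebra.TensorProduct.lift_tmul, aeval_X, map_one, mul_one, one_mul]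
  rw [hz, hz] at h1
  have e1 : t₀ + G₁ y = 0 := neg_add_cancel (g₁ y)
  rw [e1, zero_pow hn] at h1
  have h2 : t₀ + G₂ y = 0 := pow_eq_zero_iff hn |>.mp h1.symm
  have h3 : G₂ y = g₂ y := rfl
  rw [h3] at h2
  have : g₂ y = g₁ y := by
    have := eq_neg_of_add_eq_zero_right h2
    rw [this]
    simp [t₀]
  exact this.symm

end General

end Groth.Agent.Lib.Helper20.PLUH
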