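import Mathlib
import Groth.Prelude.Def_PolLaw
import Groth.Prelude.Def_SymTen
import Groth.Agent.Lib.Helper20.PLMain

/-!
# Symmetric tensors after base change to a field
-/

namespace Groth.Agent.Lib.Helper20.PLUH

open scoped TensorProduct
open Groth.Agent.Lib.Helper20.PLCoeff Groth.Agent.Lib.Helper20.PLTS
  Groth.Agent.Lib.Helper20.PLFree Groth.Agent.Lib.Helper20.PLDescend

universe u
set_option linter.style.haveILetI false

section BaseChange

variable {A : Type u} [CommRing A] {B : Type u} [CommRing B] [Algebra A B]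
  (k : Type u) [CommRing k] [Algebra A k] (d : ℕ)

/-- the comparison map `T^d_A(B) → T^d_k(k ⊗ B)` -/
noncomputable def mT : (⨂[A] _ : Fin d, B) →ₗ[A] (⨂[k] _ : Fin d, k ⊗[A] B) :=
  PiTensorProduct.lift (((PiTensorProduct.tprod k).restrictScalars A).compLinearMap
    (fun _ => TensorProduct.mk A k B 1))

theorem mT_tprod (b : Fin d → B) :
    mT k d (PiTensorProduct.tprod A b) =
      PiTensorProduct.tprod k (fun i => (1 : k) ⊗ₜ[A] b i) := by
  unfold mT
  rw [PiTensorProduct.lift.tprod]
  rfl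

theorem mT_reindex (σ : Equiv.Perm (Fin d)) (y : ⨂[A] _ : Fin d, B) :
    mT k d (PiTensorProduct.reindex A (fun _ : Fin d => B) σ y) =
      PiTensorProduct.reindex k (fun _ : Fin d => k ⊗[A] B) σ (mT k d y) := by
  have h : (mT k d) ∘ₗ (PiTensorProduct.reindex A (fun _ : Fin d => B) σ).toLinearMap =
      ((PiTensorProduct.reindex k (fun _ : Fin d => k ⊗[A] B) σ).toLinearMap.restrictScalars A) ∘ₗ
        (mT k d) := by
    apply PiTensorProduct.ext
    ext b
    simp only [LinearMap.compMultilinearMap_apply, LinearMap.comp_apply, LinearEquiv.coe_coe,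
      LinearMap.restrictScalars_apply]
    rw [PiTensorProduct.reindex_tprod, mT_tprod, mT_tprod, PiTensorProduct.reindex_tprod]
  exact DFunLike.congr_fun h y

theorem mT_mem_TS {y : ⨂[A] _ : Fin d, B} (hy : y ∈ SymTen.TS A B d) :
    mT k d y ∈ SymTen.TS k (k ⊗[A] B) d := by
  intro σ
  rw [← mT_reindex, hy σ]

theorem mT_val_coeff_TSlaw {ι : Type} [Fintype ι] (m : ι → B) (β : ι →₀ ℕ) :
    mT k d ((PLCoeff.coeff (TSlaw A B d).law m β : SymTen.TS A B d) : ⨂[A] _ : Fin d, B) =
      ((PLCoeff.coeff (TSlaw k (k ⊗[A] B) d).law (fun j => (1 : k) ⊗ₜ[A] m j) β :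
        SymTen.TS k (k ⊗[A] B) d) : ⨂[k] _ : Fin d, k ⊗[A] B) := by
  classical
  rw [val_coeff_TSlaw, coeff_Tlaw, val_coeff_TSlaw, coeff_Tlaw, map_sum]
  refine Finset.sum_congr rfl (fun c _ => ?_)
  split_ifs
  · rw [mT_tprod]
  · rw [map_zero]

end BaseChange

section Key

variable {A : Type u} [CommRing A] {B : Type u} [CommRing B] [Algebra A B]
  (k : Type u) [Field k] [Algebra A k] (d : ℕ)

theorem span_one_tmul : ⊤ ≤ Submodule.span k (Set.range (fun b : B => (1 : k) ⊗ₜ[A] b)) := by
  intro x _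
  clear * - x
  induction x using TensorProduct.induction_on with
  | zero => exact Submodule.zero_mem _
  | tmul a b =>
    have : a ⊗ₜ[A] b = a • ((1 : k) ⊗ₜ[A] b) := by
      rw [TensorProduct.smul_tmul', smul_eq_mul, mul_one]
    rw [this]
    exact Submodule.smul_mem _ _ (Submodule.subset_span ⟨b, rfl⟩)
  | add x y hx hy => exact Submodule.add_mem _ hx hy

/-- Key lemma: over a field, the image of a symmetric tensor is a combination of images of
orbit sums. -/
theorem mT_mem_span (y : SymTen.TS A B d) :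
    mT k d (y : ⨂[A] _ : Fin d, B) ∈ Submodule.span k
      {w | ∃ (n : ℕ) (b : Fin n → B) (β : Fin n →₀ ℕ),
         w = mT k d ((PLCoeff.coeff (TSlaw A B d).law b β : SymTen.TS A B d) :
          ⨂[A] _ : Fin d, B)} := by
  classical
  have hs := span_one_tmul (A := A) (B := B) k
  let e := Module.Basis.ofSpan hs
  have he : ∀ j, ∃ b : B, (1 : k) ⊗ₜ[A] b = e j := fun j =>
    Module.Basis.ofSpan_subset hs ⟨j, rfl⟩
  choose b' hb' using he
  have hy' : mT k d (y : ⨂[A] _ : Fin d, B) ∈ SymTen.TS k (k ⊗[A] B) d := mT_mem_TS k d y.2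
  have h1 : (⟨mT k d (y : ⨂[A] _ : Fin d, B), hy'⟩ : SymTen.TS k (k ⊗[A] B) d) ∈
      Submodule.span k (orbitSums e d) := by
    rw [span_orbitSums]
    trivial
  have h2 := Submodule.apply_mem_span_image_of_mem_span
    (SymTen.TS k (k ⊗[A] B) d).val.toLinearMap h1
  refine Submodule.span_mono ?_ h2
  rintro _ ⟨o, ⟨n, kk, hk, β, rfl⟩, rfl⟩
  refine ⟨n, fun j => b' (kk j), β, ?_⟩
  rw [mT_val_coeff_TSlaw]
  simp_rw [hb']
  rfl

end Key

section Eval

variable {A : Type u} [CommRing A] {B : Type u} [CommRing B] [Algebra A B]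
  (k : Type u) [CommRing k] [Algebra A k] (d : ℕ)
  {L : Type u} [CommRing L] [Algebra A L] [Algebra k L] [IsScalarTower A k L]
  (h' : (⨂[A] _ : Fin d, B) →ₐ[A] L)

/-- the `k`-linear extension of an `A`-algebra map on the tensor power -/
noncomputable def hk : (⨂[k] _ : Fin d, k ⊗[A] B) →ₗ[k] L :=
  PiTensorProduct.lift ((MultilinearMap.mkPiAlgebra k (Fin d) L).compLinearMap
    (fun i => LinearMap.liftBaseChange k ((h'.comp (incl A B d i)).toLinearMap)))

theorem hk_mT (y : ⨂[A] _ : Fin d, B) : hk k d h' (mT k d y) = h' y := by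
  have h : ((hk k d h').restrictScalars A) ∘ₗ (mT k d) = h'.toLinearMap := by
    apply PiTensorProduct.ext
    ext b
    simp only [LinearMap.compMultilinearMap_apply, LinearMap.comp_apply,
      LinearMap.restrictScalars_apply, AlgHom.toLinearMap_apply]
    rw [mT_tprod]
    unfold hk
    rw [PiTensorProduct.lift.tprod]
    simp only [MultilinearMap.compLinearMap_apply, MultilinearMap.mkPiAlgebra_apply,
      LinearMap.liftBaseChange_tmul, one_smul, AlgHom.toLinearMap_apply, AlgHom.comp_apply]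
    rw [← map_prod, prod_incl]
  exact DFunLike.congr_fun h y

end Eval

end Groth.Agent.Lib.Helper20.PLUH
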