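import Mathlib
import Groth.Prelude.Def_PolLaw
import Groth.Prelude.Def_SymTen
import Groth.Agent.Lib.Helper20.PLUH1
import Groth.Agent.Lib.Helper20.PLUH2

/-!
# `Spec TS^d(B) → Spec Γ^d(B)` is a universal homeomorphism with trivial residue field extensions
-/

namespace Groth.Agent.Lib.Helper20.PLUH

open scoped TensorProduct
open Groth.Agent.Lib.Helper20.PLCoeff Groth.Agent.Lib.Helper20.PLTS
  Groth.Agent.Lib.Helper20.PLFree Groth.Agent.Lib.Helper20.PLDescend
  Groth.Agent.Lib.Helper20.PLNorm Groth.Agent.Lib.Helper20.PLMain Groth.Agent.Lib.Helper9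

universe u
set_option linter.style.haveILetI false

section Abstract

variable {A B C : Type u} [CommRing A] [CommRing B] [Algebra A B] [CommRing C] [Algebra A C]
  (d : ℕ) (γ : PolLaw.MulLaw A B C d) (φ : C →ₐ[A] SymTen.TS A B d)
  (hφ : ∀ (S : Type u) [CommSemiring S] [Algebra A S] (n : ℕ) (s : Fin n → S) (b : Fin n → B),
      ((SymTen.TS A B d).val.comp φ).toLinearMap.lTensor S (γ.law.toFun' S (∑ j, s j ⊗ₜ[A] b j)) =
        ∑ c : Fin d → Fin n, (∏ i, s (c i)) ⊗ₜ[A] PiTensorProduct.tprod A (fun i => b (c i)))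

include hφ in
theorem coeff_TSlaw_mem_range {ι : Type} [Fintype ι] (b : ι → B) (β : ι →₀ ℕ) :
    PLCoeff.coeff (TSlaw A B d).law b β = φ (PLCoeff.coeff γ.law b β) := by
  rw [← postcomp_phi d γ φ hφ, coeff_postcomp]
  rfl

include hφ in
theorem exists_eq_of_compat {k L : Type u} [Field k] [Field L] (a : A →+* k) (j : k →+* L)
    (pbar : C →+* k)
    (h' : (⨂[A] _ : Fin d, B) →+* L)
    (hh'a : ∀ x, h' (algebraMap A (⨂[A] _ : Fin d, B) x) = j (a x))
    (hcompat : ∀ c : C, h' ((φ c : SymTen.TS A B d) : ⨂[A] _ : Fin d, B) = j (pbar c))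
    (y : SymTen.TS A B d) : ∃ l : k, h' (y : ⨂[A] _ : Fin d, B) = j l := by
  letI : Algebra A k := a.toAlgebra
  letI : Algebra k L := j.toAlgebra
  letI : Algebra A L := (j.comp a).toAlgebra
  haveI : IsScalarTower A k L := IsScalarTower.of_algebraMap_eq (fun _ => rfl)
  let H : (⨂[A] _ : Fin d, B) →ₐ[A] L := { h' with commutes' := hh'a }
  have hH : ∀ z, H z = h' z := fun _ => rfl
  have h1 := mT_mem_span (A := A) (B := B) k d y
  have h2 := Submodule.apply_mem_span_image_of_mem_span (hk k d H) h1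
  rw [hk_mT] at h2
  have h3 : Submodule.span k ((hk k d H) '' {w | ∃ (n : ℕ) (b : Fin n → B) (β : Fin n →₀ ℕ),
         w = mT k d ((PLCoeff.coeff (TSlaw A B d).law b β : SymTen.TS A B d) :
          ⨂[A] _ : Fin d, B)}) ≤ LinearMap.range (Algebra.linearMap k L) := by
    rw [Submodule.span_le]
    rintro _ ⟨w, ⟨n, b, β, rfl⟩, rfl⟩
    rw [hk_mT, coeff_TSlaw_mem_range d γ φ hφ, hH, hcompat]
    exact ⟨pbar (PLCoeff.coeff γ.law b β), rfl⟩
  obtain ⟨l, hl⟩ := h3 h2
  exact ⟨l, hl.symm⟩

end Abstract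

section Invariant

variable (A : Type u) [CommRing A] (B : Type u) [CommRing B] [Algebra A B] (d : ℕ)

theorem perm_one : SymTen.perm A B d 1 = AlgHom.id A _ := by
  apply AlgHom.toLinearMap_injective
  apply PiTensorProduct.ext
  ext f
  simp only [LinearMap.compMultilinearMap_apply, AlgHom.toLinearMap_apply, SymTen.perm_tprod]
  rfl

/-- the tensor power is integral over the symmetric tensors -/
theorem isIntegral_val : (SymTen.TS A B d).val.toRingHom.IsIntegral := by
  letI : MulSemiringAction (Equiv.Perm (Fin d)) (⨂[A] _ : Fin d, B) :=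
    { smul := fun σ z => SymTen.perm A B d σ z
      one_smul := fun z => by
        change SymTen.perm A B d 1 z = z
        rw [perm_one]; rfl
      mul_smul := fun σ τ z => by
        change SymTen.perm A B d (σ * τ) z = SymTen.perm A B d σ (SymTen.perm A B d τ z)
        rw [perm_mul]; rfl
      smul_zero := fun σ => map_zero (SymTen.perm A B d σ)
      smul_add := fun σ x y => map_add (SymTen.perm A B d σ) x y
      smul_one := fun σ => map_one (SymTen.perm A B d σ)
      smul_mul := fun σ x y => map_mul (SymTen.perm A B d σ) x y }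
  haveI : Algebra.IsInvariant (SymTen.TS A B d) (⨂[A] _ : Fin d, B) (Equiv.Perm (Fin d)) := by
    refine ⟨fun z hz => ⟨⟨z, fun σ => ?_⟩, rfl⟩⟩
    rw [← SymTen.perm_apply]
    exact hz σ
  have := Algebra.IsInvariant.isIntegral (SymTen.TS A B d) (⨂[A] _ : Fin d, B)
    (Equiv.Perm (Fin d))
  exact this.isIntegral

end Invariant

section Main

variable {A B C : Type u} [CommRing A] [CommRing B] [Algebra A B] [CommRing C] [Algebra A C]
  (d : ℕ) (γ : PolLaw.MulLaw A B C d) (hγ : PolLaw.IsGammaD γ) (φ : C →ₐ[A] SymTen.TS A B d)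
  (hφ : ∀ (S : Type u) [CommSemiring S] [Algebra A S] (n : ℕ) (s : Fin n → S) (b : Fin n → B),
      ((SymTen.TS A B d).val.comp φ).toLinearMap.lTensor S (γ.law.toFun' S (∑ j, s j ⊗ₜ[A] b j)) =
        ∑ c : Fin d → Fin n, (∏ i, s (c i)) ⊗ₜ[A] PiTensorProduct.tprod A (fun i => b (c i)))

include hφ in
theorem resSurj_phi : UnivHomeoRing.ResSurj φ.toRingHom := by
  intro q _ p _ hp
  let k := p.ResidueField
  let K := q.ResidueField
  let L := AlgebraicClosure K
  let ι : k →+* K := Ideal.ResidueField.map p q φ.toRingHom hp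
  let h : SymTen.TS A B d →+* K := algebraMap _ K
  obtain ⟨h', hh'⟩ := UnivHomeoRing.exists_ringHom_extension' (SymTen.TS A B d).val.toRingHom
    (isIntegral_val A B d) Subtype.val_injective ((algebraMap K L).comp h)
  have hh'v : ∀ y : SymTen.TS A B d, h' (y : ⨂[A] _ : Fin d, B) = algebraMap K L (h y) :=
    fun y => congrArg (fun ψ : SymTen.TS A B d →+* L => ψ y) hh'
  have hιφ : ∀ c : C, h (φ c) = ι (algebraMap C k c) := fun c =>
    (Ideal.ResidueField.map_algebraMap p q φ.toRingHom hp c).symm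
  have key : ∀ y : SymTen.TS A B d, ∃ l : k, h y = ι l := by
    intro y
    obtain ⟨l, hl⟩ := exists_eq_of_compat d γ φ hφ ((algebraMap C k).comp (algebraMap A C))
      ((algebraMap K L).comp ι) (algebraMap C k) h'
      (fun x => by
        have e1 : algebraMap A (⨂[A] _ : Fin d, B) x =
            ((φ (algebraMap A C x) : SymTen.TS A B d) : ⨂[A] _ : Fin d, B) := by
          rw [φ.commutes]; rfl
        rw [e1, hh'v, hιφ]; rfl)
      (fun c => by rw [hh'v, hιφ]; rfl) y
    refine ⟨l, (algebraMap K L).injective ?_⟩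
    rw [← hh'v, hl]; rfl
  intro x
  obtain ⟨a, b, hb, rfl⟩ := IsFractionRing.div_surjective (A := SymTen.TS A B d ⧸ q) x
  obtain ⟨a', rfl⟩ := Ideal.Quotient.mk_surjective a
  obtain ⟨b', rfl⟩ := Ideal.Quotient.mk_surjective b
  rw [Ideal.algebraMap_quotient_residueField_mk, Ideal.algebraMap_quotient_residueField_mk]
  obtain ⟨la, hla⟩ := key a'
  obtain ⟨lb, hlb⟩ := key b'
  refine ⟨la / lb, ?_⟩
  rw [map_div₀]
  change ι la / ι lb = h a' / h b'
  rw [hla, hlb]

include hγ hφ in
theorem main13874 :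
    FlatMor.IsUnivHomeo (AlgebraicGeometry.Spec.map (CommRingCat.ofHom φ.toRingHom)) ∧
      ∀ x : ↥(AlgebraicGeometry.Spec (CommRingCat.of (SymTen.TS A B d))),
        Function.Surjective ((AlgebraicGeometry.Spec.map
          (CommRingCat.ofHom φ.toRingHom)).residueFieldMap x).hom := by
  obtain ⟨hker, hpow⟩ := main13398 d γ hγ φ hφ
  obtain ⟨F, hF1, -⟩ := main13397 d γ hγ φ hφ
  have hn : d.factorial ≠ 0 := Nat.factorial_ne_zero d
  have hint := isIntegral_of_pow_mem φ d.factorial hn hpow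
  refine ⟨(UnivHomeoRing.isUnivHomeo_SpecMap_iff' φ.toRingHom).mpr
    ⟨hint, comap_surjective_of_nil φ d.factorial hint hker, ?_⟩, ?_⟩
  · apply isRadicial_of_law φ d.factorial hn F.law
    intro z
    have := congrArg (fun G : PolLaw.MulLaw A (SymTen.TS A B d) (SymTen.TS A B d) d.factorial =>
      G.law.toFun' (Polynomial A) z) hF1
    exact this
  · exact (UnivHomeoRing.resSurj_iff_SpecMap φ.toRingHom).mp (resSurj_phi d γ φ hφ)

end Main

end Groth.Agent.Lib.Helper20.PLUH
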