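import Mathlib
import Groth.Prelude.Def_PolLaw
import Groth.Prelude.Def_SymTen
import Groth.Agent.Lib.Helper20.PLUH3

/-!
# Finite generation of symmetric tensors
-/

namespace Groth.Agent.Lib.Helper20.PLFT

open scoped TensorProduct
open Groth.Agent.Lib.Helper20.PLCoeff Groth.Agent.Lib.Helper20.PLTS
  Groth.Agent.Lib.Helper20.PLFree Groth.Agent.Lib.Helper20.PLDescend
  Groth.Agent.Lib.Helper20.PLUH

universe u
set_option linter.style.haveILetI false

section Mul

variable {A : Type u} [CommRing A] {B : Type u} [CommRing B] [Algebra A B]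
  (k : Type u) [CommRing k] [Algebra A k] (d : ℕ)

/-- the comparison map `T^d_A(B) → T^d_k(k ⊗ B)` as an algebra map -/
noncomputable def mTalg : (⨂[A] _ : Fin d, B) →ₐ[A] (⨂[k] _ : Fin d, k ⊗[A] B) :=
  PiTensorProduct.liftAlgHom (((PiTensorProduct.tprod k).restrictScalars A).compLinearMap
    (fun _ => TensorProduct.mk A k B 1))
    (by
      simp only [MultilinearMap.compLinearMap_apply, Pi.one_apply, TensorProduct.mk_apply]
      change PiTensorProduct.tprod k (fun _ : Fin d => (1 : k) ⊗ₜ[A] (1 : B)) = 1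
      rw [PiTensorProduct.one_def]
      rfl)
    (by
      intro x y
      simp only [MultilinearMap.compLinearMap_apply, Pi.mul_apply, TensorProduct.mk_apply]
      change PiTensorProduct.tprod k (fun i : Fin d => (1 : k) ⊗ₜ[A] (x i * y i)) =
        PiTensorProduct.tprod k (fun i : Fin d => (1 : k) ⊗ₜ[A] x i) *
          PiTensorProduct.tprod k (fun i : Fin d => (1 : k) ⊗ₜ[A] y i)
      rw [PiTensorProduct.tprod_mul_tprod]
      congr 1
      funext i
      simp only [Pi.mul_apply, Algebra.TensorProduct.tmul_mul_tmul, mul_one])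

theorem mTalg_apply (x : ⨂[A] _ : Fin d, B) : mTalg k d x = mT k d x := rfl

/-- the comparison map on symmetric tensors -/
noncomputable def mTS : SymTen.TS A B d →ₐ[A] (SymTen.TS k (k ⊗[A] B) d).restrictScalars A :=
  ((mTalg k d).comp (SymTen.TS A B d).val).codRestrict
    ((SymTen.TS k (k ⊗[A] B) d).restrictScalars A) (fun y => mT_mem_TS k d y.2)

theorem mTS_val (y : SymTen.TS A B d) :
    ((mTS k d y : SymTen.TS k (k ⊗[A] B) d) : ⨂[k] _ : Fin d, k ⊗[A] B) =
      mT k d (y : ⨂[A] _ : Fin d, B) := rfl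

end Mul

section FG

variable (A : Type u) [CommRing A] (B : Type u) [CommRing B] [Algebra A B] (d : ℕ)

theorem finiteType_T [Algebra.FiniteType A B] : Algebra.FiniteType A (⨂[A] _ : Fin d, B) := by
  classical
  obtain ⟨s, hs⟩ := (Algebra.FiniteType.out : (⊤ : Subalgebra A B).FG)
  refine ⟨⟨Finset.univ.biUnion (fun i : Fin d => s.image (incl A B d i)), ?_⟩⟩
  rw [eq_top_iff]
  have hincl : ∀ (i : Fin d) (b : B), incl A B d i b ∈
      Algebra.adjoin A (↑(Finset.univ.biUnion (fun i : Fin d => s.image (incl A B d i))) :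
        Set (⨂[A] _ : Fin d, B)) := by
    intro i b
    have hb : b ∈ Algebra.adjoin A (↑s : Set B) := by rw [hs]; trivial
    have h1 : incl A B d i b ∈ (Algebra.adjoin A (↑s : Set B)).map (incl A B d i) :=
      ⟨b, hb, rfl⟩
    rw [AlgHom.map_adjoin] at h1
    refine Algebra.adjoin_mono ?_ h1
    intro z hz
    obtain ⟨b', hb', rfl⟩ := hz
    rw [Finset.coe_biUnion]
    exact Set.mem_iUnion₂.mpr ⟨i, Finset.mem_coe.mpr (Finset.mem_univ i),
      Finset.mem_coe.mpr (Finset.mem_image_of_mem _ hb')⟩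
  have hspan : (⊤ : Submodule A (⨂[A] _ : Fin d, B)) ≤ Subalgebra.toSubmodule
      (Algebra.adjoin A (↑(Finset.univ.biUnion (fun i : Fin d => s.image (incl A B d i))) :
        Set (⨂[A] _ : Fin d, B))) := by
    rw [← PiTensorProduct.span_tprod_eq_top, Submodule.span_le]
    rintro _ ⟨b, rfl⟩
    rw [← prod_incl]
    exact Subalgebra.prod_mem _ (fun i _ => hincl i (b i))
  intro z _
  exact hspan (Submodule.mem_top)

theorem finiteType_TS_of_noetherian [IsNoetherianRing A] [Algebra.FiniteType A B] :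
    Algebra.FiniteType A (SymTen.TS A B d) := by
  haveI := finiteType_T A B d
  haveI : Algebra.IsIntegral (SymTen.TS A B d) (⨂[A] _ : Fin d, B) :=
    ⟨isIntegral_val A B d⟩
  haveI : Algebra.FiniteType (SymTen.TS A B d) (⨂[A] _ : Fin d, B) :=
    Algebra.FiniteType.of_restrictScalars_finiteType A _ _
  haveI : Module.Finite (SymTen.TS A B d) (⨂[A] _ : Fin d, B) := Algebra.IsIntegral.finite
  refine ⟨fg_of_fg_of_fg A (SymTen.TS A B d) (⨂[A] _ : Fin d, B) Algebra.FiniteType.out
    Module.Finite.fg_top Subtype.val_injective⟩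

end FG

end Groth.Agent.Lib.Helper20.PLFT
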