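import Mathlib
import Groth.Prelude.Def_PolLaw
import Groth.Prelude.Def_SymTen
import Groth.Agent.Lib.Helper20.PLFT1
import Groth.Agent.Lib.lead.PolLawQuot

/-!
# `Γ^d(B)` is of finite type when `B` is
-/

namespace Groth.Agent.Lib.Helper20.PLFT

open scoped TensorProduct
open Groth.Agent.Lib.Helper20.PLCoeff Groth.Agent.Lib.Helper20.PLTS
  Groth.Agent.Lib.Helper20.PLFree Groth.Agent.Lib.Helper20.PLDescend
  Groth.Agent.Lib.Helper20.PLUH

universe u
set_option linter.style.haveILetI false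

section Descent

variable (Z : Type u) [CommRing Z] [IsNoetherianRing Z] (B₀ : Type u) [CommRing B₀] [Algebra Z B₀]
  [Algebra.FiniteType Z B₀] {K : Type u} (e₀ : Module.Basis K Z B₀)
  (A : Type u) [CommRing A] [Algebra Z A] (d : ℕ)

include e₀ in
theorem finiteType_TS_baseChange : Algebra.FiniteType A (SymTen.TS A (A ⊗[Z] B₀) d) := by
  classical
  haveI := finiteType_TS_of_noetherian Z B₀ d
  obtain ⟨G, hG⟩ := (Algebra.FiniteType.out : (⊤ : Subalgebra Z (SymTen.TS Z B₀ d)).FG)
  let f : SymTen.TS Z B₀ d →ₐ[Z] (⨂[A] _ : Fin d, A ⊗[Z] B₀) :=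
    (mTalg A d).comp (SymTen.TS Z B₀ d).val
  let 𝒜 : Subalgebra A (⨂[A] _ : Fin d, A ⊗[Z] B₀) := Algebra.adjoin A (f '' ↑G)
  have h1 : ∀ w, f w ∈ 𝒜 := by
    have hle : Algebra.adjoin Z (↑G : Set (SymTen.TS Z B₀ d)) ≤ (𝒜.restrictScalars Z).comap f := by
      rw [Algebra.adjoin_le_iff]
      intro w hw
      exact Algebra.subset_adjoin ⟨w, hw, rfl⟩
    intro w
    exact hle (by rw [hG]; trivial)
  have h2 : SymTen.TS A (A ⊗[Z] B₀) d = 𝒜 := by
    apply le_antisymm
    · intro y hy
      let e := Algebra.TensorProduct.basis A e₀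
      have hy1 : (⟨y, hy⟩ : SymTen.TS A (A ⊗[Z] B₀) d) ∈ Submodule.span A (orbitSums e d) := by
        rw [span_orbitSums]
        trivial
      have hy2 := Submodule.apply_mem_span_image_of_mem_span
        (SymTen.TS A (A ⊗[Z] B₀) d).val.toLinearMap hy1
      have hle : Submodule.span A ((SymTen.TS A (A ⊗[Z] B₀) d).val.toLinearMap '' orbitSums e d) ≤
          Subalgebra.toSubmodule 𝒜 := by
        rw [Submodule.span_le]
        rintro _ ⟨o, ⟨n, kk, hk, β, rfl⟩, rfl⟩
        have h3 := h1 (PLCoeff.coeff (TSlaw Z B₀ d).law (fun j => e₀ (kk j)) β)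
        have h4 : f (PLCoeff.coeff (TSlaw Z B₀ d).law (fun j => e₀ (kk j)) β) =
            mT A d ((PLCoeff.coeff (TSlaw Z B₀ d).law (fun j => e₀ (kk j)) β :
              SymTen.TS Z B₀ d) : ⨂[Z] _ : Fin d, B₀) := rfl
        rw [h4, mT_val_coeff_TSlaw] at h3
        have h5 : (fun j => e (kk j)) = fun j => (1 : A) ⊗ₜ[Z] e₀ (kk j) := by
          funext j
          exact Algebra.TensorProduct.basis_apply e₀ (kk j)
        rw [h5]
        exact h3
      exact hle hy2
    · rw [Algebra.adjoin_le_iff]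
      rintro _ ⟨w, _, rfl⟩
      exact mT_mem_TS A d w.2
  rw [← Subalgebra.fg_iff_finiteType, h2]
  exact ⟨G.image f, by rw [Finset.coe_image]⟩

end Descent

section Main

variable {A : Type u} [CommRing A] {B : Type u} [CommRing B] [Algebra A B] {C : Type u}
  [CommRing C] [Algebra A C] {d : ℕ} (γ : PolLaw.MulLaw A B C d) (hγ : PolLaw.IsGammaD γ)

include hγ in
theorem finiteType_of_surjective_of_free {P : Type u} [CommRing P] [Algebra A P] [Module.Free A P]
    (π : P →ₐ[A] B) (hπ : Function.Surjective π)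
    [Algebra.FiniteType A (SymTen.TS A P d)] : Algebra.FiniteType A C := by
  obtain ⟨g, hg, -⟩ := (isGammaD_TSlaw_of_free (A := A) (B := P) d) C (γ.precomp π)
  have hsurj : Function.Surjective g :=
    Groth.Agent.Lib.lead.PolLawQuot.main_surj (TSlaw A P d) γ hγ π hπ g hg
  exact Algebra.FiniteType.of_surjective g hsurj

include hγ in
theorem main13713 [Algebra.FiniteType A B] : Algebra.FiniteType A C := by
  obtain ⟨n, f, hf⟩ := Algebra.FiniteType.iff_quotient_mvPolynomial''.mp
    (inferInstance : Algebra.FiniteType A B)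
  let Z := ULift.{u} ℤ
  haveI : IsNoetherianRing Z := isNoetherianRing_of_ringEquiv ℤ ULift.ringEquiv.symm
  letI : Algebra Z A := ULift.algebra' ℤ A
  let B₀ := MvPolynomial (Fin n) Z
  let iso : A ⊗[Z] B₀ ≃ₐ[A] MvPolynomial (Fin n) A := MvPolynomial.algebraTensorAlgEquiv Z A
  let π : A ⊗[Z] B₀ →ₐ[A] B := f.comp iso.toAlgHom
  have hπ : Function.Surjective π := hf.comp iso.surjective
  haveI : Algebra.FiniteType A (SymTen.TS A (A ⊗[Z] B₀) d) :=
    finiteType_TS_baseChange Z B₀
      ((MvPolynomial.basisMonomials (Fin n) Z).reindex (Equiv.ulift.{u, 0}).symm) A d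
  exact finiteType_of_surjective_of_free γ hγ π hπ

end Main

end Groth.Agent.Lib.Helper20.PLFT
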