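import Mathlib
import Groth.Prelude.Def_PolLaw
import Groth.Agent.Lib.Helper20.PLCoeff
import Groth.Agent.Lib.Helper20.PLSpan
import Groth.Agent.Lib.Helper20.PLGamma

/-!
# Finiteness and integrality of `Γ^d_A(B)`
-/

namespace Groth.Agent.Lib.Helper20.PLFinite

open scoped TensorProduct
open MvPolynomial Groth.Agent.Lib.Helper20.PLCoeff Groth.Agent.Lib.Helper20.PLSpan
  Groth.Agent.Lib.Helper20.PLGamma Groth.Agent.Lib.Helper20.PLCorestrict

universe u

section General

variable {A : Type u} [CommRing A] {M N : Type u} [AddCommGroup M] [Module A M]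
  [AddCommGroup N] [Module A N]

/-- if `e` generates `M`, all coefficients of `F` are combinations of the coefficients at `e` -/
theorem coeffSpan_le_span_image (F : M →ₚₗ[A] N) {κ : Type} [Fintype κ] (e : κ → M)
    (he : Submodule.span A (Set.range e) = ⊤) :
    coeffSpan F ≤
      Submodule.span A ((fun β => PLCoeff.coeff F e β) '' (csupp F e : Set (κ →₀ ℕ))) := by
  unfold coeffSpan
  rw [Submodule.span_le]
  rintro _ ⟨ι, _, m, β', rfl⟩
  have hm : ∀ i, ∃ a : κ → A, ∑ k, a k • e k = m i := by
    intro i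
    have : m i ∈ Submodule.span A (Set.range e) := by
      rw [he]
      trivial
    exact (Submodule.mem_span_range_iff_exists_fun A).mp this
  choose a ha using hm
  have hgen : gen m = ∑ k, (∑ i, a i k • (X i : MvPolynomial ι A)) ⊗ₜ[A] e k := by
    unfold gen
    simp_rw [TensorProduct.sum_tmul]
    rw [Finset.sum_comm]
    refine Finset.sum_congr rfl (fun i _ => ?_)
    rw [← ha i, TensorProduct.tmul_sum]
    refine Finset.sum_congr rfl (fun k _ => ?_)
    rw [TensorProduct.tmul_smul, TensorProduct.smul_tmul']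
  unfold PLCoeff.coeff
  rw [hgen, toFun'_sum_tmul F e _ _ (Finset.Subset.refl _), map_sum]
  refine Submodule.sum_mem _ (fun β hβ => ?_)
  rw [ext1_tmul]
  exact Submodule.smul_mem _ _ (Submodule.subset_span ⟨β, hβ, rfl⟩)

theorem span_image_le_coeffSpan (F : M →ₚₗ[A] N) {κ : Type} [Fintype κ] (e : κ → M) :
    Submodule.span A ((fun β => PLCoeff.coeff F e β) '' (csupp F e : Set (κ →₀ ℕ))) ≤
      coeffSpan F := by
  rw [Submodule.span_le]
  rintro _ ⟨β, _, rfl⟩
  exact coeff_mem_coeffSpan F e β

theorem coeffSpan_fg (F : M →ₚₗ[A] N) [Module.Finite A M] : (coeffSpan F).FG := by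
  obtain ⟨n, e, he⟩ := Module.Finite.exists_fin (R := A) (M := M)
  have : coeffSpan F =
      Submodule.span A ((fun β => PLCoeff.coeff F e β) '' (csupp F e : Set (Fin n →₀ ℕ))) :=
    le_antisymm (coeffSpan_le_span_image F e he) (span_image_le_coeffSpan F e)
  rw [this]
  exact Submodule.fg_span ((Finset.finite_toSet _).image _)

theorem coeff_precomp {M' : Type u} [AddCommGroup M'] [Module A M'] (F : M →ₚₗ[A] N)
    (g : M' →ₗ[A] M) {ι : Type} [Fintype ι] (m : ι → M') (β : ι →₀ ℕ) :
    PLCoeff.coeff (PolLaw.precomp F g) m β = PLCoeff.coeff F (fun i => g (m i)) β := by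
  unfold PLCoeff.coeff
  rw [precomp_toFun']
  congr 2
  unfold gen
  rw [map_sum]
  rfl

end General

section Gamma

variable {A B C : Type u} [CommRing A] [CommRing B] [Algebra A B] [CommRing C] [Algebra A C]
  {d : ℕ} (γ : PolLaw.MulLaw A B C d)

/-- `Γ^d_A(B)` is a finite module when `B` is -/
theorem moduleFinite (hγ : PolLaw.IsGammaD γ) [Module.Finite A B] : Module.Finite A C := by
  rw [Module.finite_def, ← coeffSpan_eq_top γ hγ]
  exact coeffSpan_fg γ.law

/-- every coefficient of a multiplicative law on an integral algebra is integral -/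
theorem isIntegral_coeff [Algebra.IsIntegral A B] {n : ℕ} (b : Fin n → B) (β : Fin n →₀ ℕ) :
    IsIntegral A (PLCoeff.coeff γ.law b β) := by
  let B' : Subalgebra A B := Algebra.adjoin A (Set.range b)
  have hfg : (Subalgebra.toSubmodule B').FG :=
    fg_adjoin_of_finite (Set.finite_range b) (fun x _ => Algebra.IsIntegral.isIntegral x)
  haveI : Module.Finite A B' := Module.Finite.of_fg hfg
  let γ' : PolLaw.MulLaw A B' C d := γ.precomp B'.val
  let b' : Fin n → B' := fun i => ⟨b i, Algebra.subset_adjoin (Set.mem_range_self i)⟩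
  have hc : PLCoeff.coeff γ.law b β = PLCoeff.coeff γ'.law b' β := by
    change _ = PLCoeff.coeff (PolLaw.precomp γ.law B'.val.toLinearMap) b' β
    rw [coeff_precomp]
    rfl
  have hfg' : (Subalgebra.toSubmodule (coeffAlg γ')).FG := coeffSpan_fg γ'.law
  refine IsIntegral.of_mem_of_fg (coeffAlg γ') hfg' _ ?_
  rw [hc]
  exact coeff_mem_coeffSpan γ'.law b' β

/-- `Γ^d_A(B)` is integral over `A` when `B` is -/
theorem isIntegral (hγ : PolLaw.IsGammaD γ) [Algebra.IsIntegral A B] : Algebra.IsIntegral A C := by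
  constructor
  intro x
  have hle : coeffSpan γ.law ≤ Subalgebra.toSubmodule (integralClosure A C) := by
    apply coeffSpan_le_fin
    intro n b β
    exact isIntegral_coeff γ b β
  have hx : x ∈ coeffSpan γ.law := by
    rw [coeffSpan_eq_top γ hγ]
    trivial
  exact hle hx

end Gamma

end Groth.Agent.Lib.Helper20.PLFinite
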