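import Mathlib

/-!
# A multilinear equational criterion for flatness

For a flat module `M`, a finite free module `L = A^n`, a linear map `u : L → M` and a tensor
`w ∈ T^d(L)` killed by `T^d(u)`, the map `u` factors through a finite free module `L'` such that
`w` is already killed in `T^d(L')`.  (This is the part of Lazard's theorem needed to compute
tensor powers of flat modules.)
-/

namespace Groth.Agent.Lib.Helper20.PLFlat

open scoped TensorProduct

universe u v

section Claim1

variable {A : Type u} [CommRing A] {M : Type v} [AddCommGroup M] [Module A M] [Module.Flat A M]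
  {Q : Type*} [AddCommGroup Q] [Module A Q]

theorem eq_sum_tmul_single {ι : Type*} [Fintype ι] [DecidableEq ι] (w : Q ⊗[A] (ι → A)) :
    w = ∑ i, (TensorProduct.piScalarRight A A Q ι w i) ⊗ₜ[A] (Pi.single i (1 : A)) := by
  apply (TensorProduct.piScalarRight A A Q ι).injective
  rw [map_sum]
  ext j
  simp [Pi.single_apply]

/-- the equational criterion for flatness, in tensor form -/
theorem claim1 {ι : Type*} [Fintype ι] [DecidableEq ι] (u : (ι → A) →ₗ[A] M)
    (w : Q ⊗[A] (ι → A)) (hw : u.lTensor Q w = 0) :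
    ∃ (k : ℕ) (h : (ι → A) →ₗ[A] (Fin k → A)) (g : (Fin k → A) →ₗ[A] M),
      u = g ∘ₗ h ∧ h.lTensor Q w = 0 := by
  set q := TensorProduct.piScalarRight A A Q ι w with hq
  have hw' : w = ∑ i, q i ⊗ₜ[A] (Pi.single i (1 : A)) := eq_sum_tmul_single w
  have h0 : ∑ i, q i ⊗ₜ[A] u (Pi.single i 1) = 0 := by
    rw [hw'] at hw
    simpa [map_sum] using hw
  have hinj : Function.Injective
      (LinearMap.rTensor M (Submodule.span A (Set.range q)).subtype) :=
    Module.Flat.rTensor_preserves_injective_linearMap _ (Submodule.injective_subtype _)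
  obtain ⟨k, a, y, hy, ha⟩ :=
    TensorProduct.vanishesTrivially_of_sum_tmul_eq_zero_of_rTensor_injective A hinj h0
  refine ⟨k, (Pi.basisFun A ι).constr A (fun i => fun j => a i j),
    (Pi.basisFun A (Fin k)).constr A y, ?_, ?_⟩
  · apply (Pi.basisFun A ι).ext
    intro i
    rw [LinearMap.comp_apply, Module.Basis.constr_basis, Pi.basisFun_apply]
    have hyi : u (Pi.single i 1) = ∑ j, a i j • y j := hy i
    rw [hyi]
    have : (fun j => a i j) = ∑ j, a i j • (Pi.basisFun A (Fin k)) j := by
      funext j'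
      simp [Pi.single_apply]
    rw [this, map_sum]
    simp only [map_smul, Module.Basis.constr_basis]
  · rw [hw', map_sum]
    apply (TensorProduct.piScalarRight A A Q (Fin k)).injective
    rw [map_zero, map_sum]
    ext j
    simp only [LinearMap.lTensor_tmul, TensorProduct.piScalarRight_apply,
      TensorProduct.piScalarRightHom_tmul, Finset.sum_apply, Pi.zero_apply]
    rw [← ha j]
    refine Finset.sum_congr rfl (fun i _ => ?_)
    rw [← Pi.basisFun_apply, Module.Basis.constr_basis]

end Claim1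

section Aux

variable {A : Type u} [CommRing A] {X Y : Type*} [AddCommGroup X] [Module A X]
  [AddCommGroup Y] [Module A Y]

theorem piScalarRight_rTensor {ι : Type*} [Fintype ι] [DecidableEq ι] (f : X →ₗ[A] Y)
    (z : X ⊗[A] (ι → A)) (j : ι) :
    TensorProduct.piScalarRight A A Y ι (f.rTensor (ι → A) z) j =
      f (TensorProduct.piScalarRight A A X ι z j) := by
  induction z using TensorProduct.induction_on with
  | zero => simp
  | tmul x φ => simp
  | add a b ha hb =>
    simp only [map_add, Pi.add_apply] at ha hb ⊢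
    rw [ha, hb]

end Aux

section E

variable (A : Type u) [CommRing A] (N : Type v) [AddCommGroup N] [Module A N]
  {N' : Type*} [AddCommGroup N'] [Module A N'] (d : ℕ)

/-- `T^d(N) ⊗ N ≃ T^{d+1}(N)` -/
noncomputable def E : (⨂[A] _ : Fin d, N) ⊗[A] N ≃ₗ[A] ⨂[A] _ : Fin (d + 1), N :=
  (TensorProduct.congr (LinearEquiv.refl A _)
    (PiTensorProduct.subsingletonEquiv (R := A) (s := fun _ : Fin 1 => N) 0).symm).trans
    (TensorPower.mulEquiv (R := A) (M := N) (n := d) (m := 1))

theorem E_tprod_tmul (a : Fin d → N) (l : N) :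
    E A N d (PiTensorProduct.tprod A a ⊗ₜ[A] l) =
      PiTensorProduct.tprod A (Fin.append a (fun _ : Fin 1 => l)) := by
  unfold E
  rw [LinearEquiv.trans_apply, TensorProduct.congr_tmul, LinearEquiv.refl_apply,
    PiTensorProduct.subsingletonEquiv_symm_apply']
  rw [← TensorPower.gMul_def, TensorPower.tprod_mul_tprod]

variable {A N}

theorem E_natural (f : N →ₗ[A] N') (x : (⨂[A] _ : Fin d, N) ⊗[A] N) :
    PiTensorProduct.map (fun _ : Fin (d + 1) => f) (E A N d x) =
      E A N' d (TensorProduct.map (PiTensorProduct.map (fun _ : Fin d => f)) f x) := by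
  induction x using TensorProduct.induction_on with
  | zero => simp
  | tmul t l =>
    induction t using PiTensorProduct.induction_on with
    | smul_tprod r a =>
      rw [← TensorProduct.smul_tmul', map_smul, map_smul, map_smul, map_smul, E_tprod_tmul,
        PiTensorProduct.map_tprod, TensorProduct.map_tmul, PiTensorProduct.map_tprod,
        E_tprod_tmul]
      congr 2
      funext i
      refine Fin.addCases (fun j => ?_) (fun j => ?_) i
      · simp [Fin.append_left]
      · simp [Fin.append_right]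
    | add x y hx hy =>
      rw [TensorProduct.add_tmul, map_add, map_add, hx, hy, map_add, map_add]
  | add x y hx hy => rw [map_add, map_add, hx, hy, map_add, map_add]

end E

section Star

variable {A : Type u} [CommRing A] {M : Type v} [AddCommGroup M] [Module A M]

/-- the linear map induced on `d`-fold tensor powers -/
noncomputable abbrev Tm (d : ℕ) {N N' : Type*} [AddCommGroup N] [Module A N] [AddCommGroup N']
    [Module A N'] (f : N →ₗ[A] N') : (⨂[A] _ : Fin d, N) →ₗ[A] (⨂[A] _ : Fin d, N') :=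
  PiTensorProduct.map (fun _ : Fin d => f)

theorem Tm_comp (d : ℕ) {N N' N'' : Type*} [AddCommGroup N] [Module A N] [AddCommGroup N']
    [Module A N'] [AddCommGroup N''] [Module A N''] (g : N' →ₗ[A] N'') (f : N →ₗ[A] N')
    (x : ⨂[A] _ : Fin d, N) : Tm d (g ∘ₗ f) x = Tm d g (Tm d f x) := by
  unfold Tm
  rw [PiTensorProduct.map_comp]
  rfl

theorem Tm_id (d : ℕ) {N : Type*} [AddCommGroup N] [Module A N]
    (x : ⨂[A] _ : Fin d, N) : Tm d (LinearMap.id : N →ₗ[A] N) x = x := by
  unfold Tm
  rw [PiTensorProduct.map_id]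
  rfl

variable (A M) in
/-- the multilinear criterion, for a single tensor -/
def Pstar (d : ℕ) : Prop :=
  ∀ (n : ℕ) (u : (Fin n → A) →ₗ[A] M) (w : ⨂[A] _ : Fin d, (Fin n → A)), Tm d u w = 0 →
    ∃ (k : ℕ) (h : (Fin n → A) →ₗ[A] (Fin k → A)) (g : (Fin k → A) →ₗ[A] M),
      u = g ∘ₗ h ∧ Tm d h w = 0

variable (A M) in
/-- the multilinear criterion, for a finite family of tensors -/
def PstarMulti (d : ℕ) : Prop :=
  ∀ (κ : Type) (s : Finset κ) (n : ℕ) (u : (Fin n → A) →ₗ[A] M)
    (w : κ → ⨂[A] _ : Fin d, (Fin n → A)), (∀ j ∈ s, Tm d u (w j) = 0) →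
    ∃ (k : ℕ) (h : (Fin n → A) →ₗ[A] (Fin k → A)) (g : (Fin k → A) →ₗ[A] M),
      u = g ∘ₗ h ∧ ∀ j ∈ s, Tm d h (w j) = 0

theorem multi_of_single (d : ℕ) (hs : Pstar A M d) : PstarMulti A M d := by
  classical
  intro κ s
  induction s using Finset.induction_on with
  | empty =>
    intro n u w _
    exact ⟨n, LinearMap.id, u, (LinearMap.comp_id u).symm, by simp⟩
  | insert j₀ s hj₀ ih =>
    intro n u w hw
    obtain ⟨k₁, h₁, g₁, hu₁, hw₁⟩ := ih n u w (fun j hj => hw j (Finset.mem_insert_of_mem hj))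
    have h0 : Tm d g₁ (Tm d h₁ (w j₀)) = 0 := by
      rw [← Tm_comp, ← hu₁]
      exact hw j₀ (Finset.mem_insert_self _ _)
    obtain ⟨k₂, h₂, g₂, hu₂, hw₂⟩ := hs k₁ g₁ _ h0
    refine ⟨k₂, h₂ ∘ₗ h₁, g₂, by rw [hu₁, hu₂, LinearMap.comp_assoc], ?_⟩
    intro j hj
    rw [Tm_comp]
    rcases Finset.mem_insert.mp hj with rfl | hj'
    · exact hw₂
    · rw [hw₁ j hj', map_zero]

theorem single_zero : Pstar A M 0 := by
  intro n u w hw
  have key : ∀ {N : Type _} [AddCommGroup N] [Module A N] (z : ⨂[A] _ : Fin 0, N),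
      z = (PiTensorProduct.isEmptyEquiv (R := A) (s := fun _ : Fin 0 => N) (Fin 0) z) •
        PiTensorProduct.tprod A (fun i : Fin 0 => (isEmptyElim i : N)) := by
    intro N _ _ z
    apply (PiTensorProduct.isEmptyEquiv (R := A) (s := fun _ : Fin 0 => N) (Fin 0)).injective
    rw [map_smul, PiTensorProduct.isEmptyEquiv_apply_tprod, smul_eq_mul, mul_one]
  have hw0 : w = 0 := by
    rw [key w]
    rw [key w, map_smul, Tm, PiTensorProduct.map_tprod] at hw
    have := congrArg (PiTensorProduct.isEmptyEquiv (R := A) (s := fun _ : Fin 0 => M) (Fin 0)) hw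
    rw [map_smul, PiTensorProduct.isEmptyEquiv_apply_tprod, map_zero, smul_eq_mul, mul_one]
      at this
    rw [this, zero_smul]
  exact ⟨n, LinearMap.id, u, (LinearMap.comp_id u).symm, by rw [hw0, map_zero]⟩

theorem single_succ [Module.Flat A M] (d : ℕ) (hm : PstarMulti A M d) : Pstar A M (d + 1) := by
  intro n u w hw
  set W := (E A (Fin n → A) d).symm w with hWdef
  have hwW : w = E A (Fin n → A) d W := by rw [hWdef, LinearEquiv.apply_symm_apply]
  have hW : TensorProduct.map (Tm d u) u W = 0 := by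
    apply (E A M d).injective
    rw [← E_natural, ← hwW, map_zero]
    exact hw
  -- step A
  have hv : u.lTensor _ ((Tm d u).rTensor (Fin n → A) W) = 0 := by
    rw [← LinearMap.comp_apply, LinearMap.lTensor_comp_rTensor]
    exact hW
  obtain ⟨k₁, h₁, g₁, hu₁, hv₁⟩ := claim1 u _ hv
  -- step B
  set W₁ := TensorProduct.map (Tm d h₁) h₁ W with hW₁def
  have hW₁ : (Tm d g₁).rTensor (Fin k₁ → A) W₁ = 0 := by
    rw [hW₁def, ← LinearMap.comp_apply, LinearMap.rTensor, ← TensorProduct.map_comp,
      LinearMap.id_comp]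
    have : Tm d g₁ ∘ₗ Tm d h₁ = Tm d u := by
      apply LinearMap.ext
      intro x
      rw [LinearMap.comp_apply, ← Tm_comp, ← hu₁]
    rw [this, ← LinearMap.lTensor_comp_rTensor, LinearMap.comp_apply]
    exact hv₁
  have hx : ∀ j, Tm d g₁ (TensorProduct.piScalarRight A A _ (Fin k₁) W₁ j) = 0 := by
    intro j
    rw [← piScalarRight_rTensor, hW₁, map_zero]
    rfl
  -- step C
  obtain ⟨k₂, h₂, g₂, hu₂, hx₂⟩ := hm (Fin k₁) Finset.univ k₁ g₁
    (fun j => TensorProduct.piScalarRight A A _ (Fin k₁) W₁ j) (fun j _ => hx j)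
  have hW₂ : (Tm d h₂).rTensor (Fin k₁ → A) W₁ = 0 := by
    apply (TensorProduct.piScalarRight A A _ (Fin k₁)).injective
    rw [map_zero]
    funext j
    rw [piScalarRight_rTensor, hx₂ j (Finset.mem_univ _)]
    rfl
  refine ⟨k₂, h₂ ∘ₗ h₁, g₂, by rw [hu₁, hu₂, LinearMap.comp_assoc], ?_⟩
  rw [hwW]
  change PiTensorProduct.map (fun _ : Fin (d + 1) => h₂ ∘ₗ h₁) _ = 0
  rw [E_natural]
  have : TensorProduct.map (PiTensorProduct.map (fun _ : Fin d => h₂ ∘ₗ h₁)) (h₂ ∘ₗ h₁) W =
      h₂.lTensor _ ((Tm d h₂).rTensor (Fin k₁ → A) W₁) := by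
    rw [hW₁def, ← LinearMap.comp_apply, ← LinearMap.comp_apply, LinearMap.lTensor_comp_rTensor,
      ← TensorProduct.map_comp]
    congr 2
    apply LinearMap.ext
    intro x
    rw [LinearMap.comp_apply]
    exact Tm_comp d h₂ h₁ x
  rw [this, hW₂, map_zero, map_zero]

theorem pstar [Module.Flat A M] (d : ℕ) : Pstar A M d := by
  induction d with
  | zero => exact single_zero
  | succ d ih => exact single_succ d (multi_of_single d ih)

/-- the multilinear equational criterion for flatness -/
theorem pstarMulti [Module.Flat A M] (d : ℕ) : PstarMulti A M d :=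
  multi_of_single d (pstar d)

end Star

end Groth.Agent.Lib.Helper20.PLFlat
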