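import Mathlib
import Groth.Prelude.Def_PolLaw
import Groth.Prelude.Def_SymTen
import Groth.Agent.Lib.Helper20.PLFlat1
import Groth.Agent.Lib.Helper20.PLFree3
import Groth.Agent.Lib.Helper20.PLNorm
import Groth.Agent.Lib.Helper20.PLFinite

/-!
# `TS^d_A(B)` is `Γ^d_A(B)` for `B` flat over `A`: charts by finite free modules
-/

namespace Groth.Agent.Lib.Helper20.PLFlat

open scoped TensorProduct
open MvPolynomial Groth.Agent.Lib.Helper20.PLCoeff Groth.Agent.Lib.Helper20.PLCorestrict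
  Groth.Agent.Lib.Helper20.PLTS Groth.Agent.Lib.Helper20.PLNat Groth.Agent.Lib.Helper20.PLNorm
  Groth.Agent.Lib.Helper20.PLFree Groth.Agent.Lib.Helper20.PLSpan
  Groth.Agent.Lib.Helper20.PLFinite

universe u

section TSm

variable {A : Type u} [CommRing A] {N N' N'' : Type u} [CommRing N] [Algebra A N]
  [CommRing N'] [Algebra A N'] [CommRing N''] [Algebra A N''] (d : ℕ)

theorem Tm_reindex (f : N →ₗ[A] N') (σ : Equiv.Perm (Fin d)) (z : ⨂[A] _ : Fin d, N) :
    Tm d f (PiTensorProduct.reindex A (fun _ : Fin d => N) σ z) =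
      PiTensorProduct.reindex A (fun _ : Fin d => N') σ (Tm d f z) :=
  PiTensorProduct.map_reindex (fun _ : Fin d => f) σ z

theorem Tm_mem_TS (f : N →ₗ[A] N') {z : ⨂[A] _ : Fin d, N} (hz : z ∈ SymTen.TS A N d) :
    Tm d f z ∈ SymTen.TS A N' d := by
  intro σ
  rw [← Tm_reindex, hz σ]

/-- the linear map induced on symmetric tensors by a linear map -/
noncomputable def TSm (f : N →ₗ[A] N') : SymTen.TS A N d →ₗ[A] SymTen.TS A N' d :=
  LinearMap.codRestrict (Subalgebra.toSubmodule (SymTen.TS A N' d))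
    (Tm d f ∘ₗ (SymTen.TS A N d).val.toLinearMap) (fun z => Tm_mem_TS d f z.2)

theorem val_TSm (f : N →ₗ[A] N') (z : SymTen.TS A N d) :
    ((TSm d f z : SymTen.TS A N' d) : ⨂[A] _ : Fin d, N') = Tm d f z.1 := rfl

theorem val_comp_TSm (f : N →ₗ[A] N') :
    (SymTen.TS A N' d).val.toLinearMap ∘ₗ TSm d f =
      Tm d f ∘ₗ (SymTen.TS A N d).val.toLinearMap := rfl

theorem TSm_comp (g : N' →ₗ[A] N'') (f : N →ₗ[A] N') :
    TSm d (g ∘ₗ f) = TSm d g ∘ₗ TSm d f := by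
  apply LinearMap.ext
  intro z
  apply Subtype.ext
  rw [LinearMap.comp_apply, val_TSm, val_TSm, val_TSm]
  exact Tm_comp d g f z.1

theorem postcomp_Tm_Tlaw (f : N →ₗ[A] N') :
    PolLaw.postcomp (Tm d f) (Tlaw A N d) = PolLaw.precomp (Tlaw A N' d) f := by
  apply PolynomialLaw.ext
  funext S _ _ x
  obtain ⟨ι, _, s, m, rfl⟩ := exists_rep x
  rw [postcomp_toFun', precomp_toFun', Tlaw_sum_tmul, map_sum, map_sum]
  simp only [LinearMap.lTensor_tmul]
  rw [Tlaw_sum_tmul]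
  refine Finset.sum_congr rfl (fun c _ => ?_)
  unfold Tm
  rw [PiTensorProduct.map_tprod]

theorem postcomp_TSm_TSlaw (f : N →ₗ[A] N') :
    PolLaw.postcomp (TSm d f) (TSlaw A N d).law = PolLaw.precomp (TSlaw A N' d).law f := by
  apply postcomp_injective (SymTen.TS A N' d).val.toLinearMap Subtype.val_injective
  rw [← postcomp_comp, val_comp_TSm, postcomp_comp, postcomp_val_TSlaw, postcomp_precomp,
    postcomp_val_TSlaw, postcomp_Tm_Tlaw]

theorem TSm_coeff (f : N →ₗ[A] N') {ι : Type} [Fintype ι] (m : ι → N) (β : ι →₀ ℕ) :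
    TSm d f (PLCoeff.coeff (TSlaw A N d).law m β) =
      PLCoeff.coeff (TSlaw A N' d).law (fun i => f (m i)) β := by
  rw [← coeff_postcomp, postcomp_TSm_TSlaw, coeff_precomp]

end TSm

section Charts

variable {A : Type u} [CommRing A] {M : Type u} [AddCommGroup M] [Module A M]

theorem joint {n₁ n₂ : ℕ} (u₁ : (Fin n₁ → A) →ₗ[A] M) (u₂ : (Fin n₂ → A) →ₗ[A] M) :
    ∃ (n : ℕ) (u : (Fin n → A) →ₗ[A] M) (i₁ : (Fin n₁ → A) →ₗ[A] (Fin n → A))
      (i₂ : (Fin n₂ → A) →ₗ[A] (Fin n → A)), u ∘ₗ i₁ = u₁ ∧ u ∘ₗ i₂ = u₂ := by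
  refine ⟨n₁ + n₂, (Pi.basisFun A (Fin (n₁ + n₂))).constr A
      (Fin.append (fun i => u₁ (Pi.single i 1)) (fun i => u₂ (Pi.single i 1))),
    (Pi.basisFun A (Fin n₁)).constr A (fun i => Pi.single (Fin.castAdd n₂ i) 1),
    (Pi.basisFun A (Fin n₂)).constr A (fun i => Pi.single (Fin.natAdd n₁ i) 1), ?_, ?_⟩
  · apply (Pi.basisFun A (Fin n₁)).ext
    intro i
    rw [LinearMap.comp_apply, Module.Basis.constr_basis, ← Pi.basisFun_apply,
      Module.Basis.constr_basis, Fin.append_left, Pi.basisFun_apply]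
  · apply (Pi.basisFun A (Fin n₂)).ext
    intro i
    rw [LinearMap.comp_apply, Module.Basis.constr_basis, ← Pi.basisFun_apply,
      Module.Basis.constr_basis, Fin.append_right, Pi.basisFun_apply]

theorem exists_chart_tensor (d : ℕ) (z : ⨂[A] _ : Fin d, M) :
    ∃ (n : ℕ) (u : (Fin n → A) →ₗ[A] M) (z' : ⨂[A] _ : Fin d, (Fin n → A)), Tm d u z' = z := by
  induction z using PiTensorProduct.induction_on with
  | smul_tprod r b =>
    refine ⟨d, (Pi.basisFun A (Fin d)).constr A b,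
      r • PiTensorProduct.tprod A (fun i => Pi.single i 1), ?_⟩
    rw [map_smul]
    unfold Tm
    rw [PiTensorProduct.map_tprod]
    congr 2
    funext i
    rw [← Pi.basisFun_apply, Module.Basis.constr_basis]
  | add x y hx hy =>
    obtain ⟨n₁, u₁, x', rfl⟩ := hx
    obtain ⟨n₂, u₂, y', rfl⟩ := hy
    obtain ⟨n, u, i₁, i₂, h₁, h₂⟩ := joint u₁ u₂
    refine ⟨n, u, Tm d i₁ x' + Tm d i₂ y', ?_⟩
    rw [map_add, ← Tm_comp, ← Tm_comp, h₁, h₂]

theorem exists_chart_tmul {S : Type u} [CommSemiring S] [Algebra A S] (x : S ⊗[A] M) :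
    ∃ (n : ℕ) (u : (Fin n → A) →ₗ[A] M) (x' : S ⊗[A] (Fin n → A)), u.lTensor S x' = x := by
  induction x using TensorProduct.induction_on with
  | zero => exact ⟨0, 0, 0, map_zero _⟩
  | tmul s b =>
    refine ⟨1, (Pi.basisFun A (Fin 1)).constr A (fun _ => b), s ⊗ₜ[A] Pi.single 0 1, ?_⟩
    rw [LinearMap.lTensor_tmul, ← Pi.basisFun_apply, Module.Basis.constr_basis]
  | add x y hx hy =>
    obtain ⟨n₁, u₁, x', rfl⟩ := hx
    obtain ⟨n₂, u₂, y', rfl⟩ := hy
    obtain ⟨n, u, i₁, i₂, h₁, h₂⟩ := joint u₁ u₂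
    refine ⟨n, u, i₁.lTensor S x' + i₂.lTensor S y', ?_⟩
    rw [map_add, ← LinearMap.comp_apply, ← LinearMap.comp_apply, ← LinearMap.lTensor_comp,
      ← LinearMap.lTensor_comp, h₁, h₂]

end Charts

section Flat

variable {A : Type u} [CommRing A] {B : Type u} [CommRing B] [Algebra A B] [Module.Flat A B]
  (d : ℕ)

theorem exists_chart_TS (z : SymTen.TS A B d) :
    ∃ (n : ℕ) (u : (Fin n → A) →ₗ[A] B) (z' : SymTen.TS A (Fin n → A) d), TSm d u z' = z := by
  obtain ⟨n₀, u₀, z₀, hz₀⟩ := exists_chart_tensor d (z : ⨂[A] _ : Fin d, B)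
  have hkill : ∀ σ ∈ (Finset.univ : Finset (Equiv.Perm (Fin d))),
      Tm d u₀ (PiTensorProduct.reindex A (fun _ : Fin d => (Fin n₀ → A)) σ z₀ - z₀) = 0 := by
    intro σ _
    rw [map_sub, Tm_reindex, hz₀, z.2 σ, sub_self]
  obtain ⟨k, h, g, hu, hw⟩ := pstarMulti (A := A) (M := B) d (Equiv.Perm (Fin d)) Finset.univ
    n₀ u₀ (fun σ => PiTensorProduct.reindex A (fun _ : Fin d => (Fin n₀ → A)) σ z₀ - z₀) hkill
  refine ⟨k, g, ⟨Tm d h z₀, ?_⟩, ?_⟩
  · intro σ
    have := hw σ (Finset.mem_univ _)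
    rw [map_sub, Tm_reindex, sub_eq_zero] at this
    exact this
  · apply Subtype.ext
    rw [val_TSm]
    change Tm d g (Tm d h z₀) = z
    rw [← Tm_comp, ← hu, hz₀]

theorem coeffSpan_TSlaw_eq_top_of_flat : coeffSpan (TSlaw A B d).law = ⊤ := by
  rw [eq_top_iff]
  intro z hz
  clear hz
  obtain ⟨n, u, z', rfl⟩ := exists_chart_TS d z
  have hz' : z' ∈ coeffSpan (TSlaw A (Fin n → A) d).law := by
    rw [coeffSpan_TSlaw_eq_top (Module.Free.chooseBasis A (Fin n → A)) d]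
    trivial
  unfold coeffSpan at hz' ⊢
  induction hz' using Submodule.span_induction with
  | mem x hx =>
    obtain ⟨ι, _, m, β, rfl⟩ := hx
    rw [TSm_coeff]
    exact Submodule.subset_span ⟨ι, inferInstance, _, β, rfl⟩
  | zero => simp
  | add x y _ _ hx hy =>
    rw [map_add]
    exact add_mem hx hy
  | smul a x _ hx =>
    rw [map_smul]
    exact Submodule.smul_mem _ _ hx

variable {N : Type u} [AddCommGroup N] [Module A N] (F : B →ₚₗ[A] N)

/-- the factorization on a chart -/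
noncomputable def fch {n : ℕ} (u : (Fin n → A) →ₗ[A] B) : SymTen.TS A (Fin n → A) d →ₗ[A] N :=
  fTS (Module.Free.chooseBasis A (Fin n → A)) d (PolLaw.precomp F u)

omit [Module.Flat A B] in
theorem isHomog_precomp {M' : Type u} [AddCommGroup M'] [Module A M'] (u : M' →ₗ[A] B)
    (hF : PolLaw.IsHomog F d) : PolLaw.IsHomog (PolLaw.precomp F u) d := by
  intro S _ _ s x
  rw [precomp_toFun', precomp_toFun', lTensor_smul, hF]

omit [Module.Flat A B] in
theorem postcomp_fch (hF : PolLaw.IsHomog F d) {n : ℕ} (u : (Fin n → A) →ₗ[A] B) :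
    PolLaw.postcomp (fch d F u) (TSlaw A (Fin n → A) d).law = PolLaw.precomp F u :=
  postcomp_fTS _ d _ (isHomog_precomp d F u hF)

omit [Module.Flat A B] in
theorem fch_comp (hF : PolLaw.IsHomog F d) {n₁ n₂ : ℕ} (u₁ : (Fin n₁ → A) →ₗ[A] B)
    (u₂ : (Fin n₂ → A) →ₗ[A] B) (a : (Fin n₁ → A) →ₗ[A] (Fin n₂ → A)) (h : u₂ ∘ₗ a = u₁) :
    fch d F u₂ ∘ₗ TSm d a = fch d F u₁ := by
  apply unique_linear (Module.Free.chooseBasis A (Fin n₁ → A)) d
  rw [postcomp_comp, postcomp_TSm_TSlaw, postcomp_precomp, postcomp_fch d F hF, precomp_comp, h,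
    postcomp_fch d F hF]

theorem fch_wd (hF : PolLaw.IsHomog F d) {n₁ n₂ : ℕ} (u₁ : (Fin n₁ → A) →ₗ[A] B)
    (u₂ : (Fin n₂ → A) →ₗ[A] B) (z₁ : SymTen.TS A (Fin n₁ → A) d)
    (z₂ : SymTen.TS A (Fin n₂ → A) d) (h : Tm d u₁ z₁.1 = Tm d u₂ z₂.1) :
    fch d F u₁ z₁ = fch d F u₂ z₂ := by
  obtain ⟨n, u, i₁, i₂, h₁, h₂⟩ := joint u₁ u₂
  have hw : Tm d u (Tm d i₁ z₁.1 - Tm d i₂ z₂.1) = 0 := by
    rw [map_sub, ← Tm_comp, ← Tm_comp, h₁, h₂, h, sub_self]
  obtain ⟨k, hh, g, hu, hk⟩ := pstar (A := A) (M := B) d n u _ hw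
  rw [map_sub, ← Tm_comp, ← Tm_comp, sub_eq_zero] at hk
  have e₁ : fch d F u₁ = fch d F g ∘ₗ TSm d (hh ∘ₗ i₁) :=
    (fch_comp d F hF u₁ g (hh ∘ₗ i₁) (by rw [← LinearMap.comp_assoc, ← hu, h₁])).symm
  have e₂ : fch d F u₂ = fch d F g ∘ₗ TSm d (hh ∘ₗ i₂) :=
    (fch_comp d F hF u₂ g (hh ∘ₗ i₂) (by rw [← LinearMap.comp_assoc, ← hu, h₂])).symm
  rw [e₁, e₂, LinearMap.comp_apply, LinearMap.comp_apply]
  congr 1
  exact Subtype.ext hk

/-- the factorization, as a function -/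
noncomputable def fFlatFun (z : SymTen.TS A B d) : N :=
  fch d F (exists_chart_TS d z).choose_spec.choose
    (exists_chart_TS d z).choose_spec.choose_spec.choose

theorem fFlatFun_eq (hF : PolLaw.IsHomog F d) {n : ℕ} (u : (Fin n → A) →ₗ[A] B)
    (z' : SymTen.TS A (Fin n → A) d) :
    fFlatFun d F (TSm d u z') = fch d F u z' := by
  unfold fFlatFun
  apply fch_wd d F hF
  have := (exists_chart_TS d (TSm d u z')).choose_spec.choose_spec.choose_spec
  exact congrArg Subtype.val this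

/-- the factorization of a homogeneous law through the symmetric tensors of a flat algebra -/
noncomputable def fFlat (hF : PolLaw.IsHomog F d) : SymTen.TS A B d →ₗ[A] N where
  toFun := fFlatFun d F
  map_add' x y := by
    obtain ⟨n₁, u₁, x', rfl⟩ := exists_chart_TS d x
    obtain ⟨n₂, u₂, y', rfl⟩ := exists_chart_TS d y
    obtain ⟨n, u, i₁, i₂, h₁, h₂⟩ := joint u₁ u₂
    have hx : TSm d u₁ x' = TSm d u (TSm d i₁ x') := by
      rw [← LinearMap.comp_apply, ← TSm_comp, h₁]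
    have hy : TSm d u₂ y' = TSm d u (TSm d i₂ y') := by
      rw [← LinearMap.comp_apply, ← TSm_comp, h₂]
    rw [fFlatFun_eq d F hF, fFlatFun_eq d F hF, hx, hy, ← map_add, fFlatFun_eq d F hF, map_add,
      ← LinearMap.comp_apply, ← LinearMap.comp_apply, fch_comp d F hF u₁ u i₁ h₁,
      fch_comp d F hF u₂ u i₂ h₂]
  map_smul' r x := by
    obtain ⟨n₁, u₁, x', rfl⟩ := exists_chart_TS d x
    rw [← map_smul, fFlatFun_eq d F hF, fFlatFun_eq d F hF, map_smul]
    rfl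

theorem fFlat_comp_TSm (hF : PolLaw.IsHomog F d) {n : ℕ} (u : (Fin n → A) →ₗ[A] B) :
    fFlat d F hF ∘ₗ TSm d u = fch d F u :=
  LinearMap.ext (fun z' => fFlatFun_eq d F hF u z')

theorem postcomp_fFlat (hF : PolLaw.IsHomog F d) :
    PolLaw.postcomp (fFlat d F hF) (TSlaw A B d).law = F := by
  apply PolynomialLaw.ext
  funext S _ _ x
  obtain ⟨n, u, x', rfl⟩ := exists_chart_tmul x
  have key : PolLaw.precomp (PolLaw.postcomp (fFlat d F hF) (TSlaw A B d).law) u =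
      PolLaw.precomp F u := by
    rw [← postcomp_precomp, ← postcomp_TSm_TSlaw, ← postcomp_comp, fFlat_comp_TSm,
      postcomp_fch d F hF]
  exact congrArg (fun L : (Fin n → A) →ₚₗ[A] N => L.toFun' S x') key

end Flat

end Groth.Agent.Lib.Helper20.PLFlat
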