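import Mathlib
import Groth.Prelude.Def_PolLaw
import Groth.Prelude.Def_SymTen
import Groth.Agent.Lib.Helper20.PLFlat2
import Groth.Agent.Lib.Helper20.PLGamma

/-!
# `TS^d_A(B)` is `Γ^d_A(B)` when `B` is flat over `A` or `d!` is invertible in `A`
-/

namespace Groth.Agent.Lib.Helper20.PLFlat

open scoped TensorProduct
open MvPolynomial Groth.Agent.Lib.Helper20.PLCoeff Groth.Agent.Lib.Helper20.PLCorestrict
  Groth.Agent.Lib.Helper20.PLTS Groth.Agent.Lib.Helper20.PLNat Groth.Agent.Lib.Helper20.PLNorm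
  Groth.Agent.Lib.Helper20.PLFree Groth.Agent.Lib.Helper20.PLSpan
  Groth.Agent.Lib.Helper20.PLFinite Groth.Agent.Lib.Helper20.PLPolar
  Groth.Agent.Lib.Helper20.PLGamma

universe u

section General

variable {A : Type u} [CommRing A] {B C : Type u} [CommRing B] [Algebra A B] [CommRing C]
  [Algebra A C] {d : ℕ}

theorem linear_ext_of_span {M N N' : Type u} [AddCommGroup M] [Module A M] [AddCommGroup N]
    [Module A N] [AddCommGroup N'] [Module A N'] (γ : M →ₚₗ[A] N) (hspan : coeffSpan γ = ⊤)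
    (f₁ f₂ : N →ₗ[A] N') (h : PolLaw.postcomp f₁ γ = PolLaw.postcomp f₂ γ) : f₁ = f₂ := by
  apply LinearMap.ext_on hspan
  rintro _ ⟨ι, _, m, β, rfl⟩
  rw [← coeff_postcomp, ← coeff_postcomp, h]

/-- a multiplicative law whose coefficients span and through which all multiplicative laws
factor linearly is universal -/
theorem isGammaD_of_span_of_linear (γ : PolLaw.MulLaw A B C d) (hspan : coeffSpan γ.law = ⊤)
    (hex : ∀ (C' : Type u) [CommRing C'] [Algebra A C'] (G : PolLaw.MulLaw A B C' d),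
      ∃ f : C →ₗ[A] C', PolLaw.postcomp f γ.law = G.law) : PolLaw.IsGammaD γ := by
  intro C' _ _ G
  obtain ⟨f, hf⟩ := hex C' G
  obtain ⟨f', hf'⟩ := exists_algHom_of_linear γ hspan G f hf
  refine ⟨f', ?_, ?_⟩
  · show PolLaw.postcomp f'.toLinearMap γ.law = G.law
    rw [hf']
    exact hf
  · intro f'' hf''
    apply AlgHom.toLinearMap_injective
    apply linear_ext_of_span γ.law hspan
    rw [hf', hf]
    exact hf''

/-- two laws with the same coefficients are equal -/
theorem ext_coeff {M N : Type u} [AddCommGroup M] [Module A M] [AddCommGroup N] [Module A N]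
    {F G : M →ₚₗ[A] N}
    (h : ∀ (ι : Type) [Fintype ι] (m : ι → M) (β : ι →₀ ℕ),
      PLCoeff.coeff F m β = PLCoeff.coeff G m β) : F = G := by
  apply ext_gen
  intro ι _ m
  apply ext_ext1
  intro β
  exact h ι m β

end General

section FlatCase

variable {A : Type u} [CommRing A] {B : Type u} [CommRing B] [Algebra A B] (d : ℕ)

/-- **For `B` flat over `A`, the symmetric tensors with `x ↦ x ⊗ ⋯ ⊗ x` are the degree-`d`
divided power algebra of `B`.** -/
theorem isGammaD_TSlaw_of_flat [Module.Flat A B] : PolLaw.IsGammaD (TSlaw A B d) :=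
  isGammaD_of_span_of_linear (TSlaw A B d) (coeffSpan_TSlaw_eq_top_of_flat d)
    (fun _ _ _ G => ⟨fFlat d G.law G.homog, postcomp_fFlat d G.law G.homog⟩)

end FlatCase

section UnitCase

variable {A : Type u} [CommRing A] {B : Type u} [CommRing B] [Algebra A B] (d : ℕ)

theorem polLin_coeff_Tlaw {N : Type u} [AddCommGroup N] [Module A N] (F : B →ₚₗ[A] N)
    (hF : PolLaw.IsHomog F d) {ι : Type} [Fintype ι] (m : ι → B) (β : ι →₀ ℕ) :
    polLin F d (PLCoeff.coeff (Tlaw A B d) m β) = (d.factorial : A) • PLCoeff.coeff F m β := by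
  classical
  rw [coeff_Tlaw, map_sum, ← sum_pol0_eq F hF m β]
  refine Finset.sum_congr rfl (fun c _ => ?_)
  by_cases hc : typ c = β
  · rw [if_pos hc, if_pos hc, polLin_tprod]
    rfl
  · rw [if_neg hc, if_neg hc, map_zero]

theorem polLin_mem_coeffSpan {M N : Type u} [AddCommGroup M] [Module A M] [AddCommGroup N]
    [Module A N] (F : M →ₚₗ[A] N) (z : ⨂[A] _ : Fin d, M) : polLin F d z ∈ coeffSpan F := by
  induction z using PiTensorProduct.induction_on with
  | smul_tprod r b =>
    rw [map_smul, polLin_tprod]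
    exact Submodule.smul_mem _ _ (coeff_mem_coeffSpan F b (ones d))
  | add x y hx hy =>
    rw [map_add]
    exact add_mem hx hy

theorem isCanonical_id : IsCanonical (TSlaw A B d) (AlgHom.id A (SymTen.TS A B d)) := by
  intro S _ _ n s b
  have := val_TSlaw_sum_tmul A B d S s b
  rw [← this]
  rfl

theorem coeffSpan_TSlaw_eq_top_of_isUnit (h : IsUnit ((d.factorial : ℕ) : A)) :
    coeffSpan (TSlaw A B d).law = ⊤ := by
  rw [eq_top_iff]
  intro z hz
  clear hz
  obtain ⟨v, hv⟩ := h
  have h1 := val_phi_polLin (TSlaw A B d) (AlgHom.id A (SymTen.TS A B d)) (isCanonical_id d)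
    (z : ⨂[A] _ : Fin d, B)
  have hperm : ∀ σ : Equiv.Perm (Fin d), SymTen.perm A B d σ (z : ⨂[A] _ : Fin d, B) = z :=
    fun σ => perm_val A B d σ z
  simp only [hperm, Finset.sum_const, Finset.card_univ, card_perm_fin] at h1
  have h2 : polLin (TSlaw A B d).law d (z : ⨂[A] _ : Fin d, B) = (d.factorial : A) • z := by
    apply Subtype.ext
    rw [← Nat.cast_smul_eq_nsmul A] at h1
    exact h1
  have h3 : z = (↑v⁻¹ : A) • polLin (TSlaw A B d).law d (z : ⨂[A] _ : Fin d, B) := by
    rw [h2, smul_smul, ← hv, Units.inv_mul, one_smul]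
  rw [h3]
  exact Submodule.smul_mem _ _ (polLin_mem_coeffSpan d _ _)

theorem exists_linear_of_isUnit (h : IsUnit ((d.factorial : ℕ) : A)) {N : Type u}
    [AddCommGroup N] [Module A N] (F : B →ₚₗ[A] N) (hF : PolLaw.IsHomog F d) :
    ∃ f : SymTen.TS A B d →ₗ[A] N, PolLaw.postcomp f (TSlaw A B d).law = F := by
  obtain ⟨v, hv⟩ := h
  refine ⟨(↑v⁻¹ : A) • (polLin F d ∘ₗ (SymTen.TS A B d).val.toLinearMap), ?_⟩
  apply ext_coeff
  intro ι _ m β
  rw [coeff_postcomp, LinearMap.smul_apply, LinearMap.comp_apply]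
  change (↑v⁻¹ : A) • polLin F d
    ((PLCoeff.coeff (TSlaw A B d).law m β : SymTen.TS A B d) : ⨂[A] _ : Fin d, B) = _
  rw [val_coeff_TSlaw, polLin_coeff_Tlaw d F hF, smul_smul, ← hv, Units.inv_mul, one_smul]

/-- **If `d!` is invertible in `A`, the symmetric tensors with `x ↦ x ⊗ ⋯ ⊗ x` are the
degree-`d` divided power algebra of `B`.** -/
theorem isGammaD_TSlaw_of_isUnit (h : IsUnit ((d.factorial : ℕ) : A)) :
    PolLaw.IsGammaD (TSlaw A B d) :=
  isGammaD_of_span_of_linear (TSlaw A B d) (coeffSpan_TSlaw_eq_top_of_isUnit d h)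
    (fun _ _ _ G => exists_linear_of_isUnit d h G.law G.homog)

end UnitCase

section Main

variable {A B : Type u} [CommRing A] [CommRing B] [Algebra A B]

theorem main13873 (d : ℕ) (h : Module.Flat A B ∨ IsUnit ((d.factorial : ℕ) : A)) :
    ∃ τ : PolLaw.MulLaw A B (SymTen.TS A B d) d,
      (∀ (S : Type u) [CommSemiring S] [Algebra A S] (n : ℕ) (s : Fin n → S) (b : Fin n → B),
        (SymTen.TS A B d).val.toLinearMap.lTensor S (τ.law.toFun' S (∑ j, s j ⊗ₜ[A] b j)) =
          ∑ c : Fin d → Fin n, (∏ i, s (c i)) ⊗ₜ[A] PiTensorProduct.tprod A (fun i => b (c i))) ∧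
      PolLaw.IsGammaD τ := by
  refine ⟨TSlaw A B d, fun S _ _ n s b => val_TSlaw_sum_tmul A B d S s b, ?_⟩
  rcases h with h | h
  · exact isGammaD_TSlaw_of_flat d
  · exact isGammaD_TSlaw_of_isUnit d h

end Main

end Groth.Agent.Lib.Helper20.PLFlat
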