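import Mathlib
import Groth.Prelude.Def_PolLaw
import Groth.Prelude.Def_SymTen
import Groth.Agent.Lib.Helper20.PLFlat3

/-!
# `Γ^d_A(B)` is flat over `A` when `B` is
-/

namespace Groth.Agent.Lib.Helper20.PLFlat

open scoped TensorProduct
open MvPolynomial Groth.Agent.Lib.Helper20.PLCoeff Groth.Agent.Lib.Helper20.PLCorestrict
  Groth.Agent.Lib.Helper20.PLTS Groth.Agent.Lib.Helper20.PLNat Groth.Agent.Lib.Helper20.PLNorm
  Groth.Agent.Lib.Helper20.PLFree Groth.Agent.Lib.Helper20.PLSpan
  Groth.Agent.Lib.Helper20.PLFinite Groth.Agent.Lib.Helper20.PLPolar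
  Groth.Agent.Lib.Helper20.PLGamma

universe u

section Unique

variable {A : Type u} [CommRing A] {B C C' : Type u} [CommRing B] [Algebra A B] [CommRing C]
  [Algebra A C] [CommRing C'] [Algebra A C'] {d : ℕ}

/-- two universal laws have isomorphic targets -/
theorem nonempty_algEquiv_of_isGammaD (γ : PolLaw.MulLaw A B C d) (hγ : PolLaw.IsGammaD γ)
    (γ' : PolLaw.MulLaw A B C' d) (hγ' : PolLaw.IsGammaD γ') : Nonempty (C ≃ₐ[A] C') := by
  obtain ⟨f, hf, -⟩ := hγ C' γ'
  obtain ⟨g, hg, -⟩ := hγ' C γ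
  have h1 : g.comp f = AlgHom.id A C := by
    apply (hγ C γ).unique
    · show PolLaw.postcomp (g.comp f).toLinearMap γ.law = γ.law
      rw [AlgHom.comp_toLinearMap, postcomp_comp]
      change PolLaw.postcomp g.toLinearMap (PolLaw.postcomp f.toLinearMap γ.law) = γ.law
      rw [hf]
      exact hg
    · show PolLaw.postcomp (AlgHom.id A C).toLinearMap γ.law = γ.law
      exact postcomp_id γ.law
  have h2 : f.comp g = AlgHom.id A C' := by
    apply (hγ' C' γ').unique
    · show PolLaw.postcomp (f.comp g).toLinearMap γ'.law = γ'.law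
      rw [AlgHom.comp_toLinearMap, postcomp_comp]
      change PolLaw.postcomp f.toLinearMap (PolLaw.postcomp g.toLinearMap γ'.law) = γ'.law
      rw [hg]
      exact hf
    · show PolLaw.postcomp (AlgHom.id A C').toLinearMap γ'.law = γ'.law
      exact postcomp_id γ'.law
  exact ⟨AlgEquiv.ofAlgHom f g h2 h1⟩

end Unique

section FreeFlat

variable {A : Type u} [CommRing A] (d : ℕ) (n : ℕ)

/-- the symmetric tensors of a finite free algebra are a direct summand of the tensor power -/
theorem flat_TS_free : Module.Flat A (SymTen.TS A (Fin n → A) d) := by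
  let e := Module.Free.chooseBasis A (Fin n → A)
  let r : (⨂[A] _ : Fin d, (Fin n → A)) →ₗ[A] SymTen.TS A (Fin n → A) d :=
    fT e d (TSlaw A (Fin n → A) d).law
  have hr : r ∘ₗ (SymTen.TS A (Fin n → A) d).val.toLinearMap = LinearMap.id := by
    apply unique_linear e d
    rw [postcomp_id]
    exact postcomp_fTS e d (TSlaw A (Fin n → A) d).law (TSlaw A (Fin n → A) d).homog
  have : Module.Free A (⨂[A] _ : Fin d, (Fin n → A)) := Module.Free.of_basis (bT e d)
  exact Module.Flat.of_retract (SymTen.TS A (Fin n → A) d).val.toLinearMap r hr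

end FreeFlat

section FlatTS

variable {A : Type u} [CommRing A] {B : Type u} [CommRing B] [Algebra A B] [Module.Flat A B]
  (d : ℕ)

theorem exists_chart_TS_finset {ι : Type} (s : Finset ι) (z : ι → SymTen.TS A B d) :
    ∃ (n : ℕ) (u : (Fin n → A) →ₗ[A] B) (z' : ι → SymTen.TS A (Fin n → A) d),
      ∀ i ∈ s, TSm d u (z' i) = z i := by
  classical
  induction s using Finset.induction_on with
  | empty => exact ⟨0, 0, fun _ => 0, by simp⟩
  | insert i₀ s hi₀ ih =>
    obtain ⟨n₁, u₁, z₁, h₁⟩ := ih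
    obtain ⟨n₂, u₂, w, hw⟩ := exists_chart_TS d (z i₀)
    obtain ⟨n, u, i₁, i₂, e₁, e₂⟩ := joint u₁ u₂
    refine ⟨n, u, fun i => if i = i₀ then TSm d i₂ w else TSm d i₁ (z₁ i), ?_⟩
    intro i hi
    beta_reduce
    by_cases hii : i = i₀
    · rw [if_pos hii, ← LinearMap.comp_apply, ← TSm_comp, e₂, hw, hii]
    · rw [if_neg hii, ← LinearMap.comp_apply, ← TSm_comp, e₁]
      exact h₁ i ((Finset.mem_insert.mp hi).resolve_left hii)

/-- **the symmetric tensors of a flat algebra are flat** -/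
theorem flat_TS : Module.Flat A (SymTen.TS A B d) := by
  apply Module.Flat.of_forall_isTrivialRelation
  intro l f x hfx
  obtain ⟨n₀, u₀, z₀, hz₀⟩ := exists_chart_TS_finset d (Finset.univ : Finset (Fin l)) x
  have hkill : Tm d u₀ ((∑ i, f i • z₀ i : SymTen.TS A (Fin n₀ → A) d) :
      ⨂[A] _ : Fin d, (Fin n₀ → A)) = 0 := by
    have : TSm d u₀ (∑ i, f i • z₀ i) = 0 := by
      rw [map_sum, ← hfx]
      refine Finset.sum_congr rfl (fun i _ => ?_)
      rw [map_smul, hz₀ i (Finset.mem_univ _)]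
    exact congrArg Subtype.val this
  obtain ⟨k, h, g, hu, hk⟩ := pstar (A := A) (M := B) d n₀ u₀ _ hkill
  have hrel : ∑ i, f i • TSm d h (z₀ i) = 0 := by
    have e : ∑ i, f i • TSm d h (z₀ i) = TSm d h (∑ i, f i • z₀ i) := by
      rw [map_sum]
      simp only [map_smul]
    rw [e]
    apply Subtype.ext
    exact hk
  have := flat_TS_free (A := A) d k
  obtain ⟨k', a, y, hy, ha⟩ := Module.Flat.isTrivialRelation_of_sum_smul_eq_zero hrel
  refine ⟨k', a, fun j => TSm d g (y j), ?_, ha⟩
  intro i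
  have hyi : TSm d h (z₀ i) = ∑ j, a i j • y j := hy i
  rw [← hz₀ i (Finset.mem_univ _), hu, TSm_comp, LinearMap.comp_apply, hyi, map_sum]
  simp only [map_smul]

end FlatTS

section Main

variable {A : Type u} [CommRing A] {B : Type u} [CommRing B] [Algebra A B] {C : Type u}
  [CommRing C] [Algebra A C]

theorem main13729 {d : ℕ} (γ : PolLaw.MulLaw A B C d) (hγ : PolLaw.IsGammaD γ)
    [Module.Flat A B] : Module.Flat A C := by
  obtain ⟨e⟩ := nonempty_algEquiv_of_isGammaD γ hγ (TSlaw A B d) (isGammaD_TSlaw_of_flat d)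
  have := flat_TS (A := A) (B := B) d
  exact Module.Flat.of_linearEquiv e.toLinearEquiv

end Main

end Groth.Agent.Lib.Helper20.PLFlat
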