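import Mathlib
import Groth.Prelude.Def_PolLaw
import Groth.Agent.Lib.Helper20.PLCoeff
import Groth.Agent.Lib.Helper20.PLSpan
import Groth.Agent.Lib.Helper20.PLSub

/-!
# Surjectivity of Iversen's map `Γ^{e+1}(B) ⊗ B → Γ^e(B) ⊗ B`
-/

namespace Groth.Agent.Lib.Helper20.PLIv

open scoped TensorProduct
open MvPolynomial Groth.Agent.Lib.Helper20.PLCoeff Groth.Agent.Lib.Helper20.PLSpan
  Groth.Agent.Lib.Helper20.PLSub

universe u

variable {A B Cd Ce : Type u} [CommRing A] [CommRing B] [Algebra A B]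
    [CommRing Cd] [Algebra A Cd] [CommRing Ce] [Algebra A Ce] (e : ℕ)
    (γd : PolLaw.MulLaw A B Cd (e + 1))
    (γe : PolLaw.MulLaw A B Ce e)
    (ω : Cd ⊗[A] B →ₐ[A] Ce ⊗[A] B)
    (hω : ∀ (S : Type u) [CommSemiring S] [Algebra A S] (x y : S ⊗[A] B),
      ω.toLinearMap.lTensor S
        ((Algebra.TensorProduct.includeLeft : Cd →ₐ[A] Cd ⊗[A] B).toLinearMap.lTensor S
            (γd.law.toFun' S x) *
          (Algebra.TensorProduct.includeRight : B →ₐ[A] Cd ⊗[A] B).toLinearMap.lTensor S y) =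
      (Algebra.TensorProduct.includeLeft : Ce →ₐ[A] Ce ⊗[A] B).toLinearMap.lTensor S
          (γe.law.toFun' S x) *
        (Algebra.TensorProduct.includeRight : B →ₐ[A] Ce ⊗[A] B).toLinearMap.lTensor S (x * y))

include hω in
theorem omega_one_tmul (y : B) : ω ((1 : Cd) ⊗ₜ[A] y) = (1 : Ce) ⊗ₜ[A] y := by
  have h := hω A 1 ((1 : A) ⊗ₜ[A] y)
  rw [(γd.mult A).1, (γe.mult A).1, one_mul] at h
  have e1 : (Algebra.TensorProduct.includeLeft : Cd →ₐ[A] Cd ⊗[A] B).toLinearMap.lTensor A 1 =
      1 := by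
    rw [PolLaw.lTensor_algHom_apply, map_one]
  have e2 : (Algebra.TensorProduct.includeLeft : Ce →ₐ[A] Ce ⊗[A] B).toLinearMap.lTensor A 1 =
      1 := by
    rw [PolLaw.lTensor_algHom_apply, map_one]
  rw [e1, e2, one_mul, one_mul, LinearMap.lTensor_tmul, LinearMap.lTensor_tmul,
    LinearMap.lTensor_tmul] at h
  have h2 := congrArg (TensorProduct.lid A (Ce ⊗[A] B)) h
  rw [TensorProduct.lid_tmul, TensorProduct.lid_tmul, one_smul, one_smul] at h2
  exact h2

include hω in
theorem omega_coeff {ι : Type} [Fintype ι] [DecidableEq ι] (m : ι → B) (β : ι →₀ ℕ) :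
    ω (PLCoeff.coeff γd.law m β ⊗ₜ[A] (1 : B)) =
      ∑ i, if 1 ≤ β i then PLCoeff.coeff γe.law m (β - Finsupp.single i 1) ⊗ₜ[A] m i else 0 := by
  classical
  have h := hω (MvPolynomial ι A) (gen m) 1
  rw [mul_one] at h
  have h1 : (Algebra.TensorProduct.includeRight : B →ₐ[A] Cd ⊗[A] B).toLinearMap.lTensor
      (MvPolynomial ι A) 1 = 1 := by
    rw [PolLaw.lTensor_algHom_apply, map_one]
  rw [h1, mul_one] at h
  have h2 := congrArg (ext1 β) h
  rw [ext1_lTensor, ext1_lTensor] at h2
  change ω (PLCoeff.coeff γd.law m β ⊗ₜ[A] (1 : B)) = _ at h2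
  rw [h2, toFun'_gen γe.law m (le_refl _)]
  unfold gen
  simp only [map_sum, Finset.sum_mul_sum]
  rw [Finset.sum_comm]
  refine Finset.sum_congr rfl (fun i _ => ?_)
  have hterm : ∀ α ∈ csupp γe.law m,
      ext1 β (((Algebra.TensorProduct.includeLeft : Ce →ₐ[A] Ce ⊗[A] B).toLinearMap.lTensor
          (MvPolynomial ι A)) (monomial α (1 : A) ⊗ₜ[A] PLCoeff.coeff γe.law m α) *
        ((Algebra.TensorProduct.includeRight : B →ₐ[A] Ce ⊗[A] B).toLinearMap.lTensor
          (MvPolynomial ι A)) (X i ⊗ₜ[A] m i)) =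
      if 1 ≤ β i then (if α = β - Finsupp.single i 1 then
        PLCoeff.coeff γe.law m α ⊗ₜ[A] m i else 0) else 0 := by
    intro α _
    rw [LinearMap.lTensor_tmul, LinearMap.lTensor_tmul, Algebra.TensorProduct.tmul_mul_tmul,
      ext1_tmul, AlgHom.toLinearMap_apply, AlgHom.toLinearMap_apply,
      Algebra.TensorProduct.includeLeft_apply, Algebra.TensorProduct.includeRight_apply,
      Algebra.TensorProduct.tmul_mul_tmul, one_mul, mul_one, MvPolynomial.coeff_mul_X']
    by_cases hβ : 1 ≤ β i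
    · have : i ∈ β.support := by
        rw [Finsupp.mem_support_iff]
        omega
      rw [if_pos this, if_pos hβ, coeff_monomial]
      by_cases hα : α = β - Finsupp.single i 1
      · rw [if_pos hα, if_pos hα, one_smul]
      · rw [if_neg hα, if_neg hα, zero_smul]
    · have : i ∉ β.support := by
        rw [Finsupp.mem_support_iff]
        omega
      rw [if_neg this, if_neg hβ, zero_smul]
  rw [Finset.sum_congr rfl hterm]
  by_cases hβ : 1 ≤ β i
  · simp only [if_pos hβ]
    rw [Finset.sum_ite_eq']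
    by_cases hmem : β - Finsupp.single i 1 ∈ csupp γe.law m
    · rw [if_pos hmem]
    · rw [if_neg hmem, coeff_eq_zero_of_notMem hmem, TensorProduct.zero_tmul]
  · simp only [if_neg hβ]
    exact Finset.sum_const_zero

include hω in
theorem coeff_tmul_one_mem {ι : Type} [Fintype ι] (m : ι → B) :
    ∀ (j : ℕ) (α : Option ι →₀ ℕ), e + 1 - j ≤ α none →
      PLCoeff.coeff γe.law (fun o : Option ι => o.elim 1 m) α ⊗ₜ[A] (1 : B) ∈ ω.range := by
  classical
  intro j
  induction j with
  | zero =>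
    intro α hα
    have h0 : PLCoeff.coeff γe.law (fun o : Option ι => o.elim 1 m) α = 0 := by
      apply coeff_eq_zero_of_sum_ne γe.law γe.homog
      have : α none ≤ ∑ i, α i :=
        Finset.single_le_sum (fun _ _ => Nat.zero_le _) (Finset.mem_univ none)
      omega
    rw [h0, TensorProduct.zero_tmul]
    exact ω.range.zero_mem
  | succ j ih =>
    intro α hα
    have h := omega_coeff e γd γe ω hω (fun o : Option ι => o.elim 1 m)
      (α + Finsupp.single none 1)
    rw [Fintype.sum_option] at h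
    have h0 : 1 ≤ (α + Finsupp.single none 1 : Option ι →₀ ℕ) none := by simp
    rw [if_pos h0, add_tsub_cancel_right] at h
    have hrest : ∀ i : ι, (if 1 ≤ (α + Finsupp.single none 1 : Option ι →₀ ℕ) (some i) then
        PLCoeff.coeff γe.law (fun o : Option ι => o.elim 1 m)
          (α + Finsupp.single none 1 - Finsupp.single (some i) 1) ⊗ₜ[A]
            (fun o : Option ι => o.elim 1 m) (some i) else 0) ∈ ω.range := by
      intro i
      split_ifs with hi
      · have h1 := ih (α + Finsupp.single none 1 - Finsupp.single (some i) 1) (by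
          simp only [Finsupp.coe_tsub, Finsupp.coe_add, Pi.sub_apply, Pi.add_apply,
            Finsupp.single_eq_same, ne_eq, reduceCtorEq, not_false_eq_true,
            Finsupp.single_eq_of_ne, tsub_zero]
          omega)
        have h2 : PLCoeff.coeff γe.law (fun o : Option ι => o.elim 1 m)
            (α + Finsupp.single none 1 - Finsupp.single (some i) 1) ⊗ₜ[A]
              (fun o : Option ι => o.elim 1 m) (some i) =
            (PLCoeff.coeff γe.law (fun o : Option ι => o.elim 1 m)
              (α + Finsupp.single none 1 - Finsupp.single (some i) 1) ⊗ₜ[A] (1 : B)) *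
              ((1 : Ce) ⊗ₜ[A] m i) := by
          rw [Algebra.TensorProduct.tmul_mul_tmul, mul_one, one_mul]
          rfl
        rw [h2]
        exact ω.range.mul_mem h1 ⟨1 ⊗ₜ m i, omega_one_tmul e γd γe ω hω (m i)⟩
      · exact ω.range.zero_mem
    have h3 : PLCoeff.coeff γe.law (fun o : Option ι => o.elim 1 m) α ⊗ₜ[A] (1 : B) =
        ω (PLCoeff.coeff γd.law (fun o : Option ι => o.elim 1 m) (α + Finsupp.single none 1) ⊗ₜ[A]
          (1 : B)) - ∑ i : ι, (if 1 ≤ (α + Finsupp.single none 1 : Option ι →₀ ℕ) (some i) then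
        PLCoeff.coeff γe.law (fun o : Option ι => o.elim 1 m)
          (α + Finsupp.single none 1 - Finsupp.single (some i) 1) ⊗ₜ[A]
            (fun o : Option ι => o.elim 1 m) (some i) else 0) :=
      eq_sub_of_add_eq h.symm
    rw [h3]
    exact ω.range.sub_mem ⟨_, rfl⟩ (ω.range.sum_mem (fun i _ => hrest i))

include hω in
theorem tmul_one_mem (hγe : PolLaw.IsGammaD γe) (c : Ce) : c ⊗ₜ[A] (1 : B) ∈ ω.range := by
  have hc : c ∈ coeffSpan γe.law := by
    rw [coeffSpan_eq_top γe hγe]
    trivial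
  have hle : coeffSpan γe.law ≤
      (Subalgebra.toSubmodule ω.range).comap ((TensorProduct.mk A Ce B).flip 1) := by
    unfold coeffSpan
    rw [Submodule.span_le]
    rintro _ ⟨ι, _, m, β, rfl⟩
    have h1 := coeff_comp_injective γe.law (some : ι → Option ι) (Option.some_injective ι)
      (fun o => o.elim 1 m) β
    change PLCoeff.coeff γe.law m β ⊗ₜ[A] (1 : B) ∈ ω.range
    have h2 : PLCoeff.coeff γe.law m β =
        PLCoeff.coeff γe.law (fun o : Option ι => o.elim 1 m) (Finsupp.mapDomain some β) := h1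
    rw [h2]
    exact coeff_tmul_one_mem e γd γe ω hω m (e + 1) _ (by omega)
  exact hle hc

include hω in
theorem main13399 (hγe : PolLaw.IsGammaD γe) : Function.Surjective ω := by
  intro z
  induction z using TensorProduct.induction_on with
  | zero => exact ⟨0, map_zero _⟩
  | tmul c y =>
    have h1 : c ⊗ₜ[A] y = (c ⊗ₜ[A] (1 : B)) * ((1 : Ce) ⊗ₜ[A] y) := by
      rw [Algebra.TensorProduct.tmul_mul_tmul, mul_one, one_mul]
    rw [h1]
    obtain ⟨w, hw⟩ := tmul_one_mem e γd γe ω hω hγe c
    exact ⟨w * (1 ⊗ₜ y), by rw [map_mul, omega_one_tmul e γd γe ω hω]; exact congrArg (· * _) hw⟩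
  | add a b ha hb =>
    obtain ⟨x, rfl⟩ := ha
    obtain ⟨y, rfl⟩ := hb
    exact ⟨x + y, map_add _ _ _⟩

end Groth.Agent.Lib.Helper20.PLIv
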