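import Mathlib
import Groth.Prelude.Def_PolLaw
import Groth.Prelude.Def_PolLaw2
import Groth.Agent.S13174
import Groth.Agent.Lib.lead.PolLawProd
import Groth.Agent.Lib.Helper20.PLDet5

/-!
# Multiplicativity and homogeneity of a polynomial law can be tested on polynomial rings
-/

namespace Groth.Agent.Lib.Helper20.PLPoly

open scoped TensorProduct
open Groth.Agent.Lib.lead.PolLawProd

universe u

section Test

variable {A : Type u} [CommRing A] {B : Type u} [CommRing B] [Algebra A B]
  {C : Type u} [CommRing C] [Algebra A C]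

theorem isMult_of_poly (F : B →ₚₗ[A] C)
    (h1 : ∀ n : ℕ, F.toFun' (MvPolynomial (Fin n) A) 1 = 1)
    (h2 : ∀ (n : ℕ) (x y : MvPolynomial (Fin n) A ⊗[A] B),
      F.toFun' (MvPolynomial (Fin n) A) (x * y) =
        F.toFun' (MvPolynomial (Fin n) A) x * F.toFun' (MvPolynomial (Fin n) A) y) :
    PolLaw.IsMult F := by
  intro S _ _
  constructor
  · have h := PolynomialLaw.isCompat_apply' (f := F)
      (Algebra.ofId A S |>.comp (MvPolynomial.isEmptyAlgEquiv A (Fin 0)).toAlgHom) (1 : _ ⊗[A] B)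
    rw [rTensor_one, h1 0, rTensor_one] at h
    exact h.symm
  · intro x y
    obtain ⟨n, ψ, p, rfl⟩ := PolynomialLaw.exists_lift (R := A) x
    obtain ⟨n', ψ', p', rfl⟩ := PolynomialLaw.exists_lift (R := A) y
    obtain ⟨Ψ, θ, θ', hθ, hθ'⟩ := Groth.Agent.S13174.exists_combine ψ ψ'
    have e1 : ψ.toLinearMap.rTensor B p = Ψ.toLinearMap.rTensor B (θ.toLinearMap.rTensor B p) := by
      rw [← LinearMap.comp_apply, ← LinearMap.rTensor_comp, ← AlgHom.comp_toLinearMap, hθ]
    have e2 : ψ'.toLinearMap.rTensor B p' =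
        Ψ.toLinearMap.rTensor B (θ'.toLinearMap.rTensor B p') := by
      rw [← LinearMap.comp_apply, ← LinearMap.rTensor_comp, ← AlgHom.comp_toLinearMap, hθ']
    rw [e1, e2]
    generalize θ.toLinearMap.rTensor B p = q
    generalize θ'.toLinearMap.rTensor B p' = q'
    have hm : ∀ (D : Type u) [CommRing D] [Algebra A D] (a b : MvPolynomial (Fin (n + n')) A ⊗[A] D),
        Ψ.toLinearMap.rTensor D (a * b) =
          Ψ.toLinearMap.rTensor D a * Ψ.toLinearMap.rTensor D b := by
      intro D _ _ a b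
      rw [PolLaw.rTensor_algHom_apply, PolLaw.rTensor_algHom_apply, PolLaw.rTensor_algHom_apply,
        map_mul]
    rw [← hm, ← PolynomialLaw.isCompat_apply', ← PolynomialLaw.isCompat_apply',
      ← PolynomialLaw.isCompat_apply', h2, hm]

end Test

section Homog

variable {A : Type u} [CommRing A] {M : Type u} [AddCommGroup M] [Module A M]
  {N : Type u} [AddCommGroup N] [Module A N]

theorem isHomog_of_poly (F : M →ₚₗ[A] N) (d : ℕ)
    (h : ∀ (n : ℕ) (s : MvPolynomial (Fin n) A) (x : MvPolynomial (Fin n) A ⊗[A] M),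
      F.toFun' (MvPolynomial (Fin n) A) (s • x) = s ^ d • F.toFun' (MvPolynomial (Fin n) A) x) :
    PolLaw.IsHomog F d := by
  intro S _ _ s x
  obtain ⟨n, ψ, p, q, rfl, rfl⟩ := PolynomialLaw.exists_lift' (R := A) x s
  rw [← Groth.Agent.Lib.Helper20.PLDet.rTensor_smul_alg, ← PolynomialLaw.isCompat_apply', h,
    Groth.Agent.Lib.Helper20.PLDet.rTensor_smul_alg, map_pow, PolynomialLaw.isCompat_apply']

end Homog

end Groth.Agent.Lib.Helper20.PLPoly
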