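import Mathlib
import Groth.Prelude.Def_PolLaw
import Groth.Prelude.Def_PolLaw2
import Groth.Agent.S13174
import Groth.Agent.Lib.lead.PolLawProd
import Groth.Agent.Lib.Helper20.PLNorm3
import Groth.Agent.Lib.Helper20.PLPoly

/-!
# The determinant law of a finite module over a normal domain
-/

namespace Groth.Agent.Lib.Helper20.PLNorm

open scoped TensorProduct
open Groth.Agent.Lib.lead.PolLawProd

universe u

attribute [local instance] MvPolynomial.algebraMvPolynomial

section Delta

variable {A : Type u} [CommRing A] [IsDomain A] [IsIntegrallyClosed A]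
  {B : Type u} [CommRing B] [Algebra A B]
  (M : Type u) [AddCommGroup M] [Module A M] [Module B M] [IsScalarTower A B M]
  [Module.Finite A M]

/-- the polynomial ring over `A` -/
abbrev Pn (A : Type u) [CommRing A] (n : ℕ) := MvPolynomial (Fin n) A

/-- the polynomial ring over the fraction field -/
abbrev Qn (A : Type u) [CommRing A] (n : ℕ) := MvPolynomial (Fin n) (FractionRing A)

/-- the base change `A[t] ⊗ B → K[t] ⊗ B` -/
noncomputable abbrev toQ (A : Type u) [CommRing A] (B : Type u) [CommRing B] [Algebra A B] (n : ℕ) :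
    Pn A n ⊗[A] B →ₐ[A] Qn A n ⊗[A] B :=
  Algebra.TensorProduct.map (IsScalarTower.toAlgHom A (Pn A n) (Qn A n)) (AlgHom.id A B)

instance instFreeQ (n : ℕ) : Module.Free (Qn A n) (Qn A n ⊗[A] M) :=
  free_of_field M (FractionRing A) (Qn A n)

theorem algebraMap_PQ_injective (n : ℕ) :
    Function.Injective (algebraMap (Pn A n) (Qn A n)) :=
  MvPolynomial.map_injective _ (IsFractionRing.injective A (FractionRing A))

theorem detAct_mem_range (n : ℕ) (x : Pn A n ⊗[A] B) :
    PolLaw.detAct M (Qn A n) (toQ A B n x) ∈ Set.range (algebraMap (Pn A n) (Qn A n)) := by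
  have hint := isIntegral_detAct M (P := Pn A n) (R := Qn A n) x
  rw [MvPolynomial.isIntegral_iff_isIntegral_coeff] at hint
  rw [MvPolynomial.algebraMap_def, MvPolynomial.mem_range_map_iff_coeffs_subset]
  intro c hc
  obtain ⟨e, -, rfl⟩ := MvPolynomial.mem_coeffs_iff.1 hc
  exact IsIntegrallyClosed.isIntegral_iff.1 (hint e)

/-- the integral determinant -/
noncomputable def delta (n : ℕ) (x : Pn A n ⊗[A] B) : Pn A n :=
  Classical.choose (detAct_mem_range M n x)

theorem delta_spec (n : ℕ) (x : Pn A n ⊗[A] B) :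
    algebraMap (Pn A n) (Qn A n) (delta M n x) = PolLaw.detAct M (Qn A n) (toQ A B n x) :=
  Classical.choose_spec (detAct_mem_range M n x)

theorem delta_one (n : ℕ) : delta M n (1 : Pn A n ⊗[A] B) = 1 := by
  apply algebraMap_PQ_injective n
  rw [delta_spec, map_one, PolLaw.detAct_one, map_one]

theorem delta_mul (n : ℕ) (x y : Pn A n ⊗[A] B) :
    delta M n (x * y) = delta M n x * delta M n y := by
  apply algebraMap_PQ_injective n
  rw [delta_spec, map_mul, PolLaw.detAct_mul, map_mul, delta_spec, delta_spec]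

theorem delta_smul (d : ℕ)
    (hd : Module.finrank (FractionRing A) (FractionRing A ⊗[A] M) = d) (n : ℕ) (s : Pn A n)
    (x : Pn A n ⊗[A] B) : delta M n (s • x) = s ^ d * delta M n x := by
  apply algebraMap_PQ_injective n
  rw [delta_spec, map_mul, map_pow, delta_spec]
  have h1 : toQ A B n (s • x) = algebraMap (Pn A n) (Qn A n) s • toQ A B n x := by
    rw [smul_eq_tmul_mul, map_mul, smul_eq_tmul_mul, Algebra.TensorProduct.map_tmul, map_one]
    rfl
  rw [h1]
  unfold PolLaw.detAct
  rw [map_smul, LinearMap.det_smul, finrank_of_field M (FractionRing A) (Qn A n), hd]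

/-- extension of an algebra map of polynomial rings to the fraction field -/
noncomputable def extK {n m : ℕ} (φ : Pn A n →ₐ[A] Pn A m) : Qn A n →ₐ[A] Qn A m :=
  (MvPolynomial.aeval (fun i => algebraMap (Pn A m) (Qn A m) (φ (MvPolynomial.X i))) :
    Qn A n →ₐ[FractionRing A] Qn A m).restrictScalars A

theorem extK_comp {n m : ℕ} (φ : Pn A n →ₐ[A] Pn A m) :
    (extK φ).comp (IsScalarTower.toAlgHom A (Pn A n) (Qn A n)) =
      (IsScalarTower.toAlgHom A (Pn A m) (Qn A m)).comp φ := by
  apply MvPolynomial.algHom_ext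
  intro i
  simp [extK]

theorem extK_toQ {n m : ℕ} (φ : Pn A n →ₐ[A] Pn A m) (x : Pn A n ⊗[A] B) :
    Algebra.TensorProduct.map (extK φ) (AlgHom.id A B) (toQ A B n x) =
      toQ A B m (Algebra.TensorProduct.map φ (AlgHom.id A B) x) := by
  induction x using TensorProduct.induction_on with
  | zero => simp
  | tmul p b =>
    rw [Algebra.TensorProduct.map_tmul, Algebra.TensorProduct.map_tmul,
      Algebra.TensorProduct.map_tmul, Algebra.TensorProduct.map_tmul]
    congr 1
    exact congrArg (fun f => f p) (extK_comp φ)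
  | add x y hx hy => rw [map_add, map_add, hx, hy, map_add, map_add]

theorem delta_compat {n m : ℕ} (φ : Pn A n →ₐ[A] Pn A m) (x : Pn A n ⊗[A] B) :
    φ (delta M n x) = delta M m (Algebra.TensorProduct.map φ (AlgHom.id A B) x) := by
  apply algebraMap_PQ_injective m
  have h1 : algebraMap (Pn A m) (Qn A m) (φ (delta M n x)) =
      extK φ (algebraMap (Pn A n) (Qn A n) (delta M n x)) :=
    (congrArg (fun f => f (delta M n x)) (extK_comp φ)).symm
  rw [h1, delta_spec, delta_spec, ← extK_toQ, detAct_map_of_free M (extK φ) (toQ A B n x)]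

end Delta

end Groth.Agent.Lib.Helper20.PLNorm
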