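import Mathlib
import Groth.Prelude.Def_PolLaw
import Groth.Prelude.Def_PolLaw2
import Groth.Agent.S13174
import Groth.Agent.Lib.Helper20.PLNorm4

/-!
# The determinant law of a finite module over a normal domain: the law
-/

namespace Groth.Agent.Lib.Helper20.PLNorm

open scoped TensorProduct
open Groth.Agent.Lib.lead.PolLawProd

universe u

attribute [local instance] MvPolynomial.algebraMvPolynomial

section Law

variable {A : Type u} [CommRing A] [IsDomain A] [IsIntegrallyClosed A]
  {B : Type u} [CommRing B] [Algebra A B]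
  (M : Type u) [AddCommGroup M] [Module A M] [Module B M] [IsScalarTower A B M]
  [Module.Finite A M]

/-- the family of members over polynomial rings -/
noncomputable def Tfam (n : ℕ) (x : Pn A n ⊗[A] B) : Pn A n ⊗[A] A :=
  delta M n x ⊗ₜ[A] (1 : A)

theorem Tfam_compat : Groth.Agent.S13174.Compat (Tfam (A := A) (B := B) M) := by
  intro n m φ
  funext x
  simp only [Function.comp_apply]
  rw [Tfam, Tfam, LinearMap.rTensor_tmul, AlgHom.toLinearMap_apply, delta_compat,
    PolLaw.rTensor_algHom_apply]

theorem exists_law : ∃ F : B →ₚₗ[A] A, ∀ (n : ℕ) (x : Pn A n ⊗[A] B),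
    F.toFun' (Pn A n) x = delta M n x ⊗ₜ[A] (1 : A) := by
  obtain ⟨F, hF⟩ := (Groth.Agent.S13174.result (A := A) (M := B) (N := A)).2
    ⟨Tfam (A := A) (B := B) M, Tfam_compat M⟩
  refine ⟨F, fun n x => ?_⟩
  exact congrFun (congrFun (congrArg Subtype.val hF) n) x

omit [IsDomain A] [IsIntegrallyClosed A] in
theorem algebraMap_AL_injective (n : ℕ) :
    Function.Injective (algebraMap A (FractionRing (Pn A n))) := by
  rw [IsScalarTower.algebraMap_eq A (Pn A n) (FractionRing (Pn A n))]
  exact (IsFractionRing.injective (Pn A n) (FractionRing (Pn A n))).comp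
    (MvPolynomial.C_injective (Fin n) A)

/-- `K[t] → Frac(A[t])` -/
noncomputable def toL (n : ℕ) : Qn A n →ₐ[A] FractionRing (Pn A n) :=
  { MvPolynomial.eval₂Hom (IsFractionRing.lift (algebraMap_AL_injective (A := A) n))
      (fun i => algebraMap (Pn A n) (FractionRing (Pn A n)) (MvPolynomial.X i)) with
    commutes' := fun a => by
      change MvPolynomial.eval₂Hom _ _ (algebraMap A (Qn A n) a) = _
      rw [MvPolynomial.algebraMap_apply, MvPolynomial.eval₂Hom_C, IsFractionRing.lift_algebraMap] }

theorem toL_X (n : ℕ) (i : Fin n) :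
    toL (A := A) n (MvPolynomial.X i) =
      algebraMap (Pn A n) (FractionRing (Pn A n)) (MvPolynomial.X i) := by
  change MvPolynomial.eval₂Hom _ _ (MvPolynomial.X i) = _
  rw [MvPolynomial.eval₂Hom_X']

theorem toL_comp (n : ℕ) :
    (toL (A := A) n).comp (IsScalarTower.toAlgHom A (Pn A n) (Qn A n)) =
      IsScalarTower.toAlgHom A (Pn A n) (FractionRing (Pn A n)) := by
  apply MvPolynomial.algHom_ext
  intro i
  rw [AlgHom.comp_apply, IsScalarTower.coe_toAlgHom', IsScalarTower.coe_toAlgHom',
    MvPolynomial.algebraMap_def, MvPolynomial.map_X, toL_X]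

theorem toL_toQ (n : ℕ) (x : Pn A n ⊗[A] B) :
    Algebra.TensorProduct.map (toL (A := A) n) (AlgHom.id A B) (toQ A B n x) =
      Algebra.TensorProduct.map (IsScalarTower.toAlgHom A (Pn A n) (FractionRing (Pn A n)))
        (AlgHom.id A B) x := by
  induction x using TensorProduct.induction_on with
  | zero => simp
  | tmul p b =>
    rw [Algebra.TensorProduct.map_tmul, Algebra.TensorProduct.map_tmul,
      Algebra.TensorProduct.map_tmul]
    congr 1
    exact congrArg (fun f => f p) (toL_comp n)
  | add x y hx hy => rw [map_add, map_add, hx, hy, map_add]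

theorem delta_value (n : ℕ) (x : Pn A n ⊗[A] B) :
    algebraMap (Pn A n) (FractionRing (Pn A n)) (delta M n x) =
      LinearMap.det (PolLaw.actEnd M (FractionRing (Pn A n))
        (Algebra.TensorProduct.map
          (IsScalarTower.toAlgHom A (Pn A n) (FractionRing (Pn A n))) (AlgHom.id A B) x)) := by
  have h1 : algebraMap (Pn A n) (FractionRing (Pn A n)) (delta M n x) =
      toL (A := A) n (algebraMap (Pn A n) (Qn A n) (delta M n x)) :=
    (congrArg (fun f => f (delta M n x)) (toL_comp n)).symm
  rw [h1, delta_spec, ← detAct_map_of_free M (toL (A := A) n) (toQ A B n x), toL_toQ]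
  rfl

theorem main13875 (d : ℕ)
    (hd : Module.finrank (FractionRing A) (FractionRing A ⊗[A] M) = d) :
    ∃! N : PolLaw.MulLaw A B A d, ∀ (n : ℕ) (x : MvPolynomial (Fin n) A ⊗[A] B),
      algebraMap (MvPolynomial (Fin n) A) (FractionRing (MvPolynomial (Fin n) A))
          (TensorProduct.rid A (MvPolynomial (Fin n) A) (N.law.toFun' (MvPolynomial (Fin n) A) x)) =
        LinearMap.det (PolLaw.actEnd M (FractionRing (MvPolynomial (Fin n) A))
          (Algebra.TensorProduct.map
            (IsScalarTower.toAlgHom A (MvPolynomial (Fin n) A) (FractionRing (MvPolynomial (Fin n) A)))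
            (AlgHom.id A B) x)) := by
  obtain ⟨F, hF⟩ := exists_law (A := A) (B := B) M
  have hmult : PolLaw.IsMult F := by
    apply Groth.Agent.Lib.Helper20.PLPoly.isMult_of_poly
    · intro n
      rw [hF, delta_one]
      rfl
    · intro n x y
      rw [hF, hF, hF, delta_mul, Algebra.TensorProduct.tmul_mul_tmul, mul_one]
  have hhom : PolLaw.IsHomog F d := by
    apply Groth.Agent.Lib.Helper20.PLPoly.isHomog_of_poly
    intro n s x
    rw [hF, hF, delta_smul M d hd, TensorProduct.smul_tmul', smul_eq_mul]
  refine ⟨⟨F, hhom, hmult⟩, fun n x => ?_, ?_⟩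
  · change algebraMap _ _ (TensorProduct.rid A (Pn A n) (F.toFun' (Pn A n) x)) = _
    rw [hF, TensorProduct.rid_tmul, one_smul]
    exact delta_value M n x
  · intro N' hN'
    apply PolLaw.MulLaw.ext
    apply (Groth.Agent.S13174.result (A := A) (M := B) (N := A)).1
    apply Subtype.ext
    funext n x
    apply (TensorProduct.rid A (Pn A n)).injective
    apply IsFractionRing.injective (Pn A n) (FractionRing (Pn A n))
    change algebraMap _ _ (TensorProduct.rid A (Pn A n) (N'.law.toFun' (Pn A n) x)) =
      algebraMap _ _ (TensorProduct.rid A (Pn A n) (F.toFun' (Pn A n) x))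
    rw [hN' n x, hF, TensorProduct.rid_tmul, one_smul, delta_value]

end Law

end Groth.Agent.Lib.Helper20.PLNorm
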