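import Mathlib
import Groth.Agent.Lib.Helper20.PLPolar2

/-!
# Purely inseparable extensions and coefficients of powers of linear forms
-/

namespace Groth.Agent.Lib.Helper20.PLSN

open Module Polynomial IntermediateField Groth.Agent.Lib.Helper20.PLPolar

set_option linter.style.haveILetI false

section PI

variable {k K : Type*} [Field k] [Field K] [Algebra k K] [IsPurelyInseparable k K]
  [FiniteDimensional k K]

theorem pow_finrank_mem (q : ℕ) [ExpChar k q] (z : K) :
    z ^ (finrank k K) ∈ (algebraMap k K).range := by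
  obtain ⟨n, y, hmin⟩ := IsPurelyInseparable.minpoly_eq_X_pow_sub_C k q z
  have hint : IsIntegral k z := Algebra.IsIntegral.isIntegral z
  have hdeg : finrank k k⟮z⟯ = q ^ n := by
    rw [IntermediateField.adjoin.finrank hint, hmin, natDegree_sub_C, natDegree_X_pow]
  have hdvd : q ^ n ∣ finrank k K := by
    rw [← hdeg, ← finrank_mul_finrank k k⟮z⟯ K]
    exact dvd_mul_right _ _
  have hz : z ^ (q ^ n) = algebraMap k K y := by
    have h0 := minpoly.aeval k z
    rw [hmin, map_sub, map_pow, aeval_X, aeval_C] at h0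
    exact sub_eq_zero.mp h0
  obtain ⟨m, hm⟩ := hdvd
  rw [hm, pow_mul, hz, ← map_pow]
  exact ⟨y ^ m, rfl⟩

end PI

section Coef

variable {k K : Type*} [Field k] [Field K] (ι : k →+* K) {σ : Type} [Fintype σ]

/-- coefficients of `(∑ X_j z_j)^d` -/
theorem coeff_sum_pow [DecidableEq (σ →₀ ℕ)] (d : ℕ) (z : σ → K) (β : σ →₀ ℕ) :
    MvPolynomial.coeff β ((∑ j, MvPolynomial.X j * MvPolynomial.C (z j) :
      MvPolynomial σ K) ^ d) =
      ∑ c : Fin d → σ, if typ c = β then ∏ i, z (c i) else 0 := by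
  classical
  have h1 : (∑ j, MvPolynomial.X j * MvPolynomial.C (z j) : MvPolynomial σ K) ^ d =
      ∏ _i : Fin d, ∑ j, MvPolynomial.X j * MvPolynomial.C (z j) := by
    rw [Finset.prod_const, Finset.card_univ, Fintype.card_fin]
  rw [h1, Finset.prod_univ_sum, Fintype.piFinset_univ, MvPolynomial.coeff_sum]
  refine Finset.sum_congr rfl (fun c _ => ?_)
  have h2 : ∏ i, (MvPolynomial.X (c i) * MvPolynomial.C (z (c i)) : MvPolynomial σ K) =
      MvPolynomial.monomial (typ c) (∏ i, z (c i)) := by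
    rw [Finset.prod_mul_distrib, ← map_prod]
    have h3 : ∏ i, (MvPolynomial.X (c i) : MvPolynomial σ K) =
        MvPolynomial.monomial (typ c) 1 := by
      unfold typ
      rw [MvPolynomial.monomial_sum_one]
      rfl
    rw [h3, mul_comm, MvPolynomial.C_mul_monomial, mul_one]
  rw [h2]
  have h4 := MvPolynomial.coeff_monomial β (typ c) (∏ i, z (c i))
  rw [h4]
  by_cases h : typ c = β
  · rw [if_pos h, if_pos h]
  · rw [if_neg h, if_neg h]

theorem sum_ite_prod_mem [DecidableEq (σ →₀ ℕ)] (q : ℕ) [ExpChar K q] (e m : ℕ)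
    (hN : ∀ z : K, z ^ (q ^ e) ∈ ι.range) (z : σ → K) (β : σ →₀ ℕ) :
    (∑ c : Fin (q ^ e * m) → σ, if typ c = β then ∏ i, z (c i) else 0) ∈ ι.range := by
  rw [← coeff_sum_pow]
  choose w hw using fun j => hN (z j)
  haveI : ExpChar (MvPolynomial σ K) q := inferInstance
  have h1 : (∑ j, MvPolynomial.X j * MvPolynomial.C (z j) : MvPolynomial σ K) ^ (q ^ e) =
      MvPolynomial.map ι (∑ j, MvPolynomial.X j ^ (q ^ e) * MvPolynomial.C (w j)) := by
    rw [sum_pow_char_pow, map_sum]
    refine Finset.sum_congr rfl (fun j _ => ?_)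
    rw [mul_pow, ← map_pow, ← hw j, map_mul, map_pow, MvPolynomial.map_X, MvPolynomial.map_C]
  rw [pow_mul, h1, ← map_pow, MvPolynomial.coeff_map]
  exact ⟨_, rfl⟩

end Coef

end Groth.Agent.Lib.Helper20.PLSN
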