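import Mathlib
import Groth.Prelude.Def_SymTen
import Groth.Prelude.Def_HTop2
import Groth.Prelude.Def_Flat
import Groth.Agent.Lib.Helper20.PLSN1
import Groth.Agent.Lib.Helper20.PLFlat2
import Groth.Agent.Lib.Helper9.SN1
import Groth.Agent.Lib.Helper9.SNLocal
import Groth.Agent.Lib.Helper9.UnivHomeoRing4

/-!
# Multiplication of symmetric tensors lands in a seminormal subring
-/

namespace Groth.Agent.Lib.Helper20.PLSN

open scoped TensorProduct
open Module CategoryTheory AlgebraicGeometry
  Groth.Agent.Lib.Helper20.PLCoeff Groth.Agent.Lib.Helper20.PLTS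
  Groth.Agent.Lib.Helper20.PLSpan Groth.Agent.Lib.Helper20.PLFlat
  Groth.Agent.Lib.Helper20.PLPolar Groth.Agent.Lib.Helper9

universe u
set_option linter.style.haveILetI false

section Key

variable {A B : Type u} [CommRing A] [CommRing B] [Algebra A B] [Module.Flat A B]
    {k K : Type u} [Field k] [Field K] (ι : k →+* K) (θ : B →+* K) (a : A →+* k)

theorem key_field (hθa : ∀ r : A, θ (algebraMap A B r) = ι (a r))
    (q : ℕ) [ExpChar K q] (e m : ℕ) (hN : ∀ z : K, z ^ (q ^ e) ∈ ι.range)
    (x : ⨂[A] _ : Fin (q ^ e * m), B) (hx : x ∈ SymTen.TS A B (q ^ e * m)) :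
    θ (PiTensorProduct.lift (MultilinearMap.mkPiAlgebra A (Fin (q ^ e * m)) B) x) ∈ ι.range := by
  classical
  have hmem : (⟨x, hx⟩ : SymTen.TS A B (q ^ e * m)) ∈ coeffSpan (TSlaw A B (q ^ e * m)).law := by
    rw [coeffSpan_TSlaw_eq_top_of_flat]
    trivial
  have hgen : ∀ w : SymTen.TS A B (q ^ e * m), w ∈ coeffSpan (TSlaw A B (q ^ e * m)).law →
      θ (PiTensorProduct.lift (MultilinearMap.mkPiAlgebra A (Fin (q ^ e * m)) B)
        (w : ⨂[A] _ : Fin (q ^ e * m), B)) ∈ ι.range := by
    intro w hw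
    unfold coeffSpan at hw
    induction hw using Submodule.span_induction with
    | mem w hw =>
      obtain ⟨σ, _, b, β, rfl⟩ := hw
      rw [val_coeff_TSlaw, coeff_Tlaw, map_sum, map_sum]
      have h1 : ∀ c : Fin (q ^ e * m) → σ,
          θ (PiTensorProduct.lift (MultilinearMap.mkPiAlgebra A (Fin (q ^ e * m)) B)
            (if typ c = β then PiTensorProduct.tprod A (fun i => b (c i)) else 0)) =
          if typ c = β then ∏ i, (fun j => θ (b j)) (c i) else 0 := by
        intro c
        by_cases h : typ c = β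
        · rw [if_pos h, if_pos h, PiTensorProduct.lift.tprod, MultilinearMap.mkPiAlgebra_apply,
            map_prod]
        · rw [if_neg h, if_neg h, map_zero, map_zero]
      rw [Finset.sum_congr rfl (fun c _ => h1 c)]
      exact sum_ite_prod_mem ι q e m hN (fun j => θ (b j)) β
    | zero =>
      rw [ZeroMemClass.coe_zero, map_zero, map_zero]
      exact ι.range.zero_mem
    | add w₁ w₂ _ _ h₁ h₂ =>
      rw [AddMemClass.coe_add, map_add, map_add]
      exact ι.range.add_mem h₁ h₂
    | smul r w _ h₁ =>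
      have h2 : ((r • w : SymTen.TS A B (q ^ e * m)) : ⨂[A] _ : Fin (q ^ e * m), B) =
          r • (w : ⨂[A] _ : Fin (q ^ e * m), B) := rfl
      rw [h2, map_smul, Algebra.smul_def, map_mul, hθa]
      exact ι.range.mul_mem ⟨a r, rfl⟩ h₁
  exact hgen ⟨x, hx⟩ hmem

end Key

end Groth.Agent.Lib.Helper20.PLSN
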