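import Mathlib
import Groth.Prelude.Def_SymTen
import Groth.Prelude.Def_HTop2
import Groth.Prelude.Def_Flat
import Groth.Agent.Lib.Helper20.PLSN2

/-!
# Multiplication of symmetric tensors lands in a seminormal subring (main statement)
-/

namespace Groth.Agent.Lib.Helper20.PLSN

open scoped TensorProduct
open Module CategoryTheory AlgebraicGeometry
  Groth.Agent.Lib.Helper9 Groth.Agent.Lib.Helper9.UnivHomeoRing

universe u
set_option linter.style.haveILetI false

section Main

variable (A C C' B : Type u) [CommRing A] [CommRing C] [CommRing C'] [CommRing B]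
    [Algebra A C] [Algebra A C'] [Algebra A B]

/-- the value at a point of `Spec C'` lies in the residue field of the image point -/
theorem residue_mem (g : C →ₐ[A] C')
    (hg : FlatMor.IsUnivHomeo (Spec.map (CommRingCat.ofHom g.toRingHom)))
    (d : ℕ) (hd : 0 < d)
    (hdeg : ∀ q : PrimeSpectrum C',
      @Module.finrank (PrimeSpectrum.comap g.toRingHom q).asIdeal.ResidueField
          q.asIdeal.ResidueField _ _
          (Ideal.ResidueField.map (PrimeSpectrum.comap g.toRingHom q).asIdeal q.asIdeal
            g.toRingHom rfl).toAlgebra.toModule ∣ d)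
    [Module.Flat A B] (φ : B →ₐ[A] C') (x : ⨂[A] _ : Fin d, B) (hx : x ∈ SymTen.TS A B d)
    (q : PrimeSpectrum C') :
    algebraMap C' q.asIdeal.ResidueField
        (φ (PiTensorProduct.lift (MultilinearMap.mkPiAlgebra A (Fin d) B) x)) ∈
      (Ideal.ResidueField.map (PrimeSpectrum.comap g.toRingHom q).asIdeal q.asIdeal
        g.toRingHom rfl).range := by
  set p := PrimeSpectrum.comap g.toRingHom q with hp
  let ι := Ideal.ResidueField.map p.asIdeal q.asIdeal g.toRingHom rfl
  letI : Algebra p.asIdeal.ResidueField q.asIdeal.ResidueField := ι.toAlgebra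
  have hUI : UniversallyInjective (Spec.map (CommRingCat.ofHom g.toRingHom)) :=
    ((isUnivHomeo_iff _).mp hg).2.1
  have h2 := ((tfae_universallyInjective (Spec.map (CommRingCat.ofHom g.toRingHom))).out 0 2).mp hUI
  have hpi0 := isPurelyInseparable_residueField_map (CommRingCat.ofHom g.toRingHom) q (h2.2 q)
  haveI hpi : IsPurelyInseparable p.asIdeal.ResidueField q.asIdeal.ResidueField := hpi0
  have hfr : Module.finrank p.asIdeal.ResidueField q.asIdeal.ResidueField ∣ d := hdeg q
  have hpos : 0 < Module.finrank p.asIdeal.ResidueField q.asIdeal.ResidueField :=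
    Nat.pos_of_dvd_of_pos hfr hd
  haveI : FiniteDimensional p.asIdeal.ResidueField q.asIdeal.ResidueField :=
    Module.finite_of_finrank_pos hpos
  obtain ⟨qq, hqq⟩ := ExpChar.exists p.asIdeal.ResidueField
  haveI := hqq
  haveI : ExpChar q.asIdeal.ResidueField qq := expChar_of_injective_ringHom ι.injective qq
  obtain ⟨e, he⟩ := IsPurelyInseparable.finrank_eq_pow (F := p.asIdeal.ResidueField)
    q.asIdeal.ResidueField qq
  obtain ⟨m, hm⟩ := hfr
  rw [he] at hm
  subst hm
  refine key_field ι ((algebraMap C' q.asIdeal.ResidueField).comp φ.toRingHom)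
    ((algebraMap C p.asIdeal.ResidueField).comp (algebraMap A C)) ?_ qq e m ?_ x hx
  · intro r
    change algebraMap C' q.asIdeal.ResidueField (φ (algebraMap A B r)) =
      ι (algebraMap C p.asIdeal.ResidueField (algebraMap A C r))
    rw [φ.commutes, Ideal.ResidueField.map_algebraMap]
    change _ = algebraMap C' q.asIdeal.ResidueField (g (algebraMap A C r))
    rw [g.commutes]
  · intro z
    rw [← he]
    exact pow_finrank_mem qq z

theorem residue_mem' (g : C →ₐ[A] C')
    (hg : FlatMor.IsUnivHomeo (Spec.map (CommRingCat.ofHom g.toRingHom)))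
    (d : ℕ) (hd : 0 < d)
    (hdeg : ∀ q : PrimeSpectrum C',
      @Module.finrank (PrimeSpectrum.comap g.toRingHom q).asIdeal.ResidueField
          q.asIdeal.ResidueField _ _
          (Ideal.ResidueField.map (PrimeSpectrum.comap g.toRingHom q).asIdeal q.asIdeal
            g.toRingHom rfl).toAlgebra.toModule ∣ d)
    [Module.Flat A B] (φ : B →ₐ[A] C') (x : ⨂[A] _ : Fin d, B) (hx : x ∈ SymTen.TS A B d)
    (q : Ideal C') [q.IsPrime] (p' : Ideal C) [p'.IsPrime]
    (h' : p' = Ideal.comap g.toRingHom q) :
    algebraMap C' q.ResidueField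
        (φ (PiTensorProduct.lift (MultilinearMap.mkPiAlgebra A (Fin d) B) x)) ∈
      (Ideal.ResidueField.map p' q g.toRingHom h').range := by
  subst h'
  exact residue_mem A C C' B g hg d hd hdeg φ x hx ⟨q, inferInstance⟩

theorem main13839 (hC : HTop.IsSeminormalRing C)
    (g : C →ₐ[A] C') [IsReduced C']
    (hg : FlatMor.IsUnivHomeo (Spec.map (CommRingCat.ofHom g.toRingHom)))
    (d : ℕ) (hd : 0 < d)
    (hdeg : ∀ q : PrimeSpectrum C',
      @Module.finrank (PrimeSpectrum.comap g.toRingHom q).asIdeal.ResidueField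
          q.asIdeal.ResidueField _ _
          (Ideal.ResidueField.map (PrimeSpectrum.comap g.toRingHom q).asIdeal q.asIdeal
            g.toRingHom rfl).toAlgebra.toModule ∣ d)
    [Module.Flat A B] (φ : B →ₐ[A] C') (x : ⨂[A] _ : Fin d, B) (hx : x ∈ SymTen.TS A B d) :
    φ (PiTensorProduct.lift (MultilinearMap.mkPiAlgebra A (Fin d) B) x) ∈ g.range := by
  have hres0 := residue_mem' A C C' B g hg d hd hdeg φ x hx
  generalize φ (PiTensorProduct.lift (MultilinearMap.mkPiAlgebra A (Fin d) B) x) = y at hres0 ⊢
  obtain ⟨hint, hsurj, hrad⟩ := (isUnivHomeo_SpecMap_iff' g.toRingHom).mp hg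
  haveI : IsReduced C := SNLocal.isReduced_of_isSeminormalRing hC
  have hginj : Function.Injective g.toRingHom := by
    rw [injective_iff_map_eq_zero]
    intro c hc
    have hnil : c ∈ nilradical C := by
      rw [nilradical_eq_sInf, Ideal.mem_sInf]
      intro P hP
      obtain ⟨Q, hQ⟩ := hsurj ⟨P, hP⟩
      have h1 : c ∈ (PrimeSpectrum.comap g.toRingHom Q).asIdeal := by
        change g.toRingHom c ∈ Q.asIdeal
        rw [hc]
        exact zero_mem _
      rw [hQ] at h1
      exact h1
    rw [nilradical_eq_zero] at hnil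
    exact hnil
  letI : Algebra C C' := g.toRingHom.toAlgebra
  let C'' : Subalgebra C C' := Algebra.adjoin C {y}
  let ψ : C →+* C'' := algebraMap C C''
  let incl : C'' →+* C' := C''.val.toRingHom
  have hcomp : incl.comp ψ = g.toRingHom := rfl
  have hincl : Function.Injective incl := Subtype.val_injective
  have hψinj : Function.Injective ψ := fun a b h => hginj (congrArg incl h)
  haveI : IsReduced C'' := isReduced_of_injective incl hincl
  have hU : FlatMor.IsUnivHomeo (Spec.map (CommRingCat.ofHom ψ)) :=
    isUnivHomeo_of_comp_injective ψ incl hincl (hcomp ▸ hg)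
  have hincl_int : incl.IsIntegral :=
    (isIntegral_of_comp_injective ψ incl hincl (hcomp ▸ hint)).2
  have hres : ResSurj ψ := by
    intro q'' _ p _ hp
    haveI : Algebra.IsIntegral C'' C' := ⟨hincl_int⟩
    have hker : (⊥ : Ideal C').comap (algebraMap C'' C') ≤ q'' := by
      intro w hw
      have h0 : incl w = 0 := hw
      rw [hincl (h0.trans (map_zero _).symm)]
      exact q''.zero_mem
    obtain ⟨q, -, hq_prime, hq⟩ :=
      Ideal.exists_ideal_over_prime_of_isIntegral q'' (⊥ : Ideal C') hker
    haveI := hq_prime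
    have hq' : q'' = Ideal.comap incl q := hq.symm
    have hpq : p = Ideal.comap g.toRingHom q := by
      rw [hp, hq', Ideal.comap_comap, hcomp]
    let ι₁ := Ideal.ResidueField.map p q'' ψ hp
    let ι₂ := Ideal.ResidueField.map q'' q incl hq'
    have hcomp' : ι₂.comp ι₁ = Ideal.ResidueField.map p q g.toRingHom hpq := by
      apply Ideal.ResidueField.ringHom_ext
      refine RingHom.ext fun a => ?_
      simp only [RingHom.comp_apply, ι₁, ι₂]
      rw [Ideal.ResidueField.map_algebraMap, Ideal.ResidueField.map_algebraMap,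
        Ideal.ResidueField.map_algebraMap]
      rfl
    obtain ⟨t, ht⟩ := hres0 q p hpq
    have hy : algebraMap C'' q''.ResidueField ⟨y, Algebra.self_mem_adjoin_singleton C y⟩ =
        ι₁ t := by
      apply ι₂.injective
      have e1 : ι₂ (ι₁ t) = Ideal.ResidueField.map p q g.toRingHom hpq t :=
        congrArg (fun f => f t) (congrArg DFunLike.coe hcomp')
      rw [e1, ht]
      exact Ideal.ResidueField.map_algebraMap _ _ _ _ _
    have hall : ∀ (w : C') (hw : w ∈ Algebra.adjoin C {y}),
        algebraMap C'' q''.ResidueField ⟨w, hw⟩ ∈ ι₁.range := by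
      intro w hw
      induction hw using Algebra.adjoin_induction with
      | mem w hw =>
        have : w = y := hw
        subst this
        exact ⟨t, hy.symm⟩
      | algebraMap c =>
        refine ⟨algebraMap C p.ResidueField c, ?_⟩
        exact Ideal.ResidueField.map_algebraMap p q'' ψ hp c
      | add a b ha hb h₁ h₂ =>
        have : (⟨a + b, Subalgebra.add_mem _ ha hb⟩ : C'') = ⟨a, ha⟩ + ⟨b, hb⟩ := rfl
        rw [this, map_add]
        exact ι₁.range.add_mem h₁ h₂
      | mul a b ha hb h₁ h₂ =>
        have : (⟨a * b, Subalgebra.mul_mem _ ha hb⟩ : C'') = ⟨a, ha⟩ * ⟨b, hb⟩ := rfl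
        rw [this, map_mul]
        exact ι₁.range.mul_mem h₁ h₂
    intro z
    obtain ⟨a, b, hb, rfl⟩ := IsFractionRing.div_surjective (A := C'' ⧸ q'') z
    obtain ⟨a', rfl⟩ := Ideal.Quotient.mk_surjective a
    obtain ⟨b', rfl⟩ := Ideal.Quotient.mk_surjective b
    rw [Ideal.algebraMap_quotient_residueField_mk, Ideal.algebraMap_quotient_residueField_mk]
    obtain ⟨la, hla⟩ := hall a'.1 a'.2
    obtain ⟨lb, hlb⟩ := hall b'.1 b'.2
    refine ⟨la / lb, ?_⟩
    rw [map_div₀]
    change ι₁ la / ι₁ lb = _
    rw [hla, hlb]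
  obtain ⟨c, hc⟩ := SN.surjective_of_isSeminormalRing ψ hψinj hC hU
    ((resSurj_iff_SpecMap ψ).mp hres) ⟨y, Algebra.self_mem_adjoin_singleton C y⟩
  exact ⟨c, congrArg incl hc⟩

end Main

end Groth.Agent.Lib.Helper20.PLSN
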