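import Mathlib

/-! # `[F : F^p] = [E : E^p]` for a finite extension `F/E` of fields of characteristic `p`. -/

namespace Groth.Agent.Lib.Helper20.PRankFinite

open Module

theorem finrank_frobRange_eq_of_finite (p : ℕ) [Fact p.Prime]
    (E F : Type*) [Field E] [Field F] [Algebra E F] [CharP E p] [CharP F p]
    [Module.Finite E F] :
    Module.finrank (↥(frobenius F p).fieldRange) F =
      Module.finrank (↥(frobenius E p).fieldRange) E := by
  set i : E →+* F := algebraMap E F with hi
  set φ : F →+* F := frobenius F p with hφ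
  set ψ : E →+* E := frobenius E p with hψ
  set E' : Subfield F := i.fieldRange with hE'
  set F₀ : Subfield F := φ.fieldRange with hF₀
  set E'₀ : Subfield F := E'.map φ with hE'₀
  have hcomm : φ.comp i = i.comp ψ := by
    ext x
    simp [hφ, hψ, frobenius_def]
  have h1 : E'₀ ≤ F₀ := by
    rw [hF₀, RingHom.fieldRange_eq_map]
    exact (Subfield.gc_map_comap φ).monotone_l le_top
  have h2 : E'₀ ≤ E' := by
    rintro _ ⟨x, hx, rfl⟩
    rw [hφ, frobenius_def]
    exact pow_mem hx p
  have e1 := Subfield.relfinrank_mul_relfinrank h2 (le_top : E' ≤ ⊤)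
  have e2 := Subfield.relfinrank_mul_relfinrank h1 (le_top : F₀ ≤ ⊤)
  have e3 : Subfield.relfinrank E'₀ F₀ = Subfield.relfinrank E' ⊤ := by
    rw [hE'₀, hF₀, RingHom.fieldRange_eq_map, Subfield.relfinrank_map_map]
  have e4 : Subfield.relfinrank F₀ ⊤ = finrank F₀ F := Subfield.relfinrank_top_right _
  have e5 : Subfield.relfinrank E'₀ E' = finrank (↥ψ.fieldRange) E := by
    have : E'₀ = (ψ.fieldRange).map i := by
      rw [hE'₀, hE', RingHom.fieldRange_eq_map, RingHom.fieldRange_eq_map, Subfield.map_map,
        Subfield.map_map, hcomm]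
    rw [this, hE', RingHom.fieldRange_eq_map (f := i), Subfield.relfinrank_map_map,
      Subfield.relfinrank_top_right]
  have e6 : Subfield.relfinrank E' ⊤ ≠ 0 := by
    rw [Subfield.relfinrank_top_right]
    have : Module.Finite E' F := by
      let e₁ : E ≃+* E' := i.rangeRestrictFieldEquiv
      exact Module.Finite.of_equiv_equiv e₁ (RingEquiv.refl F) (by ext x; rfl)
    exact Module.finrank_pos.ne'
  rw [← e4, ← e5]
  have : Subfield.relfinrank E'₀ E' * Subfield.relfinrank E' ⊤ =
      Subfield.relfinrank E' ⊤ * Subfield.relfinrank F₀ ⊤ := by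
    rw [e1, ← e3, e2]
  rw [mul_comm] at this
  exact (Nat.eq_of_mul_eq_mul_left (Nat.pos_of_ne_zero e6) this).symm

end Groth.Agent.Lib.Helper20.PRankFinite
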