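import Groth.Agent.Lib.Helper20.PBasis
import Groth.Agent.Lib.Helper20.PRankFinite

/-! # `[K : K^p] = p^(d+1)` for `K` finitely generated of transcendence degree `d` over `k((t))`. -/

namespace Groth.Agent.Lib.Helper20.PRankMain

open Groth.Agent.Lib.Helper20.PBasis Groth.Agent.Lib.Helper20.PRankFinite

universe u

theorem finite_over_adjoin {L K : Type*} [Field L] [Field K] [Algebra L K]
    (hfg : (⊤ : IntermediateField L K).FG) (s : Set K)
    [Algebra.IsAlgebraic (IntermediateField.adjoin L s) K] :
    Module.Finite (IntermediateField.adjoin L s) K := by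
  obtain ⟨t, ht⟩ := hfg
  set L' := IntermediateField.adjoin L s
  have htop : IntermediateField.adjoin L' (t : Set K) = ⊤ := by
    rw [eq_top_iff]
    intro y _
    have h1 : IntermediateField.adjoin L (t : Set K) ≤
        (IntermediateField.adjoin L' (t : Set K)).restrictScalars L := by
      rw [IntermediateField.adjoin_le_iff]
      exact IntermediateField.subset_adjoin L' (t : Set K)
    have h2 : y ∈ IntermediateField.adjoin L (t : Set K) := by rw [ht]; trivial
    exact h1 h2
  have hfin : FiniteDimensional L' (IntermediateField.adjoin L' (t : Set K)) :=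
    IntermediateField.finiteDimensional_adjoin
      (fun y _ => (Algebra.IsAlgebraic.isAlgebraic (R := L') y).isIntegral)
  rw [htop] at hfin
  exact Module.Finite.equiv (IntermediateField.topEquiv (F := L') (E := K)).toLinearEquiv

theorem main (p : ℕ) [Fact p.Prime]
    (k : Type u) [Field k] [Finite k] [CharP k p]
    (K : Type u) [Field K] [Algebra (LaurentSeries k) K] [CharP K p]
    (hfg : (⊤ : IntermediateField (LaurentSeries k) K).FG)
    (d : ℕ) (hd : Algebra.trdeg (LaurentSeries k) K = d) :
    Module.finrank (↥(frobenius K p).fieldRange) K = p ^ (d + 1) := by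
  obtain ⟨ι, x, hx⟩ := exists_isTranscendenceBasis' (LaurentSeries k) K
  have hcard : Cardinal.mk ι = d := by rw [hx.cardinalMk_eq_trdeg, hd]
  have hfinι : Finite ι := by
    rw [← Cardinal.mk_lt_aleph0_iff, hcard]
    exact Cardinal.natCast_lt_aleph0
  let _ : Fintype ι := Fintype.ofFinite ι
  have hcard' : Fintype.card ι = d := by
    rw [Cardinal.mk_fintype] at hcard
    exact_mod_cast hcard
  have : CharP (LaurentSeries k) p :=
    (algebraMap (LaurentSeries k) K).charP (algebraMap (LaurentSeries k) K).injective p
  have halg : Algebra.IsAlgebraic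
      (IntermediateField.adjoin (LaurentSeries k) (Set.range x)) K := hx.isAlgebraic_field
  have hfin := finite_over_adjoin hfg (Set.range x)
  have : CharP (IntermediateField.adjoin (LaurentSeries k) (Set.range x)) p :=
    (algebraMap (IntermediateField.adjoin (LaurentSeries k) (Set.range x)) K).charP
      (FaithfulSMul.algebraMap_injective _ K) p
  rw [finrank_frobRange_eq_of_finite p
    (IntermediateField.adjoin (LaurentSeries k) (Set.range x)) K]
  have h1 : HasPRank p (LaurentSeries k) p := hasPRank_laurentSeries k
  have h2 := h1.mvPolynomial ι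
  have h3 := h2.of_isFractionRing (FractionRing (MvPolynomial ι (LaurentSeries k)))
  have h4 := h3.of_ringEquiv hx.1.aevalEquivField.toRingEquiv
  rw [h4.finrank_eq, hcard', pow_succ]

end Groth.Agent.Lib.Helper20.PRankMain
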