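import Mathlib
import Groth.Prelude.Def_ProEtW
import Groth.Agent.Lib.Helper20.PiZero

/-! w-local pullback along a profinite set over π₀. -/

set_option autoImplicit false

namespace Groth.Agent.Lib.Helper20.PiZero2

open Set Function TopologicalSpace Topology
open Groth.Agent.Lib.Helper20.PiZero

universe u

theorem isClosed_singleton_iff_forall_specializes {Z : Type*} [TopologicalSpace Z] (z : Z) :
    IsClosed ({z} : Set Z) ↔ ∀ z', z ⤳ z' → z' = z := by
  constructor
  · intro h z' hz
    have : z' ∈ closure ({z} : Set Z) := specializes_iff_mem_closure.mp hz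
    rw [h.closure_eq] at this
    exact this
  · intro h
    have : closure ({z} : Set Z) = {z} := by
      apply Subset.antisymm
      · intro z' hz'
        exact h z' (specializes_iff_mem_closure.mpr hz')
      · exact subset_closure
    rw [← this]
    exact isClosed_closure

theorem mem_connectedComponent_of_specializes {Z : Type*} [TopologicalSpace Z] {x x' : Z}
    (h : x ⤳ x') : x' ∈ connectedComponent x := by
  have hpre : IsPreconnected (closure ({x} : Set Z)) := isPreconnected_singleton.closure
  exact hpre.subset_connectedComponent (subset_closure rfl) (specializes_iff_mem_closure.mp h)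

section Pullback

variable (X T : Type u) [TopologicalSpace X]
  [TopologicalSpace T] [CompactSpace T] [T2Space T] [TotallyDisconnectedSpace T]
  (g : C(T, _root_.ConnectedComponents X))

theorem specializes_iff
    (y y' : {p : X × T // _root_.ConnectedComponents.mk p.1 = g p.2}) :
    y ⤳ y' ↔ y.1.1 ⤳ y'.1.1 ∧ y.1.2 = y'.1.2 := by
  rw [subtype_specializes_iff]
  obtain ⟨⟨x, t⟩, h⟩ := y
  obtain ⟨⟨x', t'⟩, h'⟩ := y'
  simp only
  rw [specializes_prod, specializes_iff_eq (x := t) (y := t')]

theorem isClosed_singleton_iff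
    (y : {p : X × T // _root_.ConnectedComponents.mk p.1 = g p.2}) :
    IsClosed ({y} : Set {p : X × T // _root_.ConnectedComponents.mk p.1 = g p.2}) ↔
      IsClosed ({y.1.1} : Set X) := by
  rw [isClosed_singleton_iff_forall_specializes, isClosed_singleton_iff_forall_specializes]
  constructor
  · intro h x' hx'
    have hmem : x' ∈ connectedComponent y.1.1 := mem_connectedComponent_of_specializes hx'
    have hx'g : _root_.ConnectedComponents.mk x' = g y.1.2 := by
      rw [← y.2]
      exact ConnectedComponents.coe_eq_coe'.mpr hmem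
    have := h ⟨(x', y.1.2), hx'g⟩ ((specializes_iff X T g _ _).mpr ⟨hx', rfl⟩)
    exact congrArg (fun z : {p : X × T // _root_.ConnectedComponents.mk p.1 = g p.2} => z.1.1) this
  · intro h y' hy'
    obtain ⟨h1, h2⟩ := (specializes_iff X T g _ _).mp hy'
    have hx := h _ h1
    apply Subtype.ext
    exact Prod.ext hx h2.symm

theorem main (hX : ProEtW.IsWLocal X) :
    ProEtW.IsWLocal {p : X × T // _root_.ConnectedComponents.mk p.1 = g p.2} ∧
      ProEtW.IsWLocalMap
        (fun y : {p : X × T // _root_.ConnectedComponents.mk p.1 = g p.2} => y.1.1) ∧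
      ProEtW.closedPoints {p : X × T // _root_.ConnectedComponents.mk p.1 = g p.2} =
        (fun y : {p : X × T // _root_.ConnectedComponents.mk p.1 = g p.2} => y.1.1) ⁻¹'
          ProEtW.closedPoints X := by
  obtain ⟨hspec, hcl, huniq⟩ := hX
  haveI := hspec
  have hpr : Continuous
      (fun y : {p : X × T // _root_.ConnectedComponents.mk p.1 = g p.2} => y.1.1) :=
    continuous_fst.comp continuous_subtype_val
  have hcp : {y : {p : X × T // _root_.ConnectedComponents.mk p.1 = g p.2} |
        IsClosed ({y} : Set {p : X × T // _root_.ConnectedComponents.mk p.1 = g p.2})} =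
      (fun y : {p : X × T // _root_.ConnectedComponents.mk p.1 = g p.2} => y.1.1) ⁻¹'
        {x : X | IsClosed ({x} : Set X)} := by
    ext y
    exact isClosed_singleton_iff X T g y
  refine ⟨⟨spectralSpace_pullback X T g, ?_, ?_⟩, ⟨⟨hpr, ?_⟩, ?_⟩, hcp⟩
  · rw [hcp]
    exact hcl.preimage hpr
  · intro y
    obtain ⟨x₀, ⟨hx₀c, hx₀s⟩, hx₀u⟩ := huniq y.1.1
    have hmem : x₀ ∈ connectedComponent y.1.1 := mem_connectedComponent_of_specializes hx₀s
    have hx₀g : _root_.ConnectedComponents.mk x₀ = g y.1.2 := by
      rw [← y.2]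
      exact ConnectedComponents.coe_eq_coe'.mpr hmem
    refine ⟨⟨(x₀, y.1.2), hx₀g⟩, ⟨(isClosed_singleton_iff X T g _).mpr hx₀c,
      (specializes_iff X T g _ _).mpr ⟨hx₀s, rfl⟩⟩, ?_⟩
    rintro y' ⟨hy'c, hy's⟩
    obtain ⟨h1, h2⟩ := (specializes_iff X T g _ _).mp hy's
    have := hx₀u y'.1.1 ⟨(isClosed_singleton_iff X T g _).mp hy'c, h1⟩
    apply Subtype.ext
    exact Prod.ext this h2.symm
  · intro s hs hsc
    have hemb : IsClosedEmbedding
        (Subtype.val : {p : X × T // _root_.ConnectedComponents.mk p.1 = g p.2} → X × T) :=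
      (isClosed_pullback X T g).isClosedEmbedding_subtypeVal
    have hc : IsCompact (s ×ˢ (univ : Set T)) := hsc.prod isCompact_univ
    have := hemb.isCompact_preimage hc
    convert this using 1
    ext y
    simp
  · intro y hy
    exact (isClosed_singleton_iff X T g y).mp hy

end Pullback

end Groth.Agent.Lib.Helper20.PiZero2
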