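import Mathlib

namespace Groth.Agent.Lib.Helper20.Pinch

open MvPolynomial

variable {K : Type*} [Field K] (n : ℕ)

/-- kill the first variable -/
noncomputable def θ : MvPolynomial (Fin (n + 3)) K →ₐ[K] MvPolynomial (Fin (n + 3)) K :=
  aeval (fun i : Fin (n + 3) => if i = 0 then (0 : MvPolynomial (Fin (n + 3)) K) else X i)

theorem θ_X0 : θ (K := K) n (X 0) = 0 := by
  unfold θ
  rw [aeval_X, if_pos rfl]

theorem θ_X_ne (i : Fin (n + 3)) (hi : i ≠ 0) : θ (K := K) n (X i) = X i := by
  unfold θ
  rw [aeval_X, if_neg hi]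

theorem sub_θ_mem (f : MvPolynomial (Fin (n + 3)) K) :
    f - θ n f ∈ Ideal.span {(X 0 : MvPolynomial (Fin (n + 3)) K)} := by
  induction f using MvPolynomial.induction_on with
  | C a =>
    have : θ (K := K) n (C a) = C a := by
      unfold θ
      exact aeval_C _ a
    rw [this, sub_self]
    exact Ideal.zero_mem _
  | add p q hp hq =>
    rw [map_add, add_sub_add_comm]
    exact Ideal.add_mem _ hp hq
  | mul_X p i hp =>
    rw [map_mul]
    have h1 : p * X i - θ n p * θ n (X i) = (p - θ n p) * X i + θ n p * (X i - θ n (X i)) := by ring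
    rw [h1]
    refine Ideal.add_mem _ (Ideal.mul_mem_right _ _ hp) (Ideal.mul_mem_left _ _ ?_)
    by_cases hi : i = 0
    · rw [hi, θ_X0, sub_zero]
      exact Ideal.subset_span rfl
    · rw [θ_X_ne n i hi, sub_self]
      exact Ideal.zero_mem _

theorem two_inv [NeZero (2 : K)] : (C (2⁻¹ : K) * 2 : MvPolynomial (Fin (n + 3)) K) = 1 := by
  have : (2 : MvPolynomial (Fin (n + 3)) K) = C 2 := (map_ofNat C 2).symm
  rw [this, ← C_mul, inv_mul_cancel₀ (NeZero.ne (2 : K)), C_1]

theorem result' [NeZero (2 : K)] :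
    Ideal.span {(X 0 : MvPolynomial (Fin (n + 3)) K), X 1} =
        Ideal.span {(X 0 : MvPolynomial (Fin (n + 3)) K) ^ 2 - X 1 ^ 2 * X 2, 2 * X 0,
          -(2 * X 1 * X 2), -(X 1 ^ 2)} ⊔ Ideal.span {X 1} ∧
      (Ideal.span {(X 0 : MvPolynomial (Fin (n + 3)) K) ^ 2 - X 1 ^ 2 * X 2, 2 * X 0,
          -(2 * X 1 * X 2), -(X 1 ^ 2)}).colon (Ideal.span {(X 1 : MvPolynomial (Fin (n + 3)) K)}) =
        Ideal.span {(X 0 : MvPolynomial (Fin (n + 3)) K), X 1, X 2} := by
  set u : MvPolynomial (Fin (n + 3)) K := X 0 with hu_def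
  set v : MvPolynomial (Fin (n + 3)) K := X 1 with hv_def
  set w : MvPolynomial (Fin (n + 3)) K := X 2 with hw_def
  set J : Ideal (MvPolynomial (Fin (n + 3)) K) :=
    Ideal.span {u ^ 2 - v ^ 2 * w, 2 * u, -(2 * v * w), -(v ^ 2)} with hJ
  have hg1 : 2 * u ∈ J := Ideal.subset_span (by simp)
  have hg2 : -(2 * v * w) ∈ J := Ideal.subset_span (by simp)
  have hg3 : -(v ^ 2) ∈ J := Ideal.subset_span (by simp)
  have hu : u ∈ J := by
    have : u = C (2⁻¹ : K) * (2 * u) := by rw [← mul_assoc, two_inv, one_mul]
    rw [this]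
    exact Ideal.mul_mem_left _ _ hg1
  have hvw : v * w ∈ J := by
    have : v * w = -(C (2⁻¹ : K)) * (-(2 * v * w)) := by
      have h2 := two_inv (K := K) n
      calc v * w = (C (2⁻¹ : K) * 2) * (v * w) := by rw [h2, one_mul]
        _ = -(C (2⁻¹ : K)) * (-(2 * v * w)) := by ring
    rw [this]
    exact Ideal.mul_mem_left _ _ hg2
  have hv2 : v ^ 2 ∈ J := by
    have : v ^ 2 = -(-(v ^ 2)) := by ring
    rw [this]
    exact neg_mem hg3
  have h10 : (1 : Fin (n + 3)) ≠ 0 := by
    intro h
    have := congrArg Fin.val h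
    simp at this
  have h20 : (2 : Fin (n + 3)) ≠ 0 := by
    intro h
    have := congrArg Fin.val h
    simp at this
    rw [Nat.mod_eq_of_lt (by omega)] at this
    omega
  constructor
  · apply le_antisymm
    · rw [Ideal.span_le]
      intro x hx
      rcases hx with rfl | rfl
      · exact Ideal.mem_sup_left hu
      · exact Ideal.mem_sup_right (Ideal.subset_span rfl)
    · have hu' : u ∈ Ideal.span {u, v} := Ideal.subset_span (by simp)
      have hv' : v ∈ Ideal.span {u, v} := Ideal.subset_span (by simp)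
      refine sup_le ?_ ?_
      · rw [hJ, Ideal.span_le]
        intro x hx
        rcases hx with rfl | rfl | rfl | rfl
        · have : u ^ 2 - v ^ 2 * w = u * u - (v * w) * v := by ring
          rw [this]
          exact Ideal.sub_mem _ (Ideal.mul_mem_left _ _ hu') (Ideal.mul_mem_left _ _ hv')
        · exact Ideal.mul_mem_left _ _ hu'
        · have : -(2 * v * w) = (-(2 * w)) * v := by ring
          rw [this]
          exact Ideal.mul_mem_left _ _ hv'
        · have : -(v ^ 2) = (-v) * v := by ring
          rw [this]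
          exact Ideal.mul_mem_left _ _ hv'
      · rw [Ideal.span_le]
        intro x hx
        rw [Set.mem_singleton_iff.1 hx]
        exact hv'
  · apply le_antisymm
    · intro f hf
      rw [Ideal.mem_colon_span_singleton] at hf
      have hJle : J ≤ Ideal.span {u, v * w, v ^ 2} := by
        have hu' : u ∈ Ideal.span {u, v * w, v ^ 2} := Ideal.subset_span (by simp)
        have hvw' : v * w ∈ Ideal.span {u, v * w, v ^ 2} := Ideal.subset_span (by simp)
        have hv2' : v ^ 2 ∈ Ideal.span {u, v * w, v ^ 2} := Ideal.subset_span (by simp)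
        rw [hJ, Ideal.span_le]
        intro x hx
        rcases hx with rfl | rfl | rfl | rfl
        · have : u ^ 2 - v ^ 2 * w = u * u - w * v ^ 2 := by ring
          rw [this]
          exact Ideal.sub_mem _ (Ideal.mul_mem_left _ _ hu') (Ideal.mul_mem_left _ _ hv2')
        · exact Ideal.mul_mem_left _ _ hu'
        · have : -(2 * v * w) = (-2) * (v * w) := by ring
          rw [this]
          exact Ideal.mul_mem_left _ _ hvw'
        · exact neg_mem hv2'
      have hf' := hJle hf
      rw [Ideal.mem_span_insert] at hf'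
      obtain ⟨a, z, hz, hfa⟩ := hf'
      rw [Ideal.mem_span_pair] at hz
      obtain ⟨b, c, rfl⟩ := hz
      have hθ : θ n f * v = (θ n b * w + θ n c * v) * v := by
        have := congrArg (θ (K := K) n) hfa
        simp only [map_mul, map_add, map_pow] at this
        rw [hu_def, hv_def, hw_def, θ_X0, θ_X_ne n 1 h10, θ_X_ne n 2 h20] at this
        rw [hv_def, hw_def, this]
        ring
      have hv0 : v ≠ 0 := X_ne_zero _
      have hθf : θ n f = θ n b * w + θ n c * v := mul_right_cancel₀ hv0 hθ
      have hsplit : f = (f - θ n f) + θ n f := by ring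
      rw [hsplit]
      refine Ideal.add_mem _ ?_ ?_
      · refine (Ideal.span_mono ?_) (sub_θ_mem n f)
        intro x hx
        rw [Set.mem_singleton_iff.1 hx]
        simp [hu_def]
      · rw [hθf]
        exact Ideal.add_mem _ (Ideal.mul_mem_left _ _ (Ideal.subset_span (by simp)))
          (Ideal.mul_mem_left _ _ (Ideal.subset_span (by simp)))
    · rw [Ideal.span_le]
      intro x hx
      rw [SetLike.mem_coe, Ideal.mem_colon_span_singleton]
      rcases hx with rfl | rfl | rfl
      · exact Ideal.mul_mem_right _ _ hu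
      · have : v * v = v ^ 2 := by ring
        rw [this]
        exact hv2
      · rw [mul_comm]
        exact hvw

end Groth.Agent.Lib.Helper20.Pinch
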