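import Mathlib
import Groth.Prelude.Def_SymTen
import Groth.Agent.Lib.Helper20.PLTS
import Groth.Agent.Lib.Helper20.PLSub
import Groth.Agent.Lib.Helper20.PLFlat2

/-!
# Orbit sums in the tensor power and their products
-/

namespace Groth.Agent.Lib.Helper20.SymGen

open scoped TensorProduct
open Groth.Agent.Lib.Helper20.PLPolar Groth.Agent.Lib.Helper20.PLTS

universe u

section Basic

variable {κ : Type} {n : ℕ}

theorem degree_typ (c : Fin n → κ) : (typ c).degree = n := by
  unfold typ
  rw [map_sum]
  simp [Finsupp.degree_single]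

theorem typ_comp {κ' : Type} (f : κ → κ') (c : Fin n → κ) :
    typ (fun s => f (c s)) = Finsupp.mapDomain f (typ c) := by
  unfold typ
  rw [Finsupp.mapDomain_finsetSum]
  simp [Finsupp.mapDomain_single]

theorem typ_pos (c : Fin n → κ) (s : Fin n) : typ c (c s) ≠ 0 := by
  classical
  rw [typ_apply]
  exact (Finset.card_pos.mpr ⟨s, by simp⟩).ne'

end Basic

section Orbit

variable (R : Type u) [CommRing R] (A : Type u) [CommRing A] [Algebra R A] (n : ℕ)

open Classical in
/-- orbit sums of pure tensors -/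
noncomputable def O {κ : Type} [Fintype κ] (m : κ → A) (β : κ →₀ ℕ) : ⨂[R] _ : Fin n, A :=
  ∑ c : Fin n → κ, if typ c = β then PiTensorProduct.tprod R (fun i => m (c i)) else 0

theorem O_eq_coeff {κ : Type} [Fintype κ] (m : κ → A) (β : κ →₀ ℕ) :
    O R A n m β = PLCoeff.coeff (Tlaw R A n) m β := by
  classical
  rw [coeff_Tlaw]
  unfold O
  refine Finset.sum_congr rfl (fun c _ => ?_)
  by_cases h : typ c = β
  · simp only [h, if_true]
  · simp only [h, if_false]

theorem O_mapDomain {ι κ : Type} [Fintype ι] [Fintype κ] (J : ι → κ)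
    (hJ : Function.Injective J) (m : κ → A) (ν : ι →₀ ℕ) :
    O R A n m (Finsupp.mapDomain J ν) = O R A n (fun i => m (J i)) ν := by
  rw [O_eq_coeff, O_eq_coeff, PLSub.coeff_comp_injective _ J hJ]

theorem O_eq_zero_of_degree_ne {κ : Type} [Fintype κ] (m : κ → A) (β : κ →₀ ℕ)
    (h : β.degree ≠ n) : O R A n m β = 0 := by
  unfold O
  apply Finset.sum_eq_zero
  intro c _
  rw [if_neg]
  rintro rfl
  exact h (degree_typ c)

open Classical in
theorem O_mul {κ κ' : Type} [Fintype κ] [Fintype κ'] (m : κ → A) (m' : κ' → A)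
    (β : κ →₀ ℕ) (δ : κ' →₀ ℕ) :
    O R A n m β * O R A n m' δ =
      ∑ ν' ∈ ((Finset.univ : Finset (Fin n → κ × κ')).image typ).filter
        (fun ν' => Finsupp.mapDomain Prod.fst ν' = β ∧ Finsupp.mapDomain Prod.snd ν' = δ),
        O R A n (fun p : κ × κ' => m p.1 * m' p.2) ν' := by
  have h1 : O R A n m β * O R A n m' δ =
      ∑ e : Fin n → κ × κ',
        if (Finsupp.mapDomain Prod.fst (typ e) = β ∧ Finsupp.mapDomain Prod.snd (typ e) = δ) then
          PiTensorProduct.tprod R (fun s => m (e s).1 * m' (e s).2) else 0 := by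
    unfold O
    rw [Finset.sum_mul_sum, ← Finset.sum_product', Finset.univ_product_univ]
    refine (Fintype.sum_equiv (Equiv.arrowProdEquivProdArrow (Fin n) (fun _ => κ) (fun _ => κ'))
      _ _ ?_).symm
    intro e
    simp only [Equiv.arrowProdEquivProdArrow]
    simp only [Equiv.coe_fn_mk]
    rw [← typ_comp, ← typ_comp]
    by_cases h1 : typ (fun s => (e s).1) = β
    · by_cases h2 : typ (fun s => (e s).2) = δ
      · simp only [h1, h2, and_self, if_true]
        rw [PiTensorProduct.tprod_mul_tprod]
        rfl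
      · simp only [h2, and_false, if_false, mul_zero]
    · simp only [h1, false_and, if_false, zero_mul]
  rw [h1, ← Finset.sum_fiberwise_of_maps_to (s := Finset.univ)
    (t := (Finset.univ : Finset (Fin n → κ × κ')).image typ) (g := typ)
    (fun e _ => Finset.mem_image_of_mem _ (Finset.mem_univ e)), Finset.sum_filter]
  refine Finset.sum_congr rfl (fun ν' _ => ?_)
  unfold O
  by_cases hP : Finsupp.mapDomain Prod.fst ν' = β ∧ Finsupp.mapDomain Prod.snd ν' = δ
  · rw [if_pos hP, Finset.sum_filter]
    refine Finset.sum_congr rfl (fun e _ => ?_)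
    by_cases he : typ e = ν'
    · have hP' : Finsupp.mapDomain Prod.fst (typ e) = β ∧ Finsupp.mapDomain Prod.snd (typ e) = δ := by
        rw [he]; exact hP
      simp only [he, if_true, hP.1, hP.2, and_self]
    · simp only [he, if_false]
  · rw [if_neg hP]
    apply Finset.sum_eq_zero
    intro e he
    rw [Finset.mem_filter] at he
    have hP' : ¬ (Finsupp.mapDomain Prod.fst (typ e) = β ∧ Finsupp.mapDomain Prod.snd (typ e) = δ) := by
      rw [he.2]; exact hP
    rw [if_neg hP']

end Orbit

end Groth.Agent.Lib.Helper20.SymGen
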