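import Mathlib
import Groth.Prelude.Def_PolLaw
import Groth.Prelude.Def_SymTen
import Groth.Agent.Lib.Helper20.PLFlat4

/-!
# Purity of `TS^d(B) ⊆ T^d(B)` for flat `B`
-/

set_option autoImplicit false
set_option linter.unusedSectionVars false
set_option linter.unusedVariables false

namespace Groth.Agent.Lib.Helper20.PLFlat

open scoped TensorProduct
open MvPolynomial Groth.Agent.Lib.Helper20.PLCoeff Groth.Agent.Lib.Helper20.PLCorestrict
  Groth.Agent.Lib.Helper20.PLTS Groth.Agent.Lib.Helper20.PLNat Groth.Agent.Lib.Helper20.PLNorm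
  Groth.Agent.Lib.Helper20.PLFree Groth.Agent.Lib.Helper20.PLSpan
  Groth.Agent.Lib.Helper20.PLFinite Groth.Agent.Lib.Helper20.PLPolar
  Groth.Agent.Lib.Helper20.PLGamma

universe u

section FlatT

variable {A : Type u} [CommRing A] {M : Type u} [AddCommGroup M] [Module A M] [Module.Flat A M]

/-- tensor powers of a flat module are flat -/
theorem flat_T (d : ℕ) : Module.Flat A (⨂[A] _ : Fin d, M) := by
  induction d with
  | zero =>
    exact Module.Flat.of_linearEquiv (PiTensorProduct.isEmptyEquiv (R := A) (s := fun _ : Fin 0 => M) (Fin 0))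
  | succ d ih =>
    exact Module.Flat.of_linearEquiv (E A M d).symm

theorem exists_chart_tensor_fin (d : ℕ) : ∀ (m : ℕ) (z : Fin m → ⨂[A] _ : Fin d, M),
    ∃ (n : ℕ) (u : (Fin n → A) →ₗ[A] M) (z' : Fin m → ⨂[A] _ : Fin d, (Fin n → A)),
      ∀ i, Tm d u (z' i) = z i := by
  intro m
  induction m with
  | zero => intro z; exact ⟨0, 0, fun i => i.elim0, fun i => i.elim0⟩
  | succ m ih =>
    intro z
    obtain ⟨n₁, u₁, z₁, h₁⟩ := ih (fun i => z i.castSucc)
    obtain ⟨n₂, u₂, w, hw⟩ := exists_chart_tensor d (z (Fin.last m))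
    obtain ⟨n, u, i₁, i₂, e₁, e₂⟩ := joint u₁ u₂
    refine ⟨n, u, Fin.lastCases (Tm d i₂ w) (fun i => Tm d i₁ (z₁ i)), ?_⟩
    intro i
    induction i using Fin.lastCases with
    | last => simp only [Fin.lastCases_last]; rw [← Tm_comp, e₂, hw]
    | cast i => simp only [Fin.lastCases_castSucc]; rw [← Tm_comp, e₁, h₁]

variable {Q : Type*} [AddCommGroup Q] [Module A Q]

/-- the multilinear equational criterion with coefficients -/
theorem qstar (d n : ℕ) (u : (Fin n → A) →ₗ[A] M)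
    (v : Q ⊗[A] (⨂[A] _ : Fin d, (Fin n → A))) (hv : (Tm d u).lTensor Q v = 0) :
    ∃ (k : ℕ) (h : (Fin n → A) →ₗ[A] (Fin k → A)) (g : (Fin k → A) →ₗ[A] M),
      u = g ∘ₗ h ∧ (Tm d h).lTensor Q v = 0 := by
  classical
  let b : Module.Basis (Fin d → Fin n) A (⨂[A] _ : Fin d, (Fin n → A)) :=
    Basis.piTensorProduct (fun _ : Fin d => Pi.basisFun A (Fin n))
  let eqv : ((Fin d → Fin n) → A) ≃ₗ[A] (⨂[A] _ : Fin d, (Fin n → A)) := b.equivFun.symm
  have heqv : ∀ β, eqv (Pi.single β 1) = b β := by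
    intro β
    show b.equivFun.symm (Pi.single β 1) = b β
    rw [Module.Basis.equivFun_symm_apply]
    simp [Pi.single_apply]
  let u' : ((Fin d → Fin n) → A) →ₗ[A] (⨂[A] _ : Fin d, M) := Tm d u ∘ₗ eqv.toLinearMap
  let v' : Q ⊗[A] ((Fin d → Fin n) → A) := eqv.symm.toLinearMap.lTensor Q v
  have hvv' : eqv.toLinearMap.lTensor Q v' = v := by
    show eqv.toLinearMap.lTensor Q (eqv.symm.toLinearMap.lTensor Q v) = v
    rw [← LinearMap.comp_apply, ← LinearMap.lTensor_comp]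
    have : eqv.toLinearMap ∘ₗ eqv.symm.toLinearMap = LinearMap.id := by
      ext x; simp
    rw [this, LinearMap.lTensor_id, LinearMap.id_apply]
  have hv' : u'.lTensor Q v' = 0 := by
    show (Tm d u ∘ₗ eqv.toLinearMap).lTensor Q v' = 0
    rw [LinearMap.lTensor_comp, LinearMap.comp_apply, hvv', hv]
  have : Module.Flat A (⨂[A] _ : Fin d, M) := flat_T d
  obtain ⟨k', ψ, θ, hfac, hψ⟩ := claim1 u' v' hv'
  -- charts for the images of the basis vectors under `θ`
  obtain ⟨n₂, u₂, y', hy'⟩ := exists_chart_tensor_fin (A := A) (M := M) d k'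
    (fun j => θ (Pi.single j 1))
  obtain ⟨n₃, u₃, i₁, i₂, h₁, h₂⟩ := joint u u₂
  let θ' : (Fin k' → A) →ₗ[A] (⨂[A] _ : Fin d, (Fin n₃ → A)) :=
    (Pi.basisFun A (Fin k')).constr A (fun j => Tm d i₂ (y' j))
  have hθ' : Tm d u₃ ∘ₗ θ' = θ := by
    apply (Pi.basisFun A (Fin k')).ext
    intro j
    rw [LinearMap.comp_apply, Module.Basis.constr_basis, ← Tm_comp, h₂, hy', Pi.basisFun_apply]
  let r : (Fin d → Fin n) → ⨂[A] _ : Fin d, (Fin n₃ → A) := fun β =>
    Tm d i₁ (b β) - θ' (ψ (Pi.single β 1))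
  have hr : ∀ β ∈ (Finset.univ : Finset (Fin d → Fin n)), Tm d u₃ (r β) = 0 := by
    intro β _
    show Tm d u₃ (Tm d i₁ (b β) - θ' (ψ (Pi.single β 1))) = 0
    rw [map_sub, ← Tm_comp, h₁, ← LinearMap.comp_apply (Tm d u₃) θ', hθ', ← LinearMap.comp_apply θ ψ,
      ← hfac, sub_eq_zero]
    show Tm d u (b β) = Tm d u (eqv (Pi.single β 1))
    rw [heqv]
  obtain ⟨k, h₃, g, hu₃, hkill⟩ := pstarMulti (A := A) (M := M) d (Fin d → Fin n) Finset.univ
    n₃ u₃ r hr
  refine ⟨k, h₃ ∘ₗ i₁, g, ?_, ?_⟩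
  · rw [← h₁, hu₃, LinearMap.comp_assoc]
  · have hcomp : Tm d (h₃ ∘ₗ i₁) ∘ₗ eqv.toLinearMap = (Tm d h₃ ∘ₗ θ') ∘ₗ ψ := by
      apply (Pi.basisFun A (Fin d → Fin n)).ext
      intro β
      rw [Pi.basisFun_apply, LinearMap.comp_apply, LinearMap.comp_apply, LinearMap.comp_apply]
      have := hkill β (Finset.mem_univ β)
      show Tm d (h₃ ∘ₗ i₁) (eqv (Pi.single β 1)) = Tm d h₃ (θ' (ψ (Pi.single β 1)))
      rw [heqv, Tm_comp]
      have h2 : Tm d h₃ (Tm d i₁ (b β) - θ' (ψ (Pi.single β 1))) = 0 := this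
      rw [map_sub, sub_eq_zero] at h2
      exact h2
    rw [← hvv', ← LinearMap.comp_apply, ← LinearMap.lTensor_comp, hcomp, LinearMap.lTensor_comp,
      LinearMap.comp_apply, hψ, map_zero]

end FlatT

section Purity

variable {A : Type u} [CommRing A] {B : Type u} [CommRing B] [Algebra A B] [Module.Flat A B]
  (d : ℕ) {Q : Type*} [AddCommGroup Q] [Module A Q]

/-- retraction of the symmetric tensors of a finite free algebra -/
theorem exists_retraction_free (n : ℕ) :
    ∃ r : (⨂[A] _ : Fin d, (Fin n → A)) →ₗ[A] SymTen.TS A (Fin n → A) d,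
      r ∘ₗ (SymTen.TS A (Fin n → A) d).val.toLinearMap = LinearMap.id := by
  let e := Module.Free.chooseBasis A (Fin n → A)
  refine ⟨fT e d (TSlaw A (Fin n → A) d).law, ?_⟩
  apply unique_linear e d
  rw [postcomp_id]
  exact postcomp_fTS e d (TSlaw A (Fin n → A) d).law (TSlaw A (Fin n → A) d).homog

theorem exists_chart_tmul_TS (w : Q ⊗[A] SymTen.TS A B d) :
    ∃ (n : ℕ) (u : (Fin n → A) →ₗ[A] B) (w' : Q ⊗[A] SymTen.TS A (Fin n → A) d),
      (TSm d u).lTensor Q w' = w := by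
  induction w using TensorProduct.induction_on with
  | zero => exact ⟨0, 0, 0, map_zero _⟩
  | tmul q z =>
    obtain ⟨n, u, z', hz'⟩ := exists_chart_TS d z
    exact ⟨n, u, q ⊗ₜ[A] z', by rw [LinearMap.lTensor_tmul, hz']⟩
  | add x y hx hy =>
    obtain ⟨n₁, u₁, x', rfl⟩ := hx
    obtain ⟨n₂, u₂, y', rfl⟩ := hy
    obtain ⟨n, u, i₁, i₂, h₁, h₂⟩ := joint u₁ u₂
    refine ⟨n, u, (TSm d i₁).lTensor Q x' + (TSm d i₂).lTensor Q y', ?_⟩
    rw [map_add, ← LinearMap.comp_apply, ← LinearMap.comp_apply, ← LinearMap.lTensor_comp,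
      ← LinearMap.lTensor_comp, ← TSm_comp, ← TSm_comp, h₁, h₂]

/-- **purity**: `Q ⊗ TS^d(B) → Q ⊗ T^d(B)` is injective for flat `B` -/
theorem lTensor_val_injective :
    Function.Injective ((SymTen.TS A B d).val.toLinearMap.lTensor Q) := by
  rw [injective_iff_map_eq_zero]
  intro w hw
  obtain ⟨n₀, u₀, w₀, rfl⟩ := exists_chart_tmul_TS d w
  have hv : (Tm d u₀).lTensor Q ((SymTen.TS A (Fin n₀ → A) d).val.toLinearMap.lTensor Q w₀) = 0 := by
    rw [← LinearMap.comp_apply, ← LinearMap.lTensor_comp, ← val_comp_TSm, LinearMap.lTensor_comp,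
      LinearMap.comp_apply]
    exact hw
  obtain ⟨k, h, g, hu, hk⟩ := qstar (A := A) (M := B) d n₀ u₀ _ hv
  have hwk : (TSm d h).lTensor Q w₀ = 0 := by
    obtain ⟨r, hr⟩ := exists_retraction_free (A := A) d k
    have hinj : Function.Injective ((SymTen.TS A (Fin k → A) d).val.toLinearMap.lTensor Q) := by
      apply Function.LeftInverse.injective (g := r.lTensor Q)
      intro x
      rw [← LinearMap.comp_apply, ← LinearMap.lTensor_comp, hr, LinearMap.lTensor_id,
        LinearMap.id_apply]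
    apply hinj
    rw [map_zero, ← LinearMap.comp_apply, ← LinearMap.lTensor_comp, val_comp_TSm,
      LinearMap.lTensor_comp, LinearMap.comp_apply]
    exact hk
  rw [hu, TSm_comp, LinearMap.lTensor_comp, LinearMap.comp_apply, hwk, map_zero]

end Purity

end Groth.Agent.Lib.Helper20.PLFlat
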