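import Mathlib
import Groth.Prelude.Def_PolLaw
import Groth.Prelude.Def_SymTen
import Groth.Agent.Lib.Helper20.SymRed1

/-!
# Symmetric tensors of a flat module: flatness and lifting along surjections
-/

set_option autoImplicit false
set_option linter.unusedSectionVars false
set_option linter.unusedVariables false

namespace Groth.Agent.Lib.Helper20.PLFlat

open scoped TensorProduct

universe u

section Mod

variable (A : Type u) [CommRing A] (M : Type u) [AddCommGroup M] [Module A M] (d : ℕ)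

/-- the submodule of symmetric tensors of a module -/
noncomputable def TSsub : Submodule A (⨂[A] _ : Fin d, M) :=
  ⨅ σ : Equiv.Perm (Fin d),
    LinearMap.eqLocus (PiTensorProduct.reindex A (fun _ : Fin d => M) σ).toLinearMap LinearMap.id

variable {A M d}

theorem mem_TSsub {z : ⨂[A] _ : Fin d, M} :
    z ∈ TSsub A M d ↔ ∀ σ : Equiv.Perm (Fin d),
      PiTensorProduct.reindex A (fun _ : Fin d => M) σ z = z := by
  unfold TSsub
  rw [Submodule.mem_iInf]
  exact Iff.rfl

variable {M' : Type u} [AddCommGroup M'] [Module A M']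

theorem Tm_reindex' (f : M →ₗ[A] M') (σ : Equiv.Perm (Fin d)) (z : ⨂[A] _ : Fin d, M) :
    Tm d f (PiTensorProduct.reindex A (fun _ : Fin d => M) σ z) =
      PiTensorProduct.reindex A (fun _ : Fin d => M') σ (Tm d f z) :=
  PiTensorProduct.map_reindex (fun _ : Fin d => f) σ z

theorem Tm_mem_TSsub (f : M →ₗ[A] M') {z : ⨂[A] _ : Fin d, M} (hz : z ∈ TSsub A M d) :
    Tm d f z ∈ TSsub A M' d := by
  rw [mem_TSsub] at hz ⊢
  intro σ
  rw [← Tm_reindex', hz σ]

theorem exists_chart_TSsub [Module.Flat A M] {z : ⨂[A] _ : Fin d, M} (hz : z ∈ TSsub A M d) :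
    ∃ (n : ℕ) (u : (Fin n → A) →ₗ[A] M) (z' : ⨂[A] _ : Fin d, (Fin n → A)),
      z' ∈ TSsub A (Fin n → A) d ∧ Tm d u z' = z := by
  rw [mem_TSsub] at hz
  obtain ⟨n₀, u₀, z₀, hz₀⟩ := exists_chart_tensor (A := A) (M := M) d z
  have hkill : ∀ σ ∈ (Finset.univ : Finset (Equiv.Perm (Fin d))),
      Tm d u₀ (PiTensorProduct.reindex A (fun _ : Fin d => (Fin n₀ → A)) σ z₀ - z₀) = 0 := by
    intro σ _
    rw [map_sub, Tm_reindex', hz₀, hz σ, sub_self]
  obtain ⟨k, h, g, hu, hw⟩ := pstarMulti (A := A) (M := M) d (Equiv.Perm (Fin d)) Finset.univ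
    n₀ u₀ (fun σ => PiTensorProduct.reindex A (fun _ : Fin d => (Fin n₀ → A)) σ z₀ - z₀) hkill
  refine ⟨k, g, Tm d h z₀, ?_, ?_⟩
  · rw [mem_TSsub]
    intro σ
    have := hw σ (Finset.mem_univ _)
    rw [map_sub, Tm_reindex', sub_eq_zero] at this
    exact this
  · rw [← Tm_comp, ← hu, hz₀]

/-- lifting symmetric tensors along a surjection onto a flat module -/
theorem exists_symmetric_lift [Module.Flat A M'] (f : M →ₗ[A] M') (hf : Function.Surjective f)
    {t : ⨂[A] _ : Fin d, M'} (ht : t ∈ TSsub A M' d) :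
    ∃ s : ⨂[A] _ : Fin d, M, s ∈ TSsub A M d ∧ Tm d f s = t := by
  obtain ⟨n, u, z', hz', rfl⟩ := exists_chart_TSsub ht
  -- lift `u` through `f`
  choose m hm using fun i : Fin n => hf (u (Pi.single i 1))
  let v : (Fin n → A) →ₗ[A] M := (Pi.basisFun A (Fin n)).constr A m
  have hv : f ∘ₗ v = u := by
    apply (Pi.basisFun A (Fin n)).ext
    intro i
    rw [LinearMap.comp_apply, Module.Basis.constr_basis, hm, Pi.basisFun_apply]
  exact ⟨Tm d v z', Tm_mem_TSsub v hz', by rw [← Tm_comp, hv]⟩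

section Flat

variable [Module.Flat A M]

/-- the symmetric tensors of the free module `A^n`, compared with the subalgebra -/
theorem TSsub_free_eq (n : ℕ) :
    TSsub A (Fin n → A) d = Subalgebra.toSubmodule (SymTen.TS A (Fin n → A) d) := by
  ext z
  rw [mem_TSsub, Subalgebra.mem_toSubmodule, SymTen.mem_TS_iff]

theorem flat_TSsub_free (n : ℕ) : Module.Flat A (TSsub A (Fin n → A) d) := by
  have := flat_TS_free (A := A) d n
  exact Module.Flat.of_linearEquiv (LinearEquiv.ofEq _ _ (TSsub_free_eq (A := A) (d := d) n))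

/-- map induced on symmetric tensors -/
noncomputable def TSsubMap (f : M →ₗ[A] M') : TSsub A M d →ₗ[A] TSsub A M' d :=
  (Tm d f ∘ₗ (TSsub A M d).subtype).codRestrict (TSsub A M' d) fun z => Tm_mem_TSsub f z.2

theorem TSsubMap_val (f : M →ₗ[A] M') (z : TSsub A M d) :
    ((TSsubMap f z : TSsub A M' d) : ⨂[A] _ : Fin d, M') = Tm d f z.1 := rfl

theorem exists_chart_TSsub_fin : ∀ (m : ℕ) (z : Fin m → TSsub A M d),
    ∃ (n : ℕ) (u : (Fin n → A) →ₗ[A] M) (z' : Fin m → TSsub A (Fin n → A) d),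
      ∀ i, TSsubMap u (z' i) = z i := by
  intro m
  induction m with
  | zero => intro z; exact ⟨0, 0, fun i => i.elim0, fun i => i.elim0⟩
  | succ m ih =>
    intro z
    obtain ⟨n₁, u₁, z₁, h₁⟩ := ih (fun i => z i.castSucc)
    obtain ⟨n₂, u₂, w, hw, hw'⟩ := exists_chart_TSsub (z (Fin.last m)).2
    obtain ⟨n, u, i₁, i₂, e₁, e₂⟩ := joint u₁ u₂
    refine ⟨n, u, Fin.lastCases (TSsubMap i₂ ⟨w, hw⟩) (fun i => TSsubMap i₁ (z₁ i)), ?_⟩
    intro i
    induction i using Fin.lastCases with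
    | last =>
      simp only [Fin.lastCases_last]
      apply Subtype.ext
      rw [TSsubMap_val, TSsubMap_val, ← Tm_comp, e₂, hw']
    | cast i =>
      simp only [Fin.lastCases_castSucc]
      apply Subtype.ext
      rw [TSsubMap_val, TSsubMap_val, ← Tm_comp, e₁, ← h₁ i, TSsubMap_val]

/-- **the symmetric tensors of a flat module are flat** -/
theorem flat_TSsub : Module.Flat A (TSsub A M d) := by
  apply Module.Flat.of_forall_isTrivialRelation
  intro l f x hfx
  obtain ⟨n₀, u₀, z₀, hz₀⟩ := exists_chart_TSsub_fin (A := A) (M := M) (d := d) l x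
  have hkill : Tm d u₀ ((∑ i, f i • z₀ i : TSsub A (Fin n₀ → A) d) :
      ⨂[A] _ : Fin d, (Fin n₀ → A)) = 0 := by
    have : TSsubMap u₀ (∑ i, f i • z₀ i) = 0 := by
      rw [map_sum, ← hfx]
      refine Finset.sum_congr rfl (fun i _ => ?_)
      rw [map_smul, hz₀ i]
    exact congrArg Subtype.val this
  obtain ⟨k, h, g, hu, hk⟩ := pstar (A := A) (M := M) d n₀ u₀ _ hkill
  have hrel : ∑ i, f i • TSsubMap h (z₀ i) = 0 := by
    have e : ∑ i, f i • TSsubMap h (z₀ i) = TSsubMap h (∑ i, f i • z₀ i) := by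
      rw [map_sum]
      simp only [map_smul]
    rw [e]
    apply Subtype.ext
    exact hk
  have := flat_TSsub_free (A := A) (d := d) k
  obtain ⟨k', a, y, hy, ha⟩ := Module.Flat.isTrivialRelation_of_sum_smul_eq_zero
    (R := A) (M := TSsub A (Fin k → A) d) (f := f) (x := fun i => TSsubMap h (z₀ i)) hrel
  refine ⟨k', a, fun j => TSsubMap g (y j), ?_, ha⟩
  intro i
  have hyi : TSsubMap h (z₀ i) = ∑ j, a i j • y j := hy i
  have hcomp : TSsubMap u₀ (z₀ i) = TSsubMap g (TSsubMap h (z₀ i)) := by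
    apply Subtype.ext
    rw [TSsubMap_val, TSsubMap_val, TSsubMap_val, ← Tm_comp, ← hu]
  rw [← hz₀ i, hcomp, hyi, map_sum]
  simp only [map_smul]

end Flat

end Mod

end Groth.Agent.Lib.Helper20.PLFlat
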