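import Mathlib
import Groth.Prelude.Def_SymTen
import Groth.Agent.Lib.Helper20.SymGen1
import Groth.Agent.Lib.Helper20.SymModFlat

/-!
# Polarization: symmetric tensors over an infinite field are spanned by pure powers
-/

namespace Groth.Agent.Lib.Helper20.Polariz

open scoped TensorProduct
open Groth.Agent.Lib.Helper20.PLPolar Groth.Agent.Lib.Helper20.PLTS
  Groth.Agent.Lib.Helper20.PLFlat Groth.Agent.Lib.Helper20.SymGen

universe u

variable (k V : Type u) [Field k] [AddCommGroup V] [Module k V] (m : ℕ)

/-- the span of the pure powers -/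
noncomputable def W : Submodule k (⨂[k] _ : Fin m, V) :=
  Submodule.span k (Set.range fun v : V => PiTensorProduct.tprod k (fun _ : Fin m => v))

variable {k V m}

/-- expansion of a pure power of a linear combination -/
theorem tprod_sum_smul {ι : Type} [Fintype ι] (t : ι → k) (w : ι → V) :
    PiTensorProduct.tprod k (fun _ : Fin m => ∑ i, t i • w i) =
      ∑ c : Fin m → ι, (∏ s, t (c s)) • PiTensorProduct.tprod k (fun s => w (c s)) := by
  classical
  rw [MultilinearMap.map_sum (PiTensorProduct.tprod k) (fun (_ : Fin m) (i : ι) => t i • w i)]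
  refine Finset.sum_congr rfl (fun c _ => ?_)
  exact MultilinearMap.map_smul_univ (PiTensorProduct.tprod k) (fun s => t (c s))
    (fun s => w (c s))

open Classical in
/-- orbit sums lie in the span of pure powers, over an infinite field -/
theorem orbit_mem_W [Infinite k] {ι : Type} [Fintype ι] (w : ι → V) (β : ι →₀ ℕ) :
    (∑ c : Fin m → ι, if typ c = β then PiTensorProduct.tprod k (fun s => w (c s)) else 0) ∈
      W k V m := by
  by_contra hnot
  obtain ⟨f, hfx, hfW⟩ := Submodule.exists_le_ker_of_notMem hnot
  -- the polynomial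
  let P : MvPolynomial ι k :=
    ∑ c : Fin m → ι, MvPolynomial.monomial (typ c) (f (PiTensorProduct.tprod k (fun s => w (c s))))
  have hev : ∀ t : ι → k, MvPolynomial.eval t P = 0 := by
    intro t
    have h1 : f (PiTensorProduct.tprod k (fun _ : Fin m => ∑ i, t i • w i)) = 0 :=
      hfW (Submodule.subset_span ⟨_, rfl⟩)
    rw [tprod_sum_smul, map_sum] at h1
    rw [map_sum, ← h1]
    refine Finset.sum_congr rfl (fun c _ => ?_)
    rw [MvPolynomial.eval_monomial, map_smul, smul_eq_mul, mul_comm]
    congr 1
    unfold typ
    rw [← Finsupp.prod_finsetSum_index (fun _ => pow_zero _) (fun _ _ _ => pow_add _ _ _)]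
    refine Finset.prod_congr rfl (fun s _ => ?_)
    rw [Finsupp.prod_single_index (h := fun x e => t x ^ e) (pow_zero _), pow_one]
  have hP : P = 0 := MvPolynomial.funext (fun t => by rw [hev t, map_zero])
  have hcoeff : MvPolynomial.coeff β P =
      f (∑ c : Fin m → ι, if typ c = β then PiTensorProduct.tprod k (fun s => w (c s)) else 0) := by
    rw [map_sum, MvPolynomial.coeff_sum]
    refine Finset.sum_congr rfl (fun c _ => ?_)
    rw [MvPolynomial.coeff_monomial]
    by_cases h : typ c = β
    · simp only [h, if_true]
    · simp only [h, if_false, map_zero]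
  rw [hP, MvPolynomial.coeff_zero] at hcoeff
  exact hfx hcoeff.symm

/-- **symmetric tensors over an infinite field are spanned by pure powers** -/
theorem main [Infinite k] (x : ⨂[k] _ : Fin m, V)
    (hx : ∀ σ : Equiv.Perm (Fin m), PiTensorProduct.reindex k (fun _ : Fin m => V) σ x = x) :
    x ∈ Submodule.span k (Set.range fun v : V => PiTensorProduct.tprod k (fun _ : Fin m => v)) := by
  classical
  change x ∈ W k V m
  have hx' : x ∈ TSsub k V m := mem_TSsub.mpr hx
  obtain ⟨n, u, z', hz', rfl⟩ := exists_chart_TSsub hx'
  rw [TSsub_free_eq, Subalgebra.mem_toSubmodule] at hz'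
  have htop := coeffSpan_TSlaw_eq_top_of_flat (A := k) (B := Fin n → k) (d := m)
  have key : ∀ y ∈ PLSpan.coeffSpan (TSlaw k (Fin n → k) m).law,
      Tm m u ((y : SymTen.TS k (Fin n → k) m) : ⨂[k] _ : Fin m, (Fin n → k)) ∈ W k V m := by
    intro y hy
    unfold PLSpan.coeffSpan at hy
    induction hy using Submodule.span_induction with
    | mem y hy =>
      obtain ⟨ι, _, mm, β, rfl⟩ := hy
      rw [val_coeff_TSlaw, coeff_Tlaw, map_sum]
      have h1 : ∀ c : Fin m → ι,
          Tm m u (if typ c = β then PiTensorProduct.tprod k (fun i => mm (c i)) else 0) =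
          if typ c = β then PiTensorProduct.tprod k (fun s => (fun i => u (mm i)) (c s)) else 0 := by
        intro c
        by_cases h : typ c = β
        · simp only [h, if_true]
          exact PiTensorProduct.map_tprod _ _
        · simp only [h, if_false, map_zero]
      simp_rw [h1]
      exact orbit_mem_W (fun i => u (mm i)) β
    | zero => simp
    | add a b _ _ ha hb =>
      rw [Subalgebra.coe_add, map_add]
      exact add_mem ha hb
    | smul r a _ ha =>
      rw [Subalgebra.coe_smul, map_smul]
      exact Submodule.smul_mem _ _ ha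
  have hz'' : (⟨z', hz'⟩ : SymTen.TS k (Fin n → k) m) ∈
      PLSpan.coeffSpan (TSlaw k (Fin n → k) m).law := by
    rw [htop]
    trivial
  exact key _ hz''

end Groth.Agent.Lib.Helper20.Polariz
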