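import Mathlib
import Groth.Agent.Lib.Helper20.SegCM7
import Groth.Agent.Lib.Helper20.GrVP4
import Groth.Agent.Lib.Helper20.GrLES13
import Groth.Agent.Lib.Helper20.GrLES8

/-!
# Shifted gradings by submodules and the graded local cohomology of a shifted module
-/

set_option autoImplicit false
set_option linter.unusedSectionVars false
set_option linter.unusedVariables false
set_option linter.style.haveILetI false

universe u

namespace Groth.Agent.Lib.Helper20.PolySeg

open DirectSum Groth.Agent.Lib.Helper26.GrProj Groth.Agent.Lib.Helper20.GrKit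
  Groth.Agent.Lib.Helper20.GrLES Groth.Agent.Lib.Helper20.GrConv

section Shift

variable {k : Type u} [Field k] {R : Type u} [CommRing R] [Algebra k R]
  (𝒜 : ℤ → Submodule k R) [GradedAlgebra 𝒜]

theorem shift_isInternal (a : ℤ) : DirectSum.IsInternal (fun n : ℤ => 𝒜 (n + a)) := by
  have h := DirectSum.Decomposition.isInternal 𝒜
  refine DirectSum.isInternal_submodule_of_iSupIndep_of_iSup_eq_top ?_ ?_
  · exact h.submodule_iSupIndep.comp (add_left_injective a)
  · rw [← h.submodule_iSup_eq_top]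
    exact (Equiv.addRight a).iSup_comp (g := 𝒜)

/-- the decomposition of the shifted grading `R(a)` -/
noncomputable def shiftDec (a : ℤ) : DirectSum.Decomposition (fun n : ℤ => 𝒜 (n + a)) :=
  (shift_isInternal 𝒜 a).chooseDecomposition

theorem shiftGSMul (a : ℤ) : SetLike.GradedSMul 𝒜 (fun n : ℤ => 𝒜 (n + a)) where
  smul_mem := by
    intro i j r x hr hx
    have := SetLike.mul_mem_graded hr hx
    rw [vadd_eq_add, add_assoc]
    exact this

end Shift

section Compare

variable {R : Type u} [CommRing R] (𝒜 : ℤ → AddSubgroup R) [GradedRing 𝒜]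

theorem eq_bot_iff_of_graded_equiv {A B : Type u} [AddCommGroup A] [AddCommGroup B]
    (SA : AddSubgroup A) (SB : AddSubgroup B) (ε : A ≃+ B)
    (h1 : ∀ x, x ∈ SA → ε x ∈ SB) (h2 : ∀ y, y ∈ SB → ε.symm y ∈ SA) :
    SA = ⊥ ↔ SB = ⊥ := by
  rw [AddSubgroup.eq_bot_iff_forall, AddSubgroup.eq_bot_iff_forall]
  constructor
  · intro h y hy
    have := h _ (h2 y hy)
    rw [← ε.apply_symm_apply y, this, map_zero]
  · intro h x hx
    have := h _ (h1 x hx)
    rw [← ε.symm_apply_apply x, this, map_zero]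

/-- the graded local cohomology of the shifted module `R(a)` -/
theorem Hgr_shift_eq_bot_iff (I : GrLC.StarInjRes 𝒜 𝒜) (a : ℤ)
    (ℳ : ℤ → AddSubgroup R) [DirectSum.Decomposition ℳ] [SetLike.GradedSMul 𝒜 ℳ]
    (hℳ : ∀ (g : ℤ) (x : R), x ∈ ℳ g ↔ x ∈ 𝒜 (g + a))
    (E : GrLC.StarInjRes 𝒜 ℳ) (m : HomogeneousIdeal 𝒜) (i : ℕ) (g : ℤ) :
    E.Hgr m i g = ⊥ ↔ I.Hgr m i (g + a) = ⊥ := by
  have he : GrLC.IsGrHom ℳ (shiftGr 𝒜 (-a)) (LinearEquiv.refl R R).toLinearMap := by
    intro g x hx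
    change x ∈ 𝒜 (g - -a)
    rw [sub_neg_eq_add]
    exact (hℳ g x).1 hx
  obtain ⟨ε, h1, h2⟩ := exists_comparison_equiv E (shiftRes I (-a)) (LinearEquiv.refl R R) he m i
  have := eq_bot_iff_of_graded_equiv (E.Hgr m i g) ((shiftRes I (-a)).Hgr m i g)
    ε.toAddEquiv (fun x hx => h1 g x hx) (fun y hy => h2 g y hy)
  rw [this]
  have hg : g - -a = g + a := sub_neg_eq_add g a
  change I.Hgr m i (g - -a) = ⊥ ↔ _
  rw [hg]

end Compare

end Groth.Agent.Lib.Helper20.PolySeg
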