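import Mathlib
import Groth.Agent.Lib.Helper20.PolySeg1

/-!
# The standard graded polynomial ring: pieces and graded local cohomology of `R(a)`
-/

set_option autoImplicit false
set_option linter.unusedSectionVars false
set_option linter.unusedVariables false
set_option linter.style.haveILetI false

universe u

namespace Groth.Agent.Lib.Helper20.PolySeg

open DirectSum Groth.Agent.Lib.Helper26.GrProj Groth.Agent.Lib.Helper20.GrKit
  Groth.Agent.Lib.Helper20.GrLES Groth.Agent.Lib.Helper20.GrConv MvPolynomial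
  Groth.Agent.Lib.Helper20.GrCanW Groth.Agent.Lib.Helper20.GrVP
  Groth.Agent.Lib.Helper20.HilbMono

attribute [local instance] MvPolynomial.weightedGradedAlgebra

variable (k : Type u) [Field k] (r : ℕ)

/-- the standard grading of the polynomial ring by submodules -/
noncomputable abbrev W : ℤ → Submodule k (MvPolynomial (Fin r) k) :=
  weightedHomogeneousSubmodule k (fun _ : Fin r => (1 : ℤ))

theorem W_neg (n : ℤ) (hn : n < 0) : W k r n = ⊥ := by
  rw [Submodule.eq_bot_iff]
  intro x hx
  have h : x ∈ asGr (W k r) n := hx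
  rw [asGr_weighted_neg (w1 r) w1_pos n hn, AddSubgroup.mem_bot] at h
  exact h

theorem W_zero : W k r 0 = Submodule.span k {(1 : MvPolynomial (Fin r) k)} := by
  apply le_antisymm
  · intro x hx
    have hC := eq_C_of_mem_zero (w1 r) w1_pos x hx
    rw [hC, Submodule.mem_span_singleton]
    refine ⟨coeff 0 x, ?_⟩
    rw [MvPolynomial.smul_eq_C_mul, mul_one]
  · rw [Submodule.span_le]
    intro x hx
    rw [Set.mem_singleton_iff] at hx
    rw [hx]
    exact SetLike.GradedOne.one_mem

theorem W_std :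
    Ideal.span (⋃ n ∈ Set.Ioi (0 : ℤ), (W k r n : Set (MvPolynomial (Fin r) k))) =
      Ideal.span ((W k r 1 : Submodule k (MvPolynomial (Fin r) k)) :
        Set (MvPolynomial (Fin r) k)) := by
  have hspanX : Ideal.span (⋃ n ∈ Set.Ioi (0 : ℤ), (W k r n : Set (MvPolynomial (Fin r) k))) =
      Ideal.span (Set.range fun i : Fin r => (X i : MvPolynomial (Fin r) k)) :=
    span_pos_le (w1 r) w1_pos
  apply le_antisymm
  · rw [hspanX, Ideal.span_le]
    rintro _ ⟨i, rfl⟩
    apply Ideal.subset_span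
    exact isWeightedHomogeneous_X k (w1 r) i
  · apply Ideal.span_mono
    intro x hx
    simp only [Set.mem_iUnion, Set.mem_Ioi, SetLike.mem_coe, exists_prop]
    exact ⟨1, one_pos, hx⟩

theorem dim_poly : ringKrullDim (MvPolynomial (Fin r) k) = r := by
  rw [MvPolynomial.ringKrullDim_of_isNoetherianRing, ringKrullDim_eq_zero_of_field, zero_add]
  simp

theorem cm_poly : LocCoh.IsCohenMacaulayRing (MvPolynomial (Fin r) k) := by
  haveI hreg : IsRegularRing (MvPolynomial (Fin r) k) := inferInstance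
  haveI hG : LocCoh.IsGorensteinRing (MvPolynomial (Fin r) k) :=
    Groth.Agent.Lib.Helper5.GorFibre.isGorensteinRing_of_isRegularRing _
  exact
    { isCohenMacaulayLocalRing_localization := fun q _ => by
        haveI : LocCoh.IsGorensteinLocalRing (Localization.AtPrime q) :=
          LocCoh.IsGorensteinRing.isGorensteinLocalRing_localization q
        exact Groth.Agent.S0341.result (Localization.AtPrime q) }

/-- the pieces of the polynomial ring in at least one variable -/
theorem W_piece_iff (h1 : 1 ≤ r) (n : ℤ) : (∀ x ∈ W k r n, x = 0) ↔ n < 0 := by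
  constructor
  · intro h
    by_contra hn
    have h1' : 1 ≤ ringKrullDim (MvPolynomial (Fin r) k) := by
      rw [dim_poly]
      exact_mod_cast h1
    refine Groth.Agent.Lib.Helper20.SegCM.piece_ne_bot (W k r) (W_neg k r) (W_zero k r)
      (W_std k r) h1' (not_lt.1 hn) ?_
    rw [Submodule.eq_bot_iff]
    exact h
  · intro hn x hx
    rw [W_neg k r n hn, Submodule.mem_bot] at hx
    exact hx

/-- the top graded local cohomology of the standard graded polynomial ring -/
theorem top_eq_bot_iff (h1 : 1 ≤ r) (I' : GrLC.StarInjRes (stdGr k r) (stdGr k r))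
    (m' : HomogeneousIdeal (stdGr k r))
    (hmsp' : m'.toIdeal = Ideal.span (⋃ n ∈ Set.Ioi (0 : ℤ),
      (stdGr k r n : Set (MvPolynomial (Fin r) k)))) (g : ℤ) :
    I'.Hgr m' r g = ⊥ ↔ -(r : ℤ) < g := by
  have hpos : ∀ n : ℤ, n < 0 → stdGr k r n = ⊥ := asGr_weighted_neg (w1 r) w1_pos
  have h0 : IsField (GrLC.deg0 (stdGr k r)) := isField_deg0 (w1 r) w1_pos
  have hmeq : m' = irr (stdGr k r) := by
    apply HomogeneousIdeal.toIdeal_injective
    rw [hmsp', irr_toIdeal]
  subst hmeq
  have hm := isStarLocal_irr (stdGr k r) hpos h0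
  have ha : GrLC.endDeg (I'.Hgr (irr (stdGr k r)) r) =
      (((-(r : ℤ) : ℤ) : WithTop ℤ) : WithBot (WithTop ℤ)) := by
    rw [endDeg_top_weighted (w1 r) w1_pos (irr (stdGr k r)) hm hmsp' I']
    simp
  have hstd : (irr (stdGr k r)).toIdeal =
      Ideal.span ((stdGr k r 1 : AddSubgroup (MvPolynomial (Fin r) k)) :
        Set (MvPolynomial (Fin r) k)) := by
    rw [hmsp']
    exact W_std k r
  constructor
  · intro h
    by_contra hg
    refine Groth.Agent.Lib.Helper20.TopLCGen.Hcomp_ne_bot (stdGr k r) (irr (stdGr k r)) hstd r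
      (dim_poly k r) h1 I' (-(r : ℤ)) ha g (not_lt.1 hg) ?_
    rw [Submodule.eq_bot_iff]
    intro x hx
    have hx' : x ∈ I'.Hgr (irr (stdGr k r)) r g := hx
    rw [h, AddSubgroup.mem_bot] at hx'
    exact hx'
  · intro hg
    apply piece_eq_bot_of_endDeg_lt
    rw [ha]
    exact_mod_cast hg

section Mod

variable (a : ℤ) [DirectSum.Decomposition (fun n : ℤ => W k r (n + a))]
  [SetLike.GradedSMul (W k r) (fun n : ℤ => W k r (n + a))]
  (E : GrLC.StarInjRes (W k r) (fun n : ℤ => W k r (n + a)))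
  (m : HomogeneousIdeal (W k r))
  (hm : m.toIdeal = Ideal.span (⋃ n ∈ Set.Ioi (0 : ℤ),
    (W k r n : Set (MvPolynomial (Fin r) k))))

include hm in
/-- the top graded local cohomology of `R(a)` -/
theorem Hcomp_top_eq_bot_iff (h1 : 1 ≤ r) (d : ℤ) :
    E.Hcomp m r d = ⊥ ↔ -(r : ℤ) < d + a := by
  obtain ⟨I'⟩ := nonempty_starInjRes (stdGr k r) (stdGr k r)
  have hmsp' : (idealToAS (W k r) m).toIdeal = Ideal.span (⋃ n ∈ Set.Ioi (0 : ℤ),
      (stdGr k r n : Set (MvPolynomial (Fin r) k))) := hm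
  have e1 : E.Hcomp m r d = ⊥ ↔ (resToAS E).Hgr (idealToAS (W k r) m) r d = ⊥ := by
    rw [AddSubgroup.eq_bot_iff_forall, Submodule.eq_bot_iff]
    rfl
  rw [e1, Hgr_shift_eq_bot_iff (stdGr k r) I' a (asGrM (fun n : ℤ => W k r (n + a)))
    (fun g x => Iff.rfl) (resToAS E) (idealToAS (W k r) m) r d,
    top_eq_bot_iff k r h1 I' (idealToAS (W k r) m) hmsp' (d + a)]

include hm in
/-- the lower graded local cohomology of `R(a)` vanishes -/
theorem Hcomp_eq_bot_of_ne (i : ℕ) (hi : i ≠ r) (d : ℤ) : E.Hcomp m i d = ⊥ := by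
  haveI := cm_poly k r
  refine Groth.Agent.Lib.Helper20.SegCM.Hcomp_eq_bot_of_cm (W k r) (W_neg k r) (W_zero k r) m hm
    (fun n : ℤ => W k r (n + a)) E r ?_
    (Groth.Agent.Lib.Helper20.SegCM.isCMRing_iff_module.1 (cm_poly k r)) i hi d
  rw [Module.supportDim_self_eq_ringKrullDim, dim_poly]

end Mod

end Groth.Agent.Lib.Helper20.PolySeg
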