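import Mathlib
import Groth.Agent.Lib.Helper20.SegCM5
import Groth.Agent.Lib.Helper20.SegFin

/-!
# Segre products of modules with cohomology concentrated in one degree and with "linear" supports
-/

set_option autoImplicit false
set_option linter.unusedSectionVars false
set_option linter.unusedVariables false
set_option linter.style.haveILetI false

universe u

open TensorProduct

namespace Groth.Agent.Lib.Helper20.PolySeg

open Groth.Agent.Lib.Helper20.GrConv Groth.Agent.Lib.Helper20.GrKit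
  Groth.Agent.Lib.Helper20.SegKun Groth.Agent.Lib.Helper20.SegCM

section Main

variable (k : Type u) [Field k] (R : Type u) [CommRing R] [Nontrivial R] [Algebra k R]
  (𝒜 : ℤ → Submodule k R) [GradedAlgebra 𝒜] (hposR : ∀ n : ℤ, n < 0 → 𝒜 n = ⊥)
  (h0R : 𝒜 0 = Submodule.span k {(1 : R)}) [Algebra.FiniteType k R]
  (S : Type u) [CommRing S] [Nontrivial S] [Algebra k S]
  (ℬ : ℤ → Submodule k S) [GradedAlgebra ℬ] (hposS : ∀ n : ℤ, n < 0 → ℬ n = ⊥)
  (h0S : ℬ 0 = Submodule.span k {(1 : S)}) [Algebra.FiniteType k S]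
  (T : Type u) [CommRing T] [Algebra k T] (𝒯 : ℤ → Submodule k T) [GradedAlgebra 𝒯]
  (ψ : T →ₐ[k] R ⊗[k] S) (hT : GrSeg.IsSegreRing 𝒜 ℬ 𝒯 ψ)
  (mR : HomogeneousIdeal 𝒜)
  (hmR : mR.toIdeal = Ideal.span (⋃ n ∈ Set.Ioi (0 : ℤ), (𝒜 n : Set R)))
  (mS : HomogeneousIdeal ℬ)
  (hmS : mS.toIdeal = Ideal.span (⋃ n ∈ Set.Ioi (0 : ℤ), (ℬ n : Set S)))
  (mT : HomogeneousIdeal 𝒯)
  (hmT : mT.toIdeal = Ideal.span (⋃ n ∈ Set.Ioi (0 : ℤ), (𝒯 n : Set T)))
  (M : Type u) [AddCommGroup M] [Module R M] [Module k M] [IsScalarTower k R M]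
  {τM : Type u} [SetLike τM M] [AddSubgroupClass τM M]
  (ℳ : ℤ → τM) [DirectSum.Decomposition ℳ] [SetLike.GradedSMul 𝒜 ℳ]
  [Module.Finite R M] (EM : GrLC.StarInjRes 𝒜 ℳ)
  (N : Type u) [AddCommGroup N] [Module S N] [Module k N] [IsScalarTower k S N]
  {τN : Type u} [SetLike τN N] [AddSubgroupClass τN N]
  (𝒩 : ℤ → τN) [DirectSum.Decomposition 𝒩] [SetLike.GradedSMul ℬ 𝒩]
  [Module.Finite S N] (EN : GrLC.StarInjRes ℬ 𝒩)
  (P : Type u) [AddCommGroup P] [Module T P] [Module k P] [IsScalarTower k T P]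
  {τQ : Type u} [SetLike τQ P] [AddSubgroupClass τQ P]
  (𝒬 : ℤ → τQ) [DirectSum.Decomposition 𝒬] [SetLike.GradedSMul 𝒯 𝒬]
  (φ : P →ₗ[k] M ⊗[k] N) (hP : GrSeg.IsSegreMod ψ ℳ 𝒩 𝒬 φ) (EP : GrLC.StarInjRes 𝒯 𝒬)
  (r s : ℕ) (h1r : 1 ≤ r) (h1s : 1 ≤ s) (a b : ℤ)
  (hMi : ∀ i : ℕ, i ≠ r → ∀ d : ℤ, EM.Hcomp mR i d = ⊥)
  (hMr : ∀ d : ℤ, EM.Hcomp mR r d = ⊥ ↔ -(r : ℤ) < d + a)
  (hM0 : ∀ d : ℤ, (∀ x ∈ ℳ d, x = 0) ↔ d + a < 0)
  (hNj : ∀ j : ℕ, j ≠ s → ∀ d : ℤ, EN.Hcomp mS j d = ⊥)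
  (hNs : ∀ d : ℤ, EN.Hcomp mS s d = ⊥ ↔ -(s : ℤ) < d + b)
  (hN0 : ∀ d : ℤ, (∀ y ∈ 𝒩 d, y = 0) ↔ d + b < 0)

include hposR h0R hposS h0S hT hmR hmS hmT hP h1r h1s hMi hMr hM0 hNj hNs hN0 in
/-- the vanishing of the graded pieces of the local cohomology of the Segre product -/
theorem Hcomp_segre_eq_bot_iff [Module.Finite T P] (q : ℕ) (d : ℤ) :
    EP.Hcomp mT q d = ⊥ ↔
      (d + a < 0 ∨ q ≠ s ∨ -(s : ℤ) < d + b) ∧ (q ≠ r ∨ -(r : ℤ) < d + a ∨ d + b < 0) ∧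
        (q + 1 ≠ r + s ∨ -(r : ℤ) < d + a ∨ -(s : ℤ) < d + b) := by
  haveI : IsNoetherianRing R := Algebra.FiniteType.isNoetherianRing k R
  haveI : IsNoetherianRing S := Algebra.FiniteType.isNoetherianRing k S
  haveI : IsNoetherianRing T :=
    Groth.Agent.S18646.result k R 𝒜 hposR h0R S ℬ hposS h0S T 𝒯 ψ hT.1 hT.2
  haveI : Nontrivial (R ⊗[k] S) :=
    Algebra.TensorProduct.nontrivial_of_algebraMap_injective_of_flat_left k R S
      (algebraMap k S).injective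
  haveI : Nontrivial T := ⟨0, 1, fun h => zero_ne_one (α := R ⊗[k] S)
    (by rw [← map_zero ψ, ← map_one ψ, h])⟩
  have h0T : 𝒯 0 = Submodule.span k {(1 : T)} :=
    Groth.Agent.Lib.Helper20.SegDim.piece_zero_eq hT.1 hT.2 h0R h0S
  have hM : ∀ i : ℕ, Module.finrank (GrLC.deg0 𝒜) (EM.Hcomp mR i d) = 0 ↔
      (i ≠ r ∨ -(r : ℤ) < d + a) := by
    intro i
    rw [finrank_Hcomp_eq_zero_iff 𝒜 h0R mR hmR ℳ EM i d]
    by_cases hi : i = r
    · subst hi
      rw [hMr d]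
      constructor
      · exact fun h => Or.inr h
      · rintro (h | h)
        · exact absurd rfl h
        · exact h
    · exact ⟨fun _ => Or.inl hi, fun _ => hMi i hi d⟩
  have hN : ∀ j : ℕ, Module.finrank (GrLC.deg0 ℬ) (EN.Hcomp mS j d) = 0 ↔
      (j ≠ s ∨ -(s : ℤ) < d + b) := by
    intro j
    rw [finrank_Hcomp_eq_zero_iff ℬ h0S mS hmS 𝒩 EN j d]
    by_cases hj : j = s
    · subst hj
      rw [hNs d]
      constructor
      · exact fun h => Or.inr h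
      · rintro (h | h)
        · exact absurd rfl h
        · exact h
    · exact ⟨fun _ => Or.inl hj, fun _ => hNj j hj d⟩
  rw [← finrank_Hcomp_eq_zero_iff 𝒯 h0T mT hmT 𝒬 EP q d,
    kunneth k R 𝒜 hposR h0R S ℬ hposS h0S T 𝒯 ψ hT mR hmR mS hmS mT hmT M ℳ EM N 𝒩 EN P 𝒬 φ hP EP
      (hMi 0 (by omega)) (hNj 0 (by omega)) q d,
    Nat.add_eq_zero_iff, Nat.add_eq_zero_iff, Nat.mul_eq_zero, Nat.mul_eq_zero,
    finrank_comp_eq_zero_iff 𝒜 h0R ℳ d, finrank_comp_eq_zero_iff ℬ h0S 𝒩 d, hM q, hN q,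
    hM0 d, hN0 d, Finset.sum_eq_zero_iff, and_assoc]
  refine and_congr Iff.rfl (and_congr ?_ ?_)
  · constructor
    · rintro ((h | h) | h)
      · exact Or.inl h
      · exact Or.inr (Or.inl h)
      · exact Or.inr (Or.inr h)
    · rintro (h | h | h)
      · exact Or.inl (Or.inl h)
      · exact Or.inl (Or.inr h)
      · exact Or.inr h
  · constructor
    · intro h
      by_cases hq : q + 1 = r + s
      · right
        have h2 := h r (Finset.mem_range.2 (by omega))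
        rw [Nat.mul_eq_zero, hM r, hN (q + 1 - r)] at h2
        rcases h2 with (h3 | h3) | (h3 | h3)
        · exact absurd rfl h3
        · exact Or.inl h3
        · exact absurd (by omega) h3
        · exact Or.inr h3
      · exact Or.inl hq
    · intro h i hi
      rw [Nat.mul_eq_zero, hM i, hN (q + 1 - i)]
      rw [Finset.mem_range] at hi
      by_cases hir : i = r
      · by_cases hjs : q + 1 - i = s
        · rcases h with h | h | h
          · exact absurd (by omega) h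
          · exact Or.inl (Or.inr h)
          · exact Or.inr (Or.inr h)
        · exact Or.inr (Or.inl hjs)
      · exact Or.inl (Or.inl hir)

include hposR h0R hposS h0S hT hmT in
/-- computing the depth from the graded local cohomology -/
theorem idealDepth_eq_of [Module.Finite T P] (n : ℕ)
    (hlt : ∀ q : ℕ, q < n → ∀ d : ℤ, EP.Hcomp mT q d = ⊥) (d₀ : ℤ)
    (hne : EP.Hcomp mT n d₀ ≠ ⊥) : LocCoh.idealDepth mT.toIdeal P = (n : ℕ∞) := by
  haveI : IsNoetherianRing T :=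
    Groth.Agent.S18646.result k R 𝒜 hposR h0R S ℬ hposS h0S T 𝒯 ψ hT.1 hT.2
  apply le_antisymm
  · by_contra hcon
    rw [not_le] at hcon
    have h1 : ((n + 1 : ℕ) : ℕ∞) ≤ LocCoh.idealDepth mT.toIdeal P := by
      push_cast
      exact Order.add_one_le_of_lt hcon
    have h2 := (Groth.Agent.Lib.Helper2.HZDepth1.le_idealDepth_iff mT.toIdeal P (n + 1)).1 h1 n
      (Nat.lt_succ_self n)
    exact hne ((subsingleton_LC_iff EP mT n).1 h2 d₀)
  · exact (Groth.Agent.Lib.Helper2.HZDepth1.le_idealDepth_iff mT.toIdeal P n).2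
      (fun i hi => (subsingleton_LC_iff EP mT i).2 (hlt i hi))

include hposR h0R hposS h0S hT hmT in
/-- a module with some nonzero local cohomology is nontrivial -/
theorem nontrivial_of_Hcomp_ne_bot [Module.Finite T P] (n : ℕ) (d₀ : ℤ)
    (hne : EP.Hcomp mT n d₀ ≠ ⊥) : Nontrivial P := by
  haveI : IsNoetherianRing T :=
    Groth.Agent.S18646.result k R 𝒜 hposR h0R S ℬ hposS h0S T 𝒯 ψ hT.1 hT.2
  by_contra hcon
  rw [not_nontrivial_iff_subsingleton] at hcon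
  have htop : LocCoh.idealDepth mT.toIdeal P = ⊤ := by
    unfold LocCoh.idealDepth
    rw [if_pos (Subsingleton.elim _ _)]
  have h1 : ((n + 1 : ℕ) : ℕ∞) ≤ LocCoh.idealDepth mT.toIdeal P := by
    rw [htop]
    exact le_top
  have h2 := (Groth.Agent.Lib.Helper2.HZDepth1.le_idealDepth_iff mT.toIdeal P (n + 1)).1 h1 n
    (Nat.lt_succ_self n)
  exact hne ((subsingleton_LC_iff EP mT n).1 h2 d₀)

end Main

end Groth.Agent.Lib.Helper20.PolySeg
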