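import Mathlib
import Groth.Agent.Lib.Helper20.PolySeg2
import Groth.Agent.Lib.Helper20.PolySeg3
import Groth.Agent.Lib.Helper20.SegModMain

/-!
# Segre products of shifted polynomial rings: the local cohomology criterion
-/

set_option autoImplicit false
set_option linter.unusedSectionVars false
set_option linter.unusedVariables false
set_option linter.style.haveILetI false

universe u

open TensorProduct

namespace Groth.Agent.Lib.Helper20.PolySeg

open Groth.Agent.Lib.Helper20.GrConv Groth.Agent.Lib.Helper20.GrKit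
  Groth.Agent.Lib.Helper20.SegKun Groth.Agent.Lib.Helper20.SegCM

attribute [local instance] MvPolynomial.weightedGradedAlgebra

section Conv

variable {k : Type u} [Field k] {R S T : Type u} [CommRing R] [CommRing S] [CommRing T]
  [Algebra k R] [Algebra k S] [Algebra k T]
  (𝒜 : ℤ → Submodule k R) [GradedAlgebra 𝒜] (ℬ : ℤ → Submodule k S) [GradedAlgebra ℬ]
  (ψ : T →ₐ[k] R ⊗[k] S)
  {M : Type u} [AddCommGroup M] [Module R M] [Module k M] [IsScalarTower k R M]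
  {τM : Type u} [SetLike τM M] [AddSubgroupClass τM M]
  (ℳ : ℤ → τM) [SetLike.GradedSMul 𝒜 ℳ]
  {N : Type u} [AddCommGroup N] [Module S N] [Module k N] [IsScalarTower k S N]
  {τN : Type u} [SetLike τN N] [AddSubgroupClass τN N]
  (𝒩 : ℤ → τN)
  {P : Type u} [AddCommGroup P] [Module T P] [Module k P] [IsScalarTower k T P]
  {τQ : Type u} [SetLike τQ P] [AddSubgroupClass τQ P]
  (𝒬 : ℤ → τQ) [DirectSum.Decomposition 𝒬] (φ : P →ₗ[k] M ⊗[k] N)

theorem asGrM_gsmul : SetLike.GradedSMul 𝒜 (asGrM ℳ) :=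
  ⟨fun {i j} {r x} hr hx => SetLike.GradedSMul.smul_mem (A := 𝒜) (B := ℳ) hr hx⟩

theorem isSegreMod_asGrM (hP : GrSeg.IsSegreMod ψ ℳ 𝒩 𝒬 φ) :
    GrSeg.IsSegreMod ψ (asGrM ℳ) (asGrM 𝒩) 𝒬 φ :=
  ⟨hP.injective, hP.image_piece, hP.map_smul⟩

end Conv

section Main

variable (k : Type u) [Field k] (r s : ℕ) (h1r : 1 ≤ r) (h1s : 1 ≤ s)
  (T : Type u) [CommRing T] [Algebra k T] (𝒯 : ℤ → Submodule k T) [GradedAlgebra 𝒯]
  (ψ : T →ₐ[k] TensorProduct k (MvPolynomial (Fin r) k) (MvPolynomial (Fin s) k))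
  (hT : GrSeg.IsSegreRing (W k r) (W k s) 𝒯 ψ)
  (mT : HomogeneousIdeal 𝒯)
  (hmT : mT.toIdeal = Ideal.span (⋃ n ∈ Set.Ioi (0 : ℤ), (𝒯 n : Set T)))
  (a b : ℤ) (P : Type u) [AddCommGroup P] [Module T P] [Module k P] [IsScalarTower k T P]
  (𝒬 : ℤ → AddSubgroup P) [DirectSum.Decomposition 𝒬]
  (φ : P →ₗ[k] TensorProduct k (MvPolynomial (Fin r) k) (MvPolynomial (Fin s) k))
  (hP : GrSeg.IsSegreMod ψ (fun n : ℤ => W k r (n + a)) (fun n : ℤ => W k s (n + b)) 𝒬 φ)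

/-- the numerical condition for the vanishing of `H^q(R(a) # S(b))_d` -/
def Cond (r s : ℕ) (a b : ℤ) (q : ℕ) (d : ℤ) : Prop :=
  (d + a < 0 ∨ q ≠ s ∨ -(s : ℤ) < d + b) ∧ (q ≠ r ∨ -(r : ℤ) < d + a ∨ d + b < 0) ∧
    (q + 1 ≠ r + s ∨ -(r : ℤ) < d + a ∨ -(s : ℤ) < d + b)

include h1r h1s hT hmT hP in
theorem poly_main :
    ((∀ (q : Ideal T) [q.IsPrime], Subsingleton (LocalizedModule q.primeCompl P) ∨
      LocCoh.IsCohenMacaulayModule (Localization.AtPrime q) (LocalizedModule q.primeCompl P)) ↔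
      ∀ q : ℕ, q < r + s - 1 → ∀ d : ℤ, Cond r s a b q d) ∧
    ∀ n : ℕ, (∀ q : ℕ, q < n → ∀ d : ℤ, Cond r s a b q d) → ∀ d₀ : ℤ, ¬ Cond r s a b n d₀ →
      LocCoh.idealDepth mT.toIdeal P = (n : ℕ∞) := by
  classical
  letI dM := shiftDec (W k r) a
  haveI gM := shiftGSMul (W k r) a
  letI dN := shiftDec (W k s) b
  haveI gN := shiftGSMul (W k s) b
  haveI gs : SetLike.GradedSMul 𝒯 𝒬 :=
    gradedSMul_of_isSegreMod (W k r) (W k s) 𝒯 ψ (fun n : ℤ => W k r (n + a))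
      (fun n : ℤ => W k s (n + b)) 𝒬 φ hT hP
  haveI gM' : SetLike.GradedSMul (W k r) (asGrM (fun n : ℤ => W k r (n + a))) :=
    asGrM_gsmul (W k r) (fun n : ℤ => W k r (n + a))
  haveI gN' : SetLike.GradedSMul (W k s) (asGrM (fun n : ℤ => W k s (n + b))) :=
    asGrM_gsmul (W k s) (fun n : ℤ => W k s (n + b))
  have hP' := isSegreMod_asGrM ψ (fun n : ℤ => W k r (n + a)) (fun n : ℤ => W k s (n + b)) 𝒬 φ hP
  haveI : Module.Finite T P :=
    Groth.Agent.Lib.Helper20.SegFin.moduleFinite_segreMod (W k r) (W k s) 𝒯 ψ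
      (asGrM (fun n : ℤ => W k r (n + a))) (asGrM (fun n : ℤ => W k s (n + b))) 𝒬 φ hT.2 hP'
  haveI : IsNoetherianRing T :=
    Groth.Agent.S18646.result k _ (W k r) (W_neg k r) (W_zero k r) _ (W k s) (W_neg k s)
      (W_zero k s) T 𝒯 ψ hT.1 hT.2
  haveI : Nontrivial (MvPolynomial (Fin r) k ⊗[k] MvPolynomial (Fin s) k) :=
    Algebra.TensorProduct.nontrivial_of_algebraMap_injective_of_flat_left k _ _
      (algebraMap k (MvPolynomial (Fin s) k)).injective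
  haveI : Nontrivial T := ⟨0, 1, fun h => zero_ne_one
    (α := MvPolynomial (Fin r) k ⊗[k] MvPolynomial (Fin s) k)
    (by rw [← map_zero ψ, ← map_one ψ, h])⟩
  have h0T : 𝒯 0 = Submodule.span k {(1 : T)} :=
    Groth.Agent.Lib.Helper20.SegDim.piece_zero_eq hT.1 hT.2 (W_zero k r) (W_zero k s)
  have hposT : ∀ n : ℤ, n < 0 → 𝒯 n = ⊥ := fun n hn =>
    Groth.Agent.Lib.Helper20.SegDim.piece_eq_bot_of_neg hT.1 hT.2 (W_neg k r n hn)
  obtain ⟨EM⟩ := nonempty_starInjRes' (𝒜 := W k r) (ℳ := fun n : ℤ => W k r (n + a))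
  obtain ⟨EN⟩ := nonempty_starInjRes' (𝒜 := W k s) (ℳ := fun n : ℤ => W k s (n + b))
  obtain ⟨EP⟩ := nonempty_starInjRes' (𝒜 := 𝒯) (ℳ := 𝒬)
  have key : ∀ (q : ℕ) (d : ℤ), EP.Hcomp mT q d = ⊥ ↔ Cond r s a b q d := fun q d =>
    Hcomp_segre_eq_bot_iff k _ (W k r) (W_neg k r) (W_zero k r) _ (W k s) (W_neg k s)
      (W_zero k s) T 𝒯 ψ hT (irrH (W k r)) (irrH_toIdeal _) (irrH (W k s)) (irrH_toIdeal _) mT hmT
      _ (fun n : ℤ => W k r (n + a)) EM _ (fun n : ℤ => W k s (n + b)) EN P 𝒬 φ hP EP r s h1r h1s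
      a b
      (fun i hi d => Hcomp_eq_bot_of_ne k r a EM (irrH (W k r)) (irrH_toIdeal _) i hi d)
      (fun d => Hcomp_top_eq_bot_iff k r a EM (irrH (W k r)) (irrH_toIdeal _) h1r d)
      (fun d => W_piece_iff k r h1r (d + a))
      (fun j hj d => Hcomp_eq_bot_of_ne k s b EN (irrH (W k s)) (irrH_toIdeal _) j hj d)
      (fun d => Hcomp_top_eq_bot_iff k s b EN (irrH (W k s)) (irrH_toIdeal _) h1s d)
      (fun d => W_piece_iff k s h1s (d + b)) q d
  -- nontriviality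
  obtain ⟨d₁, hd₁a, hd₁b⟩ : ∃ d₁ : ℤ, d₁ + a ≤ -(r : ℤ) ∧ d₁ + b ≤ -(s : ℤ) := by
    rcases le_total (-(r : ℤ) - a) (-(s : ℤ) - b) with h | h
    · exact ⟨-(r : ℤ) - a, by omega, by omega⟩
    · exact ⟨-(s : ℤ) - b, by omega, by omega⟩
  have hne : EP.Hcomp mT (r + s - 1) d₁ ≠ ⊥ := by
    intro h
    have h2 := ((key (r + s - 1) d₁).1 h).2.2
    rcases h2 with h2 | h2 | h2
    · omega
    · omega
    · omega
  haveI : Nontrivial P :=
    nontrivial_of_Hcomp_ne_bot k _ (W k r) (W_neg k r) (W_zero k r) _ (W k s) (W_neg k s)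
      (W_zero k s) T 𝒯 ψ hT mT hmT P 𝒬 EP (r + s - 1) d₁ hne
  have hdM : Module.supportDim (MvPolynomial (Fin r) k) (MvPolynomial (Fin r) k) = r := by
    rw [Module.supportDim_self_eq_ringKrullDim, dim_poly]
  have hdN : Module.supportDim (MvPolynomial (Fin s) k) (MvPolynomial (Fin s) k) = s := by
    rw [Module.supportDim_self_eq_ringKrullDim, dim_poly]
  have hdP := (Groth.Agent.Lib.Helper20.SegModMain.supportDim_segreMod_cm (W k r) (W k s) 𝒯 ψ
    (asGrM (fun n : ℤ => W k r (n + a))) (asGrM (fun n : ℤ => W k s (n + b))) 𝒬 φ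
    (W_neg k r) (W_zero k r) (W_neg k s) (W_zero k s) hT hP' r s h1r h1s hdM hdN
    (isCMRing_iff_module.1 (cm_poly k r)) (isCMRing_iff_module.1 (cm_poly k s))).resolve_right
    (not_subsingleton P)
  refine ⟨?_, ?_⟩
  · rw [cm_iff_Hcomp 𝒯 hposT h0T mT hmT 𝒬 EP (r + s - 1) hdP]
    constructor
    · intro h q hq d
      exact (key q d).1 (h q hq d)
    · intro h q hq d
      exact (key q d).2 (h q hq d)
  · intro n hlt d₀ hn
    exact idealDepth_eq_of k _ (W k r) (W_neg k r) (W_zero k r) _ (W k s) (W_neg k s)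
      (W_zero k s) T 𝒯 ψ hT mT hmT P 𝒬 EP n (fun q hq d => (key q d).2 (hlt q hq d)) d₀
      (fun h => hn ((key n d₀).1 h))

end Main

end Groth.Agent.Lib.Helper20.PolySeg
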