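import Groth.Prelude.Def_GrLC
import Mathlib

/-! Torsion with respect to the positive ideal of a ℤ-graded ring: three equivalent forms. -/

set_option autoImplicit false

namespace Groth.Agent.Lib.Helper20.PosTors

universe u

variable {R A : Type u} [CommRing R] [CommRing A] [Algebra R A]
    (𝒜 : ℤ → Submodule R A) [GradedAlgebra 𝒜]

theorem pow_le_grade (d : ℤ) (n : ℕ) : (𝒜 d) ^ n ≤ 𝒜 (n • d) := by
  induction n with
  | zero =>
    rw [pow_zero, zero_smul, Submodule.one_le]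
    exact SetLike.one_mem_graded 𝒜
  | succ n ih =>
    rw [pow_succ, succ_nsmul]
    refine le_trans (mul_le_mul_left ih _) ?_
    rw [Submodule.mul_le]
    intro x hx y hy
    exact SetLike.mul_mem_graded hx hy

variable {p : ℕ} (f : Fin p → A) (deg : Fin p → ℤ) (hdeg : ∀ i, 0 < deg i)
    (hf : ∀ i, f i ∈ 𝒜 (deg i))
    (hgen : Ideal.span {a : A | ∃ n : ℤ, 0 < n ∧ a ∈ 𝒜 n} = Ideal.span (Set.range f))

include hdeg hf hgen in
theorem grade_le_pow (N : ℕ) : ∀ n : ℤ, (N : ℤ) * (1 + ∑ i, deg i) ≤ n →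
    ∀ r ∈ 𝒜 n, r ∈ Ideal.span (Set.range f) ^ N := by
  classical
  have hDpos : (0 : ℤ) < 1 + ∑ i, deg i := by
    have : 0 ≤ ∑ i, deg i := Finset.sum_nonneg (fun i _ => (hdeg i).le)
    omega
  have hDge : ∀ i, deg i ≤ 1 + ∑ i, deg i := by
    intro i
    have := Finset.single_le_sum (f := deg) (fun j _ => (hdeg j).le) (Finset.mem_univ i)
    omega
  induction N with
  | zero =>
    intro n _ r _
    rw [pow_zero, Ideal.one_eq_top]; trivial
  | succ N ih =>
    intro n hn r hr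
    have hnpos : 0 < n := by
      have : (0 : ℤ) ≤ (N : ℤ) * (1 + ∑ i, deg i) := by positivity
      push_cast at hn
      nlinarith
    have hrI : r ∈ Ideal.span (Set.range f) := by
      rw [← hgen]
      exact Ideal.subset_span ⟨n, hnpos, hr⟩
    obtain ⟨c, hc⟩ := Ideal.mem_span_range_iff_exists_fun.mp hrI
    have hr2 : r = ∑ i, ((DirectSum.decompose 𝒜 (c i) (n - deg i) : 𝒜 (n - deg i)) : A) * f i := by
      have h1 : ((DirectSum.decompose 𝒜 r n : 𝒜 n) : A) = r :=
        DirectSum.decompose_of_mem_same 𝒜 hr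
      rw [← h1, ← hc, DirectSum.decompose_sum, DFinsupp.finsetSum_apply,
        AddSubmonoidClass.coe_finsetSum]
      apply Finset.sum_congr rfl
      intro i _
      have h2 := DirectSum.coe_decompose_mul_add_of_right_mem 𝒜 (i := n - deg i) (a := c i) (hf i)
      rw [sub_add_cancel] at h2
      exact h2
    rw [hr2, pow_succ]
    apply Ideal.sum_mem
    intro i _
    apply Ideal.mul_mem_mul
    · apply ih (n - deg i) _ _ (SetLike.coe_mem _)
      have := hDge i
      push_cast at hn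
      nlinarith
    · exact Ideal.subset_span ⟨i, rfl⟩

include hdeg hf hgen in
theorem tfae (d : ℤ) (hd : 0 < d) (hdvd : ∀ i, deg i ∣ d)
    {M : Type u} [AddCommGroup M] [Module A M] (x : M) :
    [x ∈ GrLC.gam (Ideal.span (Set.range f)) M,
     ∃ n₀ : ℕ, ∀ n : ℕ, n₀ ≤ n → ∀ r ∈ (𝒜 d) ^ n, r • x = 0,
     ∃ s : ℤ, ∀ n : ℤ, s ≤ n → ∀ r ∈ 𝒜 n, r • x = 0].TFAE := by
  tfae_have 1 → 3 := by
    rintro ⟨N, hN⟩
    refine ⟨(N : ℤ) * (1 + ∑ i, deg i), ?_⟩
    intro n hn r hr
    exact hN r (grade_le_pow 𝒜 f deg hdeg hf hgen N n hn r hr)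
  tfae_have 3 → 2 := by
    rintro ⟨s, hs⟩
    refine ⟨s.toNat, ?_⟩
    intro n hn r hr
    apply hs (n • d) _ r (pow_le_grade 𝒜 d n hr)
    have h1 : s ≤ (s.toNat : ℤ) := Int.self_le_toNat s
    have h2 : ((s.toNat : ℕ) : ℤ) ≤ (n : ℤ) := by exact_mod_cast hn
    rw [nsmul_eq_mul]
    have h3 : (0 : ℤ) ≤ n := by positivity
    nlinarith
  tfae_have 2 → 1 := by
    rintro ⟨n₀, hn₀⟩
    let J : Ideal A := LinearMap.ker (LinearMap.toSpanSingleton A M x)
    have hJ : ∀ r : A, r ∈ J ↔ r • x = 0 := by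
      intro r
      simp [J, LinearMap.mem_ker, LinearMap.toSpanSingleton_apply]
    have hle : Ideal.span (Set.range f) ≤ J.radical := by
      rw [Ideal.span_le]
      rintro _ ⟨i, rfl⟩
      obtain ⟨q, hq⟩ := hdvd i
      have hqpos : 0 < q := by
        have := hdeg i
        by_contra hcon
        push_neg at hcon
        have : deg i * q ≤ 0 := mul_nonpos_of_nonneg_of_nonpos (hdeg i).le hcon
        omega
      have h1 : f i ^ q.toNat ∈ 𝒜 d := by
        have := SetLike.pow_mem_graded q.toNat (hf i)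
        rw [nsmul_eq_mul, Int.toNat_of_nonneg hqpos.le, mul_comm, ← hq] at this
        exact this
      have h2 : (f i ^ q.toNat) ^ n₀ ∈ (𝒜 d) ^ n₀ := Submodule.pow_mem_pow _ h1 n₀
      refine ⟨q.toNat * n₀, ?_⟩
      rw [hJ, pow_mul]
      exact hn₀ n₀ le_rfl _ h2
    obtain ⟨N, hN⟩ := Ideal.exists_pow_le_of_le_radical_of_fg hle
      (Submodule.fg_span (Set.finite_range f))
    exact ⟨N, fun r hr => (hJ r).mp (hN hr)⟩
  tfae_finish

end Groth.Agent.Lib.Helper20.PosTors
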