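import Mathlib
import Groth.Agent.Lib.Helper25.ProCons

/-! Pro-constructible subsets of `Spec A` are exactly the images of `Spec B → Spec A`. -/

set_option autoImplicit false
universe u
open Topology Set PrimeSpectrum

namespace Groth.Agent.Lib.Helper20.ProConsSpec

open Groth.Agent.Lib.Helper25.PC

theorem isSpectralMap_comap {A B : Type*} [CommRing A] [CommRing B] (f : A →+* B) :
    IsSpectralMap (PrimeSpectrum.comap f) := by
  refine ⟨PrimeSpectrum.continuous_comap f, fun s hso hsc => ?_⟩
  obtain ⟨t, ht, rfl⟩ := (isCompact_open_iff_eq_finite_iUnion_of_isTopologicalBasis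
    (fun r : A => (basicOpen r : Set (PrimeSpectrum A))) isTopologicalBasis_basic_opens
    isCompact_basicOpen s).mp ⟨hsc, hso⟩
  rw [preimage_iUnion₂]
  exact ht.isCompact_biUnion fun r _ => isCompact_basicOpen (f r)

theorem forward {A : Type u} [CommRing A] (B : Type u) [CommRing B] (f : A →+* B) :
    ∃ S : Set (Set (PrimeSpectrum A)), (∀ s ∈ S, IsConstructible s) ∧
      Set.range (PrimeSpectrum.comap f) = ⋂₀ S := by
  have h1 : IsPCl (Set.range (PrimeSpectrum.comap f)) := by
    rw [← image_univ]
    exact IsPCl.image (isSpectralMap_comap f)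
      (@isClosed_univ (PrimeSpectrum B) (constructibleTopology _))
  exact isPCl_iff_sInter.mp h1

section Backward

variable {A : Type u} [CommRing A] (E : Set (PrimeSpectrum A))

/-- the product of residue fields of the points of `E` -/
abbrev Bprod : Type u := ∀ p : E, p.1.asIdeal.ResidueField

noncomputable def φ : A →+* Bprod E :=
  Pi.ringHom fun p => algebraMap A p.1.asIdeal.ResidueField

theorem φ_apply (a : A) (p : E) : φ E a p = algebraMap A p.1.asIdeal.ResidueField a := rfl

theorem subset_range : E ⊆ Set.range (PrimeSpectrum.comap (φ E)) := by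
  intro p hp
  let ev : Bprod E →+* p.asIdeal.ResidueField := Pi.evalRingHom _ (⟨p, hp⟩ : E)
  refine ⟨⟨RingHom.ker ev, RingHom.ker_isPrime ev⟩, ?_⟩
  apply PrimeSpectrum.ext
  ext a
  simp only [comap_asIdeal, Ideal.mem_comap, RingHom.mem_ker]
  show algebraMap A p.asIdeal.ResidueField a = 0 ↔ _
  exact Ideal.algebraMap_residueField_eq_zero

open Classical in
/-- indicator idempotent of a subset of `E` -/
noncomputable def χ (T : Set (PrimeSpectrum A)) : Bprod E := fun p => if p.1 ∈ T then 1 else 0

open Classical in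
theorem range_subset_of_toSet (T : ConstructibleSetData A) (hET : E ⊆ T.toSet) :
    Set.range (PrimeSpectrum.comap (φ E)) ⊆ T.toSet := by
  rintro _ ⟨P, rfl⟩
  haveI := P.isPrime
  have hprod : ∏ c ∈ T, (1 - χ E c.toSet) = 0 := by
    funext p
    rw [Finset.prod_apply]
    have hp : p.1 ∈ T.toSet := hET p.2
    obtain ⟨c, hc, hpc⟩ := mem_iUnion₂.mp hp
    apply Finset.prod_eq_zero hc
    simp [χ, hpc]
  have h0 : ∏ c ∈ T, (1 - χ E c.toSet) ∈ P.asIdeal := hprod ▸ P.asIdeal.zero_mem
  obtain ⟨c, hc, hcP⟩ := (Ideal.IsPrime.prod_mem_iff).mp h0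
  have hχ : χ E c.toSet ∉ P.asIdeal := by
    intro h
    have : (1 : Bprod E) ∈ P.asIdeal := by
      have := P.asIdeal.add_mem hcP h
      rwa [sub_add_cancel] at this
    exact P.isPrime.ne_top ((Ideal.eq_top_iff_one _).mpr this)
  refine mem_iUnion₂.mpr ⟨c, hc, ?_, ?_⟩
  · -- all g in q
    rw [mem_zeroLocus]
    rintro _ ⟨i, rfl⟩
    show c.g i ∈ (PrimeSpectrum.comap (φ E) P).asIdeal
    rw [comap_asIdeal, Ideal.mem_comap]
    have hz : φ E (c.g i) * χ E c.toSet = 0 := by
      funext p
      simp only [Pi.mul_apply, Pi.zero_apply, χ, φ_apply]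
      by_cases hp : p.1 ∈ c.toSet
      · have hg : c.g i ∈ p.1.asIdeal := by
          have := hp.1
          rw [mem_zeroLocus] at this
          exact this ⟨i, rfl⟩
        rw [Ideal.algebraMap_residueField_eq_zero.mpr hg, zero_mul]
      · rw [if_neg hp, mul_zero]
    have : φ E (c.g i) * χ E c.toSet ∈ P.asIdeal := hz ▸ P.asIdeal.zero_mem
    exact (P.isPrime.mem_or_mem this).resolve_right hχ
  · -- f not in q
    intro hf
    rw [mem_zeroLocus, singleton_subset_iff] at hf
    have hf' : φ E c.f ∈ P.asIdeal := hf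
    let u : Bprod E := fun p => (algebraMap A p.1.asIdeal.ResidueField c.f)⁻¹
    have hχeq : χ E c.toSet = χ E c.toSet * u * φ E c.f := by
      funext p
      simp only [Pi.mul_apply, χ, φ_apply, u]
      by_cases hp : p.1 ∈ c.toSet
      · have hfp : c.f ∉ p.1.asIdeal := by
          intro h
          apply hp.2
          rw [mem_zeroLocus, singleton_subset_iff]
          exact h
        have hne : algebraMap A p.1.asIdeal.ResidueField c.f ≠ 0 := fun h =>
          hfp (Ideal.algebraMap_residueField_eq_zero.mp h)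
        rw [if_pos hp, one_mul, inv_mul_cancel₀ hne]
      · rw [if_neg hp, zero_mul, zero_mul]
    apply hχ
    rw [hχeq]
    exact P.asIdeal.mul_mem_left _ hf'

theorem backward (S : Set (Set (PrimeSpectrum A))) (hS : ∀ s ∈ S, IsConstructible s)
    (hE : E = ⋂₀ S) :
    ∃ (B : Type u) (_ : CommRing B) (f : A →+* B), Set.range (PrimeSpectrum.comap f) = E := by
  refine ⟨Bprod E, inferInstance, φ E, Subset.antisymm ?_ (subset_range E)⟩
  rw [hE]
  intro q hq s hs
  obtain ⟨T, hT⟩ := exists_constructibleSetData_iff.mpr (hS s hs)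
  have hET : E ⊆ T.toSet := by
    rw [hT, hE]
    exact sInter_subset_of_mem hs
  have := range_subset_of_toSet E T hET (hE ▸ hq)
  rwa [hT] at this

end Backward

theorem main {A : Type u} [CommRing A] (E : Set (PrimeSpectrum A)) :
    (∃ (B : Type u) (_ : CommRing B) (f : A →+* B), Set.range (PrimeSpectrum.comap f) = E) ↔
      ∃ S : Set (Set (PrimeSpectrum A)), (∀ s ∈ S, IsConstructible s) ∧ E = ⋂₀ S := by
  constructor
  · rintro ⟨B, _, f, rfl⟩
    exact forward B f
  · rintro ⟨S, hS, hE⟩
    exact backward E S hS hE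

end Groth.Agent.Lib.Helper20.ProConsSpec
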