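import Mathlib

/-!
# The homogeneous localization at a prime inside the localization: Laurent polynomial model
-/

set_option autoImplicit false
set_option linter.unusedSectionVars false
set_option linter.unusedVariables false
set_option linter.style.haveILetI false

namespace Groth.Agent.Lib.Helper20.ProjGor

open HomogeneousLocalization LaurentPolynomial

universe u

variable {A : Type u} [CommRing A] (𝒜 : ℕ → AddSubgroup A) [GradedRing 𝒜]
  (p : Ideal A) [hp : p.IsPrime] (d : ℕ) (f g : A) (hf : f ∈ 𝒜 d) (hg : g ∈ 𝒜 (d + 1))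
  (hfp : f ∉ p) (hgp : g ∉ p)

/-- `r f^e / g^e` for `r` homogeneous of degree `e`. -/
noncomputable def mkA (e : ℕ) (r : A) (hr : r ∈ 𝒜 e) : AtPrime 𝒜 p :=
  HomogeneousLocalization.mk
    { deg := e * (d + 1)
      num := ⟨r * f ^ e, by
        have h1 := SetLike.mul_mem_graded hr (SetLike.pow_mem_graded e hf)
        have h2 : e + e • d = e * (d + 1) := by rw [smul_eq_mul]; ring
        rwa [h2] at h1⟩
      den := ⟨g ^ e, by
        have h1 := SetLike.pow_mem_graded e hg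
        rwa [smul_eq_mul] at h1⟩
      den_mem := p.primeCompl.pow_mem hgp e }

theorem val_mkA_mul (e : ℕ) (r : A) (hr : r ∈ 𝒜 e) :
    (mkA 𝒜 p d f g hf hg hgp e r hr).val * algebraMap A (Localization.AtPrime p) (g ^ e) =
      algebraMap A (Localization.AtPrime p) (r * f ^ e) := by
  rw [mkA, HomogeneousLocalization.val_mk, Localization.mk_eq_mk']
  exact IsLocalization.mk'_spec _ (r * f ^ e) ⟨g ^ e, p.primeCompl.pow_mem hgp e⟩

include hgp in
theorem isUnit_g_pow (e : ℕ) : IsUnit (algebraMap A (Localization.AtPrime p) (g ^ e)) :=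
  IsLocalization.map_units (Localization.AtPrime p)
    (⟨g ^ e, p.primeCompl.pow_mem hgp e⟩ : p.primeCompl)

include hfp in
theorem isUnit_f_pow (e : ℕ) : IsUnit (algebraMap A (Localization.AtPrime p) (f ^ e)) :=
  IsLocalization.map_units (Localization.AtPrime p)
    (⟨f ^ e, p.primeCompl.pow_mem hfp e⟩ : p.primeCompl)

theorem eq_mkA_of_val_mul (e : ℕ) (r : A) (hr : r ∈ 𝒜 e) (a : AtPrime 𝒜 p)
    (h : a.val * algebraMap A (Localization.AtPrime p) (g ^ e) =
      algebraMap A (Localization.AtPrime p) (r * f ^ e)) :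
    a = mkA 𝒜 p d f g hf hg hgp e r hr := by
  apply HomogeneousLocalization.val_injective
  have h2 := val_mkA_mul 𝒜 p d f g hf hg hgp e r hr
  exact (isUnit_g_pow p g hgp e).mul_left_injective (h.trans h2.symm)

theorem mkA_add (e : ℕ) (r r' : A) (hr : r ∈ 𝒜 e) (hr' : r' ∈ 𝒜 e) :
    mkA 𝒜 p d f g hf hg hgp e (r + r') (add_mem hr hr') =
      mkA 𝒜 p d f g hf hg hgp e r hr + mkA 𝒜 p d f g hf hg hgp e r' hr' := by
  symm
  apply eq_mkA_of_val_mul
  rw [val_add, add_mul, val_mkA_mul, val_mkA_mul, ← map_add, add_mul]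

theorem mkA_zero (e : ℕ) : mkA 𝒜 p d f g hf hg hgp e 0 (zero_mem _) = 0 := by
  symm
  apply eq_mkA_of_val_mul
  rw [val_zero, zero_mul, zero_mul, map_zero]

theorem mkA_mul (e e' : ℕ) (r r' : A) (hr : r ∈ 𝒜 e) (hr' : r' ∈ 𝒜 e') :
    mkA 𝒜 p d f g hf hg hgp (e + e') (r * r') (SetLike.mul_mem_graded hr hr') =
      mkA 𝒜 p d f g hf hg hgp e r hr * mkA 𝒜 p d f g hf hg hgp e' r' hr' := by
  symm
  apply eq_mkA_of_val_mul
  rw [val_mul, pow_add, map_mul, mul_mul_mul_comm, val_mkA_mul, val_mkA_mul, ← map_mul, pow_add]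
  congr 1
  ring

theorem mkA_one : mkA 𝒜 p d f g hf hg hgp 0 1 SetLike.GradedOne.one_mem = 1 := by
  symm
  apply eq_mkA_of_val_mul
  rw [val_one, pow_zero, pow_zero, mul_one, one_mul]

theorem mkA_congr (e : ℕ) (r r' : A) (hr : r ∈ 𝒜 e) (hr' : r' ∈ 𝒜 e) (h : r = r') :
    mkA 𝒜 p d f g hf hg hgp e r hr = mkA 𝒜 p d f g hf hg hgp e r' hr' := by
  subst h; rfl

theorem mkA_f_eq_mkA_g :
    mkA 𝒜 p d f g hf hg hgp d f hf = mkA 𝒜 p d f g hf hg hgp (d + 1) g hg := by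
  apply eq_mkA_of_val_mul
  have h1 := val_mkA_mul 𝒜 p d f g hf hg hgp d f hf
  rw [pow_succ, map_mul, ← mul_assoc, h1, ← map_mul]
  congr 1
  ring

/-- the component maps. -/
noncomputable def comp (e : ℕ) : 𝒜 e →+ (AtPrime 𝒜 p)[T;T⁻¹] where
  toFun r := C (mkA 𝒜 p d f g hf hg hgp e r.1 r.2) * T e
  map_zero' := by
    simp only [ZeroMemClass.coe_zero]
    rw [mkA_zero, map_zero, zero_mul]
  map_add' r r' := by
    simp only [AddSubgroup.coe_add]
    rw [mkA_add 𝒜 p d f g hf hg hgp e r.1 r'.1 r.2 r'.2, map_add, add_mul]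

/-- `A → A_(p)[T,T⁻¹]`. -/
noncomputable def psi0 : A →+* (AtPrime 𝒜 p)[T;T⁻¹] :=
  (DirectSum.toSemiring (comp 𝒜 p d f g hf hg hgp)
    (by
      show C (mkA 𝒜 p d f g hf hg hgp 0 _ _) * T _ = 1
      rw [mkA_congr 𝒜 p d f g hf hg hgp 0 _ 1 _ SetLike.GradedOne.one_mem (SetLike.coe_gOne 𝒜),
        mkA_one]
      simp)
    (by
      intro i j ai aj
      show C (mkA 𝒜 p d f g hf hg hgp (i + j) _ _) * T _ =
        (C (mkA 𝒜 p d f g hf hg hgp i _ _) * T _) * (C (mkA 𝒜 p d f g hf hg hgp j _ _) * T _)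
      rw [mkA_congr 𝒜 p d f g hf hg hgp (i + j) _ (ai.1 * aj.1) _
        (SetLike.mul_mem_graded ai.2 aj.2) (SetLike.coe_gMul 𝒜 ai aj),
        mkA_mul 𝒜 p d f g hf hg hgp i j ai.1 aj.1 ai.2 aj.2, map_mul, Nat.cast_add, T_add]
      ring)).comp (DirectSum.decomposeRingEquiv 𝒜).toRingHom

theorem psi0_of_mem (e : ℕ) (r : A) (hr : r ∈ 𝒜 e) :
    psi0 𝒜 p d f g hf hg hgp r = C (mkA 𝒜 p d f g hf hg hgp e r hr) * T e := by
  rw [psi0, RingHom.comp_apply]
  show DirectSum.toSemiring _ _ _ (DirectSum.decompose 𝒜 r) = _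
  rw [DirectSum.decompose_of_mem 𝒜 hr, DirectSum.toSemiring_of]
  rfl

end Groth.Agent.Lib.Helper20.ProjGor
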