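import Mathlib
import Groth.Agent.Lib.Helper20.ProjGor1

/-!
# Flatness of the localization at a homogeneous prime over the homogeneous localization
-/

set_option autoImplicit false
set_option linter.unusedSectionVars false
set_option linter.unusedVariables false
set_option linter.style.haveILetI false

namespace Groth.Agent.Lib.Helper20.ProjGor

open HomogeneousLocalization LaurentPolynomial

universe u

variable {A : Type u} [CommRing A] (𝒜 : ℕ → AddSubgroup A) [GradedRing 𝒜]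
  (p : Ideal A) [hp : p.IsPrime] (d : ℕ) (f g : A) (hf : f ∈ 𝒜 d) (hg : g ∈ 𝒜 (d + 1))
  (hfp : f ∉ p) (hgp : g ∉ p)

/-- the unit `g` -/
noncomputable def ug : (Localization.AtPrime p)ˣ :=
  (IsLocalization.map_units (Localization.AtPrime p) (⟨g, hgp⟩ : p.primeCompl)).unit

theorem ug_val : (ug p g hgp : Localization.AtPrime p) = algebraMap A _ g := rfl

/-- the unit `g / f` of degree one -/
noncomputable def uB : (Localization.AtPrime p)ˣ := ug p g hgp * (ug p f hfp)⁻¹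

theorem uB_pow_mul (e : ℕ) :
    ((uB p f g hfp hgp : Localization.AtPrime p)) ^ e * algebraMap A _ (f ^ e) =
      algebraMap A _ (g ^ e) := by
  rw [map_pow, map_pow, ← ug_val p f hfp, ← ug_val p g hgp, ← mul_pow, uB, Units.val_mul,
    mul_assoc, Units.inv_mul, mul_one]

/-- `A_(p)[T,T⁻¹] → A_p`. -/
noncomputable def phi : (AtPrime 𝒜 p)[T;T⁻¹] →+* Localization.AtPrime p :=
  LaurentPolynomial.eval₂ (algebraMap (AtPrime 𝒜 p) (Localization.AtPrime p)) (uB p f g hfp hgp)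

theorem phi_C (a : AtPrime 𝒜 p) : phi 𝒜 p f g hfp hgp (C a) = a.val := by
  rw [phi, eval₂_C, HomogeneousLocalization.algebraMap_apply]

theorem phi_C_mul_T_nat (a : AtPrime 𝒜 p) (e : ℕ) :
    phi 𝒜 p f g hfp hgp (C a * T e) = a.val * (uB p f g hfp hgp : Localization.AtPrime p) ^ e := by
  rw [phi, eval₂_C_mul_T_n, HomogeneousLocalization.algebraMap_apply]

theorem phi_psi0_of_mem (e : ℕ) (r : A) (hr : r ∈ 𝒜 e) :
    phi 𝒜 p f g hfp hgp (psi0 𝒜 p d f g hf hg hgp r) = algebraMap A _ r := by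
  rw [psi0_of_mem 𝒜 p d f g hf hg hgp e r hr, phi_C_mul_T_nat]
  apply (isUnit_f_pow p f hfp e).mul_left_injective
  show _ * _ = _ * _
  rw [mul_assoc, uB_pow_mul, val_mkA_mul, map_mul]

theorem phi_psi0 (r : A) :
    phi 𝒜 p f g hfp hgp (psi0 𝒜 p d f g hf hg hgp r) = algebraMap A _ r := by
  induction r using DirectSum.Decomposition.inductionOn 𝒜 with
  | zero => simp
  | homogeneous m =>
    rename_i e
    exact phi_psi0_of_mem 𝒜 p d f g hf hg hfp hgp e m.1 m.2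
  | add a b ha hb => rw [map_add, map_add, ha, hb, map_add]

theorem T_one_mul_psi0_f :
    (T 1 : (AtPrime 𝒜 p)[T;T⁻¹]) * psi0 𝒜 p d f g hf hg hgp f = psi0 𝒜 p d f g hf hg hgp g := by
  rw [psi0_of_mem 𝒜 p d f g hf hg hgp d f hf, psi0_of_mem 𝒜 p d f g hf hg hgp (d + 1) g hg,
    mkA_f_eq_mkA_g, mul_left_comm, ← T_add]
  congr 2
  push_cast
  ring

theorem T_nat_mul_psi0 (m : ℕ) :
    (T (m : ℤ) : (AtPrime 𝒜 p)[T;T⁻¹]) * psi0 𝒜 p d f g hf hg hgp (f ^ m) =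
      psi0 𝒜 p d f g hf hg hgp (g ^ m) := by
  have h : ((T 1 : (AtPrime 𝒜 p)[T;T⁻¹]) * psi0 𝒜 p d f g hf hg hgp f) ^ m =
      (psi0 𝒜 p d f g hf hg hgp g) ^ m := by rw [T_one_mul_psi0_f]
  rw [mul_pow, T_pow, mul_one, ← map_pow, ← map_pow] at h
  exact h

theorem T_neg_mul_psi0 (m : ℕ) :
    (T (-(m : ℤ)) : (AtPrime 𝒜 p)[T;T⁻¹]) * psi0 𝒜 p d f g hf hg hgp (g ^ m) =
      psi0 𝒜 p d f g hf hg hgp (f ^ m) := by
  rw [← T_nat_mul_psi0 𝒜 p d f g hf hg hgp m, ← mul_assoc, ← T_add, neg_add_cancel, T_zero, one_mul]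

theorem C_mk_mul_psi0 (i : NumDenSameDeg 𝒜 p.primeCompl) :
    C (HomogeneousLocalization.mk i) * psi0 𝒜 p d f g hf hg hgp i.den.1 =
      psi0 𝒜 p d f g hf hg hgp i.num.1 := by
  rw [psi0_of_mem 𝒜 p d f g hf hg hgp i.deg i.den.1 i.den.2,
    psi0_of_mem 𝒜 p d f g hf hg hgp i.deg i.num.1 i.num.2, ← mul_assoc, ← map_mul]
  congr 2
  apply eq_mkA_of_val_mul
  rw [val_mul, mul_assoc, val_mkA_mul, map_mul, ← mul_assoc, map_mul]
  congr 1
  rw [HomogeneousLocalization.val_mk, Localization.mk_eq_mk']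
  exact IsLocalization.mk'_spec _ i.num.1 ⟨i.den.1, i.den_mem⟩

include hfp in
theorem exists_mul_psi0_eq (y : (AtPrime 𝒜 p)[T;T⁻¹]) :
    ∃ a s : A, s ∈ p.primeCompl ∧
      y * psi0 𝒜 p d f g hf hg hgp s = psi0 𝒜 p d f g hf hg hgp a := by
  induction y using LaurentPolynomial.induction_on' with
  | add y₁ y₂ h₁ h₂ =>
    obtain ⟨a₁, s₁, hs₁, e₁⟩ := h₁
    obtain ⟨a₂, s₂, hs₂, e₂⟩ := h₂
    refine ⟨a₁ * s₂ + a₂ * s₁, s₁ * s₂, p.primeCompl.mul_mem hs₁ hs₂, ?_⟩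
    rw [map_add, map_mul, map_mul, map_mul, ← e₁, ← e₂]
    ring
  | C_mul_T n a₀ =>
    obtain ⟨i, rfl⟩ := HomogeneousLocalization.mk_surjective a₀
    have hC := C_mk_mul_psi0 𝒜 p d f g hf hg hgp i
    rcases Int.eq_nat_or_neg n with ⟨m, rfl | rfl⟩
    · refine ⟨i.num.1 * g ^ m, i.den.1 * f ^ m,
        p.primeCompl.mul_mem i.den_mem (p.primeCompl.pow_mem hfp m), ?_⟩
      rw [map_mul, map_mul, ← hC, ← T_nat_mul_psi0 𝒜 p d f g hf hg hgp m]
      ring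
    · refine ⟨i.num.1 * f ^ m, i.den.1 * g ^ m,
        p.primeCompl.mul_mem i.den_mem (p.primeCompl.pow_mem hgp m), ?_⟩
      rw [map_mul, map_mul, ← hC, ← T_neg_mul_psi0 𝒜 p d f g hf hg hgp m]
      ring

include hf hg hfp hgp in
theorem flat_atPrime : Module.Flat (AtPrime 𝒜 p) (Localization.AtPrime p) := by
  letI algLB : Algebra ((AtPrime 𝒜 p)[T;T⁻¹]) (Localization.AtPrime p) :=
    (phi 𝒜 p f g hfp hgp).toAlgebra
  haveI : IsScalarTower (AtPrime 𝒜 p) ((AtPrime 𝒜 p)[T;T⁻¹]) (Localization.AtPrime p) :=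
    IsScalarTower.of_algebraMap_eq (fun a => by
      show a.val = phi 𝒜 p f g hfp hgp (C a)
      rw [phi_C])
  haveI hloc : IsLocalization (Submonoid.map (psi0 𝒜 p d f g hf hg hgp) p.primeCompl)
      (Localization.AtPrime p) := by
    rw [isLocalization_iff]
    refine ⟨?_, ?_, ?_⟩
    · rintro ⟨_, s, hs, rfl⟩
      show IsUnit (phi 𝒜 p f g hfp hgp (psi0 𝒜 p d f g hf hg hgp s))
      rw [phi_psi0]
      exact IsLocalization.map_units _ (⟨s, hs⟩ : p.primeCompl)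
    · intro z
      obtain ⟨⟨a, s⟩, e⟩ := IsLocalization.surj p.primeCompl z
      refine ⟨⟨psi0 𝒜 p d f g hf hg hgp a, ⟨_, s.1, s.2, rfl⟩⟩, ?_⟩
      show z * phi 𝒜 p f g hfp hgp (psi0 𝒜 p d f g hf hg hgp s.1) =
        phi 𝒜 p f g hfp hgp (psi0 𝒜 p d f g hf hg hgp a)
      rw [phi_psi0, phi_psi0]
      exact e
    · intro y y' hyy
      have hyy' : phi 𝒜 p f g hfp hgp y = phi 𝒜 p f g hfp hgp y' := hyy
      obtain ⟨a, s, hs, e⟩ := exists_mul_psi0_eq 𝒜 p d f g hf hg hfp hgp (y - y')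
      have h0 : algebraMap A (Localization.AtPrime p) a = 0 := by
        rw [← phi_psi0 𝒜 p d f g hf hg hfp hgp a, ← e, map_mul, map_sub, hyy', sub_self, zero_mul]
      obtain ⟨t, ht⟩ := (IsLocalization.map_eq_zero_iff p.primeCompl _ a).1 h0
      refine ⟨⟨_, t.1 * s, p.primeCompl.mul_mem t.2 hs, rfl⟩, ?_⟩
      show psi0 𝒜 p d f g hf hg hgp (t.1 * s) * y = psi0 𝒜 p d f g hf hg hgp (t.1 * s) * y'
      rw [← sub_eq_zero, ← mul_sub, map_mul, mul_assoc, mul_comm _ (y - y'), e, ← map_mul, ht,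
        map_zero]
  haveI : Module.Flat ((AtPrime 𝒜 p)[T;T⁻¹]) (Localization.AtPrime p) :=
    IsLocalization.flat _ (Submonoid.map (psi0 𝒜 p d f g hf hg hgp) p.primeCompl)
  haveI : Module.Free (AtPrime 𝒜 p) ((AtPrime 𝒜 p)[T;T⁻¹]) := inferInstance
  exact Module.Flat.trans (AtPrime 𝒜 p) ((AtPrime 𝒜 p)[T;T⁻¹]) (Localization.AtPrime p)

end Groth.Agent.Lib.Helper20.ProjGor
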