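import Mathlib
import Groth.Agent.Lib.Helper20.ProjGor2
import Groth.Agent.S0344
import Groth.Agent.Lib.Helper12.NoetherianAux
import Groth.Agent.Lib.Helper5.GorIso

/-!
# Proj of a Gorenstein graded ring with condition (#) is Gorenstein
-/

set_option autoImplicit false
set_option linter.unusedSectionVars false
set_option linter.unusedVariables false
set_option linter.style.haveILetI false

namespace Groth.Agent.Lib.Helper20.ProjGor

open HomogeneousLocalization AlgebraicGeometry Pointwise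

universe u

variable {A : Type u} [CommRing A] (𝒜 : ℕ → AddSubgroup A) [GradedRing 𝒜]
  (p : Ideal A) [hp : p.IsPrime]

instance isLocalHom_atPrime :
    IsLocalHom (algebraMap (AtPrime 𝒜 p) (Localization.AtPrime p)) where
  map_nonunit a ha := by
    rw [HomogeneousLocalization.algebraMap_apply] at ha
    exact (HomogeneousLocalization.isUnit_iff_isUnit_val 𝒜 p a).1 ha

theorem gor_atPrime [IsNoetherianRing A] (d : ℕ) (f g : A) (hf : f ∈ 𝒜 d) (hg : g ∈ 𝒜 (d + 1))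
    (hfp : f ∉ p) (hgp : g ∉ p)
    (hG : LocCoh.IsGorensteinLocalRing (Localization.AtPrime p)) :
    LocCoh.IsGorensteinLocalRing (AtPrime 𝒜 p) := by
  haveI hflat : Module.Flat (AtPrime 𝒜 p) (Localization.AtPrime p) :=
    flat_atPrime 𝒜 p d f g hf hg hfp hgp
  haveI : Module.FaithfullyFlat (AtPrime 𝒜 p) (Localization.AtPrime p) :=
    Module.FaithfullyFlat.of_flat_of_isLocalHom
  haveI : IsNoetherianRing (Localization.AtPrime p) :=
    IsLocalization.isNoetherianRing p.primeCompl _ inferInstance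
  haveI : IsNoetherianRing (AtPrime 𝒜 p) :=
    Groth.Agent.Lib.Helper12.isNoetherianRing_of_faithfullyFlat (AtPrime 𝒜 p)
      (Localization.AtPrime p)
  exact ((Groth.Agent.S0344.result (AtPrime 𝒜 p) (Localization.AtPrime p)).1 hG).1

variable (hpH : p.IsHomogeneous 𝒜) (hirr : ¬ (HomogeneousIdeal.irrelevant 𝒜).toIdeal ≤ p)

include hpH hirr in
theorem exists_homogeneous_pos_notMem : ∃ (i : ℕ) (h : A), 0 < i ∧ h ∈ 𝒜 i ∧ h ∉ p := by
  classical
  rw [SetLike.not_le_iff_exists] at hirr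
  obtain ⟨a, ha, hap⟩ := hirr
  have hex : ∃ i, (DirectSum.decompose 𝒜 a i : A) ∉ p := by
    by_contra hcon
    push Not at hcon
    apply hap
    rw [← DirectSum.sum_support_decompose 𝒜 a]
    exact p.sum_mem fun i _ => hcon i
  obtain ⟨i, hi⟩ := hex
  refine ⟨i, (DirectSum.decompose 𝒜 a i : A), ?_, SetLike.coe_mem _, hi⟩
  rcases Nat.eq_zero_or_pos i with rfl | hpos
  · exfalso
    apply hi
    have : (DirectSum.decompose 𝒜 a 0 : A) = 0 := ha
    rw [this]
    exact p.zero_mem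
  · exact hpos

include hpH hirr in
theorem exists_notMem_of_sharp
    (hsharp : ∃ d₀ : ℕ, ∀ d : ℕ, d₀ ≤ d → ∀ n : ℕ, 1 ≤ n →
      𝒜 ((n + 1) * d) = AddSubgroup.closure ((𝒜 d : Set A) * (𝒜 (n * d) : Set A))) :
    ∃ D : ℕ, ∀ d, D ≤ d → ∃ f ∈ 𝒜 d, f ∉ p := by
  obtain ⟨d₀, hd₀⟩ := hsharp
  obtain ⟨i, h, hipos, hh, hhp⟩ := exists_homogeneous_pos_notMem 𝒜 p hpH hirr
  refine ⟨max d₀ 1, fun d hd => ?_⟩
  by_contra hcon
  push Not at hcon
  apply hhp
  have hpow : h ^ (2 * d) ∈ 𝒜 ((2 * i - 1 + 1) * d) := by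
    have h1 := SetLike.pow_mem_graded (2 * d) hh
    have h2 : (2 * d) • i = (2 * i - 1 + 1) * d := by
      rw [smul_eq_mul, Nat.sub_add_cancel (by omega)]
      ring
    rwa [h2] at h1
  rw [hd₀ d (le_trans (le_max_left _ _) hd) (2 * i - 1) (by omega)] at hpow
  have hle : AddSubgroup.closure ((𝒜 d : Set A) * (𝒜 ((2 * i - 1) * d) : Set A)) ≤
      p.toAddSubgroup := by
    rw [AddSubgroup.closure_le]
    rintro _ ⟨a, ha, b, hb, rfl⟩
    exact p.mul_mem_right b (hcon a ha)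
  have hmem : h ^ (2 * d) ∈ p := hle hpow
  exact hp.mem_of_pow_mem _ hmem

theorem s18666 (A : Type u) [CommRing A] (𝒜 : ℕ → AddSubgroup A) [GradedRing 𝒜]
    [LocCoh.IsGorensteinRing A]
    (hsharp : ∃ d₀ : ℕ, ∀ d : ℕ, d₀ ≤ d → ∀ n : ℕ, 1 ≤ n →
      𝒜 ((n + 1) * d) = AddSubgroup.closure ((𝒜 d : Set A) * (𝒜 (n * d) : Set A)))
    (x : Proj 𝒜) : LocCoh.IsGorensteinLocalRing ((Proj 𝒜).presheaf.stalk x) := by
  obtain ⟨D, hD⟩ := exists_notMem_of_sharp 𝒜 x.asHomogeneousIdeal.toIdeal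
    x.asHomogeneousIdeal.isHomogeneous (fun h => x.not_irrelevant_le h) hsharp
  obtain ⟨f, hf, hfp⟩ := hD D le_rfl
  obtain ⟨g, hg, hgp⟩ := hD (D + 1) (Nat.le_succ D)
  have hG : LocCoh.IsGorensteinLocalRing (Localization.AtPrime x.asHomogeneousIdeal.toIdeal) :=
    LocCoh.IsGorensteinRing.isGorensteinLocalRing_localization (A := A)
      x.asHomogeneousIdeal.toIdeal
  haveI h0 := gor_atPrime 𝒜 x.asHomogeneousIdeal.toIdeal D f g hf hg hfp hgp hG
  have e := (Proj.stalkIso 𝒜 x).commRingCatIsoToRingEquiv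
  exact Groth.Agent.Lib.Helper5.GorIso.isGorensteinLocalRing_of_ringEquiv e.symm

end Groth.Agent.Lib.Helper20.ProjGor
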