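import Mathlib

/-!
# Helper20 — ProjLoc1: the homogeneous localization `A_(p)` inside `A_p`: ideals of `A_(p)` are
contracted from `A_p` (cyclic purity), hence `A_(p)` is Noetherian when `A` is.
-/

set_option autoImplicit false
set_option linter.unusedSectionVars false
universe u

namespace Groth.Agent.Lib.Helper20.ProjLoc

open HomogeneousLocalization DirectSum

variable {A : Type u} [CommRing A] (𝒜 : ℕ → AddSubgroup A) [GradedRing 𝒜]
  (p : Ideal A) [hp : p.IsPrime]

local notation "S" => Localization.AtPrime p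
local notation "T₀" => AtPrime 𝒜 p

/-- `c / s` for `c, s` homogeneous of the same degree, `s ∉ p`. -/
noncomputable def frac (j : ℕ) (c : A) (hc : c ∈ 𝒜 j) (s : A) (hs : s ∈ 𝒜 j) (hsp : s ∉ p) :
    AtPrime 𝒜 p :=
  HomogeneousLocalization.mk
    { deg := j, num := ⟨c, hc⟩, den := ⟨s, hs⟩, den_mem := hsp }

theorem val_frac_mul (j : ℕ) (c : A) (hc : c ∈ 𝒜 j) (s : A) (hs : s ∈ 𝒜 j) (hsp : s ∉ p) :
    (frac 𝒜 p j c hc s hs hsp).val * algebraMap A (Localization.AtPrime p) s =
      algebraMap A (Localization.AtPrime p) c := by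
  rw [frac, HomogeneousLocalization.val_mk, Localization.mk_eq_mk']
  exact IsLocalization.mk'_spec _ c ⟨s, hsp⟩

theorem val_mul_den (b : AtPrime 𝒜 p) :
    b.val * algebraMap A (Localization.AtPrime p) b.den =
      algebraMap A (Localization.AtPrime p) b.num := by
  rw [b.eq_num_div_den, Localization.mk_eq_mk']
  exact IsLocalization.mk'_spec _ b.num ⟨b.den, b.den_mem⟩

theorem isUnit_alg {s : A} (hsp : s ∉ p) : IsUnit (algebraMap A (Localization.AtPrime p) s) :=
  IsLocalization.map_units (Localization.AtPrime p) (⟨s, hsp⟩ : p.primeCompl)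

/-- common homogeneous denominator for finitely many elements of `A_(p)` -/
theorem exists_common_den (s : Finset (AtPrime 𝒜 p)) :
    ∃ (N : ℕ) (v : A), v ∈ 𝒜 N ∧ v ∉ p ∧ ∀ b ∈ s, ∃ β ∈ 𝒜 N,
      b.val * algebraMap A (Localization.AtPrime p) v =
        algebraMap A (Localization.AtPrime p) β := by
  classical
  induction s using Finset.induction_on with
  | empty =>
    refine ⟨0, 1, SetLike.GradedOne.one_mem, ?_, by simp⟩
    intro h
    exact hp.ne_top ((Ideal.eq_top_iff_one _).2 h)
  | insert b0 s hb0 ih =>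
    obtain ⟨N, v, hv, hvp, H⟩ := ih
    refine ⟨N + b0.deg, v * b0.den, SetLike.mul_mem_graded hv b0.den_mem_deg,
      fun h => (hp.mem_or_mem h).elim hvp (fun h' => b0.den_mem h'), ?_⟩
    intro b hb
    rcases Finset.mem_insert.1 hb with rfl | hb
    · refine ⟨v * b.num, SetLike.mul_mem_graded hv b.num_mem_deg, ?_⟩
      rw [map_mul, map_mul, ← val_mul_den 𝒜 p b]
      ring
    · obtain ⟨β, hβ, hβ'⟩ := H b hb
      refine ⟨β * b0.den, SetLike.mul_mem_graded hβ b0.den_mem_deg, ?_⟩
      rw [map_mul, map_mul, ← hβ']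
      ring

variable (hpH : p.IsHomogeneous 𝒜)

include hpH in
theorem exists_component_notMem {x : A} (hx : x ∉ p) : ∃ j, (decompose 𝒜 x j : A) ∉ p := by
  classical
  by_contra hcon
  push Not at hcon
  apply hx
  rw [← DirectSum.sum_support_decompose 𝒜 x]
  exact p.sum_mem fun i _ => hcon i

include hpH in
/-- Cyclic purity: ideals of `A_(p)` are contracted from `A_p`. -/
theorem comap_map_eq (I : Ideal (AtPrime 𝒜 p)) :
    (I.map (algebraMap (AtPrime 𝒜 p) (Localization.AtPrime p))).comap
      (algebraMap (AtPrime 𝒜 p) (Localization.AtPrime p)) = I := by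
  classical
  apply le_antisymm _ Ideal.le_comap_map
  intro z hz
  rw [Ideal.mem_comap, Ideal.map, Ideal.span, Submodule.mem_span_set'] at hz
  obtain ⟨n, c, g, hsum⟩ := hz
  choose b hbI hb using fun i => (g i).2
  -- common denominators
  obtain ⟨N, v, hv, hvp, H⟩ := exists_common_den 𝒜 p (Finset.univ.image b)
  have H' : ∀ i, ∃ β ∈ 𝒜 N, (b i).val * algebraMap A (Localization.AtPrime p) v =
      algebraMap A (Localization.AtPrime p) β :=
    fun i => H (b i) (Finset.mem_image_of_mem _ (Finset.mem_univ i))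
  choose β hβ hβ' using H'
  obtain ⟨σ, hσ⟩ := IsLocalization.exist_integer_multiples_of_finite p.primeCompl c
  choose γ hγ using hσ
  -- the equation in `A_p`
  have hz1 := val_mul_den 𝒜 p z
  have hsum' : z.val = ∑ i, c i * (b i).val := by
    rw [← HomogeneousLocalization.algebraMap_apply, ← hsum]
    refine Finset.sum_congr rfl fun i _ => ?_
    rw [smul_eq_mul, ← hb i, HomogeneousLocalization.algebraMap_apply]
  have heq : algebraMap A (Localization.AtPrime p) (z.num * v * σ) =
      algebraMap A (Localization.AtPrime p) (∑ i, z.den * β i * γ i) := by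
    rw [map_mul, map_mul, ← hz1, hsum', map_sum, Finset.sum_mul, Finset.sum_mul, Finset.sum_mul]
    refine Finset.sum_congr rfl fun i _ => ?_
    rw [map_mul, map_mul, ← hβ' i, hγ i, Algebra.smul_def]
    ring
  obtain ⟨w, hw⟩ := (IsLocalization.eq_iff_exists p.primeCompl (Localization.AtPrime p)).1 heq
  have hσ'p : (w : A) * σ ∉ p := fun h => (hp.mem_or_mem h).elim w.2 σ.2
  obtain ⟨j, hj⟩ := exists_component_notMem 𝒜 p hpH hσ'p
  have hzv : z.num * v ∈ 𝒜 (z.deg + N) := SetLike.mul_mem_graded z.num_mem_deg hv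
  have hcomp : z.num * v * (decompose 𝒜 ((w : A) * σ) j : A) =
      ∑ i, z.den * β i * (decompose 𝒜 ((w : A) * γ i) j : A) := by
    have h1 : (z.num * v) * ((w : A) * σ) = ∑ i, (z.den * β i) * ((w : A) * γ i) := by
      have : (z.num * v) * ((w : A) * σ) = (w : A) * (z.num * v * σ) := by ring
      rw [this, hw, Finset.mul_sum]
      refine Finset.sum_congr rfl fun i _ => ?_
      ring
    have h2 := congrArg (GradedRing.proj 𝒜 (z.deg + N + j)) h1
    rw [map_sum, GradedRing.proj_apply,
      DirectSum.coe_decompose_mul_add_of_left_mem 𝒜 hzv] at h2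
    rw [h2]
    refine Finset.sum_congr rfl fun i _ => ?_
    rw [GradedRing.proj_apply, DirectSum.coe_decompose_mul_add_of_left_mem 𝒜
      (SetLike.mul_mem_graded z.den_mem_deg (hβ i))]
  -- the coefficients in `A_(p)`
  obtain ⟨σj, hσj, hσjp, γj, hγj, hcomp'⟩ : ∃ σj : A, σj ∈ 𝒜 j ∧ σj ∉ p ∧ ∃ γj : Fin n → A,
      (∀ i, γj i ∈ 𝒜 j) ∧ z.num * v * σj = ∑ i, z.den * β i * γj i :=
    ⟨_, (decompose 𝒜 ((w : A) * σ) j).2, hj, fun i => (decompose 𝒜 ((w : A) * γ i) j : A),
      fun i => (decompose 𝒜 ((w : A) * γ i) j).2, hcomp⟩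
  let e : Fin n → AtPrime 𝒜 p := fun i => frac 𝒜 p j (γj i) (hγj i) σj hσj hσjp
  have he : ∀ i, (e i).val * algebraMap A (Localization.AtPrime p) σj =
      algebraMap A (Localization.AtPrime p) (γj i) :=
    fun i => val_frac_mul 𝒜 p j _ _ _ _ hσjp
  have hzeq : z = ∑ i, e i * b i := by
    apply HomogeneousLocalization.val_injective
    have hu : IsUnit (algebraMap A (Localization.AtPrime p) (z.den * v * σj)) :=
      isUnit_alg p (fun h => (hp.mem_or_mem h).elim
        (fun h' => (hp.mem_or_mem h').elim z.den_mem hvp) hσjp)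
    apply hu.mul_left_injective
    change z.val * _ = (∑ i, e i * b i).val * _
    have hl : z.val * algebraMap A (Localization.AtPrime p) (z.den * v * σj) =
        algebraMap A (Localization.AtPrime p) (z.num * v * σj) := by
      rw [map_mul, map_mul, map_mul, map_mul, ← hz1]
      ring
    rw [hl, hcomp', map_sum]
    have hr : (∑ i, e i * b i).val = ∑ i, (e i).val * (b i).val := by
      rw [← HomogeneousLocalization.algebraMap_apply, map_sum]
      refine Finset.sum_congr rfl fun i _ => ?_
      rw [map_mul, HomogeneousLocalization.algebraMap_apply,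
        HomogeneousLocalization.algebraMap_apply]
    rw [hr, Finset.sum_mul]
    refine Finset.sum_congr rfl fun i _ => ?_
    rw [map_mul, map_mul, map_mul, map_mul, ← he i, ← hβ' i]
    ring
  rw [hzeq]
  exact I.sum_mem fun i _ => I.mul_mem_left _ (hbI i)

include hpH in
theorem isNoetherianRing_atPrime [IsNoetherianRing A] : IsNoetherianRing (AtPrime 𝒜 p) := by
  have hS : IsNoetherianRing (Localization.AtPrime p) :=
    IsLocalization.isNoetherianRing p.primeCompl _ inferInstance
  rw [isNoetherianRing_iff, isNoetherian_iff']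
  have hmono : StrictMono (fun I : Ideal (AtPrime 𝒜 p) =>
      I.map (algebraMap (AtPrime 𝒜 p) (Localization.AtPrime p))) := by
    intro I J hIJ
    refine lt_of_le_of_ne (Ideal.map_mono hIJ.le) fun h => hIJ.ne ?_
    rw [← comap_map_eq 𝒜 p hpH I, ← comap_map_eq 𝒜 p hpH J]
    exact congrArg (Ideal.comap _) h
  have : WellFoundedGT (Ideal (Localization.AtPrime p)) := by
    rw [← isNoetherian_iff', ← isNoetherianRing_iff]
    exact hS
  exact hmono.wellFoundedGT

end Groth.Agent.Lib.Helper20.ProjLoc
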