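import Groth.Agent.Lib.Helper20.ProjLoc1
import Groth.Agent.Lib.Helper21.DepthKit11
import Groth.Agent.Lib.Helper2.R0S1
import Groth.Agent.Lib.Helper12.SerreNormalB
import Mathlib

/-!
# Helper20 — ProjLoc2: Serre's condition `(S₁)` descends from `A_p` to the homogeneous localization
`A_(p)`.
-/

set_option autoImplicit false
set_option linter.unusedSectionVars false
universe u

namespace Groth.Agent.Lib.Helper20.ProjLoc

open HomogeneousLocalization DirectSum

section general

variable {R : Type u} [CommRing R]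

/-- `(S₁)` for a Noetherian ring: the associated primes have height zero. -/
theorem hasSk_one_iff [IsNoetherianRing R] :
    LocCoh.HasSk 1 R R ↔
      ∀ (P : Ideal R) [P.IsPrime], P ∈ associatedPrimes R R → P.height = 0 := by
  constructor
  · intro h P hP hass
    have h1 := h P
    rw [Groth.Agent.Lib.Helper2.R0S1.supportDim_loc,
      (Groth.Agent.Lib.Helper21.DepthKit.depth_localization_eq_zero_iff (M := R) P).2 hass] at h1
    rcases min_le_iff.1 h1 with h2 | h2
    · exfalso
      have : ((1 : ℕ∞) : WithBot ℕ∞) ≤ ((0 : ℕ∞) : WithBot ℕ∞) := by exact_mod_cast h2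
      rw [WithBot.coe_le_coe] at this
      simp at this
    · have : ((P.height : ℕ∞) : WithBot ℕ∞) ≤ ((0 : ℕ∞) : WithBot ℕ∞) := by exact_mod_cast h2
      rw [WithBot.coe_le_coe] at this
      exact le_antisymm this zero_le
  · intro h P hP
    rw [Groth.Agent.Lib.Helper2.R0S1.supportDim_loc]
    by_cases hass : P ∈ associatedPrimes R R
    · rw [h P hass]
      refine le_trans (min_le_right _ _) ?_
      exact_mod_cast (zero_le : (0 : ℕ∞) ≤ _)
    · have hne : LocCoh.depth (Localization.AtPrime P) (LocalizedModule P.primeCompl R) ≠ 0 :=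
        fun h0 => hass
          ((Groth.Agent.Lib.Helper21.DepthKit.depth_localization_eq_zero_iff (M := R) P).1 h0)
      have h1 : (1 : ℕ∞) ≤ LocCoh.depth (Localization.AtPrime P)
          (LocalizedModule P.primeCompl R) := Order.one_le_iff_ne_zero.2 hne
      refine le_trans (min_le_left _ _) ?_
      exact_mod_cast h1

/-- elements of a minimal prime are locally nilpotent -/
theorem exists_mul_pow_eq_zero_of_mem_minimalPrimes {P : Ideal R} (hP : P ∈ minimalPrimes R)
    {x : R} (hx : x ∈ P) : ∃ y ∉ P, ∃ k : ℕ, y * x ^ k = 0 := by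
  have hPp : P.IsPrime := hP.1.1
  have hnil : IsNilpotent (algebraMap R (Localization.AtPrime P) x) := by
    rw [nilpotent_iff_mem_prime]
    intro J hJ
    have h1 : (J.comap (algebraMap R (Localization.AtPrime P))).IsPrime := Ideal.comap_isPrime _ J
    have h2 : J.comap (algebraMap R (Localization.AtPrime P)) ≤ P := by
      intro y hy
      by_contra hyP
      have : IsUnit (algebraMap R (Localization.AtPrime P) y) :=
        IsLocalization.map_units (Localization.AtPrime P) (⟨y, hyP⟩ : P.primeCompl)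
      exact hJ.ne_top (Ideal.eq_top_of_isUnit_mem _ hy this)
    have h3 : P ≤ J.comap (algebraMap R (Localization.AtPrime P)) := hP.2 ⟨h1, bot_le⟩ h2
    exact h3 hx
  obtain ⟨k, hk⟩ := hnil
  rw [← map_pow, IsLocalization.map_eq_zero_iff P.primeCompl] at hk
  obtain ⟨m, hm⟩ := hk
  exact ⟨m, m.2, k, hm⟩

end general

variable {A : Type u} [CommRing A] (𝒜 : ℕ → AddSubgroup A) [GradedRing 𝒜]
  (p : Ideal A) [hp : p.IsPrime] (hpH : p.IsHomogeneous 𝒜)
  (N' : ℕ) (hN' : 0 < N') (f : A) (hf : f ∈ 𝒜 N') (hfp : f ∉ p)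

include hpH hN' hf hfp in
/-- Minimal primes of `A_p` contract to minimal primes of `A_(p)`. -/
theorem comap_mem_minimalPrimes (P : Ideal (Localization.AtPrime p))
    (hP : P ∈ minimalPrimes (Localization.AtPrime p)) :
    P.comap (algebraMap (AtPrime 𝒜 p) (Localization.AtPrime p)) ∈ minimalPrimes (AtPrime 𝒜 p) := by
  classical
  have hPp : P.IsPrime := hP.1.1
  refine ⟨⟨Ideal.comap_isPrime _ P, bot_le⟩, ?_⟩
  rintro q' ⟨hq', -⟩ hle t ht
  rw [Ideal.mem_comap, HomogeneousLocalization.algebraMap_apply] at ht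
  obtain ⟨y, hyP, k, hyk⟩ := exists_mul_pow_eq_zero_of_mem_minimalPrimes hP ht
  obtain ⟨⟨c, s⟩, hcs⟩ := IsLocalization.surj p.primeCompl y
  simp only at hcs
  have hcP : algebraMap A (Localization.AtPrime p) c ∉ P := by
    intro h
    rw [← hcs] at h
    rcases hPp.mem_or_mem h with h' | h'
    · exact hyP h'
    · exact hPp.ne_top (Ideal.eq_top_of_isUnit_mem _ h' (isUnit_alg p s.2))
  have h0 : algebraMap A (Localization.AtPrime p) (c * t.num ^ k) = 0 := by
    rw [map_mul, map_pow, ← hcs, ← val_mul_den 𝒜 p t, mul_pow]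
    calc y * algebraMap A (Localization.AtPrime p) s *
          (t.val ^ k * algebraMap A (Localization.AtPrime p) t.den ^ k)
        = (y * t.val ^ k) * (algebraMap A (Localization.AtPrime p) s *
          algebraMap A (Localization.AtPrime p) t.den ^ k) := by ring
      _ = 0 := by rw [hyk, zero_mul]
  rw [IsLocalization.map_eq_zero_iff p.primeCompl] at h0
  obtain ⟨w, hw⟩ := h0
  -- `c' = w c` kills `a^k`, `a = t.num`
  have hc'P : algebraMap A (Localization.AtPrime p) ((w : A) * c) ∉ P := by
    intro h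
    rw [map_mul] at h
    rcases hPp.mem_or_mem h with h' | h'
    · exact hPp.ne_top (Ideal.eq_top_of_isUnit_mem _ h' (isUnit_alg p w.2))
    · exact hcP h'
  have hak : t.num ^ k ∈ 𝒜 (k • t.deg) := SetLike.pow_mem_graded k t.num_mem_deg
  have hcomp : ∀ j, (decompose 𝒜 ((w : A) * c) j : A) * t.num ^ k = 0 := by
    intro j
    have h1 : ((w : A) * c) * t.num ^ k = 0 := by rw [mul_assoc]; exact hw
    have h2 := DirectSum.coe_decompose_mul_add_of_right_mem 𝒜 (a := (w : A) * c) (i := j) hak
    rw [h1, decompose_zero, DirectSum.zero_apply, ZeroMemClass.coe_zero] at h2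
    exact h2.symm
  obtain ⟨j, hj⟩ : ∃ j, algebraMap A (Localization.AtPrime p)
      (decompose 𝒜 ((w : A) * c) j : A) ∉ P := by
    by_contra hcon
    push Not at hcon
    apply hc'P
    rw [← DirectSum.sum_support_decompose 𝒜 ((w : A) * c), map_sum]
    exact P.sum_mem fun i _ => hcon i
  obtain ⟨s', hs', hs'P, hs'k⟩ : ∃ s' : A, s' ∈ 𝒜 j ∧
      algebraMap A (Localization.AtPrime p) s' ∉ P ∧ s' * t.num ^ k = 0 :=
    ⟨_, (decompose 𝒜 ((w : A) * c) j).2, hj, hcomp j⟩
  -- the element `r = s'^N' / f^j`
  have hnum : s' ^ N' ∈ 𝒜 (j * N') := by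
    have := SetLike.pow_mem_graded N' hs'
    rwa [smul_eq_mul, mul_comm] at this
  have hden : f ^ j ∈ 𝒜 (j * N') := by
    have := SetLike.pow_mem_graded j hf
    rwa [smul_eq_mul] at this
  have hfj : f ^ j ∉ p := fun h => hfp (hp.mem_of_pow_mem _ h)
  set r : AtPrime 𝒜 p := frac 𝒜 p (j * N') (s' ^ N') hnum (f ^ j) hden hfj with hr
  have hrval := val_frac_mul 𝒜 p (j * N') (s' ^ N') hnum (f ^ j) hden hfj
  have hrt : r * t ^ k = 0 := by
    apply HomogeneousLocalization.val_injective
    rw [HomogeneousLocalization.val_mul, HomogeneousLocalization.val_pow,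
      HomogeneousLocalization.val_zero]
    have hu : IsUnit (algebraMap A (Localization.AtPrime p) (f ^ j * t.den ^ k)) :=
      isUnit_alg p (fun h => (hp.mem_or_mem h).elim hfj
        (fun h' => t.den_mem (hp.mem_of_pow_mem _ h')))
    apply hu.mul_left_injective
    change r.val * t.val ^ k * _ = 0 * _
    rw [zero_mul, map_mul, map_pow _ t.den]
    calc r.val * t.val ^ k * (algebraMap A (Localization.AtPrime p) (f ^ j) *
          algebraMap A (Localization.AtPrime p) t.den ^ k)
        = (r.val * algebraMap A (Localization.AtPrime p) (f ^ j)) *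
          (t.val * algebraMap A (Localization.AtPrime p) t.den) ^ k := by ring
      _ = algebraMap A (Localization.AtPrime p) (s' ^ N' * t.num ^ k) := by
        rw [hrval, val_mul_den, map_mul, map_pow _ t.num]
      _ = 0 := by
        obtain ⟨M, rfl⟩ : ∃ M, N' = M + 1 := ⟨N' - 1, (Nat.sub_add_cancel hN').symm⟩
        rw [pow_succ, mul_assoc, hs'k, mul_zero, map_zero]
  have hmem : r * t ^ k ∈ q' := by rw [hrt]; exact q'.zero_mem
  rcases hq'.mem_or_mem hmem with h | h
  · exfalso
    have h1 : r.val ∈ P := by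
      have := hle h
      rwa [Ideal.mem_comap, HomogeneousLocalization.algebraMap_apply] at this
    have h2 : algebraMap A (Localization.AtPrime p) (s' ^ N') ∈ P := by
      rw [← hrval]
      exact P.mul_mem_right _ h1
    rw [map_pow] at h2
    exact hs'P (hPp.mem_of_pow_mem _ h2)
  · exact hq'.mem_of_pow_mem _ h

include hpH in
/-- Associated primes of `A_(p)` are contracted from associated primes of `A_p`. -/
theorem exists_associatedPrime_comap_eq [IsNoetherianRing A] (q₀ : Ideal (AtPrime 𝒜 p))
    (hq₀ : q₀ ∈ associatedPrimes (AtPrime 𝒜 p) (AtPrime 𝒜 p)) :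
    ∃ P ∈ associatedPrimes (Localization.AtPrime p) (Localization.AtPrime p),
      P.comap (algebraMap (AtPrime 𝒜 p) (Localization.AtPrime p)) = q₀ := by
  classical
  have hS : IsNoetherianRing (Localization.AtPrime p) :=
    IsLocalization.isNoetherianRing p.primeCompl _ inferInstance
  have hT : IsNoetherianRing (AtPrime 𝒜 p) := isNoetherianRing_atPrime 𝒜 p hpH
  obtain ⟨hq₀p, z, hz⟩ := (isAssociatedPrime_iff).1 hq₀
  set J : Ideal (Localization.AtPrime p) :=
    Submodule.colon (⊥ : Submodule (Localization.AtPrime p) (Localization.AtPrime p)) {z.val}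
    with hJ
  have hcomap : J.comap (algebraMap (AtPrime 𝒜 p) (Localization.AtPrime p)) = q₀ := by
    ext t
    rw [Ideal.mem_comap, hz, hJ, Submodule.mem_colon_singleton, Submodule.mem_colon_singleton,
      Submodule.mem_bot, Submodule.mem_bot, HomogeneousLocalization.algebraMap_apply, smul_eq_mul,
      smul_eq_mul, ← HomogeneousLocalization.val_mul]
    constructor
    · intro h
      apply HomogeneousLocalization.val_injective
      rw [h, HomogeneousLocalization.val_zero]
    · intro h
      rw [h, HomogeneousLocalization.val_zero]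
  have hfin : J.minimalPrimes.Finite := Ideal.finite_minimalPrimes_of_isNoetherianRing _ J
  have h1 : q₀ = hfin.toFinset.inf
      (fun P => P.comap (algebraMap (AtPrime 𝒜 p) (Localization.AtPrime p))) := by
    rw [← hq₀p.radical, ← hcomap, ← Ideal.comap_radical, ← J.sInf_minimalPrimes,
      Ideal.comap_sInf]
    apply le_antisymm
    · apply Finset.le_inf
      intro P hP
      rw [Set.Finite.mem_toFinset] at hP
      exact iInf₂_le P hP
    · apply le_iInf₂
      intro P hP
      exact Finset.inf_le ((Set.Finite.mem_toFinset hfin).2 hP)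
  have hprime : (hfin.toFinset.inf
      (fun P => P.comap (algebraMap (AtPrime 𝒜 p) (Localization.AtPrime p)))).IsPrime := by
    rw [← h1]; exact hq₀p
  obtain ⟨P, hP, hPeq⟩ := Ideal.eq_inf_of_isPrime_inf hprime
  rw [Set.Finite.mem_toFinset] at hP
  refine ⟨P, ?_, by rw [hPeq, ← h1]⟩
  obtain ⟨x', hx'⟩ := Submodule.exists_eq_colon_of_mem_minimalPrimes hP
  exact (isAssociatedPrime_iff).2 ⟨hP.1.1, x', hx'⟩

include hpH hN' hf hfp in
/-- `(S₁)` descends from `A` to `A_(p)`. -/
theorem hasSk_one_atPrime [IsNoetherianRing A] (hA : LocCoh.HasSk 1 A A) :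
    LocCoh.HasSk 1 (AtPrime 𝒜 p) (AtPrime 𝒜 p) := by
  have hS : IsNoetherianRing (Localization.AtPrime p) :=
    IsLocalization.isNoetherianRing p.primeCompl _ inferInstance
  have hT : IsNoetherianRing (AtPrime 𝒜 p) := isNoetherianRing_atPrime 𝒜 p hpH
  have hS1 : LocCoh.HasSk 1 (Localization.AtPrime p) (Localization.AtPrime p) :=
    Groth.Agent.Lib.Helper12.SerreNormal.hasSk_localization 1 hA p
  rw [hasSk_one_iff] at hS1 ⊢
  intro q₀ hq₀p hq₀
  obtain ⟨P, hP, rfl⟩ := exists_associatedPrime_comap_eq 𝒜 p hpH q₀ hq₀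
  have hPp : P.IsPrime := hP.isPrime
  have h1 : P.height = 0 := hS1 P hP
  rw [Ideal.height_eq_zero_iff] at h1 ⊢
  exact comap_mem_minimalPrimes 𝒜 p hpH N' hN' f hf hfp P h1

end Groth.Agent.Lib.Helper20.ProjLoc
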