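import Groth.Agent.Lib.Helper20.ProjLoc1
import Mathlib

/-!
# Helper20 — ProjLoc3: normality descends from `A_p` to the homogeneous localization `A_(p)`.
-/

set_option autoImplicit false
set_option linter.unusedSectionVars false
universe u

namespace Groth.Agent.Lib.Helper20.ProjLoc

open HomogeneousLocalization DirectSum

section general

variable {R S : Type u} [CommRing R] [CommRing S] [IsDomain R] [IsDomain S] [Algebra R S]

/-- A cyclically pure subring of an integrally closed domain is integrally closed. -/
theorem isIntegrallyClosed_of_cyclicallyPure (hinj : Function.Injective (algebraMap R S))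
    [IsIntegrallyClosed S]
    (hpure : ∀ a b : R, (∃ y : S, algebraMap R S a = algebraMap R S b * y) → ∃ e : R, a = b * e) :
    IsIntegrallyClosed R := by
  let K := FractionRing R
  let L := FractionRing S
  have hinjL : Function.Injective (algebraMap R L) := by
    rw [IsScalarTower.algebraMap_eq R S L]
    exact (IsFractionRing.injective S L).comp hinj
  let φ : K →ₐ[R] L := IsFractionRing.liftAlgHom (g := Algebra.ofId R L) hinjL
  rw [isIntegrallyClosed_iff K]
  intro x hx
  have h1 : IsIntegral S (φ x) := (hx.map φ).tower_top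
  obtain ⟨y, hy⟩ := IsIntegrallyClosed.isIntegral_iff.1 h1
  obtain ⟨a, b, hb, rfl⟩ := IsFractionRing.div_surjective (A := R) x
  have hb0 : algebraMap R K b ≠ 0 :=
    (map_ne_zero_iff _ (IsFractionRing.injective R K)).2 (nonZeroDivisors.ne_zero hb)
  have hbL : algebraMap R L b ≠ 0 :=
    (map_ne_zero_iff _ hinjL).2 (nonZeroDivisors.ne_zero hb)
  rw [map_div₀, AlgHom.commutes, AlgHom.commutes, eq_div_iff hbL] at hy
  have h2 : algebraMap R S a = algebraMap R S b * y := by
    apply IsFractionRing.injective S L
    rw [map_mul, mul_comm, ← IsScalarTower.algebraMap_apply R S L, ← IsScalarTower.algebraMap_apply R S L,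
      hy]
  obtain ⟨e, he⟩ := hpure a b ⟨y, h2⟩
  refine ⟨e, ?_⟩
  rw [eq_div_iff hb0, ← map_mul, he, mul_comm]

end general

variable {A : Type u} [CommRing A] (𝒜 : ℕ → AddSubgroup A) [GradedRing 𝒜]
  (p : Ideal A) [hp : p.IsPrime] (hpH : p.IsHomogeneous 𝒜)

theorem isDomain_atPrime [IsDomain (Localization.AtPrime p)] : IsDomain (AtPrime 𝒜 p) :=
  Function.Injective.isDomain (algebraMap (AtPrime 𝒜 p) (Localization.AtPrime p))
    (fun _ _ h => HomogeneousLocalization.val_injective _ h)

include hpH in
theorem isIntegrallyClosed_atPrime [IsDomain (Localization.AtPrime p)]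
    [IsIntegrallyClosed (Localization.AtPrime p)] :
    @IsIntegrallyClosed (AtPrime 𝒜 p) _ := by
  have := isDomain_atPrime 𝒜 p
  apply isIntegrallyClosed_of_cyclicallyPure (S := Localization.AtPrime p)
    (fun a b h => HomogeneousLocalization.val_injective _ h)
  rintro a b ⟨y, hy⟩
  have h1 : a ∈ ((Ideal.span {b}).map (algebraMap (AtPrime 𝒜 p) (Localization.AtPrime p))).comap
      (algebraMap (AtPrime 𝒜 p) (Localization.AtPrime p)) := by
    rw [Ideal.mem_comap, Ideal.map_span, Set.image_singleton, hy]
    exact Ideal.mul_mem_right _ _ (Ideal.mem_span_singleton_self _)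
  rw [comap_map_eq 𝒜 p hpH, Ideal.mem_span_singleton'] at h1
  obtain ⟨e, he⟩ := h1
  exact ⟨e, by rw [← he, mul_comm]⟩

end Groth.Agent.Lib.Helper20.ProjLoc
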