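import Groth.Agent.Lib.Helper20.ProjLoc1
import Groth.Agent.Lib.Helper21.TightKitB
import Groth.Agent.Lib.Helper21.DepthKit1
import Mathlib

/-!
# Helper20 — ProjLoc4: Hochster–Eagon type descent of the Cohen–Macaulay property along a
cyclically pure local homomorphism with zero-dimensional closed fibre; application to `A_(p) ⊆ A_p`.
-/

set_option autoImplicit false
set_option linter.unusedSectionVars false
universe u

namespace Groth.Agent.Lib.Helper20.ProjLoc

open IsLocalRing RingTheory.Sequence

section general

variable {R S : Type u} [CommRing R] [CommRing S] [Algebra R S]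

variable [IsNoetherianRing S] [IsLocalRing R] [IsLocalRing S]

/-- Weak regularity descends along a cyclically pure ring map. -/
theorem isWeaklyRegular_of_map
    (hpure : ∀ I : Ideal R, (I.map (algebraMap R S)).comap (algebraMap R S) = I) (L : List R)
    (h : IsWeaklyRegular S (L.map (algebraMap R S))) : IsWeaklyRegular R L := by
  induction L using List.reverseRecOn with
  | nil => exact IsWeaklyRegular.nil R R
  | append_singleton L' a ih =>
    rw [List.map_append, List.map_singleton] at h
    have h0 := ((isWeaklyRegular_append_iff S _ _).1 h).1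
    rw [isWeaklyRegular_append_iff]
    refine ⟨ih h0, ?_⟩
    rw [isWeaklyRegular_singleton_iff]
    intro u v huv
    obtain ⟨u, rfl⟩ := Submodule.Quotient.mk_surjective _ u
    obtain ⟨v, rfl⟩ := Submodule.Quotient.mk_surjective _ v
    rw [← sub_eq_zero, ← Submodule.Quotient.mk_sub, Submodule.Quotient.mk_eq_zero]
    have h1 : a • (Submodule.Quotient.mk u : R ⧸ (Ideal.ofList L' • ⊤ : Submodule R R)) =
        a • Submodule.Quotient.mk v := huv
    rw [← sub_eq_zero, ← smul_sub, ← Submodule.Quotient.mk_sub, ← Submodule.Quotient.mk_smul,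
      Submodule.Quotient.mk_eq_zero] at h1
    rw [smul_eq_mul, Ideal.mul_top] at h1 ⊢
    rw [smul_eq_mul] at h1
    have h2 : algebraMap R S a * algebraMap R S (u - v) ∈
        Ideal.ofList (L'.map (algebraMap R S)) := by
      rw [← map_mul, ← Ideal.map_ofList]
      exact Ideal.mem_map_of_mem _ h1
    have h3 := Groth.Agent.Lib.Helper21.TightKit.mem_of_mul_mem_of_isWeaklyRegular_append
      (L'.map (algebraMap R S)) (algebraMap R S a) h _ h2
    rw [← Ideal.map_ofList] at h3
    rw [← hpure (Ideal.ofList L')]
    exact h3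

/-- Parameters of `S` can be chosen in the image of `𝔪_R` when `𝔪_R S` is `𝔪_S`-primary. -/
theorem exists_list_height (hrad : ((maximalIdeal R).map (algebraMap R S)).radical = maximalIdeal S)
    (d : ℕ) (hd : (maximalIdeal S).height = d) (i : ℕ) (hi : i ≤ d) :
    ∃ L : List R, L.length = i ∧ (∀ x ∈ L, x ∈ maximalIdeal R) ∧
      ∀ Q ∈ (Ideal.ofList (L.map (algebraMap R S))).minimalPrimes, (i : ℕ∞) ≤ Q.height := by
  classical
  induction i with
  | zero => exact ⟨[], rfl, by simp, fun Q _ => by simp⟩
  | succ i ih =>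
    obtain ⟨L, hlen, hmem, hht⟩ := ih (by omega)
    set J : Ideal S := Ideal.ofList (L.map (algebraMap R S)) with hJ
    have hfin : J.minimalPrimes.Finite := Ideal.finite_minimalPrimes_of_isNoetherianRing _ J
    have hnot : ∀ Q ∈ hfin.toFinset, ¬ maximalIdeal R ≤ Q.comap (algebraMap R S) := by
      intro Q hQ hle
      rw [Set.Finite.mem_toFinset] at hQ
      have hQp : Q.IsPrime := hQ.1.1
      have h1 : maximalIdeal S ≤ Q := by
        rw [← hrad]
        exact (hQp.radical_le_iff).2 (Ideal.map_le_iff_le_comap.2 hle)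
      have h2 : Q = maximalIdeal S := le_antisymm (le_maximalIdeal hQp.ne_top) h1
      have h3 : Q.height ≤ (L.map (algebraMap R S)).length := by
        have hfs : {x | x ∈ L.map (algebraMap R S)}.Finite := List.finite_toSet _
        have := Ideal.height_le_card_of_mem_minimalPrimes_span hfs hQ
        refine le_trans this ?_
        rw [Set.ncard_eq_toFinset_card _ hfs]
        have : hfs.toFinset = (L.map (algebraMap R S)).toFinset := by
          ext x; simp
        rw [this]
        exact_mod_cast List.toFinset_card_le _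
      rw [h2, hd, List.length_map, hlen] at h3
      have : d ≤ i := by exact_mod_cast h3
      omega
    have havoid : ¬ ((maximalIdeal R : Set R) ⊆
        ⋃ Q ∈ (hfin.toFinset : Set (Ideal S)), (Q.comap (algebraMap R S) : Set R)) := by
      intro hsub
      have hprime : ∀ Q ∈ hfin.toFinset, Q ≠ (⊥ : Ideal S) → Q ≠ (⊥ : Ideal S) →
          (Q.comap (algebraMap R S)).IsPrime := by
        intro Q hQ _ _
        rw [Set.Finite.mem_toFinset] at hQ
        have : Q.IsPrime := hQ.1.1
        exact Ideal.comap_isPrime _ Q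
      obtain ⟨Q, hQ, hle⟩ := (Ideal.subset_union_prime (f := fun Q : Ideal S =>
        Q.comap (algebraMap R S)) ⊥ ⊥ hprime).1 hsub
      exact hnot Q hQ hle
    rw [Set.not_subset] at havoid
    obtain ⟨x, hxm, hx⟩ := havoid
    have hx' : ∀ Q ∈ J.minimalPrimes, algebraMap R S x ∉ Q := by
      intro Q hQ hxQ
      apply hx
      simp only [Set.mem_iUnion, Set.Finite.mem_toFinset, SetLike.mem_coe,
        Ideal.mem_comap, exists_prop]
      exact ⟨Q, hQ, hxQ⟩
    refine ⟨L ++ [x], by simp [hlen], ?_, ?_⟩
    · intro y hy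
      rcases List.mem_append.1 hy with h | h
      · exact hmem y h
      · rw [List.mem_singleton] at h; rw [h]; exact hxm
    · intro Q' hQ'
      have hQ'p : Q'.IsPrime := hQ'.1.1
      have hJle : J ≤ Q' := by
        refine le_trans ?_ hQ'.1.2
        rw [hJ]
        apply Ideal.span_mono
        intro y hy
        simp only [Set.mem_ofPred_eq, List.map_append, List.mem_append] at hy ⊢
        exact Or.inl hy
      obtain ⟨Q, hQ, hQle⟩ := Ideal.exists_minimalPrimes_le hJle
      have hQp : Q.IsPrime := hQ.1.1
      have hxQ' : algebraMap R S x ∈ Q' := by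
        apply hQ'.1.2
        apply Ideal.subset_span
        simp
      have hlt : Q < Q' := lt_of_le_of_ne hQle (fun h => hx' Q hQ (h ▸ hxQ'))
      have h1 := Ideal.height_add_one_le_of_lt_of_isPrime hlt
      have h2 := hht Q hQ
      calc ((i + 1 : ℕ) : ℕ∞) = (i : ℕ∞) + 1 := by push_cast; rfl
        _ ≤ Q.height + 1 := by gcongr
        _ ≤ Q'.height := h1

theorem exists_sop_in_image (hrad : ((maximalIdeal R).map (algebraMap R S)).radical = maximalIdeal S)
    (d : ℕ) (hd : (maximalIdeal S).height = d) :
    ∃ L : List R, L.length = d ∧ (∀ x ∈ L, x ∈ maximalIdeal R) ∧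
      (Ideal.ofList (L.map (algebraMap R S))).radical = maximalIdeal S := by
  obtain ⟨L, hlen, hmem, hht⟩ := exists_list_height hrad d hd d le_rfl
  refine ⟨L, hlen, hmem, ?_⟩
  set J : Ideal S := Ideal.ofList (L.map (algebraMap R S)) with hJ
  have hJle : J ≤ maximalIdeal S := by
    rw [hJ]
    apply Ideal.span_le.2
    intro y hy
    simp only [Set.mem_ofPred_eq, List.mem_map] at hy
    obtain ⟨x, hx, rfl⟩ := hy
    rw [← hrad]
    exact Ideal.le_radical (Ideal.mem_map_of_mem _ (hmem x hx))
  have hall : ∀ Q ∈ J.minimalPrimes, Q = maximalIdeal S := by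
    intro Q hQ
    have hQp : Q.IsPrime := hQ.1.1
    by_contra hne
    have hlt : Q < maximalIdeal S := lt_of_le_of_ne (le_maximalIdeal hQp.ne_top) hne
    have h1 := Ideal.height_add_one_le_of_lt_of_isPrime hlt
    have h2 := hht Q hQ
    rw [hd] at h1
    have : ((d : ℕ∞) + 1) ≤ d := le_trans (by gcongr) h1
    have h3 : ((d + 1 : ℕ) : ℕ∞) ≤ (d : ℕ∞) := by push_cast; exact this
    have : d + 1 ≤ d := by exact_mod_cast h3
    omega
  rw [← J.sInf_minimalPrimes]
  have hne : J.minimalPrimes.Nonempty :=
    Set.nonempty_coe_sort.1 (Ideal.nonempty_minimalPrimes (fun h =>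
      (maximalIdeal.isMaximal S).ne_top (top_le_iff.1 (h ▸ hJle))))
  apply le_antisymm
  · obtain ⟨Q, hQ⟩ := hne
    exact (sInf_le hQ).trans (hall Q hQ).le
  · apply le_sInf
    intro Q hQ
    exact (hall Q hQ).ge

/-- Hochster–Eagon descent. -/
theorem isCM_of_cyclicallyPure [IsNoetherianRing R]
    (hpure : ∀ I : Ideal R, (I.map (algebraMap R S)).comap (algebraMap R S) = I)
    (hrad : ((maximalIdeal R).map (algebraMap R S)).radical = maximalIdeal S)
    [hS : LocCoh.IsCohenMacaulayLocalRing S] : LocCoh.IsCohenMacaulayLocalRing R := by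
  classical
  obtain ⟨d, hd⟩ : ∃ d : ℕ, (maximalIdeal S).height = d := by
    have := Ideal.height_lt_top (I := maximalIdeal S) (maximalIdeal.isMaximal S).ne_top
    exact ⟨(maximalIdeal S).height.toNat, (ENat.natCast_toNat this.ne).symm⟩
  obtain ⟨L, hlen, hmem, hradL⟩ := exists_sop_in_image hrad d hd
  have hdim : Module.supportDim S S = d := by
    rw [Module.supportDim_self_eq_ringKrullDim, ← IsLocalRing.maximalIdeal_height_eq_ringKrullDim,
      hd]
    rfl
  have hregS : IsWeaklyRegular S (L.map (algebraMap R S)) :=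
    Groth.Agent.Lib.Helper21.TightKit.isWeaklyRegular_of_radical hS.supportDim_eq_depth d hdim _
      (by rw [List.length_map, hlen]) hradL
  have hregR : IsWeaklyRegular R L := isWeaklyRegular_of_map hpure L hregS
  -- depth ≥ d
  have hdepth : (d : ℕ∞) ≤ LocCoh.depth R R := by
    unfold LocCoh.depth LocCoh.idealDepth
    split_ifs with h1
    · exact le_top
    · rw [← hlen]
      exact le_iSup₂_of_le L ⟨hregR, hmem⟩ le_rfl
  -- dim ≤ d
  have hradR : (Ideal.ofList L).radical = maximalIdeal R := by
    apply le_antisymm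
    · refine (Ideal.IsPrime.radical_le_iff (maximalIdeal.isMaximal R).isPrime).2 ?_
      exact Ideal.span_le.2 (fun x hx => hmem x hx)
    · intro t ht
      have h1 : algebraMap R S t ∈ (Ideal.ofList (L.map (algebraMap R S))).radical := by
        rw [hradL, ← hrad]
        exact Ideal.le_radical (Ideal.mem_map_of_mem _ ht)
      obtain ⟨k, hk⟩ := h1
      refine ⟨k, ?_⟩
      rw [← hpure (Ideal.ofList L), Ideal.mem_comap, map_pow, Ideal.map_ofList]
      exact hk
  have hmin : maximalIdeal R ∈ (Ideal.ofList L).minimalPrimes := by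
    rw [← Ideal.radical_minimalPrimes, hradR, Ideal.minimalPrimes_eq_subsingleton_self]
    rfl
  have hht : (maximalIdeal R).height ≤ d := by
    have hfs : {x | x ∈ L}.Finite := List.finite_toSet _
    have := Ideal.height_le_card_of_mem_minimalPrimes_span hfs hmin
    refine le_trans this ?_
    rw [Set.ncard_eq_toFinset_card _ hfs]
    have : hfs.toFinset = L.toFinset := by ext x; simp
    rw [this, ← hlen]
    exact_mod_cast List.toFinset_card_le _
  refine ⟨?_⟩
  apply le_antisymm
  · rw [Module.supportDim_self_eq_ringKrullDim, ← IsLocalRing.maximalIdeal_height_eq_ringKrullDim]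
    have h1 : (((maximalIdeal R).height : ℕ∞) : WithBot ℕ∞) ≤ ((d : ℕ∞) : WithBot ℕ∞) :=
      WithBot.coe_le_coe.2 hht
    exact h1.trans (WithBot.coe_le_coe.2 hdepth)
  · exact Groth.Agent.Lib.Helper21.DepthKit.depth_le_supportDim

end general

end Groth.Agent.Lib.Helper20.ProjLoc
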