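import Groth.Agent.Lib.Helper20.ProjLoc4
import Mathlib

/-!
# Helper20 — ProjLoc5: the Cohen–Macaulay property descends from `A_p` to `A_(p)`.
-/

set_option autoImplicit false
set_option linter.unusedSectionVars false
universe u

namespace Groth.Agent.Lib.Helper20.ProjLoc

open HomogeneousLocalization DirectSum IsLocalRing

variable {A : Type u} [CommRing A] (𝒜 : ℕ → AddSubgroup A) [GradedRing 𝒜]
  (p : Ideal A) [hp : p.IsPrime] (hpH : p.IsHomogeneous 𝒜)
  (N' : ℕ) (hN' : 0 < N') (f : A) (hf : f ∈ 𝒜 N') (hfp : f ∉ p)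

theorem val_mem_maximalIdeal {t : AtPrime 𝒜 p} (ht : t ∈ maximalIdeal (AtPrime 𝒜 p)) :
    t.val ∈ maximalIdeal (Localization.AtPrime p) := by
  rw [mem_maximalIdeal, mem_nonunits_iff] at ht ⊢
  exact fun h => ht ((HomogeneousLocalization.isUnit_iff_isUnit_val 𝒜 p t).1 h)

include hpH hN' hf hfp in
theorem radical_map_maximalIdeal :
    ((maximalIdeal (AtPrime 𝒜 p)).map
      (algebraMap (AtPrime 𝒜 p) (Localization.AtPrime p))).radical =
      maximalIdeal (Localization.AtPrime p) := by
  classical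
  apply le_antisymm
  · refine (Ideal.IsPrime.radical_le_iff (maximalIdeal.isMaximal _).isPrime).2 ?_
    rw [Ideal.map_le_iff_le_comap]
    intro t ht
    rw [Ideal.mem_comap, HomogeneousLocalization.algebraMap_apply]
    exact val_mem_maximalIdeal 𝒜 p ht
  · rw [← Localization.AtPrime.map_eq_maximalIdeal, Ideal.map_le_iff_le_comap]
    intro y hy
    rw [Ideal.mem_comap]
    -- reduce to homogeneous elements
    rw [← DirectSum.sum_support_decompose 𝒜 y, map_sum]
    refine Ideal.sum_mem _ fun n _ => ?_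
    have hyn : (decompose 𝒜 y n : A) ∈ p := hpH n hy
    obtain ⟨yn, hyn𝒜, hynp, hyneq⟩ : ∃ yn : A, yn ∈ 𝒜 n ∧ yn ∈ p ∧
        yn = (decompose 𝒜 y n : A) := ⟨_, (decompose 𝒜 y n).2, hyn, rfl⟩
    rw [← hyneq]
    have hnum : yn ^ N' ∈ 𝒜 (n * N') := by
      have := SetLike.pow_mem_graded N' hyn𝒜
      rwa [smul_eq_mul, mul_comm] at this
    have hden : f ^ n ∈ 𝒜 (n * N') := by
      have := SetLike.pow_mem_graded n hf
      rwa [smul_eq_mul] at this
    have hfn : f ^ n ∉ p := fun h => hfp (hp.mem_of_pow_mem _ h)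
    set r : AtPrime 𝒜 p := frac 𝒜 p (n * N') (yn ^ N') hnum (f ^ n) hden hfn with hr
    have hrval := val_frac_mul 𝒜 p (n * N') (yn ^ N') hnum (f ^ n) hden hfn
    have halg : algebraMap A (Localization.AtPrime p) yn ∈
        maximalIdeal (Localization.AtPrime p) :=
      (IsLocalization.AtPrime.to_map_mem_maximal_iff _ p yn).2 hynp
    have hrm : r ∈ maximalIdeal (AtPrime 𝒜 p) := by
      rw [mem_maximalIdeal, mem_nonunits_iff]
      intro hu
      have hu' : IsUnit r.val := (HomogeneousLocalization.isUnit_iff_isUnit_val 𝒜 p r).2 hu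
      have h1 : IsUnit (algebraMap A (Localization.AtPrime p) (yn ^ N')) := by
        rw [← hrval]
        exact hu'.mul (isUnit_alg p hfn)
      rw [map_pow] at h1
      have h2 : IsUnit (algebraMap A (Localization.AtPrime p) yn) :=
        (isUnit_pow_iff hN'.ne').1 h1
      exact (mem_nonunits_iff.1 ((mem_maximalIdeal _).1 halg)) h2
    refine ⟨N', ?_⟩
    rw [← map_pow, ← hrval]
    exact Ideal.mul_mem_right _ _ (Ideal.mem_map_of_mem _ hrm)

include hpH hN' hf hfp in
/-- The Cohen–Macaulay property descends from `A_p` to `A_(p)`. -/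
theorem isCM_atPrime [IsNoetherianRing A]
    [hS : LocCoh.IsCohenMacaulayLocalRing (Localization.AtPrime p)] :
    LocCoh.IsCohenMacaulayLocalRing (AtPrime 𝒜 p) := by
  have hSN : IsNoetherianRing (Localization.AtPrime p) :=
    IsLocalization.isNoetherianRing p.primeCompl _ inferInstance
  have hT : IsNoetherianRing (AtPrime 𝒜 p) := isNoetherianRing_atPrime 𝒜 p hpH
  exact isCM_of_cyclicallyPure (S := Localization.AtPrime p) (comap_map_eq 𝒜 p hpH)
    (radical_map_maximalIdeal 𝒜 p hpH N' hN' f hf hfp)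

end Groth.Agent.Lib.Helper20.ProjLoc
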