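import Mathlib

/-!
# A Cartier-type coefficient identity in characteristic `p`  (helper20)

For a polynomial `g` over a ring of characteristic `p`, the coefficient of `X ^ (k p + p - 1)` in
`g ^ (p - 1) * g'` is `(k + 1) * g_{k+1} ^ p`.  Proved by lifting to characteristic zero.
-/

set_option autoImplicit false

namespace Groth.Agent.Lib.Helper20.PthTrace

open Polynomial

theorem exists_sum_pow_prime {S : Type*} [CommRing S] {p : ℕ} (hp : p.Prime) {ι : Type*}
    (s : Finset ι) (f : ι → S) :
    ∃ r : S, (∑ i ∈ s, f i) ^ p = ∑ i ∈ s, f i ^ p + (p : S) * r := by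
  classical
  induction s using Finset.induction_on with
  | empty => exact ⟨0, by simp [hp.ne_zero]⟩
  | insert a s ha ih =>
    obtain ⟨r, hr⟩ := ih
    obtain ⟨r', hr'⟩ := exists_add_pow_prime_eq hp (f a) (∑ i ∈ s, f i)
    refine ⟨r + f a * (∑ i ∈ s, f i) * r', ?_⟩
    rw [Finset.sum_insert ha, Finset.sum_insert ha, hr', hr]; ring

variable (p : ℕ) [hp : Fact p.Prime] {R : Type*} [CommRing R] [CharP R p]

include hp in
theorem coeff_pow_char (g : R[X]) (j : ℕ) : (g ^ p).coeff (j * p) = (g.coeff j) ^ p := by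
  have : ExpChar R p := ExpChar.prime hp.out
  rw [← map_frobenius_expand, coeff_map, coeff_expand_mul hp.out.pos, frobenius_def]

/-- **the key identity** -/
theorem coeff_pow_pred_mul_derivative (g : R[X]) (k : ℕ) :
    (g ^ (p - 1) * derivative g).coeff (k * p + (p - 1)) =
      ((k + 1 : ℕ) : R) * (g.coeff (k + 1)) ^ p := by
  classical
  have hp' := hp.out
  -- the universal ring
  let Z := MvPolynomial ℕ ℤ
  let n := g.natDegree
  let 𝔤 : Z[X] := ∑ j ∈ Finset.range (n + 1), C (MvPolynomial.X j : Z) * X ^ j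
  let ψ : Z →+* R := MvPolynomial.eval₂Hom (Int.castRingHom R) (fun j => g.coeff j)
  have hmap : 𝔤.map ψ = g := by
    simp only [𝔤, Polynomial.map_sum, Polynomial.map_mul, Polynomial.map_C, Polynomial.map_pow,
      Polynomial.map_X]
    conv_rhs => rw [g.as_sum_range_C_mul_X_pow]
    refine Finset.sum_congr rfl fun j _ => ?_
    have : ψ (MvPolynomial.X j) = g.coeff j := by
      exact MvPolynomial.eval₂Hom_X' _ _ j
    rw [this]
  obtain ⟨H, hH⟩ := exists_sum_pow_prime hp' (Finset.range (n + 1))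
    (fun j => C (MvPolynomial.X j : Z) * (X : Z[X]) ^ j)
  set m := k * p + (p - 1) with hm
  have hm1 : m + 1 = (k + 1) * p := by
    have : 1 ≤ p := hp'.one_le
    rw [hm, add_mul, one_mul]; omega
  set Sp : Z[X] := ∑ j ∈ Finset.range (n + 1), (C (MvPolynomial.X j : Z) * (X : Z[X]) ^ j) ^ p
    with hSp
  -- the key equation in Z
  have key : (p : Z) * (𝔤 ^ (p - 1) * derivative 𝔤).coeff m =
      (p : Z) * (((k + 1 : ℕ) : Z) * (Sp.coeff (m + 1) + (p : Z) * H.coeff (m + 1))) := by
    have h1 : derivative (𝔤 ^ p) = C (p : Z) * (𝔤 ^ (p - 1) * derivative 𝔤) := by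
      rw [derivative_pow, mul_assoc]
    have h2 : (derivative (𝔤 ^ p)).coeff m = (𝔤 ^ p).coeff (m + 1) * ((m : Z) + 1) :=
      coeff_derivative _ _
    rw [h1, coeff_C_mul] at h2
    rw [h2, hH, coeff_add]
    have h3 : ((p : Z[X]) * H).coeff (m + 1) = (p : Z) * H.coeff (m + 1) := by
      have : (p : Z[X]) = C (p : Z) := by simp
      rw [this, coeff_C_mul]
    rw [h3]
    have h4 : ((m : Z) + 1) = ((k + 1 : ℕ) : Z) * (p : Z) := by
      have : ((m + 1 : ℕ) : Z) = (((k + 1) * p : ℕ) : Z) := by rw [hm1]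
      push_cast at this ⊢
      linear_combination this
    rw [h4]; ring
  have hp0 : (p : Z) ≠ 0 := by
    exact_mod_cast hp'.ne_zero
  have key' := mul_left_cancel₀ hp0 key
  -- apply ψ
  have h5 := congrArg ψ key'
  rw [← coeff_map, Polynomial.map_mul, Polynomial.map_pow, ← derivative_map, hmap] at h5
  rw [h5]
  simp only [map_mul, map_add, map_natCast]
  have hpR : (p : R) = 0 := CharP.cast_eq_zero R p
  rw [hpR, zero_mul, add_zero]
  congr 1
  -- ψ of the coefficient of Sp
  rw [← coeff_map]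
  have h6 : Sp.map ψ = g ^ p := by
    rw [hSp, Polynomial.map_sum]
    have : ∀ j ∈ Finset.range (n + 1),
        ((C (MvPolynomial.X j : Z) * (X : Z[X]) ^ j) ^ p).map ψ = (C (g.coeff j) * X ^ j) ^ p := by
      intro j _
      have : ψ (MvPolynomial.X j) = g.coeff j := by
        exact MvPolynomial.eval₂Hom_X' _ _ j
      rw [Polynomial.map_pow, Polynomial.map_mul, Polynomial.map_C, Polynomial.map_pow,
        Polynomial.map_X, this]
    rw [Finset.sum_congr rfl this, ← sum_pow_char p]
    rw [← g.as_sum_range_C_mul_X_pow]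
  rw [h6, hm1, coeff_pow_char]

end Groth.Agent.Lib.Helper20.PthTrace
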