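import Mathlib
import Groth.Agent.Lib.Helper20.PthTraceA

/-!
# The trace for `R[x]/(x^p - a)` on differentials is well defined  (helper20)
-/

set_option autoImplicit false

namespace Groth.Agent.Lib.Helper20.PthTrace

open Polynomial

universe u

variable (p : ℕ) [hp : Fact p.Prime] {R : Type u} [CommRing R] [CharP R p]

section lam

variable (b : R)

include hp in
theorem monic_q : (X ^ p - C b : R[X]).Monic := monic_X_pow_sub_C b hp.out.ne_zero

include hp in
theorem degree_q [Nontrivial R] : (X ^ p - C b : R[X]).degree = p :=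
  degree_X_pow_sub_C hp.out.pos b

/-- the coefficient of `root ^ (p - 1)` -/
noncomputable def lam : AdjoinRoot (X ^ p - C b : R[X]) →ₗ[R] R :=
  (lcoeff R (p - 1)).comp (AdjoinRoot.modByMonicHom (monic_q p b))

/-- the coefficient of `1` -/
noncomputable def lam0 : AdjoinRoot (X ^ p - C b : R[X]) →ₗ[R] R :=
  (lcoeff R 0).comp (AdjoinRoot.modByMonicHom (monic_q p b))

theorem root_pow :
    (AdjoinRoot.root (X ^ p - C b : R[X])) ^ p = AdjoinRoot.of (X ^ p - C b : R[X]) b := by
  have := AdjoinRoot.eval₂_root (X ^ p - C b : R[X])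
  simpa [sub_eq_zero] using this

include hp in
theorem nontrivial_R : Nontrivial R := by
  by_contra h
  rw [not_nontrivial_iff_subsingleton] at h
  have h1 : ((1 : ℕ) : R) = 0 := Subsingleton.elim _ _
  have := (CharP.cast_eq_zero_iff R p 1).mp h1
  exact hp.out.one_lt.ne' (Nat.dvd_one.mp this)

theorem modByMonic_C_mul_X_pow (c : R) (r : ℕ) (hr : r < p) :
    (C c * X ^ r : R[X]) %ₘ (X ^ p - C b) = C c * X ^ r := by
  haveI := nontrivial_R p (R := R)
  rw [modByMonic_eq_self_iff (monic_q p b), degree_q p b]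
  refine lt_of_le_of_lt (degree_C_mul_X_pow_le r c) ?_
  exact_mod_cast hr

theorem lam_of_mul_root_pow (c : R) (r : ℕ) (hr : r < p) :
    lam p b (AdjoinRoot.of _ c * AdjoinRoot.root _ ^ r) = if r = p - 1 then c else 0 := by
  have : AdjoinRoot.of (X ^ p - C b : R[X]) c * AdjoinRoot.root _ ^ r =
      AdjoinRoot.mk _ (C c * X ^ r) := by simp
  rw [this, lam, LinearMap.comp_apply, AdjoinRoot.modByMonicHom_mk,
    modByMonic_C_mul_X_pow p b c r hr, lcoeff_apply, coeff_C_mul, coeff_X_pow]
  split_ifs with h1 h2 h2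
  · simp
  · exact absurd h1.symm h2
  · exact absurd h2.symm h1
  · simp

theorem lam0_of (c : R) : lam0 p b (AdjoinRoot.of _ c) = c := by
  have : AdjoinRoot.of (X ^ p - C b : R[X]) c = AdjoinRoot.mk _ (C c * X ^ 0) := by simp
  rw [this, lam0, LinearMap.comp_apply, AdjoinRoot.modByMonicHom_mk,
    modByMonic_C_mul_X_pow p b c 0 hp.out.pos, lcoeff_apply]
  simp

theorem of_injective : Function.Injective (AdjoinRoot.of (X ^ p - C b : R[X])) := by
  intro c c' h
  rw [← lam0_of p b c, ← lam0_of p b c', h]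

theorem mk_monomial (m : ℕ) (c : R) :
    AdjoinRoot.mk (X ^ p - C b : R[X]) (monomial m c) =
      AdjoinRoot.of _ (c * b ^ (m / p)) * AdjoinRoot.root _ ^ (m % p) := by
  rw [← C_mul_X_pow_eq_monomial, map_mul, map_pow, AdjoinRoot.mk_C, AdjoinRoot.mk_X]
  conv_lhs => rw [← Nat.div_add_mod m p, pow_add, pow_mul, root_pow]
  rw [map_mul, map_pow]; ring

theorem lam_mk_monomial (m : ℕ) (c : R) :
    lam p b (AdjoinRoot.mk _ (monomial m c)) = if m % p = p - 1 then c * b ^ (m / p) else 0 := by
  rw [mk_monomial, lam_of_mul_root_pow p b _ _ (Nat.mod_lt _ hp.out.pos)]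

theorem lam_mk (F : R[X]) :
    lam p b (AdjoinRoot.mk _ F) =
      ∑ m ∈ F.support, if m % p = p - 1 then F.coeff m * b ^ (m / p) else 0 := by
  conv_lhs => rw [← F.sum_monomial_eq, Polynomial.sum_def, map_sum, map_sum]
  exact Finset.sum_congr rfl fun m _ => lam_mk_monomial p b m _

theorem lam_mk_eq_zero (F : R[X]) (hF : ∀ m, m % p = p - 1 → F.coeff m = 0) :
    lam p b (AdjoinRoot.mk _ F) = 0 := by
  rw [lam_mk]
  refine Finset.sum_eq_zero fun m _ => ?_
  split_ifs with h
  · rw [hF m h, zero_mul]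
  · rfl

theorem lam_mk_derivative (F : R[X]) : lam p b (AdjoinRoot.mk _ (derivative F)) = 0 := by
  apply lam_mk_eq_zero
  intro m hm
  rw [coeff_derivative]
  have hdvd : p ∣ m + 1 := by
    have h1 : 1 ≤ p := hp.out.one_le
    have : (m + 1) % p = 0 := by
      rw [Nat.add_mod, hm]
      have : (p - 1 + 1 % p) = p ∨ p = 1 := by
        rcases Nat.lt_or_ge 1 p with h | h
        · left; rw [Nat.mod_eq_of_lt h]; omega
        · right; omega
      rcases this with h | h
      · rw [h, Nat.mod_self]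
      · exact absurd h hp.out.one_lt.ne'
    exact Nat.dvd_of_mod_eq_zero this
  have : ((m : R) + 1) = 0 := by
    have := (CharP.cast_eq_zero_iff R p (m + 1)).mpr hdvd
    push_cast at this
    exact this
  rw [this, mul_zero]

theorem lam_of_mul (c : R) (x : AdjoinRoot (X ^ p - C b : R[X])) :
    lam p b (AdjoinRoot.of _ c * x) = c * lam p b x := by
  have : AdjoinRoot.of (X ^ p - C b : R[X]) c * x = c • x := by
    rw [Algebra.smul_def, AdjoinRoot.algebraMap_eq]
  rw [this, map_smul, smul_eq_mul]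

theorem lam_mk_sum_monomial (N : ℕ) (c : ℕ → R) :
    lam p b (AdjoinRoot.mk _ (∑ k ∈ Finset.range N, monomial (k * p + (p - 1)) (c k))) =
      ∑ k ∈ Finset.range N, c k * b ^ k := by
  rw [map_sum, map_sum]
  refine Finset.sum_congr rfl fun k _ => ?_
  rw [lam_mk_monomial]
  have h1 : (k * p + (p - 1)) % p = p - 1 := by
    rw [Nat.mul_add_mod_self_right]
    exact Nat.mod_eq_of_lt (Nat.sub_lt hp.out.pos one_pos)
  have h2 : (k * p + (p - 1)) / p = k := by
    rw [mul_comm k p, Nat.mul_add_div hp.out.pos, Nat.div_eq_of_lt (Nat.sub_lt hp.out.pos one_pos),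
      add_zero]
  rw [if_pos h1, h2]

/-- **B3**: the trace in terms of `lam` -/
theorem T_eq (Ty : Ω[AdjoinRoot (X ^ p - C b : R[X])⁄R] →ₗ[R] Ω[R⁄ℤ])
    (hTy : ∀ i : ℕ, i + 2 ≤ p →
      Ty (AdjoinRoot.root (X ^ p - C b) ^ i •
        KaehlerDifferential.D R _ (AdjoinRoot.root (X ^ p - C b))) = 0)
    (hTy' : Ty (AdjoinRoot.root (X ^ p - C b) ^ (p - 1) •
        KaehlerDifferential.D R _ (AdjoinRoot.root (X ^ p - C b))) = KaehlerDifferential.D ℤ R b)
    (s : AdjoinRoot (X ^ p - C b : R[X])) :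
    Ty (s • KaehlerDifferential.D R _ (AdjoinRoot.root (X ^ p - C b))) =
      lam p b s • KaehlerDifferential.D ℤ R b := by
  induction s using AdjoinRoot.induction_on with
  | ih F =>
  induction F using Polynomial.induction_on' with
  | add F G hF hG =>
    rw [map_add, add_smul, map_add, hF, hG, map_add, add_smul]
  | monomial m c =>
    rw [mk_monomial, lam_of_mul_root_pow p b _ _ (Nat.mod_lt _ hp.out.pos)]
    have h1 : (AdjoinRoot.of (X ^ p - C b : R[X]) (c * b ^ (m / p)) *
        AdjoinRoot.root _ ^ (m % p)) • KaehlerDifferential.D R _ (AdjoinRoot.root (X ^ p - C b)) =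
        (c * b ^ (m / p)) • (AdjoinRoot.root (X ^ p - C b) ^ (m % p) •
          KaehlerDifferential.D R _ (AdjoinRoot.root (X ^ p - C b))) := by
      rw [mul_smul, ← AdjoinRoot.algebraMap_eq, algebraMap_smul]
    rw [h1, map_smul]
    split_ifs with h
    · rw [h, hTy']
    · have hlt : m % p < p := Nat.mod_lt _ hp.out.pos
      rw [hTy (m % p) (by omega), smul_zero, zero_smul]

end lam

end Groth.Agent.Lib.Helper20.PthTrace
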