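import Mathlib
import Groth.Agent.Lib.Helper20.PthTraceB

/-!
# The trace for `R[x]/(x^p - a)` on differentials is well defined: main theorem  (helper20)
-/

set_option autoImplicit false

namespace Groth.Agent.Lib.Helper20.PthTrace

open Polynomial

universe u

variable (p : ℕ) [hp : Fact p.Prime] {R : Type u} [CommRing R] [CharP R p]

/-- `lam (g^r g') = 0` for `r + 2 ≤ p`. -/
theorem lam_pow_mul_derivative_small (b : R) (g : R[X]) (r : ℕ) (hr : r + 2 ≤ p) :
    lam p b (AdjoinRoot.mk _ (g ^ r * derivative g)) = 0 := by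
  have hunit : IsUnit ((r + 1 : ℕ) : R) := by
    rw [CharP.isUnit_natCast_iff hp.out]
    intro h
    have := Nat.le_of_dvd (Nat.succ_pos r) h
    omega
  obtain ⟨u, hu⟩ := hunit
  have h1 : g ^ r * derivative g = C (↑u⁻¹ : R) * derivative (g ^ (r + 1)) := by
    rw [derivative_pow, Nat.add_sub_cancel, ← mul_assoc, ← mul_assoc, ← C_mul]
    have : (↑u⁻¹ : R) * ((r + 1 : ℕ) : R) = 1 := by rw [← hu, Units.inv_mul]
    rw [this, C_1, one_mul]
  rw [h1, map_mul, AdjoinRoot.mk_C, lam_of_mul, lam_mk_derivative, mul_zero]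

/-- the value of `a` -/
theorem eq_eval_of_mk_pow (b a : R) (g : R[X])
    (h : AdjoinRoot.mk (X ^ p - C b : R[X]) g ^ p = AdjoinRoot.of _ a) :
    a = eval b (g.map (frobenius R p)) := by
  have : ExpChar R p := ExpChar.prime hp.out
  have h1 : g ^ p = expand R p (g.map (frobenius R p)) := by
    rw [← map_expand, map_frobenius_expand]
  have h2 : AdjoinRoot.mk (X ^ p - C b : R[X]) (g ^ p) =
      AdjoinRoot.of _ (eval b (g.map (frobenius R p))) := by
    rw [h1, ← AdjoinRoot.aeval_eq, expand_aeval, root_pow, ← AdjoinRoot.algebraMap_eq,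
      aeval_algebraMap_apply, coe_aeval_eq_eval]
  apply of_injective p b
  rw [← h, ← map_pow, h2]

/-- `d(eval b (g^(p)))` -/
theorem D_eval_frobenius (b : R) (g : R[X]) :
    KaehlerDifferential.D ℤ R (eval b (g.map (frobenius R p))) =
      (∑ k ∈ Finset.range g.natDegree, ((k + 1 : ℕ) : R) * (g.coeff (k + 1)) ^ p * b ^ k) •
        KaehlerDifferential.D ℤ R b := by
  have hdeg : (g.map (frobenius R p)).natDegree < g.natDegree + 1 :=
    Nat.lt_succ_of_le natDegree_map_le
  rw [eval_eq_sum_range' hdeg, map_sum, Finset.sum_range_succ', Finset.sum_smul]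
  have h0 : KaehlerDifferential.D ℤ R ((g.map (frobenius R p)).coeff 0 * b ^ 0) = 0 := by
    rw [pow_zero, mul_one, coeff_map, frobenius_def]
    rw [Derivation.leibniz_pow]
    have : (p : ℕ) • ((g.coeff 0) ^ (p - 1) • KaehlerDifferential.D ℤ R (g.coeff 0)) =
        ((p : ℕ) : R) • ((g.coeff 0) ^ (p - 1) • KaehlerDifferential.D ℤ R (g.coeff 0)) := by
      rw [Nat.cast_smul_eq_nsmul]
    rw [this, CharP.cast_eq_zero R p, zero_smul]
  rw [h0, add_zero]
  refine Finset.sum_congr rfl fun k _ => ?_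
  rw [Derivation.leibniz, Derivation.leibniz_pow, coeff_map, frobenius_def, Derivation.leibniz_pow]
  have : (p : ℕ) • ((g.coeff (k + 1)) ^ (p - 1) • KaehlerDifferential.D ℤ R (g.coeff (k + 1))) =
      ((p : ℕ) : R) • ((g.coeff (k + 1)) ^ (p - 1) •
        KaehlerDifferential.D ℤ R (g.coeff (k + 1))) := by
    rw [Nat.cast_smul_eq_nsmul]
  rw [this, CharP.cast_eq_zero R p, zero_smul, smul_zero, add_zero, Nat.add_sub_cancel,
    ← Nat.cast_smul_eq_nsmul R, smul_smul, smul_smul]
  congr 1
  push_cast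
  ring

/-- **C6** -/
theorem lam_pow_pred_mul_derivative (b : R) (g : R[X]) :
    lam p b (AdjoinRoot.mk _ (g ^ (p - 1) * derivative g)) =
      ∑ k ∈ Finset.range g.natDegree, ((k + 1 : ℕ) : R) * (g.coeff (k + 1)) ^ p * b ^ k := by
  set N := g.natDegree with hN
  set Q : R[X] := ∑ k ∈ Finset.range N,
    monomial (k * p + (p - 1)) (((k + 1 : ℕ) : R) * (g.coeff (k + 1)) ^ p) with hQ
  have h1 : lam p b (AdjoinRoot.mk _ (g ^ (p - 1) * derivative g - Q)) = 0 := by
    apply lam_mk_eq_zero
    intro m hm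
    have hm' : m = (m / p) * p + (p - 1) := by
      conv_lhs => rw [← Nat.div_add_mod m p, hm, mul_comm]
    rw [coeff_sub, hm', coeff_pow_pred_mul_derivative, hQ, finsetSum_coeff]
    by_cases hk : m / p < N
    · rw [Finset.sum_eq_single (m / p)]
      · rw [coeff_monomial, if_pos rfl, sub_self]
      · intro k _ hne
        rw [coeff_monomial, if_neg]
        intro heq
        apply hne
        have : k * p = (m / p) * p := by omega
        exact Nat.eq_of_mul_eq_mul_right hp.out.pos this
      · intro h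
        exact absurd (Finset.mem_range.mpr hk) h
    · rw [Finset.sum_eq_zero, sub_zero]
      · have : g.coeff (m / p + 1) = 0 := coeff_eq_zero_of_natDegree_lt (by omega)
        rw [this, zero_pow hp.out.ne_zero, mul_zero]
      · intro k hk'
        rw [coeff_monomial, if_neg]
        intro heq
        have : k * p = (m / p) * p := by omega
        have := Nat.eq_of_mul_eq_mul_right hp.out.pos this
        rw [this] at hk'
        exact hk (Finset.mem_range.mp hk')
  rw [map_sub, map_sub, sub_eq_zero] at h1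
  rw [h1, hQ, lam_mk_sum_monomial]

variable (a b : R)

/-- **main** -/
theorem main
    (φ : AdjoinRoot (X ^ p - C a : R[X]) →ₐ[R] AdjoinRoot (X ^ p - C b : R[X]))
    (Tx : Ω[AdjoinRoot (X ^ p - C a : R[X])⁄R] →ₗ[R] Ω[R⁄ℤ])
    (Ty : Ω[AdjoinRoot (X ^ p - C b : R[X])⁄R] →ₗ[R] Ω[R⁄ℤ])
    (hTx : ∀ i : ℕ, i + 2 ≤ p →
      Tx (AdjoinRoot.root (X ^ p - C a) ^ i •
        KaehlerDifferential.D R _ (AdjoinRoot.root (X ^ p - C a))) = 0)
    (hTx' : Tx (AdjoinRoot.root (X ^ p - C a) ^ (p - 1) •
        KaehlerDifferential.D R _ (AdjoinRoot.root (X ^ p - C a))) = KaehlerDifferential.D ℤ R a)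
    (hTy : ∀ i : ℕ, i + 2 ≤ p →
      Ty (AdjoinRoot.root (X ^ p - C b) ^ i •
        KaehlerDifferential.D R _ (AdjoinRoot.root (X ^ p - C b))) = 0)
    (hTy' : Ty (AdjoinRoot.root (X ^ p - C b) ^ (p - 1) •
        KaehlerDifferential.D R _ (AdjoinRoot.root (X ^ p - C b))) = KaehlerDifferential.D ℤ R b)
    (s t : AdjoinRoot (X ^ p - C a : R[X])) :
    Tx (s • KaehlerDifferential.D R _ t) = Ty (φ s • KaehlerDifferential.D R _ (φ t)) := by
  obtain ⟨g, hg⟩ := AdjoinRoot.mk_surjective (g := (X ^ p - C b : R[X])) (φ (AdjoinRoot.root _))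
  -- φ on mk
  have hφ : ∀ F : R[X], φ (AdjoinRoot.mk _ F) = AdjoinRoot.mk _ (F.comp g) := by
    intro F
    rw [← AdjoinRoot.aeval_eq, ← aeval_algHom_apply, ← hg, ← AdjoinRoot.aeval_eq g, ← aeval_comp,
      AdjoinRoot.aeval_eq]
  have hDa : ∀ T : R[X], KaehlerDifferential.D R (AdjoinRoot (X ^ p - C a : R[X]))
      (AdjoinRoot.mk (X ^ p - C a : R[X]) T) =
      AdjoinRoot.mk (X ^ p - C a : R[X]) (derivative T) •
        KaehlerDifferential.D R (AdjoinRoot (X ^ p - C a : R[X]))
          (AdjoinRoot.root (X ^ p - C a : R[X])) := by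
    intro T
    rw [← AdjoinRoot.aeval_eq, Derivation.map_aeval, AdjoinRoot.aeval_eq]
  have hDb : ∀ T : R[X], KaehlerDifferential.D R (AdjoinRoot (X ^ p - C b : R[X]))
      (AdjoinRoot.mk (X ^ p - C b : R[X]) T) =
      AdjoinRoot.mk (X ^ p - C b : R[X]) (derivative T) •
        KaehlerDifferential.D R (AdjoinRoot (X ^ p - C b : R[X]))
          (AdjoinRoot.root (X ^ p - C b : R[X])) := by
    intro T
    rw [← AdjoinRoot.aeval_eq, Derivation.map_aeval, AdjoinRoot.aeval_eq]
  -- γ^p = a
  have hγ : AdjoinRoot.mk (X ^ p - C b : R[X]) g ^ p = AdjoinRoot.of _ a := by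
    rw [hg, ← map_pow, root_pow, ← AdjoinRoot.algebraMap_eq, ← AdjoinRoot.algebraMap_eq,
      AlgHom.commutes]
  have ha : a = eval b (g.map (frobenius R p)) := eq_eval_of_mk_pow p b a g hγ
  -- the key identity
  have key : ∀ F : R[X], lam p a (AdjoinRoot.mk _ F) • KaehlerDifferential.D ℤ R a =
      lam p b (AdjoinRoot.mk _ (F.comp g * derivative g)) • KaehlerDifferential.D ℤ R b := by
    intro F
    induction F using Polynomial.induction_on' with
    | add F G hF hG =>
      rw [map_add, map_add, add_smul, hF, hG, add_comp, add_mul, map_add, map_add, add_smul]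
    | monomial n c =>
      rw [lam_mk_monomial, monomial_comp]
      have h1 : AdjoinRoot.mk (X ^ p - C b : R[X]) (C c * g ^ n * derivative g) =
          AdjoinRoot.of _ (c * a ^ (n / p)) *
            AdjoinRoot.mk _ (g ^ (n % p) * derivative g) := by
        conv_lhs => rw [← Nat.div_add_mod n p]
        rw [map_mul, map_mul, map_pow, AdjoinRoot.mk_C, pow_add, pow_mul, hγ, map_mul, map_pow,
          map_mul, map_pow]
        ring
      rw [h1, lam_of_mul]
      have hlt : n % p < p := Nat.mod_lt _ hp.out.pos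
      split_ifs with h
      · rw [h, lam_pow_pred_mul_derivative]
        have hD := D_eval_frobenius p b g
        rw [← ha] at hD
        rw [hD, smul_smul]
      · rw [lam_pow_mul_derivative_small p b g (n % p) (by omega), mul_zero, zero_smul, zero_smul]
  -- assemble
  induction s using AdjoinRoot.induction_on with
  | ih S =>
  induction t using AdjoinRoot.induction_on with
  | ih T =>
  rw [hDa, smul_smul, ← map_mul, T_eq p a Tx hTx hTx', hφ, hφ, hDb, smul_smul, ← map_mul,
    T_eq p b Ty hTy hTy', key, derivative_comp, mul_comp]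
  congr 3
  ring

end Groth.Agent.Lib.Helper20.PthTrace
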