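import Mathlib

/-! Quasi-constructible sets (finite unions of locally closed sets), locally quasi-constructible
sets, and their behaviour under quasi-homeomorphisms. -/

set_option autoImplicit false

namespace Groth.Agent.Lib.Helper20.QCons

open Set TopologicalSpace Topology

variable {X Y : Type*} [TopologicalSpace X] [TopologicalSpace Y]

/-- quasi-constructible: finite union of locally closed subsets -/
def QC (Z : Set X) : Prop :=
  ∃ T : Set (Set X), T.Finite ∧ (∀ t ∈ T, IsLocallyClosed t) ∧ Z = ⋃₀ T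

/-- locally quasi-constructible (ambient form) -/
def LQC (Z : Set X) : Prop :=
  ∀ x : X, ∃ U : Set X, IsOpen U ∧ x ∈ U ∧
    ∃ T : Set (Set X), T.Finite ∧ (∀ t ∈ T, IsLocallyClosed t) ∧ U ∩ Z = ⋃₀ T

theorem lqc_iff {Z : Set X} : LQC Z ↔ ∀ x : X, ∃ U : Set X, IsOpen U ∧ x ∈ U ∧ QC (U ∩ Z) :=
  Iff.rfl

theorem QC.of_isLocallyClosed {L : Set X} (hL : IsLocallyClosed L) : QC L :=
  ⟨{L}, finite_singleton L, fun t ht => by rw [mem_singleton_iff.mp ht]; exact hL, by simp⟩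

theorem QC.empty : QC (∅ : Set X) := ⟨∅, finite_empty, fun _ h => absurd h (notMem_empty _), by simp⟩

theorem QC.lqc {Z : Set X} (hZ : QC Z) : LQC Z := by
  intro x
  obtain ⟨T, hT, hlc, rfl⟩ := hZ
  exact ⟨univ, isOpen_univ, mem_univ x, T, hT, hlc, univ_inter _⟩

theorem QC.inter_isLocallyClosed {Z V : Set X} (hZ : QC Z) (hV : IsLocallyClosed V) :
    QC (Z ∩ V) := by
  obtain ⟨T, hT, hlc, rfl⟩ := hZ
  refine ⟨(fun t => t ∩ V) '' T, hT.image _, ?_, ?_⟩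
  · rintro _ ⟨t, ht, rfl⟩
    exact (hlc t ht).inter hV
  · ext x
    simp only [mem_inter_iff, mem_sUnion, mem_image, exists_exists_and_eq_and]
    constructor
    · rintro ⟨⟨t, ht, hxt⟩, hxV⟩
      exact ⟨t, ht, hxt, hxV⟩
    · rintro ⟨t, ht, hxt, hxV⟩
      exact ⟨⟨t, ht, hxt⟩, hxV⟩

theorem QC.preimage {Z : Set Y} (hZ : QC Z) {f : X → Y} (hf : Continuous f) : QC (f ⁻¹' Z) := by
  obtain ⟨T, hT, hlc, rfl⟩ := hZ
  refine ⟨(fun t => f ⁻¹' t) '' T, hT.image _, ?_, ?_⟩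
  · rintro _ ⟨t, ht, rfl⟩
    exact (hlc t ht).preimage hf
  · ext x
    simp only [mem_preimage, mem_sUnion, mem_image, exists_exists_and_eq_and]

/-- a point outside a locally closed set has a locally closed neighbourhood-ish set avoiding it -/
theorem exists_lc_disjoint_of_lc {M : Set X} (hM : IsLocallyClosed M) {x : X} (hx : x ∉ M) :
    ∃ N, IsLocallyClosed N ∧ x ∈ N ∧ Disjoint N M := by
  obtain ⟨U, C, hU, hC, rfl⟩ := hM
  by_cases hxU : x ∈ U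
  · have hxC : x ∉ C := fun h => hx ⟨hxU, h⟩
    refine ⟨Cᶜ, hC.isOpen_compl.isLocallyClosed, hxC, ?_⟩
    rw [Set.disjoint_left]
    rintro y hy ⟨_, hyC⟩
    exact hy hyC
  · refine ⟨Uᶜ, hU.isClosed_compl.isLocallyClosed, hxU, ?_⟩
    rw [Set.disjoint_left]
    rintro y hy ⟨hyU, _⟩
    exact hy hyU

theorem exists_lc_disjoint_of_finite (T : Finset (Set X)) (hlc : ∀ t ∈ T, IsLocallyClosed t)
    {x : X} (hx : ∀ t ∈ T, x ∉ t) :
    ∃ N, IsLocallyClosed N ∧ x ∈ N ∧ ∀ t ∈ T, Disjoint N t := by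
  classical
  induction T using Finset.induction_on with
  | empty =>
    exact ⟨univ, isOpen_univ.isLocallyClosed, mem_univ x, fun t ht => absurd ht (Finset.notMem_empty t)⟩
  | insert a s ha ih =>
    obtain ⟨N₁, h1, h2, h3⟩ := ih (fun t ht => hlc t (Finset.mem_insert_of_mem ht))
      (fun t ht => hx t (Finset.mem_insert_of_mem ht))
    obtain ⟨N₂, h4, h5, h6⟩ := exists_lc_disjoint_of_lc (hlc a (Finset.mem_insert_self a s))
      (hx a (Finset.mem_insert_self a s))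
    refine ⟨N₁ ∩ N₂, h1.inter h4, ⟨h2, h5⟩, ?_⟩
    intro t ht
    rcases Finset.mem_insert.mp ht with rfl | ht
    · exact h6.mono_left inter_subset_right
    · exact (h3 t ht).mono_left inter_subset_left

theorem QC.exists_lc_disjoint {Z' : Set X} (hZ' : QC Z') {x : X} (hx : x ∉ Z') :
    ∃ N, IsLocallyClosed N ∧ x ∈ N ∧ Disjoint N Z' := by
  obtain ⟨T, hT, hlc, rfl⟩ := hZ'
  obtain ⟨T, rfl⟩ := hT.exists_finset_coe
  obtain ⟨N, h1, h2, h3⟩ := exists_lc_disjoint_of_finite T (fun t ht => hlc t (by simpa using ht))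
    (fun t ht hxt => hx ⟨t, by simpa using ht, hxt⟩)
  refine ⟨N, h1, h2, ?_⟩
  rw [Set.disjoint_left]
  rintro y hyN ⟨t, ht, hyt⟩
  exact Set.disjoint_left.mp (h3 t (by simpa using ht)) hyN hyt

/-- separation: a point of `Z \ Z'` (both locally quasi-constructible) lies in a locally closed
subset of `Z \ Z'`. -/
theorem LQC.exists_lc_mem_diff {Z Z' : Set X} (hZ : LQC Z) (hZ' : LQC Z') {x : X} (hx : x ∈ Z)
    (hx' : x ∉ Z') : ∃ L, IsLocallyClosed L ∧ x ∈ L ∧ L ⊆ Z ∧ Disjoint L Z' := by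
  obtain ⟨U, hU, hxU, T, hT, hlc, hUZ⟩ := hZ x
  obtain ⟨U', hU', hxU', T', hT', hlc', hUZ'⟩ := hZ' x
  have hxUZ : x ∈ U ∩ Z := ⟨hxU, hx⟩
  rw [hUZ] at hxUZ
  obtain ⟨t, ht, hxt⟩ := hxUZ
  have htZ : t ⊆ Z := fun y hy => by
    have : y ∈ U ∩ Z := by rw [hUZ]; exact ⟨t, ht, hy⟩
    exact this.2
  have hQC' : QC (U' ∩ Z') := ⟨T', hT', hlc', hUZ'⟩
  obtain ⟨N, hN, hxN, hNd⟩ := hQC'.exists_lc_disjoint (fun h => hx' h.2)
  refine ⟨t ∩ N ∩ U', ((hlc t ht).inter hN).inter hU'.isLocallyClosed, ⟨⟨hxt, hxN⟩, hxU'⟩,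
    fun y hy => htZ hy.1.1, ?_⟩
  rw [Set.disjoint_left]
  rintro y ⟨⟨_, hyN⟩, hyU'⟩ hyZ'
  exact Set.disjoint_left.mp hNd hyN ⟨hyU', hyZ'⟩

theorem LQC.inter_isOpen {Z W : Set X} (hZ : LQC Z) (hW : IsOpen W) : LQC (W ∩ Z) := by
  intro x
  obtain ⟨U, hU, hxU, T, hT, hlc, hUZ⟩ := hZ x
  have hQ : QC (U ∩ Z) := ⟨T, hT, hlc, hUZ⟩
  obtain ⟨T', hT', hlc', h'⟩ := hQ.inter_isLocallyClosed hW.isLocallyClosed
  refine ⟨U, hU, hxU, T', hT', hlc', ?_⟩
  rw [← h']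
  ext y
  simp only [mem_inter_iff]
  tauto

/-! ### Quasi-homeomorphisms -/

section QuasiHomeo

variable {f : X → Y} (hf : Continuous f)
  (hinj : ∀ U V : Set Y, IsOpen U → IsOpen V → f ⁻¹' U = f ⁻¹' V → U = V)
  (hsurj : ∀ U' : Set X, IsOpen U' → ∃ U : Set Y, IsOpen U ∧ f ⁻¹' U = U')

include hinj in
theorem nonempty_preimage_of_lc {L : Set Y} (hL : IsLocallyClosed L) (hne : L.Nonempty) :
    (f ⁻¹' L).Nonempty := by
  obtain ⟨O, C, hO, hC, rfl⟩ := hL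
  by_contra hemp
  rw [not_nonempty_iff_eq_empty] at hemp
  have h1 : f ⁻¹' (O ∩ Cᶜ) = f ⁻¹' O := by
    ext x
    simp only [mem_preimage, mem_inter_iff, mem_compl_iff]
    constructor
    · exact fun h => h.1
    · intro hx
      refine ⟨hx, fun hxC => ?_⟩
      have : x ∈ f ⁻¹' (O ∩ C) := ⟨hx, hxC⟩
      rw [hemp] at this
      exact this
  have h2 := hinj _ _ (hO.inter hC.isOpen_compl) hO h1
  obtain ⟨y, hyO, hyC⟩ := hne
  have : y ∈ O ∩ Cᶜ := by rw [h2]; exact hyO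
  exact this.2 hyC

include hsurj in
theorem exists_lc_preimage_eq {L' : Set X} (hL' : IsLocallyClosed L') :
    ∃ L : Set Y, IsLocallyClosed L ∧ f ⁻¹' L = L' := by
  obtain ⟨O', C', hO', hC', rfl⟩ := hL'
  obtain ⟨O, hO, rfl⟩ := hsurj O' hO'
  obtain ⟨P, hP, hPeq⟩ := hsurj C'ᶜ hC'.isOpen_compl
  refine ⟨O ∩ Pᶜ, hO.isLocallyClosed.inter hP.isClosed_compl.isLocallyClosed, ?_⟩
  rw [preimage_inter, preimage_compl, hPeq, compl_compl]

include hinj in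
/-- separation principle -/
theorem subset_of_preimage_subset {Z Z' : Set Y}
    (hsep : ∀ y ∈ Z, y ∉ Z' → ∃ L, IsLocallyClosed L ∧ y ∈ L ∧ L ⊆ Z ∧ Disjoint L Z')
    (h : f ⁻¹' Z ⊆ f ⁻¹' Z') : Z ⊆ Z' := by
  intro y hy
  by_contra hy'
  obtain ⟨L, hL, hyL, hLZ, hLZ'⟩ := hsep y hy hy'
  obtain ⟨x, hx⟩ := nonempty_preimage_of_lc hinj hL ⟨y, hyL⟩
  exact Set.disjoint_left.mp hLZ' hx (h (hLZ hx))

include hinj in
theorem eq_of_preimage_eq_of_lqc {Z Z' : Set Y} (hZ : LQC Z) (hZ' : LQC Z')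
    (h : f ⁻¹' Z = f ⁻¹' Z') : Z = Z' := by
  apply Subset.antisymm
  · exact subset_of_preimage_subset hinj (fun y hy hy' => hZ.exists_lc_mem_diff hZ' hy hy') h.le
  · exact subset_of_preimage_subset hinj (fun y hy hy' => hZ'.exists_lc_mem_diff hZ hy hy') h.ge

include hsurj in
theorem QC.exists_preimage_eq {Z' : Set X} (hZ' : QC Z') :
    ∃ Z : Set Y, QC Z ∧ f ⁻¹' Z = Z' := by
  obtain ⟨T', hT', hlc', rfl⟩ := hZ'
  have : ∀ t : T', ∃ L : Set Y, IsLocallyClosed L ∧ f ⁻¹' L = t.1 := fun t =>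
    exists_lc_preimage_eq hsurj (hlc' t.1 t.2)
  choose L hL hLeq using this
  haveI : Finite T' := hT'.to_subtype
  refine ⟨⋃₀ range L, ⟨range L, finite_range L, ?_, rfl⟩, ?_⟩
  · rintro _ ⟨t, rfl⟩
    exact hL t
  · ext x
    simp only [mem_preimage, mem_sUnion, mem_range, exists_exists_eq_and]
    constructor
    · rintro ⟨t, hx⟩
      have : x ∈ f ⁻¹' L t := hx
      rw [hLeq] at this
      exact ⟨t.1, t.2, this⟩
    · rintro ⟨t, ht, hx⟩
      refine ⟨⟨t, ht⟩, ?_⟩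
      have : x ∈ f ⁻¹' L ⟨t, ht⟩ := by rw [hLeq]; exact hx
      exact this

include hf in
theorem LQC.preimage {Z : Set Y} (hZ : LQC Z) : LQC (f ⁻¹' Z) := by
  intro x
  obtain ⟨V, hV, hxV, T, hT, hlc, hVZ⟩ := hZ (f x)
  have hQ : QC (V ∩ Z) := ⟨T, hT, hlc, hVZ⟩
  obtain ⟨T', hT', hlc', h'⟩ := hQ.preimage hf
  exact ⟨f ⁻¹' V, hV.preimage hf, hxV, T', hT', hlc', by rw [← h', preimage_inter]⟩

include hf hinj hsurj in
theorem LQC.exists_preimage_eq {Z' : Set X} (hZ' : LQC Z') :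
    ∃ Z : Set Y, LQC Z ∧ f ⁻¹' Z = Z' := by
  -- local data
  have hloc : ∀ x : X, ∃ V : Set Y, IsOpen V ∧ f x ∈ V ∧ ∃ W : Set Y, QC W ∧ W ⊆ V ∧
      f ⁻¹' W = f ⁻¹' V ∩ Z' := by
    intro x
    obtain ⟨U', hU', hxU', T', hT', hlc', hUZ'⟩ := hZ' x
    obtain ⟨V, hV, rfl⟩ := hsurj U' hU'
    have hQ : QC (f ⁻¹' V ∩ Z') := ⟨T', hT', hlc', hUZ'⟩
    obtain ⟨W, hW, hWeq⟩ := QC.exists_preimage_eq hsurj hQ
    refine ⟨V, hV, hxU', W ∩ V, hW.inter_isLocallyClosed hV.isLocallyClosed, inter_subset_right, ?_⟩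
    rw [preimage_inter, hWeq]
    ext y
    simp only [mem_inter_iff, mem_preimage]
    tauto
  choose V hV hxV W hW hWV hWeq using hloc
  have hcov : ⋃ x, V x = univ := by
    apply hinj _ _ (isOpen_iUnion hV) isOpen_univ
    rw [preimage_univ, preimage_iUnion]
    exact eq_univ_of_forall fun x => mem_iUnion.mpr ⟨x, hxV x⟩
  have hoverlap : ∀ x x', W x' ∩ V x = W x ∩ V x' := by
    intro x x'
    apply eq_of_preimage_eq_of_lqc hinj
      ((hW x').inter_isLocallyClosed (hV x).isLocallyClosed).lqc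
      ((hW x).inter_isLocallyClosed (hV x').isLocallyClosed).lqc
    rw [preimage_inter, preimage_inter, hWeq, hWeq]
    ext y
    simp only [mem_inter_iff, mem_preimage]
    tauto
  refine ⟨⋃ x, W x, ?_, ?_⟩
  · intro y
    have hy : y ∈ ⋃ x, V x := hcov ▸ mem_univ y
    obtain ⟨x, hyx⟩ := mem_iUnion.mp hy
    have heq : V x ∩ ⋃ x', W x' = W x := by
      apply Subset.antisymm
      · rintro z ⟨hzV, hzW⟩
        obtain ⟨x', hzx'⟩ := mem_iUnion.mp hzW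
        have : z ∈ W x' ∩ V x := ⟨hzx', hzV⟩
        rw [hoverlap] at this
        exact this.1
      · intro z hz
        exact ⟨hWV x hz, mem_iUnion.mpr ⟨x, hz⟩⟩
    obtain ⟨T, hT, hlc, hTeq⟩ := hW x
    exact ⟨V x, hV x, hyx, T, hT, hlc, by rw [heq, hTeq]⟩
  · rw [preimage_iUnion]
    ext z
    simp only [mem_iUnion]
    constructor
    · rintro ⟨x, hz⟩
      have : z ∈ f ⁻¹' V x ∩ Z' := by rw [← hWeq]; exact hz
      exact this.2
    · intro hz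
      refine ⟨z, ?_⟩
      have : z ∈ f ⁻¹' V z ∩ Z' := ⟨hxV z, hz⟩
      rw [← hWeq] at this
      exact this

end QuasiHomeo

end Groth.Agent.Lib.Helper20.QCons
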