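import Mathlib
import Groth.Agent.Lib.Helper20.QCons

/-! Quasi-homeomorphisms induce bijections on (locally) quasi-constructible sets. -/

set_option autoImplicit false

namespace Groth.Agent.Lib.Helper20.QCons2

open Set TopologicalSpace Topology
open Groth.Agent.Lib.Helper20.QCons

universe u

variable {X Y : Type u} [TopologicalSpace X] [TopologicalSpace Y]

/-- subtype form of local quasi-constructibility on a fixed open `V` vs ambient form -/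
theorem subtype_form_iff {V : Set X} (hV : IsOpen V) (Z : Set X) :
    (∃ T : Set (Set V), T.Finite ∧ (∀ t ∈ T, IsLocallyClosed t) ∧
      (Subtype.val ⁻¹' Z : Set V) = ⋃₀ T) ↔
    (∃ T : Set (Set X), T.Finite ∧ (∀ t ∈ T, IsLocallyClosed t) ∧ V ∩ Z = ⋃₀ T) := by
  constructor
  · rintro ⟨T, hT, hlc, hTeq⟩
    refine ⟨(fun t : Set V => (Subtype.val '' t : Set X)) '' T, hT.image _, ?_, ?_⟩
    · rintro _ ⟨t, ht, rfl⟩
      exact (hlc t ht).image IsInducing.subtypeVal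
        (by rw [Subtype.range_coe]; exact hV.isLocallyClosed)
    · rw [← Subtype.image_preimage_coe, hTeq]
      ext x
      simp only [mem_image, mem_sUnion, exists_exists_and_eq_and]
      constructor
      · rintro ⟨y, ⟨t, ht, hyt⟩, rfl⟩
        exact ⟨t, ht, y, hyt, rfl⟩
      · rintro ⟨t, ht, y, hyt, rfl⟩
        exact ⟨y, ⟨t, ht, hyt⟩, rfl⟩
  · rintro ⟨T, hT, hlc, hTeq⟩
    refine ⟨(fun t : Set X => (Subtype.val ⁻¹' t : Set V)) '' T, hT.image _, ?_, ?_⟩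
    · rintro _ ⟨t, ht, rfl⟩
      exact (hlc t ht).preimage continuous_subtype_val
    · have h1 : (Subtype.val ⁻¹' Z : Set V) = Subtype.val ⁻¹' (V ∩ Z) := by
        ext y
        simp only [mem_preimage, mem_inter_iff, y.2, true_and]
      rw [h1, hTeq]
      ext y
      simp only [mem_preimage, mem_sUnion, mem_image, exists_exists_and_eq_and]

theorem lqcs_iff (Z : Set X) :
    (∀ x : X, ∃ V : Set X, IsOpen V ∧ x ∈ V ∧ ∃ T : Set (Set V), T.Finite ∧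
      (∀ t ∈ T, IsLocallyClosed t) ∧ (Subtype.val ⁻¹' Z : Set V) = ⋃₀ T) ↔ LQC Z := by
  constructor
  · intro h x
    obtain ⟨V, hV, hxV, hT⟩ := h x
    exact ⟨V, hV, hxV, (subtype_form_iff hV Z).mp hT⟩
  · intro h x
    obtain ⟨V, hV, hxV, hT⟩ := h x
    exact ⟨V, hV, hxV, (subtype_form_iff hV Z).mpr hT⟩

theorem main (f : X → Y) (hf : Continuous f)
    (hq : Function.Bijective (fun U : TopologicalSpace.Opens Y =>
      (⟨f ⁻¹' (U : Set Y), U.isOpen.preimage hf⟩ : TopologicalSpace.Opens X))) :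
    Set.BijOn (fun Z : Set Y => f ⁻¹' Z)
        {Z : Set Y | ∃ T : Set (Set Y), T.Finite ∧ (∀ t ∈ T, IsLocallyClosed t) ∧ Z = ⋃₀ T}
        {Z : Set X | ∃ T : Set (Set X), T.Finite ∧ (∀ t ∈ T, IsLocallyClosed t) ∧ Z = ⋃₀ T} ∧
      Set.BijOn (fun Z : Set Y => f ⁻¹' Z)
        {Z : Set Y | ∀ y : Y, ∃ V : Set Y, IsOpen V ∧ y ∈ V ∧
          ∃ T : Set (Set V), T.Finite ∧ (∀ t ∈ T, IsLocallyClosed t) ∧ (Subtype.val ⁻¹' Z : Set V) = ⋃₀ T}
        {Z : Set X | ∀ x : X, ∃ V : Set X, IsOpen V ∧ x ∈ V ∧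
          ∃ T : Set (Set V), T.Finite ∧ (∀ t ∈ T, IsLocallyClosed t) ∧ (Subtype.val ⁻¹' Z : Set V) = ⋃₀ T} := by
  have hinj : ∀ U V : Set Y, IsOpen U → IsOpen V → f ⁻¹' U = f ⁻¹' V → U = V := by
    intro U V hU hV h
    have := @hq.1 ⟨U, hU⟩ ⟨V, hV⟩ (Opens.ext h)
    exact congrArg (fun W : Opens Y => (W : Set Y)) this
  have hsurj : ∀ U' : Set X, IsOpen U' → ∃ U : Set Y, IsOpen U ∧ f ⁻¹' U = U' := by
    intro U' hU'
    obtain ⟨U, hU⟩ := hq.2 ⟨U', hU'⟩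
    exact ⟨U, U.isOpen, congrArg (fun W : Opens X => (W : Set X)) hU⟩
  refine ⟨⟨?_, ?_, ?_⟩, ⟨?_, ?_, ?_⟩⟩
  · intro Z hZ
    exact QC.preimage (show QC Z from hZ) hf
  · intro Z hZ Z' hZ' h
    exact eq_of_preimage_eq_of_lqc hinj (show QC Z from hZ).lqc (show QC Z' from hZ').lqc h
  · intro Z' hZ'
    obtain ⟨Z, hZ, hZeq⟩ := QC.exists_preimage_eq hsurj (show QC Z' from hZ')
    exact ⟨Z, hZ, hZeq⟩
  · intro Z hZ
    exact (lqcs_iff _).mpr (LQC.preimage hf ((lqcs_iff Z).mp hZ))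
  · intro Z hZ Z' hZ' h
    exact eq_of_preimage_eq_of_lqc hinj ((lqcs_iff Z).mp hZ) ((lqcs_iff Z').mp hZ') h
  · intro Z' hZ'
    obtain ⟨Z, hZ, hZeq⟩ := LQC.exists_preimage_eq hf hinj hsurj ((lqcs_iff Z').mp hZ')
    exact ⟨Z, (lqcs_iff Z).mpr hZ, hZeq⟩

end Groth.Agent.Lib.Helper20.QCons2
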