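import Mathlib
import Groth.Agent.Lib.Helper20.QCons

/-! Very dense subsets: TFAE with quasi-constructible sets. -/

set_option autoImplicit false

namespace Groth.Agent.Lib.Helper20.QCons3

open Set TopologicalSpace Topology
open Groth.Agent.Lib.Helper20.QCons

universe u

variable {X : Type u} [TopologicalSpace X] (X₀ : Set X)

theorem h12 (h1 : ∀ Z : Set X, IsLocallyClosed Z → Z.Nonempty → (Z ∩ X₀).Nonempty) :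
    ∀ Z : Set X, LQC Z → Z.Nonempty → (Z ∩ X₀).Nonempty := by
  rintro Z hZ ⟨x, hx⟩
  obtain ⟨U, hU, hxU, T, hT, hlc, hUZ⟩ := hZ x
  have hxUZ : x ∈ U ∩ Z := ⟨hxU, hx⟩
  rw [hUZ] at hxUZ
  obtain ⟨t, ht, hxt⟩ := hxUZ
  obtain ⟨y, hyt, hy0⟩ := h1 t (hlc t ht) ⟨x, hxt⟩
  have : y ∈ U ∩ Z := by rw [hUZ]; exact ⟨t, ht, hyt⟩
  exact ⟨y, this.2, hy0⟩

theorem h21 (h2 : ∀ Z : Set X, LQC Z → Z.Nonempty → (Z ∩ X₀).Nonempty) :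
    ∀ Z : Set X, IsLocallyClosed Z → Z.Nonempty → (Z ∩ X₀).Nonempty :=
  fun Z hZ hne => h2 Z (QC.of_isLocallyClosed hZ).lqc hne

theorem h13 (h1 : ∀ Z : Set X, IsLocallyClosed Z → Z.Nonempty → (Z ∩ X₀).Nonempty) :
    ∀ Z : Set X, LQC Z → Z ⊆ closure (Z ∩ X₀) := by
  intro Z hZ x hx
  rw [mem_closure_iff]
  intro W hW hxW
  have hWZ : LQC (W ∩ Z) := hZ.inter_isOpen hW
  obtain ⟨y, ⟨hyW, hyZ⟩, hy0⟩ := h12 X₀ h1 (W ∩ Z) hWZ ⟨x, hxW, hx⟩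
  exact ⟨y, hyW, hyZ, hy0⟩

theorem h31 (h3 : ∀ Z : Set X, LQC Z → Z ⊆ closure (Z ∩ X₀)) :
    ∀ Z : Set X, IsLocallyClosed Z → Z.Nonempty → (Z ∩ X₀).Nonempty := by
  rintro Z hZ ⟨x, hx⟩
  by_contra hemp
  rw [not_nonempty_iff_eq_empty] at hemp
  have := h3 Z (QC.of_isLocallyClosed hZ).lqc hx
  rw [hemp, closure_empty] at this
  exact this

theorem h15 (h1 : ∀ Z : Set X, IsLocallyClosed Z → Z.Nonempty → (Z ∩ X₀).Nonempty) :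
    ∀ Z Z' : Set X, LQC Z → LQC Z' → Z ∩ X₀ = Z' ∩ X₀ → Z = Z' := by
  have key : ∀ Z Z' : Set X, LQC Z → LQC Z' → Z ∩ X₀ ⊆ Z' ∩ X₀ → Z ⊆ Z' := by
    intro Z Z' hZ hZ' h x hx
    by_contra hx'
    obtain ⟨L, hL, hxL, hLZ, hLZ'⟩ := hZ.exists_lc_mem_diff hZ' hx hx'
    obtain ⟨y, hyL, hy0⟩ := h1 L hL ⟨x, hxL⟩
    exact Set.disjoint_left.mp hLZ' hyL (h ⟨hLZ hyL, hy0⟩).1
  intro Z Z' hZ hZ' h
  exact Subset.antisymm (key Z Z' hZ hZ' h.le) (key Z' Z hZ' hZ h.ge)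

theorem h54 (h5 : ∀ Z Z' : Set X, LQC Z → LQC Z' → Z ∩ X₀ = Z' ∩ X₀ → Z = Z') :
    ∀ Z Z' : Set X, QC Z → QC Z' → Z ∩ X₀ = Z' ∩ X₀ → Z = Z' :=
  fun Z Z' hZ hZ' h => h5 Z Z' hZ.lqc hZ'.lqc h

theorem h41 (h4 : ∀ Z Z' : Set X, QC Z → QC Z' → Z ∩ X₀ = Z' ∩ X₀ → Z = Z') :
    ∀ Z : Set X, IsLocallyClosed Z → Z.Nonempty → (Z ∩ X₀).Nonempty := by
  intro Z hZ hne
  by_contra hemp
  rw [not_nonempty_iff_eq_empty] at hemp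
  have := h4 Z ∅ (QC.of_isLocallyClosed hZ) QC.empty (by rw [hemp, empty_inter])
  rw [this] at hne
  exact not_nonempty_empty hne

theorem hfinal (h1 : ∀ Z : Set X, IsLocallyClosed Z → Z.Nonempty → (Z ∩ X₀).Nonempty) :
    ∀ Z₀ : Set ↥X₀, LQC Z₀ → ∃ Z : Set X, LQC Z ∧ Subtype.val ⁻¹' Z = Z₀ := by
  intro Z₀ hZ₀
  have hinj : ∀ U V : Set X, IsOpen U → IsOpen V →
      (Subtype.val : X₀ → X) ⁻¹' U = Subtype.val ⁻¹' V → U = V := by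
    have key : ∀ U V : Set X, IsOpen U → IsOpen V →
        (Subtype.val : X₀ → X) ⁻¹' U ⊆ Subtype.val ⁻¹' V → U ⊆ V := by
      intro U V hU hV h x hxU
      by_contra hxV
      obtain ⟨y, ⟨hyU, hyV⟩, hy0⟩ := h1 (U ∩ Vᶜ)
        (hU.isLocallyClosed.inter hV.isClosed_compl.isLocallyClosed) ⟨x, hxU, hxV⟩
      exact hyV (h (show (⟨y, hy0⟩ : X₀) ∈ Subtype.val ⁻¹' U from hyU))
    intro U V hU hV h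
    exact Subset.antisymm (key U V hU hV h.le) (key V U hV hU h.ge)
  have hsurj : ∀ U' : Set X₀, IsOpen U' → ∃ U : Set X, IsOpen U ∧ Subtype.val ⁻¹' U = U' :=
    fun U' hU' => isOpen_induced_iff.mp hU'
  exact LQC.exists_preimage_eq continuous_subtype_val hinj hsurj hZ₀

theorem main :
    [∀ Z : Set X, IsLocallyClosed Z → Z.Nonempty → (Z ∩ X₀).Nonempty,
      ∀ Z : Set X, (∀ x : X, ∃ U : Set X, IsOpen U ∧ x ∈ U ∧ ∃ T : Set (Set X), T.Finite ∧ (∀ t ∈ T, IsLocallyClosed t) ∧ U ∩ Z = ⋃₀ T) → Z.Nonempty → (Z ∩ X₀).Nonempty,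
      ∀ Z : Set X, (∀ x : X, ∃ U : Set X, IsOpen U ∧ x ∈ U ∧ ∃ T : Set (Set X), T.Finite ∧ (∀ t ∈ T, IsLocallyClosed t) ∧ U ∩ Z = ⋃₀ T) → Z ⊆ closure (Z ∩ X₀),
      ∀ Z Z' : Set X, (∃ T : Set (Set X), T.Finite ∧ (∀ t ∈ T, IsLocallyClosed t) ∧ Z = ⋃₀ T) → (∃ T : Set (Set X), T.Finite ∧ (∀ t ∈ T, IsLocallyClosed t) ∧ Z' = ⋃₀ T) → Z ∩ X₀ = Z' ∩ X₀ → Z = Z',
      ∀ Z Z' : Set X, (∀ x : X, ∃ U : Set X, IsOpen U ∧ x ∈ U ∧ ∃ T : Set (Set X), T.Finite ∧ (∀ t ∈ T, IsLocallyClosed t) ∧ U ∩ Z = ⋃₀ T) → (∀ x : X, ∃ U : Set X, IsOpen U ∧ x ∈ U ∧ ∃ T : Set (Set X), T.Finite ∧ (∀ t ∈ T, IsLocallyClosed t) ∧ U ∩ Z' = ⋃₀ T) → Z ∩ X₀ = Z' ∩ X₀ → Z = Z'].TFAE ∧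
    ((∀ Z : Set X, IsLocallyClosed Z → Z.Nonempty → (Z ∩ X₀).Nonempty) →
      ∀ Z₀ : Set ↥X₀, (∀ x : ↥X₀, ∃ U : Set ↥X₀, IsOpen U ∧ x ∈ U ∧ ∃ T : Set (Set ↥X₀), T.Finite ∧ (∀ t ∈ T, IsLocallyClosed t) ∧ U ∩ Z₀ = ⋃₀ T) →
        ∃ Z : Set X, (∀ x : X, ∃ U : Set X, IsOpen U ∧ x ∈ U ∧ ∃ T : Set (Set X), T.Finite ∧ (∀ t ∈ T, IsLocallyClosed t) ∧ U ∩ Z = ⋃₀ T) ∧ Subtype.val ⁻¹' Z = Z₀) := by
  refine ⟨?_, fun h1 Z₀ hZ₀ => hfinal X₀ h1 Z₀ hZ₀⟩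
  tfae_have 1 → 2 := fun h => h12 X₀ h
  tfae_have 2 → 1 := fun h => h21 X₀ h
  tfae_have 1 → 3 := fun h => h13 X₀ h
  tfae_have 3 → 1 := fun h => h31 X₀ h
  tfae_have 1 → 5 := fun h => h15 X₀ h
  tfae_have 5 → 4 := fun h => h54 X₀ h
  tfae_have 4 → 1 := fun h => h41 X₀ h
  tfae_finish

end Groth.Agent.Lib.Helper20.QCons3
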