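import Mathlib
import Groth.Agent.Lib.Helper20.QCons
import Groth.Agent.Lib.Helper20.QCons2
import Groth.Agent.Lib.Helper20.Constr

/-! Quasi-homeomorphisms and (locally) constructible sets. -/

set_option autoImplicit false

namespace Groth.Agent.Lib.Helper20.QCons4

open Set TopologicalSpace Topology
open Groth.Agent.Lib.Helper20.QCons Groth.Agent.Lib.Helper20.QCons2
open Groth.Agent.Lib.Helper20.Constr

universe u

variable {X Y : Type u} [TopologicalSpace X] [TopologicalSpace Y]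

theorem QC.union {Z Z' : Set X} (hZ : QC Z) (hZ' : QC Z') : QC (Z ∪ Z') := by
  obtain ⟨T, hT, hlc, rfl⟩ := hZ
  obtain ⟨T', hT', hlc', rfl⟩ := hZ'
  refine ⟨T ∪ T', hT.union hT', ?_, (sUnion_union T T').symm⟩
  rintro t (ht | ht)
  · exact hlc t ht
  · exact hlc' t ht

theorem QC.of_nf {Z : Set X} (hZ : NF Z) : QC Z := by
  induction hZ with
  | basic U V hUo _ hVo _ =>
    exact QC.of_isLocallyClosed (hUo.isLocallyClosed.inter hVo.isClosed_compl.isLocallyClosed)
  | union s t _ _ hs ht => exact QC.union hs ht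

theorem QC.of_isConstructible {Z : Set X} (hZ : IsConstructible Z) : QC Z :=
  QC.of_nf (NF.of_isConstructible hZ)

/-- a locally constructible set is locally quasi-constructible -/
theorem LQC.of_isLocallyConstructible {Z : Set X} (hZ : IsLocallyConstructible Z) : LQC Z := by
  intro x
  obtain ⟨V, hVx, hV, hc⟩ := hZ x
  obtain ⟨T, hT, hlc, hTeq⟩ := QC.of_isConstructible hc
  exact ⟨V, hV, mem_of_mem_nhds hVx, (subtype_form_iff hV Z).mp ⟨T, hT, hlc, hTeq⟩⟩

section QuasiHomeo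

variable {f : X → Y} (hf : Continuous f)
  (hinj : ∀ U V : Set Y, IsOpen U → IsOpen V → f ⁻¹' U = f ⁻¹' V → U = V)
  (hsurj : ∀ U' : Set X, IsOpen U' → ∃ U : Set Y, IsOpen U ∧ f ⁻¹' U = U')

include hinj in
theorem subset_of_preimage_subset_of_isOpen {U V : Set Y} (hU : IsOpen U) (hV : IsOpen V)
    (h : f ⁻¹' U ⊆ f ⁻¹' V) : U ⊆ V := by
  have h1 : f ⁻¹' (U ∪ V) = f ⁻¹' V := by
    rw [preimage_union]
    exact union_eq_self_of_subset_left h
  have := hinj _ _ (hU.union hV) hV h1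
  rw [← this]
  exact subset_union_left

include hf hinj hsurj in
theorem isCompact_preimage_iff {U : Set Y} (hU : IsOpen U) :
    IsCompact U ↔ IsCompact (f ⁻¹' U) := by
  constructor
  · intro hc
    rw [isCompact_iff_finite_subcover]
    intro ι V hV hcov
    have hW : ∀ i, ∃ W : Set Y, IsOpen W ∧ f ⁻¹' W = V i := fun i => hsurj _ (hV i)
    choose W hWo hWV using hW
    have hsub : U ⊆ ⋃ i, W i := by
      refine subset_of_preimage_subset_of_isOpen hinj hU (isOpen_iUnion hWo) ?_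
      rw [preimage_iUnion]
      simpa only [hWV] using hcov
    obtain ⟨t, ht⟩ := hc.elim_finite_subcover W hWo hsub
    refine ⟨t, ?_⟩
    intro x hx
    have := ht hx
    obtain ⟨i, hi, hxi⟩ := mem_iUnion₂.mp this
    refine mem_iUnion₂.mpr ⟨i, hi, ?_⟩
    rw [← hWV i]
    exact hxi
  · intro hc
    rw [isCompact_iff_finite_subcover]
    intro ι W hW hcov
    have hcov' : f ⁻¹' U ⊆ ⋃ i, f ⁻¹' (W i) := by
      rw [← preimage_iUnion]
      exact preimage_mono hcov
    obtain ⟨t, ht⟩ := hc.elim_finite_subcover _ (fun i => (hW i).preimage hf) hcov'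
    refine ⟨t, ?_⟩
    refine subset_of_preimage_subset_of_isOpen hinj hU (isOpen_biUnion fun i _ => hW i) ?_
    intro x hx
    obtain ⟨i, hi, hxi⟩ := mem_iUnion₂.mp (ht hx)
    exact mem_iUnion₂.mpr ⟨i, hi, hxi⟩

include hf hinj hsurj in
theorem isRetrocompact_preimage_iff {U : Set Y} (hU : IsOpen U) :
    IsRetrocompact U ↔ IsRetrocompact (f ⁻¹' U) := by
  constructor
  · intro hr V₀ hV₀c hV₀o
    obtain ⟨V, hVo, rfl⟩ := hsurj _ hV₀o
    have hVc : IsCompact V := (isCompact_preimage_iff hf hinj hsurj hVo).mpr hV₀c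
    have := hr hVc hVo
    rw [← preimage_inter]
    exact (isCompact_preimage_iff hf hinj hsurj (hU.inter hVo)).mp this
  · intro hr V hVc hVo
    have h1 : IsCompact (f ⁻¹' V) := (isCompact_preimage_iff hf hinj hsurj hVo).mp hVc
    have := hr h1 (hVo.preimage hf)
    rw [← preimage_inter] at this
    exact (isCompact_preimage_iff hf hinj hsurj (hU.inter hVo)).mpr this

include hf hinj hsurj in
theorem isConstructible_preimage {E : Set Y} (hE : IsConstructible E) :
    IsConstructible (f ⁻¹' E) :=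
  hE.preimage hf fun _ hs hr => (isRetrocompact_preimage_iff hf hinj hsurj hs).mp hr

include hf hinj hsurj in
theorem exists_isConstructible_preimage_eq {F : Set X} (hF : IsConstructible F) :
    ∃ E : Set Y, IsConstructible E ∧ f ⁻¹' E = F := by
  induction hF using IsConstructible.empty_union_induction with
  | open_retrocompact U hUo hUr =>
    obtain ⟨W, hWo, rfl⟩ := hsurj _ hUo
    exact ⟨W, ((isRetrocompact_preimage_iff hf hinj hsurj hWo).mpr hUr).isConstructible hWo, rfl⟩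
  | union s hs t ht ihs iht =>
    obtain ⟨E₁, h1, rfl⟩ := ihs
    obtain ⟨E₂, h2, rfl⟩ := iht
    exact ⟨E₁ ∪ E₂, h1.union h2, rfl⟩
  | compl s hs ih =>
    obtain ⟨E, h, rfl⟩ := ih
    exact ⟨Eᶜ, h.compl, rfl⟩

include hinj in
/-- gluing lemma -/
theorem glue {ι : Type*} (V W : ι → Set Y) (hV : ∀ i, IsOpen (V i)) (hW : ∀ i, QC (W i))
    (hWV : ∀ i, W i ⊆ V i) (Z' : Set X) (hWeq : ∀ i, f ⁻¹' W i = f ⁻¹' V i ∩ Z')
    (hcov' : ∀ x, ∃ i, f x ∈ V i) :
    (⋃ i, V i = univ) ∧ (∀ i, V i ∩ ⋃ j, W j = W i) ∧ f ⁻¹' (⋃ i, W i) = Z' := by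
  have hcov : ⋃ i, V i = univ := by
    apply hinj _ _ (isOpen_iUnion hV) isOpen_univ
    rw [preimage_univ, preimage_iUnion]
    exact eq_univ_of_forall fun x => mem_iUnion.mpr (hcov' x)
  have hoverlap : ∀ i j, W j ∩ V i = W i ∩ V j := by
    intro i j
    apply eq_of_preimage_eq_of_lqc hinj
      ((hW j).inter_isLocallyClosed (hV i).isLocallyClosed).lqc
      ((hW i).inter_isLocallyClosed (hV j).isLocallyClosed).lqc
    rw [preimage_inter, preimage_inter, hWeq, hWeq]
    ext y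
    simp only [mem_inter_iff, mem_preimage]
    tauto
  refine ⟨hcov, ?_, ?_⟩
  · intro i
    apply Subset.antisymm
    · rintro z ⟨hzV, hzW⟩
      obtain ⟨j, hzj⟩ := mem_iUnion.mp hzW
      have : z ∈ W j ∩ V i := ⟨hzj, hzV⟩
      rw [hoverlap] at this
      exact this.1
    · intro z hz
      exact ⟨hWV i hz, mem_iUnion.mpr ⟨i, hz⟩⟩
  · rw [preimage_iUnion]
    ext z
    simp only [mem_iUnion]
    constructor
    · rintro ⟨i, hz⟩
      have : z ∈ f ⁻¹' V i ∩ Z' := by rw [← hWeq]; exact hz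
      exact this.2
    · intro hz
      obtain ⟨i, hi⟩ := hcov' z
      refine ⟨i, ?_⟩
      have : z ∈ f ⁻¹' V i ∩ Z' := ⟨hi, hz⟩
      rw [← hWeq] at this
      exact this

include hinj in
/-- restriction of a quasi-homeomorphism over an open set: injectivity on opens -/
theorem restrict_hinj (V : Set Y) (hV : IsOpen V) :
    ∀ O₁ O₂ : Set V, IsOpen O₁ → IsOpen O₂ →
      (V.restrictPreimage f) ⁻¹' O₁ = (V.restrictPreimage f) ⁻¹' O₂ → O₁ = O₂ := by
  intro O₁ O₂ hO₁ hO₂ h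
  have himg : ∀ O : Set V, f ⁻¹' (Subtype.val '' O) =
      Subtype.val '' ((V.restrictPreimage f) ⁻¹' O) := by
    intro O
    ext x
    constructor
    · rintro ⟨⟨y, hy⟩, hyO, hyx⟩
      have hxV : x ∈ f ⁻¹' V := by
        show f x ∈ V
        rw [← hyx]; exact hy
      refine ⟨⟨x, hxV⟩, ?_, rfl⟩
      show V.restrictPreimage f ⟨x, hxV⟩ ∈ O
      have : V.restrictPreimage f ⟨x, hxV⟩ = ⟨y, hy⟩ := Subtype.ext hyx.symm
      rw [this]; exact hyO
    · rintro ⟨⟨x', hx'⟩, hx'O, rfl⟩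
      exact ⟨V.restrictPreimage f ⟨x', hx'⟩, hx'O, rfl⟩
  have h1 : (Subtype.val '' O₁ : Set Y) = Subtype.val '' O₂ := by
    apply hinj _ _ (hV.isOpenMap_subtype_val _ hO₁) (hV.isOpenMap_subtype_val _ hO₂)
    rw [himg, himg, h]
  exact (image_eq_image Subtype.val_injective).mp h1

include hf hsurj in
theorem restrict_hsurj (V : Set Y) (hV : IsOpen V) :
    ∀ O' : Set (f ⁻¹' V), IsOpen O' → ∃ O : Set V, IsOpen O ∧
      (V.restrictPreimage f) ⁻¹' O = O' := by
  intro O' hO'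
  have hopen : IsOpen (Subtype.val '' O' : Set X) :=
    (hV.preimage hf).isOpenMap_subtype_val _ hO'
  obtain ⟨W, hW, hWeq⟩ := hsurj _ hopen
  refine ⟨Subtype.val ⁻¹' W, hW.preimage continuous_subtype_val, ?_⟩
  ext ⟨x, hx⟩
  constructor
  · intro h
    have : x ∈ f ⁻¹' W := h
    rw [hWeq] at this
    obtain ⟨⟨x', hx'⟩, hx'O, hxx⟩ := this
    have : (⟨x', hx'⟩ : f ⁻¹' V) = ⟨x, hx⟩ := Subtype.ext hxx
    rw [← this]; exact hx'O
  · intro h
    have : x ∈ f ⁻¹' W := by rw [hWeq]; exact ⟨⟨x, hx⟩, h, rfl⟩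
    exact this

end QuasiHomeo

end Groth.Agent.Lib.Helper20.QCons4
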