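import Mathlib
import Groth.Agent.Lib.Helper20.QCons4

/-! Quasi-homeomorphisms: bijections on locally closed, constructible, locally constructible. -/

set_option autoImplicit false

namespace Groth.Agent.Lib.Helper20.QCons5

open Set TopologicalSpace Topology
open Groth.Agent.Lib.Helper20.QCons Groth.Agent.Lib.Helper20.QCons2
open Groth.Agent.Lib.Helper20.QCons4

universe u

variable {X Y : Type u} [TopologicalSpace X] [TopologicalSpace Y]

theorem main (f : X → Y) (hf : Continuous f)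
    (hq : Function.Bijective (fun U : TopologicalSpace.Opens Y =>
      (⟨f ⁻¹' (U : Set Y), U.isOpen.preimage hf⟩ : TopologicalSpace.Opens X))) :
    Function.Bijective (fun Z : {Z : Set Y // IsLocallyClosed Z} =>
        (⟨f ⁻¹' Z.1, Z.2.preimage hf⟩ : {Z : Set X // IsLocallyClosed Z})) ∧
      Set.BijOn (fun Z : Set Y => f ⁻¹' Z) {Z | Topology.IsConstructible Z}
        {Z | Topology.IsConstructible Z} ∧
      Set.BijOn (fun Z : Set Y => f ⁻¹' Z) {Z | Topology.IsLocallyConstructible Z}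
        {Z | Topology.IsLocallyConstructible Z} := by
  have hinj : ∀ U V : Set Y, IsOpen U → IsOpen V → f ⁻¹' U = f ⁻¹' V → U = V := by
    intro U V hU hV h
    have := @hq.1 ⟨U, hU⟩ ⟨V, hV⟩ (Opens.ext h)
    exact congrArg (fun W : Opens Y => (W : Set Y)) this
  have hsurj : ∀ U' : Set X, IsOpen U' → ∃ U : Set Y, IsOpen U ∧ f ⁻¹' U = U' := by
    intro U' hU'
    obtain ⟨U, hU⟩ := hq.2 ⟨U', hU'⟩
    exact ⟨U, U.isOpen, congrArg (fun W : Opens X => (W : Set X)) hU⟩
  refine ⟨⟨?_, ?_⟩, ⟨?_, ?_, ?_⟩, ⟨?_, ?_, ?_⟩⟩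
  · rintro ⟨Z, hZ⟩ ⟨Z', hZ'⟩ h
    have h' : f ⁻¹' Z = f ⁻¹' Z' := congrArg Subtype.val h
    exact Subtype.ext (eq_of_preimage_eq_of_lqc hinj (QC.of_isLocallyClosed hZ).lqc
      (QC.of_isLocallyClosed hZ').lqc h')
  · rintro ⟨Z', hZ'⟩
    obtain ⟨Z, hZ, hZeq⟩ := exists_lc_preimage_eq hsurj hZ'
    exact ⟨⟨Z, hZ⟩, Subtype.ext hZeq⟩
  · intro Z hZ
    exact isConstructible_preimage hf hinj hsurj hZ
  · intro Z hZ Z' hZ' h
    exact eq_of_preimage_eq_of_lqc hinj (QC.of_isConstructible hZ).lqc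
      (QC.of_isConstructible hZ').lqc h
  · intro Z' hZ'
    obtain ⟨Z, hZ, hZeq⟩ := exists_isConstructible_preimage_eq hf hinj hsurj hZ'
    exact ⟨Z, hZ, hZeq⟩
  · intro Z hZ x
    obtain ⟨V, hVx, hV, hc⟩ := hZ (f x)
    refine ⟨f ⁻¹' V, hf.continuousAt.preimage_mem_nhds hVx, hV.preimage hf, ?_⟩
    have := isConstructible_preimage (f := V.restrictPreimage f) hf.restrictPreimage
      (restrict_hinj hinj V hV) (restrict_hsurj hf hsurj V hV) hc
    exact this
  · intro Z hZ Z' hZ' h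
    exact eq_of_preimage_eq_of_lqc hinj (LQC.of_isLocallyConstructible hZ)
      (LQC.of_isLocallyConstructible hZ') h
  · intro Z' hZ'
    have hloc : ∀ x : X, ∃ V : Set Y, IsOpen V ∧ f x ∈ V ∧ ∃ W : Set Y, QC W ∧ W ⊆ V ∧
        f ⁻¹' W = f ⁻¹' V ∩ Z' ∧ IsConstructible (Subtype.val ⁻¹' W : Set V) := by
      intro x
      obtain ⟨U', hU'x, hU', hc⟩ := hZ' x
      obtain ⟨V, hV, rfl⟩ := hsurj U' hU'
      obtain ⟨C, hC, hCeq⟩ := exists_isConstructible_preimage_eq (f := V.restrictPreimage f)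
        hf.restrictPreimage (restrict_hinj hinj V hV) (restrict_hsurj hf hsurj V hV) hc
      have hpi : (Subtype.val ⁻¹' (Subtype.val '' C) : Set V) = C :=
        preimage_image_eq C Subtype.val_injective
      have hWV : (Subtype.val '' C : Set Y) ⊆ V := by
        rintro _ ⟨c, _, rfl⟩
        exact c.2
      refine ⟨V, hV, (mem_of_mem_nhds hU'x : x ∈ f ⁻¹' V), Subtype.val '' C, ?_, hWV, ?_, ?_⟩
      · obtain ⟨T, hT, hlc, hTeq⟩ := QC.of_isConstructible hC
        obtain ⟨T', hT', hlc', hTeq'⟩ := (subtype_form_iff hV (Subtype.val '' C)).mp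
          ⟨T, hT, hlc, by rw [hpi]; exact hTeq⟩
        refine ⟨T', hT', hlc', ?_⟩
        rw [← hTeq']
        exact (inter_eq_self_of_subset_right hWV).symm
      · ext z
        constructor
        · rintro ⟨c, hcC, hcz⟩
          have hzV : z ∈ f ⁻¹' V := by
            show f z ∈ V
            rw [← hcz]; exact c.2
          refine ⟨hzV, ?_⟩
          have h1 : (⟨z, hzV⟩ : f ⁻¹' V) ∈ (V.restrictPreimage f) ⁻¹' C := by
            show V.restrictPreimage f ⟨z, hzV⟩ ∈ C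
            have : V.restrictPreimage f ⟨z, hzV⟩ = c := Subtype.ext hcz.symm
            rw [this]; exact hcC
          rw [hCeq] at h1
          exact h1
        · rintro ⟨hzV, hzZ⟩
          have h1 : (⟨z, hzV⟩ : f ⁻¹' V) ∈ (V.restrictPreimage f) ⁻¹' C := by
            rw [hCeq]; exact hzZ
          exact ⟨V.restrictPreimage f ⟨z, hzV⟩, h1, rfl⟩
      · rw [hpi]; exact hC
    choose V hV hxV W hW hWV hWeq hWc using hloc
    obtain ⟨hcov, hglue, hpre⟩ := glue hinj V W hV hW hWV Z' hWeq (fun x => ⟨x, hxV x⟩)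
    refine ⟨⋃ x, W x, ?_, hpre⟩
    intro y
    have hy : y ∈ ⋃ x, V x := hcov ▸ mem_univ y
    obtain ⟨x, hyx⟩ := mem_iUnion.mp hy
    refine ⟨V x, (hV x).mem_nhds hyx, hV x, ?_⟩
    have heq : (Subtype.val ⁻¹' (⋃ j, W j) : Set (V x)) = Subtype.val ⁻¹' W x := by
      ext z
      constructor
      · intro h
        have : z.1 ∈ V x ∩ ⋃ j, W j := ⟨z.2, h⟩
        rw [hglue] at this
        exact this
      · intro h
        exact mem_iUnion.mpr ⟨x, h⟩
    show IsConstructible (Subtype.val ⁻¹' (⋃ j, W j) : Set (V x))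
    rw [heq]
    exact hWc x

end Groth.Agent.Lib.Helper20.QCons5
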