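import Mathlib

namespace Groth.Agent.Lib.Helper20.Quad2

open Polynomial IntermediateField

variable {F K : Type*} [Field F] [Field K] [Algebra F K]

theorem finite_of_finrank_two (hdeg : Module.finrank F K = 2) : FiniteDimensional F K :=
  Module.finite_of_finrank_pos (by omega)

theorem exists_not_mem (hdeg : Module.finrank F K = 2) :
    ∃ y0 : K, y0 ∉ (algebraMap F K).range := by
  haveI := finite_of_finrank_two hdeg
  by_contra hcon
  push_neg at hcon
  have : (⊥ : Subalgebra F K) = ⊤ := by
    rw [eq_top_iff]
    intro x _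
    rw [Algebra.mem_bot]
    exact hcon x
  rw [Subalgebra.bot_eq_top_iff_finrank_eq_one] at this
  omega

theorem natDegree_two (hdeg : Module.finrank F K = 2) (y : K)
    (hy : y ∉ (algebraMap F K).range) : (minpoly F y).natDegree = 2 := by
  haveI := finite_of_finrank_two hdeg
  have h1 : (minpoly F y).natDegree ≤ 2 := hdeg ▸ minpoly.natDegree_le y
  have h2 : 0 < (minpoly F y).natDegree := minpoly.natDegree_pos (IsIntegral.of_finite F y)
  have h3 : (minpoly F y).natDegree ≠ 1 := fun h => hy (minpoly.natDegree_eq_one_iff.1 h)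
  omega

theorem adjoin_top (hdeg : Module.finrank F K = 2) (y : K)
    (hy : y ∉ (algebraMap F K).range) : F⟮y⟯ = ⊤ := by
  haveI := finite_of_finrank_two hdeg
  rw [Field.primitive_element_iff_minpoly_natDegree_eq, natDegree_two hdeg y hy, hdeg]

theorem quad_eq (hdeg : Module.finrank F K = 2) (y : K)
    (hy : y ∉ (algebraMap F K).range) :
    ∃ b c : F, y ^ 2 + algebraMap F K b * y + algebraMap F K c = 0 ∧
      minpoly F y = X ^ 2 + C b * X + C c := by
  haveI := finite_of_finrank_two hdeg
  have hnat := natDegree_two hdeg y hy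
  have hmonic : (minpoly F y).Monic := minpoly.monic (IsIntegral.of_finite F y)
  have hform : minpoly F y = X ^ 2 + C ((minpoly F y).coeff 1) * X + C ((minpoly F y).coeff 0) := by
    conv_lhs => rw [(minpoly F y).as_sum_range, hnat]
    rw [Finset.sum_range_succ, Finset.sum_range_succ, Finset.sum_range_one]
    have h2 : (minpoly F y).coeff 2 = 1 := by
      have := hmonic.coeff_natDegree
      rwa [hnat] at this
    rw [h2]
    simp only [← C_mul_X_pow_eq_monomial, pow_zero, mul_one, pow_one, C_1, one_mul]
    ring
  refine ⟨(minpoly F y).coeff 1, (minpoly F y).coeff 0, ?_, hform⟩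
  have h0 := minpoly.aeval F y
  rw [hform] at h0
  simpa using h0

theorem artin_schreier [CharP F 2] [Algebra.IsSeparable F K]
    (hdeg : Module.finrank F K = 2) :
    ∃ (y : K) (f : F), y ^ 2 + y = algebraMap F K f ∧ F⟮y⟯ = ⊤ := by
  haveI := finite_of_finrank_two hdeg
  haveI : CharP K 2 := charP_of_injective_algebraMap (algebraMap F K).injective 2
  obtain ⟨y0, hy0⟩ := exists_not_mem hdeg
  obtain ⟨b, c, heq, hmin⟩ := quad_eq hdeg y0 hy0
  have hb : b ≠ 0 := by
    intro hb0
    have hsep : (minpoly F y0).Separable := Algebra.IsSeparable.isSeparable F y0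
    rw [hmin, hb0] at hsep
    have hder : derivative (X ^ 2 + C (0 : F) * X + C c) = 0 := by
      rw [derivative_add, derivative_add, derivative_C, derivative_X_pow, C_0, zero_mul,
        derivative_zero]
      have : ((2 : ℕ) : F) = 0 := CharP.cast_eq_zero F 2
      rw [this, C_0, zero_mul]
      simp
    unfold Polynomial.Separable at hsep
    rw [hder] at hsep
    have hunit : IsUnit (X ^ 2 + C (0 : F) * X + C c) := isCoprime_zero_right.1 hsep
    have hdeg0 := natDegree_eq_zero_of_isUnit hunit
    have : (X ^ 2 + C (0 : F) * X + C c).natDegree = 2 := by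
      rw [← hb0, ← hmin]
      exact natDegree_two hdeg y0 hy0
    omega
  have hbK : algebraMap F K b ≠ 0 := by
    rw [Ne, map_eq_zero]
    exact hb
  refine ⟨y0 / algebraMap F K b, c / b ^ 2, ?_, ?_⟩
  · have h1 : y0 ^ 2 + algebraMap F K b * y0 = algebraMap F K c := by
      have hneg : -(algebraMap F K c) = algebraMap F K c := by
        rw [neg_eq_iff_add_eq_zero, ← two_mul]
        have : (2 : K) = 0 := by
          have := CharP.cast_eq_zero K 2
          exact_mod_cast this
        rw [this, zero_mul]
      rw [← hneg]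
      linear_combination heq
    rw [map_div₀, map_pow]
    field_simp
    linear_combination h1
  · refine adjoin_top hdeg _ ?_
    rintro ⟨t, ht⟩
    apply hy0
    refine ⟨t * b, ?_⟩
    rw [map_mul, ht]
    field_simp

end Groth.Agent.Lib.Helper20.Quad2
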