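import Mathlib
import Groth.Agent.Lib.Helper20.Quad2

namespace Groth.Agent.Lib.Helper20.Quad3

open Polynomial IntermediateField Groth.Agent.Lib.Helper20.Quad2

theorem exists_sq_mul_squarefree {k : Type*} [Field k] :
    ∀ (n : ℕ) (h : k[X]), h ≠ 0 → h.natDegree ≤ n → ∃ u f : k[X], Squarefree f ∧ h = u ^ 2 * f := by
  intro n
  induction n with
  | zero =>
    intro h hh hn
    refine ⟨1, h, ?_, by ring⟩
    have hunit : IsUnit h := by
      rw [Polynomial.isUnit_iff]
      have := Polynomial.eq_C_of_natDegree_eq_zero (Nat.le_zero.1 hn)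
      refine ⟨h.coeff 0, ?_, this.symm⟩
      rw [isUnit_iff_ne_zero]
      intro h0
      rw [h0, C_0] at this
      exact hh this
    exact hunit.squarefree
  | succ n ih =>
    intro h hh hn
    by_cases hsq : Squarefree h
    · exact ⟨1, h, hsq, by ring⟩
    · unfold Squarefree at hsq
      push_neg at hsq
      obtain ⟨d, ⟨h', hh'⟩, hd⟩ := hsq
      have hd0 : d ≠ 0 := by
        rintro rfl
        rw [zero_mul, zero_mul] at hh'
        exact hh hh'
      have hh'0 : h' ≠ 0 := by
        rintro rfl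
        rw [mul_zero] at hh'
        exact hh hh'
      have hdpos : 0 < d.natDegree := by
        rw [Nat.pos_iff_ne_zero]
        intro h0
        apply hd
        rw [Polynomial.isUnit_iff]
        have := Polynomial.eq_C_of_natDegree_eq_zero h0
        refine ⟨d.coeff 0, ?_, this.symm⟩
        rw [isUnit_iff_ne_zero]
        intro hc
        rw [hc, C_0] at this
        exact hd0 this
      have hdeg : h.natDegree = d.natDegree + d.natDegree + h'.natDegree := by
        rw [hh', natDegree_mul (mul_ne_zero hd0 hd0) hh'0, natDegree_mul hd0 hd0]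
      obtain ⟨u, f, hf, hu⟩ := ih h' hh'0 (by omega)
      refine ⟨d * u, f, hf, ?_⟩
      rw [hh', hu]
      ring

variable {k K : Type*} [Field k] [Field K] [Algebra (RatFunc k) K]

theorem result' (h2 : ringChar k ≠ 2)
    (hdeg : Module.finrank (RatFunc k) K = 2) :
    ∃ (y : K) (f : Polynomial k), Squarefree f ∧
      y ^ 2 = algebraMap (RatFunc k) K (algebraMap (Polynomial k) (RatFunc k) f) ∧
      IntermediateField.adjoin (RatFunc k) ({y} : Set K) = ⊤ := by
  have h2k : (2 : k) ≠ 0 := Ring.two_ne_zero h2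
  have h2F : (2 : RatFunc k) ≠ 0 := by
    rw [← map_ofNat (algebraMap k (RatFunc k)) 2, Ne, map_eq_zero]
    exact h2k
  have h2K : (2 : K) ≠ 0 := by
    rw [← map_ofNat (algebraMap (RatFunc k) K) 2, Ne, map_eq_zero]
    exact h2F
  have h4K : (4 : K) ≠ 0 := by
    have : (4 : K) = 2 * 2 := by norm_num
    rw [this]
    exact mul_ne_zero h2K h2K
  obtain ⟨y0, hy0⟩ := exists_not_mem hdeg
  obtain ⟨b, c, heq, -⟩ := quad_eq hdeg y0 hy0
  -- complete the square
  obtain ⟨g, hg⟩ : ∃ g : RatFunc k, g = b ^ 2 / 4 - c := ⟨_, rfl⟩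
  have hy1 : (y0 + algebraMap (RatFunc k) K b / 2) ^ 2 = algebraMap (RatFunc k) K g := by
    rw [hg, map_sub, map_div₀, map_pow, map_ofNat]
    have e1 : (y0 + algebraMap (RatFunc k) K b / 2) ^ 2 =
        (y0 ^ 2 + algebraMap (RatFunc k) K b * y0) + algebraMap (RatFunc k) K b ^ 2 / 4 := by
      field_simp
      ring
    have e2 : y0 ^ 2 + algebraMap (RatFunc k) K b * y0 = -algebraMap (RatFunc k) K c := by
      linear_combination heq
    rw [e1, e2]
    ring
  have hy1not : y0 + algebraMap (RatFunc k) K b / 2 ∉ (algebraMap (RatFunc k) K).range := by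
    rintro ⟨t, ht⟩
    apply hy0
    refine ⟨t - b / 2, ?_⟩
    rw [map_sub, ht, map_div₀, map_ofNat]
    ring
  have hg0 : g ≠ 0 := by
    intro h0
    rw [h0, map_zero] at hy1
    have := pow_eq_zero_iff (two_ne_zero) |>.1 hy1
    apply hy1not
    exact ⟨0, by rw [map_zero, this]⟩
  -- clear denominators
  obtain ⟨P, Q, hQ0, hgdiv⟩ : ∃ P Q : k[X], Q ≠ 0 ∧
      g = algebraMap k[X] (RatFunc k) P / algebraMap k[X] (RatFunc k) Q :=
    ⟨g.num, g.denom, RatFunc.denom_ne_zero g, (RatFunc.num_div_denom g).symm⟩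
  have hP0 : P ≠ 0 := by
    intro h0
    apply hg0
    rw [hgdiv, h0, map_zero, zero_div]
  have hQF : algebraMap k[X] (RatFunc k) Q ≠ 0 := by
    rw [Ne, map_eq_zero_iff _ (IsFractionRing.injective k[X] (RatFunc k))]
    exact hQ0
  have hgPQ : g * algebraMap k[X] (RatFunc k) Q ^ 2 = algebraMap k[X] (RatFunc k) (P * Q) := by
    rw [hgdiv, map_mul]
    field_simp
  obtain ⟨u, f, hf, hu⟩ := exists_sq_mul_squarefree (P * Q).natDegree (P * Q) (mul_ne_zero hP0 hQ0)
    le_rfl
  have hu0 : u ≠ 0 := by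
    rintro rfl
    rw [zero_pow two_ne_zero, zero_mul] at hu
    exact mul_ne_zero hP0 hQ0 hu
  have huF : algebraMap k[X] (RatFunc k) u ≠ 0 := by
    rw [Ne, map_eq_zero_iff _ (IsFractionRing.injective k[X] (RatFunc k))]
    exact hu0
  have huK : algebraMap (RatFunc k) K (algebraMap k[X] (RatFunc k) u) ≠ 0 := by
    rw [Ne, map_eq_zero]
    exact huF
  have hQK : algebraMap (RatFunc k) K (algebraMap k[X] (RatFunc k) Q) ≠ 0 := by
    rw [Ne, map_eq_zero]
    exact hQF
  refine ⟨(y0 + algebraMap (RatFunc k) K b / 2) *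
    algebraMap (RatFunc k) K (algebraMap k[X] (RatFunc k) Q) /
    algebraMap (RatFunc k) K (algebraMap k[X] (RatFunc k) u), f, hf, ?_, ?_⟩
  · rw [div_pow, mul_pow, hy1, ← map_pow, ← map_mul, hgPQ, hu, map_mul, map_mul, map_pow, map_pow]
    field_simp
  · refine adjoin_top hdeg _ ?_
    rintro ⟨t, ht⟩
    apply hy1not
    refine ⟨t * algebraMap k[X] (RatFunc k) u / algebraMap k[X] (RatFunc k) Q, ?_⟩
    rw [map_div₀, map_mul, ht]
    field_simp

end Groth.Agent.Lib.Helper20.Quad3
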