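import Mathlib

/-! Rationality of a power series descends along a field extension. -/

set_option autoImplicit false

namespace Groth.Agent.Lib.Helper20.RatDescend

universe u v

theorem main {L : Type u} {L' : Type v} [Field L] [Field L']
    [Algebra L L'] (f : PowerSeries L) :
    (∃ P Q : Polynomial L', Q ≠ 0 ∧
        PowerSeries.map (algebraMap L L') f * (Q : PowerSeries L') = (P : PowerSeries L')) ↔
      ∃ P Q : Polynomial L, Q ≠ 0 ∧ f * (Q : PowerSeries L) = (P : PowerSeries L) := by
  classical
  constructor
  · rintro ⟨P, Q, hQ, h⟩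
    obtain ⟨i0, hi0⟩ : ∃ i, Q.coeff i ≠ 0 := by
      by_contra hcon
      push_neg at hcon
      exact hQ (Polynomial.ext (by simpa using hcon))
    obtain ⟨lam, hlam⟩ : ∃ lam : Module.Dual L L', lam (Q.coeff i0) ≠ 0 :=
      Module.Projective.exists_dual_ne_zero L hi0
    let app : Polynomial L' → Polynomial L := fun p =>
      ∑ i ∈ p.support, Polynomial.monomial i (lam (p.coeff i))
    have happ : ∀ (p : Polynomial L') (i : ℕ), (app p).coeff i = lam (p.coeff i) := by
      intro p i
      simp only [app, Polynomial.finset_sum_coeff, Polynomial.coeff_monomial]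
      rw [Finset.sum_ite_eq']
      split_ifs with h
      · rfl
      · rw [Polynomial.notMem_support_iff.mp h, map_zero]
    refine ⟨app P, app Q, ?_, ?_⟩
    · intro h0
      apply hlam
      rw [← happ, h0, Polynomial.coeff_zero]
    · ext m
      rw [PowerSeries.coeff_mul, Polynomial.coeff_coe, happ]
      have hm := congrArg (PowerSeries.coeff m) h
      rw [PowerSeries.coeff_mul, Polynomial.coeff_coe] at hm
      rw [← hm, map_sum]
      apply Finset.sum_congr rfl
      intro ij _
      rw [PowerSeries.coeff_map, Polynomial.coeff_coe, Polynomial.coeff_coe, happ,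
        ← Algebra.smul_def, map_smul, smul_eq_mul]
  · rintro ⟨P, Q, hQ, h⟩
    refine ⟨P.map (algebraMap L L'), Q.map (algebraMap L L'), ?_, ?_⟩
    · exact (Polynomial.map_ne_zero_iff (algebraMap L L').injective).mpr hQ
    · rw [Polynomial.polynomial_map_coe, Polynomial.polynomial_map_coe, ← map_mul, h]

end Groth.Agent.Lib.Helper20.RatDescend
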