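import Mathlib
import Groth.Prelude.Def_W4stkalgebra1Int

namespace Groth.Agent.Lib.Helper20.ReesInt

open Polynomial

universe u

variable {R S : Type u} [CommRing R] [CommRing S] [Algebra R S] (I : Ideal R) (s : S)

/-- the structure map -/
noncomputable def φ : ↥(reesAlgebra I) →+* S[X] :=
  (Polynomial.mapRingHom (algebraMap R S)).comp (reesAlgebra I).val.toRingHom

theorem φ_apply (r : ↥(reesAlgebra I)) :
    φ (S := S) I r = Polynomial.map (algebraMap R S) (r : R[X]) := rfl

theorem term_eq (F : S[X]) (j d : ℕ) (hj : j ≤ d) :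
    (F * (C s * X) ^ j).coeff d = F.coeff (d - j) * s ^ j := by
  rw [mul_pow, ← C_pow, ← mul_assoc, coeff_mul_X_pow', if_pos hj, coeff_mul_C]

theorem forward (h : W4stkalgebra1.IsIntegralOverIdeal I s) :
    (φ (S := S) I).IsIntegralElem (C s * X) := by
  obtain ⟨p, hm, hc, he⟩ := h
  set d := p.natDegree with hd
  have hmem : ∀ j, p.coeff j ∈ I ^ (d - j) := by
    intro j
    rcases Nat.lt_or_ge j d with hj | hj
    · exact hc j hj
    · rw [Nat.sub_eq_zero_of_le hj, pow_zero, Ideal.one_eq_top]
      exact Submodule.mem_top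
  let r : ℕ → ↥(reesAlgebra I) := fun j =>
    ⟨monomial (d - j) (p.coeff j), reesAlgebra.monomial_mem.2 (hmem j)⟩
  have hrd : r d = 1 := by
    apply Subtype.ext
    simp only [r, Nat.sub_self, hd, hm.coeff_natDegree]
    rfl
  refine ⟨∑ j ∈ Finset.range (d + 1), C (r j) * X ^ j, ?_, ?_⟩
  · refine monic_of_natDegree_le_of_coeff_eq_one d ?_ ?_
    · refine natDegree_sum_le_of_forall_le _ _ fun j hj => ?_
      refine (natDegree_C_mul_X_pow_le _ _).trans ?_
      rw [Finset.mem_range] at hj
      omega
    · rw [finset_sum_coeff]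
      simp only [coeff_C_mul_X_pow]
      rw [Finset.sum_ite_eq, if_pos (Finset.mem_range.2 (Nat.lt_succ_self d)), hrd]
  · rw [eval₂_finset_sum]
    simp only [eval₂_mul, eval₂_C, eval₂_pow, eval₂_X]
    have hterm : ∀ j ∈ Finset.range (d + 1),
        φ (S := S) I (r j) * (C s * X) ^ j = C (algebraMap R S (p.coeff j) * s ^ j) * X ^ d := by
      intro j hj
      rw [Finset.mem_range] at hj
      have hjd : d - j + j = d := Nat.sub_add_cancel (by omega)
      rw [φ_apply]
      simp only [r, Polynomial.map_monomial]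
      rw [← C_mul_X_pow_eq_monomial, mul_pow, ← C_pow, C_mul]
      calc C (algebraMap R S (p.coeff j)) * X ^ (d - j) * (C (s ^ j) * X ^ j)
          = C (algebraMap R S (p.coeff j)) * C (s ^ j) * (X ^ (d - j) * X ^ j) := by ring
        _ = C (algebraMap R S (p.coeff j)) * C (s ^ j) * X ^ d := by rw [← pow_add, hjd]
    rw [Finset.sum_congr rfl hterm, ← Finset.sum_mul, ← map_sum, ← eval₂_eq_sum_range, he, C_0,
      zero_mul]

theorem backward (h : (φ (S := S) I).IsIntegralElem (C s * X)) :
    W4stkalgebra1.IsIntegralOverIdeal I s := by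
  obtain ⟨Q, hQ, hQe⟩ := h
  rcases subsingleton_or_nontrivial R with hR | hR
  · refine ⟨1, monic_one, fun j hj => ?_, ?_⟩
    · rw [natDegree_one] at hj
      omega
    · haveI : Subsingleton S := by
        refine ⟨fun a b => ?_⟩
        have h01 : (0 : S) = 1 := by
          rw [← map_zero (algebraMap R S), ← map_one (algebraMap R S)]
          exact congrArg _ (Subsingleton.elim _ _)
        calc a = a * 1 := (mul_one a).symm
          _ = a * 0 := by rw [h01]
          _ = b * 0 := by rw [mul_zero, mul_zero]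
          _ = b * 1 := by rw [h01]
          _ = b := mul_one b
      exact Subsingleton.elim _ _
  set d := Q.natDegree with hd
  let c : ℕ → R := fun j => ((Q.coeff j : ↥(reesAlgebra I)) : R[X]).coeff (d - j)
  set p : R[X] := ∑ j ∈ Finset.range (d + 1), C (c j) * X ^ j with hp
  have hcoeff : ∀ j, j ≤ d → p.coeff j = c j := by
    intro j hj
    rw [hp, finset_sum_coeff]
    simp only [coeff_C_mul_X_pow]
    rw [Finset.sum_ite_eq, if_pos (Finset.mem_range.2 (by omega))]
  have hcd : c d = 1 := by
    simp only [c, Nat.sub_self, hd, hQ.coeff_natDegree]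
    change (1 : R[X]).coeff 0 = 1
    exact coeff_one_zero
  have hdeg : p.natDegree ≤ d := by
    refine natDegree_sum_le_of_forall_le _ _ fun j hj => ?_
    refine (natDegree_C_mul_X_pow_le _ _).trans ?_
    rw [Finset.mem_range] at hj
    omega
  have hpd : p.coeff d = 1 := by rw [hcoeff d le_rfl, hcd]
  have hnat : p.natDegree = d :=
    natDegree_eq_of_le_of_coeff_ne_zero hdeg (by rw [hpd]; exact one_ne_zero)
  refine ⟨p, monic_of_natDegree_le_of_coeff_eq_one d hdeg hpd, fun j hj => ?_, ?_⟩
  · rw [hnat] at hj ⊢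
    rw [hcoeff j hj.le]
    exact (mem_reesAlgebra_iff I _).1 (Q.coeff j).2 (d - j)
  · have h0 : (eval₂ (φ (S := S) I) (C s * X) Q).coeff d = 0 := by rw [hQe, coeff_zero]
    rw [eval₂_eq_sum_range, finset_sum_coeff, ← hd] at h0
    have hterm : ∀ j ∈ Finset.range (d + 1),
        (φ (S := S) I (Q.coeff j) * (C s * X) ^ j).coeff d = algebraMap R S (c j) * s ^ j := by
      intro j hj
      rw [Finset.mem_range] at hj
      rw [term_eq s _ j d (by omega), φ_apply, coeff_map]
    rw [Finset.sum_congr rfl hterm] at h0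
    rw [hp, eval₂_finset_sum]
    simp only [eval₂_mul, eval₂_C, eval₂_pow, eval₂_X]
    exact h0

theorem result' : W4stkalgebra1.IsIntegralOverIdeal I s ↔ ((Polynomial.mapRingHom (algebraMap R S)).comp (reesAlgebra I).val.toRingHom).IsIntegralElem (Polynomial.C s * Polynomial.X) :=
  ⟨forward I s, backward I s⟩

end Groth.Agent.Lib.Helper20.ReesInt
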