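import Mathlib
import Groth.Prelude.Def_W4stkalgebra1Int
import Groth.Agent.Lib.Helper20.ReesInt

namespace Groth.Agent.Lib.Helper20.ReesInt2

open Polynomial Groth.Agent.Lib.Helper20.ReesInt

universe u

variable {R S : Type u} [CommRing R] [CommRing S] [Algebra R S] (I : Ideal R)

theorem iff_elem (s : S) :
    W4stkalgebra1.IsIntegralOverIdeal I s ↔ (φ (S := S) I).IsIntegralElem (C s * X) :=
  result' I s

theorem φ_comp : (φ (S := S) I).comp (algebraMap R ↥(reesAlgebra I)) =
    (C : S →+* S[X]).comp (algebraMap R S) := by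
  ext r
  simp [φ_apply]

theorem C_integral (s : S) (hs : IsIntegral R s) : (φ (S := S) I).IsIntegralElem (C s) := by
  have h1 : ((C : S →+* S[X]).comp (algebraMap R S)).IsIntegralElem (C s) :=
    RingHom.IsIntegralElem.map hs C
  rw [← φ_comp I] at h1
  exact RingHom.IsIntegralElem.of_comp h1

theorem result2 : (∃ N : Submodule R S, ∀ s : S, s ∈ N ↔ W4stkalgebra1.IsIntegralOverIdeal I s) ∧ (∀ s s' : S, IsIntegral R s → W4stkalgebra1.IsIntegralOverIdeal I s' → W4stkalgebra1.IsIntegralOverIdeal I (s * s')) := by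
  constructor
  · refine ⟨{ carrier := {s | W4stkalgebra1.IsIntegralOverIdeal I s}
              add_mem' := ?_
              zero_mem' := ?_
              smul_mem' := ?_ }, fun s => Iff.rfl⟩
    · intro a b ha hb
      rw [Set.mem_ofPred_eq, iff_elem] at ha hb ⊢
      rw [C_add, add_mul]
      exact RingHom.IsIntegralElem.add _ ha hb
    · rw [Set.mem_ofPred_eq, iff_elem, C_0, zero_mul]
      exact RingHom.isIntegralElem_zero _
    · intro r a ha
      rw [Set.mem_ofPred_eq, iff_elem] at ha ⊢
      rw [Algebra.smul_def, C_mul, mul_assoc]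
      refine RingHom.IsIntegralElem.mul _ ?_ ha
      exact C_integral I _ isIntegral_algebraMap
  · intro s s' hs hs'
    rw [iff_elem] at hs' ⊢
    rw [C_mul, mul_assoc]
    exact RingHom.IsIntegralElem.mul _ (C_integral I s hs) hs'

end Groth.Agent.Lib.Helper20.ReesInt2
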