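import Groth.Prelude.Def_LocRes
import Groth.Agent.Lib.Helper20.ResInv

/-! The residue of `f^(n-1) df` vanishes for `n ≠ 0`, in every characteristic. -/

set_option autoImplicit false

namespace Groth.Agent.Lib.Helper20.ResPow

open PowerSeries

section Universal

lemma gen_torsionFree {S : Type*} [CommRing S] [IsDomain S] [CharZero S] (W : S⟦X⟧) (n m : ℕ)
    (hn : 1 ≤ n) (hm : 1 ≤ m) :
    (m : S) * coeff (n * m) (W ^ n) = coeff (n * m - 1) (W ^ (n - 1) * derivative S W) := by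
  have hpos : 0 < n * m := Nat.mul_pos hn hm
  have h1 : coeff (n * m - 1) (derivative S (W ^ n)) =
      coeff (n * m) (W ^ n) * ((n * m : ℕ) : S) := by
    rw [coeff_derivative]
    have e : n * m - 1 + 1 = n * m := by omega
    rw [e]
    congr 1
    have : ((n * m - 1 : ℕ) : S) + 1 = ((n * m - 1 + 1 : ℕ) : S) := by push_cast; ring
    rw [this, e]
  have h2 : coeff (n * m - 1) (derivative S (W ^ n)) =
      (n : S) * coeff (n * m - 1) (W ^ (n - 1) * derivative S W) := by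
    rw [derivative_pow, mul_assoc]
    have : ((n : ℕ) : S⟦X⟧) = C (n : S) := by simp
    rw [this, coeff_C_mul]
  have hn0 : (n : S) ≠ 0 := by
    have : n ≠ 0 := by omega
    exact_mod_cast this
  apply mul_left_cancel₀ hn0
  rw [← h2, h1]
  push_cast
  ring

lemma gen {R : Type*} [CommRing R] (w : R⟦X⟧) (n m : ℕ) (hn : 1 ≤ n) (hm : 1 ≤ m) :
    (m : R) * coeff (n * m) (w ^ n) = coeff (n * m - 1) (w ^ (n - 1) * derivative R w) := by
  let S := MvPolynomial ℕ ℤ
  let W : S⟦X⟧ := PowerSeries.mk fun i => (MvPolynomial.X i : S)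
  let φ : S →+* R := MvPolynomial.eval₂Hom (Int.castRingHom R) (fun i => coeff i w)
  have hW : PowerSeries.map φ W = w := by
    ext i
    rw [coeff_map, coeff_mk]
    show MvPolynomial.eval₂ _ _ (MvPolynomial.X i) = _
    rw [MvPolynomial.eval₂_X]
  have h := gen_torsionFree W n m hn hm
  have h' := congrArg φ h
  rw [map_mul, map_natCast, ← coeff_map, ← coeff_map] at h'
  have e1 : PowerSeries.map φ (W ^ n) = w ^ n := by
    rw [← hW]; exact map_pow (PowerSeries.map φ) W n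
  have e2 : PowerSeries.map φ (W ^ (n - 1) * derivative S W) = w ^ (n - 1) * derivative R w := by
    rw [map_mul, ← ResInv.derivative_map, hW]
    congr 1
    rw [← hW]; exact map_pow (PowerSeries.map φ) W (n - 1)
  rw [e1, e2] at h'
  exact h'

end Universal

section Laurent

open HahnSeries LaurentSeries

variable {F : Type*} [Field F]

lemma coeff_single_mul_coe (a : ℤ) (r : F) (p : F⟦X⟧) (i : ℤ) :
    (HahnSeries.single a r * (p : F⸨X⸩)).coeff i =
      r * (if i - a < 0 then 0 else PowerSeries.coeff (i - a).natAbs p) := by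
  rw [HahnSeries.coeff_single_mul, PowerSeries.coeff_coe]

lemma res_single_mul (M : ℤ) (u : F⟦X⟧) (n : ℕ) (hn : 1 ≤ n) :
    ((HahnSeries.single M (1 : F) * (u : F⸨X⸩)) ^ (n - 1) *
      LocRes.D F (HahnSeries.single M (1 : F) * (u : F⸨X⸩))).coeff (-1) = 0 := by
  have e1 : (HahnSeries.single M (1 : F) * (u : F⸨X⸩)) ^ (n - 1) =
      HahnSeries.single (((n - 1 : ℕ) : ℤ) * M) (1 : F) * ((u ^ (n - 1) : F⟦X⟧) : F⸨X⸩) := by
    rw [mul_pow, HahnSeries.single_pow, one_pow, PowerSeries.coe_pow, nsmul_eq_mul]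
  have e2 : LocRes.D F (HahnSeries.single M (1 : F) * (u : F⸨X⸩)) =
      HahnSeries.single M (1 : F) * ((PowerSeries.derivative F u : F⟦X⟧) : F⸨X⸩) +
      HahnSeries.single (M - 1) (M • (1 : F)) * (u : F⸨X⸩) := by
    rw [LocRes.D_apply, LocRes.derivative_single_mul, LocRes.derivative_coe]
  have e3 : (HahnSeries.single M (1 : F) * (u : F⸨X⸩)) ^ (n - 1) *
      LocRes.D F (HahnSeries.single M (1 : F) * (u : F⸨X⸩)) =
      HahnSeries.single (((n - 1 : ℕ) : ℤ) * M + M) (1 : F) *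
        ((u ^ (n - 1) * PowerSeries.derivative F u : F⟦X⟧) : F⸨X⸩) +
      HahnSeries.single (((n - 1 : ℕ) : ℤ) * M + (M - 1)) (M • (1 : F)) *
        ((u ^ n : F⟦X⟧) : F⸨X⸩) := by
    rw [e1, e2]
    have hu : (u ^ n : F⟦X⟧) = u ^ (n - 1) * u := by
      rw [← pow_succ]; congr 1; omega
    rw [hu, PowerSeries.coe_mul, PowerSeries.coe_mul, mul_add]
    congr 1
    · rw [mul_mul_mul_comm, HahnSeries.single_mul_single, one_mul]
    · rw [mul_mul_mul_comm, HahnSeries.single_mul_single, one_mul]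
  rw [e3, HahnSeries.coeff_add, coeff_single_mul_coe, coeff_single_mul_coe]
  have hn' : (((n - 1 : ℕ) : ℤ)) = (n : ℤ) - 1 := by
    rw [Nat.cast_sub hn]; simp
  rw [hn']
  have i1 : (-1 : ℤ) - (((n : ℤ) - 1) * M + M) = -1 - n * M := by ring
  have i2 : (-1 : ℤ) - (((n : ℤ) - 1) * M + (M - 1)) = - (n * M) := by ring
  rw [i1, i2]
  have hnpos : (0 : ℤ) < n := by exact_mod_cast hn
  rcases lt_trichotomy M 0 with hM | hM | hM
  · -- M < 0
    obtain ⟨m, hm⟩ : ∃ m : ℕ, M = -(m : ℤ) := ⟨M.natAbs, by omega⟩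
    have hm1 : 1 ≤ m := by omega
    have hnm : (0 : ℤ) < n * m := by positivity
    have j1 : ¬ ((-1 : ℤ) - n * M < 0) := by rw [hm]; nlinarith
    have j2 : ¬ (-((n : ℤ) * M) < 0) := by rw [hm]; nlinarith
    rw [if_neg j1, if_neg j2]
    have k1 : ((-1 : ℤ) - n * M).natAbs = n * m - 1 := by
      rw [hm]
      have : (-1 : ℤ) - n * -(m : ℤ) = ((n * m - 1 : ℕ) : ℤ) := by
        rw [Nat.cast_sub (Nat.mul_pos hn hm1)]; push_cast; ring
      rw [this, Int.natAbs_natCast]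
    have k2 : (-((n : ℤ) * M)).natAbs = n * m := by
      rw [hm]
      have : -((n : ℤ) * -(m : ℤ)) = ((n * m : ℕ) : ℤ) := by push_cast; ring
      rw [this, Int.natAbs_natCast]
    rw [k1, k2, ← gen u n m hn hm1, hm]
    simp
  · subst hM
    simp
  · have j1 : (-1 : ℤ) - n * M < 0 := by nlinarith
    have j2 : -((n : ℤ) * M) < 0 := by nlinarith
    rw [if_pos j1, if_pos j2]
    simp

lemma res_pow_nat (g : F⸨X⸩) (n : ℕ) (hn : 1 ≤ n) :
    (g ^ (n - 1) * LocRes.D F g).coeff (-1) = 0 := by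
  have := res_single_mul g.order g.powerSeriesPart n hn
  rwa [LaurentSeries.single_order_mul_powerSeriesPart] at this

lemma res_zpow (g : F⸨X⸩) (n : ℤ) (hn : n ≠ 0) :
    (g ^ (n - 1) * LocRes.D F g).coeff (-1) = 0 := by
  rcases eq_or_ne g 0 with rfl | hg
  · simp
  rcases lt_or_gt_of_ne hn with h | h
  · -- n < 0
    obtain ⟨ν, hν⟩ : ∃ ν : ℕ, n = -(ν : ℤ) := ⟨n.natAbs, by omega⟩
    have hν1 : 1 ≤ ν := by omega
    have h1 := res_pow_nat g⁻¹ ν hν1
    have e : g⁻¹ ^ (ν - 1) * LocRes.D F g⁻¹ = -(g ^ (n - 1) * LocRes.D F g) := by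
      rw [Derivation.leibniz_inv, smul_eq_mul, hν]
      have e1 : g⁻¹ ^ (ν - 1) = g ^ (-((ν : ℤ) - 1)) := by
        rw [zpow_neg, ← inv_zpow, ← zpow_natCast, Nat.cast_sub hν1]; simp
      have e2 : g⁻¹ ^ 2 = g ^ (-2 : ℤ) := by
        rw [zpow_neg, ← inv_zpow]; norm_cast
      rw [e1, e2]
      have e3 : g ^ (-(ν : ℤ) - 1) = g ^ (-((ν : ℤ) - 1)) * g ^ (-2 : ℤ) := by
        rw [← zpow_add₀ hg]; congr 1; ring
      rw [e3]; ring
    rw [e, HahnSeries.coeff_neg, neg_eq_zero] at h1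
    exact h1
  · obtain ⟨ν, hν⟩ : ∃ ν : ℕ, n = (ν : ℤ) := ⟨n.natAbs, by omega⟩
    have hν1 : 1 ≤ ν := by omega
    have h1 := res_pow_nat g ν hν1
    have e1 : g ^ (n - 1) = g ^ (ν - 1) := by
      rw [hν, ← zpow_natCast, Nat.cast_sub hν1]; simp
    rw [e1]
    exact h1

end Laurent

section Main

universe u v w

theorem main {k : Type u} {K : Type v} {F : Type w} [CommRing k] [Field K] [Field F]
    [Algebra k K] [Algebra k F]
    (φ : K →ₐ[k] LaurentSeries F) (f : K) (n : ℤ) (hn : n ≠ 0) :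
    LocRes.resExp φ (f ^ (n - 1)) f = 0 := by
  unfold LocRes.resExp
  rw [LocRes.res_apply, map_zpow₀]
  exact res_zpow (φ f) n hn

end Main

end Groth.Agent.Lib.Helper20.ResPow
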