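import Mathlib
import Groth.Agent.Lib.Helper20.SegBij5

/-!
# The comparison map on cocycles: kernel and homogeneous pieces
-/

set_option autoImplicit false
set_option linter.unusedSectionVars false
set_option linter.unusedVariables false
set_option linter.style.haveILetI false

universe u

open TensorProduct DirectSum CategoryTheory

namespace Groth.Agent.Lib.Helper20.SegBij

open Groth.Agent.Lib.Helper26.GrProj Groth.Agent.Lib.Helper20.SegAc Groth.Agent.Lib.Helper20.GrKit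
  Groth.Agent.Lib.Helper20.SegTot

variable {k : Type u} [Field k] {R S T : Type u} [CommRing R] [CommRing S] [CommRing T]
  [Algebra k R] [Algebra k S] [Algebra k T]
  {𝒜 : ℤ → AddSubgroup R} [GradedRing 𝒜] (hkA : ∀ c : k, algebraMap k R c ∈ 𝒜 0)
  {ℬ : ℤ → AddSubgroup S} [GradedRing ℬ] (hkB : ∀ c : k, algebraMap k S c ∈ ℬ 0)
  {𝒯 : ℤ → AddSubgroup T} [GradedRing 𝒯]
  (ψ : T →ₐ[k] R ⊗[k] S) (hψ : ∀ n t, t ∈ 𝒯 n → ψ t ∈ GrSeg.segrePiece k 𝒜 ℬ n)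
  {M : Type u} [AddCommGroup M] [Module R M] [Module k M] [IsScalarTower k R M]
  {ℳ : ℤ → AddSubgroup M}
  [DirectSum.Decomposition ℳ] [SetLike.GradedSMul 𝒜 ℳ]
  (E : GrLC.StarInjRes 𝒜 ℳ) [∀ i, Module k (E.X i).carrier]
  [∀ i, IsScalarTower k R (E.X i).carrier]
  {N : Type u} [AddCommGroup N] [Module S N] [Module k N] [IsScalarTower k S N]
  (𝒩 : ℤ → AddSubgroup N)
  [DirectSum.Decomposition 𝒩] [SetLike.GradedSMul ℬ 𝒩]
  (aR : HomogeneousIdeal 𝒜) (aT : HomogeneousIdeal 𝒯)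
  (hyp : TorsHyp1 (k := k) ψ E (N := N) aR aT)

section Kernel

/-- the coboundaries inside the cocycles -/
abbrev Bc (q : ℕ) : Submodule R ↥(E.cocyc aR q) := (E.cobdy aR q).comap (E.cocyc aR q).subtype

/-- `B^q ⊗ N → Z^q ⊗ N` -/
noncomputable def bI (q : ℕ) : ↥(Bc E aR q) ⊗[k] N →ₗ[k] ↥(E.cocyc aR q) ⊗[k] N :=
  TensorProduct.map ((Bc E aR q).subtype.restrictScalars k) (LinearMap.id : N →ₗ[k] N)

theorem exists_bI_of_LamT_eq_zero (q : ℕ) (u : TP ψ ↥(E.cocyc aR q) N)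
    (hu : LamT (k := k) ψ E (N := N) aR q u = 0) :
    ∃ b : ↥(Bc E aR q) ⊗[k] N, bI (k := k) E (N := N) aR q b = u := by
  have hL : TensorProduct.map ((E.toH aR q).restrictScalars k) (LinearMap.id : N →ₗ[k] N)
      (u : ↥(E.cocyc aR q) ⊗[k] N) = 0 := hu
  have hker : LinearMap.ker ((E.toH aR q).restrictScalars k) =
      LinearMap.range ((Bc E aR q).subtype.restrictScalars k) := by
    ext x
    constructor
    · intro hx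
      have hx' : E.toH aR q x = 0 := hx
      rw [Submodule.mkQ_apply, Submodule.Quotient.mk_eq_zero] at hx'
      exact ⟨⟨x, hx'⟩, rfl⟩
    · rintro ⟨y, rfl⟩
      change E.toH aR q y.1 = 0
      rw [Submodule.mkQ_apply, Submodule.Quotient.mk_eq_zero]
      exact y.2
  exact exists_of_map_eq_zero (Y := N) _ _ hker u hL

theorem zI_bI_zero (b : ↥(Bc E aR 0) ⊗[k] N) :
    zI (k := k) E (N := N) aR 0 (bI (k := k) E (N := N) aR 0 b) = 0 := by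
  induction b using TensorProduct.induction_on with
  | zero => simp
  | tmul x y =>
    have hx : (x.1 : (E.X 0).carrier) ∈ E.cobdy aR 0 := x.2
    have hx0 : ((x.1 : ↥(E.cocyc aR 0)) : (E.X 0).carrier) = 0 := (Submodule.mem_bot R).1 hx
    change ((x.1 : ↥(E.cocyc aR 0)) : (E.X 0).carrier) ⊗ₜ[k] y = 0
    rw [hx0, TensorProduct.zero_tmul]
  | add a b ha hb => rw [map_add, map_add, ha, hb, add_zero]

theorem zI_bI_succ (n : ℕ) (b : ↥(Bc E aR (n + 1)) ⊗[k] N) :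
    ∃ w : ↥(GrLC.gam aR.toIdeal (E.X n).carrier) ⊗[k] N,
      zI (k := k) E (N := N) aR (n + 1) (bI (k := k) E (N := N) aR (n + 1) b) =
        mapL (k := k) (Y := N) (E.d n) (gI (k := k) E (N := N) aR n w) := by
  induction b using TensorProduct.induction_on with
  | zero => exact ⟨0, by simp⟩
  | tmul x y =>
    have hx : (x.1 : (E.X (n + 1)).carrier) ∈ E.cobdy aR (n + 1) := x.2
    obtain ⟨g', hg', hgx⟩ := hx
    refine ⟨(⟨g', hg'⟩ : ↥(GrLC.gam aR.toIdeal (E.X n).carrier)) ⊗ₜ[k] y, ?_⟩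
    change ((x.1 : ↥(E.cocyc aR (n + 1))) : (E.X (n + 1)).carrier) ⊗ₜ[k] y = E.d n g' ⊗ₜ[k] y
    rw [hgx]
  | add a b ha hb =>
    obtain ⟨wa, hwa⟩ := ha
    obtain ⟨wb, hwb⟩ := hb
    exact ⟨wa + wb, by rw [map_add, map_add, hwa, hwb, map_add, map_add]⟩

include hyp in
theorem mem_cobW_zero (z : ↥(cocW hkA hkB ψ hψ E 𝒩 aT 0))
    (hz : lamC hkA hkB ψ hψ E 𝒩 aR aT hyp 0 z = 0) :
    z.1 ∈ cobW hkA hkB ψ hψ E 𝒩 aT 0 := by
  obtain ⟨b, hb⟩ := exists_bI_of_LamT_eq_zero ψ E aR 0 _ hz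
  have h1 := zIT_uOf hkA hkB ψ hψ E 𝒩 aR aT hyp 0 z
  rw [zIT_apply, ← hb, zI_bI_zero] at h1
  change z.1 ∈ (⊥ : Submodule T _)
  rw [Submodule.mem_bot]
  exact Subtype.ext h1.symm

include hyp in
theorem mem_cobW_succ (n : ℕ) (z : ↥(cocW hkA hkB ψ hψ E 𝒩 aT (n + 1)))
    (hz : lamC hkA hkB ψ hψ E 𝒩 aR aT hyp (n + 1) z = 0) :
    z.1 ∈ cobW hkA hkB ψ hψ E 𝒩 aT (n + 1) := by
  obtain ⟨b, hb⟩ := exists_bI_of_LamT_eq_zero ψ E aR (n + 1) _ hz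
  have h1 := zIT_uOf hkA hkB ψ hψ E 𝒩 aR aT hyp (n + 1) z
  obtain ⟨w, hw⟩ := zI_bI_succ E aR n b
  rw [zIT_apply, ← hb, hw] at h1
  -- the preimage
  have hw1 : (gI (k := k) E (N := N) aR n w : TP ψ (E.X n).carrier N) ∈
      GrLC.gam aT.toIdeal (TP ψ (E.X n).carrier N) := (hyp n _).2 ⟨w, rfl⟩
  let y : ↥(W0 hkA hkB ψ hψ (E.X n).gr 𝒩) :=
    retr0 hkA hkB ψ hψ (E.X n).gr 𝒩 (gI (k := k) E (N := N) aR n w)
  have hy : y ∈ GrLC.gam aT.toIdeal ↥(W0 hkA hkB ψ hψ (E.X n).gr 𝒩) :=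
    gam_map (retr0 hkA hkB ψ hψ (E.X n).gr 𝒩) hw1
  refine ⟨y, hy, Subtype.ext ?_⟩
  change mapL (k := k) (Y := N) (E.d n)
    (P0 𝒜 hkA ℬ hkB (E.X n).gr 𝒩 (gI (k := k) E (N := N) aR n w)) = z.1.1
  rw [← P0_mapL hkA hkB (E.X n).gr (E.X (n + 1)).gr 𝒩 (E.d n) (E.d_grHom n), h1]
  exact z.1.2

end Kernel

section Pieces

/-- the degree projection on the cocycles -/
noncomputable def prZ (q : ℕ) (e : ℤ) : ↥(E.cocyc aR q) →ₗ[k] ↥(E.cocyc aR q) where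
  toFun x := ⟨proj (E.X q).gr e x.1,
    (GrAcyc.GrRes.ofStar E).cocyc_proj_stable aR q e x.1 x.2⟩
  map_add' a b := Subtype.ext (proj_add (E.X q).gr e a.1 b.1)
  map_smul' c x := Subtype.ext ((prK 𝒜 hkA (E.X q).gr e).map_smul c x.1)

/-- the bidegree projection on `Z^q ⊗ N` -/
noncomputable def ppZ (q : ℕ) (e : ℤ) : ↥(E.cocyc aR q) ⊗[k] N →ₗ[k] ↥(E.cocyc aR q) ⊗[k] N :=
  TensorProduct.map (prZ hkA E aR q e) (prK ℬ hkB 𝒩 e)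

theorem zI_ppZ (q : ℕ) (e : ℤ) (u : ↥(E.cocyc aR q) ⊗[k] N) :
    zI (k := k) E (N := N) aR q (ppZ hkA hkB E 𝒩 aR q e u) =
      pp 𝒜 hkA ℬ hkB (E.X q).gr 𝒩 e (zI (k := k) E (N := N) aR q u) := by
  induction u using TensorProduct.induction_on with
  | zero => simp
  | tmul x y => rfl
  | add a b ha hb => simp only [map_add, ha, hb]

theorem LamT_ppZ_mem (q : ℕ) (e : ℤ) (u : ↥(E.cocyc aR q) ⊗[k] N) :
    (LamT (k := k) ψ E (N := N) aR q (ppZ hkA hkB E 𝒩 aR q e u) : (E.H aR q) ⊗[k] N) ∈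
      GrSeg.segrePiece k (E.Hgr aR q) 𝒩 e := by
  induction u using TensorProduct.induction_on with
  | zero =>
    rw [map_zero]
    exact zero_mem _
  | tmul x y =>
    refine Submodule.subset_span ⟨E.toH aR q (prZ hkA E aR q e x), ?_, proj 𝒩 e y,
      proj_mem 𝒩 e y, rfl⟩
    exact ⟨prZ hkA E aR q e x, proj_mem (E.X q).gr e x.1, rfl⟩
  | add a b ha hb =>
    rw [map_add]
    have h2 : (LamT (k := k) ψ E (N := N) aR q
        (ppZ hkA hkB E 𝒩 aR q e a + ppZ hkA hkB E 𝒩 aR q e b) : (E.H aR q) ⊗[k] N) =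
        LamT (k := k) ψ E (N := N) aR q (ppZ hkA hkB E 𝒩 aR q e a) +
          LamT (k := k) ψ E (N := N) aR q (ppZ hkA hkB E 𝒩 aR q e b) :=
      map_add (LamT (k := k) ψ E (N := N) aR q) _ _
    exact (congrArg (fun w => w ∈ GrSeg.segrePiece k (E.Hgr aR q) 𝒩 e) h2).mpr (add_mem ha hb)

include hyp in
/-- the image of a homogeneous cocycle lies in the Segre piece -/
theorem lamC_mem (q : ℕ) (e : ℤ) (z : ↥(cocW hkA hkB ψ hψ E 𝒩 aT q))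
    (hz : z.1 ∈ W0gr hkA hkB ψ hψ (E.X q).gr 𝒩 e) :
    (lamC hkA hkB ψ hψ E 𝒩 aR aT hyp q z : (E.H aR q) ⊗[k] N) ∈
      GrSeg.segrePiece k (E.Hgr aR q) 𝒩 e := by
  have h1 := zIT_uOf hkA hkB ψ hψ E 𝒩 aR aT hyp q z
  have hz' : pp 𝒜 hkA ℬ hkB (E.X q).gr 𝒩 e z.1.1 = z.1.1 := hz
  have h2 : ppZ hkA hkB E 𝒩 aR q e (uOf hkA hkB ψ hψ E 𝒩 aR aT hyp q z) =
      uOf hkA hkB ψ hψ E 𝒩 aR aT hyp q z := by
    apply zI_injective (k := k) E (N := N) aR q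
    rw [zI_ppZ]
    rw [zIT_apply] at h1
    rw [h1, hz']
  rw [lamC_apply, ← h2]
  exact LamT_ppZ_mem hkA hkB ψ E 𝒩 aR q e _

include hyp in
/-- every generator of the Segre piece is the image of a homogeneous cocycle -/
theorem exists_lamC_eq (q : ℕ) (e : ℤ) (x : E.H aR q) (hx : x ∈ E.Hgr aR q e) (y : N)
    (hy : y ∈ 𝒩 e) :
    ∃ z : ↥(cocW hkA hkB ψ hψ E 𝒩 aT q), z.1 ∈ W0gr hkA hkB ψ hψ (E.X q).gr 𝒩 e ∧
      (lamC hkA hkB ψ hψ E 𝒩 aR aT hyp q z : (E.H aR q) ⊗[k] N) = x ⊗ₜ[k] y := by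
  obtain ⟨c, hc, rfl⟩ := hx
  have hcg : (c : (E.X q).carrier) ∈ GrLC.gam aR.toIdeal (E.X q).carrier :=
    (Submodule.mem_inf.1 c.2).1
  have hcd : E.d q (c : (E.X q).carrier) = 0 := (Submodule.mem_inf.1 c.2).2
  let z₀ : TP ψ (E.X q).carrier N := ((c : (E.X q).carrier) ⊗ₜ[k] y : (E.X q).carrier ⊗[k] N)
  have hpp : pp 𝒜 hkA ℬ hkB (E.X q).gr 𝒩 e z₀ = z₀ := by
    change pp 𝒜 hkA ℬ hkB (E.X q).gr 𝒩 e ((c : (E.X q).carrier) ⊗ₜ[k] y) = _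
    rw [pp_tmul, proj_of_mem_same _ hc, proj_of_mem_same _ hy]
  have hP0 : z₀ ∈ W0 hkA hkB ψ hψ (E.X q).gr 𝒩 := by
    have := P0_pp 𝒜 hkA ℬ hkB (E.X q).gr 𝒩 e z₀
    rw [hpp] at this
    exact this
  have hgam : z₀ ∈ GrLC.gam aT.toIdeal (TP ψ (E.X q).carrier N) :=
    (hyp q z₀).2 ⟨(⟨c, hcg⟩ : ↥(GrLC.gam aR.toIdeal (E.X q).carrier)) ⊗ₜ[k] y, rfl⟩
  have hd : dC hkA hkB ψ hψ E 𝒩 q ⟨z₀, hP0⟩ = 0 := by
    apply Subtype.ext
    change mapL (k := k) (Y := N) (E.d q) ((c : (E.X q).carrier) ⊗ₜ[k] y) = 0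
    rw [mapL_tmul, hcd, TensorProduct.zero_tmul]
  let z : ↥(cocW hkA hkB ψ hψ E 𝒩 aT q) :=
    ⟨⟨z₀, hP0⟩, Submodule.mem_inf.2 ⟨mem_gam_of_coe hkA hkB ψ hψ E 𝒩 aT ⟨z₀, hP0⟩ hgam, hd⟩⟩
  refine ⟨z, hpp, ?_⟩
  have hu : uOf hkA hkB ψ hψ E 𝒩 aR aT hyp q z = (c ⊗ₜ[k] y : ↥(E.cocyc aR q) ⊗[k] N) :=
    uOf_eq hkA hkB ψ hψ E 𝒩 aR aT hyp q z _ rfl
  rw [lamC_apply, hu]
  rfl

end Pieces

end Groth.Agent.Lib.Helper20.SegBij
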