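import Mathlib
import Groth.Agent.Lib.Helper20.SegBij6

/-!
# `H^q_{T_+}(M # N) ≅ H^q_m(M) # N` when a homogeneous element of positive degree acts bijectively
on `N` (additive-subgroup gradings)
-/

set_option autoImplicit false
set_option linter.unusedSectionVars false
set_option linter.unusedVariables false
set_option linter.style.haveILetI false

universe u

open TensorProduct DirectSum CategoryTheory

namespace Groth.Agent.Lib.Helper20.SegBij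

open Groth.Agent.Lib.Helper26.GrProj Groth.Agent.Lib.Helper20.SegAc Groth.Agent.Lib.Helper20.GrKit
  Groth.Agent.Lib.Helper20.SegTot

variable {k : Type u} [Field k] {R S T : Type u} [CommRing R] [CommRing S] [CommRing T]
  [Algebra k R] [Algebra k S] [Algebra k T]
  {𝒜 : ℤ → AddSubgroup R} [GradedRing 𝒜] (hkA : ∀ c : k, algebraMap k R c ∈ 𝒜 0)
  {ℬ : ℤ → AddSubgroup S} [GradedRing ℬ] (hkB : ∀ c : k, algebraMap k S c ∈ ℬ 0)
  {𝒯 : ℤ → AddSubgroup T} [GradedRing 𝒯] (hkT : ∀ c : k, algebraMap k T c ∈ 𝒯 0)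
  (ψ : T →ₐ[k] R ⊗[k] S) (hψ : ∀ n t, t ∈ 𝒯 n → ψ t ∈ GrSeg.segrePiece k 𝒜 ℬ n)
  {M : Type u} [AddCommGroup M] [Module R M] [Module k M] [IsScalarTower k R M]
  {ℳ : ℤ → AddSubgroup M}
  [DirectSum.Decomposition ℳ] [SetLike.GradedSMul 𝒜 ℳ]
  (E : GrLC.StarInjRes 𝒜 ℳ) [∀ i, Module k (E.X i).carrier]
  [∀ i, IsScalarTower k R (E.X i).carrier]
  {N : Type u} [AddCommGroup N] [Module S N] [Module k N] [IsScalarTower k S N]
  (𝒩 : ℤ → AddSubgroup N)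
  [DirectSum.Decomposition 𝒩] [SetLike.GradedSMul ℬ 𝒩]
  (aR : HomogeneousIdeal 𝒜) (aT : HomogeneousIdeal 𝒯)
  (hyp : TorsHyp1 (k := k) ψ E (N := N) aR aT)

section Cobdy

/-- `Γ_m(E^n) → Z^{n+1}` -/
noncomputable def delta (n : ℕ) :
    ↥(GrLC.gam aR.toIdeal (E.X n).carrier) →ₗ[R] ↥(E.cocyc aR (n + 1)) where
  toFun x := ⟨E.d n x.1, Submodule.mem_inf.2 ⟨gam_map (E.d n) x.2, by
    have h : E.d n x.1 ∈ LinearMap.ker (E.d (n + 1)) := by
      rw [E.exact_succ]; exact ⟨x.1, rfl⟩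
    exact h⟩⟩
  map_add' a b := Subtype.ext (map_add (E.d n) a.1 b.1)
  map_smul' r a := Subtype.ext (map_smul (E.d n) r a.1)

/-- `Γ_m(E^n) ⊗ N → Z^{n+1} ⊗ N` -/
noncomputable def dI (n : ℕ) :
    ↥(GrLC.gam aR.toIdeal (E.X n).carrier) ⊗[k] N →ₗ[k] ↥(E.cocyc aR (n + 1)) ⊗[k] N :=
  TensorProduct.map ((delta E aR n).restrictScalars k) (LinearMap.id : N →ₗ[k] N)

theorem zI_dI (n : ℕ) (w : ↥(GrLC.gam aR.toIdeal (E.X n).carrier) ⊗[k] N) :
    zI (k := k) E (N := N) aR (n + 1) (dI (k := k) E (N := N) aR n w) =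
      mapL (k := k) (Y := N) (E.d n) (gI (k := k) E (N := N) aR n w) := by
  induction w using TensorProduct.induction_on with
  | zero => simp
  | tmul x y => rfl
  | add a b ha hb => simp only [map_add, ha, hb]

theorem LamT_dI (n : ℕ) (w : ↥(GrLC.gam aR.toIdeal (E.X n).carrier) ⊗[k] N) :
    LamT (k := k) ψ E (N := N) aR (n + 1) (dI (k := k) E (N := N) aR n w) = 0 := by
  induction w using TensorProduct.induction_on with
  | zero =>
    rw [map_zero]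
    exact map_zero (LamT (k := k) ψ E (N := N) aR (n + 1))
  | tmul x y =>
    have h0 : E.toH aR (n + 1) (delta E aR n x) = 0 := by
      rw [Submodule.mkQ_apply, Submodule.Quotient.mk_eq_zero]
      exact ⟨x.1, x.2, rfl⟩
    change (E.toH aR (n + 1) (delta E aR n x) ⊗ₜ[k] y : (E.H aR (n + 1)) ⊗[k] N) = 0
    rw [h0, TensorProduct.zero_tmul]
  | add a b ha hb =>
    rw [map_add]
    have h2 : LamT (k := k) ψ E (N := N) aR (n + 1)
        (dI (k := k) E (N := N) aR n a + dI (k := k) E (N := N) aR n b) =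
        LamT (k := k) ψ E (N := N) aR (n + 1) (dI (k := k) E (N := N) aR n a) +
          LamT (k := k) ψ E (N := N) aR (n + 1) (dI (k := k) E (N := N) aR n b) :=
      map_add (LamT (k := k) ψ E (N := N) aR (n + 1)) _ _
    rw [h2, ha, hb, add_zero]

include hyp in
theorem lamC_eq_zero_of_mem (q : ℕ) (z : ↥(cocW hkA hkB ψ hψ E 𝒩 aT q))
    (hz : z.1 ∈ cobW hkA hkB ψ hψ E 𝒩 aT q) :
    lamC hkA hkB ψ hψ E 𝒩 aR aT hyp q z = 0 := by
  cases q with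
  | zero =>
    have h0 : z.1 = 0 := (Submodule.mem_bot T).1 hz
    have hz0 : z = 0 := Subtype.ext h0
    rw [hz0, map_zero]
  | succ n =>
    obtain ⟨y, hy, hyz⟩ := hz
    obtain ⟨w, hw⟩ := (hyp n y.1).1 (coe_mem_gam hkA hkB ψ hψ E 𝒩 aT y hy)
    have hu : uOf hkA hkB ψ hψ E 𝒩 aR aT hyp (n + 1) z = dI (k := k) E (N := N) aR n w := by
      apply uOf_eq
      rw [zIT_apply, zI_dI, hw, ← hyz]
      rfl
    rw [lamC_apply, hu]
    exact LamT_dI ψ E aR n w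

end Cobdy

section Quot

/-- the cohomology of `Γ_{T_+}(E^• # N)` -/
abbrev HW (q : ℕ) : Type u :=
  ↥(cocW hkA hkB ψ hψ E 𝒩 aT q) ⧸
    (cobW hkA hkB ψ hψ E 𝒩 aT q).comap (cocW hkA hkB ψ hψ E 𝒩 aT q).subtype

/-- the comparison map on cohomology -/
noncomputable def lamH (q : ℕ) : HW hkA hkB ψ hψ E 𝒩 aT q →ₗ[T] TP ψ (E.H aR q) N :=
  ((cobW hkA hkB ψ hψ E 𝒩 aT q).comap (cocW hkA hkB ψ hψ E 𝒩 aT q).subtype).liftQ
    (lamC hkA hkB ψ hψ E 𝒩 aR aT hyp q) (by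
      intro z hz
      exact lamC_eq_zero_of_mem hkA hkB ψ hψ E 𝒩 aR aT hyp q z hz)

theorem lamH_mk (q : ℕ) (z : ↥(cocW hkA hkB ψ hψ E 𝒩 aT q)) :
    lamH hkA hkB ψ hψ E 𝒩 aR aT hyp q (Submodule.Quotient.mk z) =
      lamC hkA hkB ψ hψ E 𝒩 aR aT hyp q z := rfl

theorem lamH_injective (q : ℕ) : Function.Injective (lamH hkA hkB ψ hψ E 𝒩 aR aT hyp q) := by
  rw [← LinearMap.ker_eq_bot]
  apply Submodule.ker_liftQ_eq_bot
  intro z hz
  rw [Submodule.mem_comap]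
  cases q with
  | zero => exact mem_cobW_zero hkA hkB ψ hψ E 𝒩 aR aT hyp z hz
  | succ n => exact mem_cobW_succ hkA hkB ψ hψ E 𝒩 aR aT hyp n z hz

/-- the homogeneous pieces of the cohomology -/
def HWgr (q : ℕ) (e : ℤ) : Set (HW hkA hkB ψ hψ E 𝒩 aT q) :=
  {x | ∃ z : ↥(cocW hkA hkB ψ hψ E 𝒩 aT q), z.1 ∈ W0gr hkA hkB ψ hψ (E.X q).gr 𝒩 e ∧
    Submodule.Quotient.mk z = x}

include hkT in
theorem lamH_image (q : ℕ) (e : ℤ) :
    (fun x => (lamH hkA hkB ψ hψ E 𝒩 aR aT hyp q x : (E.H aR q) ⊗[k] N)) ''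
        (HWgr hkA hkB ψ hψ E 𝒩 aT q e) =
      (GrSeg.segrePiece k (E.Hgr aR q) 𝒩 e : Set ((E.H aR q) ⊗[k] N)) := by
  apply Set.Subset.antisymm
  · rintro _ ⟨x, ⟨z, hz, rfl⟩, rfl⟩
    exact lamC_mem hkA hkB ψ hψ E 𝒩 aR aT hyp q e z hz
  · intro w hw
    refine Submodule.span_induction (p := fun w _ => w ∈
      (fun x => (lamH hkA hkB ψ hψ E 𝒩 aR aT hyp q x : (E.H aR q) ⊗[k] N)) ''
        (HWgr hkA hkB ψ hψ E 𝒩 aT q e)) ?_ ?_ ?_ ?_ hw
    · rintro _ ⟨x, hx, y, hy, rfl⟩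
      obtain ⟨z, hz, hzl⟩ := exists_lamC_eq hkA hkB ψ hψ E 𝒩 aR aT hyp q e x hx y hy
      exact ⟨Submodule.Quotient.mk z, ⟨z, hz, rfl⟩, hzl⟩
    · exact ⟨0, ⟨0, (W0gr hkA hkB ψ hψ (E.X q).gr 𝒩 e).zero_mem, rfl⟩, map_zero _⟩
    · rintro a b _ _ ⟨x, ⟨z, hz, rfl⟩, rfl⟩ ⟨x', ⟨z', hz', rfl⟩, rfl⟩
      refine ⟨Submodule.Quotient.mk (z + z'),
        ⟨z + z', (W0gr hkA hkB ψ hψ (E.X q).gr 𝒩 e).add_mem hz hz', rfl⟩, ?_⟩
      change lamH hkA hkB ψ hψ E 𝒩 aR aT hyp q (Submodule.Quotient.mk (z + z')) = _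
      rw [Submodule.Quotient.mk_add, map_add]
    · rintro c a _ ⟨x, ⟨z, hz, rfl⟩, rfl⟩
      refine ⟨Submodule.Quotient.mk (algebraMap k T c • z), ⟨algebraMap k T c • z, ?_, rfl⟩, ?_⟩
      · have h := SetLike.GradedSMul.smul_mem (A := 𝒯)
          (B := W0gr hkA hkB ψ hψ (E.X q).gr 𝒩) (hkT c) hz
        rw [vadd_eq_add, zero_add] at h
        exact h
      · change lamH hkA hkB ψ hψ E 𝒩 aR aT hyp q
          (Submodule.Quotient.mk (algebraMap k T c • z)) = _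
        rw [Submodule.Quotient.mk_smul, map_smul, algebraMap_smul]
        rfl

end Quot

end Groth.Agent.Lib.Helper20.SegBij
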