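import Mathlib
import Groth.Agent.Lib.Helper20.SegBij7

/-!
# `H^q_{T_+}(M # N) ≅ H^q_m(M) # N`: comparison with an arbitrary *injective resolution
-/

set_option autoImplicit false
set_option linter.unusedSectionVars false
set_option linter.unusedVariables false
set_option linter.style.haveILetI false

universe u

open TensorProduct DirectSum CategoryTheory

namespace Groth.Agent.Lib.Helper20.SegBij

open Groth.Agent.Lib.Helper26.GrProj Groth.Agent.Lib.Helper20.SegAc Groth.Agent.Lib.Helper20.GrKit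
  Groth.Agent.Lib.Helper20.SegTot

variable {k : Type u} [Field k] {R S T : Type u} [CommRing R] [CommRing S] [CommRing T]
  [Algebra k R] [Algebra k S] [Algebra k T]
  {𝒜 : ℤ → AddSubgroup R} [GradedRing 𝒜] (hkA : ∀ c : k, algebraMap k R c ∈ 𝒜 0)
  {ℬ : ℤ → AddSubgroup S} [GradedRing ℬ] (hkB : ∀ c : k, algebraMap k S c ∈ ℬ 0)
  {𝒯 : ℤ → AddSubgroup T} [GradedRing 𝒯] (hkT : ∀ c : k, algebraMap k T c ∈ 𝒯 0)
  (ψ : T →ₐ[k] R ⊗[k] S) (hψ : ∀ n t, t ∈ 𝒯 n → ψ t ∈ GrSeg.segrePiece k 𝒜 ℬ n)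
  {M : Type u} [AddCommGroup M] [Module R M] [Module k M] [IsScalarTower k R M]
  {ℳ : ℤ → AddSubgroup M}
  [DirectSum.Decomposition ℳ] [SetLike.GradedSMul 𝒜 ℳ]
  (E : GrLC.StarInjRes 𝒜 ℳ) [∀ i, Module k (E.X i).carrier]
  [∀ i, IsScalarTower k R (E.X i).carrier]
  {N : Type u} [AddCommGroup N] [Module S N] [Module k N] [IsScalarTower k S N]
  (𝒩 : ℤ → AddSubgroup N)
  [DirectSum.Decomposition 𝒩] [SetLike.GradedSMul ℬ 𝒩]
  (aR : HomogeneousIdeal 𝒜) (aT : HomogeneousIdeal 𝒯)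
  (hyp : TorsHyp1 (k := k) ψ E (N := N) aR aT)
  {P : Type u} [AddCommGroup P] [Module T P] [Module k P] [IsScalarTower k T P]
  {𝒬 : ℤ → AddSubgroup P} [DirectSum.Decomposition 𝒬] [SetLike.GradedSMul 𝒯 𝒬]
  (φ : P →ₗ[k] M ⊗[k] N) (hφi : Function.Injective φ)
  (hφp : ∀ n : ℤ, φ '' (𝒬 n : Set P) = (GrSeg.segrePiece k ℳ 𝒩 n : Set (M ⊗[k] N)))
  (hφs : ∀ (t : T) (p : P), φ (t • p) = GrSeg.act k R S M N (ψ t) (φ p))

include hkA hkB hψ hkT hyp hφi hφp hφs in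
theorem main_AS [IsNoetherianRing T] (F : GrLC.StarInjRes 𝒯 𝒬)
    (hacyc : ∀ (i j : ℕ), 1 ≤ j →
      Subsingleton (LocCoh.H aT.toIdeal j (TP ψ (E.X i).carrier N))) (q : ℕ) :
    ∃ Φ : F.H aT q →ₗ[T] TP ψ (E.H aR q) N, Function.Injective Φ ∧
      ∀ e : ℤ, (fun x => (Φ x : (E.H aR q) ⊗[k] N)) '' (F.Hgr aT q e : Set (F.H aT q)) =
        (GrSeg.segrePiece k (E.Hgr aR q) 𝒩 e : Set ((E.H aR q) ⊗[k] N)) := by
  let A := bijRes hkA hkB ψ hψ E 𝒩 φ hφi hφp hφs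
  obtain ⟨χ, hχ, hχ'⟩ := GrAcyc.acyclic_computes aT q P 𝒬 A
    (fun n => isAcyc_W0G hkA hkB ψ hψ (E.X n).gr 𝒩 aT (hacyc n)) F
  let L : A.H aT q →ₗ[T] TP ψ (E.H aR q) N := lamH hkA hkB ψ hψ E 𝒩 aR aT hyp q
  refine ⟨L ∘ₗ χ.symm.toLinearMap, ?_, ?_⟩
  · exact (lamH_injective hkA hkB ψ hψ E 𝒩 aR aT hyp q).comp χ.symm.injective
  · intro e
    have himg := lamH_image hkA hkB hkT ψ hψ E 𝒩 aR aT hyp q e
    rw [← himg]
    ext w
    constructor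
    · rintro ⟨x, hx, rfl⟩
      refine ⟨χ.symm x, ?_, rfl⟩
      exact hχ' e x hx
    · rintro ⟨x, hx, rfl⟩
      refine ⟨χ x, hχ e x hx, ?_⟩
      change (L (χ.symm (χ x)) : (E.H aR q) ⊗[k] N) = _
      rw [LinearEquiv.symm_apply_apply]
      rfl

end Groth.Agent.Lib.Helper20.SegBij
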