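import Mathlib
import Groth.Agent.Lib.Helper20.SegBij8
import Groth.Agent.Lib.Helper20.SegKun
import Groth.Agent.Lib.Helper20.SegCM4

/-!
# `H^q_{T_+}(M # N) ≅ H^q_m(M) # N` when a homogeneous element of positive degree acts bijectively
on `N`
-/

set_option autoImplicit false
set_option linter.unusedSectionVars false
set_option linter.unusedVariables false
set_option linter.style.haveILetI false

universe u

open TensorProduct DirectSum CategoryTheory

namespace Groth.Agent.Lib.Helper20.SegBij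

open Groth.Agent.Lib.Helper26.GrProj Groth.Agent.Lib.Helper20.SegAc Groth.Agent.Lib.Helper20.GrKit
  Groth.Agent.Lib.Helper20.SegTot Groth.Agent.Lib.Helper20.GrConv Groth.Agent.Lib.Helper20.SegKun

theorem module_eq_of_tower {k R H : Type u} [Field k] [CommRing R] [Algebra k R] [AddCommGroup H]
    [Module R H] (i1 i2 : Module k H) (h1 : @IsScalarTower k R H _ _ i1.toSMul)
    (h2 : @IsScalarTower k R H _ _ i2.toSMul) : i1 = i2 := by
  apply Module.ext'
  intro c x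
  have e1 : (letI := i1; c • x) = algebraMap k R c • x := by
    letI := i1
    haveI := h1
    exact (algebraMap_smul R c x).symm
  have e2 : (letI := i2; c • x) = algebraMap k R c • x := by
    letI := i2
    haveI := h2
    exact (algebraMap_smul R c x).symm
  exact e1.trans e2.symm

theorem algebraMap_mem_asGr' {k : Type u} [Field k] {R : Type u} [CommRing R] [Algebra k R]
    (𝒜 : ℤ → Submodule k R) [GradedAlgebra 𝒜] (c : k) : algebraMap k R c ∈ asGr 𝒜 0 := by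
  change algebraMap k R c ∈ 𝒜 0
  rw [Algebra.algebraMap_eq_smul_one]
  exact (𝒜 0).smul_mem c SetLike.GradedOne.one_mem

section Main

variable (k : Type u) [Field k] (R : Type u) [CommRing R] [Algebra k R]
  (𝒜 : ℤ → Submodule k R) [GradedAlgebra 𝒜] (hposR : ∀ n : ℤ, n < 0 → 𝒜 n = ⊥)
  (h0R : 𝒜 0 = Submodule.span k {(1 : R)}) [Algebra.FiniteType k R]
  (S : Type u) [CommRing S] [Algebra k S]
  (ℬ : ℤ → Submodule k S) [GradedAlgebra ℬ] (hposS : ∀ n : ℤ, n < 0 → ℬ n = ⊥)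
  (h0S : ℬ 0 = Submodule.span k {(1 : S)}) [Algebra.FiniteType k S]
  (T : Type u) [CommRing T] [Algebra k T] (𝒯 : ℤ → Submodule k T) [GradedAlgebra 𝒯]
  (ψ : T →ₐ[k] R ⊗[k] S) (hT : GrSeg.IsSegreRing 𝒜 ℬ 𝒯 ψ)
  (mR : HomogeneousIdeal 𝒜)
  (hmR : mR.toIdeal = Ideal.span (⋃ n ∈ Set.Ioi (0 : ℤ), (𝒜 n : Set R)))
  (mT : HomogeneousIdeal 𝒯)
  (hmT : mT.toIdeal = Ideal.span (⋃ n ∈ Set.Ioi (0 : ℤ), (𝒯 n : Set T)))
  (M : Type u) [AddCommGroup M] [Module R M] [Module k M] [IsScalarTower k R M]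
  (ℳ : ℤ → AddSubgroup M) [DirectSum.Decomposition ℳ] [SetLike.GradedSMul 𝒜 ℳ]
  (EM : GrLC.StarInjRes 𝒜 ℳ)
  (N : Type u) [AddCommGroup N] [Module S N] [Module k N] [IsScalarTower k S N]
  (𝒩 : ℤ → AddSubgroup N) [DirectSum.Decomposition 𝒩] [SetLike.GradedSMul ℬ 𝒩]
  (e : ℕ) (he : 0 < e) (g : S) (hg : g ∈ ℬ (e : ℤ))
  (hgN : Function.Bijective (fun y : N => g • y))
  (P : Type u) [AddCommGroup P] [Module T P] [Module k P] [IsScalarTower k T P]
  (𝒬 : ℤ → AddSubgroup P) [DirectSum.Decomposition 𝒬] [SetLike.GradedSMul 𝒯 𝒬]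
  (φ : P →ₗ[k] M ⊗[k] N) (hP : GrSeg.IsSegreMod ψ ℳ 𝒩 𝒬 φ) (EP : GrLC.StarInjRes 𝒯 𝒬)
  (q : ℕ)

include hposR h0R hposS h0S hT hmR hmT he hg hgN hP in
/-- the version with the canonical `k`-structure on `H^q_m(M)` -/
theorem main_aux :
    letI : ∀ i, Module k ((resToAS EM).X i).carrier :=
      fun i => Module.compHom ((resToAS EM).X i).carrier (algebraMap k R)
    haveI : ∀ i, IsScalarTower k R ((resToAS EM).X i).carrier := fun i => ⟨fun c r x => by
      change (c • r) • x = algebraMap k R c • (r • x)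
      rw [Algebra.smul_def, mul_smul]⟩
    ∃ Φ : EP.H mT q →ₗ[T] TP ψ ((resToAS EM).H (idealToAS 𝒜 mR) q) N, Function.Injective Φ ∧
      ∀ d : ℤ, (fun x => (Φ x : ((resToAS EM).H (idealToAS 𝒜 mR) q) ⊗[k] N)) ''
          (EP.Hgr mT q d : Set (EP.H mT q)) =
        (GrSeg.segrePiece k ((resToAS EM).Hgr (idealToAS 𝒜 mR) q) (asGrM 𝒩) d :
          Set (((resToAS EM).H (idealToAS 𝒜 mR) q) ⊗[k] N)) := by
  letI : ∀ i, Module k ((resToAS EM).X i).carrier :=
    fun i => Module.compHom ((resToAS EM).X i).carrier (algebraMap k R)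
  haveI : ∀ i, IsScalarTower k R ((resToAS EM).X i).carrier := fun i => ⟨fun c r x => by
    change (c • r) • x = algebraMap k R c • (r • x)
    rw [Algebra.smul_def, mul_smul]⟩
  haveI : IsNoetherianRing R := Algebra.FiniteType.isNoetherianRing k R
  haveI : IsNoetherianRing S := Algebra.FiniteType.isNoetherianRing k S
  haveI : IsNoetherianRing (R ⊗[k] S) := Algebra.FiniteType.isNoetherianRing k _
  haveI : IsNoetherianRing T :=
    Groth.Agent.S18646.result k R 𝒜 hposR h0R S ℬ hposS h0S T 𝒯 ψ hT.1 hT.2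
  let mS : HomogeneousIdeal ℬ := Groth.Agent.Lib.Helper20.SegCM.irrH ℬ
  have hmS : mS.toIdeal = Ideal.span (⋃ n ∈ Set.Ioi (0 : ℤ), (ℬ n : Set S)) :=
    Groth.Agent.Lib.Helper20.SegCM.irrH_toIdeal ℬ
  have hgm : g ∈ mS.toIdeal := by
    rw [hmS]
    apply Ideal.subset_span
    simp only [Set.mem_iUnion, Set.mem_Ioi, SetLike.mem_coe, exists_prop]
    exact ⟨(e : ℤ), by exact_mod_cast he, hg⟩
  have hψ' : ∀ n t, t ∈ asGr 𝒯 n → ψ t ∈ GrSeg.segrePiece k (asGr 𝒜) (asGr ℬ) n := by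
    intro n t ht
    have h1 : ψ t ∈ (𝒯 n).map ψ.toLinearMap := ⟨t, ht, rfl⟩
    rw [hT.2 n] at h1
    exact h1
  have hφp' : ∀ n : ℤ, φ '' (asGrM 𝒬 n : Set P) =
      (GrSeg.segrePiece k (asGrM ℳ) (asGrM 𝒩) n : Set (M ⊗[k] N)) := hP.image_piece
  have hgam0 : ∀ y : N, y ∈ GrLC.gam mS.toIdeal N → y = 0 :=
    fun y hy => gam_eq_zero mS.toIdeal N g hgm hgN y hy
  have hyp : TorsHyp1 (k := k) ψ (resToAS EM) (N := N) (idealToAS 𝒜 mR) (idealToAS 𝒯 mT) := by
    intro i z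
    have key := mem_gam_TP_iff 𝒜 ℬ 𝒯 ψ hT mR hmR mS hmS mT hmT
      ((resToAS EM).X i).carrier N z
    constructor
    · intro hz
      obtain ⟨v, w, hvw⟩ := key.1 hz
      have hw0 : ∀ w : ((resToAS EM).X i).carrier ⊗[k] ↥(GrLC.gam mS.toIdeal N), w = 0 := by
        intro w
        induction w using TensorProduct.induction_on with
        | zero => rfl
        | tmul x y =>
          have : y = 0 := Subtype.ext (hgam0 y.1 y.2)
          rw [this, TensorProduct.tmul_zero]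
        | add a b ha hb => rw [ha, hb, add_zero]
      have hw' : w = 0 := hw0 w
      rw [hw', map_zero, add_zero] at hvw
      exact ⟨v, hvw.symm⟩
    · rintro ⟨v, hv⟩
      apply key.2
      refine ⟨v, 0, ?_⟩
      rw [map_zero, add_zero]
      exact hv.symm
  have hacyc : ∀ (i j : ℕ), 1 ≤ j → Subsingleton (LocCoh.H (idealToAS 𝒯 mT).toIdeal j
      (TP ψ ((resToAS EM).X i).carrier N)) := by
    intro i
    exact subsingleton_TP 𝒜 ℬ 𝒯 ψ hT mR hmR mS hmS mT hmT ((resToAS EM).X i).carrier N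
      (fun j hj => localCohomology_subsingleton (asGr 𝒜) ((resToAS EM).X i).gr
        ((resToAS EM).starInj i) (idealToAS 𝒜 mR) j hj)
      (fun j _ => subsingleton_H mS.toIdeal N g hgm hgN j)
  exact main_AS (algebraMap_mem_asGr' 𝒜) (algebraMap_mem_asGr' ℬ) (algebraMap_mem_asGr' 𝒯) ψ hψ'
    (resToAS EM) (asGrM 𝒩) (idealToAS 𝒜 mR) (idealToAS 𝒯 mT) hyp φ hP.injective hφp' hP.map_smul
    (resToAS EP) hacyc q

end Main

end Groth.Agent.Lib.Helper20.SegBij
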