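import Mathlib
import Groth.Prelude.Def_GrSeg
import Groth.Agent.Lib.Helper20.SegMod
import Groth.Agent.Lib.Helper20.SegGr

/-!
# Cyclic Segre products of modules
-/

set_option autoImplicit false
set_option linter.unusedSectionVars false
universe u
open scoped TensorProduct

namespace Groth.Agent.Lib.Helper20.SegCyc

open Groth.Agent.Lib.Helper20.SegDim Groth.Agent.Lib.Helper20.SegMod
  Groth.Agent.Lib.Helper20.SegGr Groth.Agent.Lib.Helper20.SegWeight GrSeg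

variable {k : Type u} [Field k] {R : Type u} [CommRing R] [Algebra k R]
  (𝒜 : ℤ → Submodule k R) [GradedAlgebra 𝒜]
  {S : Type u} [CommRing S] [Algebra k S] (ℬ : ℤ → Submodule k S) [GradedAlgebra ℬ]
  {T : Type u} [CommRing T] [Algebra k T] (𝒯 : ℤ → Submodule k T) [GradedAlgebra 𝒯]
  (ψ : T →ₐ[k] R ⊗[k] S)
  {M : Type u} [AddCommGroup M] [Module R M] [Module k M] [IsScalarTower k R M]
  (ℳ : ℤ → AddSubgroup M) [DirectSum.Decomposition ℳ] [SetLike.GradedSMul 𝒜 ℳ]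
  {N : Type u} [AddCommGroup N] [Module S N] [Module k N] [IsScalarTower k S N]
  (𝒩 : ℤ → AddSubgroup N) [DirectSum.Decomposition 𝒩] [SetLike.GradedSMul ℬ 𝒩]
  {P : Type u} [AddCommGroup P] [Module T P] [Module k P] [IsScalarTower k T P]
  (𝒬 : ℤ → AddSubgroup P) [DirectSum.Decomposition 𝒬] (φ : P →ₗ[k] M ⊗[k] N)

/-- the degree `(m, m)` part of `R ⊗ S` maps `M_n ⊗ N_n` into `M_{m+n} ⊗ N_{m+n}` -/
theorem act_mem_segrePiece {m n : ℤ} {c : R ⊗[k] S} (hc : c ∈ biPiece 𝒜 ℬ m m)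
    {z : M ⊗[k] N} (hz : z ∈ segrePiece k ℳ 𝒩 n) :
    act k R S M N c z ∈ segrePiece k ℳ 𝒩 (m + n) := by
  induction hc using Submodule.span_induction with
  | mem c hc =>
    obtain ⟨a, ha, b, hb, rfl⟩ := hc
    induction hz using Submodule.span_induction with
    | mem z hz =>
      obtain ⟨x, hx, y, hy, rfl⟩ := hz
      rw [act_tmul]
      exact Submodule.subset_span ⟨_, SetLike.GradedSMul.smul_mem ha hx, _,
        SetLike.GradedSMul.smul_mem hb hy, rfl⟩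
    | zero => rw [map_zero]; exact Submodule.zero_mem _
    | add x y _ _ hx hy => rw [map_add]; exact Submodule.add_mem _ hx hy
    | smul l x _ hx => rw [map_smul]; exact Submodule.smul_mem _ l hx
  | zero => rw [map_zero, LinearMap.zero_apply]; exact Submodule.zero_mem _
  | add x y _ _ hx hy => rw [map_add, LinearMap.add_apply]; exact Submodule.add_mem _ hx hy
  | smul l x _ hx => rw [map_smul, LinearMap.smul_apply]; exact Submodule.smul_mem _ l hx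

/-- `M # N` is a graded `R # S`-module. -/
theorem gradedSMul (hdegT : ∀ n : ℤ, (𝒯 n).map ψ.toLinearMap = biPiece 𝒜 ℬ n n)
    (hP : IsSegreMod ψ ℳ 𝒩 𝒬 φ) : SetLike.GradedSMul 𝒯 𝒬 where
  smul_mem := by
    intro i j t p ht hp
    have h1 : ψ t ∈ biPiece 𝒜 ℬ i i := by
      rw [← hdegT i]
      exact Submodule.mem_map_of_mem ht
    have h2 : φ p ∈ segrePiece k ℳ 𝒩 j := by
      rw [← SetLike.mem_coe, ← hP.image_piece j]
      exact ⟨p, hp, rfl⟩
    have h3 := act_mem_segrePiece 𝒜 ℬ ℳ 𝒩 h1 h2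
    rw [← hP.map_smul, ← SetLike.mem_coe, ← hP.image_piece (i + j)] at h3
    obtain ⟨q, hq, hqp⟩ := h3
    rw [← hP.injective hqp]
    exact hq

/-- If `x # y` generates `M # N` and `N_m ≠ 0` for `m ≥ n`, then `R_d x = M_{n+d}`. -/
theorem exists_smul_eq (hdegT : ∀ n : ℤ, (𝒯 n).map ψ.toLinearMap = biPiece 𝒜 ℬ n n)
    (hP : IsSegreMod ψ ℳ 𝒩 𝒬 φ) (n : ℤ) (hNn : ∀ m : ℤ, n ≤ m → 𝒩 m ≠ ⊥) (x : M)
    (hx : x ∈ ℳ n) (y : N) (hy : y ∈ 𝒩 n) (p : P) (hp : φ p = x ⊗ₜ[k] y)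
    (hgen : Submodule.span T {p} = ⊤) (d : ℤ) (hd : 0 ≤ d) (z : M) (hz : z ∈ ℳ (n + d)) :
    ∃ r ∈ 𝒜 d, r • x = z := by
  classical
  haveI := gradedSMul 𝒜 ℬ 𝒯 ψ ℳ 𝒩 𝒬 φ hdegT hP
  obtain ⟨y', hy', hy'0⟩ : ∃ y' ∈ 𝒩 (n + d), y' ≠ 0 := by
    have := hNn (n + d) (by omega)
    rw [Ne, AddSubgroup.eq_bot_iff_forall] at this
    push Not at this
    exact this
  obtain ⟨l, hl⟩ : ∃ l : Module.Dual k N, l y' = 1 := by
    have := (Module.forall_dual_apply_eq_zero_iff k y').not.2 hy'0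
    push Not at this
    obtain ⟨l, hl⟩ := this
    exact ⟨(l y')⁻¹ • l, by simp [hl]⟩
  have hzy : z ⊗ₜ[k] y' ∈ segrePiece k ℳ 𝒩 (n + d) :=
    Submodule.subset_span ⟨z, hz, y', hy', rfl⟩
  rw [← SetLike.mem_coe, ← hP.image_piece] at hzy
  obtain ⟨q, hq, hφq⟩ := hzy
  have hqs : q ∈ Submodule.span T {p} := by rw [hgen]; trivial
  obtain ⟨t, rfl⟩ := Submodule.mem_span_singleton.1 hqs
  have hpn : p ∈ 𝒬 n := by
    have : x ⊗ₜ[k] y ∈ segrePiece k ℳ 𝒩 n := Submodule.subset_span ⟨x, hx, y, hy, rfl⟩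
    rw [← SetLike.mem_coe, ← hP.image_piece] at this
    obtain ⟨p', hp', h⟩ := this
    rw [← hp] at h
    rwa [← hP.injective h]
  have hcomp : t • p = (DirectSum.decompose 𝒯 t d : T) • p := by
    have h1 := decompose_smul_of_mem 𝒯 𝒬 hpn t d
    rw [← h1, add_comm d n, DirectSum.decompose_of_mem_same 𝒬 hq]
  have hψ : ψ (DirectSum.decompose 𝒯 t d : T) ∈ biPiece 𝒜 ℬ d d := by
    rw [← hdegT d]
    exact Submodule.mem_map_of_mem (SetLike.coe_mem _)
  let L : M ⊗[k] N →ₗ[k] M :=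
    (TensorProduct.rid k M).toLinearMap ∘ₗ (TensorProduct.map LinearMap.id l)
  have hL : ∀ (m : M) (n' : N), L (m ⊗ₜ[k] n') = l n' • m := by
    intro m n'
    simp [L]
  have claim : ∀ c ∈ biPiece 𝒜 ℬ d d,
      ∃ r ∈ 𝒜 d, L (act k R S M N c (x ⊗ₜ[k] y)) = r • x := by
    intro c hc
    induction hc using Submodule.span_induction with
    | mem c hc =>
      obtain ⟨a, ha, b, hb, rfl⟩ := hc
      refine ⟨l (b • y) • a, Submodule.smul_mem _ _ ha, ?_⟩
      rw [act_tmul, hL, smul_assoc]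
    | zero => exact ⟨0, Submodule.zero_mem _, by simp⟩
    | add c c' _ _ hc hc' =>
      obtain ⟨r, hr, h⟩ := hc
      obtain ⟨r', hr', h'⟩ := hc'
      exact ⟨r + r', Submodule.add_mem _ hr hr', by
        rw [map_add, LinearMap.add_apply, map_add, h, h', add_smul]⟩
    | smul l' c _ hc =>
      obtain ⟨r, hr, h⟩ := hc
      exact ⟨l' • r, Submodule.smul_mem _ l' hr, by
        rw [map_smul, LinearMap.smul_apply, map_smul, h, smul_assoc]⟩
  obtain ⟨r, hr, hrx⟩ := claim _ hψ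
  refine ⟨r, hr, ?_⟩
  rw [← hrx, ← hp, ← hP.map_smul, ← hcomp, hφq, hL, hl, one_smul]

end Groth.Agent.Lib.Helper20.SegCyc
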