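import Mathlib
import Groth.Prelude.Def_GrSeg
import Groth.Agent.Lib.Helper20.SegMod
import Groth.Agent.Lib.Helper20.SegGr

/-!
# Segre products of modules: homogeneous bijective multiplications, cyclic Segre products
-/

set_option autoImplicit false
set_option linter.unusedSectionVars false
universe u
open scoped TensorProduct

namespace Groth.Agent.Lib.Helper20.SegMisc

open Groth.Agent.Lib.Helper20.SegDim Groth.Agent.Lib.Helper20.SegMod
  Groth.Agent.Lib.Helper20.SegGr Groth.Agent.Lib.Helper20.SegWeight GrSeg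

section Gr

variable {k : Type u} [Field k] {R : Type u} [CommRing R] [Algebra k R]
  (𝒜 : ℤ → Submodule k R) [GradedAlgebra 𝒜]
  {M : Type u} [AddCommGroup M] [Module R M] (ℳ : ℤ → AddSubgroup M)
  [DirectSum.Decomposition ℳ] [SetLike.GradedSMul 𝒜 ℳ]

theorem decompose_smul_of_mem_left {c : ℤ} {f : R} (hf : f ∈ 𝒜 c) (x : M) (m : ℤ) :
    (DirectSum.decompose ℳ (f • x) (c + m) : M) = f • (DirectSum.decompose ℳ x m : M) := by
  classical
  induction x using DirectSum.Decomposition.inductionOn ℳ with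
  | zero => simp
  | add x y hx hy =>
    rw [smul_add, DirectSum.decompose_add, DirectSum.add_apply, AddSubgroup.coe_add, hx, hy,
      DirectSum.decompose_add, DirectSum.add_apply, AddSubgroup.coe_add, smul_add]
  | homogeneous x =>
    rename_i j
    have hmem : f • (x : M) ∈ ℳ (c + j) := SetLike.GradedSMul.smul_mem hf x.2
    by_cases hjm : j = m
    · subst hjm
      rw [DirectSum.decompose_of_mem_same ℳ hmem, DirectSum.decompose_of_mem_same ℳ x.2]
    · rw [DirectSum.decompose_of_mem_ne ℳ hmem (by omega),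
        DirectSum.decompose_of_mem_ne ℳ x.2 hjm, smul_zero]

/-- The preimage of a homogeneous element under an injective homogeneous multiplication is
homogeneous. -/
theorem mem_of_smul_mem {c : ℤ} {f : R} (hf : f ∈ 𝒜 c)
    (hinj : Function.Injective (fun x : M => f • x)) {n : ℤ} {x : M} (hx : f • x ∈ ℳ (c + n)) :
    x ∈ ℳ n := by
  classical
  have h0 : ∀ m : ℤ, m ≠ n → (DirectSum.decompose ℳ x m : M) = 0 := by
    intro m hm
    apply hinj
    show f • (DirectSum.decompose ℳ x m : M) = f • (0 : M)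
    rw [← decompose_smul_of_mem_left 𝒜 ℳ hf, smul_zero,
      DirectSum.decompose_of_mem_ne ℳ hx (by omega)]
  have hxn : x = (DirectSum.decompose ℳ x n : M) := by
    conv_lhs => rw [← DirectSum.sum_support_decompose ℳ x]
    refine Finset.sum_eq_single n (fun m _ hm => h0 m hm) (fun hn => ?_)
    rw [DFinsupp.notMem_support_iff] at hn
    rw [hn]
    rfl
  rw [hxn]
  exact SetLike.coe_mem _

end Gr

section Main

variable {k : Type u} [Field k] {R : Type u} [CommRing R] [Algebra k R]
  (𝒜 : ℤ → Submodule k R) [GradedAlgebra 𝒜]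
  {S : Type u} [CommRing S] [Algebra k S] (ℬ : ℤ → Submodule k S) [GradedAlgebra ℬ]
  {T : Type u} [CommRing T] [Algebra k T] (𝒯 : ℤ → Submodule k T) [GradedAlgebra 𝒯]
  (ψ : T →ₐ[k] R ⊗[k] S)
  {M : Type u} [AddCommGroup M] [Module R M] [Module k M] [IsScalarTower k R M]
  (ℳ : ℤ → AddSubgroup M) [DirectSum.Decomposition ℳ] [SetLike.GradedSMul 𝒜 ℳ]
  {N : Type u} [AddCommGroup N] [Module S N] [Module k N] [IsScalarTower k S N]
  (𝒩 : ℤ → AddSubgroup N) [DirectSum.Decomposition 𝒩] [SetLike.GradedSMul ℬ 𝒩]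
  {P : Type u} [AddCommGroup P] [Module T P] [Module k P] [IsScalarTower k T P]
  (𝒬 : ℤ → AddSubgroup P) [DirectSum.Decomposition 𝒬] (φ : P →ₗ[k] M ⊗[k] N)

/-- the `k`-linear automorphism given by a bijective multiplication -/
noncomputable def smulEquiv (f : R) (hf : Function.Bijective (fun x : M => f • x)) : M ≃ₗ[k] M :=
  LinearEquiv.ofBijective (Algebra.lsmul k k M f) hf

theorem smulEquiv_apply (f : R) (hf : Function.Bijective (fun x : M => f • x)) (x : M) :
    smulEquiv (k := k) f hf x = f • x := rfl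

theorem smul_smulEquiv_symm (f : R) (hf : Function.Bijective (fun x : M => f • x)) (x : M) :
    f • (smulEquiv (k := k) f hf).symm x = x :=
  (smulEquiv (k := k) f hf).apply_symm_apply x

theorem act_tmul_eq (f : R) (hf : Function.Bijective (fun x : M => f • x)) (g : S)
    (hg : Function.Bijective (fun y : N => g • y)) (z : M ⊗[k] N) :
    act k R S M N (f ⊗ₜ[k] g) z =
      TensorProduct.congr (smulEquiv (k := k) f hf) (smulEquiv (k := k) g hg) z := by
  induction z using TensorProduct.induction_on with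
  | zero => simp
  | add x y hx hy => rw [map_add, map_add, hx, hy]
  | tmul m n => rw [act_tmul, TensorProduct.congr_tmul, smulEquiv_apply, smulEquiv_apply]

theorem exists_bijective_smul
    (hdegT : ∀ n : ℤ, (𝒯 n).map ψ.toLinearMap = biPiece 𝒜 ℬ n n)
    (hP : IsSegreMod ψ ℳ 𝒩 𝒬 φ) (d : ℕ) (hd : 0 < d) (f : R) (hf : f ∈ 𝒜 (d : ℤ))
    (hfM : Function.Bijective (fun x : M => f • x)) (e : ℕ) (he : 0 < e) (g : S)
    (hg : g ∈ ℬ (e : ℤ)) (hgN : Function.Bijective (fun y : N => g • y)) :
    ∃ (c : ℤ) (t : T), 0 < c ∧ t ∈ 𝒯 c ∧ Function.Bijective (fun p : P => t • p) := by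
  classical
  set c : ℤ := (d : ℤ) * (e : ℤ) with hc
  have hcpos : 0 < c := by positivity
  have hf' : f ^ e ∈ 𝒜 c := by
    have := SetLike.pow_mem_graded e hf
    rwa [nsmul_eq_mul, mul_comm] at this
  have hg' : g ^ d ∈ ℬ c := by
    have := SetLike.pow_mem_graded d hg
    rwa [nsmul_eq_mul] at this
  have hfM' : Function.Bijective (fun x : M => f ^ e • x) := by
    rw [← smul_iterate]
    exact hfM.iterate e
  have hgN' : Function.Bijective (fun y : N => g ^ d • y) := by
    rw [← smul_iterate]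
    exact hgN.iterate d
  obtain ⟨t, ht, hψt⟩ : ∃ t ∈ 𝒯 c, ψ t = (f ^ e) ⊗ₜ[k] (g ^ d) := by
    have : (f ^ e) ⊗ₜ[k] (g ^ d) ∈ (𝒯 c).map ψ.toLinearMap := by
      rw [hdegT c]
      exact tmul_mem_biPiece hf' hg'
    obtain ⟨t, ht, h⟩ := this
    exact ⟨t, ht, h⟩
  set E := TensorProduct.congr (smulEquiv (k := k) (f ^ e) hfM') (smulEquiv (k := k) (g ^ d) hgN')
    with hE
  have hφt : ∀ p : P, φ (t • p) = E (φ p) := by
    intro p
    rw [hP.map_smul, hψt, act_tmul_eq _ hfM' _ hgN']
  refine ⟨c, t, hcpos, ht, ?_, ?_⟩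
  · intro p p' h
    apply hP.injective
    apply E.injective
    rw [← hφt, ← hφt]
    exact congrArg φ h
  · intro q
    induction q using DirectSum.Decomposition.inductionOn 𝒬 with
    | zero => exact ⟨0, smul_zero _⟩
    | add q q' hq hq' =>
      obtain ⟨p, rfl⟩ := hq
      obtain ⟨p', rfl⟩ := hq'
      exact ⟨p + p', smul_add _ _ _⟩
    | homogeneous q =>
      rename_i n
      have h1 : φ q ∈ segrePiece k ℳ 𝒩 n := by
        rw [← SetLike.mem_coe, ← hP.image_piece n]
        exact ⟨q, q.2, rfl⟩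
      have h2 : ∀ z ∈ segrePiece k ℳ 𝒩 n, E.symm z ∈ segrePiece k ℳ 𝒩 (n - c) := by
        intro z hz
        induction hz using Submodule.span_induction with
        | mem z hz =>
          obtain ⟨x, hx, y, hy, rfl⟩ := hz
          rw [hE, TensorProduct.congr_symm_tmul]
          apply Submodule.subset_span
          refine ⟨_, ?_, _, ?_, rfl⟩
          · apply mem_of_smul_mem 𝒜 ℳ hf' hfM'.1
            rw [smul_smulEquiv_symm, add_sub_cancel]
            exact hx
          · apply mem_of_smul_mem ℬ 𝒩 hg' hgN'.1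
            rw [smul_smulEquiv_symm, add_sub_cancel]
            exact hy
        | zero => rw [map_zero]; exact Submodule.zero_mem _
        | add x y _ _ hx hy => rw [map_add]; exact Submodule.add_mem _ hx hy
        | smul l x _ hx => rw [map_smul]; exact Submodule.smul_mem _ l hx
      have h3 := h2 _ h1
      rw [← SetLike.mem_coe, ← hP.image_piece (n - c)] at h3
      obtain ⟨p, -, hp⟩ := h3
      refine ⟨p, hP.injective ?_⟩
      show φ (t • p) = φ q
      rw [hφt, hp, LinearEquiv.apply_symm_apply]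

end Main

end Groth.Agent.Lib.Helper20.SegMisc
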