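import Mathlib
import Groth.Agent.Lib.Helper20.SegTrdeg
import Groth.Agent.Lib.Helper20.CoordChange

/-!
# One-dimensional graded domains over an algebraically closed field: pieces are lines
-/

set_option autoImplicit false
set_option linter.unusedSectionVars false
universe u

namespace Groth.Agent.Lib.Helper20.SemiGrp

open MvPolynomial

section Two

variable {k : Type u} [Field k] {A : Type*} [CommRing A] [Algebra k A]

theorem aeval_two (P : MvPolynomial (Fin 2) k) (x y : A) :
    aeval ![x, y] P = ∑ m ∈ P.support, (coeff m P) • (x ^ m 0 * y ^ m 1) := by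
  conv_lhs => rw [← support_sum_monomial_coeff P, map_sum]
  refine Finset.sum_congr rfl fun m _ => ?_
  rw [aeval_monomial, Finsupp.prod_fintype _ _ (fun i => pow_zero _), Fin.prod_univ_two,
    Algebra.smul_def]
  rfl

theorem weight_two (m : Fin 2 →₀ ℕ) : Finsupp.weight (1 : Fin 2 → ℕ) m = m 0 + m 1 := by
  rw [Finsupp.weight_apply, Finsupp.sum_fintype _ _ (fun i => by simp), Fin.sum_univ_two]
  simp

end Two

section Graded

variable {k : Type u} [Field k] {R : Type u} [CommRing R] [Algebra k R]
  (𝒜 : ℤ → Submodule k R) [GradedAlgebra 𝒜]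

theorem aeval_two_mem (P : MvPolynomial (Fin 2) k) (d : ℕ) (hP : P.IsHomogeneous d) (n : ℤ)
    {x y : R} (hx : x ∈ 𝒜 n) (hy : y ∈ 𝒜 n) : aeval ![x, y] P ∈ 𝒜 (d * n) := by
  rw [aeval_two]
  refine Submodule.sum_mem _ fun m hm => Submodule.smul_mem _ _ ?_
  have hdeg : m 0 + m 1 = d := by
    have := hP (mem_support_iff.1 hm)
    rwa [weight_two] at this
  have h1 := SetLike.pow_mem_graded (m 0) hx
  have h2 := SetLike.pow_mem_graded (m 1) hy
  have h3 := SetLike.GradedMul.mul_mem h1 h2
  have e : (m 0 • n + m 1 • n : ℤ) = d * n := by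
    rw [← hdeg]; push_cast; simp only [nsmul_eq_mul]; ring
  rwa [e] at h3

/-- a polynomial relation between two elements of the same positive degree yields a homogeneous
one -/
theorem exists_homogeneous_relation {n : ℤ} (hn : 0 < n) {x y : R} (hx : x ∈ 𝒜 n) (hy : y ∈ 𝒜 n)
    (P : MvPolynomial (Fin 2) k) (hP0 : P ≠ 0) (hP : aeval ![x, y] P = 0) :
    ∃ (d : ℕ) (Q : MvPolynomial (Fin 2) k), Q.IsHomogeneous d ∧ Q ≠ 0 ∧ aeval ![x, y] Q = 0 := by
  classical
  have hsum := sum_homogeneousComponent P
  have hex : ∃ d, homogeneousComponent d P ≠ 0 := by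
    by_contra hno
    push Not at hno
    apply hP0
    rw [← hsum]
    exact Finset.sum_eq_zero fun d _ => hno d
  obtain ⟨d, hd⟩ := hex
  refine ⟨d, homogeneousComponent d P, homogeneousComponent_isHomogeneous d P, hd, ?_⟩
  have hmem : ∀ e : ℕ, aeval ![x, y] (homogeneousComponent e P) ∈ 𝒜 (e * n) := fun e =>
    aeval_two_mem 𝒜 _ e (homogeneousComponent_isHomogeneous e P) n hx hy
  have h0 : ∑ e ∈ Finset.range (P.totalDegree + 1), aeval ![x, y] (homogeneousComponent e P) = 0 := by
    rw [← map_sum, hsum, hP]
  have h1 := congrArg (GradedRing.proj 𝒜 (d * n)) h0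
  rw [map_sum, map_zero] at h1
  by_cases hdr : d ∈ Finset.range (P.totalDegree + 1)
  · rw [Finset.sum_eq_single d] at h1
    · rwa [GradedRing.proj_apply, DirectSum.decompose_of_mem_same 𝒜 (hmem d)] at h1
    · intro e _ hed
      rw [GradedRing.proj_apply, DirectSum.decompose_of_mem_ne 𝒜 (hmem e)]
      intro h
      apply hed
      have : (e : ℤ) = d := by
        have hn' : n ≠ 0 := ne_of_gt hn
        exact mul_right_cancel₀ hn' h
      exact_mod_cast this
    · intro h; exact absurd hdr h
  · exfalso
    apply hd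
    rw [Finset.mem_range, not_lt] at hdr
    exact homogeneousComponent_eq_zero _ _ (by omega)

end Graded

section Dehom

variable {k : Type u} [Field k] [IsAlgClosed k] {R : Type u} [CommRing R] [IsDomain R] [Algebra k R]

/-- a homogeneous binary relation over an algebraically closed field forces proportionality -/
theorem exists_smul_eq_of_homogeneous_relation {x y : R} (hy : y ≠ 0) (d : ℕ)
    (Q : MvPolynomial (Fin 2) k) (hQ : Q.IsHomogeneous d) (hQ0 : Q ≠ 0)
    (hrel : aeval ![x, y] Q = 0) : ∃ c : k, x = c • y := by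
  classical
  let K := FractionRing R
  set X : K := algebraMap R K x with hX
  set Y : K := algebraMap R K y with hY
  have hY0 : Y ≠ 0 := by
    rw [hY]
    exact (map_ne_zero_iff _ (IsFractionRing.injective R K)).2 hy
  set t : K := X / Y with ht
  have h1 : aeval ![X, Y] Q = 0 := by
    have := aeval_algebraMap_apply K ![x, y] Q
    rw [hrel, map_zero] at this
    have hfun : (algebraMap R K ∘ ![x, y]) = ![X, Y] := by
      funext i
      fin_cases i <;> rfl
    rw [hfun] at this
    exact this
  have h2 : aeval ![t, 1] Q = 0 := by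
    have h3 := Groth.Agent.Lib.Helper20.CoordChange.aeval_smul_of_homogeneous Q d hQ Y ![t, 1]
    have h4 : (fun i => Y * (![t, 1] : Fin 2 → K) i) = ![X, Y] := by
      funext i
      fin_cases i
      · show Y * (X / Y) = X
        rw [mul_comm, div_mul_cancel₀ _ hY0]
      · show Y * 1 = Y
        rw [mul_one]
    rw [h4, h1] at h3
    exact (mul_eq_zero.1 h3.symm).resolve_left (pow_ne_zero _ hY0)
  set q : Polynomial k := aeval ![(Polynomial.X : Polynomial k), 1] Q with hq
  have hqt : Polynomial.aeval t q = 0 := by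
    have h5 := comp_aeval (R := k) ![(Polynomial.X : Polynomial k), 1] (Polynomial.aeval t)
    have h6 : Polynomial.aeval t q = aeval (fun i => Polynomial.aeval t
        ((![(Polynomial.X : Polynomial k), 1] : Fin 2 → Polynomial k) i)) Q := by
      rw [← h5]; rfl
    rw [h6]
    have h7 : (fun i => Polynomial.aeval t
        ((![(Polynomial.X : Polynomial k), 1] : Fin 2 → Polynomial k) i)) = ![t, 1] := by
      funext i
      fin_cases i
      · show Polynomial.aeval t Polynomial.X = t
        rw [Polynomial.aeval_X]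
      · show Polynomial.aeval t 1 = 1
        rw [map_one]
    rw [h7, h2]
  have hq0 : q ≠ 0 := by
    obtain ⟨m₀, hm₀⟩ : ∃ m₀, m₀ ∈ Q.support := by
      by_contra hno
      push Not at hno
      apply hQ0
      rw [← support_eq_empty]
      exact Finset.eq_empty_of_forall_notMem hno
    have hdeg : ∀ m ∈ Q.support, m 0 + m 1 = d := by
      intro m hm
      have := hQ (mem_support_iff.1 hm)
      rwa [weight_two] at this
    intro hq0
    have hc : Polynomial.coeff q (m₀ 0) = coeff m₀ Q := by
      rw [hq, aeval_two]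
      simp only [one_pow, mul_one, Polynomial.finsetSum_coeff, Polynomial.coeff_smul,
        Polynomial.coeff_X_pow, smul_eq_mul]
      rw [Finset.sum_eq_single m₀]
      · simp
      · intro m hm hne
        rw [if_neg, mul_zero]
        intro h0
        apply hne
        have hm1 : m 1 = m₀ 1 := by
          have := hdeg m hm
          have := hdeg m₀ hm₀
          omega
        ext i
        fin_cases i
        · exact h0.symm
        · exact hm1
      · intro h; exact absurd hm₀ h
    rw [hq0, Polynomial.coeff_zero] at hc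
    exact (mem_support_iff.1 hm₀) hc.symm
  have halg : IsAlgebraic k t := ⟨q, hq0, hqt⟩
  have hint : IsIntegral k t := halg.isIntegral
  have hdeg1 := IsAlgClosed.degree_eq_one_of_irreducible k (minpoly.irreducible hint)
  obtain ⟨c, hc⟩ := minpoly.degree_eq_one_iff.1 hdeg1
  refine ⟨c, ?_⟩
  apply IsFractionRing.injective R K
  rw [Algebra.smul_def, map_mul, ← hX, ← hY, ← IsScalarTower.algebraMap_apply k R K]
  have : t = algebraMap k K c := hc.symm
  rw [ht, div_eq_iff hY0] at this
  exact this

end Dehom

section Main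

variable {k : Type u} [Field k] [IsAlgClosed k] {R : Type u} [CommRing R] [IsDomain R]
  [Algebra k R] (𝒜 : ℤ → Submodule k R) [GradedAlgebra 𝒜] [Algebra.FiniteType k R]

/-- In a one-dimensional graded domain over an algebraically closed field, two elements of the
same degree are proportional. -/
theorem exists_smul_eq (h0 : 𝒜 0 = Submodule.span k {(1 : R)}) (hpos : ∀ n : ℤ, n < 0 → 𝒜 n = ⊥)
    (h1 : ringKrullDim R = 1) {n : ℤ} {x y : R} (hx : x ∈ 𝒜 n) (hy : y ∈ 𝒜 n) (hy0 : y ≠ 0) :
    ∃ c : k, x = c • y := by
  rcases lt_trichotomy n 0 with hn | hn | hn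
  · exfalso
    apply hy0
    have := hpos n hn
    rw [this, Submodule.mem_bot] at hy
    exact hy
  · subst hn
    rw [h0, Submodule.mem_span_singleton] at hx hy
    obtain ⟨a, rfl⟩ := hx
    obtain ⟨b, rfl⟩ := hy
    have hb : b ≠ 0 := by
      rintro rfl
      exact hy0 (zero_smul _ _)
    exact ⟨a / b, by rw [smul_smul, div_mul_cancel₀ _ hb]⟩
  · obtain ⟨n', hdim, htr⟩ := Groth.Agent.Lib.Helper20.SegTrdeg.exists_dim_eq_trdeg k R
    have hn' : n' = 1 := by
      rw [h1] at hdim
      exact_mod_cast hdim.symm
    subst hn'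
    have hnot : ¬ AlgebraicIndependent k ![x, y] := by
      intro hind
      have := hind.lift_cardinalMk_le_trdeg
      rw [htr] at this
      simp at this
    rw [algebraicIndependent_iff] at hnot
    push Not at hnot
    obtain ⟨P, hP, hP0⟩ := hnot
    obtain ⟨d, Q, hQ, hQ0, hrel⟩ := exists_homogeneous_relation 𝒜 hn hx hy P hP0 hP
    exact exists_smul_eq_of_homogeneous_relation hy0 d Q hQ hQ0 hrel

end Main

end Groth.Agent.Lib.Helper20.SemiGrp
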