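import Mathlib
import Groth.Agent.Lib.Helper20.SemiGrp1

/-!
# One-dimensional graded domains over an algebraically closed field are semigroup rings
-/

set_option autoImplicit false
set_option linter.unusedSectionVars false
universe u

namespace Groth.Agent.Lib.Helper20.SemiGrp

section Basis

variable {k : Type u} [Field k] {R : Type u} [CommRing R] [IsDomain R]
  [Algebra k R] (𝒜 : ℤ → Submodule k R) [GradedAlgebra 𝒜]
  (prop : ∀ (n : ℤ) (x y : R), x ∈ 𝒜 n → y ∈ 𝒜 n → y ≠ 0 → ∃ c : k, x = c • y)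

theorem ne_bot_iff {n : ℤ} : 𝒜 n ≠ ⊥ ↔ ∃ x ∈ 𝒜 n, x ≠ 0 := by
  rw [Ne, Submodule.eq_bot_iff]
  push Not
  rfl

/-- the degrees in which `R` is non-zero -/
def degs : AddSubmonoid ℕ where
  carrier := {h | 𝒜 (h : ℤ) ≠ ⊥}
  zero_mem' := by
    show 𝒜 ((0 : ℕ) : ℤ) ≠ ⊥
    rw [ne_bot_iff]
    exact ⟨1, by simpa using SetLike.GradedOne.one_mem (A := 𝒜), one_ne_zero⟩
  add_mem' := by
    intro a b ha hb
    simp only [Set.mem_setOf_eq] at ha hb ⊢
    rw [ne_bot_iff] at ha hb ⊢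
    obtain ⟨x, hx, hx0⟩ := ha
    obtain ⟨y, hy, hy0⟩ := hb
    refine ⟨x * y, ?_, mul_ne_zero hx0 hy0⟩
    have := SetLike.GradedMul.mul_mem hx hy
    simpa using this

theorem mem_degs {h : ℕ} : h ∈ degs 𝒜 ↔ 𝒜 (h : ℤ) ≠ ⊥ := Iff.rfl

include prop in
theorem exists_elt {h p q : ℤ} (n : ℕ) {u v : R} (hu : u ∈ 𝒜 p) (hv : v ∈ 𝒜 q) (hu0 : u ≠ 0)
    (hv0 : v ≠ 0) (hh : 𝒜 h ≠ ⊥) (heq : h + n * q = n * p) :
    ∃ e ∈ 𝒜 h, e * v ^ n = u ^ n := by
  rw [ne_bot_iff] at hh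
  obtain ⟨b, hb, hb0⟩ := hh
  have h1 : b * v ^ n ∈ 𝒜 (n * p) := by
    have := SetLike.GradedMul.mul_mem hb (SetLike.pow_mem_graded n hv)
    rwa [nsmul_eq_mul, heq] at this
  have h2 : u ^ n ∈ 𝒜 (n * p) := by
    have := SetLike.pow_mem_graded n hu
    rwa [nsmul_eq_mul] at this
  obtain ⟨c, hc⟩ := prop _ _ _ h2 h1 (mul_ne_zero hb0 (pow_ne_zero n hv0))
  refine ⟨c • b, Submodule.smul_mem _ c hb, ?_⟩
  rw [smul_mul_assoc, ← hc]

/-- the data of a pair of degrees generating the group of differences -/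
theorem exists_gen : ∃ (a h₁ h₂ : ℕ), h₁ ∈ degs 𝒜 ∧ h₂ ∈ degs 𝒜 ∧ h₁ = h₂ + a ∧
    ∀ h ∈ degs 𝒜, a ∣ h := by
  let D : AddSubgroup ℤ :=
    { carrier := {z | ∃ p ∈ degs 𝒜, ∃ q ∈ degs 𝒜, z = (p : ℤ) - q}
      zero_mem' := ⟨0, (degs 𝒜).zero_mem, 0, (degs 𝒜).zero_mem, by simp⟩
      add_mem' := by
        rintro _ _ ⟨p, hp, q, hq, rfl⟩ ⟨p', hp', q', hq', rfl⟩
        exact ⟨p + p', (degs 𝒜).add_mem hp hp', q + q', (degs 𝒜).add_mem hq hq', by
          push_cast; ring⟩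
      neg_mem' := by
        rintro _ ⟨p, hp, q, hq, rfl⟩
        exact ⟨q, hq, p, hp, by ring⟩ }
  obtain ⟨g, hg⟩ := Int.subgroup_cyclic D
  have hgD : g ∈ D := by
    rw [hg]
    exact AddSubgroup.subset_closure rfl
  obtain ⟨p, hp, q, hq, hpq⟩ := hgD
  have hdvd : ∀ h ∈ degs 𝒜, g.natAbs ∣ h := by
    intro h hh
    have hmem : (h : ℤ) ∈ D := ⟨h, hh, 0, (degs 𝒜).zero_mem, by simp⟩
    rw [hg, AddSubgroup.mem_closure_singleton] at hmem
    obtain ⟨j, hj⟩ := hmem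
    have h1 : g ∣ (h : ℤ) := ⟨j, by rw [← hj, smul_eq_mul, mul_comm]⟩
    exact Int.natCast_dvd_natCast.1 (Int.natAbs_dvd.2 h1)
  rcases le_total 0 g with hg0 | hg0
  · refine ⟨g.natAbs, p, q, hp, hq, ?_, hdvd⟩
    have : (p : ℤ) = q + g.natAbs := by
      rw [Int.natAbs_of_nonneg hg0, hpq]; ring
    exact_mod_cast this
  · refine ⟨g.natAbs, q, p, hq, hp, ?_, hdvd⟩
    have : (q : ℤ) = p + g.natAbs := by
      rw [Int.ofNat_natAbs_of_nonpos hg0, hpq]; ring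
    exact_mod_cast this

end Basis

section Iso

variable {k : Type u} [Field k] {R : Type u} [CommRing R] [IsDomain R]
  [Algebra k R] (𝒜 : ℤ → Submodule k R) [GradedAlgebra 𝒜]

/-- A graded domain whose pieces are at most one-dimensional, concentrated in non-negative
degrees, is a semigroup ring. -/
theorem exists_ringEquiv
    (prop : ∀ (n : ℤ) (x y : R), x ∈ 𝒜 n → y ∈ 𝒜 n → y ≠ 0 → ∃ c : k, x = c • y)
    (hpos : ∀ n : ℤ, n < 0 → 𝒜 n = ⊥) :
    Nonempty (R ≃+* AddMonoidAlgebra k (degs 𝒜)) := by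
  classical
  obtain ⟨a, h₁, h₂, hh₁, hh₂, hha, hdvd⟩ := exists_gen 𝒜
  rw [mem_degs, ne_bot_iff] at hh₁ hh₂
  obtain ⟨u₁, hu₁, hu₁0⟩ := hh₁
  obtain ⟨u₂, hu₂, hu₂0⟩ := hh₂
  -- the exponent attached to a degree
  have hn : ∀ h ∈ degs 𝒜, h = (h / a) * a := fun h hh => (Nat.div_mul_cancel (hdvd h hh)).symm
  have hex : ∀ h : degs 𝒜, ∃ e ∈ 𝒜 ((h : ℕ) : ℤ), e * u₂ ^ ((h : ℕ) / a) = u₁ ^ ((h : ℕ) / a) := by
    intro h
    refine exists_elt 𝒜 prop ((h : ℕ) / a) hu₁ hu₂ hu₁0 hu₂0 h.2 ?_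
    have h2 := hn h h.2
    obtain ⟨n, hn_def⟩ : ∃ n, (h : ℕ) / a = n := ⟨_, rfl⟩
    rw [hn_def] at h2 ⊢
    have h3 : ((h : ℕ) : ℤ) = (n : ℤ) * (a : ℤ) := by exact_mod_cast h2
    rw [hha, h3]
    push_cast
    ring
  choose e he_mem he_eq using hex
  have huniq : ∀ (h : degs 𝒜) (x : R), x * u₂ ^ ((h : ℕ) / a) = u₁ ^ ((h : ℕ) / a) → x = e h := by
    intro h x hx
    have := hx.trans (he_eq h).symm
    exact mul_right_cancel₀ (pow_ne_zero _ hu₂0) this
  have he0 : ∀ h : degs 𝒜, e h ≠ 0 := by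
    intro h h0
    have := he_eq h
    rw [h0, zero_mul] at this
    exact pow_ne_zero _ hu₁0 this.symm
  have he_one : e 0 = 1 := by
    symm
    apply huniq
    simp
  have he_mul : ∀ h h' : degs 𝒜, e (h + h') = e h * e h' := by
    intro h h'
    symm
    apply huniq
    have hadd : ((h + h' : degs 𝒜) : ℕ) / a = (h : ℕ) / a + (h' : ℕ) / a := by
      rw [AddSubmonoid.coe_add]
      exact Nat.add_div_of_dvd_right (hdvd h h.2)
    rw [hadd, pow_add, pow_add, ← he_eq h, ← he_eq h']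
    ring
  let F : Multiplicative (degs 𝒜) →* R :=
    { toFun := fun x => e (Multiplicative.toAdd x)
      map_one' := he_one
      map_mul' := fun x y => he_mul _ _ }
  let Φ : AddMonoidAlgebra k (degs 𝒜) →ₐ[k] R := AddMonoidAlgebra.lift k R (degs 𝒜) F
  have hΦ : ∀ f : AddMonoidAlgebra k (degs 𝒜), Φ f = f.coeff.sum fun h c => c • e h := by
    intro f
    exact AddMonoidAlgebra.lift_apply F f
  have hsurj : Function.Surjective Φ := by
    intro r
    induction r using DirectSum.Decomposition.inductionOn 𝒜 with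
    | zero => exact ⟨0, map_zero _⟩
    | add r r' hr hr' =>
      obtain ⟨f, rfl⟩ := hr
      obtain ⟨f', rfl⟩ := hr'
      exact ⟨f + f', map_add _ _ _⟩
    | homogeneous r =>
      rename_i i
      by_cases hr0 : (r : R) = 0
      · exact ⟨0, by rw [map_zero, hr0]⟩
      · have hi : 0 ≤ i := by
          by_contra hneg
          push Not at hneg
          have : (r : R) ∈ (⊥ : Submodule k R) := hpos i hneg ▸ r.2
          exact hr0 ((Submodule.mem_bot k).1 this)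
        obtain ⟨j, rfl⟩ := Int.eq_ofNat_of_zero_le hi
        have hj : j ∈ degs 𝒜 := by
          rw [mem_degs, ne_bot_iff]
          exact ⟨r, r.2, hr0⟩
        obtain ⟨c, hc⟩ := prop _ _ _ r.2 (he_mem ⟨j, hj⟩) (he0 ⟨j, hj⟩)
        refine ⟨AddMonoidAlgebra.single ⟨j, hj⟩ c, ?_⟩
        rw [hc]
        exact AddMonoidAlgebra.lift_single F _ _
  have hinj : Function.Injective Φ := by
    rw [injective_iff_map_eq_zero]
    intro f hf
    rw [hΦ] at hf
    ext h₀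
    have h1 := congrArg (GradedRing.proj 𝒜 ((h₀ : ℕ) : ℤ)) hf
    rw [Finsupp.sum, map_sum, map_zero] at h1
    have hterm : ∀ h : degs 𝒜, GradedRing.proj 𝒜 ((h₀ : ℕ) : ℤ) (f.coeff h • e h) =
        if h = h₀ then f.coeff h • e h else 0 := by
      intro h
      have hmem : f.coeff h • e h ∈ 𝒜 ((h : ℕ) : ℤ) := Submodule.smul_mem _ _ (he_mem h)
      rw [GradedRing.proj_apply]
      split_ifs with hh
      · subst hh
        exact DirectSum.decompose_of_mem_same 𝒜 hmem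
      · apply DirectSum.decompose_of_mem_ne 𝒜 hmem
        intro heq
        apply hh
        apply Subtype.ext
        exact_mod_cast heq
    simp only [hterm, Finset.sum_ite_eq', Finsupp.mem_support_iff] at h1
    by_cases hc : f.coeff h₀ = 0
    · simpa using hc
    · rw [if_pos hc] at h1
      exact absurd ((smul_eq_zero.1 h1).resolve_right (he0 h₀)) hc
  exact ⟨(RingEquiv.ofBijective Φ ⟨hinj, hsurj⟩).symm⟩

end Iso

end Groth.Agent.Lib.Helper20.SemiGrp
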