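import Mathlib
import Groth.Agent.Lib.Helper20.SemiGrp2

/-!
# One-dimensional graded domains over an algebraically closed field: main statement
-/

set_option autoImplicit false
set_option linter.unusedSectionVars false
universe u

namespace Groth.Agent.Lib.Helper20.SemiGrp

variable {k : Type u} [Field k] [IsAlgClosed k] {R : Type u} [CommRing R] [IsDomain R]
  [Algebra k R] (𝒜 : ℤ → Submodule k R) [GradedAlgebra 𝒜] [Algebra.FiniteType k R]

theorem one_mem_degs (hpos : ∀ n : ℤ, n < 0 → 𝒜 n = ⊥) (h0 : 𝒜 0 = Submodule.span k {(1 : R)})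
    (h1 : ringKrullDim R = 1)
    (hstd : Ideal.span (⋃ n ∈ Set.Ioi (0 : ℤ), (𝒜 n : Set R)) =
      Ideal.span ((𝒜 1 : Submodule k R) : Set R)) : 1 ∈ degs 𝒜 := by
  classical
  by_contra hno
  rw [mem_degs, not_not] at hno
  have hbot : Ideal.span ((𝒜 1 : Submodule k R) : Set R) = ⊥ := by
    rw [Ideal.span_eq_bot]
    intro x hx
    have : x ∈ 𝒜 ((1 : ℕ) : ℤ) := by simpa using hx
    rw [hno, Submodule.mem_bot] at this
    exact this
  have hzero : ∀ n : ℤ, 0 < n → ∀ x ∈ 𝒜 n, x = 0 := by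
    intro n hn x hx
    have : x ∈ Ideal.span (⋃ n ∈ Set.Ioi (0 : ℤ), (𝒜 n : Set R)) :=
      Ideal.subset_span (Set.mem_iUnion₂.2 ⟨n, hn, hx⟩)
    rw [hstd, hbot, Ideal.mem_bot] at this
    exact this
  have hsurj : Function.Surjective (algebraMap k R) := by
    intro r
    induction r using DirectSum.Decomposition.inductionOn 𝒜 with
    | zero => exact ⟨0, map_zero _⟩
    | add r r' hr hr' =>
      obtain ⟨c, rfl⟩ := hr
      obtain ⟨c', rfl⟩ := hr'
      exact ⟨c + c', map_add _ _ _⟩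
    | homogeneous r =>
      rename_i i
      rcases lt_trichotomy i 0 with hi | hi | hi
      · have : (r : R) ∈ (⊥ : Submodule k R) := hpos i hi ▸ r.2
        exact ⟨0, by rw [map_zero, (Submodule.mem_bot k).1 this]⟩
      · subst hi
        have : (r : R) ∈ Submodule.span k {(1 : R)} := h0 ▸ r.2
        obtain ⟨c, hc⟩ := Submodule.mem_span_singleton.1 this
        exact ⟨c, by rw [← hc, Algebra.smul_def, mul_one]⟩
      · exact ⟨0, by rw [map_zero, hzero i hi r r.2]⟩
  have := ringKrullDim_le_of_surjective (algebraMap k R) hsurj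
  rw [h1, ringKrullDim_eq_zero_of_field] at this
  exact absurd this (by norm_num)

theorem main (hpos : ∀ n : ℤ, n < 0 → 𝒜 n = ⊥) (h0 : 𝒜 0 = Submodule.span k {(1 : R)})
    (h1 : ringKrullDim R = 1) :
    (∃ H : AddSubmonoid ℕ, Nonempty (R ≃+* AddMonoidAlgebra k H)) ∧
      (Ideal.span (⋃ n ∈ Set.Ioi (0 : ℤ), (𝒜 n : Set R)) =
          Ideal.span ((𝒜 1 : Submodule k R) : Set R) → Nonempty (R ≃+* Polynomial k)) := by
  have prop : ∀ (n : ℤ) (x y : R), x ∈ 𝒜 n → y ∈ 𝒜 n → y ≠ 0 → ∃ c : k, x = c • y :=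
    fun n x y hx hy hy0 => exists_smul_eq 𝒜 h0 hpos h1 hx hy hy0
  obtain ⟨e⟩ := exists_ringEquiv 𝒜 prop hpos
  refine ⟨⟨degs 𝒜, ⟨e⟩⟩, fun hstd => ?_⟩
  have h1mem := one_mem_degs 𝒜 hpos h0 h1 hstd
  have hall : ∀ n : ℕ, n ∈ degs 𝒜 := by
    intro n
    have := (degs 𝒜).nsmul_mem h1mem n
    simpa using this
  let eq : degs 𝒜 ≃+ ℕ :=
    { toFun := fun h => h.1
      invFun := fun n => ⟨n, hall n⟩
      left_inv := fun h => rfl
      right_inv := fun n => rfl
      map_add' := fun h h' => rfl }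
  exact ⟨e.trans ((AddMonoidAlgebra.domCongr k k eq).toRingEquiv.trans
    (Polynomial.toFinsuppIso k).symm)⟩

end Groth.Agent.Lib.Helper20.SemiGrp
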