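import Mathlib
import Groth.Prelude.Def_SGA3
import Groth.Agent.Lib.Helper20.IdemDecomp

/-!
# Separable elements, idempotents and Hopf subalgebras

Over an algebraically closed field, the intersection of the algebra of separable elements with a
Hopf subalgebra is again a Hopf subalgebra.
-/

set_option autoImplicit false
universe u
noncomputable section
namespace Groth.Agent.Lib.Helper20.SepIdem

open TensorProduct Polynomial

theorem isSeparable_of_isIdempotentElem {k A : Type*} [Field k] [CommRing A] [Algebra k A]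
    (e : A) (he : IsIdempotentElem e) : IsSeparable k e := by
  unfold IsSeparable
  have hsep : (X ^ 2 - X : k[X]).Separable := by
    have hd : derivative (X ^ 2 - X : k[X]) = 2 * X - 1 := by
      rw [derivative_sub, derivative_X_sq, derivative_X, map_ofNat]
    refine ⟨-4, 2 * X - 1, ?_⟩
    rw [hd]; ring
  refine hsep.of_dvd (minpoly.dvd k e ?_)
  simp [pow_two, he.eq]

theorem mem_span_idem_of_isSeparable {k A : Type*} [Field k] [IsAlgClosed k] [CommRing A]
    [Algebra k A] (b : A) (hb : IsSeparable k b) :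
    b ∈ Submodule.span k {e : A | IsIdempotentElem e ∧ e ∈ Algebra.adjoin k {b}} := by
  rcases subsingleton_or_nontrivial A with hA | hA
  · rw [Subsingleton.elim b 0]; exact Submodule.zero_mem _
  classical
  unfold IsSeparable at hb
  set m := minpoly k b with hm
  have hint : IsIntegral k b := by
    by_contra h
    rw [hm, minpoly.eq_zero h] at hb
    exact Polynomial.not_separable_zero hb
  have hmonic : m.Monic := minpoly.monic hint
  have hsplit : m.Splits := IsAlgClosed.splits m
  have hnodup : m.roots.Nodup := Polynomial.nodup_roots hb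
  set s := m.roots.toFinset with hs
  have hnodal : Lagrange.nodal s id = m := by
    rw [Lagrange.nodal]
    conv_rhs => rw [hsplit.eq_prod_roots_of_monic hmonic]
    rw [hs, Finset.prod, Multiset.toFinset_val, Multiset.dedup_eq_self.mpr hnodup]
    rfl
  have hinj : Set.InjOn (id : k → k) s := Function.injective_id.injOn
  have hsne : s.Nonempty := by
    by_contra hemp
    rw [Finset.not_nonempty_iff_eq_empty] at hemp
    rw [hemp] at hnodal
    simp only [Lagrange.nodal, Finset.prod_empty] at hnodal
    have h1 := minpoly.aeval k b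
    rw [← hm, ← hnodal] at h1
    simp at h1
  set e : k → A := fun a => aeval b (Lagrange.basis s id a) with he
  have hsum : ∑ a ∈ s, e a = 1 := by
    simp only [he]
    rw [← map_sum, Lagrange.sum_basis hinj hsne, map_one]
  have hbe : ∀ a ∈ s, b * e a = a • e a := by
    intro a ha
    have h1 : (X - C a) * Lagrange.basis s id a = C (Lagrange.nodalWeight s id a) * m := by
      rw [Lagrange.basis_eq_prod_sub_inv_mul_nodal_div ha, ← Lagrange.nodal_erase_eq_nodal_div ha,
        ← hnodal, Lagrange.nodal_eq_mul_nodal_erase ha]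
      simp only [id]; ring
    have h2 := congrArg (aeval b) h1
    rw [map_mul, map_mul, hm, minpoly.aeval, mul_zero, map_sub, aeval_X, aeval_C] at h2
    rw [Algebra.smul_def]; linear_combination h2
  have horth : ∀ a ∈ s, ∀ c ∈ s, a ≠ c → e a * e c = 0 := by
    intro a ha c hc hac
    have h1 : (a - c) • (e a * e c) = 0 := by
      have ha' := hbe a ha
      have hc' := hbe c hc
      rw [sub_smul, ← smul_mul_assoc, ← ha', ← mul_smul_comm, ← hc']; ring
    have hu : IsUnit (a - c) := (sub_ne_zero.mpr hac).isUnit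
    exact (hu.smul_eq_zero).mp h1
  have hidem : ∀ a ∈ s, IsIdempotentElem (e a) := by
    intro a ha
    unfold IsIdempotentElem
    calc e a * e a = ∑ c ∈ s, e a * e c := by
          rw [Finset.sum_eq_single a]
          · intro c hc hca; exact horth a ha c hc (Ne.symm hca)
          · intro h; exact absurd ha h
      _ = e a * ∑ c ∈ s, e c := by rw [Finset.mul_sum]
      _ = e a := by rw [hsum, mul_one]
  have hb_eq : b = ∑ a ∈ s, a • e a := by
    calc b = b * ∑ a ∈ s, e a := by rw [hsum, mul_one]
      _ = ∑ a ∈ s, b * e a := Finset.mul_sum _ _ _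
      _ = ∑ a ∈ s, a • e a := Finset.sum_congr rfl hbe
  have hmem : ∑ a ∈ s, a • e a ∈
      Submodule.span k {e : A | IsIdempotentElem e ∧ e ∈ Algebra.adjoin k {b}} := by
    refine Submodule.sum_mem _ fun a ha =>
      Submodule.smul_mem _ _ (Submodule.subset_span ⟨hidem a ha, ?_⟩)
    exact Polynomial.aeval_mem_adjoin_singleton k b
  rwa [← hb_eq] at hmem

theorem range_map_mono {k A : Type*} [Field k] [CommRing A] [Algebra k A]
    {C' C : Subalgebra k A} (h : C' ≤ C) :
    LinearMap.range (TensorProduct.map C'.val.toLinearMap C'.val.toLinearMap) ≤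
      LinearMap.range (TensorProduct.map C.val.toLinearMap C.val.toLinearMap) := by
  rintro _ ⟨y, rfl⟩
  refine ⟨TensorProduct.map (Subalgebra.inclusion h).toLinearMap
    (Subalgebra.inclusion h).toLinearMap y, ?_⟩
  rw [← LinearMap.comp_apply, ← TensorProduct.map_comp]
  rfl

theorem exists_fg_le {k A : Type*} [Field k] [CommRing A] [Algebra k A] (C : Subalgebra k A)
    (y : C ⊗[k] C) :
    ∃ C' : Subalgebra k A, C' ≤ C ∧ C'.FG ∧
      TensorProduct.map C.val.toLinearMap C.val.toLinearMap y ∈
        LinearMap.range (TensorProduct.map C'.val.toLinearMap C'.val.toLinearMap) := by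
  classical
  induction y using TensorProduct.induction_on with
  | zero => exact ⟨⊥, bot_le, Subalgebra.fg_bot, by simp⟩
  | tmul c c' =>
    have hsub : ({(c : A), (c' : A)} : Set A) ⊆ C := by
      rintro x (rfl | rfl)
      exacts [c.2, c'.2]
    refine ⟨Algebra.adjoin k {(c : A), (c' : A)}, Algebra.adjoin_le hsub,
      ⟨{(c : A), (c' : A)}, by simp⟩, ?_⟩
    refine ⟨⟨c, Algebra.subset_adjoin (by simp)⟩ ⊗ₜ ⟨c', Algebra.subset_adjoin (by simp)⟩, ?_⟩
    simp
  | add y z hy hz =>
    obtain ⟨C1, h1, hfg1, hm1⟩ := hy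
    obtain ⟨C2, h2, hfg2, hm2⟩ := hz
    refine ⟨C1 ⊔ C2, sup_le h1 h2, hfg1.sup hfg2, ?_⟩
    rw [map_add]
    exact Submodule.add_mem _ (range_map_mono le_sup_left hm1) (range_map_mono le_sup_right hm2)

theorem mem_span_idem_tmul {k A : Type u} [Field k] [IsSepClosed k] [CommRing A] [Algebra k A]
    (C : Subalgebra k A) (x : A ⊗[k] A) (hx : IsIdempotentElem x)
    (hxC : x ∈ LinearMap.range (TensorProduct.map C.val.toLinearMap C.val.toLinearMap)) :
    x ∈ Submodule.span k {z : A ⊗[k] A | ∃ e f : A, e ∈ C ∧ f ∈ C ∧ IsIdempotentElem e ∧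
      IsIdempotentElem f ∧ z = e ⊗ₜ[k] f} := by
  obtain ⟨y, rfl⟩ := hxC
  obtain ⟨C', hle, hfg, y', hy'⟩ := exists_fg_le C y
  have : Algebra.FiniteType k C' := (Subalgebra.fg_iff_finiteType C').mp hfg
  have : IsNoetherianRing C' := Algebra.FiniteType.isNoetherianRing k C'
  set φ : C' ⊗[k] C' →ₐ[k] A ⊗[k] A := Algebra.TensorProduct.map C'.val C'.val with hφ
  have hφl : ∀ z, φ z = TensorProduct.map C'.val.toLinearMap C'.val.toLinearMap z := fun z => rfl
  have hinj : Function.Injective φ := by
    intro a b hab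
    rw [hφl, hφl] at hab
    exact TensorProduct.map_injective_of_flat_flat _ _ Subtype.val_injective
      Subtype.val_injective hab
  have hy'idem : IsIdempotentElem y' := by
    apply hinj
    rw [map_mul, hφl, hy']; exact hx
  have h1 := IdemDecomp.tensor_idem_sum y' hy'idem
  rw [← hy', ← hφl]
  have h2 := Submodule.mem_map_of_mem (f := φ.toLinearMap) h1
  rw [Submodule.map_span] at h2
  refine Submodule.span_mono ?_ h2
  rintro _ ⟨_, ⟨e, f, he, hf, rfl⟩, rfl⟩
  exact ⟨e, f, hle e.2, hle f.2, he.map C'.val, hf.map C'.val, by simp [hφ]⟩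

theorem isHopfSubalgebra_inf (k A : Type u) [Field k] [IsAlgClosed k] [CommRing A]
    [HopfAlgebra k A] (B₀ : Subalgebra k A) (hB₀ : ∀ a : A, a ∈ B₀ ↔ IsSeparable k a)
    (C : Subalgebra k A) (hC : SGA3.IsHopfSubalgebra k A C) :
    SGA3.IsHopfSubalgebra k A (B₀ ⊓ C) := by
  constructor
  · intro b hb
    have hsep : IsSeparable k b := (hB₀ b).mp hb.1
    have hspan := mem_span_idem_of_isSeparable b hsep
    have key : ∀ e : A, IsIdempotentElem e → e ∈ C →
        CoalgebraStruct.comul (R := k) (A := A) e ∈ LinearMap.range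
          (TensorProduct.map (B₀ ⊓ C).val.toLinearMap (B₀ ⊓ C).val.toLinearMap) := by
      intro e he heC
      have h1 : IsIdempotentElem (CoalgebraStruct.comul (R := k) (A := A) e) :=
        he.map (Bialgebra.comulAlgHom k A)
      have h2 := mem_span_idem_tmul C _ h1 (hC.1 e heC)
      refine Submodule.span_le.mpr ?_ h2
      rintro _ ⟨e', f', he'C, hf'C, he', hf', rfl⟩
      exact ⟨⟨e', (hB₀ e').mpr (isSeparable_of_isIdempotentElem e' he'), he'C⟩ ⊗ₜ
        ⟨f', (hB₀ f').mpr (isSeparable_of_isIdempotentElem f' hf'), hf'C⟩, by simp⟩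
    refine Submodule.span_induction (p := fun x _ => CoalgebraStruct.comul (R := k) (A := A) x ∈
      LinearMap.range (TensorProduct.map (B₀ ⊓ C).val.toLinearMap (B₀ ⊓ C).val.toLinearMap))
      ?_ ?_ ?_ ?_ hspan
    · rintro e ⟨he, hemem⟩
      exact key e he (Algebra.adjoin_le (Set.singleton_subset_iff.mpr hb.2) hemem)
    · simp
    · intro x y _ _ hx hy
      rw [map_add]; exact Submodule.add_mem _ hx hy
    · intro a x _ hx
      rw [map_smul]; exact Submodule.smul_mem _ _ hx
  · intro b hb
    refine ⟨?_, hC.2 b hb.2⟩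
    rw [SetLike.mem_coe, hB₀]
    have hsep : IsSeparable k b := (hB₀ b).mp hb.1
    unfold IsSeparable at hsep ⊢
    refine hsep.of_dvd (minpoly.dvd k _ ?_)
    have h1 : HopfAlgebraStruct.antipode (R := k) (A := A) b = HopfAlgebra.antipodeAlgHom k A b :=
      rfl
    rw [h1, Polynomial.aeval_algHom_apply, minpoly.aeval, map_zero]

end Groth.Agent.Lib.Helper20.SepIdem
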