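import Mathlib
import Groth.Agent.Lib.Helper20.SpecLim

set_option autoImplicit false

namespace Groth.Agent.Lib.Helper20.Sierp

open TopologicalSpace Topology Set
open Groth.Agent.Lib.Helper20.Spectral Groth.Agent.Lib.Helper20.SpecLim

universe u

section Power

variable {I : Type*}

/-- basic open sets of the Sierpinski power -/
def b (S : Finset I) : Set (I → Prop) := {u | ∀ i ∈ S, u i}

theorem isOpen_b (S : Finset I) : IsOpen (b S) := by
  have : b S = ⋂ i ∈ S, (fun u : I → Prop => u i) ⁻¹' {True} := by
    ext u
    simp [b]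
  rw [this]
  exact isOpen_biInter_finset fun i _ => isOpen_singleton_true.preimage (continuous_apply i)

theorem eq_univ_of_isOpen_of_false_mem {s : Set Prop} (hs : IsOpen s) (h : False ∈ s) :
    s = univ := by
  have := hs.mem_nhds h
  rw [nhds_false] at this
  exact Filter.mem_top.mp this

theorem exists_b_subset {O : Set (I → Prop)} (hO : IsOpen O) {u : I → Prop} (hu : u ∈ O) :
    ∃ S : Finset I, u ∈ b S ∧ b S ⊆ O := by
  classical
  obtain ⟨T, U, hU, hsub⟩ := isOpen_pi_iff.mp hO u hu
  refine ⟨T.filter (fun i => u i), ?_, ?_⟩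
  · intro i hi
    exact (Finset.mem_filter.mp hi).2
  · intro v hv
    apply hsub
    intro i hi
    by_cases hui : u i
    · have h1 : v i := hv i (Finset.mem_filter.mpr ⟨hi, hui⟩)
      have h2 := (hU i hi).2
      have : v i = u i := by
        apply propext
        exact ⟨fun _ => hui, fun _ => h1⟩
      rw [this]
      exact h2
    · have h2 := (hU i hi).2
      have h3 : u i = False := eq_false hui
      rw [h3] at h2
      rw [eq_univ_of_isOpen_of_false_mem (hU i hi).1 h2]
      exact mem_univ _

theorem isTopologicalBasis_b : IsTopologicalBasis (range (b : Finset I → Set (I → Prop))) := by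
  apply isTopologicalBasis_of_isOpen_of_nhds
  · rintro _ ⟨S, rfl⟩
    exact isOpen_b S
  · intro u O hu hO
    obtain ⟨S, huS, hSO⟩ := exists_b_subset hO hu
    exact ⟨b S, ⟨S, rfl⟩, huS, hSO⟩

theorem b_subset_of_mem {S : Finset I} {O : Set (I → Prop)} (hO : IsOpen O)
    (h : (fun i => i ∈ S) ∈ O) : b S ⊆ O := by
  obtain ⟨S', hS', hsub⟩ := exists_b_subset hO h
  intro v hv
  apply hsub
  intro i hi
  exact hv i (hS' i hi)

theorem isCompact_b (S : Finset I) : IsCompact (b S) := by
  rw [isCompact_iff_finite_subcover]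
  intro ι U hU hcov
  have hm : (fun i => i ∈ S) ∈ b S := fun i hi => hi
  obtain ⟨k, hk⟩ := mem_iUnion.mp (hcov hm)
  refine ⟨{k}, ?_⟩
  simp only [Finset.mem_singleton, iUnion_iUnion_eq_left]
  exact b_subset_of_mem (hU k) hk

theorem b_inter (S T : Finset I) [DecidableEq I] : b S ∩ b T = b (S ∪ T) := by
  ext u
  simp only [b, mem_inter_iff, Set.mem_ofPred_eq, Finset.mem_union]
  constructor
  · rintro ⟨h1, h2⟩ i (hi | hi)
    · exact h1 i hi
    · exact h2 i hi
  · intro h
    exact ⟨fun i hi => h i (Or.inl hi), fun i hi => h i (Or.inr hi)⟩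

theorem compactSpace_pow : CompactSpace (I → Prop) := by
  rw [← isCompact_univ_iff]
  have : (univ : Set (I → Prop)) = b ∅ := by
    ext u
    simp [b]
  rw [this]
  exact isCompact_b ∅

theorem t0Space_pow : T0Space (I → Prop) := by
  rw [t0Space_iff_exists_isOpen_xor_mem]
  intro u v huv
  obtain ⟨i, hi⟩ : ∃ i, u i ≠ v i := by
    by_contra h
    apply huv
    funext i
    by_contra hi
    exact h ⟨i, hi⟩
  by_cases hui : u i
  · refine ⟨b {i}, isOpen_b _, Or.inl ⟨?_, ?_⟩⟩
    · intro j hj
      rw [Finset.mem_singleton] at hj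
      rw [hj]
      exact hui
    · intro hv
      have hvi : v i := hv i (Finset.mem_singleton_self i)
      exact hi (propext ⟨fun _ => hvi, fun _ => hui⟩)
  · have hvi : v i := by
      by_contra hvi
      exact hi (propext ⟨fun h => absurd h hui, fun h => absurd h hvi⟩)
    refine ⟨b {i}, isOpen_b _, Or.inr ⟨?_, ?_⟩⟩
    · intro j hj
      rw [Finset.mem_singleton] at hj
      rw [hj]
      exact hvi
    · intro hu
      exact hui (hu i (Finset.mem_singleton_self i))

theorem prespectralSpace_pow : PrespectralSpace (I → Prop) := by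
  refine PrespectralSpace.of_isTopologicalBasis isTopologicalBasis_b ?_
  rintro _ ⟨S, rfl⟩
  exact isCompact_b S

theorem quasiSeparatedSpace_pow : QuasiSeparatedSpace (I → Prop) := by
  classical
  refine QuasiSeparatedSpace.of_isTopologicalBasis (b := (b : Finset I → Set (I → Prop)))
    isTopologicalBasis_b ?_
  intro S T
  rw [b_inter]
  exact isCompact_b _

theorem quasiSober_pow : QuasiSober (I → Prop) := by
  classical
  constructor
  intro Z hZ hZc
  let ξ : I → Prop := fun i => ∃ z ∈ Z, z i
  refine ⟨ξ, ?_⟩
  show closure {ξ} = Z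
  have hmem : ξ ∈ Z := by
    by_contra hnot
    obtain ⟨S, hξS, hSZ⟩ := exists_b_subset hZc.isOpen_compl (show ξ ∈ Zᶜ from hnot)
    have := isIrreducible_iff_sInter.mp hZ (S.image (fun i => b {i}))
      (by
        intro v hv
        obtain ⟨i, _, rfl⟩ := Finset.mem_image.mp hv
        exact isOpen_b _)
      (by
        intro v hv
        obtain ⟨i, hi, rfl⟩ := Finset.mem_image.mp hv
        obtain ⟨z, hz, hzi⟩ := hξS i hi
        refine ⟨z, hz, ?_⟩
        intro j hj
        rw [Finset.mem_singleton] at hj
        rw [hj]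
        exact hzi)
    obtain ⟨z, hz, hz'⟩ := this
    apply hSZ _ hz
    intro i hi
    have := mem_sInter.mp hz' (b {i}) (by
      simp only [Finset.coe_image, mem_image, Finset.mem_coe]
      exact ⟨i, hi, rfl⟩)
    exact this i (Finset.mem_singleton_self i)
  apply Subset.antisymm
  · exact closure_minimal (singleton_subset_iff.mpr hmem) hZc
  · intro z hz
    rw [mem_closure_iff]
    intro O hO hzO
    obtain ⟨S, hzS, hSO⟩ := exists_b_subset hO hzO
    refine ⟨ξ, hSO ?_, rfl⟩
    intro i hi
    exact ⟨z, hz, hzS i hi⟩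

theorem spectralSpace_pow : SpectralSpace (I → Prop) := by
  have h0 : T0Space (I → Prop) := t0Space_pow
  have h1 : CompactSpace (I → Prop) := compactSpace_pow
  have h2 : QuasiSober (I → Prop) := quasiSober_pow
  have h3 : QuasiSeparatedSpace (I → Prop) := quasiSeparatedSpace_pow
  have h4 : PrespectralSpace (I → Prop) := prespectralSpace_pow
  exact { }

end Power

section Embed

variable (X : Type u) [TopologicalSpace X]

/-- the canonical map to the Sierpinski power indexed by compact opens -/
def emb : X → ({U : Set X // IsOpen U ∧ IsCompact U} → Prop) := fun x U => x ∈ U.1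

theorem emb_preimage_b (S : Finset {U : Set X // IsOpen U ∧ IsCompact U}) :
    emb X ⁻¹' b S = ⋂ U ∈ S, (U : Set X) := by
  ext x
  simp [emb, b]

theorem continuous_emb : Continuous (emb X) :=
  continuous_pi fun U => continuous_Prop.mpr U.2.1

theorem isEmbedding_emb [T0Space X] [PrespectralSpace X] : IsEmbedding (emb X) := by
  refine ⟨⟨le_antisymm (continuous_iff_le_induced.mp (continuous_emb X)) ?_⟩, ?_⟩
  · intro O hO
    obtain ⟨S, hS, rfl⟩ := (PrespectralSpace.isTopologicalBasis (X := X)).open_eq_sUnion hO
    apply @isOpen_sUnion _ (induced (emb X) inferInstance)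
    intro s hs
    refine isOpen_induced_iff.mpr ⟨b {⟨s, hS hs⟩}, isOpen_b _, ?_⟩
    rw [emb_preimage_b]
    simp
  · intro x y hxy
    by_contra hne
    obtain ⟨U, hU, hUxy⟩ := exists_isOpen_xor_mem hne
    rcases hUxy with ⟨hx, hy⟩ | ⟨hy, hx⟩
    · obtain ⟨V, hV, hxV, hVU⟩ :=
        (PrespectralSpace.isTopologicalBasis (X := X)).exists_subset_of_mem_open hx hU
      have := congrFun hxy ⟨V, hV⟩
      have h2 : y ∈ V := by
        have h3 : (x ∈ V) = (y ∈ V) := this
        rw [← h3]
        exact hxV
      exact hy (hVU h2)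
    · obtain ⟨V, hV, hyV, hVU⟩ :=
        (PrespectralSpace.isTopologicalBasis (X := X)).exists_subset_of_mem_open hy hU
      have := congrFun hxy ⟨V, hV⟩
      have h2 : x ∈ V := by
        have h3 : (x ∈ V) = (y ∈ V) := this
        rw [h3]
        exact hyV
      exact hx (hVU h2)

theorem isSpectralMap_emb [SpectralSpace X] : IsSpectralMap (emb X) := by
  refine ⟨continuous_emb X, ?_⟩
  intro V hVo hVc
  obtain ⟨s, hs, rfl⟩ := (isCompact_open_iff_eq_finite_iUnion_of_isTopologicalBasis
    (b : Finset {U : Set X // IsOpen U ∧ IsCompact U} → Set _) isTopologicalBasis_b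
    isCompact_b V).mp ⟨hVc, hVo⟩
  rw [preimage_iUnion₂]
  refine hs.isCompact_biUnion fun S _ => ?_
  rw [emb_preimage_b]
  have : (⋂ U ∈ S, (U : Set X)) = ⋂₀ ((fun U : {U : Set X // IsOpen U ∧ IsCompact U} => U.1) '' S) := by
    ext x
    simp
  rw [this]
  refine QuasiSeparatedSpace.isCompact_sInter (S.finite_toSet.image _) ?_ ?_
  · rintro _ ⟨U, _, rfl⟩
    exact Or.inl U.2.1
  · rintro _ ⟨U, _, rfl⟩
    exact U.2.2

theorem isClosed_cons_range_emb [SpectralSpace X] :
    IsClosed[constructibleTopology ({U : Set X // IsOpen U ∧ IsCompact U} → Prop)]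
      (range (emb X)) := by
  have hsp := spectralSpace_pow (I := {U : Set X // IsOpen U ∧ IsCompact U})
  have hcont := continuous_cons_of_isSpectralMap (isSpectralMap_emb X)
  have hcX : @CompactSpace X (constructibleTopology X) := compactSpace_cons
  have h1 : @IsCompact _ (constructibleTopology _) (range (emb X)) := by
    rw [← image_univ]
    exact @IsCompact.image X _ (constructibleTopology X) (constructibleTopology _) univ (emb X)
      (@isCompact_univ X (constructibleTopology X) hcX) hcont
  exact @IsCompact.isClosed _ (constructibleTopology _) t2Space_cons _ h1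

end Embed

theorem spectralSpace_iff_embedding (X : Type u) [TopologicalSpace X] :
    SpectralSpace X ↔ ∃ (I : Type u) (f : X → (I → Prop)),
      Topology.IsEmbedding f ∧
        @IsClosed (I → Prop) (constructibleTopology (I → Prop)) (Set.range f) := by
  constructor
  · intro h
    exact ⟨{U : Set X // IsOpen U ∧ IsCompact U}, emb X, isEmbedding_emb X,
      isClosed_cons_range_emb X⟩
  · rintro ⟨I, f, hf, hcl⟩
    have hsp := spectralSpace_pow (I := I)
    have hr : SpectralSpace (range f) := spectralSpace_of_isClosed_cons _ hcl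
    have hc : CompactSpace X := hf.toHomeomorph.symm.compactSpace
    exact hf.toHomeomorph.isOpenEmbedding.spectralSpace

end Groth.Agent.Lib.Helper20.Sierp
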