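import Mathlib
import Groth.Prelude.Def_W4stktopologysheavesDim

set_option autoImplicit false

namespace Groth.Agent.Lib.Helper20.Sober

open Set Topology TopologicalSpace PtTop

universe u

variable {X : Type u} [TopologicalSpace X]

/-- the carrier of a point of the soberification -/
def car (Z : Sob X) : Set X := ((show IrreducibleCloseds X from Z) : Set X)

/-- constructor -/
def mk (s : Set X) (h1 : IsIrreducible s) (h2 : IsClosed s) : Sob X :=
  (⟨s, h1, h2⟩ : IrreducibleCloseds X)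

@[simp] theorem car_mk (s : Set X) (h1 : IsIrreducible s) (h2 : IsClosed s) :
    car (mk s h1 h2) = s := rfl

theorem car_irred (Z : Sob X) : IsIrreducible (car Z) :=
  (show IrreducibleCloseds X from Z).isIrreducible'

theorem car_closed (Z : Sob X) : IsClosed (car Z) :=
  (show IrreducibleCloseds X from Z).isClosed'

theorem car_injective {Z Z' : Sob X} (h : car Z = car Z') : Z = Z' :=
  SetLike.coe_injective (A := IrreducibleCloseds X) h

theorem car_toSob (x : X) : car (toSob X x) = closure {x} := rfl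

/-- the basic open sets of the soberification -/
def D (U : Set X) : Set (Sob X) := {Z : Sob X | (car Z ∩ U).Nonempty}

theorem D_mono {U V : Set X} (h : U ⊆ V) : D U ⊆ D V := by
  rintro Z ⟨z, hz, hzU⟩
  exact ⟨z, hz, h hzU⟩

theorem D_inter {U V : Set X} (hU : IsOpen U) (hV : IsOpen V) : D (U ∩ V) = D U ∩ D V := by
  apply Subset.antisymm
  · exact subset_inter (D_mono inter_subset_left) (D_mono inter_subset_right)
  · rintro Z ⟨h1, h2⟩
    exact (car_irred Z).isPreirreducible U V hU hV h1 h2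

theorem D_sUnion (𝒰 : Set (Set X)) : D (⋃₀ 𝒰) = ⋃ U ∈ 𝒰, D U := by
  ext Z
  simp only [mem_iUnion]
  constructor
  · rintro ⟨z, hz, U, hU, hzU⟩
    exact ⟨U, hU, z, hz, hzU⟩
  · rintro ⟨U, hU, z, hz, hzU⟩
    exact ⟨z, hz, U, hU, hzU⟩

theorem D_univ : D (univ : Set X) = univ := by
  apply eq_univ_of_forall
  intro Z
  obtain ⟨z, hz⟩ := (car_irred Z).nonempty
  exact ⟨z, hz, mem_univ z⟩

theorem isOpen_D {U : Set X} (hU : IsOpen U) : IsOpen (D U) :=
  TopologicalSpace.isOpen_generateFrom_of_mem ⟨⟨U, hU⟩, rfl⟩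

theorem exists_eq_D_of_isOpen {S : Set (Sob X)} (hS : IsOpen S) :
    ∃ U : Set X, IsOpen U ∧ S = D U := by
  induction hS with
  | basic s hs =>
    obtain ⟨U, rfl⟩ := hs
    exact ⟨U, U.isOpen, rfl⟩
  | univ => exact ⟨univ, isOpen_univ, D_univ.symm⟩
  | inter s t _ _ ihs iht =>
    obtain ⟨U, hU, rfl⟩ := ihs
    obtain ⟨V, hV, rfl⟩ := iht
    exact ⟨U ∩ V, hU.inter hV, (D_inter hU hV).symm⟩
  | sUnion 𝒮 _ ih =>
    choose U hU hUeq using ih
    refine ⟨⋃₀ {V | ∃ (s : Set (Sob X)) (hs : s ∈ 𝒮), V = U s hs}, ?_, ?_⟩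
    · apply isOpen_sUnion
      rintro V ⟨s, hs, rfl⟩
      exact hU s hs
    · rw [D_sUnion]
      ext Z
      simp only [mem_sUnion, mem_iUnion, Set.mem_ofPred_eq]
      constructor
      · rintro ⟨s, hs, hZs⟩
        refine ⟨U s hs, ⟨s, hs, rfl⟩, ?_⟩
        rw [← hUeq s hs]
        exact hZs
      · rintro ⟨V, ⟨s, hs, rfl⟩, hZ⟩
        refine ⟨s, hs, ?_⟩
        rw [hUeq s hs]
        exact hZ

theorem preimage_toSob_D {U : Set X} (hU : IsOpen U) : toSob X ⁻¹' D U = U := by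
  ext x
  constructor
  · rintro ⟨y, hy, hyU⟩
    have hy' : y ∈ closure ({x} : Set X) := hy
    obtain ⟨z, hzU, hz⟩ := mem_closure_iff.mp hy' U hU hyU
    rw [mem_singleton_iff] at hz
    rw [← hz]
    exact hzU
  · intro hx
    exact ⟨x, subset_closure rfl, hx⟩

theorem continuous_toSob : Continuous (toSob X) := by
  refine continuous_def.mpr fun S hS => ?_
  obtain ⟨U, hU, rfl⟩ := exists_eq_D_of_isOpen hS
  rw [preimage_toSob_D hU]
  exact hU

theorem bijOn_preimage :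
    Set.BijOn (fun U' : Set (Sob X) => toSob X ⁻¹' U') {U' | IsOpen U'} {U : Set X | IsOpen U} := by
  refine ⟨fun S hS => continuous_toSob.isOpen_preimage S hS, ?_, ?_⟩
  · intro S hS T hT hST
    obtain ⟨U, hU, rfl⟩ := exists_eq_D_of_isOpen hS
    obtain ⟨V, hV, rfl⟩ := exists_eq_D_of_isOpen hT
    simp only [preimage_toSob_D hU, preimage_toSob_D hV] at hST
    rw [hST]
  · intro U hU
    exact ⟨D U, isOpen_D hU, preimage_toSob_D hU⟩

theorem t0Space_sob : T0Space (Sob X) := by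
  rw [t0Space_iff_exists_isOpen_xor_mem]
  intro Z Z' hne
  have hne' : car Z ≠ car Z' := fun h => hne (car_injective h)
  by_cases hsub : car Z ⊆ car Z'
  · have hnot : ¬ car Z' ⊆ car Z := fun h => hne' (Subset.antisymm hsub h)
    obtain ⟨z, hz, hzn⟩ := not_subset.mp hnot
    refine ⟨D (car Z)ᶜ, isOpen_D (car_closed Z).isOpen_compl, Or.inr ⟨⟨z, hz, hzn⟩, ?_⟩⟩
    rintro ⟨w, hw, hwn⟩
    exact hwn hw
  · obtain ⟨z, hz, hzn⟩ := not_subset.mp hsub
    refine ⟨D (car Z')ᶜ, isOpen_D (car_closed Z').isOpen_compl, Or.inl ⟨⟨z, hz, hzn⟩, ?_⟩⟩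
    rintro ⟨w, hw, hwn⟩
    exact hwn hw

theorem mem_closure_singleton_iff (Z Z₀ : Sob X) :
    Z ∈ closure ({Z₀} : Set (Sob X)) ↔ car Z ⊆ car Z₀ := by
  rw [mem_closure_iff]
  constructor
  · intro h
    by_contra hsub
    obtain ⟨z, hz, hzn⟩ := not_subset.mp hsub
    obtain ⟨W, hW, hWeq⟩ := h (D (car Z₀)ᶜ) (isOpen_D (car_closed Z₀).isOpen_compl) ⟨z, hz, hzn⟩
    rw [mem_singleton_iff] at hWeq
    rw [hWeq] at hW
    obtain ⟨w, hw, hwn⟩ := hW
    exact hwn hw
  · intro hsub S hS hZS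
    obtain ⟨U, hU, rfl⟩ := exists_eq_D_of_isOpen hS
    obtain ⟨z, hz, hzU⟩ := hZS
    exact ⟨Z₀, ⟨z, hsub hz, hzU⟩, rfl⟩

theorem quasiSober_sob : QuasiSober (Sob X) := by
  constructor
  intro T hT hTc
  obtain ⟨U, hU, hTU⟩ := exists_eq_D_of_isOpen hTc.isOpen_compl
  have hmemT : ∀ Z : Sob X, Z ∈ T ↔ car Z ⊆ Uᶜ := by
    intro Z
    constructor
    · intro hZ z hz hzU
      have : Z ∈ Tᶜ := by
        rw [hTU]
        exact ⟨z, hz, hzU⟩
      exact this hZ
    · intro hsub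
      by_contra hZ
      have : Z ∈ D U := by
        rw [← hTU]
        exact hZ
      obtain ⟨z, hz, hzU⟩ := this
      exact hsub hz hzU
  -- F = Uᶜ is irreducible
  have hFirr : IsIrreducible (Uᶜ : Set X) := by
    constructor
    · obtain ⟨Z, hZ⟩ := hT.nonempty
      obtain ⟨z, hz⟩ := (car_irred Z).nonempty
      exact ⟨z, (hmemT Z).mp hZ hz⟩
    · intro V₁ V₂ hV₁ hV₂ ⟨f₁, hf₁, hf₁V⟩ ⟨f₂, hf₂, hf₂V⟩
      have hc : ∀ f ∈ (Uᶜ : Set X), (toSob X f) ∈ T := by
        intro f hf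
        rw [hmemT, car_toSob]
        exact closure_minimal (singleton_subset_iff.mpr hf) hU.isClosed_compl
      have := hT.isPreirreducible (D V₁) (D V₂) (isOpen_D hV₁) (isOpen_D hV₂)
        ⟨toSob X f₁, hc f₁ hf₁, ⟨f₁, subset_closure rfl, hf₁V⟩⟩
        ⟨toSob X f₂, hc f₂ hf₂, ⟨f₂, subset_closure rfl, hf₂V⟩⟩
      obtain ⟨Z, hZT, hZ12⟩ := this
      rw [← D_inter hV₁ hV₂] at hZ12
      obtain ⟨z, hz, hzV⟩ := hZ12
      exact ⟨z, (hmemT Z).mp hZT hz, hzV⟩
  refine ⟨mk Uᶜ hFirr hU.isClosed_compl, ?_⟩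
  show closure {mk Uᶜ hFirr hU.isClosed_compl} = T
  ext Z
  rw [mem_closure_singleton_iff, hmemT, car_mk]

theorem exists_lift (Y : Type u) [TopologicalSpace Y] [QuasiSober Y] [T0Space Y] (f : X → Y)
    (hf : Continuous f) : ∃ g : Sob X → Y, Continuous g ∧ g ∘ toSob X = f := by
  have hirr : ∀ Z : Sob X, IsIrreducible (closure (f '' car Z)) := fun Z =>
    ((car_irred Z).image f hf.continuousOn).closure
  choose g hg using fun Z : Sob X => QuasiSober.sober (hirr Z) isClosed_closure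
  refine ⟨g, ?_, ?_⟩
  · refine continuous_def.mpr fun V hV => ?_
    have : g ⁻¹' V = D (f ⁻¹' V) := by
      ext Z
      show g Z ∈ V ↔ _
      rw [(hg Z).mem_open_set_iff hV]
      constructor
      · rintro ⟨y, hy, hyV⟩
        obtain ⟨w, hwV, ⟨z, hz, rfl⟩⟩ := mem_closure_iff.mp hy V hV hyV
        exact ⟨z, hz, hwV⟩
      · rintro ⟨z, hz, hzV⟩
        exact ⟨f z, subset_closure ⟨z, hz, rfl⟩, hzV⟩
    rw [this]
    exact isOpen_D (hV.preimage hf)
  · funext x
    show g (toSob X x) = f x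
    have h1 : IsGenericPoint (f x) (closure (f '' car (toSob X x))) := by
      rw [car_toSob]
      exact (isGenericPoint_closure (x := x)).image hf
    exact (hg (toSob X x)).eq h1

theorem soberification_universal :
    QuasiSober (Sob X) ∧ T0Space (Sob X) ∧ Continuous (toSob X) ∧
    Set.BijOn (fun U' : Set (Sob X) => toSob X ⁻¹' U') {U' | IsOpen U'} {U : Set X | IsOpen U} ∧
    ∀ (Y : Type u) [TopologicalSpace Y] [QuasiSober Y] [T0Space Y] (f : X → Y), Continuous f →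
      ∃ g : Sob X → Y, Continuous g ∧ g ∘ toSob X = f :=
  ⟨quasiSober_sob, t0Space_sob, continuous_toSob, bijOn_preimage,
    fun Y _ _ _ f hf => exists_lift Y f hf⟩

end Groth.Agent.Lib.Helper20.Sober
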