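import Mathlib
import Groth.Agent.Lib.Helper20.Sober

set_option autoImplicit false

namespace Groth.Agent.Lib.Helper20.Sober2

open Set Topology TopologicalSpace PtTop
open Groth.Agent.Lib.Helper20.Sober

universe u

variable {X : Type u} [TopologicalSpace X]

theorem isCompact_D_iff {U : Set X} (hU : IsOpen U) : IsCompact (D U) ↔ IsCompact U := by
  constructor
  · intro h
    rw [isCompact_iff_finite_subcover]
    intro ι V hV hcov
    obtain ⟨t, ht⟩ := h.elim_finite_subcover (fun i => D (V i)) (fun i => isOpen_D (hV i)) (by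
      rintro Z ⟨z, hz, hzU⟩
      obtain ⟨i, hi⟩ := mem_iUnion.mp (hcov hzU)
      exact mem_iUnion.mpr ⟨i, z, hz, hi⟩)
    refine ⟨t, ?_⟩
    intro x hx
    have : toSob X x ∈ D U := ⟨x, subset_closure rfl, hx⟩
    have h2 := ht this
    simp only [mem_iUnion] at h2 ⊢
    obtain ⟨i, hi, hxi⟩ := h2
    refine ⟨i, hi, ?_⟩
    have : x ∈ toSob X ⁻¹' D (V i) := hxi
    rwa [preimage_toSob_D (hV i)] at this
  · intro h
    rw [isCompact_iff_finite_subcover]
    intro ι S hS hcov
    choose V hV hSV using fun i => exists_eq_D_of_isOpen (hS i)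
    obtain ⟨t, ht⟩ := h.elim_finite_subcover V hV (by
      intro x hx
      have : toSob X x ∈ D U := ⟨x, subset_closure rfl, hx⟩
      obtain ⟨i, hi⟩ := mem_iUnion.mp (hcov this)
      rw [hSV i] at hi
      have : x ∈ toSob X ⁻¹' D (V i) := hi
      rw [preimage_toSob_D (hV i)] at this
      exact mem_iUnion.mpr ⟨i, this⟩)
    refine ⟨t, ?_⟩
    rintro Z ⟨z, hz, hzU⟩
    have h2 := ht hzU
    simp only [mem_iUnion] at h2 ⊢
    obtain ⟨i, hi, hzi⟩ := h2
    refine ⟨i, hi, ?_⟩
    rw [hSV i]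
    exact ⟨z, hz, hzi⟩

theorem compactSpace_sob [CompactSpace X] : CompactSpace (Sob X) := by
  rw [← isCompact_univ_iff, ← D_univ, isCompact_D_iff isOpen_univ]
  exact isCompact_univ

theorem prespectralSpace_sob [PrespectralSpace X] : PrespectralSpace (Sob X) := by
  refine PrespectralSpace.of_isTopologicalBasis
    (B := {S | ∃ U : Set X, IsOpen U ∧ IsCompact U ∧ S = D U}) ?_ ?_
  · apply isTopologicalBasis_of_isOpen_of_nhds
    · rintro _ ⟨U, hU, _, rfl⟩
      exact isOpen_D hU
    · intro Z S hZS hS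
      obtain ⟨V, hV, rfl⟩ := exists_eq_D_of_isOpen hS
      obtain ⟨z, hz, hzV⟩ := hZS
      obtain ⟨U, ⟨hUo, hUc⟩, hzU, hUV⟩ :=
        (PrespectralSpace.isTopologicalBasis (X := X)).exists_subset_of_mem_open hzV hV
      exact ⟨D U, ⟨U, hUo, hUc, rfl⟩, ⟨z, hz, hzU⟩, D_mono hUV⟩
  · rintro _ ⟨U, hU, hUc, rfl⟩
    exact (isCompact_D_iff hU).mpr hUc

theorem quasiSeparatedSpace_sob [QuasiSeparatedSpace X] : QuasiSeparatedSpace (Sob X) := by
  constructor
  intro S T hS hSc hT hTc
  obtain ⟨U, hU, rfl⟩ := exists_eq_D_of_isOpen hS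
  obtain ⟨V, hV, rfl⟩ := exists_eq_D_of_isOpen hT
  rw [← D_inter hU hV, isCompact_D_iff (hU.inter hV)]
  exact QuasiSeparatedSpace.inter_isCompact U V hU ((isCompact_D_iff hU).mp hSc) hV
    ((isCompact_D_iff hV).mp hTc)

theorem spectralSpace_sob [CompactSpace X] [PrespectralSpace X] [QuasiSeparatedSpace X] :
    SpectralSpace (Sob X) := by
  have h0 : T0Space (Sob X) := t0Space_sob
  have h1 : CompactSpace (Sob X) := compactSpace_sob
  have h2 : QuasiSober (Sob X) := quasiSober_sob
  have h3 : QuasiSeparatedSpace (Sob X) := quasiSeparatedSpace_sob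
  have h4 : PrespectralSpace (Sob X) := prespectralSpace_sob
  exact { }

theorem noetherianSpace_sob [NoetherianSpace X] : NoetherianSpace (Sob X) := by
  rw [noetherianSpace_iff_opens]
  intro s
  obtain ⟨U, hU, hsU⟩ := exists_eq_D_of_isOpen s.isOpen
  rw [hsU, isCompact_D_iff hU]
  exact NoetherianSpace.isCompact U

theorem soberification_props :
    (CompactSpace X → CompactSpace (Sob X)) ∧
    (CompactSpace X → PrespectralSpace X → QuasiSeparatedSpace X → SpectralSpace (Sob X)) ∧
    (NoetherianSpace X → NoetherianSpace (Sob X) ∧ SpectralSpace (Sob X)) := by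
  refine ⟨fun h => compactSpace_sob, fun h1 h2 h3 => spectralSpace_sob, fun h => ?_⟩
  have : PrespectralSpace X :=
    PrespectralSpace.of_isTopologicalBasis isTopologicalBasis_opens
      fun _ _ => NoetherianSpace.isCompact _
  exact ⟨noetherianSpace_sob, spectralSpace_sob⟩

end Groth.Agent.Lib.Helper20.Sober2
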