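import Mathlib
import Groth.Agent.Lib.Helper20.Sierp

set_option autoImplicit false

namespace Groth.Agent.Lib.Helper20.SpecFinLim

open TopologicalSpace Topology Set CategoryTheory CategoryTheory.Limits Opposite
open Groth.Agent.Lib.Helper20.Spectral Groth.Agent.Lib.Helper20.Sierp

universe u

theorem quasiSober_of_finite (Y : Type*) [TopologicalSpace Y] [Finite Y] : QuasiSober Y := by
  classical
  constructor
  intro Z hZ hZc
  have hfin : Z.Finite := Set.toFinite Z
  have := isIrreducible_iff_sUnion_isClosed.mp hZ (hfin.toFinset.image (fun z => closure {z}))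
    (by
      intro w hw
      obtain ⟨z, _, rfl⟩ := Finset.mem_image.mp hw
      exact isClosed_closure)
    (by
      intro z hz
      refine ⟨closure {z}, ?_, subset_closure rfl⟩
      simp only [Finset.coe_image, mem_image, Finset.mem_coe, Set.Finite.mem_toFinset]
      exact ⟨z, hz, rfl⟩)
  obtain ⟨w, hw, hZw⟩ := this
  obtain ⟨z, hz, rfl⟩ := Finset.mem_image.mp hw
  rw [Set.Finite.mem_toFinset] at hz
  refine ⟨z, ?_⟩
  show closure {z} = Z
  exact Subset.antisymm (closure_minimal (singleton_subset_iff.mpr hz) hZc) hZw

variable (X : Type u) [TopologicalSpace X]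

/-- compact opens -/
abbrev CO : Type u := {U : Set X // IsOpen U ∧ IsCompact U}

/-- the finite-stage map -/
def eS (S : Finset (CO X)) : X → (↥S → Prop) := fun x U => x ∈ U.1.1

/-- restriction of coordinates -/
def restr {S T : Finset (CO X)} (h : S ≤ T) : (↥T → Prop) → (↥S → Prop) :=
  fun u U => u ⟨U.1, h U.2⟩

theorem continuous_restr {S T : Finset (CO X)} (h : S ≤ T) : Continuous (restr X h) :=
  continuous_pi fun U => continuous_apply (⟨U.1, h U.2⟩ : ↥T)

theorem restr_eS {S T : Finset (CO X)} (h : S ≤ T) (x : X) :
    restr X h (eS X T x) = eS X S x := rfl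

theorem continuous_eS (S : Finset (CO X)) : Continuous (eS X S) :=
  continuous_pi fun U => continuous_Prop.mpr U.1.2.1

/-- restriction on ranges -/
def restrRange {S T : Finset (CO X)} (h : S ≤ T) : range (eS X T) → range (eS X S) :=
  fun y => ⟨restr X h y.1, by
    obtain ⟨x, hx⟩ := y.2
    exact ⟨x, by rw [← hx]; rfl⟩⟩

theorem continuous_restrRange {S T : Finset (CO X)} (h : S ≤ T) :
    Continuous (restrRange X h) :=
  Continuous.subtype_mk ((continuous_restr X h).comp continuous_subtype_val) _

/-- the diagram of finite spaces -/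
def F : (Finset (CO X))ᵒᵖ ⥤ TopCat.{u} where
  obj S := TopCat.of (range (eS X S.unop))
  map a := TopCat.ofHom ⟨restrRange X (leOfHom a.unop), continuous_restrRange X _⟩
  map_id _ := ConcreteCategory.hom_ext _ _ (fun _ => rfl)
  map_comp _ _ := ConcreteCategory.hom_ext _ _ (fun _ => rfl)

/-- underlying function of an element of a finite stage -/
def valF (S : Finset (CO X)) (y : (F X).obj (op S)) : (↥S → Prop) :=
  (show range (eS X S) from y).1

theorem valF_injective (S : Finset (CO X)) : Function.Injective (valF X S) := by
  intro y y' h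
  exact Subtype.ext h

theorem valF_mem (S : Finset (CO X)) (y : (F X).obj (op S)) : valF X S y ∈ range (eS X S) :=
  (show range (eS X S) from y).2

theorem valF_map {S T : Finset (CO X)} (h : S ≤ T) (y : (F X).obj (op T)) :
    valF X S ((F X).map (homOfLE h).op y) = restr X h (valF X T y) := rfl

theorem continuous_valF (S : Finset (CO X)) : Continuous (valF X S) :=
  continuous_subtype_val

/-- the cone with vertex `X` -/
def cone : Cone (F X) where
  pt := TopCat.of X
  π :=
    { app := fun S => TopCat.ofHom
        ⟨fun x => (⟨eS X S.unop x, x, rfl⟩ : range (eS X S.unop)),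
          Continuous.subtype_mk (continuous_eS X _) _⟩
      naturality := fun _ _ _ => ConcreteCategory.hom_ext _ _ (fun _ => rfl) }

theorem valF_cone (S : Finset (CO X)) (x : X) :
    valF X S ((cone X).π.app (op S) x) = eS X S x := rfl

variable {X}

theorem eS_injective [T0Space X] [PrespectralSpace X] {x x' : X}
    (h : ∀ S : Finset (CO X), eS X S x = eS X S x') : x = x' := by
  by_contra hne
  obtain ⟨U, hU, hUxy⟩ := exists_isOpen_xor_mem hne
  have key : ∀ V : CO X, (x ∈ V.1) = (x' ∈ V.1) := by
    intro V
    have := congrFun (h {V}) ⟨V, Finset.mem_singleton_self V⟩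
    exact this
  rcases hUxy with ⟨hx, hy⟩ | ⟨hy, hx⟩
  · obtain ⟨V, hV, hxV, hVU⟩ :=
      (PrespectralSpace.isTopologicalBasis (X := X)).exists_subset_of_mem_open hx hU
    have h2 : x' ∈ V := by
      rw [← key ⟨V, hV⟩]
      exact hxV
    exact hy (hVU h2)
  · obtain ⟨V, hV, hyV, hVU⟩ :=
      (PrespectralSpace.isTopologicalBasis (X := X)).exists_subset_of_mem_open hy hU
    have h2 : x ∈ V := by
      rw [key ⟨V, hV⟩]
      exact hyV
    exact hx (hVU h2)

theorem exists_point [SpectralSpace X] (y : ∀ S : Finset (CO X), (↥S → Prop))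
    (hy : ∀ S, y S ∈ range (eS X S))
    (hcompat : ∀ (S T : Finset (CO X)) (h : S ≤ T), restr X h (y T) = y S) :
    ∃ x : X, ∀ S, eS X S x = y S := by
  classical
  let A : Finset (CO X) → Set X := fun S => eS X S ⁻¹' {y S}
  have hAcl : ∀ S, IsClosed[constructibleTopology X] (A S) := by
    intro S
    have : A S = ⋂ U : ↥S, (if y S U then (U.1.1 : Set X) else (U.1.1 : Set X)ᶜ) := by
      ext x
      simp only [A, mem_preimage, mem_singleton_iff, mem_iInter]
      constructor
      · intro h U
        have hU : (x ∈ U.1.1) = y S U := congrFun h U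
        by_cases hyU : y S U
        · simp only [hyU, if_true]
          rw [hU]
          exact hyU
        · simp only [hyU, if_false, mem_compl_iff]
          rw [hU]
          exact hyU
      · intro h
        funext U
        have hU := h U
        by_cases hyU : y S U
        · simp only [hyU, if_true] at hU
          exact propext ⟨fun _ => hyU, fun _ => hU⟩
        · simp only [hyU, if_false, mem_compl_iff] at hU
          exact propext ⟨fun h' => absurd h' hU, fun h' => absurd h' hyU⟩
    rw [this]
    apply @isClosed_iInter _ _ (constructibleTopology X)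
    intro U
    by_cases hyU : y S U
    · simp only [hyU, if_true]
      exact isClosed_cons_of_isCompact_isOpen U.1.2.2 U.1.2.1
    · simp only [hyU, if_false]
      exact @IsOpen.isClosed_compl _ (constructibleTopology X) _
        (U.1.2.2.isOpen_constructibleTopology_of_isOpen U.1.2.1)
  have hAne : ∀ S, (A S).Nonempty := by
    intro S
    obtain ⟨x, hx⟩ := hy S
    exact ⟨x, hx⟩
  have hAmono : ∀ (S T : Finset (CO X)), S ≤ T → A T ⊆ A S := by
    intro S T h x hx
    have hx' : eS X T x = y T := hx
    show eS X S x = y S
    rw [← hcompat S T h, ← hx']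
    rfl
  have hdir : Directed (· ⊇ ·) A := by
    intro S T
    exact ⟨S ∪ T, hAmono S (S ∪ T) Finset.subset_union_left,
      hAmono T (S ∪ T) Finset.subset_union_right⟩
  have hne := @IsCompact.nonempty_iInter_of_directed_nonempty_isCompact_isClosed X
    (constructibleTopology X) (Finset (CO X)) ⟨∅⟩ A hdir hAne
    (fun S => isCompact_cons_of_isClosed_cons (hAcl S)) hAcl
  obtain ⟨x, hx⟩ := hne
  exact ⟨x, fun S => mem_iInter.mp hx S⟩

theorem topology_eq [SpectralSpace X] :
    ‹TopologicalSpace X› =
      ⨅ S : Finset (CO X), induced (eS X S) inferInstance := by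
  apply le_antisymm
  · exact le_iInf fun S => continuous_iff_le_induced.mp (continuous_eS X S)
  · intro O hO
    obtain ⟨B, hB, rfl⟩ := (PrespectralSpace.isTopologicalBasis (X := X)).open_eq_sUnion hO
    apply @isOpen_sUnion _ (⨅ S : Finset (CO X), induced (eS X S) inferInstance)
    intro s hs
    have hle : (⨅ S : Finset (CO X), induced (eS X S) inferInstance) ≤
        induced (eS X {⟨s, hB hs⟩}) inferInstance := iInf_le _ _
    apply hle
    refine isOpen_induced_iff.mpr ⟨b {⟨⟨s, hB hs⟩, Finset.mem_singleton_self _⟩}, isOpen_b _, ?_⟩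
    ext x
    simp only [mem_preimage, b, Set.mem_ofPred_eq, Finset.mem_singleton]
    constructor
    · intro h
      exact h _ rfl
    · intro h i hi
      rw [hi]
      exact h

variable (X)

theorem isLimit_cone [SpectralSpace X] : Nonempty (IsLimit (cone X)) := by
  classical
  -- the lift on points
  have hpt : ∀ (s : Cone (F X)) (z : s.pt), ∃ x : X, ∀ S : Finset (CO X),
      eS X S x = valF X S (s.π.app (op S) z) := by
    intro s z
    apply exists_point (fun S => valF X S (s.π.app (op S) z))
      (fun S => valF_mem X S (s.π.app (op S) z))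
    intro S T h
    have hw := s.w (homOfLE h).op
    have := ConcreteCategory.congr_hom hw z
    rw [ConcreteCategory.comp_apply] at this
    show restr X h (valF X T (s.π.app (op T) z)) = valF X S (s.π.app (op S) z)
    rw [← valF_map, this]
  choose g hg using hpt
  have hgcont : ∀ s : Cone (F X), Continuous (g s) := by
    intro s
    rw [continuous_iff_le_induced]
    refine le_trans ?_ (le_of_eq (congrArg (induced (g s)) (topology_eq (X := X)).symm))
    rw [induced_iInf]
    refine le_iInf fun S => ?_
    rw [induced_compose]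
    have : eS X S ∘ g s = fun z => valF X S (s.π.app (op S) z) := by
      funext z
      exact hg s z S
    rw [this]
    exact continuous_iff_le_induced.mp
      ((continuous_valF X S).comp (TopCat.Hom.hom (s.π.app (op S))).continuous)
  refine ⟨{
    lift := fun s => TopCat.ofHom ⟨g s, hgcont s⟩
    fac := ?_
    uniq := ?_ }⟩
  · intro s S
    refine ConcreteCategory.hom_ext _ _ (fun z => ?_)
    apply valF_injective X S.unop
    exact hg s z S.unop
  · intro s m hm
    refine ConcreteCategory.hom_ext _ _ (fun z => ?_)
    refine eS_injective (X := X) (fun S => ?_)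
    have h1 : eS X S (g s z) = valF X S (s.π.app (op S) z) := hg s z S
    have := ConcreteCategory.congr_hom (hm (op S)) z
    rw [ConcreteCategory.comp_apply] at this
    have h2 : eS X S (m z) = valF X S (s.π.app (op S) z) := by
      rw [← this]
      rfl
    exact h2.trans h1.symm

theorem exists_isLimit_finite_sober [SpectralSpace X] :
    ∃ (J : Type u) (_ : Preorder J) (_ : Nonempty J) (_ : IsDirected J (· ≤ ·))
      (F : Jᵒᵖ ⥤ TopCat.{u}) (c : Cone F), Nonempty (IsLimit c) ∧
        (∀ j : Jᵒᵖ, Finite (F.obj j) ∧ T0Space (F.obj j) ∧ QuasiSober (F.obj j)) ∧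
        Nonempty (c.pt ≅ TopCat.of X) := by
  classical
  refine ⟨Finset (CO X), inferInstance, ⟨∅⟩, inferInstance, F X, cone X, isLimit_cone X, ?_,
    ⟨Iso.refl _⟩⟩
  intro j
  have h1 : Finite ((F X).obj j) := (inferInstance : Finite (range (eS X j.unop)))
  have h2 : T0Space ((F X).obj j) := (inferInstance : T0Space (range (eS X j.unop)))
  exact ⟨h1, h2, quasiSober_of_finite _⟩

end Groth.Agent.Lib.Helper20.SpecFinLim
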