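import Mathlib
import Groth.Agent.Lib.Helper20.Spectral3
import Groth.Agent.Lib.Helper20.SpecLim

set_option autoImplicit false

namespace Groth.Agent.Lib.Helper20.SpecHomeo

open TopologicalSpace Topology Set
open Groth.Agent.Lib.Helper20.Spectral Groth.Agent.Lib.Helper20.Spectral3
open Groth.Agent.Lib.Helper20.SpecLim

universe u

variable {X Y : Type u} [TopologicalSpace X] [TopologicalSpace Y]

theorem isClosed_of_cons_of_stable [SpectralSpace X] {E : Set X}
    (hE : IsClosed[constructibleTopology X] E) (hs : StableUnderSpecialization E) :
    IsClosed E := by
  rw [← closure_subset_iff_isClosed]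
  intro x hx
  obtain ⟨e, he, hex⟩ := exists_specializes E hE x hx
  exact hs hex he

theorem isClosed_cons_image [SpectralSpace X] [SpectralSpace Y] {f : X → Y}
    (hf : IsSpectralMap f) {T : Set X} (hT : IsClosed[constructibleTopology X] T) :
    IsClosed[constructibleTopology Y] (f '' T) := by
  have h1 := isCompact_cons_of_isClosed_cons hT
  have h2 : @IsCompact Y (constructibleTopology Y) (f '' T) :=
    @IsCompact.image X Y (constructibleTopology X) (constructibleTopology Y) T f h1
      (continuous_cons_of_isSpectralMap hf)
  exact @IsCompact.isClosed Y (constructibleTopology Y) t2Space_cons _ h2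

theorem isHomeomorph_of_isSpectralMap_bijective [SpectralSpace X] [SpectralSpace Y] (f : X → Y)
    (hf : IsSpectralMap f) (hb : Function.Bijective f)
    (hlift : GeneralizingMap f ∨ SpecializingMap f) : IsHomeomorph f := by
  rcases hlift with hg | hs
  · refine ⟨hf.toContinuous, ?_, hb⟩
    intro U hU
    rw [← isClosed_compl_iff]
    apply isClosed_of_cons_of_stable
    · rw [← image_compl_eq hb]
      exact isClosed_cons_image hf (isClosed_cons_of_isClosed hU.isClosed_compl)
    · have : StableUnderGeneralization (f '' U) :=
        hg.stableUnderGeneralization_image hU.stableUnderGeneralization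
      exact this.compl
  · rw [isHomeomorph_iff_continuous_isClosedMap_bijective]
    refine ⟨hf.toContinuous, ?_, hb⟩
    intro T hT
    apply isClosed_of_cons_of_stable
    · exact isClosed_cons_image hf (isClosed_cons_of_isClosed hT)
    · exact hs.stableUnderSpecialization_image hT.stableUnderSpecialization

end Groth.Agent.Lib.Helper20.SpecHomeo
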