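import Mathlib
import Groth.Agent.Lib.Helper20.SpecLim

set_option autoImplicit false

namespace Groth.Agent.Lib.Helper20.SpecLim2

open TopologicalSpace Topology Set CategoryTheory CategoryTheory.Limits
open Groth.Agent.Lib.Helper20.Spectral Groth.Agent.Lib.Helper20.SpecLim

universe u

variable {J : Type u} [SmallCategory J] (F : J ⥤ TopCat.{u})

theorem map_comp_apply' {i j k : J} (a : i ⟶ j) (b : j ⟶ k) (y : F.obj i) :
    F.map b (F.map a y) = F.map (a ≫ b) y := by
  rw [F.map_comp, ConcreteCategory.comp_apply]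

theorem exists_compat_of_finite (hF : ∀ j, SpectralSpace (F.obj j))
    (hFm : ∀ {i j : J} (a : i ⟶ j), IsSpectralMap (F.map a : F.obj i → F.obj j))
    (D : Set (∀ j, WithConstructibleTopology (F.obj j))) (hD : IsClosed D)
    (hfin : ∀ ua : Finset (Σ (p : J × J), (p.1 ⟶ p.2)), ∃ u ∈ D, ∀ x ∈ ua,
      F.map x.2 (u x.1.1).ofTopology = (u x.1.2).ofTopology) :
    ∃ u ∈ D, (fun j => (u j).ofTopology) ∈ Compat F := by
  have : ∀ j, T2Space (WithConstructibleTopology (F.obj j)) := fun j => t2Space_wct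
  let t : (Σ (p : J × J), (p.1 ⟶ p.2)) → Set (∀ j, WithConstructibleTopology (F.obj j)) :=
    fun x => {u | consMap (F.map x.2 : F.obj x.1.1 → F.obj x.1.2) (u x.1.1) = u x.1.2}
  have htc : ∀ x, IsClosed (t x) := fun x =>
    isClosed_eq ((continuous_consMap (hFm x.2)).comp (continuous_apply x.1.1))
      (continuous_apply x.1.2)
  obtain ⟨u, huD, hut⟩ := hD.isCompact.inter_iInter_nonempty t htc (by
    intro ua
    obtain ⟨u, huD, hu⟩ := hfin ua
    refine ⟨u, huD, ?_⟩
    simp only [mem_iInter]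
    intro x hx
    exact WithTopology.ofTopology_injective _ (hu x hx))
  refine ⟨u, huD, ?_⟩
  intro i j a
  have := mem_iInter.mp hut ⟨(i, j), a⟩
  exact congrArg WithTopology.ofTopology this

theorem exists_cone_of_finset [IsCofiltered J] (O' : Finset J)
    (ua : Finset (Σ (p : J × J), (p.1 ⟶ p.2))) :
    ∃ (S : J) (O : Finset J) (T : ∀ X : J, X ∈ O → (S ⟶ X)), O' ⊆ O ∧
      ∀ x ∈ ua, ∃ (h1 : x.1.1 ∈ O) (h2 : x.1.2 ∈ O), T _ h1 ≫ x.2 = T _ h2 := by
  classical
  let O : Finset J := O' ∪ ua.image (fun x => x.1.1) ∪ ua.image (fun x => x.1.2)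
  have m1 : ∀ x ∈ ua, x.1.1 ∈ O := fun x hx =>
    Finset.mem_union_left _ (Finset.mem_union_right _ (Finset.mem_image_of_mem _ hx))
  have m2 : ∀ x ∈ ua, x.1.2 ∈ O := fun x hx =>
    Finset.mem_union_right _ (Finset.mem_image_of_mem _ hx)
  let H : Finset (Σ' (X Y : J) (_ : X ∈ O) (_ : Y ∈ O), X ⟶ Y) :=
    ua.attach.image (fun x => ⟨x.1.1.1, x.1.1.2, m1 x.1 x.2, m2 x.1 x.2, x.1.2⟩)
  obtain ⟨S, T, hT⟩ := IsCofiltered.inf_exists O H
  refine ⟨S, O, fun X h => T h, ?_, ?_⟩
  · intro X hX
    exact Finset.mem_union_left _ (Finset.mem_union_left _ hX)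
  · intro x hx
    refine ⟨m1 x hx, m2 x hx, ?_⟩
    apply hT
    exact Finset.mem_image.mpr ⟨⟨x, hx⟩, Finset.mem_attach _ _, rfl⟩

variable {F}

theorem nonempty_lim [IsCofiltered J] (hF : ∀ j, SpectralSpace (F.obj j))
    (hFm : ∀ {i j : J} (a : i ⟶ j), IsSpectralMap (F.map a : F.obj i → F.obj j))
    (c : Cone F) (hc : IsLimit c) (Z : ∀ j, Set (F.obj j)) (hne : ∀ j, (Z j).Nonempty)
    (hZ : ∀ j, IsClosed[constructibleTopology (F.obj j)] (Z j))
    (hmaps : ∀ {i j : J} (a : i ⟶ j), Set.MapsTo (F.map a) (Z i) (Z j)) :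
    ∃ x : c.pt, ∀ j, c.π.app j x ∈ Z j := by
  classical
  let D : Set (∀ j, WithConstructibleTopology (F.obj j)) := {u | ∀ j, (u j).ofTopology ∈ Z j}
  have hD : IsClosed D := by
    have : D = ⋂ j, {u | (u j).ofTopology ∈ Z j} := by
      ext u
      simp only [mem_iInter]
      rfl
    rw [this]
    refine isClosed_iInter fun j => ?_
    have h := isClosed_preimage_ofTopology (hZ j)
    exact h.preimage (continuous_apply (A := fun j => WithConstructibleTopology (F.obj j)) j)
  obtain ⟨u, huD, hu⟩ := exists_compat_of_finite F hF hFm D hD (by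
    intro ua
    obtain ⟨S, O, T, _, hT⟩ := exists_cone_of_finset ∅ ua
    obtain ⟨y, hy⟩ := hne S
    choose z hz using hne
    refine ⟨fun X => if h : X ∈ O then WithTopology.toTopology _ (F.map (T X h) y)
      else WithTopology.toTopology _ (z X), ?_, ?_⟩
    · intro X
      by_cases h : X ∈ O
      · simp only [dif_pos h]
        exact hmaps (T X h) hy
      · simp only [dif_neg h]
        exact hz X
    · intro x hx
      obtain ⟨h1, h2, hcomm⟩ := hT x hx
      simp only [dif_pos h1, dif_pos h2]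
      show F.map x.2 (F.map (T _ h1) y) = F.map (T _ h2) y
      rw [map_comp_apply', hcomm])
  obtain ⟨x, hx⟩ := exists_of_compat c hc _ hu
  refine ⟨x, fun j => ?_⟩
  have := congrFun hx j
  show psi c x j ∈ Z j
  rw [this]
  exact huD j

theorem nonempty_lim_of_nonempty [IsCofiltered J] (hF : ∀ j, SpectralSpace (F.obj j))
    (hFm : ∀ {i j : J} (a : i ⟶ j), IsSpectralMap (F.map a : F.obj i → F.obj j))
    (c : Cone F) (hc : IsLimit c) (hne : ∀ j, Nonempty (F.obj j)) : Nonempty c.pt := by
  obtain ⟨x, _⟩ := nonempty_lim hF hFm c hc (fun _ => univ) (fun j => univ_nonempty)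
    (fun j => @isClosed_univ _ (constructibleTopology (F.obj j))) (fun _ _ _ => mem_univ _)
  exact ⟨x⟩

theorem preimage_subset_iff [IsCofiltered J] (hF : ∀ j, SpectralSpace (F.obj j))
    (hFm : ∀ {i j : J} (a : i ⟶ j), IsSpectralMap (F.map a : F.obj i → F.obj j))
    (c : Cone F) (hc : IsLimit c) (i : J) (E F' : Set (F.obj i))
    (hE : IsClosed[constructibleTopology (F.obj i)] E)
    (hF' : IsOpen[constructibleTopology (F.obj i)] F') :
    (c.π.app i ⁻¹' E ⊆ c.π.app i ⁻¹' F') ↔
      ∃ (j : J) (a : j ⟶ i), F.map a ⁻¹' E ⊆ F.map a ⁻¹' F' := by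
  classical
  constructor
  · intro hsub
    by_contra hcon
    have hex : ∀ (j : J) (a : j ⟶ i), ∃ y : F.obj j, F.map a y ∈ E ∧ F.map a y ∉ F' := by
      intro j a
      by_contra hno
      apply hcon
      refine ⟨j, a, fun y hy => ?_⟩
      by_contra hyF
      exact hno ⟨y, hy, hyF⟩
    have hne : ∀ X : J, Nonempty (F.obj X) := by
      intro X
      obtain ⟨y, _⟩ := hex (IsCofiltered.min X i) (IsCofiltered.minToRight X i)
      exact ⟨F.map (IsCofiltered.minToLeft X i) y⟩
    let D : Set (∀ j, WithConstructibleTopology (F.obj j)) :=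
      {u | (u i).ofTopology ∈ E \ F'}
    have hD : IsClosed D := by
      have h0 : IsClosed[constructibleTopology (F.obj i)] (E \ F') := by
        rw [Set.sdiff_eq]
        exact @IsClosed.inter _ _ _ (constructibleTopology (F.obj i)) hE
          (@IsOpen.isClosed_compl _ (constructibleTopology (F.obj i)) _ hF')
      have h := isClosed_preimage_ofTopology h0
      exact h.preimage (continuous_apply (A := fun j => WithConstructibleTopology (F.obj j)) i)
    obtain ⟨u, huD, hu⟩ := exists_compat_of_finite F hF hFm D hD (by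
      intro ua
      obtain ⟨S, O, T, hO, hT⟩ := exists_cone_of_finset {i} ua
      have hi : i ∈ O := hO (Finset.mem_singleton_self i)
      obtain ⟨y, hy1, hy2⟩ := hex S (T i hi)
      refine ⟨fun X => if h : X ∈ O then WithTopology.toTopology _ (F.map (T X h) y)
        else WithTopology.toTopology _ (Classical.choice (hne X)), ?_, ?_⟩
      · show (if h : i ∈ O then WithTopology.toTopology _ (F.map (T i h) y)
          else WithTopology.toTopology _ (Classical.choice (hne i))).ofTopology ∈ E \ F'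
        simp only [dif_pos hi]
        exact ⟨hy1, hy2⟩
      · intro x hx
        obtain ⟨h1, h2, hcomm⟩ := hT x hx
        simp only [dif_pos h1, dif_pos h2]
        show F.map x.2 (F.map (T _ h1) y) = F.map (T _ h2) y
        rw [map_comp_apply', hcomm])
    obtain ⟨x, hx⟩ := exists_of_compat c hc _ hu
    have h1 : c.π.app i x = (u i).ofTopology := congrFun hx i
    have h2 : c.π.app i x ∈ E \ F' := by
      rw [h1]
      exact huD
    exact h2.2 (hsub h2.1)
  · rintro ⟨j, a, hsub⟩ x hx
    have hnat := cone_naturality c a x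
    have h2 : c.π.app j x ∈ F.map a ⁻¹' E := by
      show F.map a (c.π.app j x) ∈ E
      rw [hnat]
      exact hx
    have h3 := hsub h2
    show c.π.app i x ∈ F'
    rw [← hnat]
    exact h3

end Groth.Agent.Lib.Helper20.SpecLim2
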