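import Mathlib
import Groth.Agent.Lib.Helper20.SpecLim2

set_option autoImplicit false

namespace Groth.Agent.Lib.Helper20.SpecLim3

open TopologicalSpace Topology Set CategoryTheory CategoryTheory.Limits
open Groth.Agent.Lib.Helper20.Spectral Groth.Agent.Lib.Helper20.SpecLim
open Groth.Agent.Lib.Helper20.SpecLim2

universe u

variable {J : Type u} [SmallCategory J] {F : J ⥤ TopCat.{u}}

theorem continuous_proj (c : Cone F) (j : J) : Continuous (c.π.app j : c.pt → F.obj j) :=
  (TopCat.Hom.hom (c.π.app j)).continuous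

theorem map_id_apply' (j : J) (y : F.obj j) : F.map (𝟙 j) y = y := by
  rw [F.map_id]
  rfl

theorem isCompact_preimage_proj (hF : ∀ j, SpectralSpace (F.obj j))
    (hFm : ∀ {i j : J} (a : i ⟶ j), IsSpectralMap (F.map a : F.obj i → F.obj j))
    (c : Cone F) (hc : IsLimit c) (j : J) (U : Set (F.obj j)) (hUo : IsOpen U)
    (hUc : IsCompact U) : IsCompact (c.π.app j ⁻¹' U) := by
  let Z : ∀ k, Set (F.obj k) := fun k => ⋂ (a : k ⟶ j), (F.map a) ⁻¹' U
  have hZ : ∀ k, IsClosed[constructibleTopology (F.obj k)] (Z k) := fun k =>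
    @isClosed_iInter _ _ (constructibleTopology (F.obj k)) _ fun a =>
      isClosed_cons_of_isCompact_isOpen ((hFm a).isCompact_preimage_of_isOpen hUo hUc)
        (hUo.preimage (hFm a).toContinuous)
  have := isCompact_lim c hF hFm hc Z hZ
  have heq : c.π.app j ⁻¹' U = {x : c.pt | ∀ k, c.π.app k x ∈ Z k} := by
    ext x
    simp only [mem_preimage, Z, mem_iInter]
    constructor
    · intro hx k a
      rw [cone_naturality c a x]
      exact hx
    · intro h
      have := h j (𝟙 j)
      rwa [map_id_apply'] at this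
  rw [heq]
  exact this

theorem isSpectralMap_proj (hF : ∀ j, SpectralSpace (F.obj j))
    (hFm : ∀ {i j : J} (a : i ⟶ j), IsSpectralMap (F.map a : F.obj i → F.obj j))
    (c : Cone F) (hc : IsLimit c) (j : J) : IsSpectralMap (c.π.app j : c.pt → F.obj j) :=
  ⟨continuous_proj c j, fun U hUo hUc => isCompact_preimage_proj hF hFm c hc j U hUo hUc⟩

/-- the basis of the limit -/
def limBasis (c : Cone F) : Set (Set c.pt) :=
  {U | ∃ (j : J) (V : Set (F.obj j)), V ∈ {V : Set (F.obj j) | IsOpen V ∧ IsCompact V} ∧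
    U = c.π.app j ⁻¹' V}

theorem isTopologicalBasis_limBasis [IsCofiltered J] (hF : ∀ j, SpectralSpace (F.obj j))
    (hFm : ∀ {i j : J} (a : i ⟶ j), IsSpectralMap (F.map a : F.obj i → F.obj j))
    (c : Cone F) (hc : IsLimit c) : IsTopologicalBasis (limBasis c) := by
  refine TopCat.isTopologicalBasis_cofiltered_limit F c hc
    (fun j => {V : Set (F.obj j) | IsOpen V ∧ IsCompact V})
    (fun j => PrespectralSpace.isTopologicalBasis) (fun j => ⟨isOpen_univ, isCompact_univ⟩)
    (fun j U1 U2 h1 h2 => ⟨h1.1.inter h2.1,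
      QuasiSeparatedSpace.inter_isCompact _ _ h1.1 h1.2 h2.1 h2.2⟩)
    (fun i j a V hV => ⟨hV.1.preimage (hFm a).toContinuous,
      (hFm a).isCompact_preimage_of_isOpen hV.1 hV.2⟩)

theorem t0Space_lim (hF : ∀ j, SpectralSpace (F.obj j)) (c : Cone F) (hc : IsLimit c) :
    T0Space c.pt :=
  (IsEmbedding.mk (psi_isInducing c hc) (psi_injective c hc)).t0Space

theorem prespectralSpace_lim [IsCofiltered J] (hF : ∀ j, SpectralSpace (F.obj j))
    (hFm : ∀ {i j : J} (a : i ⟶ j), IsSpectralMap (F.map a : F.obj i → F.obj j))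
    (c : Cone F) (hc : IsLimit c) : PrespectralSpace c.pt := by
  refine PrespectralSpace.of_isTopologicalBasis (isTopologicalBasis_limBasis hF hFm c hc) ?_
  rintro _ ⟨j, V, ⟨hVo, hVc⟩, rfl⟩
  exact isCompact_preimage_proj hF hFm c hc j V hVo hVc

theorem preimage_proj_comp (c : Cone F) {i j : J} (a : i ⟶ j) (V : Set (F.obj j)) :
    c.π.app i ⁻¹' (F.map a ⁻¹' V) = c.π.app j ⁻¹' V := by
  ext x
  simp only [mem_preimage]
  rw [cone_naturality c a x]

theorem quasiSeparatedSpace_lim [IsCofiltered J] (hF : ∀ j, SpectralSpace (F.obj j))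
    (hFm : ∀ {i j : J} (a : i ⟶ j), IsSpectralMap (F.map a : F.obj i → F.obj j))
    (c : Cone F) (hc : IsLimit c) : QuasiSeparatedSpace c.pt := by
  let ι := Σ j : J, {V : Set (F.obj j) // IsOpen V ∧ IsCompact V}
  let b : ι → Set c.pt := fun p => c.π.app p.1 ⁻¹' p.2.1
  have hb : IsTopologicalBasis (range b) := by
    convert isTopologicalBasis_limBasis hF hFm c hc using 1
    ext W
    constructor
    · rintro ⟨⟨j, V⟩, rfl⟩
      exact ⟨j, V.1, V.2, rfl⟩
    · rintro ⟨j, V, hV, rfl⟩
      exact ⟨⟨j, ⟨V, hV⟩⟩, rfl⟩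
  refine QuasiSeparatedSpace.of_isTopologicalBasis hb ?_
  rintro ⟨i, V, hVo, hVc⟩ ⟨j, W, hWo, hWc⟩
  show IsCompact (c.π.app i ⁻¹' V ∩ c.π.app j ⁻¹' W)
  rw [← preimage_proj_comp c (IsCofiltered.minToLeft i j) V,
    ← preimage_proj_comp c (IsCofiltered.minToRight i j) W, ← preimage_inter]
  refine isCompact_preimage_proj hF hFm c hc _ _ ?_ ?_
  · exact (hVo.preimage (hFm _).toContinuous).inter (hWo.preimage (hFm _).toContinuous)
  · exact QuasiSeparatedSpace.inter_isCompact _ _ (hVo.preimage (hFm _).toContinuous)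
      ((hFm _).isCompact_preimage_of_isOpen hVo hVc) (hWo.preimage (hFm _).toContinuous)
      ((hFm _).isCompact_preimage_of_isOpen hWo hWc)

theorem quasiSober_lim [IsCofiltered J] (hF : ∀ j, SpectralSpace (F.obj j))
    (hFm : ∀ {i j : J} (a : i ⟶ j), IsSpectralMap (F.map a : F.obj i → F.obj j))
    (c : Cone F) (hc : IsLimit c) : QuasiSober c.pt := by
  constructor
  intro Z hZ hZc
  have hirr : ∀ j, IsIrreducible (closure (c.π.app j '' Z)) := fun j =>
    (hZ.image _ (continuous_proj c j).continuousOn).closure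
  choose ξ hξ using fun j => QuasiSober.sober (hirr j) isClosed_closure
  have hcompat : ξ ∈ Compat F := by
    intro i j a
    have h1 : IsGenericPoint (F.map a (ξ i)) (closure (c.π.app j '' Z)) := by
      have := (hξ i).image (hFm a).toContinuous
      rw [closure_image_closure (hFm a).toContinuous, image_image] at this
      have himg : (fun x => (F.map a) (c.π.app i x)) '' Z = c.π.app j '' Z :=
        image_congr (fun z _ => cone_naturality c a z)
      rw [himg] at this
      exact this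
    exact h1.eq (hξ j)
  obtain ⟨x₀, hx₀⟩ := exists_of_compat c hc ξ hcompat
  have hproj : ∀ j, c.π.app j x₀ = ξ j := fun j => congrFun hx₀ j
  refine ⟨x₀, ?_⟩
  show closure {x₀} = Z
  have hbasis := isTopologicalBasis_limBasis hF hFm c hc
  have hmem : x₀ ∈ Z := by
    by_contra hnot
    obtain ⟨U, ⟨j, V, ⟨hVo, hVc⟩, rfl⟩, hxU, hUZ⟩ :=
      hbasis.exists_subset_of_mem_open (show x₀ ∈ Zᶜ from hnot) hZc.isOpen_compl
    have h1 : ξ j ∈ V := by
      rw [← hproj j]
      exact hxU
    have h2 : ξ j ∈ closure (c.π.app j '' Z) := (hξ j).mem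
    obtain ⟨_, hyV, ⟨z, hz, rfl⟩⟩ := mem_closure_iff.mp h2 V hVo h1
    exact hUZ hyV hz
  apply Subset.antisymm
  · exact closure_minimal (singleton_subset_iff.mpr hmem) hZc
  · intro z hz
    rw [mem_closure_iff]
    intro O hO hzO
    obtain ⟨U, ⟨j, V, ⟨hVo, hVc⟩, rfl⟩, hzU, hUO⟩ := hbasis.exists_subset_of_mem_open hzO hO
    refine ⟨x₀, hUO ?_, rfl⟩
    show c.π.app j x₀ ∈ V
    rw [hproj j]
    have : c.π.app j z ∈ closure ({ξ j} : Set _) := by
      rw [(hξ j).def]
      exact subset_closure ⟨z, hz, rfl⟩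
    obtain ⟨y, hyV, hy⟩ := mem_closure_iff.mp this V hVo hzU
    rw [mem_singleton_iff] at hy
    rw [← hy]
    exact hyV

theorem spectralSpace_lim [IsCofiltered J] (hF : ∀ j, SpectralSpace (F.obj j))
    (hFm : ∀ {i j : J} (a : i ⟶ j), IsSpectralMap (F.map a : F.obj i → F.obj j))
    (c : Cone F) (hc : IsLimit c) : SpectralSpace c.pt := by
  have h0 : T0Space c.pt := t0Space_lim hF c hc
  have h1 : CompactSpace c.pt := compactSpace_lim c hF hFm hc
  have h2 : QuasiSober c.pt := quasiSober_lim hF hFm c hc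
  have h3 : QuasiSeparatedSpace c.pt := quasiSeparatedSpace_lim hF hFm c hc
  have h4 : PrespectralSpace c.pt := prespectralSpace_lim hF hFm c hc
  exact { }

end Groth.Agent.Lib.Helper20.SpecLim3
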