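import Mathlib
import Groth.Agent.Lib.Helper20.SpecLim3

set_option autoImplicit false

namespace Groth.Agent.Lib.Helper20.SpecLim4

open TopologicalSpace Topology Set CategoryTheory CategoryTheory.Limits
open Groth.Agent.Lib.Helper20.Spectral Groth.Agent.Lib.Helper20.SpecLim
open Groth.Agent.Lib.Helper20.SpecLim2 Groth.Agent.Lib.Helper20.SpecLim3

universe u

variable {J : Type u} [SmallCategory J] {F : J ⥤ TopCat.{u}}

theorem preimage_map_comp {i j k : J} (a : i ⟶ j) (b : j ⟶ k) (V : Set (F.obj k)) :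
    F.map a ⁻¹' (F.map b ⁻¹' V) = F.map (a ≫ b) ⁻¹' V := by
  ext x
  simp only [mem_preimage]
  rw [map_comp_apply']

/-- `U` comes from a compact open at a finite stage -/
def IsStage (c : Cone F) (U : Set c.pt) : Prop :=
  ∃ (i : J) (Ui : Set (F.obj i)), IsOpen Ui ∧ IsCompact Ui ∧ c.π.app i ⁻¹' Ui = U

theorem isStage_empty [IsCofiltered J] (c : Cone F) : IsStage c ∅ :=
  ⟨Classical.choice IsCofiltered.nonempty, ∅, isOpen_empty, isCompact_empty, preimage_empty⟩

theorem isStage_union [IsCofiltered J]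
    (hFm : ∀ {i j : J} (a : i ⟶ j), IsSpectralMap (F.map a : F.obj i → F.obj j))
    (c : Cone F) {U V : Set c.pt} (hU : IsStage c U) (hV : IsStage c V) : IsStage c (U ∪ V) := by
  obtain ⟨i, Ui, hUio, hUic, rfl⟩ := hU
  obtain ⟨j, Vj, hVjo, hVjc, rfl⟩ := hV
  refine ⟨IsCofiltered.min i j, F.map (IsCofiltered.minToLeft i j) ⁻¹' Ui ∪
    F.map (IsCofiltered.minToRight i j) ⁻¹' Vj, ?_, ?_, ?_⟩
  · exact (hUio.preimage (hFm _).toContinuous).union (hVjo.preimage (hFm _).toContinuous)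
  · exact ((hFm _).isCompact_preimage_of_isOpen hUio hUic).union
      ((hFm _).isCompact_preimage_of_isOpen hVjo hVjc)
  · rw [preimage_union, preimage_proj_comp, preimage_proj_comp]

theorem isStage_of_isCompact_isOpen [IsCofiltered J] (hF : ∀ j, SpectralSpace (F.obj j))
    (hFm : ∀ {i j : J} (a : i ⟶ j), IsSpectralMap (F.map a : F.obj i → F.obj j))
    (c : Cone F) (hc : IsLimit c) (U : Set c.pt) (hUo : IsOpen U) (hUc : IsCompact U) :
    IsStage c U := by
  let ι := Σ j : J, {V : Set (F.obj j) // IsOpen V ∧ IsCompact V}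
  let b : ι → Set c.pt := fun p => c.π.app p.1 ⁻¹' p.2.1
  have hb : IsTopologicalBasis (range b) := by
    convert isTopologicalBasis_limBasis hF hFm c hc using 1
    ext W
    constructor
    · rintro ⟨⟨j, V⟩, rfl⟩
      exact ⟨j, V.1, V.2, rfl⟩
    · rintro ⟨j, V, hV, rfl⟩
      exact ⟨⟨j, ⟨V, hV⟩⟩, rfl⟩
  have hb' : ∀ p, IsCompact (b p) := fun p =>
    isCompact_preimage_proj hF hFm c hc p.1 p.2.1 p.2.2.1 p.2.2.2
  obtain ⟨s, hs, rfl⟩ :=
    (isCompact_open_iff_eq_finite_iUnion_of_isTopologicalBasis b hb hb' U).mp ⟨hUc, hUo⟩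
  clear hUo hUc
  induction s, hs using Set.Finite.induction_on with
  | empty =>
    simp only [mem_empty_iff_false, iUnion_of_empty, iUnion_empty]
    exact isStage_empty c
  | @insert p s _ _ ih =>
    rw [biUnion_insert]
    exact isStage_union hFm c ⟨p.1, p.2.1, p.2.2.1, p.2.2.2, rfl⟩ ih

theorem exists_hom_preimage_subset [IsCofiltered J] (hF : ∀ j, SpectralSpace (F.obj j))
    (hFm : ∀ {i j : J} (a : i ⟶ j), IsSpectralMap (F.map a : F.obj i → F.obj j))
    (c : Cone F) (hc : IsLimit c) (i j : J) (Ui : Set (F.obj i)) (Uj : Set (F.obj j))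
    (hUio : IsOpen Ui) (hUic : IsCompact Ui) (hUjo : IsOpen Uj) (hUjc : IsCompact Uj)
    (hsub : c.π.app i ⁻¹' Ui ⊆ c.π.app j ⁻¹' Uj) :
    ∃ (k : J) (a : k ⟶ i) (b : k ⟶ j), F.map a ⁻¹' Ui ⊆ F.map b ⁻¹' Uj := by
  let k₀ := IsCofiltered.min i j
  let a₀ : k₀ ⟶ i := IsCofiltered.minToLeft i j
  let b₀ : k₀ ⟶ j := IsCofiltered.minToRight i j
  have hE : IsClosed[constructibleTopology (F.obj k₀)] (F.map a₀ ⁻¹' Ui) :=
    isClosed_cons_of_isCompact_isOpen ((hFm a₀).isCompact_preimage_of_isOpen hUio hUic)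
      (hUio.preimage (hFm a₀).toContinuous)
  have hF' : IsOpen[constructibleTopology (F.obj k₀)] (F.map b₀ ⁻¹' Uj) :=
    ((hFm b₀).isCompact_preimage_of_isOpen hUjo hUjc).isOpen_constructibleTopology_of_isOpen
      (hUjo.preimage (hFm b₀).toContinuous)
  have h := (preimage_subset_iff hF hFm c hc k₀ _ _ hE hF').mp (by
    rw [preimage_proj_comp, preimage_proj_comp]
    exact hsub)
  obtain ⟨k, d, hd⟩ := h
  refine ⟨k, d ≫ a₀, d ≫ b₀, ?_⟩
  rw [← preimage_map_comp, ← preimage_map_comp]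
  exact hd

theorem exists_hom_preimage_eq [IsCofiltered J] (hF : ∀ j, SpectralSpace (F.obj j))
    (hFm : ∀ {i j : J} (a : i ⟶ j), IsSpectralMap (F.map a : F.obj i → F.obj j))
    (c : Cone F) (hc : IsLimit c) (i : J) (U W : Set (F.obj i))
    (hU : @IsClopen _ (constructibleTopology (F.obj i)) U)
    (hW : @IsClopen _ (constructibleTopology (F.obj i)) W)
    (heq : c.π.app i ⁻¹' U = c.π.app i ⁻¹' W) :
    ∃ (j : J) (a : j ⟶ i), F.map a ⁻¹' U = F.map a ⁻¹' W := by
  obtain ⟨j₁, a₁, h₁⟩ := (preimage_subset_iff hF hFm c hc i U W hU.1 hW.2).mp heq.subset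
  obtain ⟨j₂, a₂, h₂⟩ := (preimage_subset_iff hF hFm c hc i W U hW.1 hU.2).mp heq.symm.subset
  obtain ⟨k, g₁, g₂, hg⟩ := IsCofiltered.cospan a₁ a₂
  refine ⟨k, g₁ ≫ a₁, Subset.antisymm ?_ ?_⟩
  · rw [← preimage_map_comp, ← preimage_map_comp]
    exact preimage_mono h₁
  · rw [hg, ← preimage_map_comp, ← preimage_map_comp]
    exact preimage_mono h₂

theorem isClopen_cons_of_isCompact_isOpen {X : Type*} [TopologicalSpace X] {U : Set X}
    (hUo : IsOpen U) (hUc : IsCompact U) : @IsClopen _ (constructibleTopology X) U :=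
  ⟨isClosed_cons_of_isCompact_isOpen hUc hUo, hUc.isOpen_constructibleTopology_of_isOpen hUo⟩

theorem descend_union_inter [IsCofiltered J] (hF : ∀ j, SpectralSpace (F.obj j))
    (hFm : ∀ {i j : J} (a : i ⟶ j), IsSpectralMap (F.map a : F.obj i → F.obj j))
    (c : Cone F) (hc : IsLimit c) (i : J) (n : ℕ) (Ui : Set (F.obj i))
    (V : Fin n → Set (F.obj i)) (hUio : IsOpen Ui) (hUic : IsCompact Ui)
    (hV : ∀ l, IsOpen (V l) ∧ IsCompact (V l)) :
    (c.π.app i ⁻¹' Ui = ⋃ l, c.π.app i ⁻¹' V l →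
        ∃ (j : J) (a : j ⟶ i), F.map a ⁻¹' Ui = ⋃ l, F.map a ⁻¹' V l) ∧
    (c.π.app i ⁻¹' Ui = ⋂ l, c.π.app i ⁻¹' V l →
        ∃ (j : J) (a : j ⟶ i), F.map a ⁻¹' Ui = ⋂ l, F.map a ⁻¹' V l) := by
  have hUcl := isClopen_cons_of_isCompact_isOpen hUio hUic
  have hVcl : ∀ l, @IsClopen _ (constructibleTopology (F.obj i)) (V l) := fun l =>
    isClopen_cons_of_isCompact_isOpen (hV l).1 (hV l).2
  constructor
  · intro h
    rw [← preimage_iUnion] at h
    obtain ⟨j, a, ha⟩ := exists_hom_preimage_eq hF hFm c hc i Ui (⋃ l, V l) hUcl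
      (@isClopen_iUnion_of_finite _ (constructibleTopology (F.obj i)) _ _ _ hVcl) h
    exact ⟨j, a, by rw [ha, preimage_iUnion]⟩
  · intro h
    rw [← preimage_iInter] at h
    obtain ⟨j, a, ha⟩ := exists_hom_preimage_eq hF hFm c hc i Ui (⋂ l, V l) hUcl
      (@isClopen_iInter_of_finite _ (constructibleTopology (F.obj i)) _ _ _ hVcl) h
    exact ⟨j, a, by rw [ha, preimage_iInter]⟩

/-- spectral maps between spectral spaces pull back constructible sets -/
theorem isConstructible_preimage_of_isSpectralMap {X Y : Type*} [TopologicalSpace X]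
    [TopologicalSpace Y] [SpectralSpace X] [SpectralSpace Y] {f : X → Y} (hf : IsSpectralMap f)
    {s : Set Y} (hs : IsConstructible s) : IsConstructible (f ⁻¹' s) := by
  refine hs.preimage hf.toContinuous ?_
  intro t hto htr
  exact (hf.isCompact_preimage_of_isOpen hto htr.isCompact).isRetrocompact
    (hto.preimage hf.toContinuous)

theorem exists_isConstructible_preimage_eq [IsCofiltered J] (hF : ∀ j, SpectralSpace (F.obj j))
    (hFm : ∀ {i j : J} (a : i ⟶ j), IsSpectralMap (F.map a : F.obj i → F.obj j))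
    (c : Cone F) (hc : IsLimit c) (E : Set c.pt) (hE : IsConstructible E) :
    ∃ (i : J) (Ei : Set (F.obj i)), IsConstructible Ei ∧ c.π.app i ⁻¹' Ei = E := by
  have hsp : SpectralSpace c.pt := spectralSpace_lim hF hFm c hc
  induction hE using IsConstructible.empty_union_induction with
  | open_retrocompact U hUo hUr =>
    obtain ⟨i, Ui, hUio, hUic, rfl⟩ :=
      isStage_of_isCompact_isOpen hF hFm c hc U hUo hUr.isCompact
    exact ⟨i, Ui, hUic.isConstructible hUio, rfl⟩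
  | union s _ t _ hs ht =>
    obtain ⟨i, Ei, hEi, rfl⟩ := hs
    obtain ⟨j, Ej, hEj, rfl⟩ := ht
    refine ⟨IsCofiltered.min i j, F.map (IsCofiltered.minToLeft i j) ⁻¹' Ei ∪
      F.map (IsCofiltered.minToRight i j) ⁻¹' Ej, ?_, ?_⟩
    · exact (isConstructible_preimage_of_isSpectralMap (hFm _) hEi).union
        (isConstructible_preimage_of_isSpectralMap (hFm _) hEj)
    · rw [preimage_union, preimage_proj_comp, preimage_proj_comp]
  | compl s _ hs =>
    obtain ⟨i, Ei, hEi, rfl⟩ := hs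
    exact ⟨i, Eiᶜ, hEi.compl, preimage_compl⟩

theorem exists_isConstructible_isOpen_preimage_eq [IsCofiltered J]
    (hF : ∀ j, SpectralSpace (F.obj j))
    (hFm : ∀ {i j : J} (a : i ⟶ j), IsSpectralMap (F.map a : F.obj i → F.obj j))
    (c : Cone F) (hc : IsLimit c) (E : Set c.pt) (hE : IsConstructible E) (hEo : IsOpen E) :
    ∃ (i : J) (Ei : Set (F.obj i)), IsConstructible Ei ∧ IsOpen Ei ∧ c.π.app i ⁻¹' Ei = E := by
  have hsp : SpectralSpace c.pt := spectralSpace_lim hF hFm c hc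
  have hEc : IsCompact E := isCompact_of_isClosed_cons (isClopen_cons_of_isConstructible hE).1
  obtain ⟨i, Ui, hUio, hUic, rfl⟩ := isStage_of_isCompact_isOpen hF hFm c hc E hEo hEc
  exact ⟨i, Ui, hUic.isConstructible hUio, hUio, rfl⟩

theorem exists_isConstructible_isClosed_preimage_eq [IsCofiltered J]
    (hF : ∀ j, SpectralSpace (F.obj j))
    (hFm : ∀ {i j : J} (a : i ⟶ j), IsSpectralMap (F.map a : F.obj i → F.obj j))
    (c : Cone F) (hc : IsLimit c) (E : Set c.pt) (hE : IsConstructible E) (hEc : IsClosed E) :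
    ∃ (i : J) (Ei : Set (F.obj i)), IsConstructible Ei ∧ IsClosed Ei ∧
      c.π.app i ⁻¹' Ei = E := by
  obtain ⟨i, Ui, hUi, hUio, hUe⟩ :=
    exists_isConstructible_isOpen_preimage_eq hF hFm c hc Eᶜ hE.compl hEc.isOpen_compl
  refine ⟨i, Uiᶜ, hUi.compl, hUio.isClosed_compl, ?_⟩
  rw [preimage_compl, hUe, compl_compl]

end Groth.Agent.Lib.Helper20.SpecLim4
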