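import Mathlib
import Groth.Agent.Lib.Helper20.SpecLim3

set_option autoImplicit false

namespace Groth.Agent.Lib.Helper20.SpecLim5

open TopologicalSpace Topology Set CategoryTheory CategoryTheory.Limits
open Groth.Agent.Lib.Helper20.SpecLim3

universe u

theorem spectralSpace_of_finite (X : Type*) [TopologicalSpace X] [Finite X] [T0Space X]
    [QuasiSober X] : SpectralSpace X := by
  have h3 : QuasiSeparatedSpace X := ⟨fun U V _ _ _ _ => (Set.toFinite (U ∩ V)).isCompact⟩
  have h4 : PrespectralSpace X :=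
    PrespectralSpace.of_isTopologicalBasis isTopologicalBasis_opens
      (fun U _ => (Set.toFinite U).isCompact)
  exact { }

theorem spectralSpace_of_isLimit_finite_sober {J : Type u} [Preorder J] [Nonempty J]
    [IsDirected J (· ≤ ·)] (F : Jᵒᵖ ⥤ TopCat.{u})
    (hF : ∀ j : Jᵒᵖ, Finite (F.obj j) ∧ T0Space (F.obj j) ∧ QuasiSober (F.obj j))
    (c : Cone F) (hc : IsLimit c) : SpectralSpace c.pt := by
  have hsp : ∀ j, SpectralSpace (F.obj j) := fun j => by
    obtain ⟨h1, h2, h3⟩ := hF j
    exact spectralSpace_of_finite _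
  have hFm : ∀ {i j : Jᵒᵖ} (a : i ⟶ j), IsSpectralMap (F.map a : F.obj i → F.obj j) := by
    intro i j a
    have : Finite (F.obj i) := (hF i).1
    exact ⟨(TopCat.Hom.hom (F.map a)).continuous, fun s _ _ => (Set.toFinite _).isCompact⟩
  exact spectralSpace_lim hsp hFm c hc

end Groth.Agent.Lib.Helper20.SpecLim5
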