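import Mathlib
import Groth.Agent.Lib.Helper20.Spectral

set_option autoImplicit false

namespace Groth.Agent.Lib.Helper20.Spectral2

open TopologicalSpace Topology Set
open Groth.Agent.Lib.Helper20.Spectral

universe u

variable {X : Type u} [TopologicalSpace X]

theorem generizations_eq_sInter [PrespectralSpace X] {E : Set X} (hEc : IsCompact E) :
    {x : X | ∃ e ∈ E, x ⤳ e} = ⋂₀ {U : Set X | IsOpen U ∧ IsCompact U ∧ E ⊆ U} := by
  apply Subset.antisymm
  · rintro x ⟨e, he, hxe⟩ U ⟨hUo, _, hEU⟩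
    exact hxe.mem_open hUo (hEU he)
  · intro x hx
    by_contra hcon
    simp only [Set.mem_ofPred_eq, not_exists, not_and] at hcon
    have hsub : E ⊆ (closure {x})ᶜ := by
      intro e he hmem
      exact hcon e he (specializes_iff_mem_closure.mpr hmem)
    have hopen : IsOpen (closure ({x} : Set X))ᶜ := isClosed_closure.isOpen_compl
    obtain ⟨S, hS, hSeq⟩ :=
      (PrespectralSpace.isTopologicalBasis (X := X)).open_eq_sUnion hopen
    obtain ⟨t, ht⟩ := hEc.elim_finite_subcover (fun s : S => s.1)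
      (fun s => (hS s.2).1) (by
        intro e he
        have := hsub he
        rw [hSeq] at this
        obtain ⟨s, hs, hes⟩ := this
        exact mem_iUnion.mpr ⟨⟨s, hs⟩, hes⟩)
    have hxU := hx (⋃ i ∈ t, (i : Set X)) ⟨isOpen_biUnion fun i _ => (hS i.2).1,
      t.isCompact_biUnion fun i _ => (hS i.2).2, ht⟩
    simp only [mem_iUnion] at hxU
    obtain ⟨i, _, hxi⟩ := hxU
    have : x ∈ (closure ({x} : Set X))ᶜ := by
      rw [hSeq]
      exact ⟨i.1, i.2, hxi⟩
    exact this (subset_closure rfl)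

theorem tfae_generalization [SpectralSpace X] (W : Set X) :
    List.TFAE [
      (∃ S : Set (Set X), (∀ s ∈ S, Topology.IsConstructible s) ∧ W = ⋂₀ S) ∧
        StableUnderGeneralization W,
      IsCompact W ∧ StableUnderGeneralization W,
      ∃ E : Set X, IsCompact E ∧ W = {x | ∃ e ∈ E, x ⤳ e},
      ∃ S : Set (Set X), (∀ s ∈ S, IsOpen s ∧ IsCompact s) ∧ W = ⋂₀ S,
      ∃ (I : Type u) (_ : Nonempty I) (U : I → Set X), (∀ i, IsOpen (U i) ∧ IsCompact (U i)) ∧
        W = ⋂ i, U i ∧ ∀ i j, ∃ k, U k ⊆ U i ∩ U j] := by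
  tfae_have 1 → 2 := by
    rintro ⟨⟨S, hS, rfl⟩, hg⟩
    refine ⟨isCompact_of_isClosed_cons ?_, hg⟩
    apply @isClosed_sInter X (constructibleTopology X)
    intro s hs
    exact (isClopen_cons_of_isConstructible (hS s hs)).1
  tfae_have 2 → 3 := by
    rintro ⟨hc, hg⟩
    refine ⟨W, hc, ?_⟩
    ext x
    constructor
    · intro hx
      exact ⟨x, hx, specializes_rfl⟩
    · rintro ⟨e, he, hxe⟩
      exact hg hxe he
  tfae_have 3 → 4 := by
    rintro ⟨E, hE, rfl⟩
    exact ⟨{U | IsOpen U ∧ IsCompact U ∧ E ⊆ U}, fun s hs => ⟨hs.1, hs.2.1⟩,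
      generizations_eq_sInter hE⟩
  tfae_have 4 → 5 := by
    rintro ⟨S, hS, rfl⟩
    classical
    refine ⟨{F : Finset (Set X) // (F : Set (Set X)) ⊆ S}, ⟨⟨∅, by simp⟩⟩,
      fun F => ⋂₀ (F.1 : Set (Set X)), ?_, ?_, ?_⟩
    · intro F
      refine ⟨?_, ?_⟩
      · exact Set.Finite.isOpen_sInter F.1.finite_toSet (fun s hs => (hS s (F.2 hs)).1)
      · exact QuasiSeparatedSpace.isCompact_sInter F.1.finite_toSet
          (fun s hs => Or.inl (hS s (F.2 hs)).1) (fun s hs => (hS s (F.2 hs)).2)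
    · ext x
      simp only [mem_sInter, mem_iInter]
      constructor
      · intro h F s hs
        exact h s (F.2 hs)
      · intro h s hs
        exact h ⟨{s}, by simpa using hs⟩ s (by simp)
    · intro F G
      refine ⟨⟨F.1 ∪ G.1, by
        rw [Finset.coe_union]
        exact union_subset F.2 G.2⟩, ?_⟩
      intro x hx
      simp only [mem_sInter, Finset.coe_union, mem_union, Finset.mem_coe] at hx
      exact ⟨fun s hs => hx s (Or.inl hs), fun s hs => hx s (Or.inr hs)⟩
  tfae_have 5 → 1 := by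
    rintro ⟨I, _, U, hU, rfl, _⟩
    refine ⟨⟨range U, ?_, (sInter_range U).symm⟩, ?_⟩
    · rintro s ⟨i, rfl⟩
      exact (hU i).2.isConstructible (hU i).1
    · intro x y hyx hx
      simp only [mem_iInter] at hx ⊢
      intro i
      exact hyx.mem_open (hU i).1 (hx i)
  tfae_finish

end Groth.Agent.Lib.Helper20.Spectral2
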