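import Mathlib
import Groth.Agent.Lib.Helper20.CanonInj1
import Groth.Agent.Lib.helper11.ExtKoszul

/-!
# Vanishing of `Ext^i(R/q, M)` for all primes from vanishing of the local `Ext^i(κ(p), M_p)`
-/

set_option autoImplicit false
set_option linter.unusedSectionVars false
set_option linter.unusedVariables false
set_option linter.style.haveILetI false

namespace Groth.Agent.Lib.Helper20.StarInjDim

open IsLocalRing CategoryTheory Abelian TensorProduct Groth.Agent.Lib.helper11.InjDimKappa
  Groth.Agent.Lib.Helper20.BassCount Groth.Agent.Lib.helper11.ExtShift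
  Groth.Agent.Lib.helper11.ExtKoszul

universe u

variable {R : Type u} [CommRing R] [IsNoetherianRing R] (M : Type u) [AddCommGroup M] [Module R M]

/-- `Ext^i_{R_q}(κ(q), M_q) = 0` gives `Ext^i_R(R/q, M)_q = 0`. -/
theorem localized_ext_subsingleton (q : Ideal R) [q.IsPrime] (i : ℕ)
    (h : Subsingleton (Ext.{u} (ModuleCat.of (Localization.AtPrime q)
        (ResidueField (Localization.AtPrime q)))
      (ModuleCat.of (Localization.AtPrime q) (LocalizedModule q.primeCompl M)) i)) :
    Subsingleton (LocalizedModule q.primeCompl
      (Ext.{u} (ModuleCat.of R (R ⧸ q)) (ModuleCat.of R M) i)) := by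
  obtain ⟨e⟩ := Groth.Agent.Lib.helper11.ExtBC.ext_baseChange R (Localization.AtPrime q) M
    i (R ⧸ q)
  let e1 := Groth.Agent.Lib.helper11.GorHull.extCongr
    (ModuleCat.of (Localization.AtPrime q) (Localization.AtPrime q ⊗[R] M)) i
    (tensorQuotEquivResidue q).toModuleIso
  let e2 := Groth.Agent.Lib.helper11.ExtLocEquiv.extCongrRight
    (ModuleCat.of (Localization.AtPrime q) (ResidueField (Localization.AtPrime q)))
    i (LocalizedModule.equivTensorProduct q.primeCompl M).symm.toModuleIso
  have h1 : Subsingleton (Localization.AtPrime q ⊗[R]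
      Ext.{u} (ModuleCat.of R (R ⧸ q)) (ModuleCat.of R M) i) :=
    (e.trans (e1.trans e2)).toEquiv.subsingleton
  exact (LocalizedModule.equivTensorProduct q.primeCompl _).toEquiv.subsingleton

theorem ext_quotient_prime_subsingleton_of_local (i : ℕ)
    (h : ∀ (p : Ideal R) [p.IsPrime], Subsingleton (Ext.{u} (ModuleCat.of (Localization.AtPrime p)
        (ResidueField (Localization.AtPrime p)))
      (ModuleCat.of (Localization.AtPrime p) (LocalizedModule p.primeCompl M)) i)) :
    ∀ q : Ideal R, q.IsPrime →
      Subsingleton (Ext.{u} (ModuleCat.of R (R ⧸ q)) (ModuleCat.of R M) i) := by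
  intro q
  induction q using WellFoundedGT.induction with
  | ind q IH =>
    intro hq
    haveI := hq
    haveI : IsDomain (R ⧸ q) := (Ideal.Quotient.isDomain_iff_prime q).mpr hq
    -- elements outside `q` act injectively
    have step1 : ∀ x : R, x ∉ q → ∀ e : Ext.{u} (ModuleCat.of R (R ⧸ q)) (ModuleCat.of R M) i,
        x • e = 0 → e = 0 := by
      intro x hx e he
      set J : Ideal R := q ⊔ Ideal.span {x} with hJ
      have hle : q ≤ J := le_sup_left
      have hreg : IsSMulRegular (R ⧸ q) x := by
        intro a b hab
        have h1 : Ideal.Quotient.mk q x * a = Ideal.Quotient.mk q x * b := hab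
        have hne : Ideal.Quotient.mk q x ≠ 0 := by
          rw [Ne, Ideal.Quotient.eq_zero_iff_mem]
          exact hx
        exact mul_left_cancel₀ hne h1
      have hi : Function.Injective (mulX q x) := hreg
      have hπ : Function.Surjective (proj q J hle) := proj_surjective q J hle
      have hex : Function.Exact (mulX q x) (proj q J hle) := exact_mulX_proj q J x hJ
      have hS := sc_shortExact (mulX q x) (proj q J hle) hi hπ hex
      have hf : (sc (mulX q x) (proj q J hle) hex).f = x • 𝟙 (ModuleCat.of R (R ⧸ q)) := by
        rfl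
      haveI hsub : Subsingleton (Ext.{u} (ModuleCat.of R (R ⧸ J)) (ModuleCat.of R M) i) := by
        refine ext_subsingleton_of_primes J (ModuleCat.of R M) i ?_ (R ⧸ J) ?_
        · intro q' hq' hJq'
          have hlt : q < q' := by
            refine lt_of_le_of_ne (hle.trans hJq') ?_
            intro heq
            apply hx
            rw [heq]
            exact hJq' (Ideal.mem_sup_right (Ideal.mem_span_singleton_self x))
          exact IH q' hlt hq'
        · intro a ha y
          obtain ⟨r, rfl⟩ := Ideal.Quotient.mk_surjective y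
          rw [← Ideal.Quotient.mk_eq_mk, ← Submodule.Quotient.mk_smul,
            Submodule.Quotient.mk_eq_zero]
          exact J.mul_mem_right r ha
      have h0 : (Ext.mk₀ (sc (mulX q x) (proj q J hle) hex).f).comp e (zero_add i) = 0 := by
        rw [hf, mk₀_smul_id_comp R x e, he]
      obtain ⟨x₃, rfl⟩ := Ext.contravariant_sequence_exact₂ hS (ModuleCat.of R M) e h0
      rw [Subsingleton.elim x₃ 0, Ext.comp_zero]
    haveI hloc := localized_ext_subsingleton M q i (h q)
    refine ⟨fun a b => ?_⟩
    have key : ∀ e : Ext.{u} (ModuleCat.of R (R ⧸ q)) (ModuleCat.of R M) i, e = 0 := by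
      intro e
      have h1 : LocalizedModule.mkLinearMap q.primeCompl _ e = 0 := Subsingleton.elim _ _
      rw [IsLocalizedModule.eq_zero_iff q.primeCompl] at h1
      obtain ⟨c, hc⟩ := h1
      exact step1 c.1 c.2 e hc
    rw [key a, key b]

theorem hasInjDimLT_of_local_ext (N : ℕ)
    (h : ∀ (p : Ideal R) [p.IsPrime], Subsingleton (Ext.{u} (ModuleCat.of (Localization.AtPrime p)
        (ResidueField (Localization.AtPrime p)))
      (ModuleCat.of (Localization.AtPrime p) (LocalizedModule p.primeCompl M)) (N + 1))) :
    HasInjectiveDimensionLT (ModuleCat.of R M) (N + 1) := by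
  refine hasInjectiveDimensionLT_of_ext_quotient N (ModuleCat.of R M) fun I => ?_
  refine ext_subsingleton_of_primes ⊥ (ModuleCat.of R M) (N + 1) ?_ (R ⧸ I) ?_
  · intro q hq _
    exact ext_quotient_prime_subsingleton_of_local M (N + 1) h q hq
  · intro a ha y
    rw [(Submodule.mem_bot R).mp ha, zero_smul]

end Groth.Agent.Lib.Helper20.StarInjDim
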