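import Mathlib
import Groth.Agent.Lib.Helper20.StarInjDim1
import Groth.Agent.Lib.Helper20.BassTorus2

/-!
# A *injective module over a `ℤ`-graded Noetherian ring has injective dimension at most one
-/

set_option autoImplicit false
set_option linter.unusedSectionVars false
set_option linter.unusedVariables false
set_option linter.style.haveILetI false

namespace Groth.Agent.Lib.Helper20.StarInjDim

open IsLocalRing CategoryTheory Abelian TensorProduct Groth.Agent.Lib.Helper20.BassCount
  Groth.Agent.Lib.Helper20.BassTorus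

universe u

variable {R : Type u} [CommRing R] [IsNoetherianRing R] (𝒜 : ℤ → AddSubgroup R) [GradedRing 𝒜]
  {M : Type u} [AddCommGroup M] [Module R M] (ℳ : ℤ → AddSubgroup M)
  [DirectSum.Decomposition ℳ] [SetLike.GradedSMul 𝒜 ℳ] (hM : GrLC.IsStarInj 𝒜 ℳ)

include hM in
/-- Bass numbers of a *injective module at a homogeneous prime vanish in positive degrees -/
theorem bassNum_homogeneous_eq_zero (p : Ideal R) [p.IsPrime] (hp : Ideal.IsHomogeneous 𝒜 p)
    (i : ℕ) : GrLC.bassNum p M (i + 1) = 0 := by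
  unfold GrLC.bassNum GrLC.bassNumLocal
  rw [Module.length_eq_zero_iff]
  exact ext_residue_localized_subsingleton 𝒜 ℳ hM ⟨p, hp⟩ i

include hM in
theorem bassNum_eq_zero (p : Ideal R) [p.IsPrime] (i : ℕ) : GrLC.bassNum p M (i + 2) = 0 := by
  haveI hcore : (Ideal.homogeneousCore 𝒜 p).toIdeal.IsPrime := Ideal.IsPrime.homogeneousCore ‹_›
  by_cases hp : Ideal.IsHomogeneous 𝒜 p
  · exact bassNum_homogeneous_eq_zero 𝒜 ℳ hM p hp (i + 1)
  · have hd := height_map_mk_core_eq_one 𝒜 p hp
    obtain ⟨-, h2⟩ := bassNum_core 𝒜 ℳ p 1 (by rw [hd]; rfl)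
    rw [show i + 2 = (i + 1) + 1 by omega, h2 (i + 1)]
    exact bassNum_homogeneous_eq_zero 𝒜 ℳ hM _ (Ideal.homogeneousCore 𝒜 p).isHomogeneous i

include hM in
theorem main : HasInjectiveDimensionLT (ModuleCat.of R M) 2 := by
  apply hasInjDimLT_of_local_ext M 1
  intro p _
  have h := bassNum_eq_zero 𝒜 ℳ hM p 0
  unfold GrLC.bassNum GrLC.bassNumLocal at h
  rwa [Module.length_eq_zero_iff] at h

end Groth.Agent.Lib.Helper20.StarInjDim
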