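import Mathlib
import Groth.Agent.Lib.Helper20.StarInjDim2
import Groth.Agent.Lib.Helper20.BassCount1

/-!
# `μ^0(q, M) = 0 ↔ q ∉ Ass M`; injectivity via `μ^1`; *injective modules that are not injective
-/

set_option autoImplicit false
set_option linter.unusedSectionVars false
set_option linter.unusedVariables false
set_option linter.style.haveILetI false

namespace Groth.Agent.Lib.Helper20.StarInjDim

open IsLocalRing CategoryTheory Abelian TensorProduct Groth.Agent.Lib.Helper20.BassCount
  Groth.Agent.Lib.Helper20.BassTorus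

universe u

section Local

variable {A : Type u} [CommRing A] [IsLocalRing A] [IsNoetherianRing A]
  (X : Type u) [AddCommGroup X] [Module A X]

theorem maximalIdeal_mem_associatedPrimes_iff :
    maximalIdeal A ∈ associatedPrimes A X ↔ soc A X ≠ ⊥ := by
  rw [AssociatedPrimes.mem_iff, isAssociatedPrime_iff]
  constructor
  · rintro ⟨-, x, hx⟩
    intro hbot
    have hxs : x ∈ soc A X := by
      intro a ha
      rw [hx, Submodule.mem_colon_singleton] at ha
      exact (Submodule.mem_bot A).mp ha
    rw [hbot, Submodule.mem_bot] at hxs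
    have h1 : (1 : A) ∈ maximalIdeal A := by
      rw [hx, Submodule.mem_colon_singleton, hxs, smul_zero]
      exact Submodule.zero_mem _
    exact (maximalIdeal.isMaximal A).ne_top ((Ideal.eq_top_iff_one _).mpr h1)
  · intro hne
    obtain ⟨x, hxs, hx0⟩ := (Submodule.ne_bot_iff _).mp hne
    refine ⟨inferInstance, x, ?_⟩
    have hle : maximalIdeal A ≤ Submodule.colon (⊥ : Submodule A X) {x} := by
      intro a ha
      rw [Submodule.mem_colon_singleton, Submodule.mem_bot]
      exact hxs a ha
    have hne' : Submodule.colon (⊥ : Submodule A X) {x} ≠ ⊤ := by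
      intro htop
      have h1 : (1 : A) ∈ Submodule.colon (⊥ : Submodule A X) {x} := by rw [htop]; trivial
      rw [Submodule.mem_colon_singleton, one_smul, Submodule.mem_bot] at h1
      exact hx0 h1
    exact ((maximalIdeal.isMaximal A).eq_of_le hne' hle)

theorem bassNumLocal_zero_eq_zero_iff :
    GrLC.bassNumLocal A X 0 = 0 ↔ maximalIdeal A ∉ associatedPrimes A X := by
  unfold GrLC.bassNumLocal
  rw [Module.length_eq_zero_iff, (extZeroEquivSoc A X).toEquiv.subsingleton_congr,
    maximalIdeal_mem_associatedPrimes_iff, not_not, Submodule.subsingleton_iff_eq_bot]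

end Local

section Global

variable {R : Type u} [CommRing R] [IsNoetherianRing R] (M : Type u) [AddCommGroup M] [Module R M]

theorem bassNum_zero_eq_zero_iff (q : Ideal R) [q.IsPrime] :
    GrLC.bassNum q M 0 = 0 ↔ q ∉ associatedPrimes R M := by
  unfold GrLC.bassNum
  rw [bassNumLocal_zero_eq_zero_iff]
  have h := Module.associatedPrimes.preimage_comap_associatedPrimes_eq_associatedPrimes_of_isLocalizedModule
    q.primeCompl (Localization.AtPrime q) (LocalizedModule.mkLinearMap q.primeCompl M)
  have h2 : maximalIdeal (Localization.AtPrime q) ∈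
      associatedPrimes (Localization.AtPrime q) (LocalizedModule q.primeCompl M) ↔
      q ∈ associatedPrimes R M := by
    rw [← h, Set.mem_preimage]
    have h3 : Ideal.comap (algebraMap R (Localization.AtPrime q))
        (maximalIdeal (Localization.AtPrime q)) = q := Localization.AtPrime.comap_maximalIdeal
    rw [h3]
  rw [h2]

/-- injectivity is detected by `μ^1` -/
theorem injective_iff_bassNum_one :
    Module.Injective R M ↔ ∀ (p : Ideal R) [p.IsPrime], GrLC.bassNum p M 1 = 0 := by
  constructor
  · intro hinj p _
    unfold GrLC.bassNum GrLC.bassNumLocal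
    rw [Module.length_eq_zero_iff]
    haveI : Module.Injective (Localization.AtPrime p) (LocalizedModule p.primeCompl M) :=
      Module.injective_of_isLocalizedModule p.primeCompl
        (LocalizedModule.mkLinearMap p.primeCompl M)
    haveI : Injective (ModuleCat.of (Localization.AtPrime p) (LocalizedModule p.primeCompl M)) :=
      (Module.injective_iff_injective_object _ _).mp inferInstance
    exact ⟨fun a b => by
      rw [Ext.eq_zero_of_injective a, Ext.eq_zero_of_injective b]⟩
  · intro h
    have h1 : HasInjectiveDimensionLT (ModuleCat.of R M) (0 + 1) := by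
      apply hasInjDimLT_of_local_ext M 0
      intro p _
      have h2 := h p
      unfold GrLC.bassNum GrLC.bassNumLocal at h2
      rwa [Module.length_eq_zero_iff] at h2
    rw [zero_add, ← injective_iff_hasInjectiveDimensionLT_one] at h1
    exact (Module.injective_iff_injective_object R M).mpr h1

end Global

section Graded

variable {R : Type u} [CommRing R] [IsNoetherianRing R] (𝒜 : ℤ → AddSubgroup R) [GradedRing 𝒜]
  {M : Type u} [AddCommGroup M] [Module R M] (ℳ : ℤ → AddSubgroup M)
  [DirectSum.Decomposition ℳ] [SetLike.GradedSMul 𝒜 ℳ] (hM : GrLC.IsStarInj 𝒜 ℳ)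

include hM in
theorem not_injective_iff :
    ¬ Module.Injective R M ↔ ∃ p : Ideal R, p.IsPrime ∧ ¬ Ideal.IsHomogeneous 𝒜 p ∧
      (Ideal.homogeneousCore 𝒜 p).toIdeal ∈ associatedPrimes R M := by
  rw [injective_iff_bassNum_one M]
  constructor
  · intro h
    push Not at h
    obtain ⟨p, hp, hne⟩ := h
    haveI := hp
    haveI hcore : (Ideal.homogeneousCore 𝒜 p).toIdeal.IsPrime :=
      Ideal.IsPrime.homogeneousCore ‹_›
    have hph : ¬ Ideal.IsHomogeneous 𝒜 p := by
      intro hh
      exact hne (bassNum_homogeneous_eq_zero 𝒜 ℳ hM p hh 0)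
    refine ⟨p, hp, hph, ?_⟩
    have hd := height_map_mk_core_eq_one 𝒜 p hph
    obtain ⟨-, h2⟩ := bassNum_core 𝒜 ℳ p 1 (by rw [hd]; rfl)
    have h3 := h2 0
    rw [zero_add] at h3
    rw [h3] at hne
    by_contra hnot
    exact hne ((bassNum_zero_eq_zero_iff M _).mpr hnot)
  · rintro ⟨p, hp, hph, hass⟩ h
    haveI := hp
    haveI hcore : (Ideal.homogeneousCore 𝒜 p).toIdeal.IsPrime :=
      Ideal.IsPrime.homogeneousCore ‹_›
    have hd := height_map_mk_core_eq_one 𝒜 p hph
    obtain ⟨-, h2⟩ := bassNum_core 𝒜 ℳ p 1 (by rw [hd]; rfl)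
    have h3 := h2 0
    rw [zero_add, h p] at h3
    exact (bassNum_zero_eq_zero_iff M _).mp h3.symm hass

end Graded

end Groth.Agent.Lib.Helper20.StarInjDim
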