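import Mathlib

set_option autoImplicit false
set_option linter.unusedSectionVars false

namespace Groth.Agent.Lib.Helper20.Strat

open Set Topology TopologicalSpace

universe u

variable {X : Type u} [TopologicalSpace X]

/-- the type of a point with respect to a family of sets -/
def typ {G : Type} (C : G → Set X) (x : X) : Set G := {g | x ∈ C g}

/-- the stratum of points of type `A` -/
def stratum {G : Type} (C : G → Set X) (A : Set G) : Set X := {x | typ C x = A}

theorem stratum_eq {G : Type} (C : G → Set X) (A : Set G) :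
    stratum C A = (⋂ g ∈ A, C g) ∩ ⋂ g ∈ Aᶜ, (C g)ᶜ := by
  ext x
  simp only [stratum, typ, Set.mem_ofPred_eq, Set.ext_iff, mem_inter_iff, mem_iInter,
    mem_compl_iff]
  constructor
  · intro h
    exact ⟨fun g hg => (h g).mpr hg, fun g hg hx => hg ((h g).mp hx)⟩
  · rintro ⟨h1, h2⟩ g
    exact ⟨fun hx => by_contra fun hg => h2 g hg hx, h1 g⟩

theorem isLocallyClosed_stratum {G : Type} [Finite G] (C : G → Set X)
    (hC : ∀ g, IsClosed (C g)) (A : Set G) : IsLocallyClosed (stratum C A) := by
  rw [stratum_eq]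
  apply IsLocallyClosed.inter
  · exact (isClosed_biInter fun g _ => hC g).isLocallyClosed
  · exact ((Set.toFinite Aᶜ).isOpen_biInter fun g _ => (hC g).isOpen_compl).isLocallyClosed

theorem isConstructible_stratum {G : Type} [Finite G] (C : G → Set X)
    (hC : ∀ g, IsConstructible (C g)) (A : Set G) : IsConstructible (stratum C A) := by
  rw [stratum_eq]
  apply IsConstructible.inter
  · exact IsConstructible.biInter (Set.toFinite A) fun g _ => hC g
  · exact IsConstructible.biInter (Set.toFinite Aᶜ) fun g _ => (hC g).compl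

theorem iUnion_stratum {G : Type} (C : G → Set X) :
    ⋃ A : (Set G)ᵒᵈ, stratum C (OrderDual.ofDual A) = univ := by
  apply eq_univ_of_forall
  intro x
  exact mem_iUnion.mpr ⟨OrderDual.toDual (typ C x), rfl⟩

theorem disjoint_stratum {G : Type} (C : G → Set X) (A B : (Set G)ᵒᵈ) (h : A ≠ B) :
    Disjoint (stratum C (OrderDual.ofDual A)) (stratum C (OrderDual.ofDual B)) := by
  rw [Set.disjoint_left]
  intro x hxA hxB
  apply h
  have h1 : typ C x = OrderDual.ofDual A := hxA
  have h2 : typ C x = OrderDual.ofDual B := hxB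
  exact OrderDual.ofDual.injective (h1.symm.trans h2)

theorem closure_stratum_subset {G : Type} (C : G → Set X) (hC : ∀ g, IsClosed (C g))
    (A : (Set G)ᵒᵈ) :
    closure (stratum C (OrderDual.ofDual A)) ⊆
      ⋃ B ∈ Set.Iic A, stratum C (OrderDual.ofDual B) := by
  intro x hx
  have hsub : stratum C (OrderDual.ofDual A) ⊆ ⋂ g ∈ OrderDual.ofDual A, C g := by
    rw [stratum_eq]
    exact inter_subset_left
  have hx' : x ∈ ⋂ g ∈ OrderDual.ofDual A, C g :=
    closure_minimal hsub (isClosed_biInter fun g _ => hC g) hx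
  simp only [mem_iUnion]
  refine ⟨OrderDual.toDual (typ C x), ?_, rfl⟩
  show OrderDual.ofDual A ≤ typ C x
  intro g hg
  exact mem_iInter₂.mp hx' g hg

theorem stratum_subset_of_measurable {G : Type} (C : G → Set X) (P : Set X)
    (hP : ∀ x y, typ C x = typ C y → (x ∈ P ↔ y ∈ P)) (A : Set G)
    (hne : (stratum C A ∩ P).Nonempty) : stratum C A ⊆ P := by
  obtain ⟨x, hxA, hxP⟩ := hne
  intro y hy
  have h1 : typ C x = A := hxA
  have h2 : typ C y = A := hy
  exact (hP x y (h1.trans h2.symm)).mp hxP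

theorem exists_stratification_partition {n : ℕ} (P : Fin n → Set X)
    (hP : ∀ k, IsLocallyClosed (P k)) :
    ∃ (I : Type) (_ : Fintype I) (_ : PartialOrder I) (S : I → Set X),
      (∀ i, IsLocallyClosed (S i)) ∧ (⋃ i, S i = Set.univ) ∧
      (∀ i j, i ≠ j → Disjoint (S i) (S j)) ∧
      (∀ j, closure (S j) ⊆ ⋃ i ∈ Set.Iic j, S i) ∧
      (∀ i k, (S i ∩ P k).Nonempty → S i ⊆ P k) := by
  classical
  let G := Fin n ⊕ Fin n
  let C : G → Set X := Sum.elim (fun k => closure (P k)) (fun k => closure (P k) \ P k)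
  have hC : ∀ g, IsClosed (C g) := by
    rintro (k | k)
    · exact isClosed_closure
    · exact isOpen_compl_iff.mp (hP k).isOpen_coborder
  refine ⟨(Set G)ᵒᵈ, inferInstance, inferInstance, fun A => stratum C (OrderDual.ofDual A),
    fun A => isLocallyClosed_stratum C hC _, iUnion_stratum C, disjoint_stratum C,
    closure_stratum_subset C hC, ?_⟩
  intro A k hne
  apply stratum_subset_of_measurable C (P k) ?_ _ hne
  intro x y hxy
  have h1 : (x ∈ closure (P k)) ↔ (y ∈ closure (P k)) := by
    have := Set.ext_iff.mp hxy (Sum.inl k)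
    exact this
  have h2 : (x ∈ closure (P k) \ P k) ↔ (y ∈ closure (P k) \ P k) := by
    have := Set.ext_iff.mp hxy (Sum.inr k)
    exact this
  constructor
  · intro hx
    have hyc : y ∈ closure (P k) := h1.mp (subset_closure hx)
    by_contra hy
    exact (h2.mpr ⟨hyc, hy⟩).2 hx
  · intro hy
    have hxc : x ∈ closure (P k) := h1.mpr (subset_closure hy)
    by_contra hx
    exact (h2.mp ⟨hxc, hx⟩).2 hy

theorem exists_family_of_isConstructible {T : Set X} (hT : IsConstructible T) :
    ∃ (G : Type) (_ : Fintype G) (C : G → Set X),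
      (∀ g, IsClosed (C g) ∧ IsConstructible (C g)) ∧
        ∀ x y, typ C x = typ C y → (x ∈ T ↔ y ∈ T) := by
  induction hT using IsConstructible.empty_union_induction with
  | open_retrocompact U hUo hUr =>
    refine ⟨Unit, inferInstance, fun _ => Uᶜ,
      fun _ => ⟨hUo.isClosed_compl, (hUr.isConstructible hUo).compl⟩, ?_⟩
    intro x y hxy
    have : (x ∈ Uᶜ) ↔ (y ∈ Uᶜ) := Set.ext_iff.mp hxy ()
    simp only [mem_compl_iff] at this
    exact not_iff_not.mp this
  | union s _ t _ hs ht =>
    obtain ⟨G₁, hG₁, C₁, hC₁, hm₁⟩ := hs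
    obtain ⟨G₂, hG₂, C₂, hC₂, hm₂⟩ := ht
    refine ⟨G₁ ⊕ G₂, inferInstance, Sum.elim C₁ C₂, ?_, ?_⟩
    · rintro (g | g)
      · exact hC₁ g
      · exact hC₂ g
    · intro x y hxy
      have h1 : typ C₁ x = typ C₁ y := by
        ext g
        exact Set.ext_iff.mp hxy (Sum.inl g)
      have h2 : typ C₂ x = typ C₂ y := by
        ext g
        exact Set.ext_iff.mp hxy (Sum.inr g)
      simp only [mem_union]
      rw [hm₁ x y h1, hm₂ x y h2]
  | compl s _ hs =>
    obtain ⟨G, hG, C, hC, hm⟩ := hs
    refine ⟨G, hG, C, hC, ?_⟩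
    intro x y hxy
    simp only [mem_compl_iff]
    rw [hm x y hxy]

theorem exists_constructible_stratification {n : ℕ} (T : Fin n → Set X)
    (hT : ∀ k, IsConstructible (T k)) :
    ∃ (I : Type) (_ : Fintype I) (_ : PartialOrder I) (S : I → Set X),
      (∀ i, IsLocallyClosed (S i) ∧ IsConstructible (S i)) ∧ (⋃ i, S i = Set.univ) ∧
      (∀ i j, i ≠ j → Disjoint (S i) (S j)) ∧
      (∀ j, closure (S j) ⊆ ⋃ i ∈ Set.Iic j, S i) ∧
      (∀ i k, (S i ∩ T k).Nonempty → S i ⊆ T k) := by
  classical
  choose G hG C hC hm using fun k => exists_family_of_isConstructible (hT k)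
  let G' := Σ k : Fin n, G k
  let C' : G' → Set X := fun p => C p.1 p.2
  have hC' : ∀ g, IsClosed (C' g) := fun p => (hC p.1 p.2).1
  have hC'' : ∀ g, IsConstructible (C' g) := fun p => (hC p.1 p.2).2
  refine ⟨(Set G')ᵒᵈ, inferInstance, inferInstance, fun A => stratum C' (OrderDual.ofDual A),
    fun A => ⟨isLocallyClosed_stratum C' hC' _, isConstructible_stratum C' hC'' _⟩,
    iUnion_stratum C', disjoint_stratum C', closure_stratum_subset C' hC', ?_⟩
  intro A k hne
  apply stratum_subset_of_measurable C' (T k) ?_ _ hne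
  intro x y hxy
  apply hm k x y
  ext g
  exact Set.ext_iff.mp hxy ⟨k, g⟩

end Groth.Agent.Lib.Helper20.Strat
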