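import Mathlib
import Groth.Agent.Lib.Helper7.GenNormalFlat

set_option autoImplicit false
set_option linter.style.haveILetI false
set_option linter.unusedSectionVars false
universe u

namespace Groth.Agent.Lib.Helper20.StratGr

open Groth.Agent.Lib.Helper7.GrLoc Groth.Agent.Lib.Helper7.GenNormalFlat
  Groth.Agent.Lib.helper11.GenFree Groth.Agent.Lib.helper11.GenFreeTools

variable {D : Type u} [CommRing D] [IsDomain D] [IsNoetherianRing D]
  {B : Type u} [CommRing B] [Algebra D B] [Algebra.FiniteType D B] (J : Ideal B)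
  (N : Type u) [AddCommGroup N] [Module B N] [Module D N] [IsScalarTower D B N]
  [Module.Finite B N]

/-- generic freeness of `ℳ ⧸ J ℳ` over `D` for a finite module over a finite type `B`-algebra -/
theorem genFree_quot' (ℛ : Type u) [CommRing ℛ] [Algebra B ℛ] [Algebra.FiniteType B ℛ]
    (ℳ : Type u) [AddCommGroup ℳ] [Module ℛ ℳ] [Module B ℳ] [IsScalarTower B ℛ ℳ]
    [Module D ℳ] [IsScalarTower D B ℳ] [Module.Finite ℛ ℳ] :
    GenFree D (ℳ ⧸ (J • ⊤ : Submodule B ℳ)) := by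
  let P : Ideal ℛ := J.map (algebraMap B ℛ)
  let G := ℳ ⧸ (P • ⊤ : Submodule ℛ ℳ)
  letI : Algebra D ℛ := ((algebraMap B ℛ).comp (algebraMap D B)).toAlgebra
  haveI : IsScalarTower D B ℛ := IsScalarTower.of_algebraMap_eq fun _ => rfl
  haveI : Algebra.FiniteType D ℛ := Algebra.FiniteType.trans (inferInstance : Algebra.FiniteType D B) inferInstance
  letI : Module D G := Module.compHom G (algebraMap D ℛ)
  haveI : IsScalarTower D ℛ G := IsScalarTower.of_algebraMap_smul fun _ _ => rfl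
  have hG : GenFree D G := genFree_of_finiteType ℛ G
  haveI : IsScalarTower D B G := IsScalarTower.of_algebraMap_smul fun d y => by
    change algebraMap D B d • y = algebraMap B ℛ (algebraMap D B d) • y
    exact (algebraMap_smul ℛ _ y).symm
  let eB : G ≃ₗ[B] (ℳ ⧸ (J • ⊤ : Submodule B ℳ)) :=
    (Submodule.Quotient.restrictScalarsEquiv B (P • ⊤ : Submodule ℛ ℳ)).symm ≪≫ₗ
      Submodule.quotEquivOfEq _ _
        (by rw [Ideal.smul_restrictScalars, Submodule.restrictScalars_top])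
  exact hG.of_linearEquiv (eB.restrictScalars D)

theorem exists_flat_localized_gr_aux (ℛ : Type u) [CommRing ℛ] [Algebra B ℛ]
    [Algebra.FiniteType B ℛ]
    (ℳ : Type u) [AddCommGroup ℳ] [Module ℛ ℳ] [Module B ℳ] [IsScalarTower B ℛ ℳ]
    [Module D ℳ] [IsScalarTower D B ℳ] [Module.Finite ℛ ℳ]
    (ι : ∀ n : ℕ, ↥(J ^ n • (⊤ : Submodule B N)) →ₗ[B] ℳ)
    (ρ : ∀ n : ℕ, ℳ →ₗ[B] ↥(J ^ n • (⊤ : Submodule B N)))
    (hρι : ∀ n, (ρ n) ∘ₗ (ι n) = LinearMap.id) :
    ∃ f : D, f ≠ 0 ∧ ∀ h : D, f ∣ h → h ≠ 0 → ∀ n,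
      Module.Flat D (LocalizedModule (Submonoid.powers h) (Gr J N n)) := by
  obtain ⟨f, hf, H⟩ := genFree_quot' (D := D) J ℛ ℳ
  refine ⟨f, hf, fun h hd hh n => ?_⟩
  haveI := H h hd hh
  let ι' : Gr J N n →ₗ[D] (ℳ ⧸ (J • ⊤ : Submodule B ℳ)) :=
    (Submodule.mapQ _ _ (ι n)
      (Submodule.smul_top_le_comap_smul_top J (ι n))).restrictScalars D
  let ρ' : (ℳ ⧸ (J • ⊤ : Submodule B ℳ)) →ₗ[D] Gr J N n :=
    (Submodule.mapQ _ _ (ρ n)
      (Submodule.smul_top_le_comap_smul_top J (ρ n))).restrictScalars D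
  refine flat_localized_of_retract h ι' ρ' ?_
  apply LinearMap.ext
  intro x
  obtain ⟨x, rfl⟩ := Submodule.Quotient.mk_surjective _ x
  change Submodule.Quotient.mk (ρ n (ι n x)) = Submodule.Quotient.mk x
  congr 1
  exact LinearMap.congr_fun (hρι n) x

theorem exists_flat_localized_gr' :
    ∃ f : D, f ≠ 0 ∧ ∀ h : D, f ∣ h → h ≠ 0 → ∀ n,
      Module.Flat D (LocalizedModule (Submonoid.powers h) (Gr J N n)) := by
  haveI : IsNoetherianRing B := Algebra.FiniteType.isNoetherianRing D B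
  haveI : Module.Finite (reesAlgebra J) ↥(RM J N) := Module.Finite.iff_fg.2 (rm_fg J N)
  exact exists_flat_localized_gr_aux J N (reesAlgebra J) ↥(RM J N) (ιn J N) (ρn J N)
    (ρn_comp_ιn J N)

end Groth.Agent.Lib.Helper20.StratGr
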