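import Mathlib
import Groth.Agent.Lib.Helper7.GrLoc

set_option autoImplicit false
set_option linter.style.haveILetI false
set_option linter.unusedSectionVars false
universe u

namespace Groth.Agent.Lib.Helper20.StratGr

open Groth.Agent.Lib.Helper7.GrLoc

section L

variable {D : Type u} [CommRing D] (p : Submonoid D) (A' : Type u) [CommRing A'] [Algebra D A']
  [IsLocalization p A']
  {N N' : Type u} [AddCommGroup N] [Module D N] [AddCommGroup N'] [Module D N'] [Module A' N']
  [IsScalarTower D A' N'] (g : N →ₗ[D] N') [IsLocalizedModule p g] (E F : Submodule D N)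

theorem localized'_map_mkQ :
    (Submodule.map E.mkQ F).localized' A' p (E.toLocalizedQuotient' A' p g) =
      Submodule.map (E.localized' A' p g).mkQ (F.localized' A' p g) := by
  rw [Submodule.localized'_eq_span A' p (E.toLocalizedQuotient' A' p g) (Submodule.map E.mkQ F),
    Submodule.localized'_eq_span A' p g F, Submodule.map_span]
  congr 1
  ext y
  simp only [Submodule.map_coe, Set.mem_image, SetLike.mem_coe, exists_exists_and_eq_and,
    Submodule.mkQ_apply, Submodule.toLocalizedQuotient'_mk]

/-- flatness of a localized subquotient -/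
theorem flat_map_mkQ_localized (G : Type u) [AddCommGroup G] [Module D G]
    (e : G ≃ₗ[D] ↥(Submodule.map E.mkQ F))
    (hflat : Module.Flat D (LocalizedModule p G)) :
    Module.Flat A' ↥(Submodule.map (E.localized' A' p g).mkQ (F.localized' A' p g)) := by
  have key := localized'_map_mkQ p A' g E F
  suffices h : ∀ X : Submodule A' (N' ⧸ E.localized' A' p g),
      (Submodule.map E.mkQ F).localized' A' p (E.toLocalizedQuotient' A' p g) = X →
        Module.Flat A' ↥X from h _ key
  rintro _ rfl
  let e' : LocalizedModule p G ≃ₗ[D]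
      ↥((Submodule.map E.mkQ F).localized' A' p (E.toLocalizedQuotient' A' p g)) :=
    IsLocalizedModule.iso p
      (((Submodule.map E.mkQ F).toLocalized' A' p (E.toLocalizedQuotient' A' p g)) ∘ₗ
        e.toLinearMap)
  haveI : Module.Flat D
      ↥((Submodule.map E.mkQ F).localized' A' p (E.toLocalizedQuotient' A' p g)) :=
    Module.Flat.of_linearEquiv e'.symm
  exact (Module.flat_iff_of_isLocalization A' p _).mpr inferInstance

end L

section T4

variable {D : Type u} [CommRing D] {B : Type u} [CommRing B] [Algebra D B] (J : Ideal B)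
  (N : Type u) [AddCommGroup N] [Module B N] [Module D N] [IsScalarTower D B N]

/-- the filtration pieces as `D`-submodules -/
abbrev Fil (n : ℕ) : Submodule D N := (J ^ n • (⊤ : Submodule B N)).restrictScalars D

/-- the map `J^n N → N / J^(n+1) N` -/
noncomputable def grToQuot (n : ℕ) : ↥(J ^ n • (⊤ : Submodule B N)) →ₗ[D] N ⧸ Fil (D := D) J N (n + 1) :=
  (Fil (D := D) J N (n + 1)).mkQ ∘ₗ ((J ^ n • (⊤ : Submodule B N)).subtype.restrictScalars D)

theorem range_grToQuot (n : ℕ) :
    LinearMap.range (grToQuot (D := D) J N n) =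
      Submodule.map (Fil (D := D) J N (n + 1)).mkQ (Fil (D := D) J N n) := by
  ext y
  simp only [grToQuot, LinearMap.mem_range, LinearMap.comp_apply, Submodule.mem_map]
  constructor
  · rintro ⟨x, rfl⟩
    exact ⟨x.1, x.2, rfl⟩
  · rintro ⟨x, hx, rfl⟩
    exact ⟨⟨x, hx⟩, rfl⟩

theorem ker_grToQuot (n : ℕ) :
    LinearMap.ker (grToQuot (D := D) J N n) =
      (J • (⊤ : Submodule B ↥(J ^ n • (⊤ : Submodule B N)))).restrictScalars D := by
  ext x
  simp only [grToQuot, LinearMap.mem_ker, LinearMap.comp_apply, Submodule.mkQ_apply,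
    Submodule.Quotient.mk_eq_zero, Submodule.restrictScalars_mem]
  rw [Submodule.mem_smul_top_iff, ← Submodule.mul_smul, ← pow_succ']
  rfl

/-- the graded piece as a subquotient -/
noncomputable def grEquiv (n : ℕ) :
    Gr J N n ≃ₗ[D] ↥(Submodule.map (Fil (D := D) J N (n + 1)).mkQ (Fil (D := D) J N n)) :=
  (Submodule.Quotient.restrictScalarsEquiv D
      (J • (⊤ : Submodule B ↥(J ^ n • (⊤ : Submodule B N))))).symm ≪≫ₗ
    Submodule.quotEquivOfEq _ _ (ker_grToQuot (D := D) J N n).symm ≪≫ₗ
    LinearMap.quotKerEquivRange (grToQuot (D := D) J N n) ≪≫ₗ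
    LinearEquiv.ofEq _ _ (range_grToQuot (D := D) J N n)

end T4

end Groth.Agent.Lib.Helper20.StratGr
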