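import Mathlib
import Groth.Agent.Lib.Helper20.StratGrA
import Groth.Agent.Lib.Helper20.StratGrB

set_option autoImplicit false
set_option linter.style.haveILetI false
set_option linter.unusedSectionVars false
universe u

namespace Groth.Agent.Lib.Helper20.StratGr

open TensorProduct

variable {A₀ : Type u} [CommRing A₀] {B₀ : Type u} [CommRing B₀] [Algebra A₀ B₀]
  (M₀ : Type u) [AddCommGroup M₀] [Module B₀ M₀] [Module A₀ M₀] [IsScalarTower A₀ B₀ M₀]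
  (p : Ideal A₀)

/-- `M₀ / p M₀` as a module over `B₀ / p B₀` -/
def NN : Type u := M₀ ⧸ ((p.map (algebraMap A₀ B₀)) • ⊤ : Submodule B₀ M₀)

noncomputable instance : AddCommGroup (NN (B₀ := B₀) M₀ p) :=
  inferInstanceAs (AddCommGroup (M₀ ⧸ ((p.map (algebraMap A₀ B₀)) • ⊤ : Submodule B₀ M₀)))
noncomputable instance : Module B₀ (NN (B₀ := B₀) M₀ p) :=
  inferInstanceAs (Module B₀ (M₀ ⧸ ((p.map (algebraMap A₀ B₀)) • ⊤ : Submodule B₀ M₀)))
noncomputable instance : Module A₀ (NN (B₀ := B₀) M₀ p) :=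
  inferInstanceAs (Module A₀ (M₀ ⧸ ((p.map (algebraMap A₀ B₀)) • ⊤ : Submodule B₀ M₀)))
noncomputable instance : Module (B₀ ⧸ p.map (algebraMap A₀ B₀)) (NN (B₀ := B₀) M₀ p) :=
  inferInstanceAs (Module (B₀ ⧸ p.map (algebraMap A₀ B₀))
    (M₀ ⧸ ((p.map (algebraMap A₀ B₀)) • ⊤ : Submodule B₀ M₀)))
instance : IsScalarTower A₀ B₀ (NN (B₀ := B₀) M₀ p) :=
  inferInstanceAs (IsScalarTower A₀ B₀ (M₀ ⧸ ((p.map (algebraMap A₀ B₀)) • ⊤ : Submodule B₀ M₀)))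
instance : IsScalarTower B₀ (B₀ ⧸ p.map (algebraMap A₀ B₀)) (NN (B₀ := B₀) M₀ p) :=
  inferInstanceAs (IsScalarTower B₀ (B₀ ⧸ p.map (algebraMap A₀ B₀))
    (M₀ ⧸ ((p.map (algebraMap A₀ B₀)) • ⊤ : Submodule B₀ M₀)))
noncomputable instance : Module (A₀ ⧸ p) (NN (B₀ := B₀) M₀ p) :=
  Module.compHom _ (algebraMap (A₀ ⧸ p) (B₀ ⧸ p.map (algebraMap A₀ B₀)))
instance : IsScalarTower (A₀ ⧸ p) (B₀ ⧸ p.map (algebraMap A₀ B₀)) (NN (B₀ := B₀) M₀ p) :=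
  IsScalarTower.of_algebraMap_smul fun _ _ => rfl

theorem NN.mk_smul (a : A₀) (y : NN (B₀ := B₀) M₀ p) :
    (algebraMap A₀ (A₀ ⧸ p) a) • y = a • y := by
  change algebraMap (A₀ ⧸ p) (B₀ ⧸ p.map (algebraMap A₀ B₀)) (Ideal.Quotient.mk p a) • y = a • y
  rw [Ideal.Quotient.algebraMap_quotient_map_quotient]
  change algebraMap B₀ (B₀ ⧸ p.map (algebraMap A₀ B₀)) (algebraMap A₀ B₀ a) • y = a • y
  rw [algebraMap_smul, algebraMap_smul]

instance : IsScalarTower A₀ (A₀ ⧸ p) (NN (B₀ := B₀) M₀ p) :=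
  IsScalarTower.of_algebraMap_smul (NN.mk_smul M₀ p)

/-- the quotient map -/
noncomputable def NN.mk : M₀ →ₗ[B₀] NN (B₀ := B₀) M₀ p :=
  Submodule.mkQ ((p.map (algebraMap A₀ B₀)) • ⊤ : Submodule B₀ M₀)

theorem NN.mk_surjective : Function.Surjective (NN.mk (B₀ := B₀) M₀ p) :=
  Submodule.mkQ_surjective _

instance [Module.Finite B₀ M₀] : Module.Finite (B₀ ⧸ p.map (algebraMap A₀ B₀)) (NN (B₀ := B₀) M₀ p) :=
  haveI : Module.Finite B₀ (NN (B₀ := B₀) M₀ p) :=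
    Module.Finite.of_surjective (NN.mk (B₀ := B₀) M₀ p) (NN.mk_surjective M₀ p)
  Module.Finite.of_restrictScalars_finite B₀ _ _

section g

variable (h₀ : A₀)

theorem smul_top_eq : (p • ⊤ : Submodule A₀ M₀) =
    ((p.map (algebraMap A₀ B₀)) • ⊤ : Submodule B₀ M₀).restrictScalars A₀ := by
  rw [Ideal.smul_restrictScalars, Submodule.restrictScalars_top]

/-- `D ⊗ M₀ ≃ NN` over `A₀` -/
noncomputable def NN.equivTensor₀ : ((A₀ ⧸ p) ⊗[A₀] M₀) ≃ₗ[A₀] NN (B₀ := B₀) M₀ p :=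
  (quotTensorEquivQuotSMul M₀ p) ≪≫ₗ (Submodule.quotEquivOfEq _ _ (smul_top_eq M₀ p)) ≪≫ₗ
    (Submodule.Quotient.restrictScalarsEquiv A₀
      ((p.map (algebraMap A₀ B₀)) • ⊤ : Submodule B₀ M₀))

theorem NN.equivTensor₀_tmul (m : M₀) :
    NN.equivTensor₀ (B₀ := B₀) M₀ p (1 ⊗ₜ m) = NN.mk M₀ p m := by
  change Submodule.Quotient.restrictScalarsEquiv A₀
      ((p.map (algebraMap A₀ B₀)) • ⊤ : Submodule B₀ M₀)
      ((Submodule.quotEquivOfEq _ _ (smul_top_eq M₀ p))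
        (quotTensorEquivQuotSMul M₀ p (1 ⊗ₜ m))) = _
  rw [quotTensorEquivQuotSMul_mk_one_tmul]
  rfl

/-- `D ⊗ M₀ ≃ NN` over `D` -/
noncomputable def NN.equivTensor : ((A₀ ⧸ p) ⊗[A₀] M₀) ≃ₗ[A₀ ⧸ p] NN (B₀ := B₀) M₀ p :=
  (NN.equivTensor₀ M₀ p).extendScalarsOfSurjective Ideal.Quotient.mk_surjective

theorem NN.equivTensor_symm_mk (m : M₀) :
    (NN.equivTensor (B₀ := B₀) M₀ p).symm (NN.mk M₀ p m) = 1 ⊗ₜ m := by
  rw [LinearEquiv.symm_apply_eq]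
  exact (NN.equivTensor₀_tmul M₀ p m).symm

/-- the localization map `NN → A' ⊗ M₀` -/
noncomputable def NN.g :
    NN (B₀ := B₀) M₀ p →ₗ[A₀ ⧸ p] (Localization.Away (Ideal.Quotient.mk p h₀)) ⊗[A₀] M₀ :=
  ((AlgebraTensorModule.cancelBaseChange A₀ (A₀ ⧸ p)
      (Localization.Away (Ideal.Quotient.mk p h₀))
      (Localization.Away (Ideal.Quotient.mk p h₀)) M₀).restrictScalars (A₀ ⧸ p)).toLinearMap ∘ₗ
    ((TensorProduct.mk (A₀ ⧸ p) (Localization.Away (Ideal.Quotient.mk p h₀))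
      ((A₀ ⧸ p) ⊗[A₀] M₀) 1) ∘ₗ (NN.equivTensor (B₀ := B₀) M₀ p).symm.toLinearMap)

theorem NN.g_mk (m : M₀) : NN.g (B₀ := B₀) M₀ p h₀ (NN.mk M₀ p m) = 1 ⊗ₜ m := by
  simp only [NN.g, LinearMap.comp_apply, LinearEquiv.coe_coe, NN.equivTensor_symm_mk,
    TensorProduct.mk_apply, LinearEquiv.restrictScalars_apply,
    AlgebraTensorModule.cancelBaseChange_tmul, one_smul]

instance : IsLocalizedModule (Submonoid.powers (Ideal.Quotient.mk p h₀))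
    (NN.g (B₀ := B₀) M₀ p h₀) := by
  unfold NN.g
  haveI : IsLocalizedModule (Submonoid.powers (Ideal.Quotient.mk p h₀))
      ((TensorProduct.mk (A₀ ⧸ p) (Localization.Away (Ideal.Quotient.mk p h₀))
      ((A₀ ⧸ p) ⊗[A₀] M₀) 1) ∘ₗ (NN.equivTensor (B₀ := B₀) M₀ p).symm.toLinearMap) :=
    IsLocalizedModule.of_linearEquiv_right _ _ _
  exact IsLocalizedModule.of_linearEquiv _ _ _

end g

section T2

variable (J₀ : Ideal B₀) (h₀ : A₀)

/-- the image of `J₀` in `B₀ / p B₀` -/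
abbrev J1 : Ideal (B₀ ⧸ p.map (algebraMap A₀ B₀)) :=
  J₀.map (algebraMap B₀ (B₀ ⧸ p.map (algebraMap A₀ B₀)))

theorem fil_coe (n : ℕ) :
    ((Fil (D := A₀ ⧸ p) (J1 p J₀) (NN (B₀ := B₀) M₀ p) n : Submodule (A₀ ⧸ p) (NN (B₀ := B₀) M₀ p)) :
        Set (NN (B₀ := B₀) M₀ p)) =
      NN.mk M₀ p '' ((J₀ ^ n • (⊤ : Submodule B₀ M₀) : Submodule B₀ M₀) : Set M₀) := by
  have h1 : ((J1 p J₀) ^ n • (⊤ : Submodule (B₀ ⧸ p.map (algebraMap A₀ B₀))
      (NN (B₀ := B₀) M₀ p))).restrictScalars B₀ =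
      Submodule.map (NN.mk (B₀ := B₀) M₀ p) (J₀ ^ n • (⊤ : Submodule B₀ M₀)) := by
    rw [J1, ← Ideal.map_pow, Ideal.smul_restrictScalars, Submodule.restrictScalars_top,
      Submodule.map_smul'', Submodule.map_top, LinearMap.range_eq_top.mpr (NN.mk_surjective M₀ p)]
  have h2 := congrArg (fun X : Submodule B₀ (NN (B₀ := B₀) M₀ p) => (X : Set (NN (B₀ := B₀) M₀ p))) h1
  simp only [Submodule.coe_restrictScalars, Submodule.map_coe] at h2
  exact h2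

theorem baseChange_eq_localized' (n : ℕ) :
    Submodule.baseChange (Localization.Away (Ideal.Quotient.mk p h₀))
        ((J₀ ^ n • (⊤ : Submodule B₀ M₀)).restrictScalars A₀) =
      Submodule.localized' (Localization.Away (Ideal.Quotient.mk p h₀))
        (Submonoid.powers (Ideal.Quotient.mk p h₀)) (NN.g (B₀ := B₀) M₀ p h₀)
        (Fil (D := A₀ ⧸ p) (J1 p J₀) (NN (B₀ := B₀) M₀ p) n) := by
  rw [Submodule.baseChange_eq_span, Submodule.localized'_eq_span, fil_coe, Set.image_image]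
  congr 1
  ext y
  simp only [Submodule.map_coe, Submodule.coe_restrictScalars, Set.mem_image, SetLike.mem_coe,
    TensorProduct.mk_apply, NN.g_mk]

end T2

end Groth.Agent.Lib.Helper20.StratGr
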