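import Mathlib
import Groth.Agent.Lib.Helper20.StratGrC

set_option autoImplicit false
set_option linter.style.haveILetI false
set_option linter.unusedSectionVars false
universe u

namespace Groth.Agent.Lib.Helper20.StratGr

open TensorProduct Groth.Agent.Lib.Helper7.GrLoc

variable {A₀ : Type u} [CommRing A₀] [IsNoetherianRing A₀] {B₀ : Type u} [CommRing B₀]
  [Algebra A₀ B₀] [Algebra.FiniteType A₀ B₀]
  (M₀ : Type u) [AddCommGroup M₀] [Module B₀ M₀] [Module A₀ M₀] [IsScalarTower A₀ B₀ M₀]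
  [Module.Finite B₀ M₀]

theorem stratum_flat (p : Ideal A₀) [p.IsPrime] (J₀ : Ideal B₀) :
    ∃ f₀ : A₀, f₀ ∉ p ∧ ∀ h₀ : A₀, f₀ ∣ h₀ → h₀ ∉ p → ∀ n : ℕ,
      Module.Flat (Localization.Away (Ideal.Quotient.mk p h₀))
        ↥(Submodule.map
          (LinearMap.range (LinearMap.baseChange (Localization.Away (Ideal.Quotient.mk p h₀))
            ((J₀ ^ (n + 1) • (⊤ : Submodule B₀ M₀)).restrictScalars A₀).subtype)).mkQ
          (LinearMap.range (LinearMap.baseChange (Localization.Away (Ideal.Quotient.mk p h₀))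
            ((J₀ ^ n • (⊤ : Submodule B₀ M₀)).restrictScalars A₀).subtype))) := by
  haveI : Algebra.FiniteType A₀ (B₀ ⧸ p.map (algebraMap A₀ B₀)) :=
    Algebra.FiniteType.of_surjective (Ideal.Quotient.mkₐ A₀ (p.map (algebraMap A₀ B₀)))
      (Ideal.Quotient.mkₐ_surjective A₀ _)
  haveI : Algebra.FiniteType (A₀ ⧸ p) (B₀ ⧸ p.map (algebraMap A₀ B₀)) :=
    Algebra.FiniteType.of_restrictScalars_finiteType A₀ (A₀ ⧸ p) _
  obtain ⟨f, hf, H⟩ := exists_flat_localized_gr' (D := A₀ ⧸ p) (J1 p J₀) (NN (B₀ := B₀) M₀ p)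
  obtain ⟨f₀, rfl⟩ := Ideal.Quotient.mk_surjective f
  refine ⟨f₀, fun hmem => hf (Ideal.Quotient.eq_zero_iff_mem.mpr hmem), fun h₀ hd hh n => ?_⟩
  have hd' : Ideal.Quotient.mk p f₀ ∣ Ideal.Quotient.mk p h₀ := map_dvd _ hd
  have hh' : Ideal.Quotient.mk p h₀ ≠ 0 := fun h => hh (Ideal.Quotient.eq_zero_iff_mem.mp h)
  have hflat := H _ hd' hh' n
  have key := flat_map_mkQ_localized (Submonoid.powers (Ideal.Quotient.mk p h₀))
    (Localization.Away (Ideal.Quotient.mk p h₀)) (NN.g (B₀ := B₀) M₀ p h₀)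
    (Fil (D := A₀ ⧸ p) (J1 p J₀) (NN (B₀ := B₀) M₀ p) (n + 1))
    (Fil (D := A₀ ⧸ p) (J1 p J₀) (NN (B₀ := B₀) M₀ p) n)
    (Gr (J1 p J₀) (NN (B₀ := B₀) M₀ p) n) (grEquiv (D := A₀ ⧸ p) (J1 p J₀) _ n) hflat
  have e1 := baseChange_eq_localized' M₀ p J₀ h₀ (n + 1)
  have e2 := baseChange_eq_localized' M₀ p J₀ h₀ n
  suffices h : ∀ X₁ X₂ : Submodule (Localization.Away (Ideal.Quotient.mk p h₀))
      ((Localization.Away (Ideal.Quotient.mk p h₀)) ⊗[A₀] M₀),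
      X₁ = Submodule.localized' (Localization.Away (Ideal.Quotient.mk p h₀))
        (Submonoid.powers (Ideal.Quotient.mk p h₀)) (NN.g (B₀ := B₀) M₀ p h₀)
        (Fil (D := A₀ ⧸ p) (J1 p J₀) (NN (B₀ := B₀) M₀ p) (n + 1)) →
      X₂ = Submodule.localized' (Localization.Away (Ideal.Quotient.mk p h₀))
        (Submonoid.powers (Ideal.Quotient.mk p h₀)) (NN.g (B₀ := B₀) M₀ p h₀)
        (Fil (D := A₀ ⧸ p) (J1 p J₀) (NN (B₀ := B₀) M₀ p) n) →
      Module.Flat (Localization.Away (Ideal.Quotient.mk p h₀))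
        ↥(Submodule.map X₁.mkQ X₂) from h _ _ e1 e2
  rintro _ _ rfl rfl
  exact key

end Groth.Agent.Lib.Helper20.StratGr
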