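import Mathlib
import Groth.Agent.Lib.Helper20.StratGrD

set_option autoImplicit false
set_option linter.style.haveILetI false
set_option linter.unusedSectionVars false
universe u

namespace Groth.Agent.Lib.Helper20.StratGr

open AlgebraicGeometry CategoryTheory

variable {A₀ : Type u} [CommRing A₀]

/-- the stratum `V(q) ∩ D(h)` -/
def ZZ (d : Ideal A₀ × A₀) : Set (PrimeSpectrum A₀) :=
  PrimeSpectrum.zeroLocus (d.1 : Set A₀) ∩ (PrimeSpectrum.basicOpen d.2 : Set (PrimeSpectrum A₀))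

theorem mem_ZZ {d : Ideal A₀ × A₀} {x : PrimeSpectrum A₀} :
    x ∈ ZZ d ↔ d.1 ≤ x.asIdeal ∧ d.2 ∉ x.asIdeal := by
  simp [ZZ, PrimeSpectrum.mem_zeroLocus]

theorem range_comap_str (q : Ideal A₀) (h : A₀) :
    Set.range (PrimeSpectrum.comap (algebraMap A₀ (Localization.Away (Ideal.Quotient.mk q h)))) =
      ZZ (q, h) := by
  ext x
  rw [mem_ZZ]
  constructor
  · rintro ⟨y, rfl⟩
    constructor
    · intro a ha
      change algebraMap A₀ (Localization.Away (Ideal.Quotient.mk q h)) a ∈ y.asIdeal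
      rw [IsScalarTower.algebraMap_apply A₀ (A₀ ⧸ q), Ideal.Quotient.algebraMap_eq,
        Ideal.Quotient.eq_zero_iff_mem.mpr ha, map_zero]
      exact zero_mem _
    · intro hmem
      change algebraMap A₀ (Localization.Away (Ideal.Quotient.mk q h)) h ∈ y.asIdeal at hmem
      rw [IsScalarTower.algebraMap_apply A₀ (A₀ ⧸ q), Ideal.Quotient.algebraMap_eq] at hmem
      exact y.2.ne_top (Ideal.eq_top_of_isUnit_mem _ hmem
        (IsLocalization.Away.algebraMap_isUnit (Ideal.Quotient.mk q h)))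
  · rintro ⟨hq, hh⟩
    have h1 : x ∈ Set.range (PrimeSpectrum.comap (Ideal.Quotient.mk q)) := by
      rw [range_comap_of_surjective _ _ Ideal.Quotient.mk_surjective, Ideal.mk_ker]
      exact hq
    obtain ⟨x', rfl⟩ := h1
    have h2 : x' ∈ Set.range (PrimeSpectrum.comap
        (algebraMap (A₀ ⧸ q) (Localization.Away (Ideal.Quotient.mk q h)))) := by
      rw [PrimeSpectrum.localization_away_comap_range _ (Ideal.Quotient.mk q h)]
      exact hh
    obtain ⟨y, rfl⟩ := h2
    refine ⟨y, ?_⟩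
    ext a
    simp only [PrimeSpectrum.comap_asIdeal, Ideal.mem_comap]
    rw [IsScalarTower.algebraMap_apply A₀ (A₀ ⧸ q), Ideal.Quotient.algebraMap_eq]

theorem range_spec_str (q : Ideal A₀) (h : A₀) :
    Set.range (Spec.map (CommRingCat.ofHom
      (algebraMap A₀ (Localization.Away (Ideal.Quotient.mk q h))))) = ZZ (q, h) :=
  range_comap_str q h

instance isImmersion_str (q : Ideal A₀) (h : A₀) :
    IsImmersion (Spec.map (CommRingCat.ofHom
      (algebraMap A₀ (Localization.Away (Ideal.Quotient.mk q h))))) := by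
  have : algebraMap A₀ (Localization.Away (Ideal.Quotient.mk q h)) =
      (algebraMap (A₀ ⧸ q) (Localization.Away (Ideal.Quotient.mk q h))).comp
        (Ideal.Quotient.mk q) := by
    rw [IsScalarTower.algebraMap_eq A₀ (A₀ ⧸ q)]; rfl
  rw [this, CommRingCat.ofHom_comp, Spec.map_comp]
  haveI : IsClosedImmersion (Spec.map (CommRingCat.ofHom (Ideal.Quotient.mk q))) :=
    IsClosedImmersion.spec_of_surjective _ Ideal.Quotient.mk_surjective
  haveI : IsOpenImmersion (Spec.map (CommRingCat.ofHom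
      (algebraMap (A₀ ⧸ q) (Localization.Away (Ideal.Quotient.mk q h))))) :=
    IsOpenImmersion.of_isLocalization (Ideal.Quotient.mk q h)
  infer_instance

section induction

variable [IsNoetherianRing A₀] {B₀ : Type u} [CommRing B₀]
  [Algebra A₀ B₀] [Algebra.FiniteType A₀ B₀] (J₀ : Ideal B₀)
  (M₀ : Type u) [AddCommGroup M₀] [Module B₀ M₀] [Module A₀ M₀] [IsScalarTower A₀ B₀ M₀]
  [Module.Finite B₀ M₀]

/-- flatness of all graded pieces over the stratum `d` -/
def FlatAt (d : Ideal A₀ × A₀) : Prop :=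
  ∀ n : ℕ, Module.Flat (Localization.Away (Ideal.Quotient.mk d.1 d.2))
    ↥(Submodule.map
      (LinearMap.range (LinearMap.baseChange (Localization.Away (Ideal.Quotient.mk d.1 d.2))
        ((J₀ ^ (n + 1) • (⊤ : Submodule B₀ M₀)).restrictScalars A₀).subtype)).mkQ
      (LinearMap.range (LinearMap.baseChange (Localization.Away (Ideal.Quotient.mk d.1 d.2))
        ((J₀ ^ n • (⊤ : Submodule B₀ M₀)).restrictScalars A₀).subtype)))

/-- the inductive statement -/
def Strat (𝔞 : Ideal A₀) : Prop :=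
  ∃ (m : ℕ) (d : Fin m → Ideal A₀ × A₀),
    (∀ i j, i ≠ j → Disjoint (ZZ (d i)) (ZZ (d j))) ∧
    (⋃ i, ZZ (d i) = PrimeSpectrum.zeroLocus (𝔞 : Set A₀)) ∧
    (∀ i, ∃ U : Set (PrimeSpectrum A₀), IsOpen U ∧
      U ∩ (⋃ j, ⋃ (_ : i ≤ j), ZZ (d j)) = ZZ (d i)) ∧
    ∀ i, FlatAt J₀ M₀ (d i)

theorem exists_stratum (𝔞 : Ideal A₀) (h𝔞 : 𝔞 ≠ ⊤) :
    ∃ (p : Ideal A₀) (h : A₀), p.IsPrime ∧ 𝔞 ≤ p ∧ h ∉ p ∧ FlatAt J₀ M₀ (p, h) ∧
      PrimeSpectrum.zeroLocus (𝔞 : Set A₀) ∩ (PrimeSpectrum.basicOpen h : Set (PrimeSpectrum A₀)) =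
        ZZ (p, h) := by
  classical
  obtain ⟨p, hp⟩ := Ideal.nonempty_minimalPrimes h𝔞
  haveI : p.IsPrime := hp.1.1
  have hfin : (𝔞.minimalPrimes).Finite := Ideal.finite_minimalPrimes_of_isNoetherianRing A₀ 𝔞
  set F := hfin.toFinset.erase p with hF
  have hg : ¬ (F.inf id ≤ p) := by
    intro hle
    obtain ⟨q, hqF, hqp⟩ := (Ideal.IsPrime.inf_le' (inferInstance : p.IsPrime)).mp hle
    rw [hF, Finset.mem_erase, Set.Finite.mem_toFinset] at hqF
    have : p ≤ q := hp.2 hqF.2.1 hqp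
    exact hqF.1 (le_antisymm hqp this)
  obtain ⟨g, hgF, hgp⟩ := SetLike.not_le_iff_exists.mp hg
  obtain ⟨f₀, hf₀, H⟩ := stratum_flat M₀ p J₀
  refine ⟨p, f₀ * g, inferInstance, hp.1.2, ?_, ?_, ?_⟩
  · intro hmem
    rcases Ideal.IsPrime.mem_or_mem inferInstance hmem with h | h
    · exact hf₀ h
    · exact hgp h
  · intro n
    exact H (f₀ * g) (dvd_mul_right _ _) (by
      intro hmem
      rcases Ideal.IsPrime.mem_or_mem inferInstance hmem with h | h
      · exact hf₀ h
      · exact hgp h) n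
  · ext x
    rw [mem_ZZ]
    simp only [Set.mem_inter_iff, PrimeSpectrum.mem_zeroLocus, SetLike.coe_subset_coe,
      SetLike.mem_coe, PrimeSpectrum.mem_basicOpen]
    constructor
    · rintro ⟨h1, h2⟩
      refine ⟨?_, h2⟩
      obtain ⟨q, hq, hqx⟩ := Ideal.exists_minimalPrimes_le h1
      by_cases hqp : q = p
      · rw [← hqp]; exact hqx
      · exfalso
        apply h2
        have hqF : q ∈ F := by
          rw [hF, Finset.mem_erase, Set.Finite.mem_toFinset]
          exact ⟨hqp, hq⟩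
        have : g ∈ q := (Finset.inf_le hqF : F.inf id ≤ id q) hgF
        exact Ideal.mul_mem_left _ _ (hqx this)
    · rintro ⟨h1, h2⟩
      exact ⟨hp.1.2.trans h1, h2⟩

theorem strat_all (𝔞 : Ideal A₀) : Strat J₀ M₀ 𝔞 := by
  induction 𝔞 using IsNoetherian.induction with
  | hgt 𝔞 ih =>
  by_cases h𝔞 : 𝔞 = ⊤
  · refine ⟨0, Fin.elim0, fun i => i.elim0, ?_, fun i => i.elim0, fun i => i.elim0⟩
    rw [h𝔞, Submodule.top_coe, PrimeSpectrum.zeroLocus_univ]
    simp
  obtain ⟨p, h, hp, hle, hhp, hflat, hZ⟩ := exists_stratum J₀ M₀ 𝔞 h𝔞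
  have hlt : 𝔞 < 𝔞 ⊔ Ideal.span {h} := by
    refine lt_of_le_of_ne le_sup_left fun heq => hhp (hle ?_)
    rw [heq]
    exact Ideal.mem_sup_right (Ideal.mem_span_singleton_self h)
  obtain ⟨m, d, hdisj, hunion, hord, hfl⟩ := ih _ hlt
  have hb : PrimeSpectrum.zeroLocus ((𝔞 ⊔ Ideal.span {h} : Ideal A₀) : Set A₀) =
      PrimeSpectrum.zeroLocus (𝔞 : Set A₀) ∩
        (PrimeSpectrum.basicOpen h : Set (PrimeSpectrum A₀))ᶜ := by
    rw [PrimeSpectrum.zeroLocus_sup, PrimeSpectrum.zeroLocus_span,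
      PrimeSpectrum.basicOpen_eq_zeroLocus_compl, compl_compl]
  have hsub : ∀ j, ZZ (d j) ⊆ (PrimeSpectrum.basicOpen h : Set (PrimeSpectrum A₀))ᶜ := by
    intro j x hx
    have : x ∈ ⋃ i, ZZ (d i) := Set.mem_iUnion.mpr ⟨j, hx⟩
    rw [hunion, hb] at this
    exact this.2
  have hsplit : ∀ s : Fin (m + 1) → Set (PrimeSpectrum A₀),
      (⋃ i, s i) = s 0 ∪ ⋃ i : Fin m, s i.succ := by
    intro s
    ext x
    simp only [Set.mem_iUnion, Set.mem_union, Fin.exists_fin_succ]
  have hall : (⋃ i : Fin (m + 1), ZZ ((Fin.cons (p, h) d : Fin (m + 1) → Ideal A₀ × A₀) i)) =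
      PrimeSpectrum.zeroLocus (𝔞 : Set A₀) := by
    rw [hsplit]
    simp only [Fin.cons_zero, Fin.cons_succ]
    rw [hunion, hb, ← hZ, ← Set.inter_union_distrib_left, Set.union_compl_self, Set.inter_univ]
  refine ⟨m + 1, Fin.cons (p, h) d, ?_, hall, ?_, ?_⟩
  · intro i j hij
    induction i using Fin.cases with
    | zero =>
      induction j using Fin.cases with
      | zero => exact absurd rfl hij
      | succ j =>
        simp only [Fin.cons_zero, Fin.cons_succ]
        rw [Set.disjoint_left]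
        intro x hx hx'
        exact hsub j hx' (by rw [← hZ] at hx; exact hx.2)
    | succ i =>
      induction j using Fin.cases with
      | zero =>
        simp only [Fin.cons_zero, Fin.cons_succ]
        rw [Set.disjoint_left]
        intro x hx hx'
        exact hsub i hx (by rw [← hZ] at hx'; exact hx'.2)
      | succ j =>
        simp only [Fin.cons_succ]
        exact hdisj i j (fun h => hij (by rw [h]))
  · intro i
    induction i using Fin.cases with
    | zero =>
      refine ⟨(PrimeSpectrum.basicOpen h : Set (PrimeSpectrum A₀)),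
        (PrimeSpectrum.basicOpen h).isOpen, ?_⟩
      have : (⋃ j : Fin (m + 1), ⋃ (_ : (0 : Fin (m + 1)) ≤ j),
          ZZ ((Fin.cons (p, h) d : Fin (m + 1) → Ideal A₀ × A₀) j)) =
          ⋃ j : Fin (m + 1), ZZ ((Fin.cons (p, h) d : Fin (m + 1) → Ideal A₀ × A₀) j) := by
        ext x
        simp only [Set.mem_iUnion, Fin.zero_le, exists_true_left]
      rw [this, hall, Fin.cons_zero, ← hZ, Set.inter_comm]
    | succ i =>
      obtain ⟨U, hU, hUeq⟩ := hord i
      refine ⟨U, hU, ?_⟩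
      have : (⋃ j : Fin (m + 1), ⋃ (_ : i.succ ≤ j),
          ZZ ((Fin.cons (p, h) d : Fin (m + 1) → Ideal A₀ × A₀) j)) =
          ⋃ j : Fin m, ⋃ (_ : i ≤ j), ZZ (d j) := by
        ext x
        simp only [Set.mem_iUnion, exists_prop]
        constructor
        · rintro ⟨j, hj, hx⟩
          induction j using Fin.cases with
          | zero => exact absurd hj (Fin.not_le.mpr (Fin.succ_pos i))
          | succ j =>
            rw [Fin.cons_succ] at hx
            exact ⟨j, Fin.succ_le_succ_iff.mp hj, hx⟩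
        · rintro ⟨j, hj, hx⟩
          exact ⟨j.succ, Fin.succ_le_succ_iff.mpr hj, by rw [Fin.cons_succ]; exact hx⟩
      rw [this, Fin.cons_succ]
      exact hUeq
  · intro i
    induction i using Fin.cases with
    | zero => rw [Fin.cons_zero]; exact hflat
    | succ i => rw [Fin.cons_succ]; exact hfl i

end induction

end Groth.Agent.Lib.Helper20.StratGr
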