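import Mathlib
import Groth.Prelude.Def_W4c2submetdescSubtr
import Groth.Agent.Lib.Helper20.SubtrPC

/-! Over a DVR: submersive iff S-subtrusive. -/

set_option autoImplicit false
universe u
open CategoryTheory CategoryTheory.Limits AlgebraicGeometry
open Topology Set

namespace Groth.Agent.Lib.Helper20.SubtrDVR

open Groth.Agent.Lib.Helper25.PC
open Groth.Agent.Lib.Helper20.SubtrPC

theorem quotient_iff {X Y : Scheme.{u}} (f : X ⟶ Y)
    (hY : ∃ η s₀ : Y, η ⤳ s₀ ∧ η ≠ s₀ ∧ IsOpen ({η} : Set Y) ∧ ∀ z : Y, z = η ∨ z = s₀) :
    Topology.IsQuotientMap f ↔ Subtr.IsSSubtrusive f := by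
  obtain ⟨η, s₀, hηs, hne, hηo, hall⟩ := hY
  constructor
  · intro hq y y' hy'y
    by_cases heq : y' = y
    · obtain ⟨x, hx⟩ := hq.surjective y
      exact ⟨x, x, specializes_rfl, hx, heq ▸ hx⟩
    · -- y' = η, y = s₀
      have hy' : y' = η := by
        rcases hall y' with h | h
        · exact h
        · exfalso
          rcases hall y with h2 | h2
          · -- s₀ ⤳ η, impossible
            rw [h, h2] at hy'y
            have : s₀ ∈ ({η} : Set Y) := hy'y.mem_open hηo rfl
            exact hne (mem_singleton_iff.mp this).symm
          · exact heq (h.trans h2.symm)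
      have hy : y = s₀ := by
        rcases hall y with h | h
        · exact absurd (hy'.trans h.symm) heq
        · exact h
      subst hy' hy
      by_contra hno
      let A : Set X := f ⁻¹' ({y'} : Set Y)
      have hstab : ∀ a ∈ A, ∀ x : X, a ⤳ x → x ∈ A := by
        intro a ha x hax
        have hfa : f a = y' := ha
        rcases hall (f x) with h | h
        · exact h
        · exact absurd ⟨x, a, hax, h, hfa⟩ hno
      have hpro : ProC A := ProC.preimage f (proC_singleton y')
      have hAcl : IsClosed A := by
        rw [← closure_subset_iff_isClosed]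
        intro x hx
        obtain ⟨e, heA, hex⟩ := exists_specializes_of_proC hpro hx
        exact hstab e heA x hex
      have hopen : IsOpen (f ⁻¹' ({y'} : Set Y)ᶜ) := by
        rw [preimage_compl]
        exact hAcl.isOpen_compl
      have hopen' : IsOpen (({y'} : Set Y)ᶜ) := hq.isOpen_preimage.mp hopen
      have : y' ∈ ({y'} : Set Y)ᶜ := hy'y.mem_open hopen' (fun h => hne (mem_singleton_iff.mp h).symm)
      exact this rfl
  · intro hs
    refine ⟨isCoinducing_iff.mpr fun s => ⟨fun h => ?_, fun h => h.preimage f.continuous⟩,
      fun y => ?_⟩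
    swap
    · obtain ⟨x, _, _, hx, _⟩ := hs (specializes_rfl : y ⤳ y)
      exact ⟨x, hx⟩
    · have hstab : ∀ y ∈ s, ∀ y' : Y, y' ⤳ y → y' ∈ s := by
        intro y hy y' hy'y
        obtain ⟨x, x', hx'x, hfx, hfx'⟩ := hs hy'y
        have hx : x ∈ f ⁻¹' s := by
          show f x ∈ s
          rw [hfx]; exact hy
        have := hx'x.mem_open h hx
        rw [← hfx']
        exact this
      by_cases hs₀ : s₀ ∈ s
      · have hη : η ∈ s := hstab s₀ hs₀ η hηs
        have : s = univ := by
          apply eq_univ_of_forall
          intro z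
          rcases hall z with h | h
          · rw [h]; exact hη
          · rw [h]; exact hs₀
        rw [this]
        exact isOpen_univ
      · by_cases hη : η ∈ s
        · have : s = {η} := by
            ext z
            constructor
            · intro hz
              rcases hall z with h | h
              · exact h
              · exact absurd (h ▸ hz) hs₀
            · intro hz
              rw [mem_singleton_iff.mp hz]; exact hη
          rw [this]
          exact hηo
        · have : s = ∅ := by
            apply eq_empty_of_forall_notMem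
            intro z hz
            rcases hall z with h | h
            · exact hη (h ▸ hz)
            · exact hs₀ (h ▸ hz)
          rw [this]
          exact isOpen_empty

theorem dvr_points (V : Type u) [CommRing V] [IsDomain V] [IsDiscreteValuationRing V] :
    ∃ η s₀ : PrimeSpectrum V, η ⤳ s₀ ∧ η ≠ s₀ ∧ IsOpen ({η} : Set (PrimeSpectrum V)) ∧
      ∀ z : PrimeSpectrum V, z = η ∨ z = s₀ := by
  let η : PrimeSpectrum V := ⟨⊥, Ideal.isPrime_bot⟩
  let s₀ : PrimeSpectrum V := IsLocalRing.closedPoint V
  have hne : η ≠ s₀ := by
    intro h
    have : (⊥ : Ideal V) = IsLocalRing.maximalIdeal V := congrArg PrimeSpectrum.asIdeal h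
    exact IsDiscreteValuationRing.not_a_field V this.symm
  have hall : ∀ z : PrimeSpectrum V, z = η ∨ z = s₀ := by
    intro z
    by_cases hz : z.asIdeal = ⊥
    · left
      exact PrimeSpectrum.ext hz
    · right
      haveI := z.isPrime
      have hmax : z.asIdeal.IsMaximal := IsPrime.to_maximal_ideal hz
      exact PrimeSpectrum.ext (IsLocalRing.eq_maximalIdeal hmax)
  refine ⟨η, s₀, ?_, hne, ?_, hall⟩
  · exact (PrimeSpectrum.le_iff_specializes η s₀).mp (show η.asIdeal ≤ s₀.asIdeal from bot_le)
  · have hcl : IsClosed ({s₀} : Set (PrimeSpectrum V)) :=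
      (PrimeSpectrum.isClosed_singleton_iff_isMaximal s₀).mpr
        (IsLocalRing.maximalIdeal.isMaximal V)
    have : ({η} : Set (PrimeSpectrum V)) = ({s₀} : Set (PrimeSpectrum V))ᶜ := by
      ext z
      simp only [mem_singleton_iff, mem_compl_iff]
      constructor
      · intro h h'
        exact hne (h.symm.trans h')
      · intro h
        rcases hall z with h1 | h1
        · exact h1
        · exact absurd h1 h
    rw [this]
    exact hcl.isOpen_compl

theorem main (V : Type u) [CommRing V] [IsDomain V]
    [IsDiscreteValuationRing V] {X : Scheme.{u}} (f : X ⟶ Spec (CommRingCat.of V)) :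
    Topology.IsQuotientMap f ↔ Subtr.IsSSubtrusive f :=
  quotient_iff f (dvr_points V)

end Groth.Agent.Lib.Helper20.SubtrDVR
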