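import Mathlib

namespace Groth.Agent.Lib.Helper20.SuperTrace

universe u v w

variable {R : Type u} [CommRing R] {ι : Type v} [Fintype ι] [DecidableEq ι]
variable (M : ι → Type w) [∀ i, AddCommGroup (M i)] [∀ i, Module R (M i)]
  [∀ i, Module.Free R (M i)] [∀ i, Module.Finite R (M i)]

theorem sum_single_proj :
    (∑ x, (LinearMap.single R M x).comp (LinearMap.proj x) : (Π k, M k) →ₗ[R] (Π k, M k)) =
      LinearMap.id := by
  apply LinearMap.ext
  intro e
  simp only [LinearMap.sum_apply, LinearMap.comp_apply, LinearMap.proj_apply,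
    LinearMap.single_apply, LinearMap.id_apply]
  exact Finset.univ_sum_single e

theorem trace_pi_eq_sum_diag (T : (Π k, M k) →ₗ[R] (Π k, M k)) :
    LinearMap.trace R (Π k, M k) T =
      ∑ x, LinearMap.trace R (M x) ((LinearMap.proj x).comp (T.comp (LinearMap.single R M x))) := by
  have h : T = ∑ x, (LinearMap.single R M x).comp ((LinearMap.proj x).comp T) := by
    apply LinearMap.ext
    intro e
    simp only [LinearMap.sum_apply, LinearMap.comp_apply, LinearMap.proj_apply,
      LinearMap.single_apply]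
    exact (Finset.univ_sum_single (T e)).symm
  conv_lhs => rw [h]
  rw [map_sum]
  refine Finset.sum_congr rfl fun x _ => ?_
  rw [LinearMap.trace_comp_comm']
  rfl

/-- the sign -/
def sg (n : ℤ) : R := (-1 : R) ^ n.natAbs

theorem sg_eq (n : ℤ) : (sg n : R) = if Even n then 1 else -1 := by
  unfold sg
  split_ifs with h
  · exact Even.neg_one_pow (Int.natAbs_even.2 h)
  · exact Odd.neg_one_pow (Int.natAbs_odd.2 (Int.not_even_iff_odd.1 h))

theorem sign_cancel (dx a b : ℤ) (hab : a = -b) :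
    (sg dx : R) - sg (a * b) * sg (dx + b) = 0 := by
  subst hab
  rw [sg_eq, sg_eq, sg_eq]
  by_cases h1 : Even dx <;> by_cases h2 : Even b <;>
    simp [Int.even_add, Int.even_mul, h1, h2]

/-- the grading involution -/
noncomputable def eps (deg : ι → ℤ) : (Π k, M k) →ₗ[R] (Π k, M k) :=
  ∑ i : ι, (LinearMap.single R M i) ∘ₗ
    (((-1 : R) ^ (deg i).natAbs) • (LinearMap.proj i : (Π k, M k) →ₗ[R] M i))

theorem proj_eps (deg : ι → ℤ) (x : ι) :
    (LinearMap.proj x : (Π k, M k) →ₗ[R] M x) ∘ₗ eps M deg =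
      (sg (deg x) : R) • (LinearMap.proj x : (Π k, M k) →ₗ[R] M x) := by
  apply LinearMap.ext
  intro v
  simp only [eps, LinearMap.comp_apply, LinearMap.sum_apply, LinearMap.proj_apply,
    LinearMap.smul_apply, LinearMap.single_apply, Finset.sum_apply]
  rw [Finset.sum_eq_single x]
  · rw [Pi.single_eq_same]
    rfl
  · intro i _ hi
    rw [Pi.single_eq_of_ne (Ne.symm hi)]
  · intro h
    exact absurd (Finset.mem_univ x) h

/-- blocks -/
noncomputable def blk (φ : (Π k, M k) →ₗ[R] (Π k, M k)) (y x : ι) : M y →ₗ[R] M x :=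
  (LinearMap.proj x) ∘ₗ φ ∘ₗ (LinearMap.single R M y)

theorem blk_comp (φ ψ : (Π k, M k) →ₗ[R] (Π k, M k)) (x : ι) :
    (LinearMap.proj x) ∘ₗ (φ ∘ₗ ψ) ∘ₗ (LinearMap.single R M x) =
      ∑ y, blk M φ y x ∘ₗ blk M ψ x y := by
  apply LinearMap.ext
  intro v
  simp only [LinearMap.sum_apply, LinearMap.comp_apply, LinearMap.proj_apply, blk]
  have hw : ψ ((LinearMap.single R M x) v) =
      ∑ y, (LinearMap.single R M y) (ψ ((LinearMap.single R M x) v) y) := by
    simp only [LinearMap.single_apply]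
    exact (Finset.univ_sum_single _).symm
  conv_lhs => rw [hw, map_sum, Finset.sum_apply]

theorem result' (deg : ι → ℤ) (a b : ℤ) (φ ψ : (Π k, M k) →ₗ[R] (Π k, M k))
    (hφ : ∀ i j : ι, deg j ≠ deg i + a → (LinearMap.proj j) ∘ₗ φ ∘ₗ (LinearMap.single R M i) = 0)
    (hψ : ∀ i j : ι, deg j ≠ deg i + b → (LinearMap.proj j) ∘ₗ ψ ∘ₗ (LinearMap.single R M i) = 0) :
    LinearMap.trace R (Π k, M k)
      ((∑ i : ι, (LinearMap.single R M i) ∘ₗ (((-1 : R) ^ (deg i).natAbs) • (LinearMap.proj i : (Π k, M k) →ₗ[R] M i))) ∘ₗ (φ ∘ₗ ψ - ((-1 : R) ^ (a * b).natAbs) • (ψ ∘ₗ φ))) = 0 := by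
  change LinearMap.trace R (Π k, M k) (eps M deg ∘ₗ (φ ∘ₗ ψ - (sg (a * b) : R) • (ψ ∘ₗ φ))) = 0
  rw [trace_pi_eq_sum_diag]
  have hterm : ∀ x, LinearMap.trace R (M x) ((LinearMap.proj x).comp
      ((eps M deg ∘ₗ (φ ∘ₗ ψ - (sg (a * b) : R) • (ψ ∘ₗ φ))).comp (LinearMap.single R M x))) =
      ∑ y, ((sg (deg x) : R) * LinearMap.trace R (M x) (blk M φ y x ∘ₗ blk M ψ x y) -
        (sg (deg x) : R) * sg (a * b) * LinearMap.trace R (M y) (blk M φ x y ∘ₗ blk M ψ y x)) := by
    intro x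
    have h1 : (LinearMap.proj x).comp
        ((eps M deg ∘ₗ (φ ∘ₗ ψ - (sg (a * b) : R) • (ψ ∘ₗ φ))).comp (LinearMap.single R M x)) =
        (sg (deg x) : R) • ((LinearMap.proj x) ∘ₗ (φ ∘ₗ ψ) ∘ₗ (LinearMap.single R M x)) -
          ((sg (deg x) : R) * sg (a * b)) •
            ((LinearMap.proj x) ∘ₗ (ψ ∘ₗ φ) ∘ₗ (LinearMap.single R M x)) := by
      rw [LinearMap.comp_assoc, ← LinearMap.comp_assoc, proj_eps]
      apply LinearMap.ext
      intro v
      simp only [LinearMap.comp_apply, LinearMap.smul_apply, LinearMap.sub_apply,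
        LinearMap.proj_apply, Pi.sub_apply, Pi.smul_apply, smul_sub, mul_smul]
    rw [h1, map_sub, map_smul, map_smul, blk_comp, blk_comp, map_sum, map_sum, smul_eq_mul,
      smul_eq_mul, Finset.mul_sum, Finset.mul_sum, ← Finset.sum_sub_distrib]
    refine Finset.sum_congr rfl fun y _ => ?_
    rw [LinearMap.trace_comp_comm' (blk M φ x y) (blk M ψ y x)]
  rw [Finset.sum_congr rfl fun x _ => hterm x]
  simp only [Finset.sum_sub_distrib]
  rw [Finset.sum_comm (f := fun x y => (sg (deg x) : R) * sg (a * b) *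
    LinearMap.trace R (M y) (blk M φ x y ∘ₗ blk M ψ y x))]
  rw [← Finset.sum_sub_distrib]
  refine Finset.sum_eq_zero fun x _ => ?_
  rw [← Finset.sum_sub_distrib]
  refine Finset.sum_eq_zero fun y _ => ?_
  by_cases h1 : deg y = deg x + b
  · by_cases h2 : deg x = deg y + a
    · have hab : a = -b := by omega
      have := sign_cancel (R := R) (deg x) a b hab
      rw [← h1] at this
      rw [← sub_mul]
      have h3 : (sg (deg x) : R) - sg (deg y) * sg (a * b) = 0 := by
        rw [mul_comm]; exact this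
      rw [h3, zero_mul]
    · have : blk M φ y x = 0 := hφ y x h2
      rw [this, LinearMap.zero_comp, map_zero, mul_zero, mul_zero, sub_zero]
  · have : blk M ψ x y = 0 := hψ x y h1
    rw [this, LinearMap.comp_zero, map_zero, mul_zero, mul_zero, sub_zero]

end Groth.Agent.Lib.Helper20.SuperTrace
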