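import Mathlib

/-!
# Swap-invariants of powers of the diagonal ideal
-/

namespace Groth.Agent.Lib.Helper20.SwapInv

open TensorProduct
open scoped Pointwise

universe u

variable (k R : Type u) [Field k] [CommRing R] [Algebra k R]

/-- the swap of the two factors -/
noncomputable abbrev τ : R ⊗[k] R →ₐ[k] R ⊗[k] R :=
  ((Algebra.TensorProduct.comm k R R : R ⊗[k] R ≃ₐ[k] R ⊗[k] R) : R ⊗[k] R →ₐ[k] R ⊗[k] R)

/-- the swap-invariants -/
noncomputable abbrev S : Subalgebra k (R ⊗[k] R) :=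
  AlgHom.equalizer (τ k R) (AlgHom.id k (R ⊗[k] R))

theorem τ_τ (x : R ⊗[k] R) : τ k R (τ k R x) = x := by
  induction x using TensorProduct.induction_on with
  | zero => simp
  | tmul a b => simp
  | add x y hx hy => rw [map_add, map_add, hx, hy]

/-- the generators of the diagonal ideal -/
noncomputable def D (r : R) : R ⊗[k] R := (1 : R) ⊗ₜ[k] r - r ⊗ₜ[k] (1 : R)

theorem τ_D (r : R) : τ k R (D k R r) = - D k R r := by
  unfold D
  simp

theorem τ_DD (r r' : R) : τ k R (D k R r * D k R r') = D k R r * D k R r' := by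
  rw [map_mul, τ_D, τ_D, neg_mul_neg]

variable [NeZero (2 : k)]

/-- symmetrization -/
noncomputable def sym (y : R ⊗[k] R) : S k R :=
  ⟨(2 : k)⁻¹ • (y + τ k R y), by
    rw [AlgHom.mem_equalizer, map_smul, map_add, τ_τ, add_comm]
    rfl⟩

theorem sym_add (y z : R ⊗[k] R) : sym k R (y + z) = sym k R y + sym k R z := by
  apply Subtype.ext
  change (2 : k)⁻¹ • (y + z + τ k R (y + z)) = (2 : k)⁻¹ • (y + τ k R y) + (2 : k)⁻¹ • (z + τ k R z)
  rw [map_add, ← smul_add]
  congr 1
  abel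

theorem sym_zero : sym k R 0 = 0 := by
  apply Subtype.ext
  change (2 : k)⁻¹ • (0 + τ k R 0) = 0
  rw [map_zero, add_zero, smul_zero]

theorem sym_val (x : S k R) : sym k R (x : R ⊗[k] R) = x := by
  apply Subtype.ext
  change (2 : k)⁻¹ • ((x : R ⊗[k] R) + τ k R x) = x
  have hx : τ k R (x : R ⊗[k] R) = x := x.2
  rw [hx, ← two_smul k (x : R ⊗[k] R), smul_smul, inv_mul_cancel₀ (NeZero.ne (2 : k)), one_smul]

theorem sym_mul_val (t : R ⊗[k] R) (s : S k R) :
    sym k R (t * (s : R ⊗[k] R)) = sym k R t * s := by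
  apply Subtype.ext
  change (2 : k)⁻¹ • (t * (s : R ⊗[k] R) + τ k R (t * s)) =
    ((2 : k)⁻¹ • (t + τ k R t)) * (s : R ⊗[k] R)
  have hs : τ k R (s : R ⊗[k] R) = s := s.2
  rw [map_mul, hs, smul_mul_assoc, add_mul]

theorem main :
    Ideal.comap (S k R).val (KaehlerDifferential.ideal k R ^ 4) =
      (Ideal.comap (S k R).val (KaehlerDifferential.ideal k R ^ 2)) ^ 2 := by
  apply le_antisymm
  · intro x hx
    rw [Ideal.mem_comap] at hx
    obtain ⟨G, hGdef⟩ : ∃ G : Set (R ⊗[k] R), G = Set.range (D k R) * Set.range (D k R) :=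
      ⟨_, rfl⟩
    have hI2 : KaehlerDifferential.ideal k R ^ 2 = Ideal.span G := by
      rw [pow_two, ← KaehlerDifferential.span_range_eq_ideal, Ideal.span_mul_span', hGdef]
      rfl
    have hI4 : KaehlerDifferential.ideal k R ^ 4 = Ideal.span (G * G) := by
      rw [show 4 = 2 + 2 from rfl, pow_add, hI2, Ideal.span_mul_span']
    obtain ⟨J, hJ⟩ : ∃ J : Ideal (S k R),
        J = Ideal.comap (S k R).val (KaehlerDifferential.ideal k R ^ 2) := ⟨_, rfl⟩
    rw [← hJ]
    have hG : ∀ g ∈ G, ∃ g' : S k R, g' ∈ J ∧ (g' : R ⊗[k] R) = g := by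
      intro g hg
      rw [hGdef] at hg
      obtain ⟨_, ⟨r, rfl⟩, _, ⟨r', rfl⟩, rfl⟩ := hg
      refine ⟨⟨D k R r * D k R r', τ_DD k R r r'⟩, ?_, rfl⟩
      rw [hJ, Ideal.mem_comap, hI2, hGdef]
      exact Ideal.subset_span ⟨_, ⟨r, rfl⟩, _, ⟨r', rfl⟩, rfl⟩
    have key : ∀ y ∈ Ideal.span (G * G), ∀ t : R ⊗[k] R, sym k R (t * y) ∈ J ^ 2 := by
      intro y hy
      induction hy using Submodule.span_induction with
      | mem y hy =>
        obtain ⟨g, hg, h, hh, rfl⟩ := hy
        obtain ⟨g', hg'J, rfl⟩ := hG g hg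
        obtain ⟨h', hh'J, rfl⟩ := hG h hh
        intro t
        have h1 : sym k R (t * ((g' : R ⊗[k] R) * (h' : R ⊗[k] R))) = sym k R t * (g' * h') :=
          sym_mul_val k R t (g' * h')
        rw [h1, pow_two]
        exact Ideal.mul_mem_left _ _ (Ideal.mul_mem_mul hg'J hh'J)
      | zero =>
        intro t
        rw [mul_zero, sym_zero]
        exact Ideal.zero_mem _
      | add y z _ _ hy hz =>
        intro t
        rw [mul_add, sym_add]
        exact Ideal.add_mem _ (hy t) (hz t)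
      | smul a y _ hy =>
        intro t
        rw [smul_eq_mul, ← mul_assoc]
        exact hy (t * a)
    rw [hI4] at hx
    have := key _ hx 1
    rw [one_mul] at this
    have h2 : sym k R ((S k R).val x) = x := sym_val k R x
    rw [h2] at this
    exact this
  · calc (Ideal.comap (S k R).val (KaehlerDifferential.ideal k R ^ 2)) ^ 2
        ≤ Ideal.comap (S k R).val ((KaehlerDifferential.ideal k R ^ 2) ^ 2) :=
          Ideal.le_comap_pow _ 2
      _ = Ideal.comap (S k R).val (KaehlerDifferential.ideal k R ^ 4) := by rw [← pow_mul]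

end Groth.Agent.Lib.Helper20.SwapInv
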