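import Mathlib
import Groth.Agent.S0299
import Groth.Agent.Lib.Helper26.Matlis
import Groth.Agent.Lib.Helper5.GorFlatC

/-!
# An Artinian local ring with a simple socle is Gorenstein
-/

set_option autoImplicit false
set_option linter.unusedSectionVars false
set_option linter.unusedVariables false
set_option linter.style.haveILetI false

namespace Groth.Agent.Lib.Helper20.Sym

open IsLocalRing CategoryTheory

universe u

variable (A : Type u) [CommRing A] [IsLocalRing A] [IsNoetherianRing A] [IsArtinianRing A]

/-- every nonzero submodule of an Artinian local ring meets the socle -/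
theorem exists_socle_mem (N : Submodule A A) (hN : N ≠ ⊥) :
    ∃ y ∈ N, y ≠ 0 ∧ ∀ a ∈ maximalIdeal A, a * y = 0 := by
  classical
  obtain ⟨x, hxN, hx0⟩ := Submodule.exists_mem_ne_zero_of_ne_bot hN
  obtain ⟨n, hn⟩ := (isArtinianRing_iff_isNilpotent_maximalIdeal A).1 inferInstance
  have hex : ∃ j : ℕ, ∀ b ∈ maximalIdeal A ^ j, b * x = 0 := by
    refine ⟨n, fun b hb => ?_⟩
    rw [hn] at hb
    have : b = 0 := hb
    rw [this, zero_mul]
  set j := Nat.find hex with hj
  have hjs := Nat.find_spec hex
  have hj0 : j ≠ 0 := by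
    intro h0
    have := hjs 1 (by rw [← hj, h0, pow_zero, Ideal.one_eq_top]; trivial)
    rw [one_mul] at this
    exact hx0 this
  obtain ⟨i, hi⟩ : ∃ i, j = i + 1 := ⟨j - 1, by omega⟩
  have hmin := Nat.find_min hex (m := i) (by rw [← hj, hi]; omega)
  push Not at hmin
  obtain ⟨b, hb, hbx⟩ := hmin
  refine ⟨b * x, N.smul_mem b hxN, hbx, ?_⟩
  intro a ha
  rw [← mul_assoc]
  apply hjs
  rw [← hj, hi, pow_succ']
  exact Ideal.mul_mem_mul ha hb

variable {A}

theorem gor_of_socle (s : A) (hs1 : ∀ a : A, a * s = 0 ↔ a ∈ maximalIdeal A)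
    (hs2 : ∀ t : A, (∀ a ∈ maximalIdeal A, a * t = 0) → ∃ c : A, t = c * s) :
    LocCoh.IsGorensteinLocalRing A := by
  obtain ⟨E, _, _, f, hf⟩ := Groth.Agent.S0299.result A (ResidueField A)
  haveI := hf.isInjective
  -- the inclusion of the socle
  have hker : maximalIdeal A ≤ LinearMap.ker (LinearMap.toSpanSingleton A A s) := by
    intro a ha
    rw [LinearMap.mem_ker, LinearMap.toSpanSingleton_apply, smul_eq_mul]
    exact (hs1 a).2 ha
  let ι : ResidueField A →ₗ[A] A :=
    Submodule.liftQ (maximalIdeal A) (LinearMap.toSpanSingleton A A s) hker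
  have hι1 : ι (residue A 1) = s := by
    change Submodule.liftQ (maximalIdeal A) (LinearMap.toSpanSingleton A A s) hker
      (Submodule.Quotient.mk 1) = s
    rw [Submodule.liftQ_apply, LinearMap.toSpanSingleton_apply, one_smul]
  have hιinj : Function.Injective ι := by
    rw [injective_iff_map_eq_zero]
    intro x hx
    obtain ⟨a, rfl⟩ := residue_surjective x
    have h1 : ι (residue A a) = a * s := by
      change Submodule.liftQ (maximalIdeal A) (LinearMap.toSpanSingleton A A s) hker
        (Submodule.Quotient.mk a) = a * s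
      rw [Submodule.liftQ_apply, LinearMap.toSpanSingleton_apply, smul_eq_mul]
    rw [h1] at hx
    exact (residue_eq_zero_iff a).2 ((hs1 a).1 hx)
  obtain ⟨φ, hφ⟩ := Module.Injective.extension_property A E _ _ ι hιinj f
  have hφs : φ s = f (residue A 1) := by
    rw [← hι1, ← hφ]
    rfl
  have hfs : f (residue A 1) ≠ 0 := by
    intro h
    have h1 : residue A 1 = 0 := hf.injective (by rw [h, map_zero])
    rw [map_one] at h1
    exact one_ne_zero h1
  have hφinj : Function.Injective φ := by
    rw [← LinearMap.ker_eq_bot]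
    by_contra hne
    obtain ⟨y, hyN, hy0, hym⟩ := exists_socle_mem A (LinearMap.ker φ) hne
    obtain ⟨c, hc⟩ := hs2 y hym
    have hcu : IsUnit c := by
      by_contra hcn
      apply hy0
      rw [hc]
      exact (hs1 c).2 ((IsLocalRing.mem_maximalIdeal c).2 hcn)
    obtain ⟨u, rfl⟩ := hcu
    have hs : s = (↑u⁻¹ : A) * y := by
      rw [hc, ← mul_assoc, Units.inv_mul, one_mul]
    apply hfs
    rw [← hφs, hs, ← smul_eq_mul, map_smul, LinearMap.mem_ker.1 hyN, smul_zero]
  -- lengths
  have hA : IsFiniteLength A A :=
    isFiniteLength_iff_isNoetherian_isArtinian.2 ⟨inferInstance, inferInstance⟩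
  have hlen1 := Groth.Agent.Lib.Helper26.Matlis.length_linearMap hf A hA
  have hlen2 : Module.length A (A →ₗ[A] E) = Module.length A E :=
    (LinearMap.ringLmapEquivSelf A A E).length_eq
  have hlenA : Module.length A A ≠ ⊤ := Module.length_ne_top_iff.2 hA
  have hadd := Module.length_eq_add_of_exact φ (LinearMap.range φ).mkQ hφinj
    (Submodule.mkQ_surjective _) (LinearMap.exact_map_mkQ_range φ)
  rw [← hlen2, hlen1] at hadd
  have hzero : Module.length A (E ⧸ LinearMap.range φ) = 0 := by
    have h1 : Module.length A A + 0 = Module.length A A +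
        Module.length A (E ⧸ LinearMap.range φ) := by rw [add_zero]; exact hadd
    exact (ENat.add_right_injective_of_ne_top hlenA h1).symm
  have hsurj : Function.Surjective φ := by
    rw [← LinearMap.range_eq_top]
    rw [Module.length_eq_zero_iff] at hzero
    exact Submodule.Quotient.subsingleton_iff.1 hzero
  let e : A ≃ₗ[A] E := LinearEquiv.ofBijective φ ⟨hφinj, hsurj⟩
  haveI hAinj : Module.Injective A A :=
    (Module.Baer.of_equiv e.symm (Module.Baer.of_injective hf.isInjective)).injective
  haveI : Injective (ModuleCat.of A A) := Module.injective_object_of_injective_module A A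
  exact { exists_hasInjectiveDimensionLT := ⟨1, inferInstance⟩ }

end Groth.Agent.Lib.Helper20.Sym
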