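import Mathlib

/-!
# The semigroup ring of a numerical semigroup modulo a monomial
-/

set_option autoImplicit false
set_option linter.unusedSectionVars false
set_option linter.unusedVariables false
set_option linter.style.haveILetI false

namespace Groth.Agent.Lib.Helper20.Sym

open Polynomial IsLocalRing

universe u

section Semi

variable (k : Type u) [Field k] (H : AddSubmonoid ℕ)

/-- the semigroup ring of `H` inside `k[X]` -/
def semi : Subalgebra k k[X] where
  carrier := {p | ∀ n, p.coeff n ≠ 0 → n ∈ H}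
  mul_mem' := by
    intro p q hp hq n hn
    rw [coeff_mul] at hn
    obtain ⟨x, hx, hne⟩ := Finset.exists_ne_zero_of_sum_ne_zero hn
    have h1 := hp x.1 (left_ne_zero_of_mul hne)
    have h2 := hq x.2 (right_ne_zero_of_mul hne)
    have h3 : x.1 + x.2 = n := Finset.HasAntidiagonal.mem_antidiagonal.1 hx
    rw [← h3]
    exact H.add_mem h1 h2
  add_mem' := by
    intro p q hp hq n hn
    rw [coeff_add] at hn
    by_cases h : p.coeff n = 0
    · rw [h, zero_add] at hn
      exact hq n hn
    · exact hp n h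
  algebraMap_mem' := by
    intro c n hn
    rw [Polynomial.algebraMap_apply, Algebra.algebraMap_self_apply, coeff_C] at hn
    by_cases h : n = 0
    · rw [h]
      exact H.zero_mem
    · rw [if_neg h] at hn
      exact absurd rfl hn

variable {k H}

theorem mem_semi {p : k[X]} : p ∈ semi k H ↔ ∀ n, p.coeff n ≠ 0 → n ∈ H := Iff.rfl

theorem X_pow_mem_semi {n : ℕ} (hn : n ∈ H) : (X : k[X]) ^ n ∈ semi k H := by
  intro m hm
  rw [coeff_X_pow] at hm
  by_cases h : m = n
  · rw [h]
    exact hn
  · rw [if_neg h] at hm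
    exact absurd rfl hm

/-- integer membership -/
def inH (H : AddSubmonoid ℕ) (n : ℤ) : Prop := ∃ h ∈ H, (h : ℤ) = n

theorem inH_natCast {m : ℕ} : inH H (m : ℤ) ↔ m ∈ H := by
  constructor
  · rintro ⟨h, hh, heq⟩
    have : h = m := by exact_mod_cast heq
    rw [← this]
    exact hh
  · intro hm
    exact ⟨m, hm, rfl⟩

theorem inH_nonneg {n : ℤ} (h : inH H n) : 0 ≤ n := by
  obtain ⟨m, -, rfl⟩ := h
  exact Int.natCast_nonneg m

theorem inH_sub_iff {n e : ℕ} : inH H ((n : ℤ) - e) ↔ e ≤ n ∧ n - e ∈ H := by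
  constructor
  · intro h
    have h0 := inH_nonneg h
    have hle : e ≤ n := by omega
    refine ⟨hle, ?_⟩
    rw [← inH_natCast]
    have : ((n - e : ℕ) : ℤ) = (n : ℤ) - e := by omega
    rw [this]
    exact h
  · rintro ⟨hle, hm⟩
    have : ((n - e : ℕ) : ℤ) = (n : ℤ) - e := by omega
    rw [← this]
    exact inH_natCast.2 hm

end Semi

section Quot

variable {k : Type u} [Field k] {H : AddSubmonoid ℕ} (e : ℕ) (he : e ∈ H)

/-- the monomial `X ^ e` in the semigroup ring -/
noncomputable def xe : semi k H := ⟨X ^ e, X_pow_mem_semi he⟩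

theorem mem_span_xe_iff (p : semi k H) :
    p ∈ Ideal.span {xe (k := k) e he} ↔ ∀ n : ℕ, p.1.coeff n ≠ 0 → inH H ((n : ℤ) - e) := by
  constructor
  · intro hp n hn
    obtain ⟨r, hr⟩ := Ideal.mem_span_singleton'.1 hp
    have h1 : p.1 = X ^ e * r.1 := by
      rw [← hr, mul_comm]
      rfl
    rw [h1, coeff_X_pow_mul'] at hn
    by_cases hle : e ≤ n
    · rw [if_pos hle] at hn
      exact inH_sub_iff.2 ⟨hle, r.2 _ hn⟩
    · rw [if_neg hle] at hn
      exact absurd rfl hn
  · intro h
    have hdvd : (X : k[X]) ^ e ∣ p.1 := by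
      rw [X_pow_dvd_iff]
      intro d hd
      by_contra hne
      have := inH_nonneg (h d hne)
      omega
    obtain ⟨r, hr⟩ := hdvd
    have hrmem : r ∈ semi k H := by
      intro m hm
      have h1 : p.1.coeff (m + e) = r.coeff m := by
        rw [hr, coeff_X_pow_mul]
      have h2 := h (m + e) (by rw [h1]; exact hm)
      have h3 := (inH_sub_iff.1 (by push_cast at h2 ⊢; exact h2)).2
      rwa [Nat.add_sub_cancel] at h3
    rw [Ideal.mem_span_singleton']
    refine ⟨⟨r, hrmem⟩, ?_⟩
    apply Subtype.ext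
    rw [mul_comm]
    exact hr.symm

/-- the quotient ring -/
abbrev Qr : Type u := semi k H ⧸ Ideal.span {xe (k := k) e he}

/-- the constant coefficient on the semigroup ring -/
noncomputable def aug0 (k : Type u) [Field k] (H : AddSubmonoid ℕ) : semi k H →+* k :=
  (Polynomial.constantCoeff).comp (semi k H).val.toRingHom

theorem aug0_apply (p : semi k H) : aug0 k H p = p.1.coeff 0 := rfl

variable (he0 : e ≠ 0)

include he0 in
theorem aug0_eq_zero_of_mem (p : semi k H) (hp : p ∈ Ideal.span {xe (k := k) e he}) :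
    aug0 k H p = 0 := by
  rw [aug0_apply]
  by_contra hne
  have := inH_nonneg ((mem_span_xe_iff e he p).1 hp 0 hne)
  have : (e : ℤ) ≤ 0 := by simpa using this
  omega

/-- the augmentation of the quotient -/
noncomputable def augQ : Qr (k := k) e he →+* k :=
  Ideal.Quotient.lift _ (aug0 k H) (aug0_eq_zero_of_mem e he he0)

theorem augQ_mk (p : semi k H) :
    augQ e he he0 (Ideal.Quotient.mk (Ideal.span {xe (k := k) e he}) p) = p.1.coeff 0 := rfl

variable (c : ℕ) (hc : ∀ n, c ≤ n → n ∈ H)

include hc in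
theorem isNilpotent_of_augQ_eq_zero (a : Qr (k := k) e he) (ha : augQ e he he0 a = 0) :
    IsNilpotent a := by
  obtain ⟨p, rfl⟩ := Ideal.Quotient.mk_surjective a
  rw [augQ_mk] at ha
  refine ⟨c + e, ?_⟩
  rw [← map_pow, Ideal.Quotient.eq_zero_iff_mem, mem_span_xe_iff]
  intro n hn
  have hdvd : (X : k[X]) ^ (c + e) ∣ (p ^ (c + e) : semi k H).1 := by
    have h1 : (X : k[X]) ∣ p.1 := X_dvd_iff.2 ha
    have h2 := pow_dvd_pow_of_dvd h1 (c + e)
    exact h2
  rw [X_pow_dvd_iff] at hdvd
  have hle : c + e ≤ n := by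
    by_contra hlt
    exact hn (hdvd n (by omega))
  exact inH_sub_iff.2 ⟨by omega, hc _ (by omega)⟩

include he0 in
theorem nontrivial_Q : Nontrivial (Qr (k := k) e he) := by
  refine ⟨0, 1, fun h => ?_⟩
  have := congrArg (augQ e he he0) h
  rw [map_zero, map_one] at this
  exact zero_ne_one this

include hc in
theorem isUnit_of_augQ_ne_zero (a : Qr (k := k) e he) (ha : augQ e he he0 a ≠ 0) :
    IsUnit a := by
  set u : Qr (k := k) e he := algebraMap k _ (augQ e he he0 a) with hu
  have huu : IsUnit u := (IsUnit.mk0 _ ha).map (algebraMap k (Qr (k := k) e he))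
  have haug : augQ e he he0 u = augQ e he he0 a := by
    rw [hu]
    change augQ e he he0 (Ideal.Quotient.mk _ (algebraMap k (semi k H) (augQ e he he0 a))) = _
    rw [augQ_mk]
    change (algebraMap k k[X] (augQ e he he0 a)).coeff 0 = _
    rw [Polynomial.algebraMap_apply, Algebra.algebraMap_self_apply, coeff_C_zero]
  have hnil : IsNilpotent (a - u) :=
    isNilpotent_of_augQ_eq_zero e he he0 c hc _ (by rw [map_sub, haug, sub_self])
  have := hnil.isUnit_add_left_of_commute huu (Commute.all (a - u) u)
  rwa [add_sub_cancel] at this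

include he0 hc in
theorem isLocalRing_Q : IsLocalRing (Qr (k := k) e he) := by
  haveI := nontrivial_Q (k := k) e he he0
  apply IsLocalRing.of_isUnit_or_isUnit_one_sub_self
  intro a
  by_cases ha : augQ e he he0 a = 0
  · right
    exact (isNilpotent_of_augQ_eq_zero e he he0 c hc a ha).isUnit_one_sub
  · left
    exact isUnit_of_augQ_ne_zero e he he0 c hc a ha

include hc in
theorem mem_maximalIdeal_Q [IsLocalRing (Qr (k := k) e he)] (a : Qr (k := k) e he) :
    a ∈ maximalIdeal (Qr (k := k) e he) ↔ augQ e he he0 a = 0 := by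
  rw [IsLocalRing.mem_maximalIdeal, mem_nonunits_iff]
  constructor
  · intro h
    by_contra hne
    exact h (isUnit_of_augQ_ne_zero e he he0 c hc a hne)
  · intro h hu
    have := hu.map (augQ e he he0)
    rw [h] at this
    exact not_isUnit_zero this

include he0 hc in
theorem isArtinianRing_Q [IsNoetherianRing (semi k H)] [IsLocalRing (Qr (k := k) e he)] :
    IsArtinianRing (Qr (k := k) e he) := by
  refine (isArtinianRing_iff_isNilpotent_maximalIdeal (Qr (k := k) e he)).2 ?_
  rw [Ideal.FG.isNilpotent_iff_le_nilradical (IsNoetherian.noetherian _)]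
  intro a ha
  rw [mem_nilradical]
  exact isNilpotent_of_augQ_eq_zero e he he0 c hc a ((mem_maximalIdeal_Q e he he0 c hc a).1 ha)

include he0 hc in
theorem ringKrullDim_Q [IsNoetherianRing (semi k H)] [IsLocalRing (Qr (k := k) e he)] :
    ringKrullDim (Qr (k := k) e he) = 0 := by
  have hart := isArtinianRing_Q (k := k) e he he0 c hc
  haveI := nontrivial_Q (k := k) e he he0
  apply le_antisymm
  · exact Ring.krullDimLE_iff.1
      ((isArtinianRing_iff_krullDimLE_zero (R := Qr (k := k) e he)).1 hart)
  · exact ringKrullDim_nonneg_of_nontrivial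

end Quot

end Groth.Agent.Lib.Helper20.Sym
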