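import Mathlib
import Groth.Agent.Lib.Helper20.Sym3

/-!
# The socle of the semigroup ring modulo a monomial, and symmetry of the semigroup
-/

set_option autoImplicit false
set_option linter.unusedSectionVars false
set_option linter.unusedVariables false
set_option linter.style.haveILetI false

namespace Groth.Agent.Lib.Helper20.Sym

open Polynomial IsLocalRing

universe u

section Socle

variable {k : Type u} [Field k] {H : AddSubmonoid ℕ} (e : ℕ) (he : e ∈ H)

/-- monomials of the semigroup ring -/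
noncomputable def xm (n : ℕ) (hn : n ∈ H) : semi k H := ⟨X ^ n, X_pow_mem_semi hn⟩

theorem mk_mul_xm_eq_zero_iff (p : semi k H) (n : ℕ) (hn : n ∈ H) :
    Ideal.Quotient.mk (Ideal.span {xe (k := k) e he}) (p * xm n hn) = 0 ↔
      ∀ m : ℕ, p.1.coeff m ≠ 0 → inH H ((m : ℤ) + n - e) := by
  rw [Ideal.Quotient.eq_zero_iff_mem, mem_span_xe_iff]
  have hval : (p * xm n hn : semi k H).1 = p.1 * X ^ n := rfl
  constructor
  · intro h m hm
    have h1 := h (m + n) (by rw [hval, coeff_mul_X_pow]; exact hm)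
    push_cast at h1
    exact h1
  · intro h j hj
    rw [hval, coeff_mul_X_pow'] at hj
    by_cases hle : n ≤ j
    · rw [if_pos hle] at hj
      have h1 := h (j - n) hj
      have h2 : ((j - n : ℕ) : ℤ) + n - e = (j : ℤ) - e := by omega
      rwa [h2] at h1
    · rw [if_neg hle] at hj
      exact absurd rfl hj

variable (he0 : e ≠ 0) (c : ℕ) (hc : ∀ n, c ≤ n → n ∈ H) [IsLocalRing (Qr (k := k) e he)]

include he0 hc in
theorem mk_mem_maximalIdeal_iff (p : semi k H) :
    Ideal.Quotient.mk (Ideal.span {xe (k := k) e he}) p ∈ maximalIdeal (Qr (k := k) e he) ↔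
      p.1.coeff 0 = 0 := by
  rw [mem_maximalIdeal_Q e he he0 c hc, augQ_mk]

include he0 hc in
theorem socle_of_symmetric (hsym : ∃ d : ℤ, ∀ n : ℤ, inH H n ↔ ¬ inH H (d - n)) :
    ∃ s : Qr (k := k) e he, (∀ a, a * s = 0 ↔ a ∈ maximalIdeal (Qr (k := k) e he)) ∧
      ∀ t, (∀ a ∈ maximalIdeal (Qr (k := k) e he), a * t = 0) → ∃ c', t = c' * s := by
  obtain ⟨d, hd⟩ := hsym
  have he1 : 1 ≤ e := Nat.one_le_iff_ne_zero.2 he0
  have h0H : inH H 0 := ⟨0, H.zero_mem, rfl⟩
  have hi : ¬ inH H d := by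
    have := (hd 0).1 h0H
    rwa [sub_zero] at this
  have hii : ∀ n : ℤ, d < n → inH H n := by
    intro n hn
    by_contra hcon
    have h1 : ¬ inH H (d - n) := fun h => by
      have := inH_nonneg h
      omega
    have := (hd (d - n)).not.1 h1
    rw [not_not, sub_sub_cancel] at this
    exact hcon this
  have hiii : ∀ n : ℤ, ¬ inH H n → inH H (d - n) := by
    intro n hn
    by_contra hcon
    exact hn ((hd n).2 hcon)
  have hDnn : 0 ≤ d + e := by
    have := inH_nonneg (hii (d + 1) (by omega))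
    omega
  obtain ⟨D, hD⟩ : ∃ D : ℕ, (D : ℤ) = d + e := ⟨(d + e).toNat, Int.toNat_of_nonneg hDnn⟩
  have hDH : D ∈ H := inH_natCast.1 (by rw [hD]; exact hii _ (by omega))
  refine ⟨Ideal.Quotient.mk _ (xm D hDH), ?_, ?_⟩
  · intro a
    obtain ⟨p, rfl⟩ := Ideal.Quotient.mk_surjective a
    rw [← map_mul, mk_mul_xm_eq_zero_iff, mk_mem_maximalIdeal_iff e he he0 c hc]
    constructor
    · intro h
      by_contra hne
      have := h 0 hne
      apply hi
      have h2 : ((0 : ℕ) : ℤ) + D - e = d := by rw [hD]; push_cast; ring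
      rwa [h2] at this
    · intro h m hm
      have hm0 : m ≠ 0 := by
        rintro rfl
        exact hm h
      apply hii
      rw [hD]
      have : 1 ≤ m := Nat.one_le_iff_ne_zero.2 hm0
      omega
  · intro t ht
    obtain ⟨q, rfl⟩ := Ideal.Quotient.mk_surjective t
    refine ⟨Ideal.Quotient.mk _ (algebraMap k (semi k H) (q.1.coeff D)), ?_⟩
    rw [← map_mul, ← sub_eq_zero, ← map_sub, Ideal.Quotient.eq_zero_iff_mem, mem_span_xe_iff]
    intro n hn
    have hval : (q - algebraMap k (semi k H) (q.1.coeff D) * xm D hDH : semi k H).1 =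
        q.1 - C (q.1.coeff D) * X ^ D := rfl
    rw [hval, coeff_sub, coeff_C_mul, coeff_X_pow] at hn
    have hnD : n ≠ D := by
      rintro rfl
      rw [if_pos rfl, mul_one, sub_self] at hn
      exact hn rfl
    rw [if_neg hnD, mul_zero, sub_zero] at hn
    by_contra hcon
    have h1 := hiii _ hcon
    have h2 : d - ((n : ℤ) - e) = (D : ℤ) - n := by rw [hD]; ring
    rw [h2] at h1
    obtain ⟨hle, hh⟩ := inH_sub_iff.1 h1
    have hh0 : D - n ≠ 0 := by omega
    have hmem : Ideal.Quotient.mk (Ideal.span {xe (k := k) e he}) (xm (D - n) hh) ∈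
        maximalIdeal (Qr (k := k) e he) := by
      rw [mk_mem_maximalIdeal_iff e he he0 c hc]
      change (X ^ (D - n) : k[X]).coeff 0 = 0
      rw [coeff_X_pow, if_neg (Ne.symm hh0)]
    have h3 := ht _ hmem
    rw [← map_mul, mul_comm, mk_mul_xm_eq_zero_iff] at h3
    have h4 := h3 n hn
    apply hi
    have h5 : (n : ℤ) + ((D - n : ℕ) : ℤ) - e = d := by
      rw [Nat.cast_sub hle, hD]; ring
    rwa [h5] at h4

end Socle

end Groth.Agent.Lib.Helper20.Sym
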