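import Mathlib
import Groth.Agent.Lib.Helper20.Sym4

/-!
# A simple socle forces the semigroup to be symmetric
-/

set_option autoImplicit false
set_option linter.unusedSectionVars false
set_option linter.unusedVariables false
set_option linter.style.haveILetI false

namespace Groth.Agent.Lib.Helper20.Sym

open Polynomial IsLocalRing

universe u

section Socle

variable {k : Type u} [Field k] {H : AddSubmonoid ℕ} (e : ℕ) (he : e ∈ H)
  (he0 : e ≠ 0) (c : ℕ) (hc : ∀ n, c ≤ n → n ∈ H) [IsLocalRing (Qr (k := k) e he)]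

include he0 hc in
theorem xm_socle (u : ℕ) (hu : u ∈ H)
    (hnext : ∀ m ∈ H, m ≠ 0 → inH H ((m : ℤ) + u - e)) :
    ∀ a ∈ maximalIdeal (Qr (k := k) e he),
      a * Ideal.Quotient.mk (Ideal.span {xe (k := k) e he}) (xm u hu) = 0 := by
  intro a ha
  obtain ⟨p, rfl⟩ := Ideal.Quotient.mk_surjective a
  rw [mk_mem_maximalIdeal_iff e he he0 c hc] at ha
  rw [← map_mul, mk_mul_xm_eq_zero_iff]
  intro m hm
  have hm0 : m ≠ 0 := by
    rintro rfl
    exact hm ha
  exact hnext m (p.2 m hm) hm0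

theorem mk_xm_ne_zero (u : ℕ) (hu : u ∈ H) (hnot : ¬ inH H ((u : ℤ) - e)) :
    Ideal.Quotient.mk (Ideal.span {xe (k := k) e he}) (xm u hu) ≠ 0 := by
  intro h
  rw [Ideal.Quotient.eq_zero_iff_mem, mem_span_xe_iff] at h
  apply hnot
  apply h u
  change (X ^ u : k[X]).coeff u ≠ 0
  rw [coeff_X_pow, if_pos rfl]
  exact one_ne_zero

include he0 hc in
theorem symmetric_of_socle (h1 : 1 ∉ H) (s : Qr (k := k) e he)
    (hs1 : ∀ a, a * s = 0 ↔ a ∈ maximalIdeal (Qr (k := k) e he))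
    (hs2 : ∀ t, (∀ a ∈ maximalIdeal (Qr (k := k) e he), a * t = 0) → ∃ c', t = c' * s) :
    ∃ d : ℤ, ∀ n : ℤ, inH H n ↔ ¬ inH H (d - n) := by
  classical
  have he1 : 1 ≤ e := Nat.one_le_iff_ne_zero.2 he0
  have hc1 : 1 ≤ c := by
    by_contra h
    exact h1 (hc 1 (by omega))
  -- the Frobenius number
  set F := Nat.findGreatest (fun n => n ∉ H) c with hF
  have hFH : F ∉ H := Nat.findGreatest_spec (P := fun n => n ∉ H) hc1 h1
  have hFgt : ∀ n, F < n → n ∈ H := by
    intro n hn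
    by_cases hnc : n ≤ c
    · by_contra hcon
      have := Nat.le_findGreatest (P := fun n => n ∉ H) hnc hcon
      omega
    · exact hc n (by omega)
  have hFe : F + e ∈ H := hFgt _ (by omega)
  set s₀ : Qr (k := k) e he := Ideal.Quotient.mk _ (xm (F + e) hFe) with hs₀
  have hs₀soc : ∀ a ∈ maximalIdeal (Qr (k := k) e he), a * s₀ = 0 := by
    apply xm_socle e he he0 c hc
    intro m hm hm0
    have h2 : (m : ℤ) + ((F + e : ℕ) : ℤ) - e = ((m + F : ℕ) : ℤ) := by push_cast; ring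
    rw [h2, inH_natCast]
    exact hFgt _ (by have : 1 ≤ m := Nat.one_le_iff_ne_zero.2 hm0; omega)
  have hs₀ne : s₀ ≠ 0 := by
    apply mk_xm_ne_zero
    have h2 : ((F + e : ℕ) : ℤ) - e = (F : ℤ) := by push_cast; ring
    rw [h2, inH_natCast]
    exact hFH
  obtain ⟨c₀, hc₀⟩ := hs2 s₀ hs₀soc
  have hc₀u : IsUnit c₀ := by
    by_contra hnu
    apply hs₀ne
    rw [hc₀]
    exact (hs1 c₀).2 ((IsLocalRing.mem_maximalIdeal c₀).2 hnu)
  obtain ⟨v, rfl⟩ := hc₀u
  have hs_eq : s = (↑v⁻¹ : Qr (k := k) e he) * s₀ := by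
    rw [hc₀, ← mul_assoc, Units.inv_mul, one_mul]
  -- the key claim
  have key : ∀ w ∈ H, ¬ inH H ((w : ℤ) - e) → ∃ h ∈ H, w + h = F + e := by
    intro w hw hwe
    have hbound : ∀ h : ℕ, ¬ inH H (((w + h : ℕ) : ℤ) - e) → w + h ≤ F + e := by
      intro h hh
      by_contra hlt
      apply hh
      rw [inH_sub_iff]
      exact ⟨by omega, hFgt _ (by omega)⟩
    set P : ℕ → Prop := fun h => h ∈ H ∧ ¬ inH H (((w + h : ℕ) : ℤ) - e) with hP
    have hP0 : P 0 := ⟨H.zero_mem, by rw [Nat.add_zero]; exact hwe⟩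
    set h₀ := Nat.findGreatest P (F + e) with hh₀
    have hPh₀ : P h₀ := Nat.findGreatest_spec (P := P) (Nat.zero_le _) hP0
    have hmax : ∀ h, P h → h ≤ h₀ := by
      intro h hh
      have := hbound h hh.2
      exact Nat.le_findGreatest (P := P) (by omega) hh
    have hu : w + h₀ ∈ H := H.add_mem hw hPh₀.1
    have hsoc : ∀ a ∈ maximalIdeal (Qr (k := k) e he),
        a * Ideal.Quotient.mk (Ideal.span {xe (k := k) e he}) (xm (w + h₀) hu) = 0 := by
      apply xm_socle e he he0 c hc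
      intro m hm hm0
      by_contra hcon
      have hPm : P (h₀ + m) := by
        refine ⟨H.add_mem hPh₀.1 hm, ?_⟩
        have h2 : (((w + (h₀ + m) : ℕ)) : ℤ) - e = (m : ℤ) + ((w + h₀ : ℕ) : ℤ) - e := by
          push_cast; ring
        rw [h2]
        exact hcon
      have := hmax _ hPm
      have : 1 ≤ m := Nat.one_le_iff_ne_zero.2 hm0
      omega
    obtain ⟨c₁, hc₁⟩ := hs2 _ hsoc
    rw [hs_eq, ← mul_assoc] at hc₁
    obtain ⟨r, hr⟩ := Ideal.Quotient.mk_surjective (c₁ * (↑v⁻¹ : Qr (k := k) e he))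
    rw [← hr, hs₀, ← map_mul, ← sub_eq_zero, ← map_sub, Ideal.Quotient.eq_zero_iff_mem,
      mem_span_xe_iff] at hc₁
    have hval : (xm (w + h₀) hu - r * xm (F + e) hFe : semi k H).1 =
        X ^ (w + h₀) - r.1 * X ^ (F + e) := rfl
    have hcoef : (xm (w + h₀) hu - r * xm (F + e) hFe : semi k H).1.coeff (w + h₀) = 0 := by
      by_contra hne
      exact hPh₀.2 (hc₁ (w + h₀) hne)
    rw [hval, coeff_sub, coeff_X_pow, if_pos rfl, coeff_mul_X_pow'] at hcoef
    have hle : F + e ≤ w + h₀ := by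
      by_contra hlt
      rw [if_neg hlt, sub_zero] at hcoef
      exact one_ne_zero hcoef
    exact ⟨h₀, hPh₀.1, le_antisymm (hbound h₀ hPh₀.2) hle⟩
  -- symmetry
  refine ⟨(F : ℤ), fun n => ?_⟩
  constructor
  · rintro ⟨a, ha, han⟩ ⟨b, hb, hbn⟩
    apply hFH
    have : a + b = F := by omega
    rw [← this]
    exact H.add_mem ha hb
  · intro hn
    by_contra hcon
    apply hn
    rcases lt_or_ge n 0 with hneg | hnn
    · obtain ⟨m, hm⟩ : ∃ m : ℕ, (m : ℤ) = (F : ℤ) - n := ⟨((F : ℤ) - n).toNat, by omega⟩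
      rw [← hm, inH_natCast]
      exact hFgt _ (by omega)
    · obtain ⟨n', rfl⟩ : ∃ n' : ℕ, (n' : ℤ) = n := ⟨n.toNat, by omega⟩
      rw [inH_natCast] at hcon
      have hex : ∃ j : ℕ, 1 ≤ j ∧ n' + j * e ∈ H := by
        refine ⟨c, hc1, hc _ ?_⟩
        calc c = c * 1 := (Nat.mul_one c).symm
          _ ≤ c * e := Nat.mul_le_mul_left c he1
          _ ≤ n' + c * e := Nat.le_add_left _ _
      set j₀ := Nat.find hex with hj₀
      obtain ⟨hj1, hjH⟩ := Nat.find_spec hex
      obtain ⟨i, hi⟩ : ∃ i, j₀ = i + 1 := ⟨j₀ - 1, by omega⟩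
      have hprev : n' + i * e ∉ H := by
        rcases Nat.eq_zero_or_pos i with rfl | hipos
        · rw [Nat.zero_mul, Nat.add_zero]
          exact hcon
        · intro hmem
          exact Nat.find_min hex (m := i) (by rw [← hj₀, hi]; omega) ⟨hipos, hmem⟩
      rw [← hj₀, hi] at hjH
      have hwe : ¬ inH H (((n' + (i + 1) * e : ℕ) : ℤ) - e) := by
        rw [inH_sub_iff]
        rintro ⟨-, hmem⟩
        apply hprev
        have : n' + (i + 1) * e - e = n' + i * e := by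
          rw [Nat.add_mul, Nat.one_mul, ← Nat.add_assoc, Nat.add_sub_cancel]
        rwa [this] at hmem
      obtain ⟨h, hh, hsum⟩ := key _ hjH hwe
      refine ⟨h + i * e, H.add_mem hh ?_, ?_⟩
      · have := H.nsmul_mem he i
        rwa [smul_eq_mul] at this
      · have h3 : n' + (i + 1) * e + h = F + e := hsum
        have h4 : (i + 1) * e = i * e + e := by rw [Nat.add_mul, Nat.one_mul]
        push_cast
        omega

end Socle

end Groth.Agent.Lib.Helper20.Sym
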