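import Mathlib
import Groth.Agent.Lib.Helper20.Sym2
import Groth.Agent.Lib.Helper20.Sym5

/-!
# The semigroup ring modulo a monomial is Gorenstein iff the semigroup is symmetric
-/

set_option autoImplicit false
set_option linter.unusedSectionVars false
set_option linter.unusedVariables false
set_option linter.style.haveILetI false

namespace Groth.Agent.Lib.Helper20.Sym

open Polynomial IsLocalRing

universe u

variable {k : Type u} [Field k] {H : AddSubmonoid ℕ} (e : ℕ) (he : e ∈ H)
  (he0 : e ≠ 0) (c : ℕ) (hc : ∀ n, c ≤ n → n ∈ H)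

include he0 hc in
theorem gor_Q_iff [IsNoetherianRing (semi k H)] (h1 : 1 ∉ H) :
    LocCoh.IsGorensteinLocalRing (Qr (k := k) e he) ↔
      ∃ d : ℤ, ∀ n : ℤ, inH H n ↔ ¬ inH H (d - n) := by
  haveI hloc := isLocalRing_Q (k := k) e he he0 c hc
  haveI hart := isArtinianRing_Q (k := k) e he he0 c hc
  constructor
  · intro hG
    obtain ⟨s, hs1, hs2⟩ := Groth.Agent.Lib.Helper5.GorFlat.exists_socle_generator
      (Qr (k := k) e he) hG (ringKrullDim_Q (k := k) e he he0 c hc)
    exact symmetric_of_socle e he he0 c hc h1 s hs1 hs2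
  · intro hsym
    obtain ⟨s, hs1, hs2⟩ := socle_of_symmetric (k := k) e he he0 c hc hsym
    exact gor_of_socle s hs1 hs2

end Groth.Agent.Lib.Helper20.Sym
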