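import Mathlib
import Groth.Prelude.Def_W4c6gradedringsgwSect

/-!
# The grading of the section ring of a divisor
-/

set_option autoImplicit false
set_option linter.unusedSectionVars false
set_option linter.unusedVariables false
set_option linter.style.haveILetI false

namespace Groth.Agent.Lib.Helper20.Sym

open Polynomial FunFld W4c6gradedringsgw DirectSum

universe u

variable {k : Type u} {K : Type u} [Field k] [Field K] [Algebra k K] (D : Divisor k K)

/-- the graded pieces of the section ring -/
def piece (n : ℤ) : Submodule k (sectRing D) where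
  carrier := {p | ∀ i : ℕ, (i : ℤ) ≠ n → p.1.coeff i = 0}
  add_mem' := by
    intro p q hp hq i hi
    change (p.1 + q.1).coeff i = 0
    rw [coeff_add, hp i hi, hq i hi, add_zero]
  zero_mem' := by
    intro i hi
    exact coeff_zero i
  smul_mem' := by
    intro c p hp i hi
    change (c • p.1).coeff i = 0
    rw [coeff_smul, hp i hi, smul_zero]

theorem mem_piece {n : ℤ} {p : sectRing D} :
    p ∈ piece D n ↔ ∀ i : ℕ, (i : ℤ) ≠ n → p.1.coeff i = 0 := Iff.rfl

/-- the homogeneous component of a polynomial -/
noncomputable def compPoly (n : ℤ) (q : K[X]) : K[X] :=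
  if 0 ≤ n then monomial n.toNat (q.coeff n.toNat) else 0

theorem coeff_compPoly (n : ℤ) (q : K[X]) (i : ℕ) :
    (compPoly n q).coeff i = if (i : ℤ) = n then q.coeff i else 0 := by
  unfold compPoly
  by_cases hn : 0 ≤ n
  · rw [if_pos hn, coeff_monomial]
    by_cases h : (i : ℤ) = n
    · have h2 : n.toNat = i := by omega
      rw [if_pos h2, if_pos h, h2]
    · have h2 : ¬ n.toNat = i := by omega
      rw [if_neg h2, if_neg h]
  · rw [if_neg hn, coeff_zero, if_neg]
    omega

theorem compPoly_mem (n : ℤ) (p : sectRing D) : compPoly n p.1 ∈ sectRing D := by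
  intro i
  rw [coeff_compPoly]
  by_cases h : (i : ℤ) = n
  · rw [if_pos h]
    exact p.2 i
  · rw [if_neg h]
    exact Submodule.zero_mem _

/-- the homogeneous components -/
noncomputable def comp (n : ℤ) (p : sectRing D) : piece D n :=
  ⟨⟨compPoly n p.1, compPoly_mem D n p⟩, by
    intro i hi
    change (compPoly n p.1).coeff i = 0
    rw [coeff_compPoly, if_neg hi]⟩

theorem coeff_comp (n : ℤ) (p : sectRing D) (i : ℕ) :
    ((comp D n p : piece D n) : sectRing D).1.coeff i = if (i : ℤ) = n then p.1.coeff i else 0 :=
  coeff_compPoly n p.1 i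

/-- the decomposition map -/
noncomputable def dec (p : sectRing D) : ⨁ n, piece D n :=
  (⟨fun n => comp D n p, Trunc.mk ⟨((Finset.range (p.1.natDegree + 1)).image
    (Nat.cast : ℕ → ℤ)).val, by
    intro n
    by_cases h : n ∈ ((Finset.range (p.1.natDegree + 1)).image (Nat.cast : ℕ → ℤ)).val
    · exact Or.inl h
    · right
      apply Subtype.ext
      apply Subtype.ext
      apply Polynomial.ext
      intro i
      change (compPoly n p.1).coeff i = (0 : K[X]).coeff i
      rw [coeff_compPoly, coeff_zero]
      by_cases hi : (i : ℤ) = n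
      · rw [if_pos hi]
        apply coeff_eq_zero_of_natDegree_lt
        by_contra hlt
        apply h
        rw [Finset.mem_val, Finset.mem_image]
        exact ⟨i, Finset.mem_range.2 (by omega), hi⟩
      · rw [if_neg hi]⟩⟩ : Π₀ n, piece D n)

theorem dec_apply (p : sectRing D) (n : ℤ) : (dec D p) n = comp D n p := rfl

theorem coeff_coe (x : ⨁ n, piece D n) (i : ℕ) :
    (DirectSum.coeAddMonoidHom (piece D) x).1.coeff i = ((x (i : ℤ) : piece D i) : sectRing D).1.coeff i := by
  induction x using DirectSum.induction_on with
  | zero => rw [map_zero]; rfl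
  | of j y =>
    rw [DirectSum.coeAddMonoidHom_of]
    by_cases h : j = (i : ℤ)
    · subst h
      rw [DirectSum.of_eq_same]
    · rw [DirectSum.of_eq_of_ne _ _ _ (Ne.symm h)]
      have := y.2 i (Ne.symm h)
      rw [this]
      rfl
  | add x y hx hy =>
    rw [map_add, DirectSum.add_apply]
    change ((DirectSum.coeAddMonoidHom (piece D) x).1 + (DirectSum.coeAddMonoidHom (piece D) y).1).coeff i
      = (((x (i : ℤ) : piece D i) : sectRing D).1 + ((y (i : ℤ) : piece D i) : sectRing D).1).coeff i
    rw [coeff_add, coeff_add, hx, hy]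

instance gradedMonoid_piece : SetLike.GradedMonoid (piece D) where
  one_mem := by
    intro i hi
    change (1 : K[X]).coeff i = 0
    rw [coeff_one, if_neg]
    intro h
    apply hi
    rw [h]
    rfl
  mul_mem := by
    intro a b p q hp hq i hi
    change (p.1 * q.1).coeff i = 0
    rw [coeff_mul]
    apply Finset.sum_eq_zero
    intro x hx
    have h3 : x.1 + x.2 = i := Finset.HasAntidiagonal.mem_antidiagonal.1 hx
    by_cases h1 : (x.1 : ℤ) = a
    · have h2 : (x.2 : ℤ) ≠ b := by
        intro h2
        apply hi
        rw [← h3, ← h1, ← h2]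
        push_cast
        rfl
      rw [hq x.2 h2, mul_zero]
    · rw [hp x.1 h1, zero_mul]

noncomputable instance decomposition_piece : DirectSum.Decomposition (piece D) where
  decompose' := dec D
  left_inv := by
    intro p
    apply Subtype.ext
    apply Polynomial.ext
    intro i
    rw [coeff_coe, dec_apply, coeff_comp, if_pos rfl]
  right_inv := by
    intro x
    apply DFinsupp.ext
    intro n
    rw [dec_apply]
    apply Subtype.ext
    apply Subtype.ext
    apply Polynomial.ext
    intro i
    rw [coeff_comp]
    by_cases hi : (i : ℤ) = n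
    · subst hi
      rw [if_pos rfl, coeff_coe]
    · rw [if_neg hi]
      exact ((x n).2 i hi).symm

noncomputable instance gradedAlgebra_piece : GradedAlgebra (piece D) where

theorem piece_eq_bot_of_neg (n : ℤ) (hn : n < 0) : piece D n = ⊥ := by
  rw [eq_bot_iff]
  intro p hp
  rw [Submodule.mem_bot]
  apply Subtype.ext
  apply Polynomial.ext
  intro i
  rw [hp i (by omega)]
  rfl

end Groth.Agent.Lib.Helper20.Sym
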