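import Mathlib
import Groth.Agent.Lib.Helper20.Sym7
import Groth.Agent.Lib.Helper24.Sect.Emb2

/-!
# The section ring of a point: degree zero and finite generation
-/

set_option autoImplicit false
set_option linter.unusedSectionVars false
set_option linter.unusedVariables false
set_option linter.style.haveILetI false

namespace Groth.Agent.Lib.Helper20.Sym

open Polynomial FunFld W4c6gradedringsgw WithZero Groth.Agent.Lib.Helper18.FF
  Groth.Agent.Lib.Helper24.Sect

universe u

variable {k : Type u} {K : Type u} [Field k] [Field K] [Algebra k K]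

theorem piece_zero_eq (hK : IsFunctionField k K) (D : Divisor k K) :
    piece D 0 = Submodule.span k {(1 : sectRing D)} := by
  apply le_antisymm
  · intro p hp
    have h0 : p.1.coeff 0 ∈ L (0 : Divisor k K) := by
      have := p.2 0
      rwa [Nat.cast_zero, zero_smul] at this
    obtain ⟨c, hc⟩ := exists_eq_algebraMap_of_mem_L_zero hK h0
    rw [Submodule.mem_span_singleton]
    refine ⟨c, ?_⟩
    apply Subtype.ext
    apply Polynomial.ext
    intro i
    change (c • (1 : K[X])).coeff i = p.1.coeff i
    rw [coeff_smul, coeff_one]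
    by_cases hi : i = 0
    · subst hi
      rw [if_pos rfl, hc, Algebra.smul_def, mul_one]
    · rw [if_neg hi, smul_zero]
      exact (hp i (by exact_mod_cast hi)).symm
  · rw [Submodule.span_le, Set.singleton_subset_iff]
    exact SetLike.GradedOne.one_mem

section Gens

variable (hK : IsFunctionField k K) {P : Place k K} (hP : P.deg = 1) {π : K}
  (hπ : P.1 π = exp (-1 : ℤ))

include hK hP hπ in
theorem mono_mem_of_gens_subalgebra
    (S : Subalgebra k (sectRing (Finsupp.single P 1 : Divisor k K)))
    (hT : Tx P ∈ S) (F : ℕ → K)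
    (hFL : ∀ n : ℕ, F n ∈ L (Finsupp.single P (n : ℤ) : Divisor k K))
    (hF1 : ∀ n : ℕ, ¬ IsGap P n → lead hK hP π n (F n) = 1)
    (hG : ∀ n ∈ minGens (poleOrders P), mono (hFL n) ∈ S) :
    ∀ n : ℕ, ∀ (f : K) (hf : f ∈ L (Finsupp.single P (n : ℤ) : Divisor k K)),
      mono hf ∈ S := by
  intro n
  induction n using Nat.strong_induction_on with
  | _ n ih =>
    intro f hf
    rcases Nat.eq_zero_or_pos n with rfl | hn
    · have h0 : f ∈ L (0 : Divisor k K) := by
        have := hf
        rwa [Nat.cast_zero, Finsupp.single_zero] at this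
      obtain ⟨c, hc⟩ := exists_eq_algebraMap_of_mem_L_zero hK h0
      have e : mono hf = algebraMap k _ c :=
        Subtype.ext (by
          rw [Subalgebra.coe_algebraMap, Polynomial.algebraMap_apply]
          show monomial 0 f = C (algebraMap k K c)
          rw [monomial_zero_left, hc])
      rw [e]
      exact S.algebraMap_mem c
    obtain ⟨m, rfl⟩ : ∃ m, n = m + 1 := ⟨n - 1, by omega⟩
    have hlow : ∀ (f' : K) (hf' : f' ∈ L (Finsupp.single P ((m + 1 : ℕ) : ℤ) : Divisor k K)),
        P.1 f' < exp ((m + 1 : ℕ) : ℤ) → mono hf' ∈ S := by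
      intro f' hf' hlt
      rw [mono_succ_eq hf' (mem_L_single_of_lt hf' hlt)]
      exact S.mul_mem (ih m (by omega) f' _) hT
    by_cases hgap : IsGap P (m + 1)
    · apply hlow f hf
      have hf2 := hf
      rw [IsGap] at hgap
      rw [hgap] at hf2
      exact lt_of_le_of_lt (mem_L_single.mp hf2).1 (exp_lt_exp.mpr (by omega))
    · have hex : ∃ (f₀ : K) (h₀ : f₀ ∈ L (Finsupp.single P ((m + 1 : ℕ) : ℤ) : Divisor k K)),
          lead hK hP π (m + 1) f₀ = 1 ∧ mono h₀ ∈ S := by
        by_cases hmin : (m + 1) ∈ minGens (poleOrders P)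
        · exact ⟨F (m + 1), hFL (m + 1), hF1 _ hgap, hG _ hmin⟩
        · rw [mem_minGens_iff hK hP] at hmin
          push Not at hmin
          obtain ⟨a, b, ha, hb, ha0, hb0, hab⟩ := hmin hgap (Nat.succ_ne_zero m)
          have hFab : F a * F b ∈ L (Finsupp.single P ((m + 1 : ℕ) : ℤ) : Divisor k K) := by
            have := mul_mem_L (hFL a) (hFL b)
            rwa [← Finsupp.single_add, ← Nat.cast_add, hab] at this
          refine ⟨F a * F b, hFab, ?_, ?_⟩
          · rw [← hab, lead_mul hK hP hπ (mem_L_single.mp (hFL a)).1 (mem_L_single.mp (hFL b)).1,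
              hF1 a ha, hF1 b hb, mul_one]
          · have e : mono hFab = mono (hFL a) * mono (hFL b) :=
              Subtype.ext (by
                rw [MulMemClass.coe_mul]
                show monomial (m + 1) (F a * F b) = monomial a (F a) * monomial b (F b)
                rw [monomial_mul_monomial, hab])
            rw [e]
            exact S.mul_mem (ih a (by omega) (F a) (hFL a)) (ih b (by omega) (F b) (hFL b))
      obtain ⟨f₀, h₀, hl₀, hJ₀⟩ := hex
      set c := lead hK hP π (m + 1) f with hc
      have hcf₀ : c • f₀ ∈ L (Finsupp.single P ((m + 1 : ℕ) : ℤ) : Divisor k K) :=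
        Submodule.smul_mem _ c h₀
      have hf' : f - c • f₀ ∈ L (Finsupp.single P ((m + 1 : ℕ) : ℤ) : Divisor k K) :=
        Submodule.sub_mem _ hf hcf₀
      have hlt : P.1 (f - c • f₀) < exp ((m + 1 : ℕ) : ℤ) := by
        rw [← lead_eq_zero_iff hK hP hπ (mem_L_single.mp hf').1, sub_eq_add_neg, ← neg_smul,
          lead_add hK hP hπ (mem_L_single.mp hf).1
            (mem_L_single.mp (Submodule.smul_mem _ (-c) h₀)).1,
          lead_smul hK hP hπ _ (mem_L_single.mp h₀).1, hl₀, ← hc]
        ring
      have e : mono hf = mono hf' + algebraMap k _ c * mono h₀ :=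
        Subtype.ext (by
          rw [AddMemClass.coe_add, MulMemClass.coe_mul, Subalgebra.coe_algebraMap,
            Polynomial.algebraMap_apply]
          show monomial (m + 1) f = monomial (m + 1) (f - c • f₀) +
            C (algebraMap k K c) * monomial (m + 1) f₀
          rw [C_mul_monomial, ← Algebra.smul_def, ← map_add, sub_add_cancel])
      rw [e]
      exact S.add_mem (hlow _ hf' hlt) (S.mul_mem (S.algebraMap_mem c) hJ₀)

include hK hP hπ in
theorem finiteType_sectRing :
    Algebra.FiniteType k (sectRing (Finsupp.single P 1 : Divisor k K)) := by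
  obtain ⟨F, hFL, hF1⟩ := exists_F hK hP hπ
  have hfin := finite_minGens hK hP
  have hfin' : (insert (Tx P) ((fun n => mono (hFL n)) '' minGens (poleOrders P))).Finite :=
    (hfin.image _).insert _
  refine ⟨Subalgebra.fg_def.2 ⟨_, hfin', ?_⟩⟩
  rw [eq_top_iff]
  intro p _
  set S := Algebra.adjoin k (insert (Tx P) ((fun n => mono (hFL n)) '' minGens (poleOrders P)))
    with hS
  have hT : Tx P ∈ S := Algebra.subset_adjoin (Set.mem_insert _ _)
  have hG : ∀ n ∈ minGens (poleOrders P), mono (hFL n) ∈ S := fun n hn =>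
    Algebra.subset_adjoin (Set.mem_insert_of_mem _ ⟨n, hn, rfl⟩)
  have hB := mono_mem_of_gens_subalgebra hK hP hπ S hT F hFL hF1 hG
  have hp_sum : p = ∑ n ∈ p.1.support, mono (mem_sectRing_iff.mp p.2 n) := by
    apply Subtype.ext
    rw [AddSubmonoidClass.coe_finsetSum]
    exact p.1.as_sum_support
  rw [hp_sum]
  exact S.sum_mem fun n _ => hB n _ _

end Gens

end Groth.Agent.Lib.Helper20.Sym
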