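import Mathlib
import Groth.Agent.Lib.Helper20.Sym1
import Groth.Agent.Lib.Helper20.Sym6
import Groth.Agent.Lib.Helper20.Sym8
import Groth.Agent.Lib.Helper20.GDual10
import Groth.Agent.Lib.Helper20.GorGr6
import Groth.Agent.Lib.Helper18.FF.Weights

/-!
# The section ring of a point is Gorenstein iff the Weierstrass semigroup is symmetric
-/

set_option autoImplicit false
set_option linter.unusedSectionVars false
set_option linter.unusedVariables false
set_option linter.style.haveILetI false

namespace Groth.Agent.Lib.Helper20.Sym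

open Polynomial FunFld W4c6gradedringsgw WithZero Groth.Agent.Lib.Helper18.FF
  Groth.Agent.Lib.Helper24.Sect IsLocalRing Groth.Agent.Lib.Helper20.GrConv
  Groth.Agent.Lib.Helper20.GDual

universe u

variable {k : Type u} {K : Type u} [Field k] [Field K] [Algebra k K]

/-- the gaps are bounded by twice the genus -/
theorem not_isGap_of_ge (hK : IsFunctionField k K) {P : Place k K} (hP : P.deg = 1)
    (hg : 1 ≤ genus k K) (n : ℕ) (hn : 2 * genus k K ≤ n) : ¬ IsGap P n := by
  classical
  intro hgap
  have hA := card_gaps_eq_genus hK hP (N := n) (by push_cast; omega)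
  have hB := card_gaps_eq_genus hK hP (N := n - 1) (by
    have : ((n - 1 : ℕ) : ℤ) = (n : ℤ) - 1 := by omega
    rw [this]; push_cast; omega)
  have hss : (Finset.Icc 1 (n - 1)).filter (fun m => IsGap P m) ⊂
      (Finset.Icc 1 n).filter (fun m => IsGap P m) := by
    constructor
    · intro m hm
      rw [Finset.mem_filter, Finset.mem_Icc] at hm ⊢
      exact ⟨⟨hm.1.1, by omega⟩, hm.2⟩
    · intro hsub
      have hnA : n ∈ (Finset.Icc 1 n).filter (fun m => IsGap P m) := by
        rw [Finset.mem_filter, Finset.mem_Icc]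
        exact ⟨⟨by omega, le_rfl⟩, hgap⟩
      have := hsub hnA
      rw [Finset.mem_filter, Finset.mem_Icc] at this
      omega
  have := Finset.card_lt_card hss
  omega

section Chain

variable {H : AddSubmonoid ℕ} (e : ℕ) (he : e ∈ H) (he0 : e ≠ 0) (c : ℕ)
  (hc : ∀ n, c ≤ n → n ∈ H)

include he0 hc in
/-- the chain of local rings from a Noetherian domain surjecting onto the semigroup ring with
principal kernel -/
theorem chain {R : Type u} [CommRing R] [IsDomain R] [IsNoetherianRing R]
    (φ : R →+* semi k H) (hφ : Function.Surjective φ) (t : R) (ht0 : t ≠ 0)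
    (hker : RingHom.ker φ = Ideal.span {t}) (h1 : 1 ∉ H)
    [IsLocalRing (Qr (k := k) e he)] :
    LocCoh.IsGorensteinLocalRing (Localization.AtPrime
      (((maximalIdeal (Qr (k := k) e he)).comap
        (Ideal.Quotient.mk (Ideal.span {xe (k := k) e he}))).comap φ)) ↔
      ∃ d : ℤ, ∀ n : ℤ, inH H n ↔ ¬ inH H (d - n) := by
  haveI : IsNoetherianRing (semi k H) := isNoetherianRing_of_surjective R (semi k H) φ hφ
  have hxe0 : xe (k := k) e he ≠ 0 := by
    intro h
    have := congrArg Subtype.val h
    exact pow_ne_zero e X_ne_zero this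
  have c1 := gor_surj_iff (S := R) (S' := semi k H) φ hφ t ht0 hker
    ((maximalIdeal (Qr (k := k) e he)).comap
        (Ideal.Quotient.mk (Ideal.span {xe (k := k) e he})))
  have c2 := gor_surj_iff (S := semi k H) (S' := Qr (k := k) e he)
    (Ideal.Quotient.mk (Ideal.span {xe (k := k) e he}))
    Ideal.Quotient.mk_surjective (xe (k := k) e he) hxe0 Ideal.mk_ker
    (maximalIdeal (Qr (k := k) e he))
  have c3 := gor_atMax_iff (A := Qr (k := k) e he) (maximalIdeal (Qr (k := k) e he)) rfl
  have c4 := gor_Q_iff (k := k) e he he0 c hc h1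
  exact c1.trans (c2.trans (c3.trans c4))

end Chain

end Groth.Agent.Lib.Helper20.Sym
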