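import Mathlib
import Groth.Agent.Lib.Helper20.Sym9
import Groth.Agent.Lib.Helper20.SegCM4

/-!
# The section ring of a point is Gorenstein iff the Weierstrass semigroup is symmetric (assembly)
-/

set_option autoImplicit false
set_option linter.unusedSectionVars false
set_option linter.unusedVariables false
set_option linter.style.haveILetI false

namespace Groth.Agent.Lib.Helper20.Sym

open Polynomial FunFld W4c6gradedringsgw WithZero Groth.Agent.Lib.Helper18.FF
  Groth.Agent.Lib.Helper24.Sect IsLocalRing Groth.Agent.Lib.Helper20.GrConv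
  Groth.Agent.Lib.Helper20.GDual

universe u

variable {k : Type u} {K : Type u} [Field k] [Field K] [Algebra k K]

section Psi

variable (hK : IsFunctionField k K) {P : Place k K} (hP : P.deg = 1) {π : K}
  (hπ : P.1 π = exp (-1 : ℤ))

include hK hP hπ in
theorem exists_psi' (hg : 1 ≤ genus k K) :
    ∃ ψ' : sectRing (Finsupp.single P 1 : Divisor k K) →+* semi k (nonGap hK P),
      Function.Surjective ψ' ∧ RingHom.ker ψ' = Ideal.span {Tx P} ∧
      ∀ p : sectRing (Finsupp.single P 1 : Divisor k K), p.1.coeff 0 = 0 →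
        (ψ' p).1.coeff 0 = 0 := by
  have hψmem : ∀ p : sectRing (Finsupp.single P 1 : Divisor k K),
      psi hK hP hπ p ∈ semi k (nonGap hK P) := by
    intro p n hn
    rw [coeff_psi] at hn
    exact not_isGap_of_lead_ne_zero hK hP hπ (mem_sectRing_iff.mp p.2 n) hn
  let ψ' : sectRing (Finsupp.single P 1 : Divisor k K) →ₐ[k] semi k (nonGap hK P) :=
    (psi hK hP hπ).codRestrict (semi k (nonGap hK P)) hψmem
  have hψ'val : ∀ p, (ψ' p).1 = psi hK hP hπ p := fun p => rfl
  have hψ'surj : Function.Surjective ψ' := by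
    intro q
    have hex : ∀ n ∈ q.1.support, ∃ r : sectRing (Finsupp.single P 1 : Divisor k K),
        psi hK hP hπ r = monomial n (q.1.coeff n) := by
      intro n hn
      have hnH : ¬ IsGap P n := q.2 n (mem_support_iff.1 hn)
      obtain ⟨f, hf, hf1⟩ := exists_lead_one hK hP hπ hnH
      refine ⟨⟨monomial n (q.1.coeff n • f),
        monomial_mem_sectRing (Submodule.smul_mem _ _ hf)⟩, ?_⟩
      rw [psi_monomial hK hP hπ (Submodule.smul_mem _ _ hf),
        lead_smul hK hP hπ _ (mem_L_single.mp hf).1, hf1, mul_one]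
    choose! g hg using hex
    refine ⟨∑ n ∈ q.1.support, g n, ?_⟩
    apply Subtype.ext
    rw [hψ'val, map_sum, Finset.sum_congr rfl hg]
    exact q.1.as_sum_support.symm
  have hTX : ((Tx P : sectRing (Finsupp.single P 1 : Divisor k K)) : K[X]) = C 1 * X := by
    rw [C_1, one_mul]
    rfl
  have hker0 := ker_psi hK hP hπ hg (Tx P) 1 one_ne_zero hTX
  refine ⟨(ψ' : sectRing (Finsupp.single P 1 : Divisor k K) →+* semi k (nonGap hK P)),
    hψ'surj, ?_, ?_⟩
  · rw [← hker0]
    ext p
    rw [RingHom.mem_ker, RingHom.mem_ker]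
    constructor
    · intro h
      have := congrArg Subtype.val h
      exact this
    · intro h
      apply Subtype.ext
      exact h
  · intro p hp
    change (psi hK hP hπ p).coeff 0 = 0
    rw [coeff_psi, hp, lead_zero_right]

end Psi

section Graded

variable (hK : IsFunctionField k K) (D : Divisor k K)

include hK in
/-- the Gorenstein property of the section ring is detected at the irrelevant ideal -/
theorem gor_iff_local [IsNoetherianRing (sectRing D)] (M : Ideal (sectRing D)) [M.IsPrime]
    (hM : ∀ n : ℤ, 0 < n → ∀ x ∈ piece D n, x ∈ M) :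
    LocCoh.IsGorensteinRing (sectRing D) ↔
      LocCoh.IsGorensteinLocalRing (Localization.AtPrime M) := by
  have hposR := piece_eq_bot_of_neg D
  have h0R := piece_zero_eq hK D
  obtain ⟨mR, hmR⟩ : ∃ mR : HomogeneousIdeal (piece D),
      mR.toIdeal = Ideal.span (⋃ n ∈ Set.Ioi (0 : ℤ), (piece D n : Set _)) :=
    ⟨Groth.Agent.Lib.Helper20.SegCM.irrH _, Groth.Agent.Lib.Helper20.SegCM.irrH_toIdeal _⟩
  have hm' := isStarLocal_asGr k _ (piece D) hposR h0R mR hmR
  have hpos' := hpos_asGr k _ (piece D) hposR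
  have h0' : IsField (GrLC.deg0 (asGr (piece D))) :=
    Groth.Agent.Lib.Helper20.SegCM.isField_deg0 _ h0R
  have hmsp : (idealToAS (piece D) mR).toIdeal =
      Ideal.span (⋃ n ∈ Set.Ioi (0 : ℤ), (asGr (piece D) n : Set _)) := hmR
  haveI hmax : (idealToAS (piece D) mR).toIdeal.IsMaximal :=
    Groth.Agent.Lib.Helper20.GorGr.isMaximal_irrelevant _ hpos' h0' _ hm' hmsp
  have hle : (idealToAS (piece D) mR).toIdeal ≤ M := by
    change mR.toIdeal ≤ M
    rw [hmR, Ideal.span_le]
    intro x hx
    simp only [Set.mem_iUnion, Set.mem_Ioi, SetLike.mem_coe] at hx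
    obtain ⟨n, hn, hxn⟩ := hx
    exact hM n hn x hxn
  have hMne : M ≠ ⊤ := Ideal.IsPrime.ne_top inferInstance
  have hmeq : (idealToAS (piece D) mR).toIdeal = M := hmax.eq_of_le hMne hle
  constructor
  · intro hG
    exact hG.isGorensteinLocalRing_localization M
  · intro hG
    haveI : (idealToAS (piece D) mR).toIdeal.IsPrime := hmax.isPrime
    have hG' := (gor_congr_ideal _ _ hmeq).2 hG
    exact Groth.Agent.Lib.Helper20.GorGr.isGorensteinRing_of_starLocal_int
      (asGr (piece D)) _ hm' hG'

end Graded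

theorem s18669 [IsAlgClosed k] (hK : IsFunctionField k K) (hg : 1 ≤ genus k K)
    (P : Place k K) :
    LocCoh.IsGorensteinRing (sectRing (Finsupp.single P 1 : Divisor k K)) ↔
      IsSymmetric (poleOrders P) := by
  classical
  have hP := deg_eq_one_of_isAlgClosed hK P
  obtain ⟨π, hπ⟩ := exists_uniformizer P
  have hpo : poleOrders P = (nonGap hK P : Set ℕ) := Set.ext (mem_poleOrders_iff hK hP)
  have h1 : 1 ∉ nonGap hK P := fun h => h (isGap_one hK hg hP)
  have hc : ∀ n, 2 * genus k K ≤ n → n ∈ nonGap hK P :=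
    fun n hn => not_isGap_of_ge hK hP hg n hn
  obtain ⟨e, he0', he⟩ := exists_pos_nonGap hK hP
  have heH : e ∈ nonGap hK P := he
  have he0 : e ≠ 0 := he0'.ne'
  have hsymiff : IsSymmetric (poleOrders P) ↔
      ∃ d : ℤ, ∀ n : ℤ, inH (nonGap hK P) n ↔ ¬ inH (nonGap hK P) (d - n) := by
    rw [hpo]
    exact Iff.rfl
  rw [hsymiff]
  haveI : Algebra.FiniteType k (sectRing (Finsupp.single P 1 : Divisor k K)) :=
    finiteType_sectRing hK hP hπ
  haveI : IsNoetherianRing (sectRing (Finsupp.single P 1 : Divisor k K)) :=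
    Algebra.FiniteType.isNoetherianRing k _
  obtain ⟨ψ', hsurj, hker, hzero⟩ := exists_psi' hK hP hπ hg
  have hT0 : (Tx P : sectRing (Finsupp.single P 1 : Divisor k K)) ≠ 0 := by
    intro h
    have := congrArg Subtype.val h
    exact X_ne_zero this
  haveI hloc := isLocalRing_Q (k := k) e heH he0 _ hc
  have hchain := chain (k := k) e heH he0 _ hc ψ' hsurj (Tx P) hT0 hker h1
  rw [← hchain]
  apply gor_iff_local hK
  intro n hn x hx
  rw [Ideal.mem_comap, Ideal.mem_comap, mk_mem_maximalIdeal_iff e heH he0 _ hc]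
  exact hzero x (hx 0 (by push_cast; omega))

end Groth.Agent.Lib.Helper20.Sym
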