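import Mathlib
import Groth.Prelude.Def_SymTen

/-!
# Symmetric tensors: the Segre-type subalgebra `C`, the permutation action on it,
integrality of `C` over `C ∩ TS`, lying over.
-/

set_option autoImplicit false
set_option linter.unusedSectionVars false
set_option linter.unusedVariables false

namespace Groth.Agent.Lib.Helper20.SymCover

open scoped TensorProduct

universe u

variable {A B : Type u} [CommRing A] [CommRing B] [Algebra A B]
variable (𝒜 : ℕ → Submodule A B) [GradedAlgebra 𝒜] (d : ℕ)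

/-- the generating pure tensors -/
def gens : Set (⨂[A] _ : Fin d, B) :=
  {t | ∃ (k : ℕ) (b : Fin d → B), (∀ i, b i ∈ 𝒜 k) ∧ t = PiTensorProduct.tprod A b}

/-- the subalgebra `C` -/
def Calg : Subalgebra A (⨂[A] _ : Fin d, B) := Algebra.adjoin A (gens 𝒜 d)

theorem tprod_mem_Calg {k : ℕ} {b : Fin d → B} (hb : ∀ i, b i ∈ 𝒜 k) :
    PiTensorProduct.tprod A b ∈ Calg 𝒜 d :=
  Algebra.subset_adjoin ⟨k, b, hb, rfl⟩

theorem perm_mem (σ : Equiv.Perm (Fin d)) {x : ⨂[A] _ : Fin d, B} (hx : x ∈ Calg 𝒜 d) :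
    SymTen.perm A B d σ x ∈ Calg 𝒜 d := by
  have h1 : SymTen.perm A B d σ x ∈ (Calg 𝒜 d).map (SymTen.perm A B d σ) :=
    ⟨x, hx, rfl⟩
  have h2 : (Calg 𝒜 d).map (SymTen.perm A B d σ) ≤ Calg 𝒜 d := by
    unfold Calg
    rw [AlgHom.map_adjoin]
    apply Algebra.adjoin_mono
    rintro _ ⟨_, ⟨k, b, hb, rfl⟩, rfl⟩
    exact ⟨k, fun i => b (σ.symm i), fun i => hb _, SymTen.perm_tprod A B d σ b⟩
  exact h2 h1

theorem perm_one (x : ⨂[A] _ : Fin d, B) : SymTen.perm A B d 1 x = x := by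
  induction x using PiTensorProduct.induction_on with
  | smul_tprod r f => simp only [map_smul, SymTen.perm_tprod]; rfl
  | add x y hx hy => simp [hx, hy]

theorem perm_mul (σ τ : Equiv.Perm (Fin d)) (x : ⨂[A] _ : Fin d, B) :
    SymTen.perm A B d (σ * τ) x = SymTen.perm A B d σ (SymTen.perm A B d τ x) := by
  induction x using PiTensorProduct.induction_on with
  | smul_tprod r f => simp only [map_smul, SymTen.perm_tprod]; rfl
  | add x y hx hy => simp [hx, hy]

noncomputable instance : MulSemiringAction (Equiv.Perm (Fin d)) (Calg 𝒜 d) where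
  smul σ c := ⟨SymTen.perm A B d σ c.1, perm_mem 𝒜 d σ c.2⟩
  one_smul c := Subtype.ext (perm_one d c.1)
  mul_smul σ τ c := Subtype.ext (perm_mul d σ τ c.1)
  smul_zero σ := Subtype.ext (map_zero _)
  smul_add σ x y := Subtype.ext (map_add _ _ _)
  smul_one σ := Subtype.ext (map_one _)
  smul_mul σ x y := Subtype.ext (map_mul _ _ _)

theorem smul_coe (σ : Equiv.Perm (Fin d)) (c : Calg 𝒜 d) :
    ((σ • c : Calg 𝒜 d) : ⨂[A] _ : Fin d, B) = SymTen.perm A B d σ c.1 := rfl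

/-- the subalgebra `D = C ∩ TS` -/
noncomputable def Dalg : Subalgebra A (⨂[A] _ : Fin d, B) := Calg 𝒜 d ⊓ SymTen.TS A B d

theorem Dalg_le : Dalg 𝒜 d ≤ Calg 𝒜 d := inf_le_left

noncomputable instance : Algebra (Dalg 𝒜 d) (Calg 𝒜 d) :=
  (Subalgebra.inclusion (Dalg_le 𝒜 d)).toRingHom.toAlgebra

theorem algebraMap_coe (x : Dalg 𝒜 d) :
    ((algebraMap (Dalg 𝒜 d) (Calg 𝒜 d) x : Calg 𝒜 d) : ⨂[A] _ : Fin d, B) = x.1 := rfl

instance : Algebra.IsInvariant (Dalg 𝒜 d) (Calg 𝒜 d) (Equiv.Perm (Fin d)) where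
  isInvariant c hc := by
    refine ⟨⟨c.1, c.2, fun σ => ?_⟩, Subtype.ext rfl⟩
    rw [← SymTen.perm_apply]
    exact congrArg Subtype.val (hc σ)

instance : Algebra.IsIntegral (Dalg 𝒜 d) (Calg 𝒜 d) :=
  Algebra.IsInvariant.isIntegral (Dalg 𝒜 d) (Calg 𝒜 d) (Equiv.Perm (Fin d))

theorem algebraMap_injective :
    Function.Injective (algebraMap (Dalg 𝒜 d) (Calg 𝒜 d)) := by
  intro x y h
  have h' := congrArg Subtype.val h
  exact Subtype.ext h'

/-- lying over -/
theorem exists_prime_over (q : Ideal (Dalg 𝒜 d)) [q.IsPrime] :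
    ∃ P : Ideal (Calg 𝒜 d), P.IsPrime ∧ P.comap (algebraMap (Dalg 𝒜 d) (Calg 𝒜 d)) = q := by
  obtain ⟨P, -, hP, hPq⟩ := Ideal.exists_ideal_over_prime_of_isIntegral q
    (⊥ : Ideal (Calg 𝒜 d)) (by
      intro x hx
      rw [Ideal.mem_comap, Ideal.mem_bot] at hx
      have this := hx
      have hx0 : x = 0 := algebraMap_injective 𝒜 d (by rw [this, map_zero])
      rw [hx0]; exact q.zero_mem)
  exact ⟨P, hP, hPq⟩

end Groth.Agent.Lib.Helper20.SymCover
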