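import Mathlib
import Groth.Prelude.Def_SymTen
import Groth.Agent.Lib.Helper20.SymCover1

/-!
# Symmetric tensors: a prime of `C` missing a positive-degree element misses some
pure tensor of degree-one elements.
-/

set_option autoImplicit false
set_option linter.unusedSectionVars false
set_option linter.unusedVariables false

namespace Groth.Agent.Lib.Helper20.SymCover

open scoped TensorProduct
open PiTensorProduct

universe u

variable {A B : Type u} [CommRing A] [CommRing B] [Algebra A B]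
variable (𝒜 : ℕ → Submodule A B) [GradedAlgebra 𝒜] (d : ℕ)

/-- image in the tensor power of an ideal of `C` -/
def PT (P : Ideal (Calg 𝒜 d)) : Submodule A (⨂[A] _ : Fin d, B) :=
  (P.restrictScalars A).map (Calg 𝒜 d).val.toLinearMap

variable {𝒜 d}

theorem mem_PT_iff (P : Ideal (Calg 𝒜 d)) {x : ⨂[A] _ : Fin d, B} (hx : x ∈ Calg 𝒜 d) :
    x ∈ PT 𝒜 d P ↔ (⟨x, hx⟩ : Calg 𝒜 d) ∈ P := by
  constructor
  · rintro ⟨c, hc, rfl⟩
    exact hc
  · intro h
    exact ⟨⟨x, hx⟩, h, rfl⟩

theorem mem_Calg_of_mem_PT (P : Ideal (Calg 𝒜 d)) {x : ⨂[A] _ : Fin d, B}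
    (hx : x ∈ PT 𝒜 d P) : x ∈ Calg 𝒜 d := by
  obtain ⟨c, hc, rfl⟩ := hx
  exact c.2

theorem mul_mem_PT (P : Ideal (Calg 𝒜 d)) {x y : ⨂[A] _ : Fin d, B}
    (hx : x ∈ PT 𝒜 d P) (hy : y ∈ Calg 𝒜 d) : x * y ∈ PT 𝒜 d P := by
  obtain ⟨c, hc, rfl⟩ := hx
  exact ⟨c * ⟨y, hy⟩, P.mul_mem_right _ hc, rfl⟩

theorem mul_mem_PT' (P : Ideal (Calg 𝒜 d)) {x y : ⨂[A] _ : Fin d, B}
    (hx : x ∈ Calg 𝒜 d) (hy : y ∈ PT 𝒜 d P) : x * y ∈ PT 𝒜 d P := by
  rw [mul_comm]; exact mul_mem_PT P hy hx

theorem PT_prime (P : Ideal (Calg 𝒜 d)) [hP : P.IsPrime] {x y : ⨂[A] _ : Fin d, B}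
    (hx : x ∈ Calg 𝒜 d) (hy : y ∈ Calg 𝒜 d) (h : x * y ∈ PT 𝒜 d P) :
    x ∈ PT 𝒜 d P ∨ y ∈ PT 𝒜 d P := by
  rw [mem_PT_iff P hx, mem_PT_iff P hy]
  rw [mem_PT_iff P ((Calg 𝒜 d).mul_mem hx hy)] at h
  exact hP.mem_or_mem h

/-- multilinear span lemma -/
theorem tprod_mem_of_span (N : Submodule A (⨂[A] _ : Fin d, B)) (S : Fin d → Set B)
    (h : ∀ b : Fin d → B, (∀ j, b j ∈ S j) → tprod A b ∈ N) :
    ∀ b : Fin d → B, (∀ j, b j ∈ Submodule.span A (S j)) → tprod A b ∈ N := by
  classical
  have key : ∀ F : Finset (Fin d), ∀ b : Fin d → B,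
      (∀ j ∈ F, b j ∈ Submodule.span A (S j)) → (∀ j, j ∉ F → b j ∈ S j) → tprod A b ∈ N := by
    intro F
    induction F using Finset.induction_on with
    | empty =>
      intro b _ hb
      exact h b (fun j => hb j (Finset.notMem_empty j))
    | insert a F ha ih =>
      intro b hb1 hb2
      have hy : ∀ y ∈ Submodule.span A (S a), tprod A (Function.update b a y) ∈ N := by
        intro y hy
        induction hy using Submodule.span_induction with
        | mem y hy =>
          apply ih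
          · intro j hj
            have hja : j ≠ a := fun e => ha (e ▸ hj)
            rw [Function.update_of_ne hja]
            exact hb1 j (Finset.mem_insert_of_mem hj)
          · intro j hj
            by_cases hja : j = a
            · subst hja
              rw [Function.update_self]
              exact hy
            · rw [Function.update_of_ne hja]
              exact hb2 j (fun hmem => by
                rcases Finset.mem_insert.1 hmem with e | e
                · exact hja e
                · exact hj e)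
        | zero => rw [MultilinearMap.map_update_zero]; exact N.zero_mem
        | add y z _ _ hy hz => rw [MultilinearMap.map_update_add]; exact N.add_mem hy hz
        | smul c y _ hy => rw [MultilinearMap.map_update_smul]; exact N.smul_mem c hy
      have := hy (b a) (hb1 a (Finset.mem_insert_self a F))
      rwa [Function.update_eq_self] at this
  intro b hb
  exact key Finset.univ b (fun j _ => hb j) (fun j hj => absurd (Finset.mem_univ j) hj)

/-- the `k`-fold products of degree one elements -/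
def prods (k : ℕ) : Set B := {y | ∃ g : Fin k → B, (∀ m, g m ∈ 𝒜 1) ∧ y = ∏ m, g m}

theorem list_prod_mem (l : List B) (hl : ∀ z ∈ l, z ∈ 𝒜 1) : l.prod ∈ 𝒜 l.length := by
  induction l with
  | nil => simpa using SetLike.GradedOne.one_mem (A := 𝒜)
  | cons a l ih =>
    rw [List.prod_cons, List.length_cons, add_comm]
    exact SetLike.GradedMul.mul_mem (hl a List.mem_cons_self)
      (ih fun z hz => hl z (List.mem_cons_of_mem a hz))

theorem list_prod_mem_prods (l : List B) (hl : ∀ z ∈ l, z ∈ 𝒜 1) :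
    l.prod ∈ prods (𝒜 := 𝒜) l.length := by
  refine ⟨fun m => l[m.1], fun m => hl _ (List.getElem_mem _), ?_⟩
  exact (Fin.prod_univ_getElem l).symm

include 𝒜 in
theorem proj_mem_span_prods (hgen : Algebra.adjoin A (𝒜 1 : Set B) = ⊤) (b : B) (k : ℕ) :
    (DirectSum.decompose 𝒜 b k : B) ∈ Submodule.span A (prods (𝒜 := 𝒜) k) := by
  classical
  have hb : b ∈ Submodule.span A (Submonoid.closure (𝒜 1 : Set B) : Set B) := by
    rw [← Algebra.adjoin_eq_span, hgen]; trivial
  induction hb using Submodule.span_induction with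
  | mem w hw =>
    obtain ⟨l, hl, rfl⟩ := Submonoid.exists_list_of_mem_closure hw
    have hmem := list_prod_mem (𝒜 := 𝒜) l hl
    by_cases hk : l.length = k
    · rw [← hk, DirectSum.decompose_of_mem_same 𝒜 hmem]
      exact Submodule.subset_span (list_prod_mem_prods l hl)
    · rw [DirectSum.decompose_of_mem_ne 𝒜 hmem hk]
      exact Submodule.zero_mem _
  | zero => simp
  | add y z _ _ hy hz =>
    rw [DirectSum.decompose_add, DirectSum.add_apply, Submodule.coe_add]
    exact Submodule.add_mem _ hy hz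
  | smul c y _ hy =>
    rw [DirectSum.decompose_smul, DirectSum.smul_apply, Submodule.coe_smul]
    exact Submodule.smul_mem _ c hy

theorem le_span_prods (hgen : Algebra.adjoin A (𝒜 1 : Set B) = ⊤) (k : ℕ) :
    𝒜 k ≤ Submodule.span A (prods (𝒜 := 𝒜) k) := by
  intro b hb
  have := proj_mem_span_prods (𝒜 := 𝒜) hgen b k
  rwa [DirectSum.decompose_of_mem_same 𝒜 hb] at this

/-- A prime of `C` missing a tensor in the span of degree `k ≥ 1` pure tensors misses a pure
tensor of degree one elements. -/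
theorem exists_degOne (hgen : Algebra.adjoin A (𝒜 1 : Set B) = ⊤)
    (P : Ideal (Calg 𝒜 d)) [hP : P.IsPrime] (k : ℕ) (hk : 0 < k)
    (t : ⨂[A] _ : Fin d, B)
    (htk : t ∈ Submodule.span A
      {s | ∃ b : Fin d → B, (∀ i, b i ∈ 𝒜 k) ∧ s = PiTensorProduct.tprod A b})
    (htP : t ∉ PT 𝒜 d P) :
    ∃ x : Fin d → B, (∀ j, x j ∈ 𝒜 1) ∧ tprod A x ∉ PT 𝒜 d P := by
  classical
  by_contra hcon
  push Not at hcon
  apply htP
  refine Submodule.span_le.2 ?_ htk
  rintro _ ⟨b, hb, rfl⟩
  refine tprod_mem_of_span (PT 𝒜 d P) (fun _ => prods (𝒜 := 𝒜) k) ?_ b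
    (fun j => le_span_prods hgen k (hb j))
  intro b' hb'
  choose g hg1 hg2 using hb'
  have hb'eq : b' = ∏ m : Fin k, (fun j => g j m) := by
    funext j
    rw [Finset.prod_apply]
    exact hg2 j
  have hprod : tprod A b' = ∏ m : Fin k, tprod A (fun j => g j m) := by
    rw [hb'eq]
    exact map_prod (tprodMonoidHom A) _ _
  rw [hprod]
  have hm0 : (⟨0, hk⟩ : Fin k) ∈ (Finset.univ : Finset (Fin k)) := Finset.mem_univ _
  rw [← Finset.mul_prod_erase _ _ hm0]
  refine mul_mem_PT P (hcon _ (fun j => hg1 j _)) ?_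
  refine Subalgebra.prod_mem _ (fun m _ => ?_)
  exact tprod_mem_Calg 𝒜 d (fun j => hg1 j m)

end Groth.Agent.Lib.Helper20.SymCover
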