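import Mathlib
import Groth.Prelude.Def_SymTen
import Groth.Agent.Lib.Helper20.SymCover2
import Groth.Agent.Lib.Helper20.HomPrimeAvoid

/-!
# Symmetric tensors: the per-slot homogeneous primes attached to a prime of `C`.
-/

set_option autoImplicit false
set_option linter.unusedSectionVars false
set_option linter.unusedVariables false

namespace Groth.Agent.Lib.Helper20.SymCover

open scoped TensorProduct
open PiTensorProduct

universe u

variable {A B : Type u} [CommRing A] [CommRing B] [Algebra A B]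
variable {𝒜 : ℕ → Submodule A B} [GradedAlgebra 𝒜] {d : ℕ}

/-- test tensor: `x₁^k ⊗ ⋯ ⊗ y ⊗ ⋯ ⊗ x_d^k` with `y` in slot `i` -/
noncomputable def tt (x : Fin d → B) (k : ℕ) (i : Fin d) (y : B) : ⨂[A] _ : Fin d, B :=
  tprod A (Function.update (fun j => x j ^ k) i y)

theorem tt_mul (x : Fin d → B) (k l : ℕ) (i : Fin d) (y z : B) :
    tt (A := A) x k i y * tt x l i z = tt x (k + l) i (y * z) := by
  unfold tt
  rw [tprod_mul_tprod, ← Function.update_mul]
  congr 2
  funext j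
  simp [pow_add]

theorem tt_add (x : Fin d → B) (k : ℕ) (i : Fin d) (y z : B) :
    tt (A := A) x k i (y + z) = tt x k i y + tt x k i z := by
  unfold tt
  rw [MultilinearMap.map_update_add]

theorem tt_smul (x : Fin d → B) (k : ℕ) (i : Fin d) (a : A) (y : B) :
    tt (A := A) x k i (a • y) = a • tt x k i y := by
  unfold tt
  rw [MultilinearMap.map_update_smul]

theorem tt_zero (x : Fin d → B) (k : ℕ) (i : Fin d) :
    tt (A := A) x k i 0 = 0 := by
  unfold tt
  rw [MultilinearMap.map_update_zero]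

theorem tt_self (x : Fin d → B) (k : ℕ) (i : Fin d) :
    tt (A := A) x k i (x i ^ k) = (tprod A x) ^ k := by
  unfold tt
  rw [Function.update_eq_self i (fun j => x j ^ k)]
  have : (fun j => x j ^ k) = x ^ k := by funext j; simp
  rw [this]
  exact map_pow (tprodMonoidHom A) x k

theorem tt_mem_Calg (x : Fin d → B) (hx1 : ∀ j, x j ∈ 𝒜 1) (k : ℕ) (i : Fin d) {y : B}
    (hy : y ∈ 𝒜 k) : tt (A := A) x k i y ∈ Calg 𝒜 d := by
  classical
  refine tprod_mem_Calg 𝒜 d (k := k) (fun j => ?_)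
  by_cases hj : j = i
  · subst hj; rw [Function.update_self]; exact hy
  · rw [Function.update_of_ne hj]
    have := SetLike.pow_mem_graded k (hx1 j)
    simpa using this

section primes

variable (P : Ideal (Calg 𝒜 d)) [hP : P.IsPrime] (x : Fin d → B)

theorem tprod_pow_notMem (hx1 : ∀ j, x j ∈ 𝒜 1) (hxP : tprod A x ∉ PT 𝒜 d P) (k : ℕ) :
    (tprod A x) ^ k ∉ PT 𝒜 d P := by
  have hxC : tprod A x ∈ Calg 𝒜 d := tprod_mem_Calg 𝒜 d hx1
  intro h
  rw [mem_PT_iff P ((Calg 𝒜 d).pow_mem hxC k)] at h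
  have h' : (⟨tprod A x, hxC⟩ : Calg 𝒜 d) ^ k ∈ P := h
  exact hxP ((mem_PT_iff P hxC).2 (hP.mem_of_pow_mem _ h'))

/-- carrier of the slot ideal -/
def pSet (i : Fin d) : Set B :=
  {b | ∀ k, tt (A := A) x k i (DirectSum.decompose 𝒜 b k : B) ∈ PT 𝒜 d P}

theorem pSet_zero (i : Fin d) : (0 : B) ∈ pSet P x i := by
  intro k
  rw [DirectSum.decompose_zero, DirectSum.zero_apply, ZeroMemClass.coe_zero, tt_zero]
  exact Submodule.zero_mem _

theorem pSet_add (i : Fin d) {b c : B} (hb : b ∈ pSet P x i) (hc : c ∈ pSet P x i) :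
    b + c ∈ pSet P x i := by
  intro k
  rw [DirectSum.decompose_add, DirectSum.add_apply, Submodule.coe_add, tt_add]
  exact Submodule.add_mem _ (hb k) (hc k)

theorem pSet_mul (hx1 : ∀ j, x j ∈ 𝒜 1) (i : Fin d) (r : B) {b : B} (hb : b ∈ pSet P x i) :
    r * b ∈ pSet P x i := by
  classical
  induction r using DirectSum.Decomposition.inductionOn 𝒜 with
  | zero => rw [zero_mul]; exact pSet_zero P x i
  | @homogeneous l r =>
    intro n
    by_cases hln : l ≤ n
    · rw [DirectSum.coe_decompose_mul_of_left_mem_of_le 𝒜 r.2 hln]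
      have hn : n = l + (n - l) := by omega
      have : tt (A := A) x n i ((r : B) * (DirectSum.decompose 𝒜 b (n - l) : B))
          = tt x l i (r : B) * tt x (n - l) i (DirectSum.decompose 𝒜 b (n - l) : B) := by
        rw [tt_mul, ← hn]
      rw [this]
      exact mul_mem_PT' P (tt_mem_Calg x hx1 l i r.2) (hb (n - l))
    · rw [DirectSum.coe_decompose_mul_of_left_mem_of_not_le 𝒜 r.2 hln, tt_zero]
      exact Submodule.zero_mem _
  | add m m' hm hm' =>
    rw [add_mul]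
    exact pSet_add P x i hm hm'

/-- the slot ideal -/
def pIdeal (hx1 : ∀ j, x j ∈ 𝒜 1) (i : Fin d) : Ideal B where
  carrier := pSet P x i
  add_mem' := pSet_add P x i
  zero_mem' := pSet_zero P x i
  smul_mem' r _ hb := pSet_mul P x hx1 i r hb

theorem mem_pIdeal_iff (hx1 : ∀ j, x j ∈ 𝒜 1) (i : Fin d) (b : B) :
    b ∈ pIdeal P x hx1 i ↔
      ∀ k, tt (A := A) x k i (DirectSum.decompose 𝒜 b k : B) ∈ PT 𝒜 d P := Iff.rfl

theorem mem_pIdeal_of_mem (hx1 : ∀ j, x j ∈ 𝒜 1) (i : Fin d) {k : ℕ} {y : B} (hy : y ∈ 𝒜 k) :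
    y ∈ pIdeal P x hx1 i ↔ tt (A := A) x k i y ∈ PT 𝒜 d P := by
  classical
  rw [mem_pIdeal_iff]
  constructor
  · intro h
    have := h k
    rwa [DirectSum.decompose_of_mem_same 𝒜 hy] at this
  · intro h n
    by_cases hkn : k = n
    · subst hkn
      rwa [DirectSum.decompose_of_mem_same 𝒜 hy]
    · rw [DirectSum.decompose_of_mem_ne 𝒜 hy hkn, tt_zero]
      exact Submodule.zero_mem _

theorem pIdeal_isHomogeneous (hx1 : ∀ j, x j ∈ 𝒜 1) (i : Fin d) :
    (pIdeal P x hx1 i).IsHomogeneous 𝒜 := by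
  intro n b hb
  rw [mem_pIdeal_of_mem P x hx1 i (SetLike.coe_mem _)]
  exact hb n

theorem notMem_pIdeal (hx1 : ∀ j, x j ∈ 𝒜 1) (hxP : tprod A x ∉ PT 𝒜 d P) (i : Fin d) :
    x i ∉ pIdeal P x hx1 i := by
  rw [mem_pIdeal_of_mem P x hx1 i (hx1 i)]
  have := tt_self (A := A) x 1 i
  rw [pow_one, pow_one] at this
  rw [this]
  exact hxP

theorem pIdeal_isPrime (hx1 : ∀ j, x j ∈ 𝒜 1) (hxP : tprod A x ∉ PT 𝒜 d P) (i : Fin d) :
    (pIdeal P x hx1 i).IsPrime := by
  refine (pIdeal_isHomogeneous P x hx1 i).isPrime_of_homogeneous_mem_or_mem ?_ ?_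
  · intro h
    exact notMem_pIdeal P x hx1 hxP i (h ▸ Submodule.mem_top)
  · rintro y z ⟨k, hy⟩ ⟨l, hz⟩ hyz
    rw [mem_pIdeal_of_mem P x hx1 i (SetLike.GradedMul.mul_mem hy hz), ← tt_mul] at hyz
    rw [mem_pIdeal_of_mem P x hx1 i hy, mem_pIdeal_of_mem P x hx1 i hz]
    exact PT_prime P (tt_mem_Calg x hx1 k i hy) (tt_mem_Calg x hx1 l i hz) hyz

/-- If `f ∈ 𝒜 n` avoids all slot primes then `f ⊗ ⋯ ⊗ f ∉ P`. -/
theorem tpow_notMem (hx1 : ∀ j, x j ∈ 𝒜 1) (hxP : tprod A x ∉ PT 𝒜 d P) {n : ℕ} {f : B}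
    (hf : f ∈ 𝒜 n) (hfp : ∀ i, f ∉ pIdeal P x hx1 i) :
    tprod A (fun _ : Fin d => f) ∉ PT 𝒜 d P := by
  classical
  intro hmem
  -- the product of the test tensors
  have hfac : ∀ i, tt (A := A) x n i f ∉ PT 𝒜 d P := fun i h =>
    hfp i ((mem_pIdeal_of_mem P x hx1 i hf).2 h)
  let c : Fin d → Calg 𝒜 d := fun i => ⟨tt (A := A) x n i f, tt_mem_Calg x hx1 n i hf⟩
  have hc : ∀ i, c i ∉ P := fun i h => hfac i ((mem_PT_iff P (c i).2).2 h)
  have hprodP : ∏ i, c i ∉ P := by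
    intro h
    obtain ⟨i, -, hi⟩ := (Ideal.IsPrime.prod_mem_iff (hp := hP)).1 h
    exact hc i hi
  apply hprodP
  have hcoe : ((∏ i, c i : Calg 𝒜 d) : ⨂[A] _ : Fin d, B) = ∏ i, tt (A := A) x n i f := by
    rw [SubmonoidClass.coe_finsetProd]
  have hval : ∏ i, tt (A := A) x n i f
      = tprod A (fun _ : Fin d => f) * tprod A (fun j => x j ^ (n * (d - 1))) := by
    unfold tt
    have h1 : ∏ i : Fin d, tprod A (Function.update (fun j => x j ^ n) i f)
        = tprod A (∏ i : Fin d, Function.update (fun j => x j ^ n) i f) :=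
      (map_prod (tprodMonoidHom (ι := Fin d) (A := fun _ => B) A) _ _).symm
    rw [h1, tprod_mul_tprod]
    congr 1
    funext j
    rw [Finset.prod_apply, Pi.mul_apply]
    rw [← Finset.mul_prod_erase _ _ (Finset.mem_univ j), Function.update_self]
    congr 1
    rw [Finset.prod_congr rfl (g := fun _ => x j ^ n)
      (fun i hi => by
        have hne : j ≠ i := fun e => (Finset.mem_erase.1 hi).1 e.symm
        rw [Function.update_of_ne hne])]
    rw [Finset.prod_const, Finset.card_erase_of_mem (Finset.mem_univ j), Finset.card_univ,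
      Fintype.card_fin, ← pow_mul]
  have hmemC : (∏ i, c i : Calg 𝒜 d) ∈ P := by
    rw [← mem_PT_iff P (∏ i, c i : Calg 𝒜 d).2, hcoe, hval]
    refine mul_mem_PT P hmem (tprod_mem_Calg 𝒜 d (k := n * (d - 1)) (fun j => ?_))
    have := SetLike.pow_mem_graded (n * (d - 1)) (hx1 j)
    simpa using this
  exact hmemC

/-- the avoidance: a homogeneous `f` of positive degree with `f^{⊗ d} ∉ P` -/
theorem exists_tpow_notMem (hx1 : ∀ j, x j ∈ 𝒜 1) (hxP : tprod A x ∉ PT 𝒜 d P) :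
    ∃ (n : ℕ) (f : B), 0 < n ∧ f ∈ 𝒜 n ∧ tprod A (fun _ : Fin d => f) ∉ PT 𝒜 d P := by
  classical
  obtain ⟨f, n, hn, hf, -, hfp⟩ := HomPrimeAvoid.avoid 𝒜 (fun i => pIdeal P x hx1 i)
    (HomogeneousIdeal.irrelevant 𝒜) le_rfl d Finset.univ (by simp)
    (fun i _ => pIdeal_isPrime P x hx1 hxP i)
    (fun i _ hle => by
      apply notMem_pIdeal P x hx1 hxP i
      apply hle
      show x i ∈ HomogeneousIdeal.irrelevant 𝒜
      rw [HomogeneousIdeal.mem_irrelevant_iff, GradedRing.proj_apply,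
        DirectSum.decompose_of_mem_ne 𝒜 (hx1 i) one_ne_zero])
  exact ⟨n, f, hn, hf, tpow_notMem P x hx1 hxP hf (fun i => hfp i (Finset.mem_univ i))⟩

end primes

end Groth.Agent.Lib.Helper20.SymCover
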