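import Mathlib
import Groth.Prelude.Def_SymTen
import Groth.Agent.Lib.Helper20.SymCover3

/-!
# Symmetric tensors: `Proj D` is covered by the `D_+(f ⊗ ⋯ ⊗ f)`.
-/

set_option autoImplicit false
set_option linter.unusedSectionVars false
set_option linter.unusedVariables false

namespace Groth.Agent.Lib.Helper20.SymCover

open scoped TensorProduct
open PiTensorProduct

universe u

variable {A B : Type u} [CommRing A] [CommRing B] [Algebra A B]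
variable (𝒜 : ℕ → Submodule A B) [GradedAlgebra 𝒜] (d : ℕ)

theorem tpow_mem_Dalg {n : ℕ} {f : B} (hf : f ∈ 𝒜 n) :
    tprod A (fun _ : Fin d => f) ∈ Dalg 𝒜 d :=
  ⟨tprod_mem_Calg 𝒜 d (fun _ => hf), (SymTen.tpow A B d f).2⟩

/-- reduction of the radical statement to primes of `C` -/
theorem pow_mem_of_forall_prime (J : Ideal (Dalg 𝒜 d)) (t : ⨂[A] _ : Fin d, B)
    (htD : t ∈ Dalg 𝒜 d)
    (h : ∀ P : Ideal (Calg 𝒜 d), P.IsPrime →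
      J ≤ P.comap (algebraMap (Dalg 𝒜 d) (Calg 𝒜 d)) → t ∈ PT 𝒜 d P) :
    ∃ m : ℕ, 0 < m ∧ (⟨t, htD⟩ : Dalg 𝒜 d) ^ m ∈ J := by
  by_contra hcon
  have hrad : (⟨t, htD⟩ : Dalg 𝒜 d) ∉ J.radical := by
    rintro ⟨m, hm⟩
    rcases Nat.eq_zero_or_pos m with h0 | h0
    · subst h0
      rw [pow_zero] at hm
      exact hcon ⟨1, one_pos, by rw [(Ideal.eq_top_iff_one _).2 hm]; trivial⟩
    · exact hcon ⟨m, h0, hm⟩
  rw [Ideal.radical_eq_sInf, Ideal.mem_sInf] at hrad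
  push Not at hrad
  obtain ⟨q, ⟨hJq, hqprime⟩, htq⟩ := hrad
  obtain ⟨P, hP, hPq⟩ := exists_prime_over 𝒜 d q
  have := h P hP (hPq ▸ hJq)
  rw [mem_PT_iff P (Dalg_le 𝒜 d htD)] at this
  apply htq
  rw [← hPq, Ideal.mem_comap]
  exact this

theorem main391 (hgen : Algebra.adjoin A (𝒜 1 : Set B) = ⊤)
    (k : ℕ) (hk : 0 < k) (t : ⨂[A] _ : Fin d, B) (htD : t ∈ Dalg 𝒜 d)
    (htk : t ∈ Submodule.span A
      {s | ∃ b : Fin d → B, (∀ i, b i ∈ 𝒜 k) ∧ s = PiTensorProduct.tprod A b}) :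
    ∃ m : ℕ, 0 < m ∧ (⟨t, htD⟩ : Dalg 𝒜 d) ^ m ∈
      Ideal.span {x : Dalg 𝒜 d | ∃ (n : ℕ) (f : B), 0 < n ∧ f ∈ 𝒜 n ∧
        (x : ⨂[A] _ : Fin d, B) = PiTensorProduct.tprod A (fun _ : Fin d => f)} := by
  apply pow_mem_of_forall_prime
  intro P hP hJP
  by_contra htP
  obtain ⟨x, hx1, hxP⟩ := exists_degOne hgen P k hk t htk htP
  obtain ⟨n, f, hn, hf, hfP⟩ := exists_tpow_notMem P x hx1 hxP
  apply hfP
  have hfD := tpow_mem_Dalg 𝒜 d hf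
  have hmem : (⟨_, hfD⟩ : Dalg 𝒜 d) ∈ P.comap (algebraMap (Dalg 𝒜 d) (Calg 𝒜 d)) :=
    hJP (Ideal.subset_span ⟨n, f, hn, hf, rfl⟩)
  rw [Ideal.mem_comap] at hmem
  exact (mem_PT_iff P (Dalg_le 𝒜 d hfD)).2 hmem

end Groth.Agent.Lib.Helper20.SymCover
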