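import Mathlib
import Groth.Prelude.Def_SymTen
import Groth.Agent.Lib.Helper20.SymCover4

/-!
# Symmetric tensors: covering by `D_+(f ⊗ ⋯ ⊗ f)` with `f` of degree one when the residue
fields are large enough.
-/

set_option autoImplicit false
set_option linter.unusedSectionVars false
set_option linter.unusedVariables false

namespace Groth.Agent.Lib.Helper20.SymCover

open scoped TensorProduct
open PiTensorProduct

universe u

section abstract

variable {A : Type u} [CommRing A]

/-- fractions representing `r` distinct elements of the residue field -/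
theorem exists_pairs (p : Ideal A) [p.IsPrime] (r : ℕ)
    (h : (r : Cardinal) ≤ Cardinal.mk p.ResidueField) :
    ∃ a s : Fin r → A, (∀ l, s l ∉ p) ∧ ∀ l l', l ≠ l' → a l * s l' - a l' * s l ∉ p := by
  classical
  obtain ⟨S, hS⟩ := Cardinal.le_mk_iff_exists_set.1 h
  obtain ⟨F, rfl, hF⟩ := Cardinal.mk_set_eq_nat_iff_finset.1 hS
  let e : Fin r ≃ F := (F.equivFinOfCardEq hF).symm
  have hrep : ∀ z : p.ResidueField, ∃ a s : A, s ∉ p ∧
      algebraMap A p.ResidueField s * z = algebraMap A p.ResidueField a := by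
    intro z
    obtain ⟨y, rfl⟩ := IsLocalRing.residue_surjective z
    obtain ⟨⟨a, s⟩, rfl⟩ := IsLocalization.mk'_surjective p.primeCompl y
    refine ⟨a, s.1, s.2, ?_⟩
    rw [IsScalarTower.algebraMap_apply A (Localization.AtPrime p) p.ResidueField,
      IsScalarTower.algebraMap_apply A (Localization.AtPrime p) p.ResidueField,
      IsLocalRing.ResidueField.algebraMap_eq, ← map_mul, mul_comm, IsLocalization.mk'_spec]
  choose a s hs hz using hrep
  refine ⟨fun l => a (e l).1, fun l => s (e l).1, fun l => hs _, fun l l' hll' hmem => ?_⟩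
  apply hll'
  apply e.injective
  apply Subtype.ext
  have h1 := hz (e l).1
  have h2 := hz (e l').1
  have hs1 : algebraMap A p.ResidueField (s (e l).1) ≠ 0 := fun h0 =>
    hs _ (Ideal.algebraMap_residueField_eq_zero.1 h0)
  have hs2 : algebraMap A p.ResidueField (s (e l').1) ≠ 0 := fun h0 =>
    hs _ (Ideal.algebraMap_residueField_eq_zero.1 h0)
  have h3 : algebraMap A p.ResidueField (a (e l).1 * s (e l').1 - a (e l').1 * s (e l).1) = 0 :=
    Ideal.algebraMap_residueField_eq_zero.2 hmem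
  rw [map_sub, map_mul, map_mul, ← h1, ← h2, sub_eq_zero] at h3
  have h4 : algebraMap A p.ResidueField (s (e l).1) * algebraMap A p.ResidueField (s (e l').1) *
      ((e l).1 - (e l').1) = 0 := by linear_combination h3
  rcases mul_eq_zero.1 h4 with h5 | h5
  · rcases mul_eq_zero.1 h5 with h6 | h6
    · exact absurd h6 hs1
    · exact absurd h6 hs2
  · exact sub_eq_zero.1 h5

variable {M : Type*} [AddCommGroup M] [Module A M]

/-- avoiding finitely many "saturated" proper submodules -/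
theorem linear_avoid (p : Ideal A) (r : ℕ) (a s : Fin r → A)
    (hs : ∀ l, s l ∉ p) (hdist : ∀ l l', l ≠ l' → a l * s l' - a l' * s l ∉ p) :
    ∀ (m : ℕ), m ≤ r → ∀ (N : Fin m → Submodule A M), (∀ i, N i ≠ ⊤) →
      (∀ i, ∀ c : A, c ∉ p → ∀ y : M, c • y ∈ N i → y ∈ N i) → ∃ y : M, ∀ i, y ∉ N i := by
  classical
  intro m
  induction m with
  | zero => intro _ N _ _; exact ⟨0, fun i => i.elim0⟩
  | succ m ih =>
    intro hm N hN hsat
    obtain ⟨u, hu⟩ := ih (by omega) (fun i => N i.castSucc) (fun i => hN _) (fun i => hsat _)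
    by_cases hul : u ∈ N (Fin.last m)
    swap
    · refine ⟨u, fun i => ?_⟩
      induction i using Fin.lastCases with
      | last => exact hul
      | cast i => exact hu i
    obtain ⟨w, hw⟩ : ∃ w, w ∉ N (Fin.last m) := by
      by_contra hcon
      push Not at hcon
      exact hN (Fin.last m) (Submodule.eq_top_iff'.2 hcon)
    let ι : Fin (m + 1) → Fin r := Fin.castLE hm
    have hι : Function.Injective ι := Fin.castLE_injective hm
    let y : Fin (m + 1) → M := fun l => s (ι l) • w + a (ι l) • u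
    have hylast : ∀ l, y l ∉ N (Fin.last m) := by
      intro l hmem
      have : s (ι l) • w ∈ N (Fin.last m) :=
        (Submodule.add_mem_iff_left _ (Submodule.smul_mem _ _ hul)).1 hmem
      exact hw (hsat _ _ (hs _) _ this)
    suffices h : ∃ l, ∀ i, y l ∉ N i by
      obtain ⟨l, hl⟩ := h
      exact ⟨y l, hl⟩
    by_contra hcon
    push Not at hcon
    choose j hj using hcon
    have hjne : ∀ l, j l ≠ Fin.last m := fun l e => hylast l (e ▸ hj l)
    let j' : Fin (m + 1) → Fin m := fun l => (j l).castPred (hjne l)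
    have hj' : ∀ l, (j' l).castSucc = j l := fun l => Fin.castSucc_castPred _ _
    obtain ⟨l, l', hne, heq⟩ := Fintype.exists_ne_map_eq_of_card_lt j' (by simp)
    have h1 : y l ∈ N (j' l).castSucc := by rw [hj']; exact hj l
    have h2 : y l' ∈ N (j' l).castSucc := by rw [heq, hj']; exact hj l'
    have h3 : (a (ι l) * s (ι l') - a (ι l') * s (ι l)) • u ∈ N (j' l).castSucc := by
      have : (a (ι l) * s (ι l') - a (ι l') * s (ι l)) • u
          = s (ι l') • y l - s (ι l) • y l' := by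
        simp only [y, smul_add, sub_smul, mul_smul]
        rw [smul_comm (s (ι l')) (s (ι l)) w, smul_comm (s (ι l')) (a (ι l)) u,
          smul_comm (s (ι l)) (a (ι l')) u]
        abel
      rw [this]
      exact Submodule.sub_mem _ (Submodule.smul_mem _ _ h1) (Submodule.smul_mem _ _ h2)
    exact hu _ (hsat _ _ (hdist _ _ (fun e => hne (hι e))) _ h3)

end abstract

variable {A B : Type u} [CommRing A] [CommRing B] [Algebra A B]
variable (𝒜 : ℕ → Submodule A B) [GradedAlgebra 𝒜] (d : ℕ)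

theorem tt_zero_algebraMap (x : Fin d → B) (i : Fin d) (c : A) :
    tt (A := A) x 0 i (algebraMap A B c) = algebraMap A (⨂[A] _ : Fin d, B) c := by
  classical
  rw [Algebra.algebraMap_eq_smul_one, tt_smul]
  have := tt_self (A := A) x 0 i
  rw [pow_zero, pow_zero] at this
  rw [this, Algebra.algebraMap_eq_smul_one]

variable {𝒜 d}

/-- the avoidance in degree one -/
theorem exists_tpow_notMem_degOne
    (hres : ∀ p : PrimeSpectrum A, (d : Cardinal) ≤ Cardinal.mk p.asIdeal.ResidueField)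
    (P : Ideal (Calg 𝒜 d)) [hP : P.IsPrime] (x : Fin d → B)
    (hx1 : ∀ j, x j ∈ 𝒜 1) (hxP : tprod A x ∉ PT 𝒜 d P) :
    ∃ f : B, f ∈ 𝒜 1 ∧ tprod A (fun _ : Fin d => f) ∉ PT 𝒜 d P := by
  classical
  obtain ⟨p, hp⟩ : ∃ p : PrimeSpectrum A,
      p.asIdeal = P.comap (algebraMap A (Calg 𝒜 d)) :=
    ⟨⟨P.comap (algebraMap A (Calg 𝒜 d)), inferInstance⟩, rfl⟩
  obtain ⟨a, s, hs, hdist⟩ := exists_pairs p.asIdeal d (hres p)
  have hprime : ∀ i, (pIdeal P x hx1 i).IsPrime := fun i => pIdeal_isPrime P x hx1 hxP i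
  have hmemp : ∀ (i : Fin d) (c : A), algebraMap A B c ∈ pIdeal P x hx1 i → c ∈ p.asIdeal := by
    intro i c hc
    rw [mem_pIdeal_of_mem P x hx1 i (SetLike.algebraMap_mem_graded 𝒜 c),
      tt_zero_algebraMap, mem_PT_iff P (Subalgebra.algebraMap_mem _ c)] at hc
    rw [hp, Ideal.mem_comap]
    exact hc
  obtain ⟨y, hy⟩ := linear_avoid (M := 𝒜 1) p.asIdeal d a s hs hdist d le_rfl
    (fun i => Submodule.comap (𝒜 1).subtype ((pIdeal P x hx1 i).restrictScalars A))
    (fun i htop => by
      have : (⟨x i, hx1 i⟩ : 𝒜 1) ∈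
          Submodule.comap (𝒜 1).subtype ((pIdeal P x hx1 i).restrictScalars A) := by
        rw [htop]; trivial
      exact notMem_pIdeal P x hx1 hxP i this)
    (fun i c hc y hy => by
      have hy' : c • (y : B) ∈ pIdeal P x hx1 i := hy
      rw [Algebra.smul_def] at hy'
      rcases (hprime i).mem_or_mem hy' with h | h
      · exact absurd (hmemp i c h) hc
      · exact h)
  exact ⟨y.1, y.2, tpow_notMem P x hx1 hxP y.2 (fun i h => hy i h)⟩

variable (𝒜 d)

theorem main392 (hgen : Algebra.adjoin A (𝒜 1 : Set B) = ⊤)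
    (hres : ∀ p : PrimeSpectrum A, (d : Cardinal) ≤ Cardinal.mk p.asIdeal.ResidueField)
    (k : ℕ) (hk : 0 < k) (t : ⨂[A] _ : Fin d, B) (htD : t ∈ Dalg 𝒜 d)
    (htk : t ∈ Submodule.span A
      {s | ∃ b : Fin d → B, (∀ i, b i ∈ 𝒜 k) ∧ s = PiTensorProduct.tprod A b}) :
    ∃ m : ℕ, 0 < m ∧ (⟨t, htD⟩ : Dalg 𝒜 d) ^ m ∈
      Ideal.span {x : Dalg 𝒜 d | ∃ f : B, f ∈ 𝒜 1 ∧
        (x : ⨂[A] _ : Fin d, B) = PiTensorProduct.tprod A (fun _ : Fin d => f)} := by
  apply pow_mem_of_forall_prime
  intro P hP hJP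
  by_contra htP
  obtain ⟨x, hx1, hxP⟩ := exists_degOne hgen P k hk t htk htP
  obtain ⟨f, hf, hfP⟩ := exists_tpow_notMem_degOne hres P x hx1 hxP
  apply hfP
  have hfD := tpow_mem_Dalg 𝒜 d hf
  have hmem : (⟨_, hfD⟩ : Dalg 𝒜 d) ∈ P.comap (algebraMap (Dalg 𝒜 d) (Calg 𝒜 d)) :=
    hJP (Ideal.subset_span ⟨f, hf, rfl⟩)
  rw [Ideal.mem_comap] at hmem
  exact (mem_PT_iff P (Dalg_le 𝒜 d hfD)).2 hmem

end Groth.Agent.Lib.Helper20.SymCover
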