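import Mathlib
import Groth.Prelude.Def_SymTen
import Groth.Agent.Lib.Helper20.SymCover4

/-!
# Symmetric tensors: `Proj D` is covered in degree one (orbit sums of pure tensors).
-/

set_option autoImplicit false
set_option linter.unusedSectionVars false
set_option linter.unusedVariables false

namespace Groth.Agent.Lib.Helper20.SymCover

open scoped TensorProduct
open PiTensorProduct

universe u

variable {A B : Type u} [CommRing A] [CommRing B] [Algebra A B]
variable {𝒜 : ℕ → Submodule A B} [GradedAlgebra 𝒜] {d : ℕ}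

/-- product of the slot test tensors -/
theorem prod_tt_one (x y : Fin d → B) :
    ∏ i, tt (A := A) x 1 i (y i) = tprod A y * tprod A (fun j => x j ^ (d - 1)) := by
  classical
  unfold tt
  have h1 : ∏ i : Fin d, tprod A (Function.update (fun j => x j ^ 1) i (y i))
      = tprod A (∏ i : Fin d, Function.update (fun j => x j ^ 1) i (y i)) :=
    (map_prod (tprodMonoidHom (ι := Fin d) (A := fun _ => B) A) _ _).symm
  rw [h1, tprod_mul_tprod]
  congr 1
  funext j
  rw [Finset.prod_apply, Pi.mul_apply]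
  rw [← Finset.mul_prod_erase _ _ (Finset.mem_univ j), Function.update_self]
  congr 1
  rw [Finset.prod_congr rfl (g := fun _ => x j)
    (fun i hi => by
      have hne : j ≠ i := fun e => (Finset.mem_erase.1 hi).1 e.symm
      rw [Function.update_of_ne hne, pow_one])]
  rw [Finset.prod_const, Finset.card_erase_of_mem (Finset.mem_univ j), Finset.card_univ,
    Fintype.card_fin]

theorem prod_mem_PT (P : Ideal (Calg 𝒜 d)) {ι : Type*} (s : Finset ι)
    (c : ι → ⨂[A] _ : Fin d, B) (hc : ∀ i ∈ s, c i ∈ Calg 𝒜 d) (i : ι) (hi : i ∈ s)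
    (hci : c i ∈ PT 𝒜 d P) : ∏ i ∈ s, c i ∈ PT 𝒜 d P := by
  classical
  rw [← Finset.mul_prod_erase _ _ hi]
  exact mul_mem_PT P hci (Subalgebra.prod_mem _ fun j hj => hc j (Finset.mem_of_mem_erase hj))

theorem prod_notMem_PT (P : Ideal (Calg 𝒜 d)) [hP : P.IsPrime] {ι : Type*} (s : Finset ι)
    (c : ι → ⨂[A] _ : Fin d, B) (hc : ∀ i ∈ s, c i ∈ Calg 𝒜 d)
    (hci : ∀ i ∈ s, c i ∉ PT 𝒜 d P) : ∏ i ∈ s, c i ∉ PT 𝒜 d P := by
  classical
  induction s using Finset.induction_on with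
  | empty =>
    rw [Finset.prod_empty]
    intro h
    rw [mem_PT_iff P (Subalgebra.one_mem _)] at h
    exact hP.ne_top ((Ideal.eq_top_iff_one _).2 h)
  | insert a s ha ih =>
    rw [Finset.prod_insert ha]
    intro h
    rcases PT_prime P (hc a (Finset.mem_insert_self a s))
      (Subalgebra.prod_mem _ fun j hj => hc j (Finset.mem_insert_of_mem hj)) h with h1 | h1
    · exact hci a (Finset.mem_insert_self a s) h1
    · exact ih (fun j hj => hc j (Finset.mem_insert_of_mem hj))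
        (fun j hj => hci j (Finset.mem_insert_of_mem hj)) h1

section orbit

variable (x : Fin d → B)

/-- orbit sum of the pure tensor `x_{l 0} ⊗ ⋯ ⊗ x_{l (d-1)}` -/
noncomputable def orbitSum (l : Fin d → Fin d) : ⨂[A] _ : Fin d, B :=
  ∑ φ ∈ (Finset.univ.image (fun σ : Equiv.Perm (Fin d) => l ∘ σ)), tprod A (fun i => x (φ i))

theorem orbitSum_mem_span (hx1 : ∀ j, x j ∈ 𝒜 1) (l : Fin d → Fin d) :
    orbitSum (A := A) x l ∈ Submodule.span A
      {s | ∃ b : Fin d → B, (∀ i, b i ∈ 𝒜 1) ∧ s = PiTensorProduct.tprod A b} := by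
  unfold orbitSum
  refine Submodule.sum_mem _ fun φ _ => Submodule.subset_span ⟨_, fun i => hx1 _, rfl⟩

theorem orbitSum_mem_Calg (hx1 : ∀ j, x j ∈ 𝒜 1) (l : Fin d → Fin d) :
    orbitSum (A := A) x l ∈ Calg 𝒜 d := by
  unfold orbitSum
  exact Subalgebra.sum_mem _ fun φ _ => tprod_mem_Calg 𝒜 d (k := 1) (fun i => hx1 _)

theorem orbitSum_mem_TS (l : Fin d → Fin d) :
    orbitSum (A := A) x l ∈ SymTen.TS A B d := by
  classical
  intro τ
  unfold orbitSum
  rw [map_sum]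
  simp only [PiTensorProduct.reindex_tprod]
  refine Finset.sum_nbij' (fun φ => φ ∘ τ.symm) (fun φ => φ ∘ τ) ?_ ?_ ?_ ?_ ?_
  · intro φ hφ
    obtain ⟨σ, -, rfl⟩ := Finset.mem_image.1 hφ
    exact Finset.mem_image.2 ⟨σ * τ.symm, Finset.mem_univ _, rfl⟩
  · intro φ hφ
    obtain ⟨σ, -, rfl⟩ := Finset.mem_image.1 hφ
    exact Finset.mem_image.2 ⟨σ * τ, Finset.mem_univ _, rfl⟩
  · intro φ _
    funext i
    simp
  · intro φ _
    funext i
    simp
  · intro φ _
    rfl

end orbit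

/-- the degree one avoidance: some symmetric tensor in the span of the degree one pure tensors
lies outside `P`. -/
theorem exists_degOne_sym_notMem (P : Ideal (Calg 𝒜 d)) [hP : P.IsPrime] (x : Fin d → B)
    (hx1 : ∀ j, x j ∈ 𝒜 1) (hxP : tprod A x ∉ PT 𝒜 d P) :
    ∃ g : ⨂[A] _ : Fin d, B, g ∈ Dalg 𝒜 d ∧ g ∈ Submodule.span A
      {s | ∃ b : Fin d → B, (∀ i, b i ∈ 𝒜 1) ∧ s = PiTensorProduct.tprod A b} ∧
      g ∉ PT 𝒜 d P := by
  classical
  -- the minimal good index in each slot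
  have hne : ∀ i : Fin d, (Finset.univ.filter
      (fun l : Fin d => tt (A := A) x 1 i (x l) ∉ PT 𝒜 d P)).Nonempty := by
    intro i
    refine ⟨i, Finset.mem_filter.2 ⟨Finset.mem_univ _, ?_⟩⟩
    have := tt_self (A := A) x 1 i
    rw [pow_one, pow_one] at this
    rw [this]
    exact hxP
  let lmin : Fin d → Fin d := fun i => (Finset.univ.filter
      (fun l : Fin d => tt (A := A) x 1 i (x l) ∉ PT 𝒜 d P)).min' (hne i)
  have hl1 : ∀ i, tt (A := A) x 1 i (x (lmin i)) ∉ PT 𝒜 d P := fun i =>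
    (Finset.mem_filter.1 (Finset.min'_mem _ (hne i))).2
  have hl2 : ∀ i l, l < lmin i → tt (A := A) x 1 i (x l) ∈ PT 𝒜 d P := by
    intro i l hlt
    by_contra hcon
    have : lmin i ≤ l := Finset.min'_le _ l (Finset.mem_filter.2 ⟨Finset.mem_univ _, hcon⟩)
    exact absurd hlt (not_lt.2 this)
  refine ⟨orbitSum (A := A) x lmin, ⟨orbitSum_mem_Calg x hx1 lmin, orbitSum_mem_TS x lmin⟩,
    orbitSum_mem_span x hx1 lmin, ?_⟩
  intro hmem
  have hxC : tprod A (fun j => x j ^ (d - 1)) ∈ Calg 𝒜 d := by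
    refine tprod_mem_Calg 𝒜 d (k := d - 1) (fun j => ?_)
    have := SetLike.pow_mem_graded (d - 1) (hx1 j)
    simpa using this
  have hprod := mul_mem_PT P hmem hxC
  unfold orbitSum at hprod
  rw [Finset.sum_mul] at hprod
  have hterm : ∀ φ : Fin d → Fin d,
      tprod A (fun i => x (φ i)) * tprod A (fun j => x j ^ (d - 1))
        = ∏ i, tt (A := A) x 1 i (x (φ i)) := fun φ => (prod_tt_one x (fun i => x (φ i))).symm
  simp only [hterm] at hprod
  have hlmem : lmin ∈ Finset.univ.image (fun σ : Equiv.Perm (Fin d) => lmin ∘ σ) :=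
    Finset.mem_image.2 ⟨1, Finset.mem_univ _, rfl⟩
  rw [← Finset.add_sum_erase _ _ hlmem] at hprod
  have hrest : ∑ φ ∈ (Finset.univ.image (fun σ : Equiv.Perm (Fin d) => lmin ∘ σ)).erase lmin,
      ∏ i, tt (A := A) x 1 i (x (φ i)) ∈ PT 𝒜 d P := by
    refine Submodule.sum_mem _ fun φ hφ => ?_
    obtain ⟨hφne, hφ'⟩ := Finset.mem_erase.1 hφ
    obtain ⟨σ, -, rfl⟩ := Finset.mem_image.1 hφ'
    -- some slot has a smaller index
    have hex : ∃ i, (lmin ∘ σ) i < lmin i := by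
      by_contra hcon
      push Not at hcon
      apply hφne
      have hsum : ∑ i, ((lmin i : Fin d) : ℕ) = ∑ i, (((lmin ∘ σ) i : Fin d) : ℕ) :=
        (Equiv.sum_comp σ (fun i => ((lmin i : Fin d) : ℕ))).symm
      have := (Finset.sum_eq_sum_iff_of_le (s := Finset.univ)
        (f := fun i => ((lmin i : Fin d) : ℕ)) (g := fun i => (((lmin ∘ σ) i : Fin d) : ℕ))
        (fun i _ => Fin.le_def.1 (hcon i))).1 hsum
      funext i
      exact (Fin.ext (this i (Finset.mem_univ i))).symm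
    obtain ⟨i, hi⟩ := hex
    exact prod_mem_PT P Finset.univ _
      (fun j _ => tt_mem_Calg x hx1 1 j (hx1 _)) i (Finset.mem_univ i) (hl2 i _ hi)
  have hmain : ∏ i, tt (A := A) x 1 i (x (lmin i)) ∈ PT 𝒜 d P :=
    (Submodule.add_mem_iff_left _ hrest).1 hprod
  exact prod_notMem_PT P Finset.univ _ (fun j _ => tt_mem_Calg x hx1 1 j (hx1 _))
    (fun j _ => hl1 j) hmain

variable (𝒜 d)

theorem main390 (hgen : Algebra.adjoin A (𝒜 1 : Set B) = ⊤)
    (k : ℕ) (hk : 0 < k) (t : ⨂[A] _ : Fin d, B) (htD : t ∈ Dalg 𝒜 d)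
    (htk : t ∈ Submodule.span A
      {s | ∃ b : Fin d → B, (∀ i, b i ∈ 𝒜 k) ∧ s = PiTensorProduct.tprod A b}) :
    ∃ m : ℕ, 0 < m ∧ (⟨t, htD⟩ : Dalg 𝒜 d) ^ m ∈
      Ideal.span {x : Dalg 𝒜 d | (x : ⨂[A] _ : Fin d, B) ∈
        Submodule.span A {s | ∃ b : Fin d → B, (∀ i, b i ∈ 𝒜 1) ∧
          s = PiTensorProduct.tprod A b}} := by
  apply pow_mem_of_forall_prime
  intro P hP hJP
  by_contra htP
  obtain ⟨x, hx1, hxP⟩ := exists_degOne hgen P k hk t htk htP
  obtain ⟨g, hgD, hgspan, hgP⟩ := exists_degOne_sym_notMem P x hx1 hxP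
  apply hgP
  have hmem : (⟨g, hgD⟩ : Dalg 𝒜 d) ∈ P.comap (algebraMap (Dalg 𝒜 d) (Calg 𝒜 d)) :=
    hJP (Ideal.subset_span hgspan)
  rw [Ideal.mem_comap] at hmem
  exact (mem_PT_iff P (Dalg_le 𝒜 d hgD)).2 hmem

end Groth.Agent.Lib.Helper20.SymCover
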