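import Mathlib
import Groth.Agent.Lib.Helper20.SymCover5

/-!
# Points of `Proj` over one prime with large residue field lie in a common `D_+(g)`, `g ∈ B_1`.
-/

set_option autoImplicit false
set_option linter.unusedSectionVars false
set_option linter.unusedVariables false

namespace Groth.Agent.Lib.Helper20.SymCover

universe u

variable {R A : Type u} [CommRing R] [CommRing A] [Algebra R A]
variable (𝒜 : ℕ → Submodule R A) [GradedAlgebra 𝒜]

/-- a prime containing the degree one part contains the irrelevant ideal -/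
theorem irrelevant_le_of_degOne_le (hgen : Algebra.adjoin R (𝒜 1 : Set A) = ⊤)
    (q : Ideal A) (hq : ∀ y ∈ 𝒜 1, y ∈ q) :
    (HomogeneousIdeal.irrelevant 𝒜).toIdeal ≤ q := by
  classical
  intro b hb
  have hb0 : (DirectSum.decompose 𝒜 b 0 : A) = 0 := by
    have := (HomogeneousIdeal.mem_irrelevant_iff 𝒜 b).1 hb
    rwa [GradedRing.proj_apply] at this
  rw [← DirectSum.sum_support_decompose 𝒜 b]
  refine Ideal.sum_mem _ fun k _ => ?_
  rcases Nat.eq_zero_or_pos k with h0 | h0
  · subst h0; rw [hb0]; exact q.zero_mem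
  · have hmem := proj_mem_span_prods (𝒜 := 𝒜) hgen b k
    have hle : Submodule.span R (prods (𝒜 := 𝒜) k) ≤ q.restrictScalars R := by
      refine Submodule.span_le.2 ?_
      rintro _ ⟨g, hg, rfl⟩
      show ∏ m, g m ∈ q
      rw [← Finset.mul_prod_erase _ _ (Finset.mem_univ (⟨0, h0⟩ : Fin k))]
      exact q.mul_mem_right _ (hq _ (hg _))
    exact hle hmem

theorem main167 (hgen : Algebra.adjoin R (𝒜 1 : Set A) = ⊤)
    (p : Ideal R) [p.IsPrime] {d : ℕ} (q : Fin d → Ideal A) (hqprime : ∀ i, (q i).IsPrime)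
    (hqirr : ∀ i, ¬ (HomogeneousIdeal.irrelevant 𝒜).toIdeal ≤ q i)
    (hx : ∀ i, (q i).comap (algebraMap R A) = p)
    (hcard : (d : Cardinal) ≤ Cardinal.mk p.ResidueField) :
    ∃ g ∈ 𝒜 1, ∀ i, g ∉ q i := by
  classical
  obtain ⟨a, s, hs, hdist⟩ := exists_pairs p d hcard
  obtain ⟨y, hy⟩ := linear_avoid (M := 𝒜 1) p d a s hs hdist d le_rfl
    (fun i => Submodule.comap (𝒜 1).subtype ((q i).restrictScalars R))
    (fun i htop => by
      apply hqirr i
      apply irrelevant_le_of_degOne_le 𝒜 hgen
      intro y hy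
      have : (⟨y, hy⟩ : 𝒜 1) ∈ Submodule.comap (𝒜 1).subtype ((q i).restrictScalars R) := by
        rw [htop]; trivial
      exact this)
    (fun i c hc y hy => by
      have hy' : c • (y : A) ∈ q i := hy
      rw [Algebra.smul_def] at hy'
      rcases (hqprime i).mem_or_mem hy' with h | h
      · exfalso
        apply hc
        rw [← hx i, Ideal.mem_comap]
        exact h
      · exact h)
  exact ⟨y.1, y.2, fun i h => hy i h⟩

end Groth.Agent.Lib.Helper20.SymCover
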