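import Mathlib
import Groth.Prelude.Def_SymTen
import Groth.Agent.Lib.Helper20.SymGen1

/-!
# Symmetric tensors of a flat algebra are generated by elementary symmetric tensors
-/

namespace Groth.Agent.Lib.Helper20.SymGen

open scoped TensorProduct
open Groth.Agent.Lib.Helper20.PLPolar Groth.Agent.Lib.Helper20.PLTS

universe u

section Bool

variable (R : Type u) [CommRing R] (A : Type u) [CommRing A] [Algebra R A] (n : ℕ)

/-- subsets of `Fin n` as Boolean functions -/
def boolEquiv : (Fin n → Bool) ≃ Finset (Fin n) where
  toFun c := Finset.univ.filter (fun i => c i = true)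
  invFun I := fun i => decide (i ∈ I)
  left_inv c := by ext i; simp
  right_inv I := by ext i; simp

theorem O_bool (a : A) (j : ℕ) :
    O R A n (fun t : Bool => if t then a else 1)
        (Finsupp.single true j + Finsupp.single false (n - j)) =
      ∑ I ∈ (Finset.univ : Finset (Fin n)).powersetCard j,
        PiTensorProduct.tprod R (fun i : Fin n => if i ∈ I then a else (1 : A)) := by
  classical
  rw [Finset.powersetCard_eq_filter, Finset.powerset_univ, Finset.sum_filter]
  unfold O
  refine Fintype.sum_equiv (boolEquiv n) _ _ ?_
  intro c
  have hiff : typ c = Finsupp.single true j + Finsupp.single false (n - j) ↔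
      (boolEquiv n c).card = j := by
    have hcard : (boolEquiv n c).card = typ c true := by
      rw [typ_apply]
      rfl
    have hdeg : typ c true + typ c false = n := by
      have := degree_typ c
      rw [Finsupp.degree_eq_sum, Fintype.sum_bool] at this
      exact this
    rw [hcard]
    constructor
    · intro h
      rw [h]
      simp
    · intro h
      ext t
      cases t
      · simp
        omega
      · simp
        exact h
  have hfun : (fun i => (fun t : Bool => if t then a else 1) (c i)) =
      fun i => if i ∈ boolEquiv n c then a else 1 := by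
    funext i
    simp [boolEquiv]
  rw [hfun]
  by_cases h : (boolEquiv n c).card = j
  · have h' := hiff.mpr h
    simp only [h', h, if_true]
  · have h' := hiff.not.mpr h
    simp only [h', h, if_false]

theorem O_mem_of_forall {κ : Type} [Fintype κ] (S : Subalgebra R (⨂[R] _ : Fin n, A))
    (m : κ → A) (k₀ : κ) (hk₀ : m k₀ = 1) (ν : κ →₀ ℕ) (h : ∀ i, i ≠ k₀ → ν i = 0) :
    O R A n m ν ∈ S := by
  classical
  unfold O
  refine Subalgebra.sum_mem _ (fun c _ => ?_)
  by_cases hc : typ c = ν
  · have hall : ∀ s, c s = k₀ := by
      intro s
      by_contra hs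
      have := typ_pos c s
      rw [hc, h _ hs] at this
      exact this rfl
    have hfun : (fun i => m (c i)) = fun _ => (1 : A) := by
      funext i
      rw [hall i, hk₀]
    rw [if_pos hc, hfun]
    have h1 : PiTensorProduct.tprod R (fun _ : Fin n => (1 : A)) = 1 := rfl
    rw [h1]
    exact Subalgebra.one_mem _
  · rw [if_neg hc]
    exact Subalgebra.zero_mem _

end Bool

section Marg

variable {κ : Type} [Fintype κ] [DecidableEq κ]

theorem marg_fst (x : κ × Bool →₀ ℕ) (i : κ) :
    Finsupp.mapDomain Prod.fst x i = x (i, false) + x (i, true) := by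
  unfold Finsupp.mapDomain
  rw [Finsupp.sum_fintype _ _ (fun _ => Finsupp.single_zero _), Finsupp.finsetSum_apply,
    Fintype.sum_prod_type]
  simp only [Finsupp.single_apply, Fintype.sum_bool]
  rw [Finset.sum_add_distrib, Finset.sum_ite_eq', Finset.sum_ite_eq']
  simp only [Finset.mem_univ, if_true]
  exact add_comm _ _

omit [DecidableEq κ] in
theorem marg_snd_true (x : κ × Bool →₀ ℕ) :
    Finsupp.mapDomain Prod.snd x true = ∑ i, x (i, true) := by
  unfold Finsupp.mapDomain
  rw [Finsupp.sum_fintype _ _ (fun _ => Finsupp.single_zero _), Finsupp.finsetSum_apply,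
    Fintype.sum_prod_type]
  simp only [Finsupp.single_apply, Fintype.sum_bool]
  simp

end Marg

end Groth.Agent.Lib.Helper20.SymGen
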