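import Mathlib
import Groth.Prelude.Def_SymTen
import Groth.Agent.Lib.Helper20.SymGen2

/-!
# Symmetric tensors of a flat algebra are generated by elementary symmetric tensors: induction
-/

namespace Groth.Agent.Lib.Helper20.SymGen

open scoped TensorProduct
open Groth.Agent.Lib.Helper20.PLPolar Groth.Agent.Lib.Helper20.PLTS

universe u

variable (R : Type u) [CommRing R] (A : Type u) [CommRing A] [Algebra R A] (n : ℕ)

/-- the subalgebra generated by the elementary symmetric tensors -/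
noncomputable def Sg : Subalgebra R (⨂[R] _ : Fin n, A) :=
  Algebra.adjoin R {t : ⨂[R] _ : Fin n, A | ∃ (a : A) (j : ℕ),
      t = ∑ I ∈ (Finset.univ : Finset (Fin n)).powersetCard j,
        PiTensorProduct.tprod R (fun i : Fin n => if i ∈ I then a else (1 : A))}

open Classical in
theorem O_mul' {κ κ' : Type} [Fintype κ] [Fintype κ']
    (m : κ → A) (m' : κ' → A) (β : κ →₀ ℕ) (δ : κ' →₀ ℕ) :
    ∃ T : Finset (κ × κ' →₀ ℕ),
      (∀ ν', ν' ∈ T ↔ (∃ e : Fin n → κ × κ', typ e = ν') ∧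
        (Finsupp.mapDomain Prod.fst ν' = β ∧ Finsupp.mapDomain Prod.snd ν' = δ)) ∧
      O R A n m β * O R A n m' δ = ∑ ν' ∈ T, O R A n (fun p : κ × κ' => m p.1 * m' p.2) ν' := by
  exact ⟨_, fun ν' => Finset.mem_filter.trans (and_congr (by simp) Iff.rfl), O_mul R A n m m' β δ⟩

theorem O_mem_Sg : ∀ (w : ℕ) {κ : Type} [Fintype κ] [DecidableEq κ] (m : κ → A) (k₀ : κ)
    (_ : m k₀ = 1) (ν : κ →₀ ℕ), ν.degree - ν k₀ = w → O R A n m ν ∈ Sg R A n := by
  intro w
  induction w using Nat.strong_induction_on with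
  | _ w ih =>
  intro κ _ _ m k₀ hk₀ ν hw
  by_cases hn : ν.degree = n
  swap
  · rw [O_eq_zero_of_degree_ne R A n m ν hn]
    exact Subalgebra.zero_mem _
  by_cases hex : ∃ i₁, i₁ ≠ k₀ ∧ ν i₁ ≠ 0
  swap
  · push Not at hex
    exact O_mem_of_forall R A n _ m k₀ hk₀ ν hex
  obtain ⟨i₁, hi₁, hj0⟩ := hex
  obtain ⟨j, hj⟩ : ∃ j, j = ν i₁ := ⟨_, rfl⟩
  obtain ⟨b, hb⟩ : ∃ b, b = m i₁ := ⟨_, rfl⟩
  obtain ⟨ε, hε⟩ : ∃ ε, ε = ν.erase i₁ := ⟨_, rfl⟩
  have hdec : ε + Finsupp.single i₁ j = ν := by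
    rw [hε, hj]
    exact Finsupp.erase_add_single i₁ ν
  have hεi₁ : ε i₁ = 0 := by rw [hε]; exact Finsupp.erase_same
  have hεne : ∀ i, i ≠ i₁ → ε i = ν i := fun i hi => by rw [hε]; exact Finsupp.erase_ne hi
  have hDν : ν.degree = ε.degree + j := by
    have := congrArg Finsupp.degree hdec
    rw [map_add, Finsupp.degree_single] at this
    exact this.symm
  have hk₀le : ν k₀ ≤ ε.degree := by
    rw [← hεne k₀ (Ne.symm hi₁)]
    exact Finsupp.le_degree k₀ ε
  have hj0' : j ≠ 0 := by rw [hj]; exact hj0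
  obtain ⟨β, hβ⟩ : ∃ β : κ →₀ ℕ, β = ε + Finsupp.single k₀ j := ⟨_, rfl⟩
  have hβdeg : β.degree = ε.degree + j := by rw [hβ, map_add, Finsupp.degree_single]
  have hβk₀ : β k₀ = ν k₀ + j := by
    rw [hβ, Finsupp.add_apply, Finsupp.single_eq_same, hεne k₀ hi₁.symm]
  have hβi₁ : β i₁ = 0 := by
    rw [hβ, Finsupp.add_apply, hεi₁, Finsupp.single_eq_of_ne hi₁, add_zero]
  have hβne : ∀ i, i ≠ k₀ → i ≠ i₁ → β i = ν i := by
    intro i h1 h2
    rw [hβ, Finsupp.add_apply, hεne i h2, Finsupp.single_eq_of_ne h1, add_zero]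
  -- induction hypothesis for `β`
  have h1 : O R A n m β ∈ Sg R A n := ih (β.degree - β k₀) (by omega) m k₀ hk₀ β rfl
  obtain ⟨δ, hδ⟩ : ∃ δ : Bool →₀ ℕ, δ = Finsupp.single true j + Finsupp.single false (n - j) :=
    ⟨_, rfl⟩
  have hδt : δ true = j := by rw [hδ]; simp
  have h2 : O R A n (fun t : Bool => if t then b else 1) δ ∈ Sg R A n := by
    rw [hδ, O_bool R A n b j]
    exact Algebra.subset_adjoin ⟨b, j, rfl⟩
  obtain ⟨T, hTmem, hprod⟩ := O_mul' R A n m (fun t : Bool => if t then b else 1) β δ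
  obtain ⟨M, hM⟩ : ∃ M : κ × Bool → A, M = fun p => m p.1 * (if p.2 then b else 1) := ⟨_, rfl⟩
  rw [← hM] at hprod
  have hMk₀ : M (k₀, false) = 1 := by rw [hM]; simp [hk₀]
  -- the embedding
  obtain ⟨J, hJdef⟩ : ∃ J : κ → κ × Bool, J = fun i => if i = i₁ then (k₀, true) else (i, false) :=
    ⟨_, rfl⟩
  have hJi₁ : J i₁ = (k₀, true) := by rw [hJdef]; simp
  have hJne : ∀ i, i ≠ i₁ → J i = (i, false) := fun i hi => by rw [hJdef]; simp [hi]
  have hJ : Function.Injective J := by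
    intro x y hxy
    by_cases hx : x = i₁
    · by_cases hy : y = i₁
      · rw [hx, hy]
      · rw [hx, hJi₁, hJne y hy] at hxy
        simp at hxy
    · by_cases hy : y = i₁
      · rw [hy, hJi₁, hJne x hx] at hxy
        simp at hxy
      · rw [hJne x hx, hJne y hy] at hxy
        exact (Prod.mk.inj hxy).1
  have hMJ : (fun i => M (J i)) = m := by
    funext i
    by_cases hi : i = i₁
    · rw [hi, hJi₁, hM]
      simp [hk₀, hb]
    · rw [hJne i hi, hM]
      simp
  obtain ⟨ν₀, hν₀⟩ : ∃ ν₀, ν₀ = Finsupp.mapDomain J ν := ⟨_, rfl⟩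
  have hO : O R A n M ν₀ = O R A n m ν := by rw [hν₀, O_mapDomain R A n J hJ, hMJ]
  -- values of `ν₀`
  have hv1 : ν₀ (k₀, true) = j := by
    rw [hν₀, ← hJi₁, Finsupp.mapDomain_apply hJ, hj]
  have hv2 : ∀ i, i ≠ k₀ → ν₀ (i, true) = 0 := by
    intro i hi
    rw [hν₀]
    apply Finsupp.mapDomain_of_notMem_range
    rintro ⟨x, hx⟩
    by_cases hxi : x = i₁
    · rw [hxi, hJi₁] at hx
      exact hi (Prod.mk.inj hx).1.symm
    · rw [hJne x hxi] at hx
      simp at hx
  have hv3 : ν₀ (i₁, false) = 0 := by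
    rw [hν₀]
    apply Finsupp.mapDomain_of_notMem_range
    rintro ⟨x, hx⟩
    by_cases hxi : x = i₁
    · rw [hxi, hJi₁] at hx
      simp at hx
    · rw [hJne x hxi] at hx
      exact hxi (Prod.mk.inj hx).1
  have hv4 : ∀ i, i ≠ i₁ → ν₀ (i, false) = ν i := by
    intro i hi
    rw [hν₀, ← hJne i hi, Finsupp.mapDomain_apply hJ]
  have hν₀deg : ν₀.degree = n := by rw [hν₀, Finsupp.degree_mapDomain, hn]
  -- the marginals of `ν₀`
  have hc1 : Finsupp.mapDomain Prod.fst ν₀ = β := by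
    ext i
    rw [marg_fst]
    by_cases hik : i = k₀
    · rw [hik, hv4 k₀ hi₁.symm, hv1, hβk₀]
    · by_cases hii : i = i₁
      · rw [hii, hv3, hv2 i₁ hi₁, hβi₁]
      · rw [hv4 i hii, hv2 i hik, hβne i hik hii, add_zero]
  have hc2 : Finsupp.mapDomain Prod.snd ν₀ = δ := by
    have ht : Finsupp.mapDomain Prod.snd ν₀ true = j := by
      rw [marg_snd_true, Finset.sum_eq_single k₀ (fun i _ hi => hv2 i hi)
        (fun h => absurd (Finset.mem_univ _) h), hv1]
    have hd : (Finsupp.mapDomain Prod.snd ν₀).degree = n := by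
      rw [Finsupp.degree_mapDomain, hν₀deg]
    rw [Finsupp.degree_eq_sum, Fintype.sum_bool, ht] at hd
    ext t
    cases t
    · rw [hδ]
      simp
      omega
    · rw [ht, hδt]
  -- the other terms
  have hother : ∀ ν' ∈ T, ν' ≠ ν₀ → O R A n M ν' ∈ Sg R A n := by
    intro ν' hν' hne
    rw [hTmem] at hν'
    obtain ⟨-, hf, hs⟩ := hν'
    have hA : ∀ i, ν' (i, false) + ν' (i, true) = β i := by
      intro i
      rw [← marg_fst, hf]
    have hB : ∑ i, ν' (i, true) = j := by
      rw [← marg_snd_true, hs, hδt]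
    have hdeg' : ν'.degree = ε.degree + j := by
      rw [← hβdeg, ← hf, Finsupp.degree_mapDomain]
    have hle : ν' (k₀, true) ≤ j := by
      rw [← hB]
      exact Finset.single_le_sum (f := fun i => ν' (i, true)) (fun i _ => Nat.zero_le _)
        (Finset.mem_univ k₀)
    have hAk := hA k₀
    rw [hβk₀] at hAk
    by_cases hlt : ν' (k₀, true) < j
    · exact ih (ν'.degree - ν' (k₀, false)) (by omega) M (k₀, false) hMk₀ ν' rfl
    · exfalso
      apply hne
      have heq : ν' (k₀, true) = j := le_antisymm hle (not_lt.mp hlt)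
      have hz : ∀ i, i ≠ k₀ → ν' (i, true) = 0 := by
        intro i hi
        have hsum : ν' (k₀, true) + ∑ x ∈ Finset.univ.erase k₀, ν' (x, true) =
            ∑ i, ν' (i, true) :=
          Finset.add_sum_erase Finset.univ (fun i => ν' (i, true)) (Finset.mem_univ k₀)
        rw [hB] at hsum
        have h0 : ∑ x ∈ Finset.univ.erase k₀, ν' (x, true) = 0 := by
          omega
        exact (Finset.sum_eq_zero_iff.mp h0) i (Finset.mem_erase.mpr ⟨hi, Finset.mem_univ _⟩)
      ext ⟨i, t⟩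
      cases t
      · by_cases hii : i = i₁
        · have := hA i₁
          rw [hβi₁] at this
          rw [hii, hv3]
          omega
        · rw [hv4 i hii]
          by_cases hik : i = k₀
          · rw [hik]
            omega
          · have := hA i
            rw [hz i hik, hβne i hik hii] at this
            omega
      · by_cases hik : i = k₀
        · rw [hik, heq, hv1]
        · rw [hz i hik, hv2 i hik]
  rw [← hO]
  by_cases hmem : ν₀ ∈ T
  · have hsplit : O R A n M ν₀ + ∑ ν' ∈ T.erase ν₀, O R A n M ν' = ∑ ν' ∈ T, O R A n M ν' :=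
      Finset.add_sum_erase _ (fun ν' => O R A n M ν') hmem
    have heq : O R A n M ν₀ = O R A n m β * O R A n (fun t : Bool => if t then b else 1) δ -
        ∑ ν' ∈ T.erase ν₀, O R A n M ν' := by
      rw [hprod, ← hsplit]
      simp only [add_sub_cancel_right]
    rw [heq]
    exact Subalgebra.sub_mem _ (Subalgebra.mul_mem _ h1 h2)
      (Subalgebra.sum_mem _ (fun ν' hν' =>
        hother ν' (Finset.mem_of_mem_erase hν') (Finset.ne_of_mem_erase hν')))
  · have h0 : O R A n M ν₀ = 0 := by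
      unfold O
      apply Finset.sum_eq_zero
      intro e _
      rw [if_neg]
      intro he
      exact hmem ((hTmem ν₀).mpr ⟨⟨e, he⟩, hc1, hc2⟩)
    rw [h0]
    exact Subalgebra.zero_mem _

end Groth.Agent.Lib.Helper20.SymGen
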