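import Mathlib
import Groth.Prelude.Def_SymTen
import Groth.Agent.Lib.Helper20.SymGen3

/-!
# Symmetric tensors of a flat algebra are generated by elementary symmetric tensors: the theorem
-/

namespace Groth.Agent.Lib.Helper20.SymGen

open scoped TensorProduct
open Groth.Agent.Lib.Helper20.PLPolar Groth.Agent.Lib.Helper20.PLTS

universe u

variable (R : Type u) [CommRing R] (A : Type u) [CommRing A] [Algebra R A] (n : ℕ)

/-- every orbit sum lies in the subalgebra generated by the elementary symmetric tensors -/
theorem O_mem_Sg_general {ι : Type} [Fintype ι] (m : ι → A) (β : ι →₀ ℕ) :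
    O R A n m β ∈ Sg R A n := by
  classical
  have h := O_mapDomain R A n (some : ι → Option ι) (Option.some_injective ι)
    (fun o => Option.elim o 1 m) β
  simp only [Option.elim_some] at h
  rw [← h]
  exact O_mem_Sg R A n _ (fun o => Option.elim o 1 m) none rfl _ rfl

theorem Sg_le_TS : Sg R A n ≤ SymTen.TS R A n := by
  apply Algebra.adjoin_le
  rintro t ⟨a, j, rfl⟩
  rw [← O_bool R A n a j, O_eq_coeff]
  exact coeff_Tlaw_mem R A n _ _

theorem main [Module.Flat R A] :
    SymTen.TS R A n = Algebra.adjoin R {t : ⨂[R] _ : Fin n, A | ∃ (a : A) (j : ℕ),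
      t = ∑ I ∈ (Finset.univ : Finset (Fin n)).powersetCard j,
        PiTensorProduct.tprod R (fun i : Fin n => if i ∈ I then a else (1 : A))} := by
  change SymTen.TS R A n = Sg R A n
  apply le_antisymm
  · intro z hz
    have htop := PLFlat.coeffSpan_TSlaw_eq_top_of_flat (A := R) (B := A) (d := n)
    have key : ∀ y ∈ PLSpan.coeffSpan (TSlaw R A n).law,
        ((y : SymTen.TS R A n) : ⨂[R] _ : Fin n, A) ∈ Sg R A n := by
      intro y hy
      unfold PLSpan.coeffSpan at hy
      induction hy using Submodule.span_induction with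
      | mem x hx =>
        obtain ⟨ι, _, m, β, rfl⟩ := hx
        rw [val_coeff_TSlaw, ← O_eq_coeff]
        exact O_mem_Sg_general R A n m β
      | zero => exact Subalgebra.zero_mem _
      | add x y _ _ hx hy => exact Subalgebra.add_mem _ hx hy
      | smul a x _ hx => exact Subalgebra.smul_mem _ hx a
    have hz' : (⟨z, hz⟩ : SymTen.TS R A n) ∈ PLSpan.coeffSpan (TSlaw R A n).law := by
      rw [htop]
      trivial
    exact key _ hz'
  · exact Sg_le_TS R A n

end Groth.Agent.Lib.Helper20.SymGen
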