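import Groth.Agent.Lib.Helper20.SymSeries

/-!
# Helper library (helper20): the universal series and the verification principle for products
-/

set_option autoImplicit false
universe u v

open Finset MvPolynomial

namespace Groth.Agent.Lib.Helper20.Sym

open LambdaRing

section univseries

/-- universal series of the first element -/
noncomputable def LamX : PowerSeries UU :=
  PowerSeries.mk fun n => if n = 0 then 1 else X (Sum.inl (n - 1))

/-- universal series of the second element -/
noncomputable def LamY : PowerSeries UU :=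
  PowerSeries.mk fun n => if n = 0 then 1 else X (Sum.inr (n - 1))

lemma constantCoeff_LamX : PowerSeries.constantCoeff LamX = 1 := by
  rw [← PowerSeries.coeff_zero_eq_constantCoeff_apply, LamX, PowerSeries.coeff_mk, if_pos rfl]

lemma constantCoeff_LamY : PowerSeries.constantCoeff LamY = 1 := by
  rw [← PowerSeries.coeff_zero_eq_constantCoeff_apply, LamY, PowerSeries.coeff_mk, if_pos rfl]

/-- the multiset of the variables `T` -/
noncomputable def Tm (N : ℕ) : Multiset (Om N) :=
  Finset.univ.val.map fun a : Fin N => (X (Sum.inl a) : Om N)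

/-- the multiset of the variables `U` -/
noncomputable def Um (N : ℕ) : Multiset (Om N) :=
  Finset.univ.val.map fun a : Fin N => (X (Sum.inr a) : Om N)

/-- the multiset of the products `T_a U_b` -/
noncomputable def TUm (N : ℕ) : Multiset (Om N) :=
  (Finset.univ : Finset (Fin N × Fin N)).val.map
    fun ab => (X (Sum.inl ab.1) * X (Sum.inr ab.2) : Om N)

lemma map_beta_LamX (N : ℕ) :
    PowerSeries.map (beta N).toRingHom LamX = gpS (Tm N) := by
  refine PowerSeries.ext fun n => ?_
  rw [PowerSeries.coeff_map, LamX, PowerSeries.coeff_mk, coeff_gpS]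
  by_cases hn : n = 0
  · rw [if_pos hn, hn, esymm_zero_right, map_one]
  · rw [if_neg hn]
    change beta N (X (Sum.inl (n - 1))) = _
    unfold beta
    rw [aeval_X, Sum.elim_inl, Nat.sub_add_cancel (Nat.pos_of_ne_zero hn), eT_eq]
    rfl

lemma map_beta_LamY (N : ℕ) :
    PowerSeries.map (beta N).toRingHom LamY = gpS (Um N) := by
  refine PowerSeries.ext fun n => ?_
  rw [PowerSeries.coeff_map, LamY, PowerSeries.coeff_mk, coeff_gpS]
  by_cases hn : n = 0
  · rw [if_pos hn, hn, esymm_zero_right, map_one]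
  · rw [if_neg hn]
    change beta N (X (Sum.inr (n - 1))) = _
    unfold beta
    rw [aeval_X, Sum.elim_inr, Nat.sub_add_cancel (Nat.pos_of_ne_zero hn), eU_eq]
    rfl

/-- the series of a family of polynomials in the universal ring -/
noncomputable def LamP (P : ∀ n : ℕ, MvPolynomial (Fin n ⊕ Fin n) ℤ) : PowerSeries UU :=
  PowerSeries.mk fun n => if n = 0 then 1 else iotaP n (P n)

lemma constantCoeff_LamP (P : ∀ n : ℕ, MvPolynomial (Fin n ⊕ Fin n) ℤ) :
    PowerSeries.constantCoeff (LamP P) = 1 := by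
  rw [← PowerSeries.coeff_zero_eq_constantCoeff_apply, LamP, PowerSeries.coeff_mk, if_pos rfl]

lemma map_beta_LamP (P : ∀ n : ℕ, MvPolynomial (Fin n ⊕ Fin n) ℤ) (hP : ∀ n, IsMulPoly n (P n))
    (N : ℕ) : PowerSeries.map (beta N).toRingHom (LamP P) = gpS (TUm N) := by
  refine PowerSeries.ext fun n => ?_
  rw [PowerSeries.coeff_map, LamP, PowerSeries.coeff_mk, coeff_gpS]
  by_cases hn : n = 0
  · rw [if_pos hn, hn, esymm_zero_right, map_one]
  · rw [if_neg hn]
    change beta N (iotaP n (P n)) = _
    rw [beta_iotaP, Bmap_eq_mulGen n N (P n) (hP n)]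
    rfl

lemma psumM_TUm (N k : ℕ) : psumM (TUm N) k = psumM (Tm N) k * psumM (Um N) k := by
  unfold psumM TUm Tm Um
  rw [Multiset.map_map, Multiset.map_map, Multiset.map_map]
  change (∑ ab : Fin N × Fin N, (X (Sum.inl ab.1) * X (Sum.inr ab.2) : Om N) ^ k) =
    (∑ a : Fin N, (X (Sum.inl a) : Om N) ^ k) * (∑ b : Fin N, (X (Sum.inr b) : Om N) ^ k)
  rw [Finset.sum_mul_sum, ← Finset.sum_product']
  apply Finset.sum_congr rfl
  intro ab _
  rw [mul_pow]

/-- the universal identity behind the multiplicativity of the Adams operations -/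
theorem newt_LamP (P : ∀ n : ℕ, MvPolynomial (Fin n ⊕ Fin n) ℤ) (hP : ∀ n, IsMulPoly n (P n))
    (k : ℕ) : newt k (LamP P) = newt k LamX * newt k LamY := by
  apply eq_of_beta_eq
  intro N
  rw [map_mul]
  have h1 := map_newt (beta N).toRingHom (constantCoeff_LamP P) k
  have h2 := map_newt (beta N).toRingHom constantCoeff_LamX k
  have h3 := map_newt (beta N).toRingHom constantCoeff_LamY k
  simp only [AlgHom.toRingHom_eq_coe, RingHom.coe_coe] at h1 h2 h3
  rw [h1, h2, h3]
  have e1 := map_beta_LamP P hP N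
  have e2 := map_beta_LamX N
  have e3 := map_beta_LamY N
  simp only [AlgHom.toRingHom_eq_coe] at e1 e2 e3
  rw [e1, e2, e3, newt_gpS, newt_gpS, newt_gpS, psumM_TUm]

end univseries

section eval
variable {K : Type u} [CommRing K] [LambdaOps K]

lemma map_phi_LamX (x y : K) :
    PowerSeries.map (phi x y).toRingHom LamX = lamSeries x := by
  refine PowerSeries.ext fun n => ?_
  rw [PowerSeries.coeff_map, LamX, PowerSeries.coeff_mk, LR.coeff_lamSeries]
  by_cases hn : n = 0
  · rw [if_pos hn, hn, LambdaOps.lam_zero, map_one]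
  · rw [if_neg hn]
    change phi x y (X (Sum.inl (n - 1))) = _
    unfold phi
    rw [aeval_X, Sum.elim_inl, Nat.sub_add_cancel (Nat.pos_of_ne_zero hn)]

lemma map_phi_LamY (x y : K) :
    PowerSeries.map (phi x y).toRingHom LamY = lamSeries y := by
  refine PowerSeries.ext fun n => ?_
  rw [PowerSeries.coeff_map, LamY, PowerSeries.coeff_mk, LR.coeff_lamSeries]
  by_cases hn : n = 0
  · rw [if_pos hn, hn, LambdaOps.lam_zero, map_one]
  · rw [if_neg hn]
    change phi x y (X (Sum.inr (n - 1))) = _
    unfold phi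
    rw [aeval_X, Sum.elim_inr, Nat.sub_add_cancel (Nat.pos_of_ne_zero hn)]

lemma map_phi_LamP (hK : IsSpecial K) (P : ∀ n : ℕ, MvPolynomial (Fin n ⊕ Fin n) ℤ)
    (hP : ∀ n, IsMulPoly n (P n)) (x y : K) :
    PowerSeries.map (phi x y).toRingHom (LamP P) = lamSeries (x * y) := by
  refine PowerSeries.ext fun n => ?_
  rw [PowerSeries.coeff_map, LamP, PowerSeries.coeff_mk, LR.coeff_lamSeries]
  by_cases hn : n = 0
  · rw [if_pos hn, hn, LambdaOps.lam_zero, map_one]
  · rw [if_neg hn]
    change phi x y (iotaP n (P n)) = _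
    rw [phi_iotaP, hK.lam_mul n (P n) (hP n) x y]

/-- multiplicativity of the Adams operations in a λ-ring in the strict sense -/
theorem adamsOp_mul (hK : IsSpecial K) (P : ∀ n : ℕ, MvPolynomial (Fin n ⊕ Fin n) ℤ)
    (hP : ∀ n, IsMulPoly n (P n)) (k : ℕ) (x y : K) :
    adamsOp (k + 1) (x * y) = adamsOp (k + 1) x * adamsOp (k + 1) y := by
  rw [adamsOp_succ_eq_newt, adamsOp_succ_eq_newt, adamsOp_succ_eq_newt,
    ← map_phi_LamP hK P hP x y, ← map_phi_LamX x y, ← map_phi_LamY x y,
    ← map_newt _ (constantCoeff_LamP P), ← map_newt _ constantCoeff_LamX,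
    ← map_newt _ constantCoeff_LamY, newt_LamP P hP k, map_mul]

end eval

end Groth.Agent.Lib.Helper20.Sym
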