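import Groth.Agent.Lib.Helper20.SymLam

/-!
# Helper library (helper20): Adams operations of a λ-ring in the strict sense are ring
endomorphisms and compose as expected.
-/

set_option autoImplicit false
universe u v

open Finset MvPolynomial

namespace Groth.Agent.Lib.Helper20.Sym

open LambdaRing

section basics
variable {K : Type u} [CommRing K] [LambdaOps K]

lemma adamsOp_add (k : ℕ) (x y : K) :
    adamsOp (k + 1) (x + y) = adamsOp (k + 1) x + adamsOp (k + 1) y := by
  rw [adamsOp_succ_eq_newt, adamsOp_succ_eq_newt, adamsOp_succ_eq_newt]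
  unfold newt
  rw [LR.lamSeries_add, ld_mul (LR.constantCoeff_lamSeries x) (LR.constantCoeff_lamSeries y),
    map_add, mul_add]

lemma adamsOp_zero' (k : ℕ) : adamsOp (k + 1) (0 : K) = 0 := by
  have := adamsOp_add k (0 : K) 0
  rw [add_zero] at this
  have h : adamsOp (k + 1) (0 : K) + 0 = adamsOp (k + 1) (0 : K) + adamsOp (k + 1) (0 : K) := by
    rw [add_zero]; exact this
  exact (add_left_cancel h).symm

lemma lamSeries_one_of_special (hK : IsSpecial K) :
    lamSeries (1 : K) = 1 + PowerSeries.C (1 : K) * PowerSeries.X := by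
  refine PowerSeries.ext fun n => ?_
  rw [LR.coeff_lamSeries]
  rcases n with _ | _ | n
  · simp [LambdaOps.lam_zero]
  · simp [LambdaOps.lam_one]
  · rw [hK.lam_one_eq_zero (n + 2) (by omega)]
    simp [PowerSeries.coeff_one, PowerSeries.coeff_X]

lemma adamsOp_one' (hK : IsSpecial K) (k : ℕ) : adamsOp (k + 1) (1 : K) = 1 := by
  rw [adamsOp_succ_eq_newt, lamSeries_one_of_special hK]
  have : (1 + PowerSeries.C (1 : K) * PowerSeries.X : PowerSeries K) = gpS {(1 : K)} := by
    simp [gpS]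
  rw [this, newt_gpS]
  simp [psumM]

/-- the Adams operation as a ring endomorphism -/
noncomputable def adamsHom (hK : IsSpecial K) (P : ∀ n : ℕ, MvPolynomial (Fin n ⊕ Fin n) ℤ)
    (hP : ∀ n, IsMulPoly n (P n)) (k : ℕ) : K →+* K where
  toFun := adamsOp (k + 1)
  map_one' := adamsOp_one' hK k
  map_mul' := adamsOp_mul hK P hP k
  map_zero' := adamsOp_zero' k
  map_add' := adamsOp_add k

end basics

section comp

/-- the multiset of the products `∏_{a ∈ S} T_a` over the `i`-element subsets `S` -/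
noncomputable def Mm (N i : ℕ) : Multiset (Om N) :=
  ((Finset.univ : Finset (Fin N)).powersetCard i).val.map
    fun S => (∏ a ∈ S, X (Sum.inl a) : Om N)

/-- the series of a family of composition polynomials -/
noncomputable def LamQ (Q : ∀ i j : ℕ, MvPolynomial (Fin (i * j)) ℤ) (i : ℕ) : PowerSeries UU :=
  PowerSeries.mk fun j => if j = 0 then 1 else iotaQ (i * j) (Q i j)

lemma constantCoeff_LamQ (Q : ∀ i j : ℕ, MvPolynomial (Fin (i * j)) ℤ) (i : ℕ) :
    PowerSeries.constantCoeff (LamQ Q i) = 1 := by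
  rw [← PowerSeries.coeff_zero_eq_constantCoeff_apply, LamQ, PowerSeries.coeff_mk, if_pos rfl]

lemma rename_inl_compGen (N i j : ℕ) : rename Sum.inl (compGen N i j) = (Mm N i).esymm j := by
  unfold compGen Mm
  have := map_esymm (rename Sum.inl : MvPolynomial (Fin N) ℤ →ₐ[ℤ] Om N).toRingHom
    (((Finset.univ : Finset (Fin N)).powersetCard i).val.map
      fun S => (∏ a ∈ S, X a : MvPolynomial (Fin N) ℤ)) j
  simp only [AlgHom.toRingHom_eq_coe, RingHom.coe_coe] at this
  rw [this, Multiset.map_map]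
  congr 1
  apply Multiset.map_congr rfl
  intro S _
  simp

lemma map_beta_LamQ (Q : ∀ i j : ℕ, MvPolynomial (Fin (i * j)) ℤ)
    (hQ : ∀ i j, IsCompPoly i j (Q i j)) (N i : ℕ) :
    PowerSeries.map (beta N).toRingHom (LamQ Q i) = gpS (Mm N i) := by
  refine PowerSeries.ext fun n => ?_
  rw [PowerSeries.coeff_map, LamQ, PowerSeries.coeff_mk, coeff_gpS]
  by_cases hn : n = 0
  · rw [if_pos hn, hn, esymm_zero_right, map_one]
  · rw [if_neg hn]
    change beta N (iotaQ (i * n) (Q i n)) = _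
    rw [beta_iotaQ, Emap_eq_compGen i n N (Q i n) (hQ i n), rename_inl_compGen]

lemma psumM_Mm (N i k : ℕ) : psumM (Mm N i) k = ((Tm N).map fun a => a ^ k).esymm i := by
  unfold psumM Mm Tm
  rw [Multiset.map_map, Multiset.map_map, Finset.esymm_map_val]
  change (∑ S ∈ (Finset.univ : Finset (Fin N)).powersetCard i, (∏ a ∈ S, X (Sum.inl a) : Om N) ^ k) = _
  apply Finset.sum_congr rfl
  intro S _
  rw [← Finset.prod_pow]
  rfl

/-- the universal series `Σ_i ψ^{κ+1}(λ^i x) t^i` -/
noncomputable def Wser (Q : ∀ i j : ℕ, MvPolynomial (Fin (i * j)) ℤ) (κ : ℕ) : PowerSeries UU :=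
  PowerSeries.mk fun i => if i = 0 then 1 else newt κ (LamQ Q i)

lemma constantCoeff_Wser (Q : ∀ i j : ℕ, MvPolynomial (Fin (i * j)) ℤ) (κ : ℕ) :
    PowerSeries.constantCoeff (Wser Q κ) = 1 := by
  rw [← PowerSeries.coeff_zero_eq_constantCoeff_apply, Wser, PowerSeries.coeff_mk, if_pos rfl]

lemma map_beta_Wser (Q : ∀ i j : ℕ, MvPolynomial (Fin (i * j)) ℤ)
    (hQ : ∀ i j, IsCompPoly i j (Q i j)) (κ N : ℕ) :
    PowerSeries.map (beta N).toRingHom (Wser Q κ) = gpS ((Tm N).map fun a => a ^ (κ + 1)) := by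
  refine PowerSeries.ext fun n => ?_
  rw [PowerSeries.coeff_map, Wser, PowerSeries.coeff_mk, coeff_gpS]
  by_cases hn : n = 0
  · rw [if_pos hn, hn, esymm_zero_right, map_one]
  · rw [if_neg hn, map_newt _ (constantCoeff_LamQ Q n), map_beta_LamQ Q hQ, newt_gpS, psumM_Mm]

/-- the universal identity behind `ψ^k ∘ ψ^{k'} = ψ^{kk'}` -/
theorem newt_Wser (Q : ∀ i j : ℕ, MvPolynomial (Fin (i * j)) ℤ)
    (hQ : ∀ i j, IsCompPoly i j (Q i j)) (κ κ' : ℕ) :
    newt κ' (Wser Q κ) = newt (κ * κ' + κ + κ') LamX := by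
  apply eq_of_beta_eq
  intro N
  have h1 := map_newt (beta N).toRingHom (constantCoeff_Wser Q κ) κ'
  have h2 := map_newt (beta N).toRingHom constantCoeff_LamX (κ * κ' + κ + κ')
  simp only [AlgHom.toRingHom_eq_coe, RingHom.coe_coe] at h1 h2
  rw [h1, h2]
  have e1 := map_beta_Wser Q hQ κ N
  have e2 := map_beta_LamX N
  simp only [AlgHom.toRingHom_eq_coe] at e1 e2
  rw [e1, e2, newt_gpS, newt_gpS]
  unfold psumM
  rw [Multiset.map_map]
  congr 1
  apply Multiset.map_congr rfl
  intro a _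
  simp only [Function.comp_apply]
  rw [← pow_mul]
  congr 1
  ring

end comp

section evalcomp
variable {K : Type u} [CommRing K] [LambdaOps K]

lemma map_phi_LamQ (hK : IsSpecial K) (Q : ∀ i j : ℕ, MvPolynomial (Fin (i * j)) ℤ)
    (hQ : ∀ i j, IsCompPoly i j (Q i j)) (x y : K) (i : ℕ) :
    PowerSeries.map (phi x y).toRingHom (LamQ Q i) = lamSeries (LambdaOps.lam i x) := by
  refine PowerSeries.ext fun n => ?_
  rw [PowerSeries.coeff_map, LamQ, PowerSeries.coeff_mk, LR.coeff_lamSeries]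
  by_cases hn : n = 0
  · rw [if_pos hn, hn, LambdaOps.lam_zero, map_one]
  · rw [if_neg hn]
    change phi x y (iotaQ (i * n) (Q i n)) = _
    rw [phi_iotaQ, hK.lam_lam i n (Q i n) (hQ i n) x]

theorem adamsOp_adamsOp (hK : IsSpecial K) (P : ∀ n : ℕ, MvPolynomial (Fin n ⊕ Fin n) ℤ)
    (hP : ∀ n, IsMulPoly n (P n)) (Q : ∀ i j : ℕ, MvPolynomial (Fin (i * j)) ℤ)
    (hQ : ∀ i j, IsCompPoly i j (Q i j)) (κ κ' : ℕ) (x : K) :
    adamsOp (κ + 1) (adamsOp (κ' + 1) x) = adamsOp (κ * κ' + κ + κ' + 1) x := by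
  -- apply the ring endomorphism ψ^{κ+1} to the Newton expression of ψ^{κ'+1} x
  have h1 : adamsOp (κ + 1) (adamsOp (κ' + 1) x) =
      newt κ' (PowerSeries.map (adamsHom hK P hP κ) (lamSeries x)) := by
    rw [adamsOp_succ_eq_newt x κ', ← map_newt _ (LR.constantCoeff_lamSeries x)]
    rfl
  have h2 : PowerSeries.map (adamsHom hK P hP κ) (lamSeries x) =
      PowerSeries.map (phi x x).toRingHom (Wser Q κ) := by
    refine PowerSeries.ext fun i => ?_
    rw [PowerSeries.coeff_map, PowerSeries.coeff_map, LR.coeff_lamSeries, Wser,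
      PowerSeries.coeff_mk]
    by_cases hi : i = 0
    · rw [if_pos hi, hi, LambdaOps.lam_zero, map_one, map_one]
    · rw [if_neg hi]
      change adamsOp (κ + 1) (LambdaOps.lam i x) = (phi x x).toRingHom (newt κ (LamQ Q i))
      rw [map_newt _ (constantCoeff_LamQ Q i), map_phi_LamQ hK Q hQ, adamsOp_succ_eq_newt]
  rw [h1, h2, ← map_newt _ (constantCoeff_Wser Q κ), newt_Wser Q hQ,
    map_newt _ constantCoeff_LamX, map_phi_LamX, adamsOp_succ_eq_newt]

end evalcomp

end Groth.Agent.Lib.Helper20.Sym
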