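import Mathlib

/-!
# Tensoring a reduced algebra over a field with an algebra all of whose field fibres are reduced
-/

set_option autoImplicit false
set_option linter.unusedSectionVars false
set_option linter.unusedVariables false

namespace Groth.Agent.Lib.Helper20.SymRed

open scoped TensorProduct

universe u

section Nat

variable {A K R L B : Type*} [CommRing A] [CommRing K] [Algebra A K] [CommRing R] [Algebra K R]
  [Algebra A R] [IsScalarTower A K R] [CommRing L] [Algebra R L] [Algebra K L] [Algebra A L]
  [IsScalarTower K R L] [IsScalarTower A R L] [IsScalarTower A K L] [CommRing B] [Algebra A B]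

/-- naturality of `cancelBaseChange` in the left factor -/
theorem cancel_natural (x : R ⊗[K] (K ⊗[A] B)) :
    TensorProduct.AlgebraTensorModule.cancelBaseChange A K L L B
      ((IsScalarTower.toAlgHom K R L).toLinearMap.rTensor (K ⊗[A] B) x) =
    Algebra.TensorProduct.map (IsScalarTower.toAlgHom A R L) (AlgHom.id A B)
      (TensorProduct.AlgebraTensorModule.cancelBaseChange A K R R B x) := by
  induction x using TensorProduct.induction_on with
  | zero => simp
  | tmul r y =>
    induction y using TensorProduct.induction_on with
    | zero => simp
    | tmul k b =>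
      simp only [LinearMap.rTensor_tmul, AlgHom.toLinearMap_apply,
        TensorProduct.AlgebraTensorModule.cancelBaseChange_tmul, Algebra.TensorProduct.map_tmul,
        AlgHom.coe_id, id_eq, IsScalarTower.coe_toAlgHom']
      rw [Algebra.smul_def, Algebra.smul_def, map_mul, ← IsScalarTower.algebraMap_apply K R L]
    | add y z hy hz =>
      rw [TensorProduct.tmul_add, map_add, map_add, hy, hz, map_add, map_add]
  | add x y hx hy => rw [map_add, map_add, hx, hy, map_add, map_add]

/-- naturality of the coordinates -/
theorem coord_natural {V : Type*} [AddCommGroup V] [Module K V] (φ : V →ₗ[K] K)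
    (x : R ⊗[K] V) :
    algebraMap R L (TensorProduct.rid K R (φ.lTensor R x)) =
      TensorProduct.rid K L (φ.lTensor L
        ((IsScalarTower.toAlgHom K R L).toLinearMap.rTensor V x)) := by
  induction x using TensorProduct.induction_on with
  | zero => simp
  | tmul r v =>
    simp only [LinearMap.lTensor_tmul, TensorProduct.rid_tmul, LinearMap.rTensor_tmul,
      AlgHom.toLinearMap_apply, IsScalarTower.coe_toAlgHom']
    rw [Algebra.smul_def, Algebra.smul_def, map_mul, ← IsScalarTower.algebraMap_apply K R L]
  | add x y hx hy => simp only [map_add, hx, hy]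

end Nat

/-- the coordinates of a nilpotent tensor die in every field quotient -/
theorem coord_map_eq_zero (A K R B : Type u) [CommRing A] [Field K] [Algebra A K] [CommRing R]
    [Algebra K R] [Algebra A R] [IsScalarTower A K R] [CommRing B] [Algebra A B]
    (hred : ∀ (L : Type u) [Field L] [Algebra A L], IsReduced (L ⊗[A] B))
    (L : Type u) [Field L] [Algebra R L] (w : R ⊗[A] B) (hw : IsNilpotent w)
    (φ : (K ⊗[A] B) →ₗ[K] K) :
    algebraMap R L (TensorProduct.rid K R (φ.lTensor R
      ((TensorProduct.AlgebraTensorModule.cancelBaseChange A K R R B).symm w))) = 0 := by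
  letI : Algebra K L := ((algebraMap R L).comp (algebraMap K R)).toAlgebra
  letI : Algebra A L := ((algebraMap R L).comp (algebraMap A R)).toAlgebra
  haveI : IsScalarTower K R L := IsScalarTower.of_algebraMap_eq (fun _ => rfl)
  haveI : IsScalarTower A R L := IsScalarTower.of_algebraMap_eq (fun _ => rfl)
  haveI : IsScalarTower A K L := IsScalarTower.of_algebraMap_eq (fun a => by
    show algebraMap R L (algebraMap A R a) = algebraMap R L (algebraMap K R (algebraMap A K a))
    rw [← IsScalarTower.algebraMap_apply A K R])
  rw [coord_natural (L := L)]
  have hzero : (IsScalarTower.toAlgHom K R L).toLinearMap.rTensor (K ⊗[A] B)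
      ((TensorProduct.AlgebraTensorModule.cancelBaseChange A K R R B).symm w) = 0 := by
    apply (TensorProduct.AlgebraTensorModule.cancelBaseChange A K L L B).injective
    rw [cancel_natural, map_zero, LinearEquiv.apply_symm_apply]
    have hnil : IsNilpotent (Algebra.TensorProduct.map
        (IsScalarTower.toAlgHom A R L) (AlgHom.id A B) w) := hw.map _
    have := hred L
    exact hnil.eq_zero
  rw [hzero, map_zero, map_zero]

theorem isReduced_tensor (A K R B : Type u) [CommRing A] [Field K] [Algebra A K] [CommRing R]
    [Algebra K R] [Algebra A R] [IsScalarTower A K R] [IsReduced R] [CommRing B] [Algebra A B]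
    (hred : ∀ (L : Type u) [Field L] [Algebra A L], IsReduced (L ⊗[A] B)) :
    IsReduced (R ⊗[A] B) := by
  classical
  constructor
  intro w hw
  let c := TensorProduct.AlgebraTensorModule.cancelBaseChange A K R R B
  suffices h : c.symm w = 0 by
    have := congrArg c h
    rwa [LinearEquiv.apply_symm_apply, map_zero] at this
  let 𝔟 := Module.Basis.ofVectorSpace K (K ⊗[A] B)
  apply (TensorProduct.equivFinsuppOfBasisRight 𝔟).injective
  rw [map_zero]
  ext i
  rw [TensorProduct.equivFinsuppOfBasisRight_apply, Finsupp.zero_apply]
  have hmem : TensorProduct.rid K R ((𝔟.coord i).lTensor R (c.symm w)) ∈ nilradical R := by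
    rw [nilradical_eq_sInf, Ideal.mem_sInf]
    intro p hp
    have hpp : p.IsPrime := hp
    rw [← Ideal.algebraMap_residueField_eq_zero]
    exact coord_map_eq_zero A K R B hred p.ResidueField w hw (𝔟.coord i)
  exact (mem_nilradical.1 hmem).eq_zero

end Groth.Agent.Lib.Helper20.SymRed
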