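import Mathlib
import Groth.Prelude.Def_PolLaw
import Groth.Prelude.Def_SymTen
import Groth.Agent.Lib.Helper20.SymRed1
import Groth.Agent.Lib.Helper20.SymRed2

/-!
# `Γ^d_A(B)` has geometrically reduced fibres when `B` is flat with geometrically reduced fibres
-/

set_option autoImplicit false
set_option linter.unusedSectionVars false
set_option linter.unusedVariables false
set_option linter.style.haveILetI false

namespace Groth.Agent.Lib.Helper20.PLFlat

open scoped TensorProduct
open MvPolynomial Groth.Agent.Lib.Helper20.PLCoeff Groth.Agent.Lib.Helper20.PLCorestrict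
  Groth.Agent.Lib.Helper20.PLTS Groth.Agent.Lib.Helper20.PLNat Groth.Agent.Lib.Helper20.PLNorm
  Groth.Agent.Lib.Helper20.PLFree Groth.Agent.Lib.Helper20.PLSpan
  Groth.Agent.Lib.Helper20.PLFinite Groth.Agent.Lib.Helper20.PLPolar
  Groth.Agent.Lib.Helper20.PLGamma

universe u

section EAlg

variable (A : Type u) [CommRing A] (B : Type u) [CommRing B] [Algebra A B] (d : ℕ)

theorem append_mul (x y : Fin d → B) (b₁ b₂ : B) :
    Fin.append (x * y) (fun _ : Fin 1 => b₁ * b₂) =
      Fin.append x (fun _ : Fin 1 => b₁) * Fin.append y (fun _ : Fin 1 => b₂) := by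
  funext i
  refine Fin.addCases (fun j => ?_) (fun j => ?_) i
  · simp [Fin.append_left]
  · simp [Fin.append_right]

theorem E_mul (a₁ a₂ : ⨂[A] _ : Fin d, B) (b₁ b₂ : B) :
    E A B d ((a₁ * a₂) ⊗ₜ[A] (b₁ * b₂)) = E A B d (a₁ ⊗ₜ[A] b₁) * E A B d (a₂ ⊗ₜ[A] b₂) := by
  induction a₁ using PiTensorProduct.induction_on with
  | smul_tprod r x =>
    induction a₂ using PiTensorProduct.induction_on with
    | smul_tprod r' y =>
      rw [PiTensorProduct.smul_tprod_mul_smul_tprod, ← TensorProduct.smul_tmul',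
        ← TensorProduct.smul_tmul', ← TensorProduct.smul_tmul', map_smul, map_smul, map_smul,
        E_tprod_tmul, E_tprod_tmul, E_tprod_tmul, PiTensorProduct.smul_tprod_mul_smul_tprod,
        append_mul]
    | add y z hy hz =>
      rw [mul_add, TensorProduct.add_tmul, map_add, hy, hz, TensorProduct.add_tmul, map_add,
        mul_add]
  | add x y hx hy =>
    rw [add_mul, TensorProduct.add_tmul, map_add, hx, hy, TensorProduct.add_tmul, map_add,
      add_mul]

theorem E_one : E A B d ((1 : ⨂[A] _ : Fin d, B) ⊗ₜ[A] (1 : B)) = 1 := by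
  rw [PiTensorProduct.one_def, E_tprod_tmul, PiTensorProduct.one_def]
  congr 1
  funext i
  refine Fin.addCases (fun j => ?_) (fun j => ?_) i
  · simp [Fin.append_left]
  · simp [Fin.append_right]

/-- `T^d(B) ⊗ B ≃ T^{d+1}(B)` as algebras -/
noncomputable def EAlg : (⨂[A] _ : Fin d, B) ⊗[A] B ≃ₐ[A] ⨂[A] _ : Fin (d + 1), B :=
  Algebra.TensorProduct.algEquivOfLinearEquivTensorProduct (E A B d) (E_mul A B d) (E_one A B d)

end EAlg

section Red

variable (A : Type u) [CommRing A] (B : Type u) [CommRing B] [Algebra A B]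
  (K : Type u) [Field K] [Algebra A K]

theorem isReduced_tensor_zero : IsReduced (K ⊗[A] (⨂[A] _ : Fin 0, B)) := by
  have hsurj : ∀ x : K ⊗[A] (⨂[A] _ : Fin 0, B), ∃ k : K, x = k ⊗ₜ[A] 1 := by
    intro x
    induction x using TensorProduct.induction_on with
    | zero => exact ⟨0, by rw [TensorProduct.zero_tmul]⟩
    | tmul k t =>
      have ht : t = (PiTensorProduct.isEmptyEquiv (R := A) (s := fun _ : Fin 0 => B) (Fin 0) t) •
          (1 : ⨂[A] _ : Fin 0, B) := by
        apply (PiTensorProduct.isEmptyEquiv (R := A) (s := fun _ : Fin 0 => B) (Fin 0)).injective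
        rw [map_smul, PiTensorProduct.one_def, PiTensorProduct.isEmptyEquiv_apply_tprod,
          smul_eq_mul, mul_one]
      refine ⟨(PiTensorProduct.isEmptyEquiv (R := A) (s := fun _ : Fin 0 => B) (Fin 0) t) • k, ?_⟩
      rw [TensorProduct.smul_tmul, ← ht]
    | add x y hx hy =>
      obtain ⟨k₁, rfl⟩ := hx
      obtain ⟨k₂, rfl⟩ := hy
      exact ⟨k₁ + k₂, by rw [TensorProduct.add_tmul]⟩
  constructor
  intro x hx
  obtain ⟨k, rfl⟩ := hsurj x
  by_cases hk : k = 0
  · rw [hk, TensorProduct.zero_tmul]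
  · have hu : IsUnit (k ⊗ₜ[A] (1 : ⨂[A] _ : Fin 0, B)) := by
      have : IsUnit k := isUnit_iff_ne_zero.2 hk
      exact this.map (Algebra.TensorProduct.includeLeft :
        K →ₐ[A] K ⊗[A] (⨂[A] _ : Fin 0, B))
    obtain ⟨n, hn⟩ := hx
    have h0 : IsUnit (0 : K ⊗[A] (⨂[A] _ : Fin 0, B)) := hn ▸ hu.pow n
    have := subsingleton_of_zero_eq_one (isUnit_zero_iff.1 h0)
    exact Subsingleton.elim _ _

theorem isReduced_tensor_pow
    (hred : ∀ (L : Type u) [Field L] [Algebra A L], IsReduced (L ⊗[A] B)) (d : ℕ) :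
    IsReduced (K ⊗[A] (⨂[A] _ : Fin d, B)) := by
  induction d with
  | zero => exact isReduced_tensor_zero A B K
  | succ d ih =>
    have h1 : IsReduced ((K ⊗[A] (⨂[A] _ : Fin d, B)) ⊗[A] B) :=
      SymRed.isReduced_tensor A K (K ⊗[A] (⨂[A] _ : Fin d, B)) B hred
    let e₁ : (K ⊗[A] (⨂[A] _ : Fin d, B)) ⊗[A] B ≃ₐ[A] K ⊗[A] ((⨂[A] _ : Fin d, B) ⊗[A] B) :=
      Algebra.TensorProduct.assoc A A A K (⨂[A] _ : Fin d, B) B
    let e₂ : K ⊗[A] ((⨂[A] _ : Fin d, B) ⊗[A] B) ≃ₐ[A] K ⊗[A] (⨂[A] _ : Fin (d + 1), B) :=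
      Algebra.TensorProduct.congr AlgEquiv.refl (EAlg A B d)
    exact isReduced_of_injective (e₁.trans e₂).symm (e₁.trans e₂).symm.injective

end Red

section Main

variable {A : Type u} [CommRing A] {B : Type u} [CommRing B] [Algebra A B] {C : Type u}
  [CommRing C] [Algebra A C]

theorem main13730 {d : ℕ} (γ : PolLaw.MulLaw A B C d) (hγ : PolLaw.IsGammaD γ)
    [Module.Flat A B]
    (hred : ∀ (K : Type u) [Field K] [Algebra A K], IsReduced (K ⊗[A] B))
    (K : Type u) [Field K] [Algebra A K] : IsReduced (K ⊗[A] C) := by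
  obtain ⟨e⟩ := nonempty_algEquiv_of_isGammaD γ hγ (TSlaw A B d) (isGammaD_TSlaw_of_flat d)
  have hT : IsReduced (K ⊗[A] (⨂[A] _ : Fin d, B)) := isReduced_tensor_pow A B K hred d
  let f : K ⊗[A] C →ₐ[A] K ⊗[A] (⨂[A] _ : Fin d, B) :=
    Algebra.TensorProduct.map (AlgHom.id A K) ((SymTen.TS A B d).val.comp e.toAlgHom)
  have hfx : ∀ x, f x = (SymTen.TS A B d).val.toLinearMap.lTensor K
      (e.toLinearEquiv.toLinearMap.lTensor K x) := by
    intro x
    induction x using TensorProduct.induction_on with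
    | zero => simp
    | tmul k c => simp [f]
    | add x y hx hy => rw [map_add, hx, hy, map_add, map_add]
  have hf : Function.Injective f := by
    intro x y hxy
    rw [hfx, hfx] at hxy
    have h1 := lTensor_val_injective (A := A) (B := B) d (Q := K) hxy
    exact (LinearEquiv.lTensor K e.toLinearEquiv).injective h1
  exact isReduced_of_injective f hf

end Main

end Groth.Agent.Lib.Helper20.PLFlat
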