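import Groth.Agent.Lib.Helper20.SymLam2

/-!
# Helper library (helper20): a torsion-free pre-λ-ring whose Adams operations are unital,
multiplicative and compose is a λ-ring in the strict sense.
-/

set_option autoImplicit false
universe u v

open Finset MvPolynomial

namespace Groth.Agent.Lib.Helper20.Sym

open LambdaRing

section uniqueness

lemma isMulPoly_unique {n : ℕ} {P P' : MvPolynomial (Fin n ⊕ Fin n) ℤ} (h : IsMulPoly n P)
    (h' : IsMulPoly n P') : P = P' := by
  rw [isMulPoly_iff] at h h'
  exact Bmap_injective (le_refl n) (h.1.trans h'.1.symm)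

lemma isCompPoly_unique {i j : ℕ} {Q Q' : MvPolynomial (Fin (i * j)) ℤ} (h : IsCompPoly i j Q)
    (h' : IsCompPoly i j Q') : Q = Q' := by
  rw [isCompPoly_iff] at h h'
  have hinj : Function.Injective (Emap (i * j) (i * j)) := by
    intro p q hpq
    apply esymmAlgHom_fin_injective ℤ (le_refl (i * j))
    apply Subtype.ext
    rw [esymmAlgHom_apply, esymmAlgHom_apply]
    exact hpq
  exact hinj (h.1.trans h'.1.symm)

end uniqueness

section tf
variable {K : Type u} [CommRing K]

/-- uniqueness for `f' = f D` over a ring without additive torsion -/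
theorem ode_unique_tf (htf : ∀ n : ℕ, n ≠ 0 → ∀ a : K, n • a = 0 → a = 0)
    (D f g : PowerSeries K)
    (hf : PowerSeries.derivative K f = f * D) (hg : PowerSeries.derivative K g = g * D)
    (h0 : PowerSeries.constantCoeff f = PowerSeries.constantCoeff g) : f = g := by
  refine PowerSeries.ext fun n => ?_
  induction n using Nat.strong_induction_on with
  | _ n ih =>
    cases n with
    | zero => simpa using h0
    | succ n =>
      have e1 : PowerSeries.coeff (n + 1) f * ((n + 1 : ℕ) : K) = PowerSeries.coeff n (f * D) := by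
        rw [← hf, PowerSeries.coeff_derivative]; push_cast; ring
      have e2 : PowerSeries.coeff (n + 1) g * ((n + 1 : ℕ) : K) = PowerSeries.coeff n (g * D) := by
        rw [← hg, PowerSeries.coeff_derivative]; push_cast; ring
      have e3 : PowerSeries.coeff n (f * D) = PowerSeries.coeff n (g * D) := by
        rw [PowerSeries.coeff_mul, PowerSeries.coeff_mul]
        apply Finset.sum_congr rfl
        intro p hp
        have : p.1 < n + 1 := by
          have := Finset.mem_antidiagonal.mp hp
          omega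
        rw [ih p.1 this]
      have h4 : (n + 1) • (PowerSeries.coeff (n + 1) f - PowerSeries.coeff (n + 1) g) = 0 := by
        rw [nsmul_eq_mul, mul_sub, mul_comm _ (PowerSeries.coeff (n + 1) f),
          mul_comm _ (PowerSeries.coeff (n + 1) g), e1, e2, e3, sub_self]
      exact sub_eq_zero.mp (htf (n + 1) (Nat.succ_ne_zero n) _ h4)

lemma ld_eq_mk_newt (f : PowerSeries K) :
    ld f = PowerSeries.mk fun k => (-1) ^ k * newt k f := by
  refine PowerSeries.ext fun k => ?_
  rw [PowerSeries.coeff_mk]
  unfold newt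
  rw [← mul_assoc, ← mul_pow]
  simp

theorem eq_of_newt_eq_tf (htf : ∀ n : ℕ, n ≠ 0 → ∀ a : K, n • a = 0 → a = 0)
    {f g : PowerSeries K} (hf : PowerSeries.constantCoeff f = 1)
    (hg : PowerSeries.constantCoeff g = 1) (h : ∀ k, newt k f = newt k g) : f = g := by
  apply ode_unique_tf htf (ld f) f g (deriv_eq_mul_ld hf)
  · rw [deriv_eq_mul_ld hg, ld_eq_mk_newt f, ld_eq_mk_newt g]
    congr 2
    funext k
    rw [h k]
  · rw [hf, hg]

end tf

section universal_units

lemma iotaP_zero_eq_one (P : MvPolynomial (Fin 0 ⊕ Fin 0) ℤ) (hP : IsMulPoly 0 P) :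
    iotaP 0 P = 1 := by
  apply eq_of_beta_eq
  intro N
  rw [beta_iotaP, Bmap_eq_mulGen 0 N P hP, map_one]
  unfold mulGen
  exact esymm_zero_right _

lemma iotaQ_zero_right_eq_one (i : ℕ) (Q : MvPolynomial (Fin (i * 0)) ℤ) (hQ : IsCompPoly i 0 Q) :
    iotaQ (i * 0) Q = 1 := by
  apply eq_of_beta_eq
  intro N
  rw [beta_iotaQ, Emap_eq_compGen i 0 N Q hQ, rename_inl_compGen, esymm_zero_right, map_one]

lemma newt_LamQ_zero (Q : ∀ i j : ℕ, MvPolynomial (Fin (i * j)) ℤ)
    (hQ : ∀ i j, IsCompPoly i j (Q i j)) (k : ℕ) : newt k (LamQ Q 0) = 1 := by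
  apply eq_of_beta_eq
  intro N
  have h1 := map_newt (beta N).toRingHom (constantCoeff_LamQ Q 0) k
  simp only [AlgHom.toRingHom_eq_coe, RingHom.coe_coe] at h1
  rw [h1]
  have e1 := map_beta_LamQ Q hQ N 0
  simp only [AlgHom.toRingHom_eq_coe] at e1
  rw [e1, newt_gpS, psumM_Mm, esymm_zero_right, map_one]

end universal_units

section main
variable {K : Type u} [CommRing K] [LambdaOps K]

/-- a torsion-free pre-λ-ring with good Adams operations is special -/
theorem isSpecial_of_adams (htf : ∀ n : ℕ, n ≠ 0 → ∀ a : K, n • a = 0 → a = 0)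
    (hPex : ∀ n : ℕ, ∃ P : MvPolynomial (Fin n ⊕ Fin n) ℤ, IsMulPoly n P)
    (hQex : ∀ i j : ℕ, ∃ Q : MvPolynomial (Fin (i * j)) ℤ, IsCompPoly i j Q)
    (h1 : ∀ k : ℕ, adamsOp (k + 1) (1 : K) = 1)
    (hmul : ∀ (k : ℕ) (x y : K), adamsOp (k + 1) (x * y) = adamsOp (k + 1) x * adamsOp (k + 1) y)
    (hcomp : ∀ (k k' : ℕ) (x : K),
      adamsOp (k + 1) (adamsOp (k' + 1) x) = adamsOp (k * k' + k + k' + 1) x) :
    IsSpecial K := by
  classical
  choose P hP using hPex
  choose Q hQ using hQex
  -- λ_t(1) = 1 + t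
  have hone : lamSeries (1 : K) = 1 + PowerSeries.C (1 : K) * PowerSeries.X := by
    apply eq_of_newt_eq_tf htf (LR.constantCoeff_lamSeries 1) (constantCoeff_lin 1)
    intro k
    rw [← adamsOp_succ_eq_newt, h1]
    have : (1 + PowerSeries.C (1 : K) * PowerSeries.X : PowerSeries K) = gpS {(1 : K)} := by
      simp [gpS]
    rw [this, newt_gpS]
    simp [psumM]
  -- the Adams operations as ring endomorphisms
  let ψ : ℕ → K →+* K := fun k =>
    { toFun := adamsOp (k + 1)
      map_one' := h1 k
      map_mul' := hmul k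
      map_zero' := adamsOp_zero' k
      map_add' := adamsOp_add k }
  -- products
  have hmulS : ∀ x y : K, PowerSeries.map (phi x y).toRingHom (LamP P) = lamSeries (x * y) := by
    intro x y
    apply eq_of_newt_eq_tf htf (constantCoeff_map' _ (constantCoeff_LamP P))
      (LR.constantCoeff_lamSeries _)
    intro k
    rw [← map_newt _ (constantCoeff_LamP P), newt_LamP P hP k, map_mul,
      map_newt _ constantCoeff_LamX, map_newt _ constantCoeff_LamY, map_phi_LamX, map_phi_LamY,
      ← adamsOp_succ_eq_newt, ← adamsOp_succ_eq_newt, ← adamsOp_succ_eq_newt, hmul]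
  -- ψ^{k+1}(λ^i x)
  have hψlam : ∀ (k : ℕ) (x : K) (i : ℕ),
      adamsOp (k + 1) (LambdaOps.lam i x) = (phi x x).toRingHom (newt k (LamQ Q i)) := by
    intro k x i
    have hGH : PowerSeries.map (ψ k) (lamSeries x) =
        PowerSeries.map (phi x x).toRingHom (Wser Q k) := by
      apply eq_of_newt_eq_tf htf (constantCoeff_map' _ (LR.constantCoeff_lamSeries x))
        (constantCoeff_map' _ (constantCoeff_Wser Q k))
      intro l
      rw [← map_newt _ (LR.constantCoeff_lamSeries x), ← map_newt _ (constantCoeff_Wser Q k),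
        newt_Wser Q hQ, map_newt _ constantCoeff_LamX, map_phi_LamX, ← adamsOp_succ_eq_newt,
        ← adamsOp_succ_eq_newt]
      exact hcomp k l x
    by_cases hi : i = 0
    · rw [hi, LambdaOps.lam_zero, h1, newt_LamQ_zero Q hQ, map_one]
    · have := congrArg (PowerSeries.coeff i) hGH
      rw [PowerSeries.coeff_map, PowerSeries.coeff_map, LR.coeff_lamSeries, Wser,
        PowerSeries.coeff_mk, if_neg hi] at this
      exact this
  have hlamS : ∀ (x : K) (i : ℕ),
      PowerSeries.map (phi x x).toRingHom (LamQ Q i) = lamSeries (LambdaOps.lam i x) := by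
    intro x i
    apply eq_of_newt_eq_tf htf (constantCoeff_map' _ (constantCoeff_LamQ Q i))
      (LR.constantCoeff_lamSeries _)
    intro k
    rw [← map_newt _ (constantCoeff_LamQ Q i), ← hψlam, adamsOp_succ_eq_newt]
  refine ⟨?_, ?_, ?_⟩
  · intro n hn
    have := congrArg (PowerSeries.coeff n) hone
    rw [LR.coeff_lamSeries] at this
    rw [this]
    obtain ⟨m, rfl⟩ : ∃ m, n = m + 2 := ⟨n - 2, by omega⟩
    simp [PowerSeries.coeff_one, PowerSeries.coeff_X]
  · intro n P' hP' x y
    have hPP : P' = P n := isMulPoly_unique hP' (hP n)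
    rw [hPP, ← phi_iotaP]
    by_cases hn : n = 0
    · subst hn
      rw [iotaP_zero_eq_one (P 0) (hP 0), map_one, LambdaOps.lam_zero]
    · have := congrArg (PowerSeries.coeff n) (hmulS x y)
      rw [PowerSeries.coeff_map, LR.coeff_lamSeries, LamP, PowerSeries.coeff_mk, if_neg hn] at this
      exact this.symm
  · intro i j Q' hQ' x
    have hQQ : Q' = Q i j := isCompPoly_unique hQ' (hQ i j)
    rw [hQQ, ← phi_iotaQ x x]
    by_cases hj : j = 0
    · subst hj
      rw [iotaQ_zero_right_eq_one i (Q i 0) (hQ i 0), map_one, LambdaOps.lam_zero]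
    · have := congrArg (PowerSeries.coeff j) (hlamS x i)
      rw [PowerSeries.coeff_map, LR.coeff_lamSeries, LamQ, PowerSeries.coeff_mk, if_neg hj] at this
      exact this.symm

end main

end Groth.Agent.Lib.Helper20.Sym
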