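import Groth.Agent.Lib.Helper20.SymInj

/-!
# Helper library (helper20): every bisymmetric polynomial is a polynomial in the elementary
symmetric functions of the two families.
-/

set_option autoImplicit false
universe u v

open Finset MvPolynomial

namespace Groth.Agent.Lib.Helper20.Sym

open LambdaRing

section surj
variable (n : ℕ)

/-- the inner ring `ℤ[U]` -/
local notation "SS" => MvPolynomial (Fin n) ℤ
/-- the iterated ring `ℤ[U][T]` -/
local notation "AA" => MvPolynomial (Fin n) (MvPolynomial (Fin n) ℤ)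

/-- the identification `ℤ[T, U] ≃ ℤ[U][T]` as a ring hom -/
noncomputable def PhiR : Om n →+* AA := (sumAlgEquiv ℤ (Fin n) (Fin n)).toRingEquiv.toRingHom

lemma PhiR_X_inl (a : Fin n) : PhiR n (X (Sum.inl a)) = X a :=
  sumAlgEquiv_X_inl ℤ (Fin n) (Fin n) a

lemma PhiR_X_inr (a : Fin n) : PhiR n (X (Sum.inr a)) = C (X a) :=
  sumAlgEquiv_X_inr ℤ (Fin n) (Fin n) a

lemma PhiR_C (r : ℤ) : PhiR n (C r) = C (C r) :=
  sumAlgEquiv_C_inl ℤ (Fin n) (Fin n) r

lemma PhiR_injective : Function.Injective (PhiR n) :=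
  (sumAlgEquiv ℤ (Fin n) (Fin n)).injective

lemma PhiR_rename_inl (e₁ : Equiv.Perm (Fin n)) (G : Om n) :
    PhiR n (rename (Equiv.sumCongr e₁ (Equiv.refl _)) G) = rename e₁ (PhiR n G) := by
  have : (PhiR n).comp (rename (Equiv.sumCongr e₁ (Equiv.refl (Fin n))) : Om n →ₐ[ℤ] Om n).toRingHom =
      ((rename e₁ : AA →ₐ[SS] AA).toRingHom).comp (PhiR n) := by
    apply MvPolynomial.ringHom_ext
    · intro r
      simp [PhiR_C]
    · rintro (a | a)
      · simp [PhiR_X_inl]
      · simp [PhiR_X_inr]
  exact RingHom.congr_fun this G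

lemma PhiR_rename_inr (e₂ : Equiv.Perm (Fin n)) (G : Om n) :
    PhiR n (rename (Equiv.sumCongr (Equiv.refl _) e₂) G) =
      map (rename e₂ : SS →ₐ[ℤ] SS).toRingHom (PhiR n G) := by
  have : (PhiR n).comp (rename (Equiv.sumCongr (Equiv.refl (Fin n)) e₂) : Om n →ₐ[ℤ] Om n).toRingHom =
      (map (rename e₂ : SS →ₐ[ℤ] SS).toRingHom).comp (PhiR n) := by
    apply MvPolynomial.ringHom_ext
    · intro r
      simp [PhiR_C]
    · rintro (a | a)
      · simp [PhiR_X_inl]
      · simp [PhiR_X_inr]
  exact RingHom.congr_fun this G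

/-- the substitution of the elementary symmetric functions over the base ring `ℤ[U]` -/
noncomputable def EmapS : AA →ₐ[SS] AA :=
  aeval (fun k : Fin n => esymm (Fin n) SS ((k : ℕ) + 1))

lemma EmapS_injective : Function.Injective (EmapS n) := by
  intro p q hpq
  apply esymmAlgHom_fin_injective SS (le_refl n)
  apply Subtype.ext
  rw [esymmAlgHom_apply, esymmAlgHom_apply]
  exact hpq

lemma map_EmapS (ρ : SS →+* SS) (G : AA) : map ρ (EmapS n G) = EmapS n (map ρ G) := by
  unfold EmapS
  rw [aeval_def, aeval_def, eval₂_comp_left (map ρ), eval₂_map]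
  congr 1
  · apply RingHom.ext
    intro c
    simp [algebraMap_eq]
  · funext k
    simp only [Function.comp_apply]
    exact MvPolynomial.map_esymm _ _ _ ρ

lemma Phi_rename_inr (c : SS) :
    (sumAlgEquiv ℤ (Fin n) (Fin n)) (rename Sum.inr c) = C c := by
  have := AlgHom.congr_fun (sumAlgEquiv_comp_rename_inr (R := ℤ) (S₁ := Fin n) (S₂ := Fin n)) c
  exact this

/-- the compatibility of `Bmap` with the iterated description -/
lemma PhiR_Bmap (GY : AA) :
    PhiR n (Bmap n n ((sumAlgEquiv ℤ (Fin n) (Fin n)).symm GY)) =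
      EmapS n (map (Emap n n).toRingHom GY) := by
  have : ((PhiR n).comp (Bmap n n).toRingHom).comp
        (sumAlgEquiv ℤ (Fin n) (Fin n)).symm.toRingEquiv.toRingHom =
      ((EmapS n).toRingHom).comp (map (Emap n n).toRingHom) := by
    apply MvPolynomial.ringHom_ext
    · intro c
      -- the inner polynomial `c`
      have h1 : (sumAlgEquiv ℤ (Fin n) (Fin n)).symm (C c) = rename Sum.inr c := by
        apply (sumAlgEquiv ℤ (Fin n) (Fin n)).injective
        rw [AlgEquiv.apply_symm_apply, Phi_rename_inr]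
      have h2 : Bmap n n (rename Sum.inr c) = rename Sum.inr (Emap n n c) := by
        unfold Bmap Emap
        rw [aeval_rename, ← AlgHom.comp_apply, comp_aeval]
        rfl
      have h3 : PhiR n (rename Sum.inr (Emap n n c)) = C (Emap n n c) :=
        Phi_rename_inr n (Emap n n c)
      simp only [RingHom.coe_comp, Function.comp_apply]
      change PhiR n (Bmap n n ((sumAlgEquiv ℤ (Fin n) (Fin n)).symm (C c))) =
        EmapS n (map (Emap n n).toRingHom (C c))
      rw [h1, h2, h3, map_C]
      unfold EmapS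
      rw [aeval_C]
      rfl
    · intro k
      simp only [RingHom.coe_comp, Function.comp_apply]
      change PhiR n (Bmap n n ((sumAlgEquiv ℤ (Fin n) (Fin n)).symm (X k))) =
        EmapS n (map (Emap n n).toRingHom (X k))
      rw [sumAlgEquiv_symm_X, map_X]
      unfold Bmap EmapS
      rw [aeval_X, aeval_X, Sum.elim_inl]
      unfold eT esymm
      simp only [map_sum, map_prod, rename_X, PhiR_X_inl]
  exact RingHom.congr_fun this GY

/-- every bisymmetric polynomial is a polynomial in the elementary symmetric functions of the two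
families -/
theorem exists_Bmap_eq_of_bisymm (F : Om n)
    (hsym : ∀ e₁ e₂ : Equiv.Perm (Fin n), rename (Equiv.sumCongr e₁ e₂) F = F) :
    ∃ P : MvPolynomial (Fin n ⊕ Fin n) ℤ, Bmap n n P = F := by
  classical
  -- step 1: symmetric in `T` over the base `ℤ[U]`
  have hT : (PhiR n F).IsSymmetric := by
    intro e₁
    rw [← PhiR_rename_inl, hsym]
  obtain ⟨G, hG⟩ := esymmAlgHom_fin_surjective SS (le_refl n) ⟨PhiR n F, hT⟩
  have hG' : EmapS n G = PhiR n F := by
    have := congrArg Subtype.val hG
    rw [esymmAlgHom_apply] at this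
    exact this
  -- step 2: the coefficients of `G` are symmetric in `U`
  have hU : ∀ e₂ : Equiv.Perm (Fin n), map (rename e₂ : SS →ₐ[ℤ] SS).toRingHom G = G := by
    intro e₂
    apply EmapS_injective n
    rw [← map_EmapS, hG', ← PhiR_rename_inr, hsym]
  have hcoef : (G.coeffs : Set SS) ⊆ Set.range (Emap n n).toRingHom := by
    intro c hc
    rw [Finset.mem_coe, mem_coeffs_iff] at hc
    obtain ⟨m, _, rfl⟩ := hc
    have hcs : (coeff m G).IsSymmetric := by
      intro e₂
      have := congrArg (coeff m) (hU e₂)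
      rw [coeff_map] at this
      exact this
    obtain ⟨c', hc'⟩ := esymmAlgHom_fin_surjective ℤ (le_refl n) ⟨coeff m G, hcs⟩
    refine ⟨c', ?_⟩
    have := congrArg Subtype.val hc'
    rw [esymmAlgHom_apply] at this
    exact this
  obtain ⟨GY, hGY⟩ := mem_range_map_iff_coeffs_subset.mpr hcoef
  refine ⟨(sumAlgEquiv ℤ (Fin n) (Fin n)).symm GY, ?_⟩
  apply PhiR_injective n
  rw [PhiR_Bmap, hGY, hG']

end surj

end Groth.Agent.Lib.Helper20.Sym
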