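import Groth.Prelude.Def_LambdaSp
import Groth.Agent.Lib.Helper20.SymCore

/-!
# Helper library (helper20): the split rings `ℤ[T_1..T_N, U_1..U_N]`, the substitution maps of
elementary symmetric functions, and the values of the universal polynomials in any number of
variables.
-/

set_option autoImplicit false
universe u v

open Finset MvPolynomial

namespace Groth.Agent.Lib.Helper20.Sym

open LambdaRing

/-- the split ring `ℤ[T_1..T_N, U_1..U_N]` -/
abbrev Om (N : ℕ) := MvPolynomial (Fin N ⊕ Fin N) ℤ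

/-- `e_k(T)` -/
noncomputable def eT (N k : ℕ) : Om N := rename Sum.inl (esymm (Fin N) ℤ k)
/-- `e_k(U)` -/
noncomputable def eU (N k : ℕ) : Om N := rename Sum.inr (esymm (Fin N) ℤ k)

lemma eT_eq (N k : ℕ) :
    eT N k = (Finset.univ.val.map fun a : Fin N => (X (Sum.inl a) : Om N)).esymm k := by
  unfold eT
  rw [esymm_eq_multiset_esymm]
  have := map_esymm (rename Sum.inl : MvPolynomial (Fin N) ℤ →ₐ[ℤ] Om N).toRingHom
    (Finset.univ.val.map X) k
  simp only [AlgHom.toRingHom_eq_coe, RingHom.coe_coe] at this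
  rw [this, Multiset.map_map]
  congr 1
  apply Multiset.map_congr rfl
  intro a _
  simp

lemma eU_eq (N k : ℕ) :
    eU N k = (Finset.univ.val.map fun a : Fin N => (X (Sum.inr a) : Om N)).esymm k := by
  unfold eU
  rw [esymm_eq_multiset_esymm]
  have := map_esymm (rename Sum.inr : MvPolynomial (Fin N) ℤ →ₐ[ℤ] Om N).toRingHom
    (Finset.univ.val.map X) k
  simp only [AlgHom.toRingHom_eq_coe, RingHom.coe_coe] at this
  rw [this, Multiset.map_map]
  congr 1
  apply Multiset.map_congr rfl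
  intro a _
  simp

/-- the substitution `X_k ↦ e_{k+1}(T)`, `Y_k ↦ e_{k+1}(U)` -/
noncomputable def Bmap (N n : ℕ) : MvPolynomial (Fin n ⊕ Fin n) ℤ →ₐ[ℤ] Om N :=
  aeval (Sum.elim (fun k : Fin n => eT N ((k : ℕ) + 1)) (fun k : Fin n => eU N ((k : ℕ) + 1)))

lemma isMulPoly_iff (n : ℕ) (P : MvPolynomial (Fin n ⊕ Fin n) ℤ) :
    IsMulPoly n P ↔ Bmap n n P = mulGen n n ∧
      IsWeightedHomogeneous
        (Sum.elim (fun k : Fin n => (((k : ℕ) + 1, 0) : ℕ × ℕ))
          (fun k : Fin n => ((0, (k : ℕ) + 1) : ℕ × ℕ))) P ((n, n) : ℕ × ℕ) := Iff.rfl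

section killing
variable {n N : ℕ} (h : n ≤ N)

/-- the inclusion of the first `n` variables of each family -/
def incl : Fin n ⊕ Fin n → Fin N ⊕ Fin N := Sum.map (Fin.castLE h) (Fin.castLE h)

lemma incl_injective : Function.Injective (incl h) :=
  Sum.map_injective.mpr ⟨Fin.castLE_injective h, Fin.castLE_injective h⟩

/-- kill the variables of index `≥ n` -/
noncomputable def kill : Om N →ₐ[ℤ] Om n := killCompl (incl_injective h)

lemma killCompl_X_apply {σ τ : Type*} {f : τ → σ} (hf : Function.Injective f) (j : τ) :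
    killCompl (R := ℤ) hf (X (f j)) = X j := by
  have := killCompl_rename_app (R := ℤ) hf (X j)
  rwa [rename_X] at this

lemma killCompl_X_of_notMem {σ τ : Type*} {f : τ → σ} (hf : Function.Injective f) (i : σ)
    (hi : i ∉ Set.range f) : killCompl (R := ℤ) hf (X i) = 0 := by
  classical
  rw [killCompl, aeval_X, dif_neg hi]

lemma kill_X_inl_castLE (a : Fin n) : kill h (X (Sum.inl (Fin.castLE h a))) = X (Sum.inl a) :=
  killCompl_X_apply (incl_injective h) (Sum.inl a)

lemma kill_X_inr_castLE (a : Fin n) : kill h (X (Sum.inr (Fin.castLE h a))) = X (Sum.inr a) :=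
  killCompl_X_apply (incl_injective h) (Sum.inr a)

lemma kill_X_inl_of_notMem (a : Fin N) (ha : a ∉ Set.range (Fin.castLE h)) :
    kill h (X (Sum.inl a)) = 0 := by
  apply killCompl_X_of_notMem
  rintro ⟨(b | b), hb⟩
  · apply ha
    simp only [incl, Sum.map_inl, Sum.inl.injEq] at hb
    exact ⟨b, hb⟩
  · simp [incl] at hb

lemma kill_X_inr_of_notMem (a : Fin N) (ha : a ∉ Set.range (Fin.castLE h)) :
    kill h (X (Sum.inr a)) = 0 := by
  apply killCompl_X_of_notMem
  rintro ⟨(b | b), hb⟩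
  · simp [incl] at hb
  · apply ha
    simp only [incl, Sum.map_inr, Sum.inr.injEq] at hb
    exact ⟨b, hb⟩

lemma kill_eT (k : ℕ) : kill h (eT N k) = eT n k := by
  classical
  rw [eT_eq, eT_eq]
  have := map_esymm (kill h).toRingHom
    (Finset.univ.val.map fun a : Fin N => (X (Sum.inl a) : Om N)) k
  simp only [AlgHom.toRingHom_eq_coe, RingHom.coe_coe] at this
  rw [this, Multiset.map_map,
    esymm_univ_of_zero_off_range (Fin.castLE h) (Fin.castLE_injective h) _ _ k]
  · congr 1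
    apply Multiset.map_congr rfl
    intro a _
    exact kill_X_inl_castLE h a
  · intro a ha
    exact kill_X_inl_of_notMem h a ha

lemma kill_eU (k : ℕ) : kill h (eU N k) = eU n k := by
  classical
  rw [eU_eq, eU_eq]
  have := map_esymm (kill h).toRingHom
    (Finset.univ.val.map fun a : Fin N => (X (Sum.inr a) : Om N)) k
  simp only [AlgHom.toRingHom_eq_coe, RingHom.coe_coe] at this
  rw [this, Multiset.map_map,
    esymm_univ_of_zero_off_range (Fin.castLE h) (Fin.castLE_injective h) _ _ k]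
  · congr 1
    apply Multiset.map_congr rfl
    intro a _
    exact kill_X_inr_castLE h a
  · intro a ha
    exact kill_X_inr_of_notMem h a ha

lemma kill_mulGen (k : ℕ) : kill h (mulGen N k) = mulGen n k := by
  classical
  unfold mulGen
  have := map_esymm (kill h).toRingHom
    ((Finset.univ : Finset (Fin N × Fin N)).val.map
      fun ab => (X (Sum.inl ab.1) * X (Sum.inr ab.2) : Om N)) k
  simp only [AlgHom.toRingHom_eq_coe, RingHom.coe_coe] at this
  rw [this, Multiset.map_map,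
    esymm_univ_of_zero_off_range (Prod.map (Fin.castLE h) (Fin.castLE h))
      ((Fin.castLE_injective h).prodMap (Fin.castLE_injective h)) _ _ k]
  · congr 1
    apply Multiset.map_congr rfl
    rintro ⟨a, b⟩ _
    simp only [Function.comp_apply, Prod.map_apply, map_mul]
    rw [kill_X_inl_castLE, kill_X_inr_castLE]
  · rintro ⟨a, b⟩ hab
    simp only [Function.comp_apply, map_mul]
    by_cases ha : a ∈ Set.range (Fin.castLE h)
    · have hb : b ∉ Set.range (Fin.castLE h) := by
        rintro ⟨b', rfl⟩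
        obtain ⟨a', rfl⟩ := ha
        exact hab ⟨(a', b'), rfl⟩
      rw [kill_X_inr_of_notMem h b hb, mul_zero]
    · rw [kill_X_inl_of_notMem h a ha, zero_mul]

lemma kill_Bmap (m : ℕ) (P : MvPolynomial (Fin m ⊕ Fin m) ℤ) :
    kill h (Bmap N m P) = Bmap n m P := by
  unfold Bmap
  rw [← AlgHom.comp_apply, comp_aeval]
  congr 2
  funext i
  rcases i with i | i
  · exact kill_eT h _
  · exact kill_eU h _

end killing

section symmetry
variable {N : ℕ}

lemma rename_sumCongr_eT (e₁ e₂ : Equiv.Perm (Fin N)) (k : ℕ) :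
    rename (Equiv.sumCongr e₁ e₂) (eT N k) = eT N k := by
  unfold eT
  rw [rename_rename]
  have : (⇑(Equiv.sumCongr e₁ e₂) ∘ Sum.inl) = Sum.inl ∘ e₁ := by
    funext a; simp
  rw [this, ← rename_rename, rename_esymm]

lemma rename_sumCongr_eU (e₁ e₂ : Equiv.Perm (Fin N)) (k : ℕ) :
    rename (Equiv.sumCongr e₁ e₂) (eU N k) = eU N k := by
  unfold eU
  rw [rename_rename]
  have : (⇑(Equiv.sumCongr e₁ e₂) ∘ Sum.inr) = Sum.inr ∘ e₂ := by
    funext a; simp
  rw [this, ← rename_rename, rename_esymm]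

lemma rename_sumCongr_Bmap (e₁ e₂ : Equiv.Perm (Fin N)) (m : ℕ)
    (P : MvPolynomial (Fin m ⊕ Fin m) ℤ) :
    rename (Equiv.sumCongr e₁ e₂) (Bmap N m P) = Bmap N m P := by
  unfold Bmap
  rw [← AlgHom.comp_apply, comp_aeval]
  congr 2
  funext i
  rcases i with i | i
  · exact rename_sumCongr_eT e₁ e₂ _
  · exact rename_sumCongr_eU e₁ e₂ _

lemma rename_sumCongr_mulGen (e₁ e₂ : Equiv.Perm (Fin N)) (k : ℕ) :
    rename (Equiv.sumCongr e₁ e₂) (mulGen N k) = mulGen N k := by
  unfold mulGen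
  have := map_esymm (rename (Equiv.sumCongr e₁ e₂) : Om N →ₐ[ℤ] Om N).toRingHom
    ((Finset.univ : Finset (Fin N × Fin N)).val.map
      fun ab => (X (Sum.inl ab.1) * X (Sum.inr ab.2) : Om N)) k
  simp only [AlgHom.toRingHom_eq_coe, RingHom.coe_coe] at this
  rw [this, Multiset.map_map]
  congr 1
  have h2 : ((⇑(rename (Equiv.sumCongr e₁ e₂) : Om N →ₐ[ℤ] Om N)) ∘
      fun ab : Fin N × Fin N => (X (Sum.inl ab.1) * X (Sum.inr ab.2) : Om N)) =
      (fun ab : Fin N × Fin N => (X (Sum.inl ab.1) * X (Sum.inr ab.2) : Om N)) ∘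
        (Equiv.prodCongr e₁ e₂) := by
    funext ab
    simp
  rw [h2, ← Multiset.map_map, Multiset.map_univ_val_equiv]

end symmetry

section weights
variable {N : ℕ}

/-- the bidegree weights on `Om N` -/
def wOm (N : ℕ) : Fin N ⊕ Fin N → ℕ × ℕ := Sum.elim (fun _ => (1, 0)) (fun _ => (0, 1))

lemma isWeightedHomogeneous_eT (k : ℕ) : IsWeightedHomogeneous (wOm N) (eT N k) (k, 0) := by
  unfold eT esymm
  rw [map_sum]
  apply IsWeightedHomogeneous.sum
  intro t ht
  rw [map_prod]
  have hc : t.card = k := (Finset.mem_powersetCard.mp ht).2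
  have : ((k, 0) : ℕ × ℕ) = ∑ _i ∈ t, ((1, 0) : ℕ × ℕ) := by
    rw [Finset.sum_const, hc]; simp
  rw [this]
  apply IsWeightedHomogeneous.prod
  intro i _
  rw [rename_X]
  exact isWeightedHomogeneous_X ℤ (wOm N) (Sum.inl i)

lemma isWeightedHomogeneous_eU (k : ℕ) : IsWeightedHomogeneous (wOm N) (eU N k) (0, k) := by
  unfold eU esymm
  rw [map_sum]
  apply IsWeightedHomogeneous.sum
  intro t ht
  rw [map_prod]
  have hc : t.card = k := (Finset.mem_powersetCard.mp ht).2
  have : ((0, k) : ℕ × ℕ) = ∑ _i ∈ t, ((0, 1) : ℕ × ℕ) := by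
    rw [Finset.sum_const, hc]; simp
  rw [this]
  apply IsWeightedHomogeneous.prod
  intro i _
  rw [rename_X]
  exact isWeightedHomogeneous_X ℤ (wOm N) (Sum.inr i)

lemma isWeightedHomogeneous_mulGen (k : ℕ) :
    IsWeightedHomogeneous (wOm N) (mulGen N k) (k, k) := by
  unfold mulGen
  rw [Finset.esymm_map_val]
  apply IsWeightedHomogeneous.sum
  intro t ht
  have hc : t.card = k := (Finset.mem_powersetCard.mp ht).2
  have : ((k, k) : ℕ × ℕ) = ∑ _i ∈ t, ((1, 1) : ℕ × ℕ) := by
    rw [Finset.sum_const, hc]; simp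
  rw [this]
  apply IsWeightedHomogeneous.prod
  intro ab _
  have h11 : ((1, 1) : ℕ × ℕ) = (1, 0) + (0, 1) := by simp
  rw [h11]
  exact (isWeightedHomogeneous_X ℤ (wOm N) (Sum.inl ab.1)).mul
    (isWeightedHomogeneous_X ℤ (wOm N) (Sum.inr ab.2))

lemma isWeightedHomogeneous_Bmap {n : ℕ} {P : MvPolynomial (Fin n ⊕ Fin n) ℤ} {m : ℕ × ℕ}
    (hP : IsWeightedHomogeneous
        (Sum.elim (fun k : Fin n => (((k : ℕ) + 1, 0) : ℕ × ℕ))
          (fun k : Fin n => ((0, (k : ℕ) + 1) : ℕ × ℕ))) P m) :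
    IsWeightedHomogeneous (wOm N) (Bmap N n P) m := by
  unfold Bmap
  apply isWeightedHomogeneous_aeval_int _ _ hP
  rintro (i | i)
  · exact isWeightedHomogeneous_eT _
  · exact isWeightedHomogeneous_eU _

/-- the two components of the weight of a monomial -/
lemma weight_wOm (m : (Fin N ⊕ Fin N) →₀ ℕ) :
    Finsupp.weight (wOm N) m = (∑ a, m (Sum.inl a), ∑ b, m (Sum.inr b)) := by
  rw [Finsupp.weight_eq_sum, Fintype.sum_sum_type]
  simp only [wOm, Sum.elim_inl, Sum.elim_inr]
  ext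
  · simp [Prod.fst_sum]
  · simp [Prod.snd_sum]

end weights

section extension

/-- support argument for bisymmetric polynomials of bidegree `(n, n)` -/
lemma eq_zero_of_kill_eq_zero {n N : ℕ} (h : n ≤ N) (F : Om N)
    (hsym : ∀ e₁ e₂ : Equiv.Perm (Fin N), rename (Equiv.sumCongr e₁ e₂) F = F)
    (hw : IsWeightedHomogeneous (wOm N) F (n, n)) (hk : kill h F = 0) : F = 0 := by
  classical
  apply eq_zero_of_killCompl_eq_zero (incl_injective h) F _ hk
  intro m hm
  have hwm := hw (MvPolynomial.mem_support_iff.mp hm)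
  rw [weight_wOm] at hwm
  have h1 : ∑ a, m (Sum.inl a) = n := congrArg Prod.fst hwm
  have h2 : ∑ b, m (Sum.inr b) = n := congrArg Prod.snd hwm
  -- the supports in each family have at most `n` elements
  let s₁ : Finset (Fin N) := Finset.univ.filter fun a => m (Sum.inl a) ≠ 0
  let s₂ : Finset (Fin N) := Finset.univ.filter fun a => m (Sum.inr a) ≠ 0
  let t : Finset (Fin N) := Finset.univ.filter fun a => (a : ℕ) < n
  have ht : t.card = n := by
    have : t = Finset.univ.map (Fin.castLEEmb h) := by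
      ext a
      simp only [t, Finset.mem_filter, Finset.mem_univ, true_and, Finset.mem_map,
        Fin.castLEEmb_apply]
      constructor
      · intro ha
        exact ⟨⟨a, ha⟩, by ext; simp⟩
      · rintro ⟨b, rfl⟩
        simp
    rw [this, Finset.card_map, Finset.card_univ, Fintype.card_fin]
  have hc₁ : s₁.card ≤ t.card := by
    rw [ht, ← h1, Finset.card_eq_sum_ones]
    calc ∑ _a ∈ s₁, 1 ≤ ∑ a ∈ s₁, m (Sum.inl a) := by
          apply Finset.sum_le_sum
          intro a ha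
          have : m (Sum.inl a) ≠ 0 := (Finset.mem_filter.mp ha).2
          omega
      _ ≤ ∑ a, m (Sum.inl a) := Finset.sum_le_univ_sum_of_nonneg (fun _ => Nat.zero_le _)
  have hc₂ : s₂.card ≤ t.card := by
    rw [ht, ← h2, Finset.card_eq_sum_ones]
    calc ∑ _a ∈ s₂, 1 ≤ ∑ a ∈ s₂, m (Sum.inr a) := by
          apply Finset.sum_le_sum
          intro a ha
          have : m (Sum.inr a) ≠ 0 := (Finset.mem_filter.mp ha).2
          omega
      _ ≤ ∑ a, m (Sum.inr a) := Finset.sum_le_univ_sum_of_nonneg (fun _ => Nat.zero_le _)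
  obtain ⟨e₁, he₁⟩ := exists_perm_map_subset s₁ t hc₁
  obtain ⟨e₂, he₂⟩ := exists_perm_map_subset s₂ t hc₂
  refine ⟨Equiv.sumCongr e₁ e₂, hsym e₁ e₂, ?_⟩
  rintro (a | a) ha
  · have hma : m (Sum.inl a) ≠ 0 := Finsupp.mem_support_iff.mp ha
    have := he₁ a (Finset.mem_filter.mpr ⟨Finset.mem_univ _, hma⟩)
    have hlt : ((e₁ a : Fin N) : ℕ) < n := (Finset.mem_filter.mp this).2
    refine ⟨Sum.inl ⟨e₁ a, hlt⟩, ?_⟩
    simp [incl]
  · have hma : m (Sum.inr a) ≠ 0 := Finsupp.mem_support_iff.mp ha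
    have := he₂ a (Finset.mem_filter.mpr ⟨Finset.mem_univ _, hma⟩)
    have hlt : ((e₂ a : Fin N) : ℕ) < n := (Finset.mem_filter.mp this).2
    refine ⟨Sum.inr ⟨e₂ a, hlt⟩, ?_⟩
    simp [incl]

/-- the defining identity of `P_n` holds in any number `N ≥ n` of variables -/
theorem Bmap_eq_mulGen_of_le {n N : ℕ} (h : n ≤ N) (P : MvPolynomial (Fin n ⊕ Fin n) ℤ)
    (hP : IsMulPoly n P) : Bmap N n P = mulGen N n := by
  rw [isMulPoly_iff] at hP
  rw [← sub_eq_zero]
  apply eq_zero_of_kill_eq_zero h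
  · intro e₁ e₂
    rw [map_sub, rename_sumCongr_Bmap, rename_sumCongr_mulGen]
  · exact (isWeightedHomogeneous_Bmap hP.2).sub (isWeightedHomogeneous_mulGen n)
  · rw [map_sub, kill_Bmap, kill_mulGen, hP.1, sub_self]

/-- the defining identity of `P_n` holds in any number `N ≤ n` of variables -/
theorem Bmap_eq_mulGen_of_ge {n N : ℕ} (h : N ≤ n) (P : MvPolynomial (Fin n ⊕ Fin n) ℤ)
    (hP : IsMulPoly n P) : Bmap N n P = mulGen N n := by
  rw [isMulPoly_iff] at hP
  rw [← kill_Bmap h, hP.1, kill_mulGen]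

theorem Bmap_eq_mulGen (n N : ℕ) (P : MvPolynomial (Fin n ⊕ Fin n) ℤ)
    (hP : IsMulPoly n P) : Bmap N n P = mulGen N n := by
  rcases le_total n N with h | h
  · exact Bmap_eq_mulGen_of_le h P hP
  · exact Bmap_eq_mulGen_of_ge h P hP

end extension

end Groth.Agent.Lib.Helper20.Sym
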