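import Mathlib.LinearAlgebra.Finsupp.LinearCombination
import Mathlib.LinearAlgebra.Quotient.Basic
import Mathlib.LinearAlgebra.Finsupp.Defs
import Mathlib.Algebra.Module.Submodule.Range
import Mathlib.Algebra.Module.Submodule.Ker
import Mathlib.Tactic.Abel
import Mathlib.Tactic.Ring

/-!
# The complex of symmetric 2-cocycles in low degrees (helper20)
-/

set_option autoImplicit false

namespace Groth.Agent.Lib.Helper20.SymmCocycle

open Finsupp

variable (P : Type*) [AddCommGroup P]

noncomputable def ε : (P →₀ ℤ) →ₗ[ℤ] P := Finsupp.linearCombination ℤ (fun p : P => p)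

noncomputable def d₀ : (P × P →₀ ℤ) →ₗ[ℤ] (P →₀ ℤ) := Finsupp.linearCombination ℤ
  (fun pq : P × P => Finsupp.single (pq.1 + pq.2) 1 - Finsupp.single pq.1 1 - Finsupp.single pq.2 1)

noncomputable def d₁ : (P × P × P →₀ ℤ) →ₗ[ℤ] (P × P →₀ ℤ) := Finsupp.linearCombination ℤ
  (fun t : P × P × P => Finsupp.single (t.1 + t.2.1, t.2.2) 1 - Finsupp.single (t.1, t.2.1 + t.2.2) 1
    + Finsupp.single (t.1, t.2.1) 1 - Finsupp.single (t.2.1, t.2.2) 1)

noncomputable def d₁' : (P × P →₀ ℤ) →ₗ[ℤ] (P × P →₀ ℤ) := Finsupp.linearCombination ℤ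
  (fun pq : P × P => Finsupp.single pq 1 - Finsupp.single (pq.2, pq.1) 1)

variable {P}

lemma lhom_ext1 {X M : Type*} [AddCommGroup M] (f g : (X →₀ ℤ) →ₗ[ℤ] M)
    (h : ∀ x, f (single x 1) = g (single x 1)) : f = g := by
  apply Finsupp.lhom_ext'
  intro x
  apply LinearMap.ext_ring
  simpa using h x

@[simp] lemma ε_single (p : P) : ε P (single p 1) = p := by
  simp [ε, Finsupp.linearCombination_single]

@[simp] lemma d₀_single (p q : P) :
    d₀ P (single (p, q) 1) = single (p + q) 1 - single p 1 - single q 1 := by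
  simp [d₀, Finsupp.linearCombination_single]

@[simp] lemma d₁_single (p q r : P) :
    d₁ P (single (p, q, r) 1) =
      single (p + q, r) 1 - single (p, q + r) 1 + single (p, q) 1 - single (q, r) 1 := by
  simp [d₁, Finsupp.linearCombination_single]

@[simp] lemma d₁'_single (p q : P) :
    d₁' P (single (p, q) 1) = single (p, q) 1 - single (q, p) 1 := by
  simp [d₁', Finsupp.linearCombination_single]

section PartAB

lemma ε_surjective : Function.Surjective (ε P) := fun p => ⟨single p 1, ε_single p⟩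

lemma ε_comp_d₀ : (ε P).comp (d₀ P) = 0 := by
  apply lhom_ext1
  rintro ⟨p, q⟩
  simp [map_sub]

/-- the additive section `P → Z[P]/im d₀` -/
noncomputable def s : P →+ ((P →₀ ℤ) ⧸ LinearMap.range (d₀ P)) :=
  AddMonoidHom.mk' (fun p => Submodule.Quotient.mk (single p 1)) (by
    intro p q
    rw [← Submodule.Quotient.mk_add, Submodule.Quotient.eq]
    refine ⟨single (p, q) 1, ?_⟩
    rw [d₀_single]
    abel)

lemma mkQ_eq : (LinearMap.range (d₀ P)).mkQ = (s (P := P)).toIntLinearMap.comp (ε P) := by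
  apply lhom_ext1
  intro p
  simp [s]

lemma ker_ε : LinearMap.ker (ε P) = LinearMap.range (d₀ P) := by
  apply le_antisymm
  · intro x hx
    rw [LinearMap.mem_ker] at hx
    have h := LinearMap.congr_fun (mkQ_eq (P := P)) x
    rw [LinearMap.comp_apply, hx, map_zero] at h
    rw [← Submodule.ker_mkQ (LinearMap.range (d₀ P)), LinearMap.mem_ker]
    exact h
  · rintro _ ⟨y, rfl⟩
    rw [LinearMap.mem_ker]
    exact LinearMap.congr_fun ε_comp_d₀ y

end PartAB

section PartC

variable (P)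

/-- the universal target of symmetric 2-cocycles -/
abbrev Q : Type _ := (P × P →₀ ℤ) ⧸ (LinearMap.range (d₁ P) ⊔ LinearMap.range (d₁' P))

variable {P}

/-- the universal cocycle -/
noncomputable def c (p q : P) : Q P := Submodule.Quotient.mk (single (p, q) 1)

lemma c_cocycle (p q r : P) : c (p + q) r - c p (q + r) + c p q - c q r = 0 := by
  unfold c
  rw [← Submodule.Quotient.mk_sub, ← Submodule.Quotient.mk_add, ← Submodule.Quotient.mk_sub,
    Submodule.Quotient.mk_eq_zero]
  apply Submodule.mem_sup_left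
  exact ⟨single (p, q, r) 1, d₁_single p q r⟩

lemma c_symm (p q : P) : c p q = c q p := by
  unfold c
  rw [Submodule.Quotient.eq]
  apply Submodule.mem_sup_right
  exact ⟨single (p, q) 1, d₁'_single p q⟩

lemma c_zero_right (p : P) : c p 0 = c (0 : P) 0 := by
  have h := c_cocycle p 0 0
  rw [add_zero, add_zero] at h
  have : c p 0 - c (0 : P) 0 = 0 := by
    calc c p 0 - c (0 : P) 0 = c p 0 - c p 0 + c p 0 - c (0 : P) 0 := by abel
      _ = 0 := h
  exact sub_eq_zero.mp this

lemma c_zero_left (p : P) : c 0 p = c (0 : P) 0 := by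
  rw [c_symm, c_zero_right]

variable (P)

/-- the universal symmetric extension of `P` by `Q P` -/
@[ext] structure E where
  a : Q P
  p : P

variable {P}

noncomputable def E.add (x y : E P) : E P := ⟨x.a + y.a + c x.p y.p, x.p + y.p⟩
noncomputable def E.zero : E P := ⟨-c (0 : P) 0, 0⟩
noncomputable def E.neg (x : E P) : E P := ⟨-x.a - c x.p (-x.p) - c (0 : P) 0, -x.p⟩

lemma E_add_assoc (x y z : E P) : E.add (E.add x y) z = E.add x (E.add y z) := by
  apply E.ext
  · show x.a + y.a + c x.p y.p + z.a + c (x.p + y.p) z.p =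
      x.a + (y.a + z.a + c y.p z.p) + c x.p (y.p + z.p)
    have h := c_cocycle x.p y.p z.p
    have h' : c (x.p + y.p) z.p + c x.p y.p = c x.p (y.p + z.p) + c y.p z.p := by
      have : c (x.p + y.p) z.p + c x.p y.p - (c x.p (y.p + z.p) + c y.p z.p) = 0 := by
        rw [← h]; abel
      exact sub_eq_zero.mp this
    calc x.a + y.a + c x.p y.p + z.a + c (x.p + y.p) z.p
        = x.a + y.a + z.a + (c (x.p + y.p) z.p + c x.p y.p) := by abel
      _ = x.a + y.a + z.a + (c x.p (y.p + z.p) + c y.p z.p) := by rw [h']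
      _ = _ := by abel
  · exact add_assoc _ _ _

lemma E_zero_add (x : E P) : E.add E.zero x = x := by
  apply E.ext
  · show -c (0 : P) 0 + x.a + c 0 x.p = x.a
    rw [c_zero_left x.p]; abel
  · exact zero_add _

lemma E_neg_add_cancel (x : E P) : E.add (E.neg x) x = E.zero := by
  apply E.ext
  · show -x.a - c x.p (-x.p) - c (0 : P) 0 + x.a + c (-x.p) x.p = -c (0 : P) 0
    rw [c_symm (-x.p) x.p]; abel
  · exact neg_add_cancel _

lemma E_add_comm (x y : E P) : E.add x y = E.add y x := by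
  apply E.ext
  · show x.a + y.a + c x.p y.p = y.a + x.a + c y.p x.p
    rw [c_symm x.p y.p]; abel
  · exact add_comm _ _

noncomputable instance : AddCommGroup (E P) where
  add := E.add
  zero := E.zero
  neg := E.neg
  nsmul := @nsmulRec _ ⟨E.zero⟩ ⟨E.add⟩
  zsmul := @zsmulRec _ ⟨E.zero⟩ ⟨E.add⟩ ⟨E.neg⟩ (@nsmulRec _ ⟨E.zero⟩ ⟨E.add⟩)
  add_assoc := E_add_assoc
  zero_add := E_zero_add
  add_zero x := (E_add_comm x E.zero).trans (E_zero_add x)
  neg_add_cancel := E_neg_add_cancel
  add_comm := E_add_comm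

lemma E_add_a (x y : E P) : (x + y).a = x.a + y.a + c x.p y.p := rfl
lemma E_add_p (x y : E P) : (x + y).p = x.p + y.p := rfl
lemma E_zero_a : (0 : E P).a = -c (0 : P) 0 := rfl
lemma E_zero_p : (0 : E P).p = 0 := rfl

/-- the inclusion of `Q P` in `E P` -/
noncomputable def ι : Q P →+ E P :=
  AddMonoidHom.mk' (fun a => ⟨a - c (0 : P) 0, 0⟩) (by
    intro a b
    apply E.ext
    · rw [E_add_a]
      show a + b - c (0 : P) 0 = a - c (0 : P) 0 + (b - c (0 : P) 0) + c (0 : P) 0
      abel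
    · rw [E_add_p]
      show (0 : P) = 0 + 0
      rw [add_zero])

lemma ι_injective : Function.Injective (ι (P := P)) := by
  rw [injective_iff_map_eq_zero]
  intro a ha
  have h := congrArg E.a ha
  rw [E_zero_a] at h
  have h' : a - c (0 : P) 0 = -c (0 : P) 0 := h
  have : a = a - c (0 : P) 0 + c (0 : P) 0 := by abel
  rw [this, h']
  abel

/-- the set-theoretic section as a homomorphism from `Z[P]` -/
noncomputable def φ : (P →₀ ℤ) →+ E P :=
  Finsupp.liftAddHom (fun p => zmultiplesHom (E P) ⟨0, p⟩)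

lemma φ_single (p : P) : φ (single p 1) = (⟨0, p⟩ : E P) := by
  simp [φ]

lemma sect_add (p q : P) :
    (⟨0, p⟩ : E P) + ⟨0, q⟩ = (⟨0, p + q⟩ : E P) + ι (c p q) := by
  apply E.ext
  · rw [E_add_a, E_add_a]
    show (0 : Q P) + 0 + c p q = 0 + (c p q - c (0 : P) 0) + c (p + q) 0
    rw [c_zero_right (p + q)]; abel
  · rw [E_add_p, E_add_p]
    show p + q = p + q + 0
    rw [add_zero]

lemma φ_d₀ : (φ (P := P)).comp (d₀ P).toAddMonoidHom =
    -((ι (P := P)).comp (LinearMap.range (d₁ P) ⊔ LinearMap.range (d₁' P)).mkQ.toAddMonoidHom) := by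
  apply Finsupp.addHom_ext
  rintro ⟨p, q⟩ n
  have h1 : (single (p, q) n : P × P →₀ ℤ) = n • single (p, q) 1 := by
    rw [Finsupp.smul_single, smul_eq_mul, mul_one]
  simp only [AddMonoidHom.comp_apply, AddMonoidHom.neg_apply, LinearMap.toAddMonoidHom_coe]
  rw [h1, map_zsmul, map_zsmul, map_zsmul, map_zsmul, ← smul_neg]
  congr 1
  rw [d₀_single, map_sub, map_sub, φ_single, φ_single, φ_single]
  have h2 := sect_add p q
  have h3 : (LinearMap.range (d₁ P) ⊔ LinearMap.range (d₁' P)).mkQ (single (p, q) 1) = c p q := rfl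
  rw [h3]
  have : (⟨0, p + q⟩ : E P) = (⟨0, p⟩ : E P) + ⟨0, q⟩ - ι (c p q) := by
    rw [h2]; abel
  rw [this]
  abel

lemma d₀_comp_d₁ : (d₀ P).comp (d₁ P) = 0 := by
  apply lhom_ext1
  rintro ⟨p, q, r⟩
  simp only [LinearMap.comp_apply, d₁_single, map_sub, map_add, d₀_single, LinearMap.zero_apply]
  rw [add_assoc p q r]
  abel

lemma d₀_comp_d₁' : (d₀ P).comp (d₁' P) = 0 := by
  apply lhom_ext1
  rintro ⟨p, q⟩
  simp only [LinearMap.comp_apply, d₁'_single, map_sub, d₀_single, LinearMap.zero_apply]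
  rw [add_comm q p]
  abel

theorem ker_d₀ : LinearMap.ker (d₀ P) = LinearMap.range (d₁ P) ⊔ LinearMap.range (d₁' P) := by
  apply le_antisymm
  · intro x hx
    rw [LinearMap.mem_ker] at hx
    have h := DFunLike.congr_fun (φ_d₀ (P := P)) x
    simp only [AddMonoidHom.comp_apply, AddMonoidHom.neg_apply, LinearMap.toAddMonoidHom_coe] at h
    rw [hx, map_zero] at h
    have h2 : ι ((LinearMap.range (d₁ P) ⊔ LinearMap.range (d₁' P)).mkQ x) = 0 := by
      have := congrArg Neg.neg h
      rw [neg_neg, neg_zero] at this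
      exact this.symm
    have h3 := ι_injective (h2.trans (map_zero ι).symm)
    rw [← Submodule.ker_mkQ (LinearMap.range (d₁ P) ⊔ LinearMap.range (d₁' P)), LinearMap.mem_ker]
    exact h3
  · rw [sup_le_iff]
    constructor
    · rintro _ ⟨y, rfl⟩
      rw [LinearMap.mem_ker]
      exact LinearMap.congr_fun d₀_comp_d₁ y
    · rintro _ ⟨y, rfl⟩
      rw [LinearMap.mem_ker]
      exact LinearMap.congr_fun d₀_comp_d₁' y

end PartC

theorem main (P : Type*) [AddCommGroup P] :
    letI ε : (P →₀ ℤ) →ₗ[ℤ] P := Finsupp.linearCombination ℤ (fun p : P => p)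
    letI d₀ : (P × P →₀ ℤ) →ₗ[ℤ] (P →₀ ℤ) := Finsupp.linearCombination ℤ
      (fun pq : P × P => Finsupp.single (pq.1 + pq.2) 1 - Finsupp.single pq.1 1 - Finsupp.single pq.2 1)
    letI d₁ : (P × P × P →₀ ℤ) →ₗ[ℤ] (P × P →₀ ℤ) := Finsupp.linearCombination ℤ
      (fun t : P × P × P => Finsupp.single (t.1 + t.2.1, t.2.2) 1 - Finsupp.single (t.1, t.2.1 + t.2.2) 1
        + Finsupp.single (t.1, t.2.1) 1 - Finsupp.single (t.2.1, t.2.2) 1)
    letI d₁' : (P × P →₀ ℤ) →ₗ[ℤ] (P × P →₀ ℤ) := Finsupp.linearCombination ℤ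
      (fun pq : P × P => Finsupp.single pq 1 - Finsupp.single (pq.2, pq.1) 1)
    Function.Surjective ε ∧ LinearMap.ker ε = LinearMap.range d₀ ∧
      LinearMap.ker d₀ = LinearMap.range d₁ ⊔ LinearMap.range d₁' :=
  ⟨ε_surjective, ker_ε, ker_d₀⟩

end Groth.Agent.Lib.Helper20.SymmCocycle
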