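import Groth.Agent.Lib.Helper20.TestFilt
import Groth.Agent.Lib.Helper20.DiagLam
import Groth.Agent.S8651

/-!
# Helper library (helper20): several generic families of line elements in the test ring,
algebraic independence of their elementary symmetric functions, and the transfer of weights
-/

set_option autoImplicit false
universe u v

open Finset

namespace Groth.Agent.Lib.Helper20.TFam

open LambdaRing MvPolynomial Groth.Agent.Lib.Helper20.Sym Groth.Agent.Lib.Helper20.TR
  Groth.Agent.Lib.Helper20.TF

section indep

/-- the elementary symmetric functions of the families `(T_{s,a})_a` -/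
noncomputable def Efam (ι : Type v) (N : ℕ) (R : Type u) [CommRing R] :
    ι × Fin N → MvPolynomial (ι × Fin N) R :=
  fun p => rename (Prod.mk p.1) (esymm (Fin N) R ((p.2 : ℕ) + 1))

lemma Efam_eq (ι : Type v) (N : ℕ) (R : Type u) [CommRing R] (s : ι) (j : Fin N) :
    Efam ι N R (s, j) = ∑ t ∈ powersetCard ((j : ℕ) + 1) (univ : Finset (Fin N)),
      ∏ a ∈ t, X (s, a) := by
  unfold Efam esymm
  simp only [map_sum, map_prod, rename_X]

/-- the index map `(none, a) ↦ inl a`, `(some s, a) ↦ inr (s, a)` -/
def optIdx {α : Type v} (N : ℕ) : Option α × Fin N → Fin N ⊕ α × Fin N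
  | (none, a) => Sum.inl a
  | (some s, a) => Sum.inr (s, a)

/-- its inverse -/
def optIdxInv {α : Type v} (N : ℕ) : Fin N ⊕ α × Fin N → Option α × Fin N
  | Sum.inl a => (none, a)
  | Sum.inr (s, a) => (some s, a)

lemma optIdx_injective {α : Type v} (N : ℕ) : Function.Injective (optIdx (α := α) N) := by
  rintro ⟨_ | s, a⟩ ⟨_ | s', a'⟩ h <;> simp_all [optIdx]

lemma optIdxInv_injective {α : Type v} (N : ℕ) : Function.Injective (optIdxInv (α := α) N) := by
  rintro (a | ⟨s, a⟩) (a' | ⟨s', a'⟩) h <;> simp_all [optIdxInv]

theorem algebraicIndependent_Efam (ι : Type v) [Finite ι] (N : ℕ) :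
    ∀ (R : Type u) [CommRing R], AlgebraicIndependent R (Efam ι N R) := by
  induction ι using Finite.induction_empty_option with
  | of_equiv e ih =>
    rename_i α β
    intro R _
    have h1 := (ih R).map' (f := rename (Prod.map e id : α × Fin N → β × Fin N))
      (rename_injective _ (Function.Injective.prodMap e.injective Function.injective_id))
    have h2 : (⇑(rename (Prod.map e id : α × Fin N → β × Fin N)) ∘ Efam α N R) =
        Efam β N R ∘ (Prod.map e id : α × Fin N → β × Fin N) := by
      funext p
      simp only [Function.comp_apply, Efam, rename_rename]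
      rfl
    rw [h2] at h1
    exact (algebraicIndependent_equiv (e.prodCongr (Equiv.refl (Fin N)))).mp h1
  | h_empty =>
    intro R _
    rw [algebraicIndependent_empty_type_iff]
    exact MvPolynomial.C_injective _ _
  | h_option ih =>
    rename_i α _
    intro R _
    have hx := ih R
    have hy : AlgebraicIndependent (MvPolynomial (α × Fin N) R)
        (fun j : Fin N => esymm (Fin N) (MvPolynomial (α × Fin N) R) ((j : ℕ) + 1)) :=
      algebraicIndependent_esymm _ (le_refl N)
    have hxy := AlgebraicIndependent.sumElim_comp (R := R) (S := MvPolynomial (α × Fin N) R)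
      (A := MvPolynomial (Fin N) (MvPolynomial (α × Fin N) R)) hx hy
    have hxy' := hxy.map' (f := (sumAlgEquiv R (Fin N) (α × Fin N)).symm.toAlgHom)
      (sumAlgEquiv R (Fin N) (α × Fin N)).symm.injective
    have hxy'' := hxy'.map' (f := rename (optIdxInv (α := α) N))
      (rename_injective _ (optIdxInv_injective N))
    have hfin := hxy''.comp (optIdx (α := α) N) (optIdx_injective N)
    have key : ((⇑(rename (optIdxInv (α := α) N)) ∘
        ⇑(sumAlgEquiv R (Fin N) (α × Fin N)).symm.toAlgHom ∘
        Sum.elim (fun j : Fin N => esymm (Fin N) (MvPolynomial (α × Fin N) R) ((j : ℕ) + 1))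
          (⇑(algebraMap (MvPolynomial (α × Fin N) R)
            (MvPolynomial (Fin N) (MvPolynomial (α × Fin N) R))) ∘ Efam α N R)) ∘
        optIdx (α := α) N) = Efam (Option α) N R := by
      funext p
      rcases p with ⟨_ | s, j⟩
      · simp only [Function.comp_apply, optIdx, Sum.elim_inl]
        rw [Efam_eq]
        unfold esymm
        simp only [map_sum, map_prod]
        apply Finset.sum_congr rfl
        intro t _
        apply Finset.prod_congr rfl
        intro a _
        have := sumAlgEquiv_symm_X R (Fin N) (α × Fin N) a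
        erw [this, rename_X]
        rfl
      · simp only [Function.comp_apply, optIdx, Sum.elim_inr]
        rw [Efam_eq, Efam_eq]
        simp only [map_sum, map_prod, algebraMap_eq]
        apply Finset.sum_congr rfl
        intro t _
        apply Finset.prod_congr rfl
        intro a _
        have := sumAlgEquiv_symm_C_X R (Fin N) (α × Fin N) (s, a)
        erw [this, rename_X]
        rfl
    rw [key] at hfin
    exact hfin

end indep

section whc
variable {σ τ : Type*} {R : Type u} [CommRing R] {M : Type*} [AddCommMonoid M]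

/-- taking weighted homogeneous components commutes with a substitution of weighted homogeneous
polynomials of the right weights (any coefficient ring) -/
lemma whc_aeval [DecidableEq M] (w : σ → M) (w' : τ → M) (g : σ → MvPolynomial τ R)
    (hg : ∀ i, IsWeightedHomogeneous w' (g i) (w i)) (P : MvPolynomial σ R) (m : M) :
    weightedHomogeneousComponent w' m (aeval g P) =
      aeval g (weightedHomogeneousComponent w m P) := by
  induction P using MvPolynomial.induction_on' with
  | monomial d r =>
    have h1 : IsWeightedHomogeneous w (monomial d r) (Finsupp.weight w d) :=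
      isWeightedHomogeneous_monomial w d r rfl
    have h2 : IsWeightedHomogeneous w' (aeval g (monomial d r)) (Finsupp.weight w d) :=
      isWeightedHomogeneous_aeval g hg h1
    by_cases hm : m = Finsupp.weight w d
    · rw [hm, h1.weightedHomogeneousComponent_same, h2.weightedHomogeneousComponent_same]
    · rw [h1.weightedHomogeneousComponent_ne m hm, h2.weightedHomogeneousComponent_ne m hm,
        map_zero]
  | add p q hp hq => rw [map_add, map_add, map_add, hp, hq, map_add]

end whc

section generic
variable {ι : Type v} {K : Type u} [CommRing K] [BinomialRing K] (N : ℕ)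

/-- the generic element of augmentation zero: `Σ_a (T_{s,a} - 1)` -/
noncomputable def xhat (s : ι) : MvPolynomial (ι × Fin N) K :=
  ∑ a : Fin N, X (s, a) - (N : MvPolynomial (ι × Fin N) K)

lemma gamma_xhat (s : ι) (k : ℕ) :
    gamma k (xhat (K := K) N s) =
      ∑ t ∈ powersetCard k (univ : Finset (Fin N)), ∏ a ∈ t, (X (s, a) - 1) :=
  Groth.Agent.S8651.result (MvPolynomial (ι × Fin N) K) lam_one' N (fun a => X (s, a))
    (fun a j hj => lam_X (s, a) j hj) k

lemma sh_gamma_xhat (s : ι) (k : ℕ) :
    sh (gamma k (xhat (K := K) N s)) =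
      ∑ t ∈ powersetCard k (univ : Finset (Fin N)), ∏ a ∈ t, X (s, a) := by
  rw [gamma_xhat, map_sum]
  apply Finset.sum_congr rfl
  intro t _
  rw [map_prod]
  apply Finset.prod_congr rfl
  intro a _
  unfold sh
  rw [map_sub, aeval_X, map_one, add_sub_cancel_right]

lemma sh_gamma_xhat_fin (p : ι × Fin N) :
    sh (gamma ((p.2 : ℕ) + 1) (xhat (K := K) N p.1)) = Efam ι N K p := by
  rw [sh_gamma_xhat]
  obtain ⟨s, j⟩ := p
  rw [Efam_eq]

lemma isHomogeneous_Efam (p : ι × Fin N) :
    IsWeightedHomogeneous (fun _ : ι × Fin N => (1 : ℕ)) (Efam ι N K p) ((p.2 : ℕ) + 1) := by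
  obtain ⟨s, j⟩ := p
  rw [Efam_eq]
  apply IsWeightedHomogeneous.sum
  intro t ht
  have hc : t.card = (j : ℕ) + 1 := (Finset.mem_powersetCard.mp ht).2
  have : (j : ℕ) + 1 = ∑ _i ∈ t, 1 := by rw [Finset.sum_const, hc]; simp
  rw [this]
  apply IsWeightedHomogeneous.prod
  intro i _
  exact isWeightedHomogeneous_X K (fun _ : ι × Fin N => (1 : ℕ)) (s, i)

/-- transfer of weights: a polynomial in the `γ^j` of the generic elements which lies in the `w`-th
power of the augmentation ideal has only monomials of weight at least `w` -/
theorem weight_of_mem_Jn [Finite ι] (w : ℕ) (G : MvPolynomial (ι × Fin N) K)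
    (h : aeval (fun p : ι × Fin N => gamma ((p.2 : ℕ) + 1) (xhat (K := K) N p.1)) G ∈ Jn w) :
    ∀ d ∈ G.support, w ≤ Finsupp.weight (fun p : ι × Fin N => (p.2 : ℕ) + 1) d := by
  classical
  rw [mem_Jn, comp_aeval_apply] at h
  have hE : (fun p : ι × Fin N => sh (gamma ((p.2 : ℕ) + 1) (xhat (K := K) N p.1))) = Efam ι N K :=
    funext fun p => sh_gamma_xhat_fin N p
  rw [hE] at h
  intro d hd
  by_contra hlt
  push_neg at hlt
  have h1 : weightedHomogeneousComponent (fun _ : ι × Fin N => (1 : ℕ))
      (Finsupp.weight (fun p : ι × Fin N => (p.2 : ℕ) + 1) d) (aeval (Efam ι N K) G) = 0 := by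
    ext x
    rw [coeff_weightedHomogeneousComponent, coeff_zero]
    split_ifs with hx
    · apply (mem_pow_idealOfVars_iff' _ _).mp h x
      rw [Finsupp.degree_eq_weight_one]
      exact lt_of_eq_of_lt hx hlt
    · rfl
  have h2 := whc_aeval (fun p : ι × Fin N => (p.2 : ℕ) + 1) (fun _ : ι × Fin N => (1 : ℕ))
    (Efam ι N K) (isHomogeneous_Efam N) G (Finsupp.weight (fun p : ι × Fin N => (p.2 : ℕ) + 1) d)
  rw [h1] at h2
  have hAI := algebraicIndependent_Efam ι N K
  rw [algebraicIndependent_iff_injective_aeval] at hAI
  have h3 : weightedHomogeneousComponent (fun p : ι × Fin N => (p.2 : ℕ) + 1)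
      (Finsupp.weight (fun p : ι × Fin N => (p.2 : ℕ) + 1) d) G = 0 := by
    apply hAI
    rw [map_zero]
    exact h2.symm
  have := congrArg (coeff d) h3
  rw [coeff_weightedHomogeneousComponent, if_pos rfl, coeff_zero] at this
  exact (mem_support_iff.mp hd) this

end generic

end Groth.Agent.Lib.Helper20.TFam
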