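import Groth.Agent.Lib.Helper20.LamDiv

/-!
# Helper library (helper20): generic families together with one family of fixed size `d` in the
test ring; algebraic independence and transfer of weights
-/

set_option autoImplicit false
universe u v

open Finset

namespace Groth.Agent.Lib.Helper20.TFam2

open LambdaRing MvPolynomial Groth.Agent.Lib.Helper20.Sym Groth.Agent.Lib.Helper20.TR
  Groth.Agent.Lib.Helper20.TF Groth.Agent.Lib.Helper20.TFam

section gen
variable {σ τ : Type*} {K : Type u} [CommRing K]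

/-- transfer of weights, general form -/
theorem weight_of_mem_Jn_gen (wt : τ → ℕ) (E : τ → MvPolynomial σ K)
    (hE : AlgebraicIndependent K E)
    (hh : ∀ t, IsWeightedHomogeneous (fun _ : σ => (1 : ℕ)) (E t) (wt t))
    (g : τ → MvPolynomial σ K) (hg : ∀ t, sh (g t) = E t)
    (w : ℕ) (G : MvPolynomial τ K) (h : aeval g G ∈ Jn w) :
    ∀ d ∈ G.support, w ≤ Finsupp.weight wt d := by
  classical
  rw [mem_Jn, comp_aeval_apply] at h
  have hE' : (fun t => sh (g t)) = E := funext hg
  rw [hE'] at h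
  intro d hd
  by_contra hlt
  push_neg at hlt
  have h1 : weightedHomogeneousComponent (fun _ : σ => (1 : ℕ))
      (Finsupp.weight wt d) (aeval E G) = 0 := by
    ext x
    rw [coeff_weightedHomogeneousComponent, coeff_zero]
    split_ifs with hx
    · apply (mem_pow_idealOfVars_iff' _ _).mp h x
      rw [Finsupp.degree_eq_weight_one]
      exact lt_of_eq_of_lt hx hlt
    · rfl
  have h2 := whc_aeval wt (fun _ : σ => (1 : ℕ)) E hh G (Finsupp.weight wt d)
  rw [h1] at h2
  rw [algebraicIndependent_iff_injective_aeval] at hE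
  have h3 : weightedHomogeneousComponent wt (Finsupp.weight wt d) G = 0 := by
    apply hE
    rw [map_zero]
    exact h2.symm
  have := congrArg (coeff d) h3
  rw [coeff_weightedHomogeneousComponent, if_pos rfl, coeff_zero] at this
  exact (mem_support_iff.mp hd) this

end gen

section indep

/-- the elementary symmetric functions of the family of size `d` and of the generic families -/
noncomputable def Efam2 (d : ℕ) (ι : Type v) (N : ℕ) (R : Type u) [CommRing R] :
    Fin d ⊕ ι × Fin N → MvPolynomial (Fin d ⊕ ι × Fin N) R :=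
  Sum.elim (fun j => rename Sum.inl (esymm (Fin d) R ((j : ℕ) + 1)))
    (fun p => rename (fun a => Sum.inr (p.1, a)) (esymm (Fin N) R ((p.2 : ℕ) + 1)))

lemma Efam2_inl (d : ℕ) (ι : Type v) (N : ℕ) (R : Type u) [CommRing R] (j : Fin d) :
    Efam2 d ι N R (Sum.inl j) = ∑ t ∈ powersetCard ((j : ℕ) + 1) (univ : Finset (Fin d)),
      ∏ a ∈ t, X (Sum.inl a) := by
  unfold Efam2 esymm
  simp only [Sum.elim_inl, map_sum, map_prod, rename_X]

lemma Efam2_inr (d : ℕ) (ι : Type v) (N : ℕ) (R : Type u) [CommRing R] (s : ι) (j : Fin N) :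
    Efam2 d ι N R (Sum.inr (s, j)) = ∑ t ∈ powersetCard ((j : ℕ) + 1) (univ : Finset (Fin N)),
      ∏ a ∈ t, X (Sum.inr (s, a)) := by
  unfold Efam2 esymm
  simp only [Sum.elim_inr, map_sum, map_prod, rename_X]

theorem algebraicIndependent_Efam2 (d : ℕ) (ι : Type v) [Finite ι] (N : ℕ) (R : Type u)
    [CommRing R] : AlgebraicIndependent R (Efam2 d ι N R) := by
  have hx := algebraicIndependent_Efam ι N R
  have hy : AlgebraicIndependent (MvPolynomial (ι × Fin N) R)
      (fun j : Fin d => esymm (Fin d) (MvPolynomial (ι × Fin N) R) ((j : ℕ) + 1)) :=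
    algebraicIndependent_esymm _ (le_refl d)
  have hxy := AlgebraicIndependent.sumElim_comp (R := R) (S := MvPolynomial (ι × Fin N) R)
    (A := MvPolynomial (Fin d) (MvPolynomial (ι × Fin N) R)) hx hy
  have hxy' := hxy.map' (f := (sumAlgEquiv R (Fin d) (ι × Fin N)).symm.toAlgHom)
    (sumAlgEquiv R (Fin d) (ι × Fin N)).symm.injective
  have key : (⇑(sumAlgEquiv R (Fin d) (ι × Fin N)).symm.toAlgHom ∘
      Sum.elim (fun j : Fin d => esymm (Fin d) (MvPolynomial (ι × Fin N) R) ((j : ℕ) + 1))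
        (⇑(algebraMap (MvPolynomial (ι × Fin N) R)
          (MvPolynomial (Fin d) (MvPolynomial (ι × Fin N) R))) ∘ Efam ι N R)) =
      Efam2 d ι N R := by
    funext p
    rcases p with j | ⟨s, j⟩
    · simp only [Function.comp_apply, Sum.elim_inl]
      rw [Efam2_inl]
      unfold esymm
      simp only [map_sum, map_prod]
      apply Finset.sum_congr rfl
      intro t _
      apply Finset.prod_congr rfl
      intro a _
      have := sumAlgEquiv_symm_X R (Fin d) (ι × Fin N) a
      erw [this]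
    · simp only [Function.comp_apply, Sum.elim_inr]
      rw [Efam2_inr, Efam_eq]
      simp only [map_sum, map_prod, algebraMap_eq]
      apply Finset.sum_congr rfl
      intro t _
      apply Finset.prod_congr rfl
      intro a _
      have := sumAlgEquiv_symm_C_X R (Fin d) (ι × Fin N) (s, a)
      erw [this]
  rw [key] at hxy'
  exact hxy'

lemma isHomogeneous_Efam2 (d : ℕ) (ι : Type v) (N : ℕ) (R : Type u) [CommRing R]
    (t : Fin d ⊕ ι × Fin N) :
    IsWeightedHomogeneous (fun _ : Fin d ⊕ ι × Fin N => (1 : ℕ)) (Efam2 d ι N R t)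
      (Sum.elim (fun j : Fin d => (j : ℕ) + 1) (fun p : ι × Fin N => (p.2 : ℕ) + 1) t) := by
  rcases t with j | ⟨s, j⟩
  · rw [Efam2_inl]
    apply IsWeightedHomogeneous.sum
    intro t ht
    have hc : t.card = (j : ℕ) + 1 := (Finset.mem_powersetCard.mp ht).2
    have : Sum.elim (fun j : Fin d => (j : ℕ) + 1) (fun p : ι × Fin N => (p.2 : ℕ) + 1)
        (Sum.inl j) = ∑ _i ∈ t, 1 := by rw [Finset.sum_const, hc]; simp
    rw [this]
    apply IsWeightedHomogeneous.prod
    intro i _
    exact isWeightedHomogeneous_X R (fun _ : Fin d ⊕ ι × Fin N => (1 : ℕ)) (Sum.inl i)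
  · rw [Efam2_inr]
    apply IsWeightedHomogeneous.sum
    intro t ht
    have hc : t.card = (j : ℕ) + 1 := (Finset.mem_powersetCard.mp ht).2
    have : Sum.elim (fun j : Fin d => (j : ℕ) + 1) (fun p : ι × Fin N => (p.2 : ℕ) + 1)
        (Sum.inr (s, j)) = ∑ _i ∈ t, 1 := by rw [Finset.sum_const, hc]; simp
    rw [this]
    apply IsWeightedHomogeneous.prod
    intro i _
    exact isWeightedHomogeneous_X R (fun _ : Fin d ⊕ ι × Fin N => (1 : ℕ)) (Sum.inr (s, i))

end indep

section generic
variable (d : ℕ) {ι : Type v} {K : Type u} [CommRing K] [BinomialRing K] (N : ℕ)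

/-- the element `N̂ - d`: the sum of the `d` special lines minus `d` -/
noncomputable def nhat (ι : Type v) : MvPolynomial (Fin d ⊕ ι × Fin N) K :=
  ∑ a : Fin d, X (Sum.inl a) - (d : MvPolynomial (Fin d ⊕ ι × Fin N) K)

/-- the generic element of augmentation zero: `Σ_a (T_{s,a} - 1)` -/
noncomputable def xhat2 (s : ι) : MvPolynomial (Fin d ⊕ ι × Fin N) K :=
  ∑ a : Fin N, X (Sum.inr (s, a)) - (N : MvPolynomial (Fin d ⊕ ι × Fin N) K)

lemma gamma_nhat (k : ℕ) :
    gamma k (nhat (K := K) d N ι) =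
      ∑ t ∈ powersetCard k (univ : Finset (Fin d)), ∏ a ∈ t, (X (Sum.inl a) - 1) :=
  Groth.Agent.S8651.result (MvPolynomial (Fin d ⊕ ι × Fin N) K) lam_one' d
    (fun a => X (Sum.inl a)) (fun a j hj => lam_X (Sum.inl a) j hj) k

lemma gamma_xhat2 (s : ι) (k : ℕ) :
    gamma k (xhat2 (K := K) d N s) =
      ∑ t ∈ powersetCard k (univ : Finset (Fin N)), ∏ a ∈ t, (X (Sum.inr (s, a)) - 1) :=
  Groth.Agent.S8651.result (MvPolynomial (Fin d ⊕ ι × Fin N) K) lam_one' N
    (fun a => X (Sum.inr (s, a))) (fun a j hj => lam_X (Sum.inr (s, a)) j hj) k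

lemma gamma_nhat_eq_zero (k : ℕ) (hk : d < k) : gamma k (nhat (K := K) d N ι) = 0 := by
  rw [gamma_nhat, Finset.powersetCard_eq_empty.mpr (by simpa using hk), Finset.sum_empty]

omit [BinomialRing K] in
lemma sh_X_sub_one (i : Fin d ⊕ ι × Fin N) :
    sh (X i - 1 : MvPolynomial (Fin d ⊕ ι × Fin N) K) = X i := by
  unfold sh
  rw [map_sub, aeval_X, map_one, add_sub_cancel_right]

/-- the γ-generators of the test elements -/
noncomputable def gens2 : Fin d ⊕ ι × Fin N → MvPolynomial (Fin d ⊕ ι × Fin N) K :=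
  Sum.elim (fun j => gamma ((j : ℕ) + 1) (nhat (K := K) d N ι))
    (fun p => gamma ((p.2 : ℕ) + 1) (xhat2 (K := K) d N p.1))

lemma sh_gens2 (t : Fin d ⊕ ι × Fin N) : sh (gens2 (K := K) d N t) = Efam2 d ι N K t := by
  rcases t with j | ⟨s, j⟩
  · unfold gens2
    rw [Sum.elim_inl, gamma_nhat, Efam2_inl, map_sum]
    apply Finset.sum_congr rfl
    intro t _
    rw [map_prod]
    apply Finset.prod_congr rfl
    intro a _
    exact sh_X_sub_one d N _
  · unfold gens2
    rw [Sum.elim_inr, gamma_xhat2, Efam2_inr, map_sum]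
    apply Finset.sum_congr rfl
    intro t _
    rw [map_prod]
    apply Finset.prod_congr rfl
    intro a _
    exact sh_X_sub_one d N _

/-- the weights of the generators -/
def wt2 (ι : Type v) : Fin d ⊕ ι × Fin N → ℕ :=
  Sum.elim (fun j : Fin d => (j : ℕ) + 1) (fun p : ι × Fin N => (p.2 : ℕ) + 1)

lemma gens2_mem_Jn (t : Fin d ⊕ ι × Fin N) : gens2 (K := K) d N t ∈ Jn (wt2 d N ι t) := by
  rw [mem_Jn, sh_gens2]
  rcases t with j | ⟨s, j⟩
  · rw [Efam2_inl]
    apply Ideal.sum_mem
    intro t ht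
    have hc : t.card = (j : ℕ) + 1 := (Finset.mem_powersetCard.mp ht).2
    have : ∏ a ∈ t, (X (Sum.inl a) : MvPolynomial (Fin d ⊕ ι × Fin N) K) ∈
        ∏ _a ∈ t, idealOfVars (Fin d ⊕ ι × Fin N) K := by
      apply Ideal.prod_mem_prod
      intro a _
      exact Ideal.subset_span ⟨Sum.inl a, rfl⟩
    rw [Finset.prod_const, hc] at this
    exact this
  · rw [Efam2_inr]
    apply Ideal.sum_mem
    intro t ht
    have hc : t.card = (j : ℕ) + 1 := (Finset.mem_powersetCard.mp ht).2
    have : ∏ a ∈ t, (X (Sum.inr (s, a)) : MvPolynomial (Fin d ⊕ ι × Fin N) K) ∈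
        ∏ _a ∈ t, idealOfVars (Fin d ⊕ ι × Fin N) K := by
      apply Ideal.prod_mem_prod
      intro a _
      exact Ideal.subset_span ⟨Sum.inr (s, a), rfl⟩
    rw [Finset.prod_const, hc] at this
    exact this

/-- transfer of weights for the mixed family -/
theorem weight_of_mem_Jn2 [Finite ι] (w : ℕ) (G : MvPolynomial (Fin d ⊕ ι × Fin N) K)
    (h : aeval (gens2 (K := K) d N) G ∈ Jn w) :
    ∀ e ∈ G.support, w ≤ Finsupp.weight (wt2 d N ι) e :=
  weight_of_mem_Jn_gen (wt2 d N ι) (Efam2 d ι N K) (algebraicIndependent_Efam2 d ι N K)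
    (isHomogeneous_Efam2 d ι N K) (gens2 d N) (sh_gens2 d N) w G h

end generic

end Groth.Agent.Lib.Helper20.TFam2
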