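import Groth.Agent.Lib.Helper20.TestRing
import Mathlib.RingTheory.MvPolynomial.Ideal
import Mathlib.Algebra.Group.ForwardDiff

/-!
# Helper library (helper20): the augmentation filtration of the test ring and the action of the
λ- and γ-operations on its graded pieces
-/

set_option autoImplicit false
universe u

open Finset

namespace Groth.Agent.Lib.Helper20.TF

open LambdaRing MvPolynomial Groth.Agent.Lib.Helper20.Sym Groth.Agent.Lib.Helper20.TR

section newton
variable {R : Type*} [CommRing R] [LambdaOps R]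

/-- Newton's identity in a pre-λ-ring -/
lemma newton (z : R) (n : ℕ) :
    ((n + 1 : ℕ) : R) * LambdaOps.lam (n + 1) z =
      ∑ p ∈ antidiagonal n, LambdaOps.lam p.1 z * ((-1) ^ p.2 * adamsOp (p.2 + 1) z) := by
  have h := congrArg (PowerSeries.coeff n) (deriv_eq_mul_ld (LR.constantCoeff_lamSeries z))
  rw [PowerSeries.coeff_derivative, PowerSeries.coeff_mul, LR.coeff_lamSeries] at h
  have e : LambdaOps.lam (n + 1) z * ((n : R) + 1) = ((n + 1 : ℕ) : R) * LambdaOps.lam (n + 1) z := by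
    push_cast; ring
  rw [← e, h]
  apply Finset.sum_congr rfl
  intro p _
  rw [LR.coeff_lamSeries, adamsOp_succ_eq_newt, newt]
  have : ((-1 : R)) ^ p.2 * ((-1) ^ p.2 * PowerSeries.coeff p.2 (ld (lamSeries z))) =
      PowerSeries.coeff p.2 (ld (lamSeries z)) := by
    rw [← mul_assoc, ← mul_pow]
    simp
  rw [this]

end newton

section filt
variable {σ : Type*} {K : Type u} [CommRing K]

/-- the shift `T_i ↦ T_i + 1` -/
noncomputable def sh : MvPolynomial σ K →ₐ[K] MvPolynomial σ K := aeval (fun i => X i + 1)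

/-- the filtration by the powers of the augmentation ideal `(T_i - 1)` -/
noncomputable def Jn (w : ℕ) : Ideal (MvPolynomial σ K) :=
  Ideal.comap (sh : MvPolynomial σ K →ₐ[K] MvPolynomial σ K) (idealOfVars σ K ^ w)

lemma mem_Jn {w : ℕ} {z : MvPolynomial σ K} : z ∈ Jn w ↔ sh z ∈ idealOfVars σ K ^ w := Iff.rfl

lemma Jn_anti {a b : ℕ} (h : a ≤ b) : (Jn b : Ideal (MvPolynomial σ K)) ≤ Jn a :=
  Ideal.comap_mono (Ideal.pow_le_pow_right h)

lemma Jn_mul {a b : ℕ} {x y : MvPolynomial σ K} (hx : x ∈ Jn a) (hy : y ∈ Jn b) :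
    x * y ∈ Jn (a + b) := by
  rw [mem_Jn, map_mul, pow_add]
  exact Ideal.mul_mem_mul hx hy

lemma Jn_zero : (Jn 0 : Ideal (MvPolynomial σ K)) = ⊤ := by
  unfold Jn
  rw [pow_zero, Ideal.one_eq_top, Ideal.comap_top]

lemma X_sub_one_mem (i : σ) : (X i - 1 : MvPolynomial σ K) ∈ Jn 1 := by
  rw [mem_Jn, pow_one, map_sub, map_one]
  unfold sh
  rw [aeval_X, add_sub_cancel_right]
  exact Ideal.subset_span ⟨i, rfl⟩

lemma mem_idealOfVars_of_constantCoeff (p : MvPolynomial σ K) (hp : constantCoeff p = 0) :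
    p ∈ idealOfVars σ K := by
  have := (mem_pow_idealOfVars_iff' 1 p).mpr (by
    intro x hx
    have hx0 : x = 0 := by
      rw [← Finsupp.degree_eq_zero_iff]
      omega
    rw [hx0]
    exact hp)
  rwa [pow_one] at this

lemma monomial_mem_pow (d : σ →₀ ℕ) (c : K) : monomial d c ∈ idealOfVars σ K ^ (Finsupp.degree d) := by
  classical
  rw [mem_pow_idealOfVars_iff]
  intro x hx
  have := support_monomial_subset hx
  rw [Finset.mem_singleton] at this
  rw [this]

/-- conjugate of `expand j` by the shift -/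
noncomputable def θ (j : ℕ) : MvPolynomial σ K →ₐ[K] MvPolynomial σ K :=
  aeval (fun i => (X i + 1) ^ j - 1)

lemma sh_expand (j : ℕ) (z : MvPolynomial σ K) : sh (expand j z) = θ j (sh z) := by
  have : (sh.comp (expand j) : MvPolynomial σ K →ₐ[K] MvPolynomial σ K) = (θ j).comp sh := by
    apply MvPolynomial.algHom_ext
    intro i
    simp [sh, θ]
  exact DFunLike.congr_fun this z

lemma θ_monomial (j : ℕ) (d : σ →₀ ℕ) (c : K) :
    θ j (monomial d c) =
      monomial d c * d.prod (fun i k => (∑ l ∈ range j, (X i + 1 : MvPolynomial σ K) ^ l) ^ k) := by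
  unfold θ
  rw [aeval_monomial, monomial_eq, mul_assoc, ← Finsupp.prod_mul]
  congr 1
  apply Finsupp.prod_congr
  intro i _
  rw [← mul_pow]
  congr 1
  have := geom_sum_mul (X i + 1 : MvPolynomial σ K) j
  rw [add_sub_cancel_right] at this
  rw [← this, mul_comm]

lemma θ_sub_mem (j w : ℕ) (p : MvPolynomial σ K) (hp : p ∈ idealOfVars σ K ^ w) :
    θ j p - (j : MvPolynomial σ K) ^ w * p ∈ idealOfVars σ K ^ (w + 1) := by
  classical
  rw [mem_pow_idealOfVars_iff] at hp
  rw [p.as_sum, map_sum, Finset.mul_sum, ← Finset.sum_sub_distrib]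
  apply Ideal.sum_mem
  intro d hd
  have hdw := hp d hd
  set Q := d.prod (fun i k => (∑ l ∈ range j, (X i + 1 : MvPolynomial σ K) ^ l) ^ k) with hQ
  have hQc : constantCoeff (Q - C ((j : K) ^ (Finsupp.degree d))) = 0 := by
    rw [map_sub, constantCoeff_C, hQ, Finsupp.prod, map_prod]
    have : ∀ i ∈ d.support, constantCoeff
        ((∑ l ∈ range j, (X i + 1 : MvPolynomial σ K) ^ l) ^ d i) = (j : K) ^ d i := by
      intro i _
      simp
    rw [Finset.prod_congr rfl this, Finset.prod_pow_eq_pow_sum, Finsupp.degree_apply, sub_self]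
  have h1 : monomial d (coeff d p) * (Q - C ((j : K) ^ (Finsupp.degree d))) ∈
      idealOfVars σ K ^ (w + 1) := by
    have := Ideal.mul_mem_mul (monomial_mem_pow d (coeff d p))
      (mem_idealOfVars_of_constantCoeff _ hQc)
    rw [← pow_succ] at this
    exact Ideal.pow_le_pow_right (by omega) this
  have h2 : (C ((j : K) ^ (Finsupp.degree d)) - (j : MvPolynomial σ K) ^ w) *
      monomial d (coeff d p) ∈ idealOfVars σ K ^ (w + 1) := by
    rcases hdw.eq_or_lt with heq | hlt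
    · rw [← heq]
      have : (C ((j : K) ^ w) : MvPolynomial σ K) = (j : MvPolynomial σ K) ^ w := by simp
      rw [this, sub_self, zero_mul]
      exact zero_mem _
    · apply Ideal.mul_mem_left
      exact Ideal.pow_le_pow_right (by omega) (monomial_mem_pow d (coeff d p))
  rw [θ_monomial]
  have : monomial d (coeff d p) * Q - (j : MvPolynomial σ K) ^ w * monomial d (coeff d p) =
      monomial d (coeff d p) * (Q - C ((j : K) ^ (Finsupp.degree d))) +
        (C ((j : K) ^ (Finsupp.degree d)) - (j : MvPolynomial σ K) ^ w) *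
          monomial d (coeff d p) := by ring
  rw [this]
  exact add_mem h1 h2

lemma expand_sub_mem (j w : ℕ) (z : MvPolynomial σ K) (hz : z ∈ Jn w) :
    expand j z - (j : MvPolynomial σ K) ^ w * z ∈ Jn (w + 1) := by
  rw [mem_Jn, map_sub, map_mul, map_pow, map_natCast, sh_expand]
  exact θ_sub_mem j w _ hz

lemma expand_mem (j w : ℕ) (z : MvPolynomial σ K) (hz : z ∈ Jn w) : expand j z ∈ Jn w := by
  have h1 := Jn_anti (Nat.le_succ w) (expand_sub_mem j w z hz)
  have h2 : (j : MvPolynomial σ K) ^ w * z ∈ Jn w := Ideal.mul_mem_left _ _ hz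
  have := add_mem h1 h2
  rwa [sub_add_cancel] at this

end filt

section lam
variable {σ : Type*} {K : Type u} [CommRing K] [BinomialRing K]

lemma Jn_saturated {n : ℕ} (hn : n ≠ 0) {w : ℕ} {z : MvPolynomial σ K}
    (h : (n : MvPolynomial σ K) * z ∈ Jn w) : z ∈ Jn w := by
  rw [mem_Jn, map_mul, map_natCast, mem_pow_idealOfVars_iff'] at h
  rw [mem_Jn, mem_pow_idealOfVars_iff']
  intro x hx
  have h1 := h x hx
  have : ((n : ℕ) : MvPolynomial σ K) = C ((n : ℕ) : K) := by simp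
  rw [this, coeff_C_mul, ← nsmul_eq_mul] at h1
  have hinj := (BinomialRing.toIsAddTorsionFree (R := K)).nsmul_right_injective hn
  exact hinj (by simpa using h1)

/-- the filtration is stable under the λ-operations -/
lemma lam_mem {w : ℕ} {z : MvPolynomial σ K} (hz : z ∈ Jn w) (n : ℕ) :
    LambdaOps.lam (n + 1) z ∈ Jn w := by
  apply Jn_saturated (Nat.succ_ne_zero n)
  rw [newton]
  apply Ideal.sum_mem
  intro p _
  apply Ideal.mul_mem_left
  apply Ideal.mul_mem_left
  rw [adamsOp_eq_expand]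
  exact expand_mem _ w z hz

/-- `λ^(n+1)` acts on `J^w / J^(w+1)` by `(-1)^n (n+1)^(w-1)` -/
lemma lam_sub_mem {w : ℕ} (hw : 1 ≤ w) {z : MvPolynomial σ K} (hz : z ∈ Jn w) (n : ℕ) :
    LambdaOps.lam (n + 1) z - ((-1 : ℤ) ^ n * ((n + 1 : ℕ) : ℤ) ^ (w - 1) : ℤ) • z ∈ Jn (w + 1) := by
  apply Jn_saturated (Nat.succ_ne_zero n)
  rw [mul_sub, newton, Finset.Nat.sum_antidiagonal_eq_sum_range_succ_mk, Finset.sum_range_succ']
  simp only [Nat.sub_zero, LambdaOps.lam_zero, one_mul]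
  have e : (((n + 1 : ℕ) : MvPolynomial σ K)) * (((-1 : ℤ) ^ n * ((n + 1 : ℕ) : ℤ) ^ (w - 1) : ℤ) • z) =
      (-1) ^ n * (((n + 1 : ℕ) : MvPolynomial σ K) ^ w * z) := by
    obtain ⟨v, rfl⟩ : ∃ v, w = v + 1 := ⟨w - 1, by omega⟩
    rw [Nat.add_sub_cancel, zsmul_eq_mul]
    push_cast
    ring
  rw [e, add_sub_assoc]
  apply add_mem
  · apply Ideal.sum_mem
    intro i _
    have h1 : LambdaOps.lam (i + 1) z ∈ Jn w := lam_mem hz i
    have h2 : adamsOp (n - (i + 1) + 1) z ∈ Jn w := by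
      rw [adamsOp_eq_expand]
      exact expand_mem _ w z hz
    have := Jn_mul h1 (Ideal.mul_mem_left _ ((-1) ^ (n - (i + 1))) h2)
    exact Jn_anti (by omega) this
  · rw [← mul_sub]
    apply Ideal.mul_mem_left
    rw [adamsOp_eq_expand]
    exact expand_sub_mem (n + 1) w z hz

/-- the integers by which the γ-operations act on the graded pieces -/
def sInt (w k : ℕ) : ℤ :=
  ∑ j ∈ range (k + 1), (Nat.choose (k - 1) (j - 1) : ℤ) *
    (if j = 0 then 0 else (-1) ^ (j - 1) * (j : ℤ) ^ (w - 1))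

lemma gamma_mem {w : ℕ} {z : MvPolynomial σ K} (hz : z ∈ Jn w) (k : ℕ) (hk : 1 ≤ k) :
    gamma k z ∈ Jn w := by
  unfold gamma
  rw [if_neg (by omega)]
  apply Ideal.sum_mem
  intro j _
  apply Ideal.mul_mem_left
  split_ifs with hj
  · exact zero_mem _
  · obtain ⟨i, rfl⟩ : ∃ i, j = i + 1 := ⟨j - 1, by omega⟩
    exact lam_mem hz i

/-- `γ^k` acts on `J^w / J^(w+1)` by `sInt w k` -/
lemma gamma_sub_mem {w : ℕ} (hw : 1 ≤ w) {z : MvPolynomial σ K} (hz : z ∈ Jn w) (k : ℕ)
    (hk : 1 ≤ k) : gamma k z - (sInt w k) • z ∈ Jn (w + 1) := by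
  unfold gamma sInt
  rw [if_neg (by omega), Finset.sum_smul, ← Finset.sum_sub_distrib]
  apply Ideal.sum_mem
  intro j _
  by_cases hj : j = 0
  · rw [if_pos hj, if_pos hj, mul_zero, mul_zero, zero_smul, sub_zero]
    exact zero_mem _
  · rw [if_neg hj, if_neg hj]
    obtain ⟨i, rfl⟩ : ∃ i, j = i + 1 := ⟨j - 1, by omega⟩
    have := lam_sub_mem hw hz i
    have e : ((Nat.choose (k - 1) (i + 1 - 1) : ℕ) : MvPolynomial σ K) * LambdaOps.lam (i + 1) z -
        (((Nat.choose (k - 1) (i + 1 - 1) : ℕ) : ℤ) * ((-1) ^ (i + 1 - 1) * ((i + 1 : ℕ) : ℤ) ^ (w - 1))) • z =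
        ((Nat.choose (k - 1) (i + 1 - 1) : ℕ) : MvPolynomial σ K) *
          (LambdaOps.lam (i + 1) z - ((-1 : ℤ) ^ i * ((i + 1 : ℕ) : ℤ) ^ (w - 1) : ℤ) • z) := by
      rw [Nat.add_sub_cancel, mul_sub, mul_smul, natCast_zsmul, nsmul_eq_mul]
    rw [e]
    exact Ideal.mul_mem_left _ _ this

lemma sInt_self (w : ℕ) (hw : 1 ≤ w) : sInt w w = (-1) ^ (w - 1) * ((w - 1).factorial : ℤ) := by
  obtain ⟨n, rfl⟩ : ∃ n, w = n + 1 := ⟨w - 1, by omega⟩
  unfold sInt
  rw [Nat.add_sub_cancel, Finset.sum_range_succ', if_pos rfl, mul_zero, add_zero]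
  have h1 := fwdDiff_iter_eq_sum_shift (1 : ℤ) (fun r : ℤ => r ^ n) n 1
  rw [fwdDiff_iter_eq_factorial] at h1
  simp only [Pi.natCast_apply] at h1
  have h2 : ∑ j ∈ range (n + 1), (Nat.choose n (j + 1 - 1) : ℤ) *
      (if j + 1 = 0 then 0 else (-1) ^ (j + 1 - 1) * ((j + 1 : ℕ) : ℤ) ^ n) =
      (-1) ^ n * ∑ k ∈ range (n + 1), ((-1 : ℤ) ^ (n - k) * (n.choose k : ℤ)) • ((1 : ℤ) + k • 1) ^ n := by
    rw [Finset.mul_sum]
    apply Finset.sum_congr rfl
    intro j hj
    have hj' : j ≤ n := by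
      have := Finset.mem_range.mp hj
      omega
    rw [if_neg (Nat.succ_ne_zero j), Nat.add_sub_cancel, smul_eq_mul, nsmul_eq_mul, mul_one]
    have e1 : ((-1 : ℤ)) ^ n * ((-1) ^ (n - j) * (n.choose j : ℤ) * ((1 : ℤ) + j) ^ n) =
        ((-1) ^ n * (-1) ^ (n - j)) * ((n.choose j : ℤ) * ((1 : ℤ) + j) ^ n) := by ring
    have e2 : ((-1 : ℤ)) ^ n * (-1) ^ (n - j) = (-1) ^ j := by
      rw [← pow_add]
      have : n + (n - j) = j + 2 * (n - j) := by omega
      rw [this, pow_add, pow_mul]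
      simp
    rw [e1, e2]
    push_cast
    ring
  rw [h2, ← h1]

end lam

end Groth.Agent.Lib.Helper20.TF
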