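import Groth.Agent.Lib.Helper20.SymSpecial
import Groth.Agent.S8684
import Groth.Agent.S8685
import Mathlib.RingTheory.PowerSeries.Binomial
import Mathlib.Algebra.MvPolynomial.Expand

/-!
# Helper library (helper20): the test λ-ring `K[T_i]` over a binomial ring `K`,
in which the monomials are line elements: `λ_t(Σ c_m m) = ∏ (1 + m t)^(c_m)`.
-/

set_option autoImplicit false
universe u

open Finset

namespace Groth.Agent.Lib.Helper20.TR

open LambdaRing Groth.Agent.Lib.Helper20.Sym

section series
variable {R : Type*} [CommRing R]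

lemma coeff_one_mul' (f g : PowerSeries R) :
    PowerSeries.coeff 1 (f * g) =
      PowerSeries.constantCoeff f * PowerSeries.coeff 1 g +
        PowerSeries.coeff 1 f * PowerSeries.constantCoeff g := by
  rw [PowerSeries.coeff_mul, Finset.Nat.sum_antidiagonal_eq_sum_range_succ_mk,
    Finset.sum_range_succ, Finset.sum_range_one]
  simp

lemma coeff_one_prod {ι : Type*} (s : Finset ι) (f : ι → PowerSeries R)
    (hf : ∀ i ∈ s, PowerSeries.constantCoeff (f i) = 1) :
    PowerSeries.coeff 1 (∏ i ∈ s, f i) = ∑ i ∈ s, PowerSeries.coeff 1 (f i) := by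
  classical
  induction s using Finset.induction_on with
  | empty => simp
  | insert a s ha ih =>
    have h1 : PowerSeries.constantCoeff (∏ i ∈ s, f i) = 1 := by
      rw [map_prod]
      exact Finset.prod_eq_one fun i hi => hf i (mem_insert_of_mem hi)
    rw [Finset.prod_insert ha, Finset.sum_insert ha, coeff_one_mul', h1,
      hf a (mem_insert_self a s), ih fun i hi => hf i (mem_insert_of_mem hi)]
    ring

lemma ld_prod {ι : Type*} (s : Finset ι) (f : ι → PowerSeries R)
    (hf : ∀ i ∈ s, PowerSeries.constantCoeff (f i) = 1) :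
    ld (∏ i ∈ s, f i) = ∑ i ∈ s, ld (f i) := by
  classical
  induction s using Finset.induction_on with
  | empty => simp [ld_one]
  | insert a s ha ih =>
    have h1 : PowerSeries.constantCoeff (∏ i ∈ s, f i) = 1 := by
      rw [map_prod]
      exact Finset.prod_eq_one fun i hi => hf i (mem_insert_of_mem hi)
    rw [Finset.prod_insert ha, Finset.sum_insert ha, ld_mul (hf a (mem_insert_self a s)) h1,
      ih fun i hi => hf i (mem_insert_of_mem hi)]

lemma geom_neg (u : R) :
    (1 + PowerSeries.C u * PowerSeries.X) * PowerSeries.mk (fun n => (-u) ^ n) = 1 := by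
  have := LR.geom_mul (-u)
  rw [map_neg, neg_mul, sub_neg_eq_add] at this
  exact this

end series

section binom
variable {K : Type u} [CommRing K] [BinomialRing K]

lemma choose_succ_identity (c : K) (k : ℕ) :
    ((k + 1 : ℕ) : K) * Ring.choose c (k + 1) + (k : K) * Ring.choose c k = c * Ring.choose c k := by
  have h := Ring.choose_smul_choose c (Nat.le_succ k)
  rw [Nat.choose_succ_self_right, Nat.succ_sub (le_refl k), Nat.sub_self, Ring.choose_one_right,
    nsmul_eq_mul] at h
  rw [h]
  ring

end binom

section def_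
variable {σ : Type*} {K : Type u} [CommRing K] [BinomialRing K]

/-- `(1 + m t)^c` -/
noncomputable def lineSer (m : σ →₀ ℕ) (c : K) : PowerSeries (MvPolynomial σ K) :=
  PowerSeries.rescale (MvPolynomial.monomial m (1 : K))
    (PowerSeries.binomialSeries (MvPolynomial σ K) c)

lemma lineSer_zero (m : σ →₀ ℕ) : lineSer m (0 : K) = 1 := by
  unfold lineSer
  rw [PowerSeries.binomialSeries_zero, map_one]

lemma lineSer_add (m : σ →₀ ℕ) (c c' : K) : lineSer m (c + c') = lineSer m c * lineSer m c' := by
  unfold lineSer
  rw [PowerSeries.binomialSeries_add, map_mul]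

lemma coeff_lineSer (m : σ →₀ ℕ) (c : K) (j : ℕ) :
    PowerSeries.coeff j (lineSer m c) = MvPolynomial.monomial (j • m) (Ring.choose c j) := by
  unfold lineSer
  rw [PowerSeries.coeff_rescale, PowerSeries.binomialSeries_coeff, MvPolynomial.monomial_pow,
    one_pow, Algebra.smul_def, mul_one, MvPolynomial.algebraMap_eq, mul_comm,
    MvPolynomial.C_mul_monomial, mul_one]

lemma constantCoeff_lineSer (m : σ →₀ ℕ) (c : K) :
    PowerSeries.constantCoeff (lineSer m c) = 1 := by
  rw [← PowerSeries.coeff_zero_eq_constantCoeff_apply, coeff_lineSer, zero_smul,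
    Ring.choose_zero_right]
  rfl

/-- `λ_t(p) = ∏_m (1 + m t)^(p_m)` -/
noncomputable def lamS (p : MvPolynomial σ K) : PowerSeries (MvPolynomial σ K) :=
  ∏ m ∈ p.support, lineSer m (p.coeff m)

lemma lamS_eq_of_subset (p : MvPolynomial σ K) (s : Finset (σ →₀ ℕ)) (hs : p.support ⊆ s) :
    lamS p = ∏ m ∈ s, lineSer m (p.coeff m) := by
  unfold lamS
  apply Finset.prod_subset hs
  intro m _ hm
  rw [MvPolynomial.notMem_support_iff.mp hm, lineSer_zero]

lemma lamS_add (p q : MvPolynomial σ K) : lamS (p + q) = lamS p * lamS q := by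
  classical
  rw [lamS_eq_of_subset (p + q) (p.support ∪ q.support) MvPolynomial.support_add,
    lamS_eq_of_subset p (p.support ∪ q.support) subset_union_left,
    lamS_eq_of_subset q (p.support ∪ q.support) subset_union_right, ← Finset.prod_mul_distrib]
  apply Finset.prod_congr rfl
  intro m _
  rw [MvPolynomial.coeff_add, lineSer_add]

lemma constantCoeff_lamS (p : MvPolynomial σ K) : PowerSeries.constantCoeff (lamS p) = 1 := by
  unfold lamS
  rw [map_prod]
  exact Finset.prod_eq_one fun m _ => constantCoeff_lineSer m _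

lemma coeff_one_lamS (p : MvPolynomial σ K) : PowerSeries.coeff 1 (lamS p) = p := by
  unfold lamS
  rw [coeff_one_prod _ _ fun m _ => constantCoeff_lineSer m _]
  conv_rhs => rw [← MvPolynomial.support_sum_monomial_coeff p]
  apply Finset.sum_congr rfl
  intro m _
  rw [coeff_lineSer, one_smul, Ring.choose_one_right]

/-- the λ-structure of the test ring -/
noncomputable def testLam : LambdaOps (MvPolynomial σ K) where
  lam n p := PowerSeries.coeff n (lamS p)
  lam_zero p := by
    rw [PowerSeries.coeff_zero_eq_constantCoeff_apply]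
    exact constantCoeff_lamS p
  lam_one p := coeff_one_lamS p
  lam_add k x y := by
    rw [lamS_add, PowerSeries.coeff_mul, Finset.Nat.sum_antidiagonal_eq_sum_range_succ_mk]

noncomputable scoped instance instTestLam : LambdaOps (MvPolynomial σ K) := testLam

lemma lamSeries_eq (p : MvPolynomial σ K) : lamSeries p = lamS p := by
  refine PowerSeries.ext fun n => ?_
  rw [LR.coeff_lamSeries]
  rfl

lemma lam_def (n : ℕ) (p : MvPolynomial σ K) :
    LambdaOps.lam n p = PowerSeries.coeff n (lamS p) := rfl

end def_

section adams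
variable {σ : Type*} {K : Type u} [CommRing K] [BinomialRing K]

lemma ld_lineSer (m : σ →₀ ℕ) (c : K) :
    ld (lineSer m c) = PowerSeries.C (MvPolynomial.monomial m c) *
      PowerSeries.mk (fun n => (-(MvPolynomial.monomial m (1 : K))) ^ n) := by
  apply ld_eq_of_mul (constantCoeff_lineSer m c)
  -- `(1 + [m] t) f' = c [m] f`
  have key : (1 + PowerSeries.C (MvPolynomial.monomial m (1 : K)) * PowerSeries.X) *
      PowerSeries.derivative _ (lineSer m c) =
        PowerSeries.C (MvPolynomial.monomial m c) * lineSer m c := by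
    refine PowerSeries.ext fun k => ?_
    rw [add_mul, one_mul, map_add, PowerSeries.coeff_C_mul, mul_assoc,
      PowerSeries.coeff_C_mul, PowerSeries.coeff_derivative, coeff_lineSer, coeff_lineSer]
    rcases k with _ | k
    · rw [PowerSeries.coeff_zero_X_mul, mul_zero, add_zero]
      simp only [zero_add, one_smul, zero_smul, Ring.choose_one_right, Ring.choose_zero_right,
        Nat.cast_zero, Nat.cast_one, mul_one]
      rw [MvPolynomial.monomial_mul, add_zero, mul_one]
    · rw [PowerSeries.coeff_succ_X_mul, PowerSeries.coeff_derivative, coeff_lineSer]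
      have e1 : MvPolynomial.monomial ((k + 1 + 1) • m) (Ring.choose c (k + 1 + 1)) *
          (((k + 1 : ℕ) : MvPolynomial σ K) + 1) =
          MvPolynomial.monomial ((k + 1 + 1) • m)
            (((k + 1 + 1 : ℕ) : K) * Ring.choose c (k + 1 + 1)) := by
        have : (((k + 1 : ℕ) : MvPolynomial σ K) + 1) = MvPolynomial.C (((k + 1 + 1 : ℕ) : K)) := by
          simp
        rw [this, mul_comm, MvPolynomial.C_mul_monomial]
      have e2 : MvPolynomial.monomial m (1 : K) *
          (MvPolynomial.monomial ((k + 1) • m) (Ring.choose c (k + 1)) *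
            (((k : ℕ) : MvPolynomial σ K) + 1)) =
          MvPolynomial.monomial ((k + 1 + 1) • m) (((k + 1 : ℕ) : K) * Ring.choose c (k + 1)) := by
        have : (((k : ℕ) : MvPolynomial σ K) + 1) = MvPolynomial.C (((k + 1 : ℕ) : K)) := by
          simp
        rw [this, mul_comm (MvPolynomial.monomial ((k + 1) • m) _), MvPolynomial.C_mul_monomial,
          MvPolynomial.monomial_mul, one_mul]
        congr 1
        rw [succ_nsmul' m (k + 1)]
      have e3 : MvPolynomial.monomial m c *
          MvPolynomial.monomial ((k + 1) • m) (Ring.choose c (k + 1)) =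
          MvPolynomial.monomial ((k + 1 + 1) • m) (c * Ring.choose c (k + 1)) := by
        rw [MvPolynomial.monomial_mul]
        congr 1
        rw [succ_nsmul' m (k + 1)]
      rw [e1, e2, e3, ← map_add, choose_succ_identity]
  have hg := geom_neg (MvPolynomial.monomial m (1 : K))
  calc PowerSeries.derivative _ (lineSer m c)
      = ((1 + PowerSeries.C (MvPolynomial.monomial m (1 : K)) * PowerSeries.X) *
          PowerSeries.mk (fun n => (-(MvPolynomial.monomial m (1 : K))) ^ n)) *
            PowerSeries.derivative _ (lineSer m c) := by rw [hg, one_mul]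
    _ = ((1 + PowerSeries.C (MvPolynomial.monomial m (1 : K)) * PowerSeries.X) *
          PowerSeries.derivative _ (lineSer m c)) *
            PowerSeries.mk (fun n => (-(MvPolynomial.monomial m (1 : K))) ^ n) := by ring
    _ = _ := by rw [key]; ring

lemma coeff_ld_lineSer (m : σ →₀ ℕ) (c : K) (k : ℕ) :
    PowerSeries.coeff k (ld (lineSer m c)) =
      (-1) ^ k * MvPolynomial.monomial ((k + 1) • m) c := by
  rw [ld_lineSer, PowerSeries.coeff_C_mul, PowerSeries.coeff_mk, neg_pow,
    MvPolynomial.monomial_pow, one_pow]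
  have : MvPolynomial.monomial m c * ((-1) ^ k * MvPolynomial.monomial (k • m) (1 : K)) =
      (-1) ^ k * (MvPolynomial.monomial m c * MvPolynomial.monomial (k • m) (1 : K)) := by ring
  rw [this, MvPolynomial.monomial_mul, mul_one]
  congr 2
  rw [succ_nsmul' m k]

/-- the Adams operations of the test ring are the substitutions `T_i ↦ T_i^k` -/
lemma adamsOp_eq_expand (k : ℕ) (p : MvPolynomial σ K) :
    adamsOp (k + 1) p = MvPolynomial.expand (k + 1) p := by
  rw [adamsOp_succ_eq_newt, newt, lamSeries_eq]
  unfold lamS
  rw [ld_prod _ _ fun m _ => constantCoeff_lineSer m _, map_sum, Finset.mul_sum]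
  conv_rhs => rw [← MvPolynomial.support_sum_monomial_coeff p, map_sum]
  apply Finset.sum_congr rfl
  intro m _
  rw [coeff_ld_lineSer, MvPolynomial.expand_monomial, ← mul_assoc, ← mul_pow]
  simp

end adams

section special
variable {σ : Type*} {K : Type u} [CommRing K] [BinomialRing K]

lemma torsionFree (n : ℕ) (hn : n ≠ 0) (a : MvPolynomial σ K) (h : n • a = 0) : a = 0 := by
  ext d
  have := congrArg (MvPolynomial.coeff d) h
  rw [MvPolynomial.coeff_smul, MvPolynomial.coeff_zero] at this
  rw [MvPolynomial.coeff_zero]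
  have hinj := (BinomialRing.toIsAddTorsionFree (R := K)).nsmul_right_injective hn
  exact hinj (by simpa using this)

/-- the test ring is a λ-ring in the strict sense -/
theorem isSpecial : IsSpecial (MvPolynomial σ K) := by
  apply isSpecial_of_adams torsionFree Groth.Agent.S8684.result Groth.Agent.S8685.result
  · intro k
    rw [adamsOp_eq_expand, map_one]
  · intro k x y
    rw [adamsOp_eq_expand, adamsOp_eq_expand, adamsOp_eq_expand, map_mul]
  · intro k k' x
    rw [adamsOp_eq_expand, adamsOp_eq_expand, adamsOp_eq_expand, ← MvPolynomial.expand_mul]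
    have : (k + 1) * (k' + 1) = k * k' + k + k' + 1 := by ring
    rw [this]

lemma lamSeries_monomial (m : σ →₀ ℕ) :
    lamSeries (MvPolynomial.monomial m (1 : K)) =
      1 + PowerSeries.C (MvPolynomial.monomial m (1 : K)) * PowerSeries.X := by
  classical
  rw [lamSeries_eq, lamS_eq_of_subset _ {m} MvPolynomial.support_monomial_subset,
    Finset.prod_singleton, MvPolynomial.coeff_monomial, if_pos rfl]
  unfold lineSer
  have : PowerSeries.binomialSeries (MvPolynomial σ K) (1 : K) = 1 + PowerSeries.X := by
    have := PowerSeries.binomialSeries_nat (R := K) (A := MvPolynomial σ K) 1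
    rw [Nat.cast_one, pow_one] at this
    exact this
  rw [this, map_add, map_one, PowerSeries.rescale_X]

lemma lam_monomial (m : σ →₀ ℕ) (j : ℕ) (hj : 2 ≤ j) :
    LambdaOps.lam j (MvPolynomial.monomial m (1 : K)) = 0 := by
  rw [← LR.coeff_lamSeries, lamSeries_monomial]
  rcases j with _ | _ | j
  · omega
  · omega
  · simp [PowerSeries.coeff_one, PowerSeries.coeff_X]

lemma lam_X (i : σ) (j : ℕ) (hj : 2 ≤ j) :
    LambdaOps.lam j (MvPolynomial.X i : MvPolynomial σ K) = 0 :=
  lam_monomial _ j hj

lemma lam_one' (j : ℕ) (hj : 2 ≤ j) : LambdaOps.lam j (1 : MvPolynomial σ K) = 0 :=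
  lam_monomial 0 j hj

lemma lam_C (c : K) (n : ℕ) :
    LambdaOps.lam n (MvPolynomial.C c : MvPolynomial σ K) = MvPolynomial.C (Ring.choose c n) := by
  classical
  rw [lam_def, MvPolynomial.C_apply,
    lamS_eq_of_subset _ {0} MvPolynomial.support_monomial_subset,
    Finset.prod_singleton, coeff_lineSer, smul_zero, MvPolynomial.coeff_monomial, if_pos rfl,
    MvPolynomial.C_apply]

lemma isLambdaAlg [LambdaOps K] (hKb : IsBinomial K) : IsLambdaAlg K (MvPolynomial σ K) := by
  intro n x
  rw [MvPolynomial.algebraMap_eq, lam_C, hKb]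

end special

end Groth.Agent.Lib.Helper20.TR
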