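import Mathlib

/-! Weight-zero part of the cotangent space at an isolated reduced fixed point. -/

set_option autoImplicit false

namespace Groth.Agent.Lib.Helper20.TorusFix

universe u v w

theorem mem_sq
    {k : Type u} [Field k] {M : Type v} [AddCommGroup M] [DecidableEq M]
    {A : Type w} [CommRing A] [Algebra k A] (𝒜 : M → Submodule k A) [GradedAlgebra 𝒜]
    (m : Ideal A) [hmax : m.IsMaximal]
    (hfix : ∀ i : M, i ≠ 0 → ∀ a ∈ 𝒜 i, a ∈ m)
    (hred : ∀ a ∈ m, ∃ s ∉ m, s * a ∈ Ideal.span {b : A | ∃ i : M, i ≠ 0 ∧ b ∈ 𝒜 i})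
    {f : A} (hf0 : f ∈ 𝒜 0) (hfm : f ∈ m) : f ∈ m ^ 2 := by
  classical
  obtain ⟨s, hs, hsf⟩ := hred f hfm
  have key : ∀ y ∈ Ideal.span {b : A | ∃ i : M, i ≠ 0 ∧ b ∈ 𝒜 i}, ∀ c : A,
      ((DirectSum.decompose 𝒜 (c * y) 0 : 𝒜 0) : A) ∈ m ^ 2 := by
    intro y hy
    induction hy using Submodule.span_induction with
    | mem b hb =>
      obtain ⟨i, hi, hbi⟩ := hb
      intro c
      have h1 := DirectSum.coe_decompose_mul_add_of_right_mem 𝒜 (i := -i) (a := c) hbi
      rw [neg_add_cancel] at h1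
      rw [h1, pow_two]
      apply Ideal.mul_mem_mul
      · exact hfix (-i) (neg_ne_zero.mpr hi) _ (SetLike.coe_mem _)
      · exact hfix i hi b hbi
    | zero =>
      intro c
      rw [mul_zero, DirectSum.decompose_zero]
      simp
    | add u v _ _ hu hv =>
      intro c
      rw [mul_add, DirectSum.decompose_add, DirectSum.add_apply, Submodule.coe_add]
      exact Ideal.add_mem _ (hu c) (hv c)
    | smul a u _ hu =>
      intro c
      rw [smul_eq_mul, ← mul_assoc]
      exact hu (c * a)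
  have h1 := key _ hsf 1
  rw [one_mul] at h1
  have h2 := DirectSum.coe_decompose_mul_add_of_right_mem 𝒜 (i := (0 : M)) (a := s) hf0
  rw [add_zero] at h2
  rw [h2] at h1
  -- s₀ ∉ m
  have hs0 : ((DirectSum.decompose 𝒜 s 0 : 𝒜 0) : A) ∉ m := by
    intro hcon
    apply hs
    rw [← DirectSum.sum_support_decompose 𝒜 s]
    apply Ideal.sum_mem
    intro i _
    by_cases hi : i = 0
    · subst hi; exact hcon
    · exact hfix i hi _ (SetLike.coe_mem _)
  have hrad : (m ^ 2).radical = m := by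
    rw [Ideal.radical_pow m two_ne_zero]
    exact hmax.isPrime.radical
  have hprim : (m ^ 2).IsPrimary := by
    apply Ideal.isPrimary_of_isMaximal_radical
    rw [hrad]; exact hmax
  rw [mul_comm] at h1
  rcases (Ideal.isPrimary_iff.mp hprim).2 h1 with h | h
  · exact h
  · rw [hrad] at h
    exact absurd h hs0

end Groth.Agent.Lib.Helper20.TorusFix
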