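import Mathlib

/-! The kernel of localisation at a fixed point is homogeneous. -/

set_option autoImplicit false

namespace Groth.Agent.Lib.Helper20.TorusKer

universe u v w x

section core

variable {k : Type u} [Field k] {M : Type v} [AddCommGroup M] [DecidableEq M]
    {A : Type w} [CommRing A] [Algebra k A] (𝒜 : M → Submodule k A) [GradedAlgebra 𝒜]
    (m : Ideal A) [hmax : m.IsMaximal]

/-- Cramer trick: if `s a = 0` with `s ∉ m`, some `t ∉ m` kills every component of `a`. -/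
theorem exists_kill_components (hfix : ∀ i : M, i ≠ 0 → ∀ a ∈ 𝒜 i, a ∈ m)
    (a s : A) (hs : s ∉ m) (hsa : s * a = 0) :
    ∃ t ∉ m, ∀ i : M, t * ((DirectSum.decompose 𝒜 a i : 𝒜 i) : A) = 0 := by
  classical
  set N := (DirectSum.decompose 𝒜 a).support with hN
  -- s₀ ∉ m
  have hs0 : ((DirectSum.decompose 𝒜 s 0 : 𝒜 0) : A) ∉ m := by
    intro hcon
    apply hs
    rw [← DirectSum.sum_support_decompose 𝒜 s]
    apply Ideal.sum_mem
    intro i _
    by_cases hi : i = 0
    · subst hi; exact hcon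
    · exact hfix i hi _ (SetLike.coe_mem _)
  let S : Matrix N N A := Matrix.of fun i' i =>
    ((DirectSum.decompose 𝒜 s (i'.1 - i.1) : 𝒜 (i'.1 - i.1)) : A)
  let v : N → A := fun i => ((DirectSum.decompose 𝒜 a i.1 : 𝒜 i.1) : A)
  -- components of s * a
  have hcomp : ∀ j : M, ((DirectSum.decompose 𝒜 (s * a) j : 𝒜 j) : A) =
      ∑ i ∈ N, ((DirectSum.decompose 𝒜 s (j - i) : 𝒜 (j - i)) : A) *
        ((DirectSum.decompose 𝒜 a i : 𝒜 i) : A) := by
    intro j
    have e : s * a = ∑ i ∈ N, s * ((DirectSum.decompose 𝒜 a i : 𝒜 i) : A) := by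
      rw [← Finset.mul_sum, DirectSum.sum_support_decompose 𝒜 a]
    conv_lhs => rw [e]
    rw [DirectSum.decompose_sum, DFinsupp.finsetSum_apply, AddSubmonoidClass.coe_finsetSum]
    apply Finset.sum_congr rfl
    intro i _
    have h1 := DirectSum.coe_decompose_mul_add_of_right_mem 𝒜 (i := j - i) (a := s)
      (SetLike.coe_mem (DirectSum.decompose 𝒜 a i))
    rw [sub_add_cancel] at h1
    exact h1
  have hSv : S.mulVec v = 0 := by
    funext i'
    simp only [Matrix.mulVec, dotProduct, S, v, Matrix.of_apply, Pi.zero_apply]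
    have h2 := hcomp i'.1
    rw [hsa, DirectSum.decompose_zero] at h2
    rw [Finset.sum_coe_sort N (fun i => ((DirectSum.decompose 𝒜 s (i'.1 - i) : 𝒜 (i'.1 - i)) : A) *
        ((DirectSum.decompose 𝒜 a i : 𝒜 i) : A))]
    rw [← h2]
    simp
  have hdet : S.det • v = 0 := by
    have h3 : (S.adjugate * S).mulVec v = 0 := by
      rw [← Matrix.mulVec_mulVec, hSv, Matrix.mulVec_zero]
    rw [Matrix.adjugate_mul, Matrix.smul_mulVec, Matrix.one_mulVec] at h3
    exact h3
  have hdetm : S.det ∉ m := by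
    intro hcon
    have h4 : (Ideal.Quotient.mk m) S.det = 0 := Ideal.Quotient.eq_zero_iff_mem.mpr hcon
    rw [RingHom.map_det] at h4
    have h5 : (Ideal.Quotient.mk m).mapMatrix S =
        Matrix.diagonal (fun _ : N => (Ideal.Quotient.mk m)
          ((DirectSum.decompose 𝒜 s 0 : 𝒜 0) : A)) := by
      ext i' i
      simp only [RingHom.mapMatrix_apply, Matrix.map_apply, S, Matrix.of_apply]
      by_cases hii : i' = i
      · subst hii
        rw [Matrix.diagonal_apply_eq, sub_self]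
      · rw [Matrix.diagonal_apply_ne _ hii]
        apply Ideal.Quotient.eq_zero_iff_mem.mpr
        apply hfix _ _ _ (SetLike.coe_mem _)
        intro h0
        apply hii
        exact Subtype.ext (sub_eq_zero.mp h0)
    rw [h5, Matrix.det_diagonal, Finset.prod_const] at h4
    haveI := hmax.isPrime
    have hx : (Ideal.Quotient.mk m) ((DirectSum.decompose 𝒜 s 0 : 𝒜 0) : A) ≠ 0 :=
      fun h => hs0 (Ideal.Quotient.eq_zero_iff_mem.mp h)
    exact pow_ne_zero _ hx h4
  refine ⟨S.det, hdetm, ?_⟩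
  intro i
  by_cases hi : i ∈ N
  · have := congrFun hdet ⟨i, hi⟩
    simpa [v] using this
  · have h0 : DirectSum.decompose 𝒜 a i = 0 := DFinsupp.notMem_support_iff.mp hi
    rw [h0]; simp

theorem ker_homogeneous
    {B : Type x} [CommRing B] [Algebra k B] (ℬ : M → Submodule k B) [GradedAlgebra ℬ]
    (φ : B →ₐ[k] A) (hφ : ∀ i : M, ∀ b ∈ ℬ i, φ b ∈ 𝒜 i)
    (hfix : ∀ i : M, i ≠ 0 → ∀ a ∈ 𝒜 i, a ∈ m) :
    (RingHom.ker ((algebraMap A (Localization.AtPrime m)).comp (φ : B →+* A))).IsHomogeneous ℬ := by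
  intro i b hb
  rw [RingHom.mem_ker, RingHom.comp_apply] at hb ⊢
  rw [IsLocalization.map_eq_zero_iff m.primeCompl] at hb ⊢
  obtain ⟨⟨s, hs⟩, hsa⟩ := hb
  obtain ⟨t, ht, hkill⟩ := exists_kill_components 𝒜 m hfix (φ b) s hs hsa
  refine ⟨⟨t, ht⟩, ?_⟩
  let g : ℬ →+*ᵍ 𝒜 := { toRingHom := φ.toRingHom, map_mem := fun {i x} hx => hφ i x hx }
  have e : φ ((DirectSum.decompose ℬ b i : ℬ i) : B) =
      ((DirectSum.decompose 𝒜 (φ b) i : 𝒜 i) : A) :=
    g.map_directSumDecompose (x := b) (i := i)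
  show t * φ ((DirectSum.decompose ℬ b i : ℬ i) : B) = 0
  rw [e]
  exact hkill i

end core

end Groth.Agent.Lib.Helper20.TorusKer
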