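import Mathlib

/-! # Extending a derivation `R → P` to `AdjoinRoot f → P` coefficientwise. -/

namespace Groth.Agent.Lib.Helper20.TrDeriv

open Polynomial

universe u

set_option linter.unusedSectionVars false

section
variable {Λ R : Type u} [CommRing Λ] [CommRing R] [Algebra Λ R] (f : R[X])
  {P : Type u} [AddCommGroup P] [Module (AdjoinRoot f) P] [Module R P]
  [IsScalarTower R (AdjoinRoot f) P] [Module Λ P] [IsScalarTower Λ R P]

/-- The coefficientwise derivation evaluated at the root. -/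
noncomputable def D1 (d : Derivation Λ R P) (g : R[X]) : P :=
  PolynomialModule.eval (AdjoinRoot.root f)
    (PolynomialModule.map (AdjoinRoot f) (LinearMap.id : P →ₗ[R] P) (d.mapCoeffs g))

lemma D1_add (d : Derivation Λ R P) (g h : R[X]) : D1 f d (g + h) = D1 f d g + D1 f d h := by
  simp only [D1, map_add]

lemma D1_zero (d : Derivation Λ R P) : D1 f d 0 = 0 := by
  simp only [D1, map_zero]

lemma D1_sub (d : Derivation Λ R P) (g h : R[X]) : D1 f d (g - h) = D1 f d g - D1 f d h := by
  simp only [D1, map_sub]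

lemma eval_map_root (g : R[X]) :
    (g.map (algebraMap R (AdjoinRoot f))).eval (AdjoinRoot.root f) = AdjoinRoot.mk f g := by
  rw [Polynomial.eval_map, ← Polynomial.aeval_def, AdjoinRoot.aeval_eq]

lemma D1_mul (d : Derivation Λ R P) (g h : R[X]) :
    D1 f d (g * h) = AdjoinRoot.mk f g • D1 f d h + AdjoinRoot.mk f h • D1 f d g := by
  simp only [D1, Derivation.leibniz, map_add, PolynomialModule.map_smul,
    PolynomialModule.eval_smul, eval_map_root]

lemma D1_C (d : Derivation Λ R P) (r : R) : D1 f d (C r) = d r := by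
  simp [D1]

lemma D1_X_pow (d : Derivation Λ R P) (n : ℕ) : D1 f d (X ^ n) = 0 := by
  rw [← Polynomial.monomial_one_right_eq_X_pow]
  simp [D1]

lemma D1_eq_zero_of_mk_eq_zero (d : Derivation Λ R P) (hf : D1 f d f = 0) (g : R[X])
    (hg : AdjoinRoot.mk f g = 0) : D1 f d g = 0 := by
  obtain ⟨h, rfl⟩ := AdjoinRoot.mk_eq_zero.mp hg
  rw [D1_mul, hf, smul_zero, add_zero, AdjoinRoot.mk_self, zero_smul]

lemma D1_congr (d : Derivation Λ R P) (hf : D1 f d f = 0) (g h : R[X])
    (hgh : AdjoinRoot.mk f g = AdjoinRoot.mk f h) : D1 f d g = D1 f d h := by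
  have := D1_eq_zero_of_mk_eq_zero f d hf (g - h) (by rw [map_sub, hgh, sub_self])
  rw [D1_sub] at this
  exact sub_eq_zero.mp this

variable [IsScalarTower Λ (AdjoinRoot f) P]

lemma mk_sinv (s : AdjoinRoot f) :
    AdjoinRoot.mk f (Function.surjInv (AdjoinRoot.mk_surjective (g := f)) s) = s :=
  Function.surjInv_eq _ _

/-- The descended additive map. -/
noncomputable def Dadd (d : Derivation Λ R P) (hf : D1 f d f = 0) : AdjoinRoot f →+ P where
  toFun s := D1 f d (Function.surjInv (AdjoinRoot.mk_surjective (g := f)) s)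
  map_zero' := by
    rw [← D1_zero f d]
    apply D1_congr f d hf
    rw [mk_sinv, map_zero]
  map_add' s t := by
    rw [← D1_add]
    apply D1_congr f d hf
    rw [map_add, mk_sinv, mk_sinv, mk_sinv]

lemma Dadd_mk (d : Derivation Λ R P) (hf : D1 f d f = 0) (g : R[X]) :
    Dadd f d hf (AdjoinRoot.mk f g) = D1 f d g := by
  show D1 f d _ = _
  apply D1_congr f d hf
  rw [mk_sinv]

lemma Dadd_mul (d : Derivation Λ R P) (hf : D1 f d f = 0) (s t : AdjoinRoot f) :
    Dadd f d hf (s * t) = s • Dadd f d hf t + t • Dadd f d hf s := by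
  obtain ⟨g, rfl⟩ := AdjoinRoot.mk_surjective s
  obtain ⟨h, rfl⟩ := AdjoinRoot.mk_surjective t
  rw [← map_mul, Dadd_mk, Dadd_mk, Dadd_mk, D1_mul]

lemma Dadd_algebraMap (d : Derivation Λ R P) (hf : D1 f d f = 0) (c : Λ) :
    Dadd f d hf (algebraMap Λ (AdjoinRoot f) c) = 0 := by
  rw [AdjoinRoot.algebraMap_eq', RingHom.comp_apply, ← AdjoinRoot.mk_C, Dadd_mk, D1_C,
    Derivation.map_algebraMap]

/-- The descended derivation. -/
noncomputable def Dt (d : Derivation Λ R P) (hf : D1 f d f = 0) :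
    Derivation Λ (AdjoinRoot f) P where
  toFun := Dadd f d hf
  map_add' := (Dadd f d hf).map_add
  map_smul' c s := by
    rw [Algebra.smul_def, Dadd_mul, Dadd_algebraMap, smul_zero, add_zero, algebraMap_smul]
    rfl
  map_one_eq_zero' := by
    have := Dadd_algebraMap f d hf 1
    rwa [map_one] at this
  leibniz' := Dadd_mul f d hf

lemma Dt_mk (d : Derivation Λ R P) (hf : D1 f d f = 0) (g : R[X]) :
    Dt f d hf (AdjoinRoot.mk f g) = D1 f d g := Dadd_mk f d hf g

lemma Dt_of (d : Derivation Λ R P) (hf : D1 f d f = 0) (r : R) :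
    Dt f d hf (AdjoinRoot.of f r) = d r := by
  rw [← AdjoinRoot.mk_C, Dt_mk, D1_C]

end

end Groth.Agent.Lib.Helper20.TrDeriv
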