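import Mathlib
import Groth.Agent.Lib.Helper24.ExtPow.KerMap

/-! # Exterior algebra lemmas for the trace on exterior powers. -/

namespace Groth.Agent.Lib.Helper20.TrExtA

open exteriorPower

section ext
variable {R M : Type*} [CommRing R] [AddCommGroup M] [Module R M]

lemma ιMulti_snoc {n : ℕ} (v : Fin (n + 1) → M) :
    ExteriorAlgebra.ιMulti R (n + 1) v =
      ExteriorAlgebra.ιMulti R n (Fin.init v) * ExteriorAlgebra.ι R (v (Fin.last n)) := by
  rw [ExteriorAlgebra.ιMulti_apply, ExteriorAlgebra.ιMulti_apply, List.ofFn_succ',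
    List.prod_concat]
  rfl

lemma contractRight_ιMulti_eq_zero (θ : Module.Dual R M) {n : ℕ} (v : Fin n → M)
    (hv : ∀ i, θ (v i) = 0) :
    CliffordAlgebra.contractRight (Q := (0 : QuadraticForm R M))
      (ExteriorAlgebra.ιMulti R n v) θ = 0 := by
  induction n with
  | zero =>
    rw [ExteriorAlgebra.ιMulti_zero_apply]
    exact CliffordAlgebra.contractRight_one _ _
  | succ n ih =>
    rw [ιMulti_snoc]
    have := CliffordAlgebra.contractRight_mul_ι (Q := (0 : QuadraticForm R M)) θ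
      (v (Fin.last n)) (ExteriorAlgebra.ιMulti R n (Fin.init v))
    rw [show ExteriorAlgebra.ι R (v (Fin.last n)) =
      CliffordAlgebra.ι (0 : QuadraticForm R M) (v (Fin.last n)) from rfl, this, hv, zero_smul,
      ih (Fin.init v) (fun i => hv _), zero_mul, sub_zero]

lemma contractRight_ιMulti_snoc (θ : Module.Dual R M) {n : ℕ} (v : Fin n → M) (w : M)
    (hv : ∀ i, θ (v i) = 0) :
    CliffordAlgebra.contractRight (Q := (0 : QuadraticForm R M))
      (ExteriorAlgebra.ιMulti R (n + 1) (Fin.snoc v w)) θ =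
      θ w • ExteriorAlgebra.ιMulti R n v := by
  rw [ιMulti_snoc, Fin.init_snoc, Fin.snoc_last]
  have := CliffordAlgebra.contractRight_mul_ι (Q := (0 : QuadraticForm R M)) θ w
    (ExteriorAlgebra.ιMulti R n v)
  rw [show ExteriorAlgebra.ι R w = CliffordAlgebra.ι (0 : QuadraticForm R M) w from rfl, this,
    contractRight_ιMulti_eq_zero θ v hv, zero_mul, sub_zero]

end ext

section wedge
variable {R M : Type*} [CommRing R] [AddCommGroup M] [Module R M] (m₀ : M) (t : ℕ)

/-- `η ↦ η_1 ∧ … ∧ η_t ∧ m₀` as an alternating map. -/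
noncomputable def wedgeAlt : M [⋀^Fin t]→ₗ[R] ↥(⋀[R]^(t + 1) M) where
  toFun η := ιMulti R (t + 1) (Fin.snoc η m₀)
  map_update_add' := by
    intro inst η i x y
    have : inst = fun a b => instDecidableEqFin t a b := Subsingleton.elim _ _
    subst this
    rw [Fin.snoc_update, Fin.snoc_update, Fin.snoc_update]
    exact (ιMulti R (t + 1)).map_update_add _ _ _ _
  map_update_smul' := by
    intro inst η i c x
    have : inst = fun a b => instDecidableEqFin t a b := Subsingleton.elim _ _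
    subst this
    rw [Fin.snoc_update, Fin.snoc_update]
    exact (ιMulti R (t + 1)).map_update_smul _ _ _ _
  map_eq_zero_of_eq' := by
    intro η i j hij hne
    apply (ιMulti R (t + 1)).map_eq_zero_of_eq _ (i := i.castSucc) (j := j.castSucc)
    · rw [Fin.snoc_castSucc, Fin.snoc_castSucc]; exact hij
    · exact fun h => hne (Fin.castSucc_injective _ h)

lemma wedgeAlt_apply (η : Fin t → M) : wedgeAlt m₀ t η = ιMulti R (t + 1) (Fin.snoc η m₀) := rfl

/-- `⋀^t M → ⋀^{t+1} M`, wedge with `m₀` on the right. -/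
noncomputable def W0 : ↥(⋀[R]^t M) →ₗ[R] ↥(⋀[R]^(t + 1) M) :=
  alternatingMapLinearEquiv (wedgeAlt m₀ t)

lemma W0_ιMulti (η : Fin t → M) : W0 m₀ t (ιMulti R t η) = ιMulti R (t + 1) (Fin.snoc η m₀) := by
  rw [W0, alternatingMapLinearEquiv_apply_ιMulti, wedgeAlt_apply]

/-- The quotient map. -/
abbrev q : M →ₗ[R] M ⧸ Submodule.span R {m₀} := (Submodule.span R {m₀}).mkQ

lemma q_surjective : Function.Surjective (q (R := R) m₀) := Submodule.mkQ_surjective _

lemma W0_kills : Groth.Agent.Lib.Helper24.ExtPowKer.N (q (R := R) m₀) t ≤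
    LinearMap.ker (W0 m₀ t) := by
  unfold Groth.Agent.Lib.Helper24.ExtPowKer.N
  rw [Submodule.span_le]
  rintro _ ⟨v, ⟨i, hi⟩, rfl⟩
  change W0 m₀ t (ιMulti R t v) = 0
  rw [W0_ιMulti]
  have hi' : v i ∈ Submodule.span R {m₀} := by
    rwa [Submodule.mkQ_apply, Submodule.Quotient.mk_eq_zero] at hi
  obtain ⟨c, hc⟩ := Submodule.mem_span_singleton.mp hi'
  classical
  have h1 : (Fin.snoc v m₀ : Fin (t + 1) → M) =
      Function.update (Fin.snoc v m₀ : Fin (t + 1) → M) i.castSucc (c • m₀) := by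
    rw [Function.eq_update_iff]
    exact ⟨by rw [Fin.snoc_castSucc, hc], fun _ _ => rfl⟩
  rw [h1, AlternatingMap.map_update_smul, ]
  have h2 : ιMulti R (t + 1) (Function.update (Fin.snoc v m₀ : Fin (t + 1) → M) i.castSucc m₀) =
      0 := by
    apply (ιMulti R (t + 1)).map_eq_zero_of_eq _ (i := i.castSucc) (j := Fin.last t)
    · rw [Function.update_self, Function.update_of_ne (Fin.castSucc_lt_last i).ne',
        Fin.snoc_last]
    · exact (Fin.castSucc_lt_last i).ne
  rw [h2, smul_zero]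

lemma map_q_surjective : Function.Surjective (exteriorPower.map t (q (R := R) m₀)) := by
  intro y
  have hy : y ∈ Submodule.span R (Set.range (ιMulti R t (M := M ⧸ Submodule.span R {m₀}))) := by
    rw [ιMulti_span]; trivial
  induction hy using Submodule.span_induction with
  | mem y hy =>
    obtain ⟨w, rfl⟩ := hy
    refine ⟨ιMulti R t (fun i => Function.surjInv (q_surjective m₀) (w i)), ?_⟩
    rw [exteriorPower.map_apply_ιMulti]
    congr 1
    funext i
    exact Function.surjInv_eq (q_surjective m₀) (w i)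
  | zero => exact ⟨0, map_zero _⟩
  | add y z _ _ hy hz =>
    obtain ⟨y', rfl⟩ := hy
    obtain ⟨z', rfl⟩ := hz
    exact ⟨y' + z', map_add _ _ _⟩
  | smul c y _ hy =>
    obtain ⟨y', rfl⟩ := hy
    exact ⟨c • y', map_smul _ _ _⟩

/-- Wedge with `m₀` on `⋀^t (M/m₀)`. -/
noncomputable def W : ↥(⋀[R]^t (M ⧸ Submodule.span R {m₀})) →ₗ[R] ↥(⋀[R]^(t + 1) M) :=
  ((LinearMap.ker (exteriorPower.map t (q (R := R) m₀))).liftQ (W0 m₀ t) (by
    rw [Groth.Agent.Lib.Helper24.ExtPowKer.ker_map_eq _ (q_surjective m₀)]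
    exact W0_kills m₀ t)) ∘ₗ
  (LinearMap.quotKerEquivOfSurjective (exteriorPower.map t (q (R := R) m₀))
    (map_q_surjective m₀ t)).symm.toLinearMap

lemma W_ιMulti (η : Fin t → M) :
    W m₀ t (ιMulti R t (fun i => q (R := R) m₀ (η i))) =
      ιMulti R (t + 1) (Fin.snoc η m₀) := by
  have h1 : ιMulti R t (fun i => q (R := R) m₀ (η i)) =
      exteriorPower.map t (q (R := R) m₀) (ιMulti R t η) := by
    rw [exteriorPower.map_apply_ιMulti]; rfl
  have h2 : (LinearMap.quotKerEquivOfSurjective (exteriorPower.map t (q (R := R) m₀))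
      (map_q_surjective m₀ t)).symm (exteriorPower.map t (q (R := R) m₀) (ιMulti R t η)) =
      Submodule.Quotient.mk (ιMulti R t η) := by
    rw [LinearEquiv.symm_apply_eq]
    rfl
  rw [W, LinearMap.comp_apply, LinearEquiv.coe_coe, h1, h2, Submodule.liftQ_apply, W0_ιMulti]

end wedge

end Groth.Agent.Lib.Helper20.TrExtA
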