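import Groth.Agent.Lib.Helper20.TrExtA
import Groth.Agent.Lib.Helper20.TrDeriv
import Groth.Agent.Lib.Helper20.PthTraceB
import Groth.Agent.Lib.Helper24.ExtPow.BaseChange

/-! # The trace on exterior powers of differentials for `R[x]/(x^p - a)`: the two linear forms. -/

namespace Groth.Agent.Lib.Helper20.TrExtB

open Polynomial TensorProduct exteriorPower

universe u

set_option linter.unusedSectionVars false

variable (p : ℕ) [hp : Fact p.Prime] (Λ R : Type u) [CommRing Λ] [CommRing R] [Algebra Λ R]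
  [CharP R p] (a : R)

local notation "S" => AdjoinRoot (X ^ p - C a : R[X])

/-- `Ω_R / (da)`. -/
abbrev Ωbar : Type u := (Ω[R⁄Λ]) ⧸ Submodule.span R {KaehlerDifferential.D Λ R a}

section theta

lemma derivative_f₀ : derivative (X ^ p - C a : R[X]) = 0 := by
  rw [derivative_sub, derivative_X_pow, derivative_C, sub_zero, CharP.cast_eq_zero R p, C_0,
    zero_mul]

/-- The surjection `R[X] → S` as a `Λ`-algebra map. -/
noncomputable def φΛ : R[X] →ₐ[Λ] S := (AdjoinRoot.mkₐ (X ^ p - C a : R[X])).restrictScalars Λ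

lemma φΛ_apply (g : R[X]) : φΛ p Λ R a g = AdjoinRoot.mk _ g := rfl

lemma φΛ_surjective : Function.Surjective (φΛ p Λ R a) := AdjoinRoot.mk_surjective

lemma hd_aux (g : R[X]) (hg : φΛ p Λ R a g = 0) :
    φΛ p Λ R a ((Polynomial.derivative' (R := R)).restrictScalars Λ g) = 0 := by
  rw [φΛ_apply] at hg ⊢
  obtain ⟨h, rfl⟩ := AdjoinRoot.mk_eq_zero.mp hg
  show AdjoinRoot.mk _ (derivative ((X ^ p - C a) * h)) = 0
  rw [derivative_mul, derivative_f₀, zero_mul, zero_add, map_mul, AdjoinRoot.mk_self, zero_mul]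

/-- `∂/∂x` on `S`. -/
noncomputable def dX : Derivation Λ S S :=
  Derivation.liftOfSurjective (φΛ_surjective p Λ R a) (hd_aux p Λ R a)

lemma dX_mk (g : R[X]) : dX p Λ R a (AdjoinRoot.mk _ g) = AdjoinRoot.mk _ (derivative g) :=
  Derivation.liftOfSurjective_apply (φΛ_surjective p Λ R a) (hd_aux p Λ R a) g

/-- The coefficient of `dx`. -/
noncomputable def θ : Ω[S⁄Λ] →ₗ[S] S := (dX p Λ R a).liftKaehlerDifferential

lemma θ_D_root : θ p Λ R a (KaehlerDifferential.D Λ S (AdjoinRoot.root _)) = 1 := by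
  rw [θ, Derivation.liftKaehlerDifferential_comp_D, ← AdjoinRoot.mk_X, dX_mk, derivative_X, map_one]

lemma θ_map (η : Ω[R⁄Λ]) : θ p Λ R a (KaehlerDifferential.map Λ Λ R S η) = 0 := by
  have hη : η ∈ Submodule.span R (Set.range (KaehlerDifferential.D Λ R)) := by
    rw [KaehlerDifferential.span_range_derivation]; trivial
  induction hη using Submodule.span_induction with
  | mem y hy =>
    obtain ⟨r, rfl⟩ := hy
    rw [KaehlerDifferential.map_D, θ, Derivation.liftKaehlerDifferential_comp_D,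
      AdjoinRoot.algebraMap_eq, ← AdjoinRoot.mk_C, dX_mk, derivative_C, map_zero]
  | zero => rw [map_zero, map_zero]
  | add y z _ _ hy hz => rw [map_add, map_add, hy, hz, add_zero]
  | smul c y _ hy => rw [map_smul, LinearMap.map_smul_of_tower, hy, smul_zero]

end theta

section pi

/-- The derivation `R → S ⊗ Ω̄`. -/
noncomputable def dbar : Derivation Λ R (S ⊗[R] Ωbar Λ R a) :=
  ((TensorProduct.mk R S (Ωbar Λ R a) 1) ∘ₗ
    (Submodule.span R {KaehlerDifferential.D Λ R a}).mkQ).compDer (KaehlerDifferential.D Λ R)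

lemma dbar_apply (r : R) : dbar p Λ R a r =
    (1 : S) ⊗ₜ[R] (Submodule.span R {KaehlerDifferential.D Λ R a}).mkQ (KaehlerDifferential.D Λ R r) :=
  rfl

lemma dbar_a : dbar p Λ R a a = 0 := by
  rw [dbar_apply]
  have : (Submodule.span R {KaehlerDifferential.D Λ R a}).mkQ (KaehlerDifferential.D Λ R a) = 0 := by
    rw [Submodule.mkQ_apply, Submodule.Quotient.mk_eq_zero]
    exact Submodule.subset_span rfl
  rw [this, tmul_zero]

lemma hf₀ : TrDeriv.D1 (X ^ p - C a : R[X]) (dbar p Λ R a) (X ^ p - C a) = 0 := by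
  rw [TrDeriv.D1_sub, TrDeriv.D1_X_pow, TrDeriv.D1_C, dbar_a, sub_zero]

/-- The derivation `S → S ⊗ Ω̄`. -/
noncomputable def dS : Derivation Λ S (S ⊗[R] Ωbar Λ R a) :=
  TrDeriv.Dt (X ^ p - C a : R[X]) (dbar p Λ R a) (hf₀ p Λ R a)

/-- The projection `Ω_S → S ⊗ Ω̄`. -/
noncomputable def π : Ω[S⁄Λ] →ₗ[S] S ⊗[R] Ωbar Λ R a := (dS p Λ R a).liftKaehlerDifferential

lemma π_map (η : Ω[R⁄Λ]) : π p Λ R a (KaehlerDifferential.map Λ Λ R S η) =
    (1 : S) ⊗ₜ[R] (Submodule.span R {KaehlerDifferential.D Λ R a}).mkQ η := by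
  have hη : η ∈ Submodule.span R (Set.range (KaehlerDifferential.D Λ R)) := by
    rw [KaehlerDifferential.span_range_derivation]; trivial
  induction hη using Submodule.span_induction with
  | mem y hy =>
    obtain ⟨r, rfl⟩ := hy
    rw [KaehlerDifferential.map_D, π, Derivation.liftKaehlerDifferential_comp_D,
      AdjoinRoot.algebraMap_eq, dS, TrDeriv.Dt_of, dbar_apply]
  | zero => rw [map_zero, map_zero, map_zero, tmul_zero]
  | add y z _ _ hy hz => rw [map_add, map_add, hy, hz, map_add, tmul_add]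
  | smul c y _ hy => rw [map_smul, LinearMap.map_smul_of_tower, hy, map_smul, tmul_smul]

end pi

end Groth.Agent.Lib.Helper20.TrExtB
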