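import Groth.Agent.Lib.Helper20.TrExtB

/-! # The trace on exterior powers of differentials for `R[x]/(x^p - a)`. -/

namespace Groth.Agent.Lib.Helper20.TrExtC

open Polynomial TensorProduct exteriorPower
open Groth.Agent.Lib.Helper20.TrExtA Groth.Agent.Lib.Helper20.TrExtB
open Groth.Agent.Lib.Helper24.ExtPowBC

universe u

set_option linter.unusedSectionVars false

variable (p : ℕ) [hp : Fact p.Prime] (Λ R : Type u) [CommRing Λ] [CommRing R] [Algebra Λ R]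
  [CharP R p] (a : R) (t : ℕ)

local notation "S" => AdjoinRoot (X ^ p - C a : R[X])

/-- contraction with `θ`. -/
noncomputable def T1 : ↥(⋀[S]^(t + 1) (Ω[S⁄Λ])) →ₗ[S] ExteriorAlgebra S (Ω[S⁄Λ]) :=
  ((CliffordAlgebra.contractRight (Q := (0 : QuadraticForm S (Ω[S⁄Λ])))).flip (θ p Λ R a)) ∘ₗ
    (⋀[S]^(t + 1) (Ω[S⁄Λ])).subtype

lemma T1_apply (ω : ↥(⋀[S]^(t + 1) (Ω[S⁄Λ]))) :
    T1 p Λ R a t ω = CliffordAlgebra.contractRight (Q := (0 : QuadraticForm S (Ω[S⁄Λ])))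
      (ω : ExteriorAlgebra S (Ω[S⁄Λ])) (θ p Λ R a) := rfl

/-- project to `S ⊗ ⋀^t Ω̄`. -/
noncomputable def T2 : ExteriorAlgebra S (Ω[S⁄Λ]) →ₗ[S] S ⊗[R] ↥(⋀[R]^t (Ωbar Λ R a)) :=
  ((proj R (Ωbar Λ R a) t).baseChange S) ∘ₗ (G R S (Ωbar Λ R a)).toLinearMap ∘ₗ
    (ExteriorAlgebra.map (π p Λ R a)).toLinearMap

lemma T2_apply (x : ExteriorAlgebra S (Ω[S⁄Λ])) :
    T2 p Λ R a t x = (proj R (Ωbar Λ R a) t).baseChange S
      (G R S (Ωbar Λ R a) (ExteriorAlgebra.map (π p Λ R a) x)) := rfl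

lemma T2_ιMulti (η : Fin t → Ω[R⁄Λ]) :
    T2 p Λ R a t (ExteriorAlgebra.ιMulti S t (fun j => KaehlerDifferential.map Λ Λ R S (η j))) =
      (1 : S) ⊗ₜ[R] ιMulti R t
        (fun j => (Submodule.span R {KaehlerDifferential.D Λ R a}).mkQ (η j)) := by
  rw [T2_apply, ExteriorAlgebra.map_apply_ιMulti]
  have h1 : (⇑(π p Λ R a) ∘ fun j => KaehlerDifferential.map Λ Λ R S (η j)) =
      fun j => (1 : S) ⊗ₜ[R] (Submodule.span R {KaehlerDifferential.D Λ R a}).mkQ (η j) := by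
    funext j
    exact π_map p Λ R a (η j)
  rw [h1, G_ιMulti_one_tmul, LinearMap.baseChange_tmul, ← ιMulti_apply_coe, proj_coe]

/-- The `S`-linear part. -/
noncomputable def T : ↥(⋀[S]^(t + 1) (Ω[S⁄Λ])) →ₗ[S] S ⊗[R] ↥(⋀[R]^t (Ωbar Λ R a)) :=
  (T2 p Λ R a t) ∘ₗ (T1 p Λ R a t)

lemma T_apply (ω : ↥(⋀[S]^(t + 1) (Ω[S⁄Λ]))) : T p Λ R a t ω = T2 p Λ R a t (T1 p Λ R a t ω) := rfl

/-- `s ⊗ y ↦ λ(s) • y`. -/
noncomputable def L : S ⊗[R] ↥(⋀[R]^t (Ωbar Λ R a)) →ₗ[R] ↥(⋀[R]^t (Ωbar Λ R a)) :=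
  TensorProduct.lift ((LinearMap.lsmul R _).comp (PthTrace.lam p a))

lemma L_tmul (s : S) (y : ↥(⋀[R]^t (Ωbar Λ R a))) :
    L p Λ R a t (s ⊗ₜ y) = PthTrace.lam p a s • y := rfl

/-- The trace. -/
noncomputable def Tr : ↥(⋀[S]^(t + 1) (Ω[S⁄Λ])) →+ ↥(⋀[R]^(t + 1) (Ω[R⁄Λ])) :=
  ((W (KaehlerDifferential.D Λ R a) t).toAddMonoidHom.comp (L p Λ R a t).toAddMonoidHom).comp
    (T p Λ R a t).toAddMonoidHom

lemma Tr_apply (ω : ↥(⋀[S]^(t + 1) (Ω[S⁄Λ]))) :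
    Tr p Λ R a t ω = W (KaehlerDifferential.D Λ R a) t (L p Λ R a t (T p Λ R a t ω)) := rfl

lemma Tr_smul (r : R) (ω : ↥(⋀[S]^(t + 1) (Ω[S⁄Λ]))) :
    Tr p Λ R a t (algebraMap R S r • ω) = r • Tr p Λ R a t ω := by
  rw [Tr_apply, Tr_apply, (T p Λ R a t).map_smul (algebraMap R S r) ω,
    algebraMap_smul S r (T p Λ R a t ω), (L p Λ R a t).map_smul r,
    (W (KaehlerDifferential.D Λ R a) t).map_smul r]

lemma T_snoc (η : Fin t → Ω[R⁄Λ]) (s : S) :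
    T p Λ R a t (ιMulti S (t + 1) (Fin.snoc (fun j => KaehlerDifferential.map Λ Λ R S (η j))
      (s • KaehlerDifferential.D Λ S (AdjoinRoot.root _)))) =
      s ⊗ₜ[R] ιMulti R t (fun j => (Submodule.span R {KaehlerDifferential.D Λ R a}).mkQ (η j)) := by
  have hθ : θ p Λ R a (s • KaehlerDifferential.D Λ S (AdjoinRoot.root _)) = s := by
    rw [(θ p Λ R a).map_smul, θ_D_root, smul_eq_mul, mul_one]
  rw [T_apply, T1_apply, ιMulti_apply_coe,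
    contractRight_ιMulti_snoc _ _ _ (fun i => θ_map p Λ R a (η i)), hθ,
    (T2 p Λ R a t).map_smul, T2_ιMulti, smul_tmul', smul_eq_mul, mul_one]

lemma Tr_snoc (η : Fin t → Ω[R⁄Λ]) (s : S) :
    Tr p Λ R a t (ιMulti S (t + 1) (Fin.snoc (fun j => KaehlerDifferential.map Λ Λ R S (η j))
      (s • KaehlerDifferential.D Λ S (AdjoinRoot.root _)))) =
      PthTrace.lam p a s • ιMulti R (t + 1) (Fin.snoc η (KaehlerDifferential.D Λ R a)) := by
  rw [Tr_apply, T_snoc, L_tmul, (W (KaehlerDifferential.D Λ R a) t).map_smul]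
  congr 1
  exact W_ιMulti (KaehlerDifferential.D Λ R a) t η

lemma Tr_pullback (s : S) (η : Fin (t + 1) → Ω[R⁄Λ]) :
    Tr p Λ R a t (s • ιMulti S (t + 1) (fun j => KaehlerDifferential.map Λ Λ R S (η j))) = 0 := by
  have hT : T p Λ R a t (s • ιMulti S (t + 1) (fun j => KaehlerDifferential.map Λ Λ R S (η j))) =
      0 := by
    rw [(T p Λ R a t).map_smul, T_apply, T1_apply, ιMulti_apply_coe,
      contractRight_ιMulti_eq_zero _ _ (fun i => θ_map p Λ R a (η i)), (T2 p Λ R a t).map_zero,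
      smul_zero]
  rw [Tr_apply, hT, (L p Λ R a t).map_zero, (W (KaehlerDifferential.D Λ R a) t).map_zero]

theorem main :
    ∃ Tr : (⋀[S]^(t + 1) (Ω[S⁄Λ])) →+ (⋀[R]^(t + 1) (Ω[R⁄Λ])),
      (∀ (r : R) (ω : ⋀[S]^(t + 1) (Ω[S⁄Λ])), Tr (algebraMap R S r • ω) = r • Tr ω) ∧
      (∀ (η : Fin t → Ω[R⁄Λ]) (i : ℕ), i + 2 ≤ p →
        Tr (exteriorPower.ιMulti _ (t + 1)
          (Fin.snoc (fun j => KaehlerDifferential.map Λ Λ R S (η j))
          (AdjoinRoot.root (X ^ p - C a) ^ i •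
            KaehlerDifferential.D Λ _ (AdjoinRoot.root (X ^ p - C a))))) = 0) ∧
      (∀ (η : Fin t → Ω[R⁄Λ]),
        Tr (exteriorPower.ιMulti _ (t + 1)
          (Fin.snoc (fun j => KaehlerDifferential.map Λ Λ R S (η j))
          (AdjoinRoot.root (X ^ p - C a) ^ (p - 1) •
            KaehlerDifferential.D Λ _ (AdjoinRoot.root (X ^ p - C a))))) =
          exteriorPower.ιMulti R (t + 1) (Fin.snoc η (KaehlerDifferential.D Λ R a))) ∧
      (∀ (s : S) (η : Fin (t + 1) → Ω[R⁄Λ]),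
        Tr (s • exteriorPower.ιMulti _ (t + 1)
          (fun j => KaehlerDifferential.map Λ Λ R S (η j))) = 0) := by
  have hlam : ∀ i : ℕ, i < p → PthTrace.lam p a (AdjoinRoot.root (X ^ p - C a) ^ i) =
      if i = p - 1 then 1 else 0 := by
    intro i hi
    have := PthTrace.lam_of_mul_root_pow p a 1 i hi
    rwa [map_one, one_mul] at this
  refine ⟨Tr p Λ R a t, Tr_smul p Λ R a t, ?_, ?_, Tr_pullback p Λ R a t⟩
  · intro η i hi
    rw [Tr_snoc, hlam i (by omega), if_neg (by omega), zero_smul]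
  · intro η
    rw [Tr_snoc, hlam (p - 1) (by have := hp.out.pos; omega), if_pos rfl, one_smul]

end Groth.Agent.Lib.Helper20.TrExtC
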