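import Mathlib.RingTheory.MvPolynomial.Ideal
import Mathlib.RingTheory.Ideal.Quotient.Operations
import Mathlib.LinearAlgebra.Dimension.Finrank
import Mathlib.LinearAlgebra.FiniteDimensional.Defs
import Mathlib.LinearAlgebra.Dimension.Constructions
import Mathlib.Algebra.CharP.Lemmas
import Mathlib.RingTheory.Nilpotent.Basic
import Mathlib.LinearAlgebra.Isomorphisms

/-!
# Truncated polynomial algebras `k[X_i]/(X_i^{n_i})` (helper20)
-/

set_option autoImplicit false

namespace Groth.Agent.Lib.Helper20.TruncPoly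

open MvPolynomial

section Finrank

variable {σ : Type*} [Fintype σ] [DecidableEq σ] (k : Type*) [Field k] (n : σ → ℕ)

/-- The monomial ideal `(X_i^{n_i})`. -/
noncomputable def I : Ideal (MvPolynomial σ k) :=
  Ideal.span (Set.range fun i : σ => (X i : MvPolynomial σ k) ^ n i)

lemma mem_I_iff (f : MvPolynomial σ k) :
    f ∈ I k n ↔ ∀ a ∈ f.support, ∃ i, n i ≤ a i := by
  have h : (Set.range fun i : σ => (X i : MvPolynomial σ k) ^ n i) =
      (fun s => monomial s (1 : k)) '' (Set.range fun i : σ => Finsupp.single i (n i)) := by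
    ext g
    simp only [Set.mem_range, Set.mem_image, exists_exists_eq_and, X_pow_eq_monomial]
  unfold I
  rw [h, mem_ideal_span_monomial_image]
  constructor
  · intro H a ha
    obtain ⟨s, ⟨i, rfl⟩, hs⟩ := H a ha
    refine ⟨i, ?_⟩
    have := hs i
    simpa using this
  · intro H a ha
    obtain ⟨i, hi⟩ := H a ha
    refine ⟨_, ⟨i, rfl⟩, ?_⟩
    intro j
    by_cases hj : j = i
    · subst hj; simpa using hi
    · simp [Finsupp.single_apply, Ne.symm hj]

/-- exponent vector attached to a box index -/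
noncomputable def mono (b : (i : σ) → Fin (n i)) : σ →₀ ℕ :=
  Finsupp.equivFunOnFinite.symm (fun i => (b i : ℕ))

lemma mono_apply (b : (i : σ) → Fin (n i)) (i : σ) : mono n b i = (b i : ℕ) := rfl

lemma mono_injective : Function.Injective (mono n) := by
  intro b b' h
  funext i
  apply Fin.ext
  have := DFunLike.congr_fun h i
  simpa [mono_apply] using this

/-- coefficient map onto the box -/
noncomputable def π : MvPolynomial σ k →ₗ[k] (((i : σ) → Fin (n i)) → k) :=
  LinearMap.pi fun b => lcoeff k (mono n b)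

lemma π_apply (f : MvPolynomial σ k) (b : (i : σ) → Fin (n i)) :
    π k n f b = coeff (mono n b) f := rfl

lemma π_surjective : Function.Surjective (π k n) := by
  intro g
  refine ⟨∑ b, monomial (mono n b) (g b), ?_⟩
  funext b'
  rw [π_apply, coeff_sum]
  rw [Finset.sum_eq_single b']
  · simp
  · intro b _ hb
    rw [coeff_monomial, if_neg]
    intro h
    exact hb (mono_injective n h)
  · intro h; exact absurd (Finset.mem_univ _) h

lemma ker_π : LinearMap.ker (π k n) = (I k n).restrictScalars k := by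
  ext f
  rw [LinearMap.mem_ker, Submodule.restrictScalars_mem, mem_I_iff]
  constructor
  · intro H a ha
    by_contra hcon
    push_neg at hcon
    have : coeff a f = 0 := by
      have h1 := congrFun H (fun i => ⟨a i, hcon i⟩)
      rw [π_apply] at h1
      have h2 : mono n (fun i => ⟨a i, hcon i⟩) = a := by
        ext i; rfl
      rw [h2] at h1
      exact h1
    exact (mem_support_iff.mp ha) this
  · intro H
    funext b
    rw [π_apply]
    by_contra hcon
    obtain ⟨i, hi⟩ := H (mono n b) (mem_support_iff.mpr hcon)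
    rw [mono_apply] at hi
    exact absurd (b i).2 (not_lt.mpr hi)

noncomputable def quotEquiv :
    (MvPolynomial σ k ⧸ I k n) ≃ₗ[k] (((i : σ) → Fin (n i)) → k) :=
  ((Submodule.Quotient.restrictScalarsEquiv k (I k n)).symm.trans
    (Submodule.quotEquivOfEq _ _ (ker_π k n).symm)).trans
    (LinearMap.quotKerEquivOfSurjective (π k n) (π_surjective k n))

lemma finrank_quot : Module.finrank k (MvPolynomial σ k ⧸ I k n) = ∏ i, n i := by
  rw [LinearEquiv.finrank_eq (quotEquiv k n), Module.finrank_pi]
  simp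

end Finrank

section Jt

/-- The ideal generated by `p^t`-th powers of nilpotent elements. -/
def Jt (p : ℕ) (A : Type*) [CommRing A] (t : ℕ) : Ideal A :=
  Ideal.span {b | ∃ a : A, IsNilpotent a ∧ b = a ^ p ^ t}

lemma Jt_map_le (p : ℕ) {A B : Type*} [CommRing A] [CommRing B] (φ : A →+* B) (t : ℕ) :
    (Jt p A t).map φ ≤ Jt p B t := by
  unfold Jt
  rw [Ideal.map_span, Ideal.span_le]
  rintro _ ⟨_, ⟨a, ha, rfl⟩, rfl⟩
  apply Ideal.subset_span
  exact ⟨φ a, ha.map φ, by rw [map_pow]⟩

lemma Jt_map_equiv (p : ℕ) {A B : Type*} [CommRing A] [CommRing B] (φ : A ≃+* B) (t : ℕ) :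
    Jt p B t = (Jt p A t).map (φ : A →+* B) := by
  apply le_antisymm
  · have h := Jt_map_le p (φ.symm : B →+* A) t
    have h2 := Ideal.map_mono (f := (φ : A →+* B)) h
    rw [Ideal.map_map] at h2
    have : ((φ : A →+* B)).comp (φ.symm : B →+* A) = RingHom.id B := by
      ext x; simp
    rw [this, Ideal.map_id] at h2
    exact h2
  · exact Jt_map_le p (φ : A →+* B) t

/-- In characteristic `p`, `p^t`-th powers of elements of `span S` lie in the span of the
`p^t`-th powers of `S`. -/
lemma pow_mem_span_pow (p : ℕ) [Fact p.Prime] {A : Type*} [CommRing A] [CharP A p] (t : ℕ)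
    (S : Set A) (a : A) (ha : a ∈ Ideal.span S) :
    a ^ p ^ t ∈ Ideal.span ((fun s => s ^ p ^ t) '' S) := by
  induction ha using Submodule.span_induction with
  | mem x hx => exact Ideal.subset_span ⟨x, hx, rfl⟩
  | zero => rw [zero_pow (pow_ne_zero _ (Fact.out : p.Prime).ne_zero)]; exact Ideal.zero_mem _
  | add x y _ _ hx hy => rw [add_pow_char_pow]; exact Ideal.add_mem _ hx hy
  | smul c x _ hx => rw [smul_eq_mul, mul_pow]; exact Ideal.mul_mem_left _ _ hx

end Jt

section Main

variable {σ : Type*} [Fintype σ] [DecidableEq σ] (p : ℕ) [hp : Fact p.Prime]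
  (k : Type*) [Field k] [CharP k p] (e : σ → ℕ)

/-- the augmentation `k[X]/(X_i^{n_i}) → k` (for `n_i ≥ 1`) -/
noncomputable def aug (n : σ → ℕ) (hn : ∀ i, n i ≠ 0) : (MvPolynomial σ k ⧸ I k n) →+* k :=
  Ideal.Quotient.lift (I k n) (constantCoeff (R := k) (σ := σ)) (by
    intro f hf
    have : I k n ≤ RingHom.ker (constantCoeff (R := k) (σ := σ)) := by
      unfold I
      rw [Ideal.span_le]
      rintro _ ⟨i, rfl⟩
      simp [RingHom.mem_ker, hn i]
    exact this hf)

lemma mem_span_X_of_constantCoeff (f : MvPolynomial σ k) (hf : constantCoeff f = 0) :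
    f ∈ Ideal.span (Set.range (X : σ → MvPolynomial σ k)) := by
  have := (mem_pow_idealOfVars_iff' (σ := σ) (R := k) 1 f).mpr (by
    intro x hx
    have : x = 0 := by
      rw [Nat.lt_one_iff, Finsupp.degree_eq_zero_iff] at hx
      exact hx
    rw [this]
    exact hf)
  rw [pow_one] at this
  exact this

lemma Jt_quot (n : σ → ℕ) (hn : ∀ i, n i ≠ 0) (t : ℕ) :
    Jt p (MvPolynomial σ k ⧸ I k n) t =
      (I k (fun _ : σ => p ^ t)).map (Ideal.Quotient.mkₐ k (I k n)) := by
  apply le_antisymm
  · unfold Jt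
    rw [Ideal.span_le]
    rintro _ ⟨a, ha, rfl⟩
    obtain ⟨f, rfl⟩ := Ideal.Quotient.mk_surjective a
    have h0 : constantCoeff f = 0 := by
      have h1 : IsNilpotent (aug k n hn (Ideal.Quotient.mk _ f)) := ha.map _
      have h2 : aug k n hn (Ideal.Quotient.mk _ f) = constantCoeff f := by
        simp [aug]
      rw [h2] at h1
      exact h1.eq_zero
    have h3 := pow_mem_span_pow p t _ f (mem_span_X_of_constantCoeff k f h0)
    have h4 : ((fun s : MvPolynomial σ k => s ^ p ^ t) '' Set.range (X : σ → MvPolynomial σ k)) =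
        Set.range fun i : σ => (X i : MvPolynomial σ k) ^ p ^ t := by
      ext g; simp
    rw [h4] at h3
    have h5 : Ideal.Quotient.mk (I k n) f ^ p ^ t =
        (Ideal.Quotient.mkₐ k (I k n)) (f ^ p ^ t) := by
      simp
    rw [SetLike.mem_coe, h5]
    exact Ideal.mem_map_of_mem _ h3
  · unfold I
    rw [Ideal.map_span, Ideal.span_le]
    rintro _ ⟨_, ⟨i, rfl⟩, rfl⟩
    unfold Jt
    apply Ideal.subset_span
    refine ⟨Ideal.Quotient.mk _ (X i), ⟨n i, ?_⟩, by simp⟩
    rw [← map_pow, Ideal.Quotient.eq_zero_iff_mem]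
    exact Ideal.subset_span ⟨i, rfl⟩

lemma I_sup (n m : σ → ℕ) : I k n ⊔ I k m = I k (fun i => min (n i) (m i)) := by
  apply le_antisymm
  · rw [sup_le_iff]
    constructor
    · unfold I
      rw [Ideal.span_le]
      rintro _ ⟨i, rfl⟩
      beta_reduce
      have : n i = min (n i) (m i) + (n i - min (n i) (m i)) := by omega
      rw [this, pow_add]
      exact Ideal.mul_mem_right _ _ (Ideal.subset_span ⟨i, rfl⟩)
    · unfold I
      rw [Ideal.span_le]
      rintro _ ⟨i, rfl⟩
      beta_reduce
      have : m i = min (n i) (m i) + (m i - min (n i) (m i)) := by omega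
      rw [this, pow_add]
      exact Ideal.mul_mem_right _ _ (Ideal.subset_span ⟨i, rfl⟩)
  · conv_lhs => unfold I
    rw [Ideal.span_le]
    rintro _ ⟨i, rfl⟩
    beta_reduce
    rcases le_total (n i) (m i) with h | h
    · rw [min_eq_left h]
      exact Ideal.mem_sup_left (Ideal.subset_span ⟨i, rfl⟩)
    · rw [min_eq_right h]
      exact Ideal.mem_sup_right (Ideal.subset_span ⟨i, rfl⟩)

/-- dimension of the quotient by `J_t` -/
lemma finrank_quot_Jt (n : σ → ℕ) (hn : ∀ i, n i ≠ 0) (t : ℕ) :
    Module.finrank k ((MvPolynomial σ k ⧸ I k n) ⧸ Jt p (MvPolynomial σ k ⧸ I k n) t) =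
      ∏ i, min (n i) (p ^ t) := by
  rw [Jt_quot p k n hn t]
  rw [LinearEquiv.finrank_eq
    (DoubleQuot.quotQuotEquivQuotSupₐ k (I k n) (I k (fun _ : σ => p ^ t))).toLinearEquiv]
  rw [I_sup, finrank_quot]

end Main

section Comb

variable {ι κ : Type*} [Fintype ι] [Fintype κ]

lemma card_gt_add (e : ι → ℕ) (t : ℕ) :
    (Finset.univ.filter fun i => t < e i).card + ∑ i, min (e i) t = ∑ i, min (e i) (t + 1) := by
  rw [Finset.card_filter, ← Finset.sum_add_distrib]
  apply Finset.sum_congr rfl
  intro i _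
  split_ifs with h <;> omega

lemma card_eq_add (e : ι → ℕ) (t : ℕ) :
    (Finset.univ.filter fun i => e i = t + 1).card + (Finset.univ.filter fun i => t + 1 < e i).card
      = (Finset.univ.filter fun i => t < e i).card := by
  rw [Finset.card_filter, Finset.card_filter, Finset.card_filter, ← Finset.sum_add_distrib]
  apply Finset.sum_congr rfl
  intro i _
  split_ifs <;> omega

lemma exists_equiv_of_sum_min (e : ι → ℕ) (f : κ → ℕ) (he : ∀ i, 1 ≤ e i) (hf : ∀ j, 1 ≤ f j)
    (h : ∀ t, ∑ i, min (e i) t = ∑ j, min (f j) t) :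
    ∃ σ : ι ≃ κ, ∀ i, f (σ i) = e i := by
  classical
  have hgt : ∀ t, (Finset.univ.filter fun i => t < e i).card =
      (Finset.univ.filter fun j => t < f j).card := by
    intro t
    have h1 := card_gt_add e t
    have h2 := card_gt_add f t
    rw [h t, h (t + 1)] at h1
    omega
  have heq : ∀ t, (Finset.univ.filter fun i => e i = t).card =
      (Finset.univ.filter fun j => f j = t).card := by
    intro t
    rcases t with _ | t
    · have h1 : (Finset.univ.filter fun i => e i = 0) = ∅ := by
        apply Finset.filter_eq_empty_iff.mpr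
        intro i _ hi
        have := he i
        omega
      have h2 : (Finset.univ.filter fun j => f j = 0) = ∅ := by
        apply Finset.filter_eq_empty_iff.mpr
        intro j _ hj
        have := hf j
        omega
      rw [h1, h2, Finset.card_empty, Finset.card_empty]
    · have h1 := card_eq_add e t
      have h2 := card_eq_add f t
      rw [hgt t, hgt (t + 1)] at h1
      omega
  have hfib : ∀ t, Fintype.card {i // e i = t} = Fintype.card {j // f j = t} := by
    intro t
    rw [Fintype.card_subtype, Fintype.card_subtype]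
    exact heq t
  refine ⟨Equiv.ofFiberEquiv (fun t => Fintype.equivOfCardEq (hfib t)), ?_⟩
  intro i
  exact Equiv.ofFiberEquiv_map _ i

end Comb

section Final

lemma Jt_map_of_inverse (p : ℕ) {A B : Type*} [CommRing A] [CommRing B] (φ : A →+* B)
    (ψ : B →+* A) (h : φ.comp ψ = RingHom.id B) (t : ℕ) :
    Jt p B t = (Jt p A t).map φ := by
  apply le_antisymm
  · have h1 := Jt_map_le p ψ t
    have h2 := Ideal.map_mono (f := φ) h1
    rw [Ideal.map_map, h, Ideal.map_id] at h2
    exact h2
  · exact Jt_map_le p φ t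

theorem exponents_invariant (p : ℕ) [Fact p.Prime] (k : Type*) [Field k] [CharP k p]
    (r s : ℕ) (e : Fin r → ℕ) (f : Fin s → ℕ) (he : ∀ i, 1 ≤ e i) (hf : ∀ j, 1 ≤ f j)
    (φ : (MvPolynomial (Fin r) k ⧸ I k (fun i => p ^ e i)) ≃ₐ[k]
      (MvPolynomial (Fin s) k ⧸ I k (fun j => p ^ f j))) :
    ∃ σ : Fin r ≃ Fin s, ∀ i : Fin r, f (σ i) = e i := by
  have hp : p.Prime := Fact.out
  apply exists_equiv_of_sum_min e f he hf
  intro t
  have hJ : Jt p (MvPolynomial (Fin s) k ⧸ I k (fun j => p ^ f j)) t =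
      (Jt p (MvPolynomial (Fin r) k ⧸ I k (fun i => p ^ e i)) t).map
        (φ : (MvPolynomial (Fin r) k ⧸ I k (fun i => p ^ e i)) →+*
          (MvPolynomial (Fin s) k ⧸ I k (fun j => p ^ f j))) := by
    apply Jt_map_of_inverse p _ (φ.symm : _ →+* _)
    refine RingHom.ext fun x => ?_
    simp
  have h1 := LinearEquiv.finrank_eq (Ideal.quotientEquivAlg _ _ φ hJ).toLinearEquiv
  rw [finrank_quot_Jt p k _ (fun i => pow_ne_zero _ hp.ne_zero) t,
    finrank_quot_Jt p k _ (fun i => pow_ne_zero _ hp.ne_zero) t] at h1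
  have hmin : ∀ a : ℕ, min (p ^ a) (p ^ t) = p ^ min a t := by
    intro a
    rcases le_total a t with h | h
    · rw [min_eq_left h, min_eq_left (Nat.pow_le_pow_right hp.pos h)]
    · rw [min_eq_right h, min_eq_right (Nat.pow_le_pow_right hp.pos h)]
  simp only [hmin, Finset.prod_pow_eq_pow_sum] at h1
  exact Nat.pow_right_injective hp.two_le h1

end Final

end Groth.Agent.Lib.Helper20.TruncPoly
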