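import Mathlib

/-! The `6e`-th Veronese subring of a graded algebra generated in degrees `1, 2, 3` is generated
in degree one for `e` large. -/

namespace Groth.Agent.Lib.Helper20.Veronese

open Finset

section comb

theorem exists_le_sum_eq {σ : Type*} [Fintype σ] (q : σ → ℕ) (e : ℕ) (h : e ≤ ∑ i, q i) :
    ∃ q' : σ → ℕ, (∀ i, q' i ≤ q i) ∧ ∑ i, q' i = e := by
  classical
  induction e with
  | zero => exact ⟨0, fun _ => Nat.zero_le _, by simp⟩
  | succ e ih =>
    obtain ⟨q', h1, h2⟩ := ih (by omega)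
    have h3 : ∃ i, q' i < q i := by
      by_contra hcon
      push_neg at hcon
      have : ∑ i, q i ≤ ∑ i, q' i := Finset.sum_le_sum (fun i _ => hcon i)
      omega
    obtain ⟨i0, hi0⟩ := h3
    refine ⟨Function.update q' i0 (q' i0 + 1), ?_, ?_⟩
    · intro i
      by_cases hi : i = i0
      · subst hi; simp; omega
      · rw [Function.update_of_ne hi]; exact h1 i
    · rw [Finset.sum_update_of_mem (Finset.mem_univ _)]
      have h4 := Finset.add_sum_erase Finset.univ q' (Finset.mem_univ i0)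
      rw [Finset.sdiff_singleton_eq_erase]
      omega

theorem exists_sub_weight {σ : Type*} [Fintype σ] (w b : σ → ℕ) (hwb : ∀ i, w i * b i = 6)
    (s : σ → ℕ) (e : ℕ) (hrem : ∑ i, (b i - 1) * w i ≤ e) (hs : 12 * e ≤ ∑ i, s i * w i) :
    ∃ s' : σ → ℕ, (∀ i, s' i ≤ s i) ∧ ∑ i, s' i * w i = 6 * e := by
  have hb : ∀ i, 0 < b i := by
    intro i
    rcases Nat.eq_zero_or_pos (b i) with h | h
    · have := hwb i; rw [h] at this; simp at this
    · exact h
  have e1 : ∑ i, s i * w i = 6 * ∑ i, s i / b i + ∑ i, (s i % b i) * w i := by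
    rw [Finset.mul_sum, ← Finset.sum_add_distrib]
    apply Finset.sum_congr rfl
    intro i _
    have h1 := Nat.div_add_mod (s i) (b i)
    calc s i * w i = (b i * (s i / b i) + s i % b i) * w i := by rw [h1]
      _ = (w i * b i) * (s i / b i) + (s i % b i) * w i := by ring
      _ = 6 * (s i / b i) + (s i % b i) * w i := by rw [hwb i]
  have e2 : ∑ i, (s i % b i) * w i ≤ ∑ i, (b i - 1) * w i := by
    apply Finset.sum_le_sum
    intro i _
    apply Nat.mul_le_mul_right
    have := Nat.mod_lt (s i) (hb i)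
    omega
  have e3 : e ≤ ∑ i, s i / b i := by omega
  obtain ⟨q', hq1, hq2⟩ := exists_le_sum_eq (fun i => s i / b i) e e3
  refine ⟨fun i => b i * q' i, ?_, ?_⟩
  · intro i
    calc b i * q' i ≤ b i * (s i / b i) := Nat.mul_le_mul_left _ (hq1 i)
      _ ≤ s i := Nat.mul_div_le _ _
  · rw [← hq2, Finset.mul_sum]
    apply Finset.sum_congr rfl
    intro i _
    calc b i * q' i * w i = (w i * b i) * q' i := by ring
      _ = 6 * q' i := by rw [hwb i]

end comb

section alg

variable {k R : Type*} [Field k] [CommRing R] [Algebra k R] (ℛ : ℕ → Submodule k R)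
  [GradedAlgebra ℛ]
variable {σ : Type*} [Fintype σ]

/-- monomial in generators -/
def mon (g : σ → R) (s : σ → ℕ) : R := ∏ i, g i ^ s i

theorem mon_mem (g : σ → R) (w : σ → ℕ) (hg : ∀ i, g i ∈ ℛ (w i)) (s : σ → ℕ) :
    mon g s ∈ ℛ (∑ i, s i * w i) := by
  have := SetLike.prod_pow_mem_graded ℛ w g (F := Finset.univ) s (fun i _ => hg i)
  simpa [mon, smul_eq_mul] using this

theorem mon_mul (g : σ → R) (s t : σ → ℕ) : mon g (s + t) = mon g s * mon g t := by
  unfold mon
  rw [← Finset.prod_mul_distrib]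
  apply Finset.prod_congr rfl
  intro i _
  rw [Pi.add_apply, pow_add]

theorem span_mon_eq_top (g : σ → R) (hgen : Algebra.adjoin k (Set.range g) = ⊤) :
    Submodule.span k (Set.range (mon g)) = ⊤ := by
  rw [eq_top_iff]
  intro r _
  have hr : r ∈ Algebra.adjoin k (Set.range g) := by rw [hgen]; trivial
  rw [Algebra.adjoin_range_eq_range_aeval] at hr
  obtain ⟨p, rfl⟩ := hr
  show MvPolynomial.aeval g p ∈ _
  rw [MvPolynomial.aeval_def, MvPolynomial.eval₂_eq']
  apply Submodule.sum_mem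
  intro d _
  rw [← Algebra.smul_def]
  apply Submodule.smul_mem
  apply Submodule.subset_span
  exact ⟨fun i => d i, rfl⟩

theorem graded_eq_span (g : σ → R) (w : σ → ℕ) (hg : ∀ i, g i ∈ ℛ (w i))
    (hgen : Algebra.adjoin k (Set.range g) = ⊤) (N : ℕ) :
    ℛ N = Submodule.span k {x | ∃ s : σ → ℕ, ∑ i, s i * w i = N ∧ x = mon g s} := by
  apply le_antisymm
  · intro r hr
    have h1 : GradedAlgebra.proj ℛ N r = r := by
      rw [GradedAlgebra.proj_apply]
      exact DirectSum.decompose_of_mem_same ℛ hr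
    have h2 : r ∈ Submodule.span k (Set.range (mon g)) := by
      rw [span_mon_eq_top g hgen]; trivial
    have h3 : GradedAlgebra.proj ℛ N r ∈
        (Submodule.span k (Set.range (mon g))).map (GradedAlgebra.proj ℛ N) :=
      Submodule.mem_map_of_mem h2
    rw [h1, Submodule.map_span] at h3
    refine Submodule.span_le.mpr ?_ h3
    rintro _ ⟨_, ⟨s, rfl⟩, rfl⟩
    by_cases hs : ∑ i, s i * w i = N
    · have : GradedAlgebra.proj ℛ N (mon g s) = mon g s := by
        rw [GradedAlgebra.proj_apply]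
        exact DirectSum.decompose_of_mem_same ℛ (hs ▸ mon_mem ℛ g w hg s)
      rw [this]
      exact Submodule.subset_span ⟨s, hs, rfl⟩
    · have : GradedAlgebra.proj ℛ N (mon g s) = 0 := by
        rw [GradedAlgebra.proj_apply]
        exact DirectSum.decompose_of_mem_ne ℛ (mon_mem ℛ g w hg s) hs
      rw [this]
      exact Submodule.zero_mem _
  · apply Submodule.span_le.mpr
    rintro _ ⟨s, hs, rfl⟩
    exact hs ▸ mon_mem ℛ g w hg s

theorem pow_le (h0 : ℛ 0 = 1) (a m : ℕ) : ℛ a ^ m ≤ ℛ (m * a) := by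
  induction m with
  | zero => rw [pow_zero, Nat.zero_mul, h0]
  | succ m ih =>
    rw [pow_succ, Nat.succ_mul]
    refine le_trans (mul_le_mul_left ih _) ?_
    rw [Submodule.mul_le]
    intro x hx y hy
    exact SetLike.mul_mem_graded hx hy

theorem main (h0 : ℛ 0 = 1) (g : σ → R) (w b : σ → ℕ) (hg : ∀ i, g i ∈ ℛ (w i))
    (hgen : Algebra.adjoin k (Set.range g) = ⊤) (hwb : ∀ i, w i * b i = 6) (e : ℕ)
    (hrem : ∑ i, (b i - 1) * w i ≤ e) (m : ℕ) (hm : 0 < m) :
    ℛ (m * (6 * e)) = ℛ (6 * e) ^ m := by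
  apply le_antisymm _ (pow_le ℛ h0 _ _)
  induction m, hm using Nat.le_induction with
  | base => rw [pow_one, Nat.one_mul]
  | succ m hm ih =>
    rw [graded_eq_span ℛ g w hg hgen]
    apply Submodule.span_le.mpr
    rintro _ ⟨s, hs, rfl⟩
    have hm1 : 1 ≤ m := hm
    have h12 : 12 * e ≤ ∑ i, s i * w i := by
      rw [hs]
      calc 12 * e = 2 * (6 * e) := by ring
        _ ≤ (m + 1) * (6 * e) := Nat.mul_le_mul_right _ (by omega)
    obtain ⟨s', hs1, hs2⟩ := exists_sub_weight w b hwb s e hrem h12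
    have hsplit : s = s' + (s - s') := by
      funext i
      simp only [Pi.add_apply, Pi.sub_apply]
      have := hs1 i
      omega
    have hdeg : ∑ i, (s - s') i * w i = m * (6 * e) := by
      have h1 : ∑ i, s i * w i = ∑ i, s' i * w i + ∑ i, (s - s') i * w i := by
        rw [← Finset.sum_add_distrib]
        apply Finset.sum_congr rfl
        intro i _
        rw [← Nat.add_mul]
        congr 1
        exact congrFun hsplit i
      rw [hs, hs2] at h1
      have : (m + 1) * (6 * e) = 6 * e + m * (6 * e) := by ring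
      omega
    rw [hsplit, mon_mul, pow_succ']
    apply Submodule.mul_mem_mul
    · exact hs2 ▸ mon_mem ℛ g w hg s'
    · apply ih
      exact hdeg ▸ mon_mem ℛ g w hg (s - s')

end alg

end Groth.Agent.Lib.Helper20.Veronese

namespace Groth.Agent.Lib.Helper20.Veronese

section inst

variable {k R : Type*} [Field k] [CommRing R] [Algebra k R] (ℛ : ℕ → Submodule k R)
  [GradedAlgebra ℛ]

theorem span_finBasis (j : ℕ) [Module.Finite k (ℛ j)] :
    Submodule.span k (Set.range (fun i => ((Module.finBasis k (ℛ j) i : ℛ j) : R))) = ℛ j := by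
  have h1 : (Submodule.span k (Set.range (Module.finBasis k (ℛ j)))).map (ℛ j).subtype =
      (⊤ : Submodule k (ℛ j)).map (ℛ j).subtype := by
    rw [(Module.finBasis k (ℛ j)).span_eq]
  rw [Submodule.map_span, Submodule.map_subtype_top, ← Set.range_comp] at h1
  exact h1

theorem veronese (h0 : ℛ 0 = 1)
    (hgen : Algebra.adjoin k ((ℛ 1 : Set R) ∪ (ℛ 2 : Set R) ∪ (ℛ 3 : Set R)) = ⊤)
    [Module.Finite k (ℛ 1)] [Module.Finite k (ℛ 2)] [Module.Finite k (ℛ 3)]
    (e : ℕ) (he : 5 * Module.finrank k (ℛ 1) + 4 * Module.finrank k (ℛ 2) +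
      3 * Module.finrank k (ℛ 3) ≤ e)
    (m : ℕ) (hm : 0 < m) :
    ℛ (m * (6 * e)) = ℛ (6 * e) ^ m := by
  let g1 : Fin (Module.finrank k (ℛ 1)) → R := fun i => ((Module.finBasis k (ℛ 1) i : ℛ 1) : R)
  let g2 : Fin (Module.finrank k (ℛ 2)) → R := fun i => ((Module.finBasis k (ℛ 2) i : ℛ 2) : R)
  let g3 : Fin (Module.finrank k (ℛ 3)) → R := fun i => ((Module.finBasis k (ℛ 3) i : ℛ 3) : R)
  let g : Fin (Module.finrank k (ℛ 1)) ⊕ (Fin (Module.finrank k (ℛ 2)) ⊕
      Fin (Module.finrank k (ℛ 3))) → R := Sum.elim g1 (Sum.elim g2 g3)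
  let w : Fin (Module.finrank k (ℛ 1)) ⊕ (Fin (Module.finrank k (ℛ 2)) ⊕
      Fin (Module.finrank k (ℛ 3))) → ℕ := Sum.elim (fun _ => 1) (Sum.elim (fun _ => 2) (fun _ => 3))
  let b : Fin (Module.finrank k (ℛ 1)) ⊕ (Fin (Module.finrank k (ℛ 2)) ⊕
      Fin (Module.finrank k (ℛ 3))) → ℕ := Sum.elim (fun _ => 6) (Sum.elim (fun _ => 3) (fun _ => 2))
  have hg : ∀ i, g i ∈ ℛ (w i) := by
    rintro (i | i | i)
    · exact (Module.finBasis k (ℛ 1) i).2
    · exact (Module.finBasis k (ℛ 2) i).2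
    · exact (Module.finBasis k (ℛ 3) i).2
  have hwb : ∀ i, w i * b i = 6 := by
    rintro (i | i | i) <;> rfl
  have hrem : ∑ i, (b i - 1) * w i ≤ e := by
    refine le_trans (le_of_eq ?_) he
    rw [Fintype.sum_sum_type, Fintype.sum_sum_type]
    simp only [b, w, Sum.elim_inl, Sum.elim_inr, Finset.sum_const, Finset.card_univ,
      Fintype.card_fin, smul_eq_mul]
    ring
  have hgen' : Algebra.adjoin k (Set.range g) = ⊤ := by
    rw [eq_top_iff, ← hgen]
    apply Algebra.adjoin_le
    have hsp : ∀ S : Set R, S ⊆ Set.range g →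
        (Submodule.span k S : Set R) ⊆ Algebra.adjoin k (Set.range g) := by
      intro S hS x hx
      exact Algebra.span_le_adjoin k _ (Submodule.span_mono hS hx)
    rintro x ((hx | hx) | hx)
    · refine hsp (Set.range g1) ?_ ?_
      · rintro _ ⟨i, rfl⟩; exact ⟨Sum.inl i, rfl⟩
      · rw [span_finBasis ℛ 1]; exact hx
    · refine hsp (Set.range g2) ?_ ?_
      · rintro _ ⟨i, rfl⟩; exact ⟨Sum.inr (Sum.inl i), rfl⟩
      · rw [span_finBasis ℛ 2]; exact hx
    · refine hsp (Set.range g3) ?_ ?_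
      · rintro _ ⟨i, rfl⟩; exact ⟨Sum.inr (Sum.inr i), rfl⟩
      · rw [span_finBasis ℛ 3]; exact hx
  exact main ℛ h0 g w b hg hgen' hwb e hrem m hm

end inst

end Groth.Agent.Lib.Helper20.Veronese
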