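import Mathlib
import Groth.Prelude.Def_PBC
import Groth.Prelude.Def_ProEtW
import Groth.Agent.Lib.Helper20.IndZar4
import Groth.Agent.Lib.Helper20.SpecLC
import Groth.Agent.Lib.Helper20.IndZarFlat

namespace Groth.Agent.Lib.Helper20.WLoc

open Groth.Agent.Lib.Helper20.SpecLC Topology

universe u

variable (A : Type u) [CommRing A] (Z : Type u) [TopologicalSpace Z]
  (ι : Z → PrimeSpectrum A)

/-- functions nowhere vanishing along `ι` -/
def M : Submonoid (LocallyConstant Z A) where
  carrier := {s | ∀ z, s z ∉ (ι z).asIdeal}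
  one_mem' := fun z => (ι z).isPrime.one_notMem
  mul_mem' := fun hs ht z => (ι z).isPrime.mul_notMem (hs z) (ht z)

theorem mem_M (s : LocallyConstant Z A) : s ∈ M A Z ι ↔ ∀ z, s z ∉ (ι z).asIdeal := Iff.rfl

/-- the localization of `LC(Z, A)` along `ι` -/
abbrev Bw : Type u := Localization (M A Z ι)

variable [CompactSpace Z] [T2Space Z] [TotallyDisconnectedSpace Z]

omit [T2Space Z] [TotallyDisconnectedSpace Z] in
theorem isIndZariski_Bw : EtPBC.IsIndZariski A (Bw A Z ι) :=
  IndZar4.isIndZariski_localization (Cs := ⟨Cs A Z, Cs_mono A Z⟩) (Cs_cover A Z)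
    (Cs_isLocalIso A Z)

omit [T2Space Z] [TotallyDisconnectedSpace Z] in
theorem flat_Bw : Module.Flat A (Bw A Z ι) :=
  IndZarFlat.flat_of_isIndZariski A _ (isIndZariski_Bw A Z ι)

/-- the embedding of the spectrum into the product -/
noncomputable def rho (y : PrimeSpectrum (Bw A Z ι)) : PrimeSpectrum A × Z :=
  phiHomeo.symm (PrimeSpectrum.comap (algebraMap (LocallyConstant Z A) (Bw A Z ι)) y)

theorem rho_isEmbedding : IsEmbedding (rho A Z ι) :=
  phiHomeo.symm.isEmbedding.comp (PrimeSpectrum.localization_comap_isEmbedding _ (M A Z ι))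

theorem phi_rho (y : PrimeSpectrum (Bw A Z ι)) :
    phi A Z (rho A Z ι y) =
      PrimeSpectrum.comap (algebraMap (LocallyConstant Z A) (Bw A Z ι)) y :=
  phiHomeo.apply_symm_apply _

theorem rho_fst (y : PrimeSpectrum (Bw A Z ι)) :
    (rho A Z ι y).1 = PrimeSpectrum.comap (algebraMap A (Bw A Z ι)) y := by
  have h2 := comap_algebraMap_phi (rho A Z ι y)
  rw [phi_rho] at h2
  rw [← h2]
  rfl

variable (hι : ∀ a : A, IsClopen (ι ⁻¹' (PrimeSpectrum.basicOpen a : Set (PrimeSpectrum A))))

include hι in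
theorem disjoint_iff (p : PrimeSpectrum A × Z) :
    Disjoint (M A Z ι : Set (LocallyConstant Z A)) (phi A Z p).asIdeal ↔ p.1 ⤳ ι p.2 := by
  obtain ⟨x, z⟩ := p
  rw [← PrimeSpectrum.le_iff_specializes]
  constructor
  · intro hd
    by_contra hle
    have hle' : ¬ x.asIdeal ≤ (ι z).asIdeal := hle
    obtain ⟨a, hax, haz⟩ := SetLike.not_le_iff_exists.mp hle'
    obtain ⟨U, hUdef⟩ : ∃ U : Set Z, U = ι ⁻¹' (PrimeSpectrum.basicOpen a : Set (PrimeSpectrum A)) :=
      ⟨_, rfl⟩
    have hU : IsClopen U := hUdef ▸ hι a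
    have hUmem : ∀ z', z' ∈ U ↔ a ∉ (ι z').asIdeal := by
      intro z'
      rw [hUdef]
      rfl
    let s : LocallyConstant Z A :=
      algebraMap A (LocallyConstant Z A) a * LocallyConstant.charFn A hU +
        LocallyConstant.charFn A hU.compl
    have hs1 : ∀ z', z' ∈ U → s z' = a := by
      intro z' hz'
      simp [s, LocallyConstant.charFn, hz']
    have hs2 : ∀ z', z' ∉ U → s z' = 1 := by
      intro z' hz'
      simp [s, LocallyConstant.charFn, hz']
    have hsM : s ∈ M A Z ι := by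
      intro z'
      by_cases hz' : z' ∈ U
      · rw [hs1 z' hz']
        exact (hUmem z').mp hz'
      · rw [hs2 z' hz']
        exact (ι z').isPrime.one_notMem
    have hsq : s ∈ (phi A Z (x, z)).asIdeal := by
      rw [mem_phi]
      have hz : z ∈ U := (hUmem z).mpr haz
      show s z ∈ x.asIdeal
      rw [hs1 z hz]
      exact hax
    exact Set.disjoint_left.mp hd hsM hsq
  · intro hle
    rw [Set.disjoint_left]
    intro s hsM hsq
    exact hsM z (hle hsq)

include hι in
theorem range_rho : Set.range (rho A Z ι) = {p | p.1 ⤳ ι p.2} := by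
  have h1 : Set.range (rho A Z ι) = phiHomeo.symm ''
      Set.range (PrimeSpectrum.comap (algebraMap (LocallyConstant Z A) (Bw A Z ι))) := by
    rw [← Set.range_comp]
    rfl
  rw [h1, PrimeSpectrum.localization_comap_range _ (M A Z ι)]
  ext p
  constructor
  · rintro ⟨q, hq, rfl⟩
    obtain ⟨p', rfl⟩ := phi_surjective q
    have : phiHomeo.symm (phi A Z p') = p' := phiHomeo.symm_apply_apply p'
    rw [this]
    exact (disjoint_iff A Z ι hι p').mp hq
  · intro hp
    exact ⟨phi A Z p, (disjoint_iff A Z ι hι p).mpr hp, phiHomeo.symm_apply_apply p⟩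

end Groth.Agent.Lib.Helper20.WLoc
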