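import Mathlib
import Groth.Prelude.Def_PBC
import Groth.Prelude.Def_ProEtW
import Groth.Agent.Lib.Helper20.WLoc

namespace Groth.Agent.Lib.Helper20.WLoc

open Groth.Agent.Lib.Helper20.SpecLC Topology

universe u

variable (A : Type u) [CommRing A] (Z : Type u) [TopologicalSpace Z]
  (ι : Z → PrimeSpectrum A) [CompactSpace Z] [T2Space Z] [TotallyDisconnectedSpace Z]
  (hι : ∀ a : A, IsClopen (ι ⁻¹' (PrimeSpectrum.basicOpen a : Set (PrimeSpectrum A))))

include hι in
theorem rho_mem (w : PrimeSpectrum (Bw A Z ι)) : (rho A Z ι w).1 ⤳ ι (rho A Z ι w).2 := by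
  have : rho A Z ι w ∈ Set.range (rho A Z ι) := ⟨w, rfl⟩
  rw [range_rho A Z ι hι] at this
  exact this

include hι in
theorem exists_d (z : Z) : ∃ w : PrimeSpectrum (Bw A Z ι), rho A Z ι w = (ι z, z) := by
  have : (ι z, z) ∈ Set.range (rho A Z ι) := by
    rw [range_rho A Z ι hι]
    exact specializes_rfl
  exact this

theorem specializes_iff (w w' : PrimeSpectrum (Bw A Z ι)) :
    w ⤳ w' ↔ (rho A Z ι w).1 ⤳ (rho A Z ι w').1 ∧ (rho A Z ι w).2 = (rho A Z ι w').2 := by
  rw [← (rho_isEmbedding A Z ι).isInducing.specializes_iff]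
  have : rho A Z ι w ⤳ rho A Z ι w' ↔
      ((rho A Z ι w).1, (rho A Z ι w).2) ⤳ ((rho A Z ι w').1, (rho A Z ι w').2) := Iff.rfl
  rw [this, specializes_prod, specializes_iff_eq (x := (rho A Z ι w).2)]

omit [CompactSpace Z] [T2Space Z] [TotallyDisconnectedSpace Z] in
theorem isClosed_singleton_iff' {W : Type*} [TopologicalSpace W] (w : W) :
    IsClosed ({w} : Set W) ↔ ∀ w', w ⤳ w' → w' = w := by
  constructor
  · intro h w' hw
    have := specializes_iff_mem_closure.mp hw
    rw [h.closure_eq] at this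
    exact this
  · intro h
    rw [← closure_subset_iff_isClosed]
    intro w' hw'
    exact h w' (specializes_iff_mem_closure.mpr hw')

/-- the diagonal points -/
def cp : Set (PrimeSpectrum (Bw A Z ι)) := {w | (rho A Z ι w).1 = ι (rho A Z ι w).2}

include hι in
theorem isClosed_singleton_iff_mem_cp (w : PrimeSpectrum (Bw A Z ι)) :
    IsClosed ({w} : Set (PrimeSpectrum (Bw A Z ι))) ↔ w ∈ cp A Z ι := by
  rw [isClosed_singleton_iff']
  constructor
  · intro h
    obtain ⟨w', hw'⟩ := exists_d A Z ι hι (rho A Z ι w).2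
    have h1 : w ⤳ w' := by
      rw [specializes_iff, hw']
      exact ⟨rho_mem A Z ι hι w, rfl⟩
    have h2 := h w' h1
    subst h2
    show (rho A Z ι w').1 = ι (rho A Z ι w').2
    rw [hw']
  · intro h w' hw'
    rw [specializes_iff] at hw'
    have h1 : (rho A Z ι w).1 = ι (rho A Z ι w).2 := h
    have h2 := rho_mem A Z ι hι w'
    rw [← hw'.2, ← h1] at h2
    have h3 : (rho A Z ι w').1 = (rho A Z ι w).1 := (h2.antisymm hw'.1).eq
    apply (rho_isEmbedding A Z ι).injective
    exact Prod.ext h3 hw'.2.symm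

include hι in
theorem isClosed_cp : IsClosed (cp A Z ι) := by
  rw [← isOpen_compl_iff, isOpen_iff_forall_mem_open]
  intro w hw
  have hw' : (rho A Z ι w).1 ≠ ι (rho A Z ι w).2 := hw
  have h1 := rho_mem A Z ι hι w
  have h2 : ¬ (ι (rho A Z ι w).2).asIdeal ≤ (rho A Z ι w).1.asIdeal := by
    intro hle
    have : ι (rho A Z ι w).2 ⤳ (rho A Z ι w).1 :=
      (PrimeSpectrum.le_iff_specializes _ _).mp hle
    exact hw' (h1.antisymm this).eq
  obtain ⟨a, haz, hax⟩ := SetLike.not_le_iff_exists.mp h2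
  refine ⟨rho A Z ι ⁻¹' ((PrimeSpectrum.basicOpen a : Set (PrimeSpectrum A)) ×ˢ
    (ι ⁻¹' (PrimeSpectrum.basicOpen a : Set (PrimeSpectrum A)))ᶜ), ?_, ?_, ?_⟩
  · intro w' hw'N hw'cp
    have h3 : (rho A Z ι w').1 = ι (rho A Z ι w').2 := hw'cp
    have h4 : (rho A Z ι w').1 ∈ (PrimeSpectrum.basicOpen a : Set (PrimeSpectrum A)) := hw'N.1
    have h5 : ι (rho A Z ι w').2 ∉ (PrimeSpectrum.basicOpen a : Set (PrimeSpectrum A)) := hw'N.2
    rw [h3] at h4
    exact h5 h4
  · exact ((PrimeSpectrum.basicOpen a).isOpen.prod (hι a).compl.isOpen).preimage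
      (rho_isEmbedding A Z ι).continuous
  · refine ⟨hax, ?_⟩
    intro h
    exact h haz

include hι in
theorem isWLocal : ProEtW.IsWLocal (PrimeSpectrum (Bw A Z ι)) := by
  refine ⟨inferInstance, ?_, ?_⟩
  · have : {x : PrimeSpectrum (Bw A Z ι) | IsClosed ({x} : Set (PrimeSpectrum (Bw A Z ι)))} =
        cp A Z ι := by
      ext w
      exact isClosed_singleton_iff_mem_cp A Z ι hι w
    rw [this]
    exact isClosed_cp A Z ι hι
  · intro w
    obtain ⟨c, hc⟩ := exists_d A Z ι hι (rho A Z ι w).2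
    refine ⟨c, ⟨?_, ?_⟩, ?_⟩
    · rw [isClosed_singleton_iff_mem_cp A Z ι hι]
      show (rho A Z ι c).1 = ι (rho A Z ι c).2
      rw [hc]
    · rw [specializes_iff, hc]
      exact ⟨rho_mem A Z ι hι w, rfl⟩
    · rintro c' ⟨hc'1, hc'2⟩
      rw [isClosed_singleton_iff_mem_cp A Z ι hι] at hc'1
      rw [specializes_iff] at hc'2
      have h1 : (rho A Z ι c').1 = ι (rho A Z ι c').2 := hc'1
      apply (rho_isEmbedding A Z ι).injective
      rw [hc]
      refine Prod.ext ?_ hc'2.2.symm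
      show (rho A Z ι c').1 = ι (rho A Z ι w).2
      rw [h1, hc'2.2]

include hι in
theorem closedPoints_eq : ProEtW.closedPoints (PrimeSpectrum (Bw A Z ι)) = cp A Z ι := by
  ext w
  exact isClosed_singleton_iff_mem_cp A Z ι hι w

include hι in
theorem comap_surjective (hsurj : Function.Surjective ι) :
    Function.Surjective (PrimeSpectrum.comap (algebraMap A (Bw A Z ι))) := by
  intro x
  obtain ⟨z, rfl⟩ := hsurj x
  obtain ⟨w, hw⟩ := exists_d A Z ι hι z
  refine ⟨w, ?_⟩
  rw [← rho_fst, hw]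

include hι in
theorem faithfullyFlat (hsurj : Function.Surjective ι) : Module.FaithfullyFlat A (Bw A Z ι) := by
  have := flat_Bw A Z ι
  exact Module.FaithfullyFlat.of_comap_surjective (comap_surjective A Z ι hι hsurj)

include hι in
theorem bijOn_closedPoints (hbij : Function.Bijective ι) :
    Set.BijOn (PrimeSpectrum.comap (algebraMap A (Bw A Z ι)))
      (ProEtW.closedPoints (PrimeSpectrum (Bw A Z ι))) Set.univ := by
  rw [closedPoints_eq A Z ι hι]
  refine ⟨fun _ _ => Set.mem_univ _, ?_, ?_⟩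
  · intro w hw w' hw' h
    rw [← rho_fst, ← rho_fst] at h
    have h1 : (rho A Z ι w).1 = ι (rho A Z ι w).2 := hw
    have h2 : (rho A Z ι w').1 = ι (rho A Z ι w').2 := hw'
    apply (rho_isEmbedding A Z ι).injective
    refine Prod.ext h ?_
    apply hbij.injective
    rw [← h1, ← h2, h]
  · intro x _
    obtain ⟨z, rfl⟩ := hbij.surjective x
    obtain ⟨w, hw⟩ := exists_d A Z ι hι z
    refine ⟨w, ?_, ?_⟩
    · show (rho A Z ι w).1 = ι (rho A Z ι w).2
      rw [hw]
    · rw [← rho_fst, hw]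

end Groth.Agent.Lib.Helper20.WLoc
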