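import Mathlib
import Groth.Prelude.Def_PBC
import Groth.Prelude.Def_ProEtW
import Groth.Agent.Lib.Helper20.WLoc2
import Groth.Agent.Lib.Helper20.ConsTop

namespace Groth.Agent.Lib.Helper20.WLoc

open Topology

universe u

variable (A : Type u) [CommRing A]

/-- the spectrum with its constructible topology is profinite -/
instance : T2Space (WithConstructibleTopology (PrimeSpectrum A)) := SpecLim.t2Space_wct

instance : TotallyDisconnectedSpace (WithConstructibleTopology (PrimeSpectrum A)) := by
  haveI := ConsTop.totallySeparatedSpace_wct (X := PrimeSpectrum A)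
  infer_instance

/-- the identity from the constructible topology -/
def iotaCons : WithConstructibleTopology (PrimeSpectrum A) → PrimeSpectrum A :=
  WithTopology.ofTopology

theorem iotaCons_clopen (a : A) :
    IsClopen (iotaCons A ⁻¹' (PrimeSpectrum.basicOpen a : Set (PrimeSpectrum A))) := by
  constructor
  · rw [WithConstructibleTopology.isClosed_iff]
    exact Spectral.isClosed_cons_of_isCompact_isOpen (PrimeSpectrum.isCompact_basicOpen a)
      (PrimeSpectrum.basicOpen a).isOpen
  · rw [WithConstructibleTopology.isOpen_iff]
    exact Spectral.isOpen_cons_of_isOpen (PrimeSpectrum.basicOpen a).isOpen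

theorem iotaCons_bijective : Function.Bijective (iotaCons A) :=
  ⟨WithTopology.ofTopology_injective _, WithTopology.ofTopology_surjective _⟩

theorem exists_wLocalization :
    ∃ (Aw : Type u) (_ : CommRing Aw) (_ : Algebra A Aw),
      Module.FaithfullyFlat A Aw ∧ EtPBC.IsIndZariski A Aw ∧
      ProEtW.IsWLocal (PrimeSpectrum Aw) ∧
      Set.BijOn (PrimeSpectrum.comap (algebraMap A Aw))
        (ProEtW.closedPoints (PrimeSpectrum Aw)) Set.univ :=
  ⟨Bw A _ (iotaCons A), inferInstance, inferInstance,
    faithfullyFlat A _ (iotaCons A) (iotaCons_clopen A) (iotaCons_bijective A).surjective,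
    isIndZariski_Bw A _ (iotaCons A),
    isWLocal A _ (iotaCons A) (iotaCons_clopen A),
    bijOn_closedPoints A _ (iotaCons A) (iotaCons_clopen A) (iotaCons_bijective A)⟩

end Groth.Agent.Lib.Helper20.WLoc
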