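import Mathlib
import Groth.Prelude.Def_PBC
import Groth.Prelude.Def_ProEtW
import Groth.Agent.Lib.Helper20.WLoc3
import Groth.Agent.Lib.Helper20.Gleason

namespace Groth.Agent.Lib.Helper20.WLoc

open Topology

universe u

theorem mk_eq_of_specializes {W : Type*} [TopologicalSpace W] {x y : W} (h : x ⤳ y) :
    _root_.ConnectedComponents.mk x = _root_.ConnectedComponents.mk y := by
  rw [ConnectedComponents.coe_eq_coe']
  have h1 : IsPreconnected (closure ({x} : Set W)) := isPreconnected_singleton.closure
  have h2 : y ∈ closure ({x} : Set W) := specializes_iff_mem_closure.mp h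
  have h3 : x ∈ closure ({x} : Set W) := subset_closure rfl
  have := h1.subset_connectedComponent h3 h2
  rw [← connectedComponent_eq this]
  exact mem_connectedComponent

section

variable (A : Type u) [CommRing A] (Z : Type u) [TopologicalSpace Z]
  (ι : Z → PrimeSpectrum A) [CompactSpace Z] [T2Space Z] [TotallyDisconnectedSpace Z]
  (hι : ∀ a : A, IsClopen (ι ⁻¹' (PrimeSpectrum.basicOpen a : Set (PrimeSpectrum A))))

/-- the projection to `Z` -/
noncomputable def q (w : PrimeSpectrum (Bw A Z ι)) : Z := (rho A Z ι w).2

theorem q_continuous : Continuous (q A Z ι) :=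
  continuous_snd.comp (rho_isEmbedding A Z ι).continuous

include hι in
theorem exists_ccHomeo :
    ∃ e : _root_.ConnectedComponents (PrimeSpectrum (Bw A Z ι)) ≃ₜ Z,
      ∀ w, e (_root_.ConnectedComponents.mk w) = q A Z ι w := by
  let l : _root_.ConnectedComponents (PrimeSpectrum (Bw A Z ι)) → Z :=
    (q_continuous A Z ι).connectedComponentsLift
  have hl : Continuous l := (q_continuous A Z ι).connectedComponentsLift_continuous
  have hlc : ∀ w, l (_root_.ConnectedComponents.mk w) = q A Z ι w :=
    fun w => (q_continuous A Z ι).connectedComponentsLift_apply_coe w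
  have hsurj : Function.Surjective l := by
    intro z
    obtain ⟨w, hw⟩ := exists_d A Z ι hι z
    refine ⟨_root_.ConnectedComponents.mk w, ?_⟩
    rw [hlc]
    show (rho A Z ι w).2 = z
    rw [hw]
  have hkey : ∀ w w' : PrimeSpectrum (Bw A Z ι), rho A Z ι w' = (ι (q A Z ι w), q A Z ι w) →
      _root_.ConnectedComponents.mk w = _root_.ConnectedComponents.mk w' := by
    intro w w' hw'
    apply mk_eq_of_specializes
    rw [specializes_iff, hw']
    exact ⟨rho_mem A Z ι hι w, rfl⟩
  have hinj : Function.Injective l := by
    intro c₁ c₂ h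
    obtain ⟨w₁, rfl⟩ := ConnectedComponents.surjective_coe c₁
    obtain ⟨w₂, rfl⟩ := ConnectedComponents.surjective_coe c₂
    rw [hlc, hlc] at h
    obtain ⟨w', hw'⟩ := exists_d A Z ι hι (q A Z ι w₁)
    rw [hkey w₁ w' hw', hkey w₂ w' (h ▸ hw')]
  let e : _root_.ConnectedComponents (PrimeSpectrum (Bw A Z ι)) ≃ Z :=
    Equiv.ofBijective l ⟨hinj, hsurj⟩
  have he : Continuous e := hl
  exact ⟨he.homeoOfEquivCompactToT2, fun w => hlc w⟩

end

section ExtrDisc

variable (A : Type u) [CommRing A]

/-- the Stone-Cech compactification of the discrete spectrum -/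
abbrev TE : Type u := StoneCech (Gleason.Disc (PrimeSpectrum A))

instance : ExtremallyDisconnected (TE A) :=
  CompactT2.Projective.extremallyDisconnected StoneCech.projective

theorem continuous_toCons :
    Continuous (fun x : Gleason.Disc (PrimeSpectrum A) =>
      (WithTopology.toTopology _ x.val : WithConstructibleTopology (PrimeSpectrum A))) :=
  continuous_of_discreteTopology

/-- the extension to the compactification -/
noncomputable def extE : TE A → WithConstructibleTopology (PrimeSpectrum A) :=
  stoneCechExtend (continuous_toCons A)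

theorem extE_continuous : Continuous (extE A) := continuous_stoneCechExtend _

theorem extE_surjective : Function.Surjective (extE A) := by
  intro x
  refine ⟨stoneCechUnit (⟨WithTopology.ofTopology x⟩ : Gleason.Disc (PrimeSpectrum A)), ?_⟩
  have := congrFun (stoneCechExtend_extends (continuous_toCons A))
    (⟨WithTopology.ofTopology x⟩ : Gleason.Disc (PrimeSpectrum A))
  exact this

/-- the map to the spectrum -/
noncomputable def iotaE : TE A → PrimeSpectrum A := iotaCons A ∘ extE A

theorem iotaE_clopen (a : A) :
    IsClopen (iotaE A ⁻¹' (PrimeSpectrum.basicOpen a : Set (PrimeSpectrum A))) :=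
  (iotaCons_clopen A a).preimage (extE_continuous A)

theorem iotaE_surjective : Function.Surjective (iotaE A) :=
  (iotaCons_bijective A).surjective.comp (extE_surjective A)

theorem exists_wLocal_extrDisc :
    ∃ (B : Type u) (_ : CommRing B) (_ : Algebra A B),
      Module.FaithfullyFlat A B ∧ EtPBC.IsIndZariski A B ∧ ProEtW.IsWLocal (PrimeSpectrum B) ∧
        ExtremallyDisconnected (_root_.ConnectedComponents (PrimeSpectrum B)) := by
  refine ⟨Bw A (TE A) (iotaE A), inferInstance, inferInstance,
    faithfullyFlat A _ (iotaE A) (iotaE_clopen A) (iotaE_surjective A),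
    isIndZariski_Bw A _ (iotaE A),
    isWLocal A _ (iotaE A) (iotaE_clopen A), ?_⟩
  obtain ⟨e, -⟩ := exists_ccHomeo A (TE A) (iotaE A) (iotaE_clopen A)
  exact extremallyDisconnected_of_homeo e.symm

end ExtrDisc

end Groth.Agent.Lib.Helper20.WLoc
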