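import Mathlib
import Groth.Prelude.Def_PBC
import Groth.Prelude.Def_ProEtW
import Groth.Agent.Lib.Helper20.WLoc2

namespace Groth.Agent.Lib.Helper20.WLoc

open Groth.Agent.Lib.Helper20.SpecLC Topology

universe u

variable (A : Type u) [CommRing A] (I : Ideal A)

/-- the closed embedding of `Spec (A/I)` -/
def iotaQ : PrimeSpectrum (A ⧸ I) → PrimeSpectrum A :=
  PrimeSpectrum.comap (Ideal.Quotient.mk I)

theorem iotaQ_isEmbedding : IsEmbedding (iotaQ A I) :=
  PrimeSpectrum.isEmbedding_comap_of_surjective _ _ Ideal.Quotient.mk_surjective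

theorem range_iotaQ : Set.range (iotaQ A I) = PrimeSpectrum.zeroLocus (I : Set A) := by
  unfold iotaQ
  rw [_root_.range_comap_of_surjective _ _ Ideal.Quotient.mk_surjective, Ideal.mk_ker]

theorem mem_iotaQ (z : PrimeSpectrum (A ⧸ I)) (a : A) :
    a ∈ (iotaQ A I z).asIdeal ↔ Ideal.Quotient.mk I a ∈ z.asIdeal := Iff.rfl

variable (hI : ProEtW.IsProfinite (PrimeSpectrum.zeroLocus (R := A) I))

include hI in
theorem t2Space_specQ : T2Space (PrimeSpectrum (A ⧸ I)) := by
  haveI : T2Space (PrimeSpectrum.zeroLocus (R := A) I) := hI.2.1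
  let e : PrimeSpectrum (A ⧸ I) → PrimeSpectrum.zeroLocus (R := A) I :=
    fun z => ⟨iotaQ A I z, by rw [← range_iotaQ]; exact ⟨z, rfl⟩⟩
  have he : IsEmbedding e := (iotaQ_isEmbedding A I).codRestrict _ _
  exact he.t2Space

include hI in
theorem totallyDisconnectedSpace_specQ : TotallyDisconnectedSpace (PrimeSpectrum (A ⧸ I)) := by
  have h1 : TotallyDisconnectedSpace (PrimeSpectrum.zeroLocus (R := A) I) := hI.2.2
  rw [totallyDisconnectedSpace_subtype_iff, ← range_iotaQ,
    (iotaQ_isEmbedding A I).isTotallyDisconnected_range] at h1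
  exact h1

include hI in
theorem iotaQ_clopen (a : A) :
    IsClopen (iotaQ A I ⁻¹' (PrimeSpectrum.basicOpen a : Set (PrimeSpectrum A))) := by
  haveI := t2Space_specQ A I hI
  have h : iotaQ A I ⁻¹' (PrimeSpectrum.basicOpen a : Set (PrimeSpectrum A)) =
      (PrimeSpectrum.basicOpen (Ideal.Quotient.mk I a) : Set (PrimeSpectrum (A ⧸ I))) := by
    ext z
    rfl
  rw [h]
  exact ⟨(PrimeSpectrum.isCompact_basicOpen _).isClosed, (PrimeSpectrum.basicOpen _).isOpen⟩

section Values

variable (Z : Type u) [TopologicalSpace Z]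

theorem apply_mem_of_mem_map (g : LocallyConstant Z A)
    (hg : g ∈ I.map (algebraMap A (LocallyConstant Z A))) (z : Z) : g z ∈ I := by
  have h1 : I.map (algebraMap A (LocallyConstant Z A)) ≤
      I.comap (LocallyConstant.evalRingHom (Y := A) z) := by
    rw [Ideal.map_le_iff_le_comap]
    intro a ha
    exact ha
  exact h1 hg

theorem mem_map_of_forall_apply_mem [CompactSpace Z] (g : LocallyConstant Z A)
    (hg : ∀ z, g z ∈ I) : g ∈ I.map (algebraMap A (LocallyConstant Z A)) := by
  have key : ∃ (U : Set Z) (hU : IsClopen U), Set.univ ⊆ U ∧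
      g * LocallyConstant.charFn A hU ∈ I.map (algebraMap A (LocallyConstant Z A)) := by
    refine isCompact_univ.induction_on
      (p := fun S => ∃ (U : Set Z) (hU : IsClopen U), S ⊆ U ∧
        g * LocallyConstant.charFn A hU ∈ I.map (algebraMap A (LocallyConstant Z A))) ?_ ?_ ?_ ?_
    · refine ⟨∅, isClopen_empty, subset_rfl, ?_⟩
      have : LocallyConstant.charFn A (isClopen_empty (X := Z)) = 0 := by
        ext t
        simp [LocallyConstant.charFn]
      rw [this, mul_zero]
      exact Ideal.zero_mem _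
    · rintro S S' hSS' ⟨U, hU, hS'U, hq⟩
      exact ⟨U, hU, hSS'.trans hS'U, hq⟩
    · rintro S S' ⟨U, hU, hSU, hq⟩ ⟨V, hV, hSV, hq'⟩
      refine ⟨U ∪ V, hU.union hV, Set.union_subset_union hSU hSV, ?_⟩
      rw [charFn_union hU hV]
      have : g * (LocallyConstant.charFn A hU + LocallyConstant.charFn A hV -
          LocallyConstant.charFn A hU * LocallyConstant.charFn A hV) =
          g * LocallyConstant.charFn A hU + g * LocallyConstant.charFn A hV -
            g * LocallyConstant.charFn A hU * LocallyConstant.charFn A hV := by ring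
      rw [this]
      exact Ideal.sub_mem _ (Ideal.add_mem _ hq hq') (Ideal.mul_mem_right _ _ hq)
    · intro z _
      have hU : IsClopen (g ⁻¹' {g z}) := g.isLocallyConstant.isClopen_fiber _
      refine ⟨g ⁻¹' {g z}, mem_nhdsWithin_of_mem_nhds (hU.isOpen.mem_nhds rfl), _, hU,
        subset_rfl, ?_⟩
      have heq : g * LocallyConstant.charFn A hU =
          algebraMap A (LocallyConstant Z A) (g z) * LocallyConstant.charFn A hU := by
        ext s
        by_cases hs : s ∈ g ⁻¹' {g z}
        · have : g s = g z := hs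
          simp [LocallyConstant.charFn, hs, this]
        · simp [LocallyConstant.charFn, hs]
      rw [heq]
      exact Ideal.mul_mem_right _ _ (Ideal.mem_map_of_mem _ (hg z))
  obtain ⟨U, hU, hUu, hq⟩ := key
  have hU' : U = Set.univ := Set.eq_univ_of_univ_subset hUu
  subst hU'
  have : LocallyConstant.charFn A (isClopen_univ (X := Z)) = 1 := by
    ext t
    simp [LocallyConstant.charFn]
  rw [this, mul_one] at hq
  exact hq

end Values

section Main

variable [T2Space (PrimeSpectrum (A ⧸ I))] [TotallyDisconnectedSpace (PrimeSpectrum (A ⧸ I))]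
  (hι : ∀ a : A, IsClopen (iotaQ A I ⁻¹' (PrimeSpectrum.basicOpen a : Set (PrimeSpectrum A))))

/-- the ring -/
abbrev BQ : Type u := Bw A (PrimeSpectrum (A ⧸ I)) (iotaQ A I)

include hι in
theorem closedPoints_BQ :
    ProEtW.closedPoints (PrimeSpectrum (BQ A I)) =
      PrimeSpectrum.zeroLocus (I.map (algebraMap A (BQ A I)) : Set (BQ A I)) := by
  rw [closedPoints_eq A _ (iotaQ A I) hι]
  ext w
  have h1 : w ∈ PrimeSpectrum.zeroLocus (I.map (algebraMap A (BQ A I)) : Set (BQ A I)) ↔
      (rho A _ (iotaQ A I) w).1 ∈ Set.range (iotaQ A I) := by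
    rw [range_iotaQ, rho_fst, PrimeSpectrum.mem_zeroLocus, PrimeSpectrum.mem_zeroLocus,
      SetLike.coe_subset_coe, SetLike.coe_subset_coe, Ideal.map_le_iff_le_comap]
    rfl
  rw [h1]
  constructor
  · intro hw
    exact ⟨_, (show (rho A _ (iotaQ A I) w).1 = iotaQ A I (rho A _ (iotaQ A I) w).2 from hw).symm⟩
  · rintro ⟨z', hz'⟩
    have h2 := rho_mem A _ (iotaQ A I) hι w
    rw [← hz', (iotaQ_isEmbedding A I).isInducing.specializes_iff] at h2
    show (rho A _ (iotaQ A I) w).1 = iotaQ A I (rho A _ (iotaQ A I) w).2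
    rw [← hz', h2.eq]

omit [T2Space (PrimeSpectrum (A ⧸ I))] [TotallyDisconnectedSpace (PrimeSpectrum (A ⧸ I))] in
theorem map_eq :
    I.map (algebraMap A (BQ A I)) =
      (I.map (algebraMap A (LocallyConstant (PrimeSpectrum (A ⧸ I)) A))).map
        (algebraMap (LocallyConstant (PrimeSpectrum (A ⧸ I)) A) (BQ A I)) := by
  rw [Ideal.map_map, ← IsScalarTower.algebraMap_eq]

omit [T2Space (PrimeSpectrum (A ⧸ I))] [TotallyDisconnectedSpace (PrimeSpectrum (A ⧸ I))] in
theorem eq_top_of_forall_prime {R : Type*} [CommRing R] (J : Ideal R)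
    (h : ∀ z : PrimeSpectrum R, ¬ J ≤ z.asIdeal) : J = ⊤ := by
  by_contra hne
  obtain ⟨m, hm, hJm⟩ := Ideal.exists_le_maximal J hne
  exact h ⟨m, hm.isPrime⟩ hJm

omit [T2Space (PrimeSpectrum (A ⧸ I))] [TotallyDisconnectedSpace (PrimeSpectrum (A ⧸ I))] in
theorem comap_map_le : (I.map (algebraMap A (BQ A I))).comap (algebraMap A (BQ A I)) ≤ I := by
  intro a ha
  rw [Ideal.mem_comap, map_eq,
    IsLocalization.mem_map_algebraMap_iff (M A (PrimeSpectrum (A ⧸ I)) (iotaQ A I))] at ha
  obtain ⟨⟨⟨c, hc⟩, m⟩, h⟩ := ha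
  simp only at h
  rw [IsScalarTower.algebraMap_apply A (LocallyConstant (PrimeSpectrum (A ⧸ I)) A) (BQ A I),
    ← map_mul, IsLocalization.eq_iff_exists (M A (PrimeSpectrum (A ⧸ I)) (iotaQ A I))] at h
  obtain ⟨m', hm'⟩ := h
  -- pointwise: `m' z * (a * m z) = m' z * c z`
  have hpt : ∀ z : PrimeSpectrum (A ⧸ I), (m' : LocallyConstant _ A) z * (a * (m : LocallyConstant _ A) z) ∈ I := by
    intro z
    have := congrArg (fun g : LocallyConstant (PrimeSpectrum (A ⧸ I)) A => g z) hm'
    simp only [LocallyConstant.mul_apply] at this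
    have h2 : (algebraMap A (LocallyConstant (PrimeSpectrum (A ⧸ I)) A) a) z = a := rfl
    rw [h2] at this
    rw [this]
    exact I.mul_mem_left _ (apply_mem_of_mem_map A I _ c hc z)
  rw [← Ideal.Quotient.eq_zero_iff_mem]
  have hann : (Submodule.span (A ⧸ I) {Ideal.Quotient.mk I a}).annihilator = ⊤ := by
    apply eq_top_of_forall_prime
    intro z hle
    have h1 : Ideal.Quotient.mk I ((m' : LocallyConstant _ A) z * (m : LocallyConstant _ A) z) ∈
        (Submodule.span (A ⧸ I) {Ideal.Quotient.mk I a}).annihilator := by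
      rw [Submodule.mem_annihilator_span_singleton, smul_eq_mul, ← map_mul,
        Ideal.Quotient.eq_zero_iff_mem]
      have := hpt z
      have e : (m' : LocallyConstant _ A) z * (m : LocallyConstant _ A) z * a =
          (m' : LocallyConstant _ A) z * (a * (m : LocallyConstant _ A) z) := by ring
      rw [e]
      exact this
    have h2 := hle h1
    rw [map_mul] at h2
    rcases z.isPrime.mem_or_mem h2 with h3 | h3
    · exact m'.2 z ((mem_iotaQ A I z _).mpr h3)
    · exact m.2 z ((mem_iotaQ A I z _).mpr h3)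
  have : (1 : A ⧸ I) ∈ (Submodule.span (A ⧸ I) {Ideal.Quotient.mk I a}).annihilator := by
    rw [hann]
    trivial
  rw [Submodule.mem_annihilator_span_singleton, one_smul] at this
  exact this

omit [T2Space (PrimeSpectrum (A ⧸ I))] [TotallyDisconnectedSpace (PrimeSpectrum (A ⧸ I))] in
theorem exists_sub_mem (b : BQ A I) :
    ∃ a : A, b - algebraMap A (BQ A I) a ∈ I.map (algebraMap A (BQ A I)) := by
  classical
  obtain ⟨⟨c, m⟩, hb⟩ := IsLocalization.surj (M A (PrimeSpectrum (A ⧸ I)) (iotaQ A I)) b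
  simp only at hb
  let S : DiscreteQuotient (PrimeSpectrum (A ⧸ I)) :=
    c.discreteQuotient ⊓ (m : LocallyConstant (PrimeSpectrum (A ⧸ I)) A).discreteQuotient
  have hS : ∀ z z', S.proj z = S.proj z' →
      c z = c z' ∧ (m : LocallyConstant (PrimeSpectrum (A ⧸ I)) A) z =
        (m : LocallyConstant (PrimeSpectrum (A ⧸ I)) A) z' := by
    intro z z' h
    have h' : S.toSetoid z z' := Quotient.exact' h
    exact ⟨h'.1, h'.2⟩
  choose rep hrep using S.proj_surjective
  have hclopen : ∀ s : S, IsClopen (S.proj ⁻¹' {s}) := fun s => S.isClopen_preimage {s}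
  choose eb heb heb' using fun s => PrimeSpectrum.isClopen_iff.mp (hclopen s)
  have hmem : ∀ (s : S) (z : PrimeSpectrum (A ⧸ I)), eb s ∉ z.asIdeal ↔ S.proj z = s := by
    intro s z
    have : z ∈ S.proj ⁻¹' {s} ↔ z ∈ (PrimeSpectrum.basicOpen (eb s) :
        Set (PrimeSpectrum (A ⧸ I))) := by rw [heb' s]
    exact this.symm
  have hnot : ∀ (s : S) (z : PrimeSpectrum (A ⧸ I)), 1 - eb s ∈ z.asIdeal → eb s ∉ z.asIdeal := by
    intro s z h2 h
    apply z.isPrime.one_notMem
    have := z.asIdeal.add_mem h2 h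
    rwa [sub_add_cancel] at this
  have hν : ∀ s, ∃ ν t : A ⧸ I,
      ν * Ideal.Quotient.mk I ((m : LocallyConstant (PrimeSpectrum (A ⧸ I)) A) (rep s)) +
        t * (1 - eb s) = 1 := by
    intro s
    have : Ideal.span {Ideal.Quotient.mk I
        ((m : LocallyConstant (PrimeSpectrum (A ⧸ I)) A) (rep s)), 1 - eb s} = ⊤ := by
      apply eq_top_of_forall_prime
      intro z hle
      have h1 : Ideal.Quotient.mk I ((m : LocallyConstant (PrimeSpectrum (A ⧸ I)) A) (rep s))
          ∈ z.asIdeal := hle (Ideal.subset_span (by simp))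
      have h2 : 1 - eb s ∈ z.asIdeal := hle (Ideal.subset_span (by simp))
      have h4 : S.proj z = s := (hmem s z).mp (hnot s z h2)
      have h5 := (hS z (rep s) (h4.trans (hrep s).symm)).2
      apply m.2 z
      rw [mem_iotaQ, h5]
      exact h1
    have h1 : (1 : A ⧸ I) ∈ Ideal.span {Ideal.Quotient.mk I
        ((m : LocallyConstant (PrimeSpectrum (A ⧸ I)) A) (rep s)), 1 - eb s} := by
      rw [this]
      trivial
    obtain ⟨ν, t, h⟩ := Ideal.mem_span_pair.mp h1
    exact ⟨ν, t, h⟩
  choose ν t hνt using hν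
  have hcop : Pairwise (Function.onFun IsCoprime fun s : S => Ideal.span {1 - eb s}) := by
    intro s s' hne
    rw [Function.onFun, Ideal.isCoprime_iff_sup_eq]
    apply eq_top_of_forall_prime
    intro z hle
    have h2 : 1 - eb s ∈ z.asIdeal := hle (Ideal.mem_sup_left (Ideal.subset_span rfl))
    have h2' : 1 - eb s' ∈ z.asIdeal := hle (Ideal.mem_sup_right (Ideal.subset_span rfl))
    have h4 : S.proj z = s := (hmem s z).mp (hnot s z h2)
    have h4' : S.proj z = s' := (hmem s' z).mp (hnot s' z h2')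
    exact hne (h4.symm.trans h4')
  obtain ⟨ab, hab⟩ := Ideal.exists_forall_sub_mem_ideal hcop
    (fun s => Ideal.Quotient.mk I (c (rep s)) * ν s)
  have hzero : ∀ s, eb s * (Ideal.Quotient.mk I (c (rep s)) -
      ab * Ideal.Quotient.mk I ((m : LocallyConstant (PrimeSpectrum (A ⧸ I)) A) (rep s))) = 0 := by
    intro s
    obtain ⟨r, hr⟩ := Ideal.mem_span_singleton'.mp (hab s)
    have E : eb s * eb s = eb s := heb s
    linear_combination (-(eb s) * Ideal.Quotient.mk I (c (rep s))) * hνt s +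
      (eb s * Ideal.Quotient.mk I ((m : LocallyConstant (PrimeSpectrum (A ⧸ I)) A) (rep s))) * hr +
      (Ideal.Quotient.mk I ((m : LocallyConstant (PrimeSpectrum (A ⧸ I)) A) (rep s)) * r -
        Ideal.Quotient.mk I (c (rep s)) * t s) * E
  obtain ⟨a, ha⟩ := Ideal.Quotient.mk_surjective ab
  choose e he using fun s => Ideal.Quotient.mk_surjective (eb s)
  let m' : LocallyConstant (PrimeSpectrum (A ⧸ I)) A := psi A (PrimeSpectrum (A ⧸ I)) S e
  have hm'z : ∀ z, m' z = e (S.proj z) := fun z => rfl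
  have hm'M : m' ∈ M A (PrimeSpectrum (A ⧸ I)) (iotaQ A I) := by
    intro z
    rw [mem_iotaQ, hm'z, he]
    exact (hmem _ z).mpr rfl
  let g : LocallyConstant (PrimeSpectrum (A ⧸ I)) A :=
    m' * (c - algebraMap A (LocallyConstant (PrimeSpectrum (A ⧸ I)) A) a * m)
  have hg : ∀ z, g z ∈ I := by
    intro z
    rw [← Ideal.Quotient.eq_zero_iff_mem]
    have hc : c z = c (rep (S.proj z)) := (hS z _ (hrep _).symm).1
    have hm := (hS z _ (hrep (S.proj z)).symm).2
    have hgz : g z = e (S.proj z) * (c z - a * (m : LocallyConstant (PrimeSpectrum (A ⧸ I)) A) z) :=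
      rfl
    rw [hgz, map_mul, map_sub, map_mul, he, ha, hc, hm]
    exact hzero _
  have hgmem := mem_map_of_forall_apply_mem A I _ g hg
  refine ⟨a, ?_⟩
  rw [map_eq]
  have h1 := Ideal.mem_map_of_mem
    (algebraMap (LocallyConstant (PrimeSpectrum (A ⧸ I)) A) (BQ A I)) hgmem
  have h2 : algebraMap (LocallyConstant (PrimeSpectrum (A ⧸ I)) A) (BQ A I) g =
      (algebraMap _ (BQ A I) m' * algebraMap _ (BQ A I)
        (m : LocallyConstant (PrimeSpectrum (A ⧸ I)) A)) * (b - algebraMap A (BQ A I) a) := by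
    simp only [g, map_mul, map_sub]
    rw [← hb, IsScalarTower.algebraMap_apply A (LocallyConstant (PrimeSpectrum (A ⧸ I)) A) (BQ A I)]
    ring
  have hu : IsUnit (algebraMap _ (BQ A I) m' * algebraMap _ (BQ A I)
      (m : LocallyConstant (PrimeSpectrum (A ⧸ I)) A)) :=
    (IsLocalization.map_units (BQ A I)
      (⟨m', hm'M⟩ : M A (PrimeSpectrum (A ⧸ I)) (iotaQ A I))).mul
      (IsLocalization.map_units (BQ A I) m)
  rw [h2] at h1
  exact (Ideal.unit_mul_mem_iff_mem _ hu).mp h1

end Main

theorem exists_wLocal_along (hI : ProEtW.IsProfinite (PrimeSpectrum.zeroLocus (R := A) I)) :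
    ∃ (B : Type u) (_ : CommRing B) (_ : Algebra A B),
      EtPBC.IsIndZariski A B ∧ ProEtW.IsWLocal (PrimeSpectrum B) ∧
      ProEtW.closedPoints (PrimeSpectrum B) =
        PrimeSpectrum.zeroLocus (I.map (algebraMap A B)) ∧
      Function.Bijective (Ideal.quotientMap (I.map (algebraMap A B)) (algebraMap A B)
        Ideal.le_comap_map) := by
  haveI := t2Space_specQ A I hI
  haveI := totallyDisconnectedSpace_specQ A I hI
  have hι := iotaQ_clopen A I hI
  refine ⟨BQ A I, inferInstance, inferInstance, isIndZariski_Bw A _ _, isWLocal A _ _ hι,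
    closedPoints_BQ A I hι, ?_, ?_⟩
  · exact Ideal.quotientMap_injective' (comap_map_le A I)
  · intro x
    obtain ⟨b, rfl⟩ := Ideal.Quotient.mk_surjective x
    obtain ⟨a, ha⟩ := exists_sub_mem A I b
    refine ⟨Ideal.Quotient.mk I a, ?_⟩
    rw [Ideal.quotientMap_mk]
    exact (Ideal.Quotient.eq.mpr ha).symm

end Groth.Agent.Lib.Helper20.WLoc
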