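import Mathlib
import Groth.Prelude.Def_PBC
import Groth.Prelude.Def_ProEtW
import Groth.Agent.Lib.Helper20.WLoc2
import Groth.Agent.Lib.Helper20.LocRingCrit2

namespace Groth.Agent.Lib.Helper20.WLoc

open Groth.Agent.Lib.Helper20.SpecLC Topology

universe u

variable (A : Type u) [CommRing A] (Z : Type u) [TopologicalSpace Z]
  (ι : Z → PrimeSpectrum A) [CompactSpace Z] [T2Space Z] [TotallyDisconnectedSpace Z]
  (hι : ∀ a : A, IsClopen (ι ⁻¹' (PrimeSpectrum.basicOpen a : Set (PrimeSpectrum A))))

include hι in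
theorem identifiesLocalRings_Bw : EtPBC.IdentifiesLocalRings A (Bw A Z ι) := by
  intro w
  obtain ⟨⟨x, z⟩, hxz⟩ : ∃ p, rho A Z ι w = p := ⟨_, rfl⟩
  have hspec : x ⤳ ι z := by
    have := rho_mem A Z ι hι w
    rw [hxz] at this
    exact this
  have hle : x.asIdeal ≤ (ι z).asIdeal := (PrimeSpectrum.le_iff_specializes x (ι z)).mpr hspec
  have F1 : ∀ c : LocallyConstant Z A,
      algebraMap (LocallyConstant Z A) (Bw A Z ι) c ∈ w.asIdeal ↔ c z ∈ x.asIdeal := by
    intro c
    have h1 : c ∈ (PrimeSpectrum.comap (algebraMap (LocallyConstant Z A) (Bw A Z ι)) w).asIdeal ↔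
        c z ∈ x.asIdeal := by
      rw [← phi_rho, hxz]
      exact mem_phi (x, z) c
    exact h1
  have F2 : ∀ a : A, a ∈ w.asIdeal.comap (algebraMap A (Bw A Z ι)) ↔ a ∈ x.asIdeal := by
    intro a
    rw [Ideal.mem_comap, IsScalarTower.algebraMap_apply A (LocallyConstant Z A) (Bw A Z ι), F1]
    rfl
  have hMw : ∀ m : M A Z ι, algebraMap (LocallyConstant Z A) (Bw A Z ι) m ∉ w.asIdeal := by
    intro m hm
    exact w.isPrime.ne_top (Ideal.eq_top_of_isUnit_mem _ hm (IsLocalization.map_units _ m))
  have hMz : ∀ m : M A Z ι, (m : LocallyConstant Z A) z ∉ x.asIdeal :=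
    fun m h => m.2 z (hle h)
  apply LocRingCrit2.bijective_localRingHom
  · rintro a ⟨u, hu, hua⟩
    obtain ⟨⟨f, m⟩, hfm⟩ := IsLocalization.surj (M A Z ι) u
    simp only at hfm
    have hf : f z ∉ x.asIdeal := by
      intro h
      have h1 := (F1 f).mpr h
      rw [← hfm] at h1
      rcases w.isPrime.mem_or_mem h1 with h2 | h2
      · exact hu h2
      · exact hMw m h2
    have h0 : algebraMap (LocallyConstant Z A) (Bw A Z ι)
        (f * algebraMap A (LocallyConstant Z A) a) = 0 := by
      rw [map_mul, ← hfm, ← IsScalarTower.algebraMap_apply A (LocallyConstant Z A) (Bw A Z ι)]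
      calc u * algebraMap _ (Bw A Z ι) (m : LocallyConstant Z A) * algebraMap A (Bw A Z ι) a
          = algebraMap _ (Bw A Z ι) (m : LocallyConstant Z A) * (u * algebraMap A (Bw A Z ι) a) := by
            ring
        _ = 0 := by rw [hua, mul_zero]
    rw [IsLocalization.map_eq_zero_iff (M A Z ι)] at h0
    obtain ⟨m', hm'⟩ := h0
    have h2 := congrArg (fun k : LocallyConstant Z A => k z) hm'
    have h3 : (m' : LocallyConstant Z A) z * (f z * a) = 0 := h2
    refine ⟨(m' : LocallyConstant Z A) z * f z, ?_, by rw [mul_assoc]; exact h3⟩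
    rw [F2]
    exact x.isPrime.mul_notMem (hMz m') hf
  · intro b
    obtain ⟨⟨f, m⟩, hfm⟩ := IsLocalization.surj (M A Z ι) b
    simp only at hfm
    have hU1 : IsClopen (f ⁻¹' {f z}) := f.isLocallyConstant.isClopen_fiber _
    have hU2 : IsClopen ((m : LocallyConstant Z A) ⁻¹' {(m : LocallyConstant Z A) z}) :=
      (m : LocallyConstant Z A).isLocallyConstant.isClopen_fiber _
    have hU := hU1.inter hU2
    refine ⟨f z, (m : LocallyConstant Z A) z, ?_, algebraMap _ (Bw A Z ι)
      (LocallyConstant.charFn A hU), ?_, ?_⟩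
    · rw [F2]
      exact hMz m
    · rw [F1]
      have hz : z ∈ f ⁻¹' {f z} ∩ (m : LocallyConstant Z A) ⁻¹' {(m : LocallyConstant Z A) z} :=
        ⟨rfl, rfl⟩
      have : LocallyConstant.charFn A hU z = 1 := by
        simp [LocallyConstant.charFn, hz]
      rw [this]
      exact x.isPrime.one_notMem
    · have hzero : LocallyConstant.charFn A hU *
          (algebraMap A (LocallyConstant Z A) ((m : LocallyConstant Z A) z) * f -
            algebraMap A (LocallyConstant Z A) (f z) * m) = 0 := by
        ext s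
        by_cases hs : s ∈ f ⁻¹' {f z} ∩
            (m : LocallyConstant Z A) ⁻¹' {(m : LocallyConstant Z A) z}
        · have h1 : f s = f z := hs.1
          have h2 : (m : LocallyConstant Z A) s = (m : LocallyConstant Z A) z := hs.2
          have h3 : ∀ r : A, (algebraMap A (LocallyConstant Z A) r) s = r := fun r => rfl
          rw [LocallyConstant.mul_apply, LocallyConstant.sub_apply, LocallyConstant.mul_apply,
            LocallyConstant.mul_apply, h1, h2, h3, h3, mul_comm (f z), sub_self, mul_zero]
          rfl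
        · simp [LocallyConstant.charFn, hs]
      have hu : IsUnit (algebraMap (LocallyConstant Z A) (Bw A Z ι) m) :=
        IsLocalization.map_units _ m
      apply hu.mul_left_cancel
      rw [mul_zero]
      have := congrArg (algebraMap (LocallyConstant Z A) (Bw A Z ι)) hzero
      rw [map_mul, map_sub, map_mul, map_mul, map_zero, ← hfm,
        ← IsScalarTower.algebraMap_apply A (LocallyConstant Z A) (Bw A Z ι),
        ← IsScalarTower.algebraMap_apply A (LocallyConstant Z A) (Bw A Z ι)] at this
      rw [← this]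
      ring

end Groth.Agent.Lib.Helper20.WLoc
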