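import Mathlib
import Groth.Prelude.Def_ProEtW
import Groth.Agent.Lib.Helper20.WLocal
import Groth.Agent.Lib.Helper20.PiZero

namespace Groth.Agent.Lib.Helper20.WLocRetr

open Topology

universe u

variable {Y : Type u} [TopologicalSpace Y] (hY : ProEtW.IsWLocal Y)

/-- the closed specialization of a point -/
noncomputable def cl (y : Y) : Y := (hY.2.2 y).choose

theorem isClosed_cl (y : Y) : IsClosed ({cl hY y} : Set Y) := (hY.2.2 y).choose_spec.1.1

theorem specializes_cl (y : Y) : y ⤳ cl hY y := (hY.2.2 y).choose_spec.1.2

theorem cl_unique {y c : Y} (hc : IsClosed ({c} : Set Y)) (h : y ⤳ c) : c = cl hY y :=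
  (hY.2.2 y).choose_spec.2 c ⟨hc, h⟩

theorem cl_of_isClosed {y : Y} (hy : IsClosed ({y} : Set Y)) : cl hY y = y :=
  (cl_unique hY hy specializes_rfl).symm

theorem cl_eq_of_specializes {y y' : Y} (h : y ⤳ y') : cl hY y = cl hY y' :=
  (cl_unique hY (isClosed_cl hY y') (h.trans (specializes_cl hY y'))).symm

theorem mk_eq_of_specializes {W : Type*} [TopologicalSpace W] {x y : W} (h : x ⤳ y) :
    _root_.ConnectedComponents.mk x = _root_.ConnectedComponents.mk y := by
  rw [ConnectedComponents.coe_eq_coe']
  have h1 : IsPreconnected (closure ({x} : Set W)) := isPreconnected_singleton.closure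
  have h2 : y ∈ closure ({x} : Set W) := specializes_iff_mem_closure.mp h
  have h3 : x ∈ closure ({x} : Set W) := subset_closure rfl
  have := h1.subset_connectedComponent h3 h2
  rw [← connectedComponent_eq this]
  exact mem_connectedComponent

include hY in
/-- closed points are homeomorphic to connected components -/
noncomputable def homeo : {y : Y // IsClosed ({y} : Set Y)} ≃ₜ _root_.ConnectedComponents Y := by
  haveI : SpectralSpace Y := hY.1
  haveI := PiZero.t2Space_connectedComponents Y
  have hY₀ : IsClosed {y : Y | IsClosed ({y} : Set Y)} := hY.2.1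
  haveI : CompactSpace {y : Y // IsClosed ({y} : Set Y)} :=
    isCompact_iff_compactSpace.mp hY₀.isCompact
  let κ : {y : Y // IsClosed ({y} : Set Y)} → _root_.ConnectedComponents Y :=
    fun y => _root_.ConnectedComponents.mk y.1
  have hκ : Continuous κ := ConnectedComponents.continuous_coe.comp continuous_subtype_val
  have hbij : Function.Bijective κ :=
    WLocal.bijective_closedPoints_connectedComponents hY.2.1 hY.2.2
  let e : {y : Y // IsClosed ({y} : Set Y)} ≃ _root_.ConnectedComponents Y :=
    Equiv.ofBijective κ hbij
  have he : Continuous e := hκ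
  exact he.homeoOfEquivCompactToT2

theorem homeo_apply (y : {y : Y // IsClosed ({y} : Set Y)}) :
    homeo hY y = _root_.ConnectedComponents.mk y.1 := rfl

theorem homeo_symm_mk (y : Y) :
    (homeo hY).symm (_root_.ConnectedComponents.mk y) = ⟨cl hY y, isClosed_cl hY y⟩ := by
  have h1 : homeo hY ⟨cl hY y, isClosed_cl hY y⟩ = _root_.ConnectedComponents.mk y :=
    (mk_eq_of_specializes (specializes_cl hY y)).symm
  rw [← h1, (homeo hY).symm_apply_apply]

include hY in
theorem t2Space_closedPoints : T2Space {y : Y // IsClosed ({y} : Set Y)} := by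
  have : SpectralSpace Y := hY.1
  have := PiZero.t2Space_connectedComponents Y
  exact (homeo hY).symm.t2Space

include hY in
theorem compactSpace_closedPoints : CompactSpace {y : Y // IsClosed ({y} : Set Y)} := by
  have : SpectralSpace Y := hY.1
  exact isCompact_iff_compactSpace.mp (IsClosed.isCompact hY.2.1)

/-- the retraction onto closed points -/
noncomputable def retr (y : Y) : {y : Y // IsClosed ({y} : Set Y)} :=
  (homeo hY).symm (_root_.ConnectedComponents.mk y)

theorem retr_continuous : Continuous (retr hY) :=
  (homeo hY).symm.continuous.comp ConnectedComponents.continuous_coe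

theorem retr_val (y : Y) : (retr hY y).1 = cl hY y := by
  unfold retr
  rw [homeo_symm_mk]

theorem cl_continuous : Continuous (cl hY) := by
  have : cl hY = Subtype.val ∘ retr hY := by
    funext y
    exact (retr_val hY y).symm
  rw [this]
  exact continuous_subtype_val.comp (retr_continuous hY)

/-- a spectral map from a profinite space is continuous for the constructible topology -/
theorem continuous_toCons {P X : Type*} [TopologicalSpace P] [T2Space P] [TopologicalSpace X]
    (σ : P → X) (hσ : Continuous σ) (hσ' : ∀ K : Set X, IsOpen K → IsCompact K →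
      IsCompact (σ ⁻¹' K)) :
    Continuous (fun p => (WithTopology.toTopology _ (σ p) : WithConstructibleTopology X)) := by
  have : Continuous[_, constructibleTopology X] σ := by
    rw [continuous_generateFrom_iff]
    rintro s hs
    rcases hs with ⟨hso, hsc⟩ | ⟨hso, hsc⟩
    · exact hσ.isOpen_preimage _ hso
    · have h1 : IsCompact (σ ⁻¹' sᶜ) := hσ' _ hso.isOpen_compl hsc
      have h2 : IsClosed (σ ⁻¹' sᶜ) := h1.isClosed
      rw [Set.preimage_compl, isClosed_compl_iff] at h2
      exact h2
  exact @Continuous.comp P X (WithConstructibleTopology X) _ (constructibleTopology X) _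
    σ (WithTopology.toTopology _) (WithTopology.continuous_toTopology _) this

end Groth.Agent.Lib.Helper20.WLocRetr
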