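import Mathlib
import Groth.Prelude.Def_PBC
import Groth.Prelude.Def_ProEtW
import Groth.Agent.Lib.Helper20.WLoc5
import Groth.Agent.Lib.Helper20.WLocRetr
import Groth.Agent.Lib.Helper20.ProConsSpec

namespace Groth.Agent.Lib.Helper20.WLocAlg

open Topology Groth.Agent.Lib.Helper20.WLoc

universe u

/-- a spectral space all of whose points are closed is Hausdorff -/
theorem t2Space_of_forall_isClosed (X : Type u) [TopologicalSpace X] [SpectralSpace X]
    (h : ∀ x : X, IsClosed ({x} : Set X)) : T2Space X := by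
  have hW : ProEtW.IsWLocal X := by
    refine ⟨inferInstance, ?_, ?_⟩
    · have : {x : X | IsClosed ({x} : Set X)} = Set.univ := by
        ext x
        simp [h x]
      rw [this]
      exact isClosed_univ
    · intro x
      refine ⟨x, ⟨h x, specializes_rfl⟩, ?_⟩
      rintro y ⟨-, hxy⟩
      have := specializes_iff_mem_closure.mp hxy
      rw [(h x).closure_eq] at this
      exact this
  haveI := WLocRetr.t2Space_closedPoints hW
  let e : X → {y : X // IsClosed ({y} : Set X)} := fun x => ⟨x, h x⟩
  have he : IsEmbedding e := by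
    have h0 : IsEmbedding (Subtype.val ∘ e) := IsEmbedding.id
    exact IsEmbedding.of_comp (by fun_prop) continuous_subtype_val h0
  exact he.t2Space

variable (R : Type u) [CommRing R] (J : Ideal R)

theorem isProfinite_zeroLocus
    (h : PrimeSpectrum.zeroLocus (R := R) J ⊆ ProEtW.closedPoints (PrimeSpectrum R)) :
    ProEtW.IsProfinite (PrimeSpectrum.zeroLocus (R := R) J) := by
  have hcl : ∀ z : PrimeSpectrum (R ⧸ J), IsClosed ({z} : Set (PrimeSpectrum (R ⧸ J))) := by
    intro z
    have h1 : IsClosed ({iotaQ R J z} : Set (PrimeSpectrum R)) := by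
      apply h
      rw [← range_iotaQ]
      exact ⟨z, rfl⟩
    have h2 : ({z} : Set (PrimeSpectrum (R ⧸ J))) = iotaQ R J ⁻¹' {iotaQ R J z} := by
      ext w
      simp only [Set.mem_singleton_iff, Set.mem_preimage]
      exact ⟨fun hw => by rw [hw], fun hw => (iotaQ_isEmbedding R J).injective hw⟩
    rw [h2]
    exact h1.preimage (iotaQ_isEmbedding R J).continuous
  haveI : T2Space (PrimeSpectrum (R ⧸ J)) := t2Space_of_forall_isClosed _ hcl
  haveI : TotallyDisconnectedSpace (PrimeSpectrum (R ⧸ J)) := inferInstance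
  let e : PrimeSpectrum (R ⧸ J) → PrimeSpectrum.zeroLocus (R := R) J :=
    fun z => ⟨iotaQ R J z, by rw [← range_iotaQ]; exact ⟨z, rfl⟩⟩
  have he : IsEmbedding e := (iotaQ_isEmbedding R J).codRestrict _ _
  have hes : Function.Surjective e := by
    rintro ⟨w, hw⟩
    rw [← range_iotaQ] at hw
    obtain ⟨z, rfl⟩ := hw
    exact ⟨z, rfl⟩
  let E : PrimeSpectrum (R ⧸ J) ≃ₜ PrimeSpectrum.zeroLocus (R := R) J :=
    he.toHomeomorphOfSurjective hes
  refine ⟨?_, E.t2Space, ?_⟩
  · exact isCompact_iff_compactSpace.mp (PrimeSpectrum.isClosed_zeroLocus _).isCompact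
  · rw [totallyDisconnectedSpace_subtype_iff, ← range_iotaQ,
      (iotaQ_isEmbedding R J).isTotallyDisconnected_range]
    infer_instance

/-- over a closed point, algebraic residue field extensions give closed points -/
theorem isMaximal_of_algebraic {A B : Type u} [CommRing A] [CommRing B] [Algebra A B]
    (h : ProEtW.AlgebraicResidueExtensions A B) (q : Ideal B) [q.IsPrime]
    (hp : (q.comap (algebraMap A B)).IsMaximal) : q.IsMaximal := by
  letI : Field (A ⧸ q.comap (algebraMap A B)) := Ideal.Quotient.field _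
  haveI : Algebra.IsAlgebraic (A ⧸ q.comap (algebraMap A B)) (B ⧸ q) := h q
  haveI : Algebra.IsIntegral (A ⧸ q.comap (algebraMap A B)) (B ⧸ q) :=
    Algebra.IsAlgebraic.isIntegral
  have hF : IsField (B ⧸ q) :=
    isField_of_isIntegral_of_isField' (R := A ⧸ q.comap (algebraMap A B)) (Field.toIsField _)
  exact Ideal.Quotient.maximal_of_isField _ hF

theorem main (A B : Type u) [CommRing A]
    [CommRing B] [Algebra A B] (I : Ideal A)
    (hI0 : PrimeSpectrum.zeroLocus (R := A) I = ProEtW.closedPoints (PrimeSpectrum A))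
    (h : ProEtW.AlgebraicResidueExtensions A B) :
    PrimeSpectrum.zeroLocus (R := B) (I.map (algebraMap A B)) ⊆ ProEtW.closedPoints (PrimeSpectrum B) ∧
    ∃ (C : Type u) (_ : CommRing C) (_ : Algebra B C) (_ : Algebra A C) (_ : IsScalarTower A B C),
      EtPBC.IsIndZariski B C ∧
      Function.Bijective (Ideal.quotientMap ((I.map (algebraMap A B)).map (algebraMap B C))
        (algebraMap B C) Ideal.le_comap_map) ∧
      ProEtW.IsWLocal (PrimeSpectrum C) ∧
      ProEtW.IsWLocalMap (PrimeSpectrum.comap (algebraMap A C)) ∧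
      ProEtW.closedPoints (PrimeSpectrum C) =
        PrimeSpectrum.comap (algebraMap A C) ⁻¹' ProEtW.closedPoints (PrimeSpectrum A) := by
  have h1 : PrimeSpectrum.zeroLocus (R := B) (I.map (algebraMap A B)) ⊆
      ProEtW.closedPoints (PrimeSpectrum B) := by
    intro q hq
    show IsClosed ({q} : Set (PrimeSpectrum B))
    rw [PrimeSpectrum.isClosed_singleton_iff_isMaximal]
    apply isMaximal_of_algebraic h
    have hp : (⟨q.asIdeal.comap (algebraMap A B), inferInstance⟩ : PrimeSpectrum A) ∈
        PrimeSpectrum.zeroLocus (R := A) I := by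
      rw [PrimeSpectrum.mem_zeroLocus, SetLike.coe_subset_coe] at hq ⊢
      exact Ideal.map_le_iff_le_comap.mp hq
    rw [hI0] at hp
    exact (PrimeSpectrum.isClosed_singleton_iff_isMaximal _).mp hp
  refine ⟨h1, ?_⟩
  obtain ⟨C, _, _, hCind, hCw, hCcl, hCbij⟩ :=
    exists_wLocal_along B (I.map (algebraMap A B)) (isProfinite_zeroLocus B _ h1)
  letI : Algebra A C := ((algebraMap B C).comp (algebraMap A B)).toAlgebra
  haveI : IsScalarTower A B C := IsScalarTower.of_algebraMap_eq (fun _ => rfl)
  have hcl : ProEtW.closedPoints (PrimeSpectrum C) =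
      PrimeSpectrum.comap (algebraMap A C) ⁻¹' ProEtW.closedPoints (PrimeSpectrum A) := by
    rw [hCcl, ← hI0, PrimeSpectrum.preimage_comap_zeroLocus, Ideal.map_map,
      ← IsScalarTower.algebraMap_eq]
    rw [← PrimeSpectrum.zeroLocus_span (algebraMap A C '' (I : Set A))]
    rfl
  refine ⟨C, inferInstance, inferInstance, inferInstance, inferInstance, hCind, hCbij, hCw,
    ⟨?_, ?_⟩, hcl⟩
  · exact Groth.Agent.Lib.Helper20.ProConsSpec.isSpectralMap_comap _
  · intro x hx
    have : x ∈ ProEtW.closedPoints (PrimeSpectrum C) := hx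
    rw [hcl] at this
    exact this

end Groth.Agent.Lib.Helper20.WLocAlg
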