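import Mathlib
import Groth.Prelude.Def_ProEtW
import Groth.Prelude.Def_PBC
import Groth.Agent.Lib.Helper20.WLocal

/-! A ring map identifying local rings between w-local rings, w-local on spectra and bijective
on π₀, is bijective. -/

set_option autoImplicit false

namespace Groth.Agent.Lib.Helper20.WLocIso

open Set Function TopologicalSpace Topology
open Groth.Agent.Lib.Helper20.WLocal

universe u

section Top

variable {X Y : Type u} [TopologicalSpace X] [TopologicalSpace Y]

theorem exists_closed_lift (hX : ProEtW.IsWLocal X) (hY : ProEtW.IsWLocal Y) {f : Y → X}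
    (hfc : Continuous f) (hf : ProEtW.IsWLocalMap f)
    (h5 : Function.Bijective hfc.connectedComponentsMap) (x : X) (hx : IsClosed ({x} : Set X)) :
    ∃ y, IsClosed ({y} : Set Y) ∧ f y = x := by
  obtain ⟨hXs, hXc, hXu⟩ := hX
  obtain ⟨hYs, hYc, hYu⟩ := hY
  haveI := hXs
  haveI := hYs
  obtain ⟨c, hc⟩ := h5.2 (_root_.ConnectedComponents.mk x)
  obtain ⟨⟨y, hy⟩, hyc⟩ := (bijective_closedPoints_connectedComponents hYc hYu).2 c
  simp only at hyc
  refine ⟨y, hy, ?_⟩
  have h1 : _root_.ConnectedComponents.mk (f y) = _root_.ConnectedComponents.mk x := by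
    rw [← hc, ← hyc, Continuous.connectedComponentsMap_mk]
  have hfy : IsClosed ({f y} : Set X) := hf.2 y hy
  have := (bijective_closedPoints_connectedComponents hXc hXu).1
    (a₁ := ⟨f y, hfy⟩) (a₂ := ⟨x, hx⟩) h1
  exact congrArg Subtype.val this

theorem closed_eq_of_map_eq (hX : ProEtW.IsWLocal X) (hY : ProEtW.IsWLocal Y) {f : Y → X}
    (hfc : Continuous f) (hf : ProEtW.IsWLocalMap f)
    (h5 : Function.Bijective hfc.connectedComponentsMap) {y₁ y₂ c₁ c₂ : Y}
    (hc₁ : IsClosed ({c₁} : Set Y)) (hc₂ : IsClosed ({c₂} : Set Y)) (h₁ : y₁ ⤳ c₁) (h₂ : y₂ ⤳ c₂)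
    (h : f y₁ = f y₂) : c₁ = c₂ := by
  obtain ⟨hXs, hXc, hXu⟩ := hX
  obtain ⟨hYs, hYc, hYu⟩ := hY
  haveI := hXs
  haveI := hYs
  have hf₁ : IsClosed ({f c₁} : Set X) := hf.2 c₁ hc₁
  have hf₂ : IsClosed ({f c₂} : Set X) := hf.2 c₂ hc₂
  have hs₁ : f y₁ ⤳ f c₁ := h₁.map hfc
  have hs₂ : f y₁ ⤳ f c₂ := h ▸ h₂.map hfc
  have heq : f c₁ = f c₂ := (hXu (f y₁)).unique ⟨hf₁, hs₁⟩ ⟨hf₂, hs₂⟩
  have h1 : hfc.connectedComponentsMap (_root_.ConnectedComponents.mk c₁) =
      hfc.connectedComponentsMap (_root_.ConnectedComponents.mk c₂) := by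
    rw [Continuous.connectedComponentsMap_mk, Continuous.connectedComponentsMap_mk, heq]
  have h2 := h5.1 h1
  have := (bijective_closedPoints_connectedComponents hYc hYu).1
    (a₁ := ⟨c₁, hc₁⟩) (a₂ := ⟨c₂, hc₂⟩) h2
  exact congrArg Subtype.val this

end Top

section Alg

variable {A B : Type u} [CommRing A] [CommRing B] [Algebra A B]

theorem comp_eq (n : Ideal B) [n.IsPrime] :
    (Localization.localRingHom (n.comap (algebraMap A B)) n (algebraMap A B) rfl).comp
      (algebraMap A (Localization.AtPrime (n.comap (algebraMap A B)))) =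
    (algebraMap B (Localization.AtPrime n)).comp (algebraMap A B) :=
  RingHom.ext fun x => Localization.localRingHom_to_map _ _ _ rfl x

/-- generizations lift -/
theorem exists_prime_le (n : Ideal B) [n.IsPrime]
    (h : Function.Bijective
      (Localization.localRingHom (n.comap (algebraMap A B)) n (algebraMap A B) rfl))
    (p : Ideal A) [hp : p.IsPrime] (hpn : p ≤ n.comap (algebraMap A B)) :
    ∃ q' : Ideal B, q'.IsPrime ∧ q' ≤ n ∧ q'.comap (algebraMap A B) = p := by
  set m := n.comap (algebraMap A B) with hm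
  let Am := Localization.AtPrime m
  let Bn := Localization.AtPrime n
  have hdisj : Disjoint (m.primeCompl : Set A) (p : Set A) := by
    rw [Set.disjoint_left]
    intro x hx hxp
    exact hx (hpn hxp)
  let P : Ideal Am := Ideal.map (algebraMap A Am) p
  have hPprime : P.IsPrime := IsLocalization.isPrime_of_isPrime_disjoint m.primeCompl Am p hp hdisj
  have hPcomap : P.comap (algebraMap A Am) = p :=
    IsLocalization.under_map_of_isPrime_disjoint m.primeCompl Am hp hdisj
  let e : Am ≃+* Bn := RingEquiv.ofBijective _ h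
  let Q : Ideal Bn := P.comap (e.symm : Bn →+* Am)
  have hQprime : Q.IsPrime := Ideal.comap_isPrime _ P
  refine ⟨Q.comap (algebraMap B Bn), Ideal.comap_isPrime _ Q, ?_, ?_⟩
  · have hle : Q ≤ IsLocalRing.maximalIdeal Bn := IsLocalRing.le_maximalIdeal hQprime.ne_top
    have := Ideal.comap_mono (f := algebraMap B Bn) hle
    rwa [show (IsLocalRing.maximalIdeal Bn).comap (algebraMap B Bn) = n from
      Localization.AtPrime.under_maximalIdeal] at this
  · ext x
    rw [← hPcomap]
    simp only [Ideal.mem_comap]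
    have h1 : algebraMap B Bn (algebraMap A B x) = e (algebraMap A Am x) :=
      (Localization.localRingHom_to_map _ _ _ rfl x).symm
    show e.symm (algebraMap B Bn (algebraMap A B x)) ∈ P ↔ _
    rw [h1, RingEquiv.symm_apply_apply]

/-- generizations of a point are determined by their images -/
theorem eq_of_le_of_comap_eq (n : Ideal B) [n.IsPrime]
    (h : Function.Bijective
      (Localization.localRingHom (n.comap (algebraMap A B)) n (algebraMap A B) rfl))
    (q₁ q₂ : Ideal B) [hq₁ : q₁.IsPrime] [hq₂ : q₂.IsPrime] (h₁ : q₁ ≤ n) (h₂ : q₂ ≤ n)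
    (hc : q₁.comap (algebraMap A B) = q₂.comap (algebraMap A B)) : q₁ = q₂ := by
  set m := n.comap (algebraMap A B) with hm
  let Am := Localization.AtPrime m
  let Bn := Localization.AtPrime n
  let ψ := Localization.localRingHom m n (algebraMap A B) rfl
  have hd : ∀ q : Ideal B, q ≤ n → Disjoint (n.primeCompl : Set B) (q : Set B) := by
    intro q hq
    rw [Set.disjoint_left]
    intro x hx hxq
    exact hx (hq hxq)
  have hQ : ∀ q : Ideal B, q.IsPrime → q ≤ n →
      (Ideal.map (algebraMap B Bn) q).comap (algebraMap B Bn) = q := fun q hqp hq =>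
    IsLocalization.under_map_of_isPrime_disjoint n.primeCompl Bn hqp (hd q hq)
  have key : ∀ q : Ideal B, q.IsPrime → q ≤ n →
      ((Ideal.map (algebraMap B Bn) q).comap ψ).comap (algebraMap A Am) =
        q.comap (algebraMap A B) := by
    intro q hqp hq
    rw [Ideal.comap_comap, comp_eq n, ← Ideal.comap_comap, hQ q hqp hq]
  have hP : (Ideal.map (algebraMap B Bn) q₁).comap ψ = (Ideal.map (algebraMap B Bn) q₂).comap ψ := by
    rw [← IsLocalization.map_under m.primeCompl Am ((Ideal.map (algebraMap B Bn) q₁).comap ψ),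
      ← IsLocalization.map_under m.primeCompl Am ((Ideal.map (algebraMap B Bn) q₂).comap ψ)]
    show Ideal.map _ (Ideal.comap _ _) = Ideal.map _ (Ideal.comap _ _)
    rw [key q₁ hq₁ h₁, key q₂ hq₂ h₂, hc]
  have hQeq : Ideal.map (algebraMap B Bn) q₁ = Ideal.map (algebraMap B Bn) q₂ := by
    rw [← Ideal.map_comap_of_surjective ψ h.2 (Ideal.map (algebraMap B Bn) q₁),
      ← Ideal.map_comap_of_surjective ψ h.2 (Ideal.map (algebraMap B Bn) q₂), hP]
  rw [← hQ q₁ hq₁ h₁, ← hQ q₂ hq₂ h₂, hQeq]

theorem bijective_of_local (hI : EtPBC.IdentifiesLocalRings A B)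
    (hmax : ∀ m : Ideal A, m.IsMaximal → ∃ n : Ideal B, n.IsPrime ∧ n.comap (algebraMap A B) = m)
    (hinj : Function.Injective (PrimeSpectrum.comap (algebraMap A B))) :
    Function.Bijective (algebraMap A B) := by
  -- primes over generizations of a point lie below that point
  have hD : ∀ (n : Ideal B) [n.IsPrime] (q : Ideal B) [q.IsPrime],
      q.comap (algebraMap A B) ≤ n.comap (algebraMap A B) → q ≤ n := by
    intro n hn q hq hle
    obtain ⟨q', hq'p, hq'n, hq'c⟩ := exists_prime_le n (hI ⟨n, hn⟩) (q.comap (algebraMap A B)) hle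
    have : (⟨q', hq'p⟩ : PrimeSpectrum B) = ⟨q, hq⟩ := by
      apply hinj
      apply PrimeSpectrum.ext
      exact hq'c
    have hqq : q' = q := congrArg PrimeSpectrum.asIdeal this
    rw [← hqq]
    exact hq'n
  constructor
  · rw [injective_iff_map_eq_zero]
    intro a ha
    apply eq_zero_of_localization
    intro m hm
    obtain ⟨n, hn, rfl⟩ := hmax m hm
    have hψ := (hI ⟨n, hn⟩).1
    apply hψ
    rw [map_zero]
    have := Localization.localRingHom_to_map (n.comap (algebraMap A B)) n (algebraMap A B) rfl a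
    rw [ha, map_zero] at this
    exact this
  · intro b
    by_contra hb
    let I : Ideal A :=
      { carrier := {a | algebraMap A B a * b ∈ Set.range (algebraMap A B)}
        zero_mem' := ⟨0, by simp⟩
        add_mem' := by
          rintro a₁ a₂ ⟨c₁, h₁⟩ ⟨c₂, h₂⟩
          exact ⟨c₁ + c₂, by rw [map_add, map_add, add_mul, h₁, h₂]⟩
        smul_mem' := by
          rintro c a ⟨c₁, h₁⟩
          exact ⟨c * c₁, by rw [smul_eq_mul, map_mul, map_mul, mul_assoc, h₁]⟩ }
    have hI1 : I ≠ ⊤ := by
      intro htop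
      have : (1 : A) ∈ I := htop ▸ Submodule.mem_top
      obtain ⟨c, hc⟩ := this
      rw [map_one, one_mul] at hc
      exact hb ⟨c, hc⟩
    obtain ⟨m, hm, hIm⟩ := Ideal.exists_le_maximal I hI1
    obtain ⟨n, hn, rfl⟩ := hmax m hm
    have hψ := (hI ⟨n, hn⟩).2
    obtain ⟨z, hz⟩ := hψ (algebraMap B (Localization.AtPrime n) b)
    obtain ⟨a, s, rfl⟩ := IsLocalization.exists_mk'_eq (n.comap (algebraMap A B)).primeCompl z
    rw [Localization.localRingHom_mk', IsLocalization.mk'_eq_iff_eq_mul, ← map_mul,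
      IsLocalization.eq_iff_exists n.primeCompl] at hz
    obtain ⟨t, ht⟩ := hz
    -- c = b * f s - f a is killed by t
    set c : B := b * algebraMap A B s - algebraMap A B a with hc
    have htc : (t : B) * c = 0 := by
      rw [hc, mul_sub, sub_eq_zero]
      exact ht.symm
    let J : Ideal B := (Ideal.span {c}).annihilator
    have htJ : (t : B) ∈ J := by
      rw [Submodule.mem_annihilator_span_singleton]
      exact htc
    -- find u ∉ m with f u ∈ J
    have hex : ∃ u : A, u ∉ n.comap (algebraMap A B) ∧ algebraMap A B u ∈ J := by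
      by_contra hno
      have hdisj : Disjoint (J : Set B)
          (Algebra.algebraMapSubmonoid B (n.comap (algebraMap A B)).primeCompl : Set B) := by
        rw [Set.disjoint_left]
        rintro x hxJ ⟨u, hu, rfl⟩
        exact hno ⟨u, hu, hxJ⟩
      obtain ⟨q, hq, hJq, hqd⟩ := Ideal.exists_le_prime_disjoint J _ hdisj
      have hqle : q.comap (algebraMap A B) ≤ n.comap (algebraMap A B) := by
        intro x hx
        by_contra hxn
        exact Set.disjoint_left.mp hqd hx ⟨x, hxn, rfl⟩
      have hqn : q ≤ n := hD n q hqle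
      exact t.2 (hqn (hJq htJ))
    obtain ⟨u, hu, huJ⟩ := hex
    rw [Submodule.mem_annihilator_span_singleton] at huJ
    have hus : u * s ∈ I := by
      refine ⟨u * a, ?_⟩
      have : algebraMap A B u * (b * algebraMap A B s - algebraMap A B a) = 0 := huJ
      rw [mul_sub, sub_eq_zero] at this
      rw [map_mul, map_mul, ← this]
      ring
    have := hIm hus
    rcases (Ideal.IsPrime.mem_or_mem inferInstance this) with h | h
    · exact hu h
    · exact s.2 h

end Alg

theorem main (A B : Type u) [CommRing A] [CommRing B]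
    [Algebra A B] (h1 : EtPBC.IdentifiesLocalRings A B) (h2 : ProEtW.IsWLocal (PrimeSpectrum A))
    (h3 : ProEtW.IsWLocal (PrimeSpectrum B))
    (h4 : ProEtW.IsWLocalMap (PrimeSpectrum.comap (algebraMap A B)))
    (h5 : Function.Bijective
      (PrimeSpectrum.continuous_comap (algebraMap A B)).connectedComponentsMap) :
    Function.Bijective (algebraMap A B) := by
  apply bijective_of_local h1
  · intro m hm
    obtain ⟨y, _, hy⟩ := exists_closed_lift h2 h3 (PrimeSpectrum.continuous_comap _) h4 h5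
      ⟨m, hm.isPrime⟩ ((PrimeSpectrum.isClosed_singleton_iff_isMaximal _).mpr hm)
    exact ⟨y.asIdeal, y.isPrime, congrArg PrimeSpectrum.asIdeal hy⟩
  · intro y₁ y₂ h
    obtain ⟨c₁, ⟨hc₁, hs₁⟩, _⟩ := h3.2.2 y₁
    obtain ⟨c₂, ⟨hc₂, hs₂⟩, _⟩ := h3.2.2 y₂
    have hcc := closed_eq_of_map_eq h2 h3 (PrimeSpectrum.continuous_comap _) h4 h5 hc₁ hc₂ hs₁ hs₂ h
    subst hcc
    have hle₁ : y₁.asIdeal ≤ c₁.asIdeal := (PrimeSpectrum.le_iff_specializes y₁ c₁).mpr hs₁
    have hle₂ : y₂.asIdeal ≤ c₁.asIdeal := (PrimeSpectrum.le_iff_specializes y₂ c₁).mpr hs₂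
    haveI := c₁.isPrime
    haveI := y₁.isPrime
    haveI := y₂.isPrime
    apply PrimeSpectrum.ext
    exact eq_of_le_of_comap_eq c₁.asIdeal (h1 c₁) y₁.asIdeal y₂.asIdeal hle₁ hle₂
      (congrArg PrimeSpectrum.asIdeal h)

end Groth.Agent.Lib.Helper20.WLocIso
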