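import Mathlib
import Groth.Prelude.Def_PBC
import Groth.Prelude.Def_ProEtW

namespace Groth.Agent.Lib.Helper20.WLocMisc

open CategoryTheory CategoryTheory.Limits Topology

universe u

theorem isClosed_singleton_homeomorph {W W' : Type*} [TopologicalSpace W] [TopologicalSpace W']
    (h : W ≃ₜ W') (w : W) : IsClosed ({h w} : Set W') ↔ IsClosed ({w} : Set W) := by
  rw [← h.isClosed_image, Set.image_singleton]

theorem isWLocal_of_homeomorph {W W' : Type u} [TopologicalSpace W] [TopologicalSpace W']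
    (h : W ≃ₜ W') [SpectralSpace W] (hW' : ProEtW.IsWLocal W') : ProEtW.IsWLocal W := by
  obtain ⟨-, hcl, huniq⟩ := hW'
  refine ⟨inferInstance, ?_, ?_⟩
  · have : {x : W | IsClosed ({x} : Set W)} = h ⁻¹' {x' : W' | IsClosed ({x'} : Set W')} := by
      ext w
      exact (isClosed_singleton_homeomorph h w).symm
    rw [this]
    exact hcl.preimage h.continuous
  · intro w
    obtain ⟨c', ⟨hc'1, hc'2⟩, hc'u⟩ := huniq (h w)
    refine ⟨h.symm c', ⟨?_, ?_⟩, ?_⟩
    · rw [← isClosed_singleton_homeomorph h, h.apply_symm_apply]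
      exact hc'1
    · rw [← h.isInducing.specializes_iff, h.apply_symm_apply]
      exact hc'2
    · rintro c ⟨hc1, hc2⟩
      have := hc'u (h c) ⟨(isClosed_singleton_homeomorph h c).mpr hc1,
        h.isInducing.specializes_iff.mpr hc2⟩
      rw [← this, h.symm_apply_apply]

theorem isIndZariski_of_algEquiv (A B B' : Type u) [CommRing A] [CommRing B] [CommRing B']
    [Algebra A B] [Algebra A B'] (e : B ≃ₐ[A] B') (hB : EtPBC.IsIndZariski A B) :
    EtPBC.IsIndZariski A B' := by
  obtain ⟨J, hJ, hJf, D, c, hc, hloc, ⟨i⟩⟩ := hB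
  refine ⟨J, hJ, hJf, D, c, hc, hloc, ⟨i ≪≫ ?_⟩⟩
  exact Under.isoMk (e.toRingEquiv.toCommRingCatIso) (by
    ext a
    exact e.commutes a)

end Groth.Agent.Lib.Helper20.WLocMisc
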