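import Mathlib
import Groth.Prelude.Def_PBC
import Groth.Prelude.Def_ProEtW
import Groth.Agent.Lib.Helper20.WLoc3
import Groth.Agent.Lib.Helper20.WLocRetr
import Groth.Agent.Lib.Helper20.Glue
import Groth.Agent.Lib.Helper20.ProConsSpec

namespace Groth.Agent.Lib.Helper20.WLoc

open Groth.Agent.Lib.Helper20.SpecLC Groth.Agent.Lib.Helper20.Glue
  Groth.Agent.Lib.Helper20.WLocRetr Topology

universe u

theorem ringHom_ext_LC {A : Type u} [CommRing A] {Z : Type u} [TopologicalSpace Z] [CompactSpace Z]
    {R : Type*} [CommRing R] (ψ₁ ψ₂ : LocallyConstant Z A →+* R)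
    (hc : ∀ a : A, ψ₁ (algebraMap A (LocallyConstant Z A) a) =
      ψ₂ (algebraMap A (LocallyConstant Z A) a))
    (hχ : ∀ (U : Set Z) (hU : IsClopen U), ψ₁ (LocallyConstant.charFn A hU) =
      ψ₂ (LocallyConstant.charFn A hU)) : ψ₁ = ψ₂ := by
  ext f
  have key : ∃ (U : Set Z) (hU : IsClopen U), Set.univ ⊆ U ∧
      ψ₁ (f * LocallyConstant.charFn A hU) = ψ₂ (f * LocallyConstant.charFn A hU) := by
    refine isCompact_univ.induction_on
      (p := fun S => ∃ (U : Set Z) (hU : IsClopen U), S ⊆ U ∧
        ψ₁ (f * LocallyConstant.charFn A hU) = ψ₂ (f * LocallyConstant.charFn A hU)) ?_ ?_ ?_ ?_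
    · refine ⟨∅, isClopen_empty, subset_rfl, ?_⟩
      have : LocallyConstant.charFn A (isClopen_empty (X := Z)) = 0 := by
        ext t
        simp [LocallyConstant.charFn]
      rw [this, mul_zero, map_zero, map_zero]
    · rintro S S' hSS' ⟨U, hU, hS'U, hq⟩
      exact ⟨U, hU, hSS'.trans hS'U, hq⟩
    · rintro S S' ⟨U, hU, hSU, hq⟩ ⟨V, hV, hSV, hq'⟩
      refine ⟨U ∪ V, hU.union hV, Set.union_subset_union hSU hSV, ?_⟩
      rw [charFn_union hU hV]
      have : f * (LocallyConstant.charFn A hU + LocallyConstant.charFn A hV -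
          LocallyConstant.charFn A hU * LocallyConstant.charFn A hV) =
          f * LocallyConstant.charFn A hU + f * LocallyConstant.charFn A hV -
            f * LocallyConstant.charFn A hU * LocallyConstant.charFn A hV := by ring
      rw [this, map_sub, map_sub, map_add, map_add, hq, hq',
        map_mul ψ₁ (f * LocallyConstant.charFn A hU) (LocallyConstant.charFn A hV),
        map_mul ψ₂ (f * LocallyConstant.charFn A hU) (LocallyConstant.charFn A hV), hq, hχ V hV]
    · intro z _
      have hU : IsClopen (f ⁻¹' {f z}) := f.isLocallyConstant.isClopen_fiber _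
      refine ⟨f ⁻¹' {f z}, mem_nhdsWithin_of_mem_nhds (hU.isOpen.mem_nhds rfl), _, hU,
        subset_rfl, ?_⟩
      have heq : f * LocallyConstant.charFn A hU =
          algebraMap A (LocallyConstant Z A) (f z) * LocallyConstant.charFn A hU := by
        ext s
        by_cases hs : s ∈ f ⁻¹' {f z}
        · have : f s = f z := hs
          simp [LocallyConstant.charFn, hs, this]
        · simp [LocallyConstant.charFn, hs]
      rw [heq, map_mul, map_mul, hc, hχ _ hU]
  obtain ⟨U, hU, hUu, hq⟩ := key
  have hU' : U = Set.univ := Set.eq_univ_of_univ_subset hUu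
  subst hU'
  have : LocallyConstant.charFn A (isClopen_univ (X := Z)) = 1 := by
    ext t
    simp [LocallyConstant.charFn]
  rw [this, mul_one] at hq
  exact hq

theorem charFn_idem {A : Type*} [CommRing A] {Z : Type*} [TopologicalSpace Z] {U : Set Z}
    (hU : IsClopen U) : IsIdempotentElem (LocallyConstant.charFn A hU) := by
  ext t
  by_cases h : t ∈ U <;> simp [LocallyConstant.charFn, h]

variable (A : Type u) [CommRing A]

/-- the spectrum with the constructible topology -/
abbrev XC : Type u := WithConstructibleTopology (PrimeSpectrum A)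

/-- the w-localization -/
abbrev Aw : Type u := Bw A (XC A) (iotaCons A)

section

variable (B : Type u) [CommRing B] [Algebra A B] (hB : ProEtW.IsWLocal (PrimeSpectrum B))

/-- closed points of `Spec B` mapped to the constructible spectrum -/
noncomputable def sigma (y : {y : PrimeSpectrum B // IsClosed ({y} : Set (PrimeSpectrum B))}) :
    XC A :=
  WithTopology.toTopology _ (PrimeSpectrum.comap (algebraMap A B) y.1)

include hB in
theorem sigma_continuous : Continuous (sigma A B) := by
  have := t2Space_closedPoints hB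
  apply continuous_toCons (fun y : {y : PrimeSpectrum B // IsClosed ({y} : Set (PrimeSpectrum B))} =>
    PrimeSpectrum.comap (algebraMap A B) y.1)
  · exact (PrimeSpectrum.continuous_comap _).comp continuous_subtype_val
  · intro K hKo hKc
    have h1 : IsCompact (PrimeSpectrum.comap (algebraMap A B) ⁻¹' K) :=
      (ProConsSpec.isSpectralMap_comap (algebraMap A B)).isCompact_preimage_of_isOpen hKo hKc
    have hcl : IsClosed {y : PrimeSpectrum B | IsClosed ({y} : Set (PrimeSpectrum B))} := hB.2.1
    exact hcl.isClosedEmbedding_subtypeVal.isCompact_preimage h1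

/-- the map to the constructible spectrum -/
noncomputable def tau : C(PrimeSpectrum B, XC A) :=
  ⟨sigma A B ∘ retr hB, (sigma_continuous A B hB).comp (retr_continuous hB)⟩

theorem iotaCons_tau (y : PrimeSpectrum B) :
    iotaCons A (tau A B hB y) = PrimeSpectrum.comap (algebraMap A B) (cl hB y) := by
  show PrimeSpectrum.comap (algebraMap A B) (retr hB y).1 = _
  rw [retr_val]

/-- the map on locally constant functions -/
noncomputable def phi0 : LocallyConstant (XC A) A →+* B :=
  (glue A B).comp (LocallyConstant.comapRingHom (tau A B hB))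

theorem phi0_algebraMap (a : A) :
    phi0 A B hB (algebraMap A (LocallyConstant (XC A) A) a) = algebraMap A B a :=
  glue_algebraMap a

theorem phi0_mem_iff (f : LocallyConstant (XC A) A) (y : PrimeSpectrum B) :
    phi0 A B hB f ∈ y.asIdeal ↔ algebraMap A B (f (tau A B hB y)) ∈ y.asIdeal :=
  glue_mem_iff _ y

theorem phi0_isUnit (s : M A (XC A) (iotaCons A)) : IsUnit (phi0 A B hB s) := by
  by_contra hnu
  obtain ⟨m, hm, hsm⟩ := exists_max_ideal_of_mem_nonunits hnu
  let y : PrimeSpectrum B := ⟨m, hm.isPrime⟩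
  have hy : IsClosed ({y} : Set (PrimeSpectrum B)) :=
    (PrimeSpectrum.isClosed_singleton_iff_isMaximal y).mpr hm
  have h1 : algebraMap A B ((s : LocallyConstant (XC A) A) (tau A B hB y)) ∈ y.asIdeal :=
    (phi0_mem_iff A B hB _ y).mp hsm
  have h2 := s.2 (tau A B hB y)
  rw [iotaCons_tau, cl_of_isClosed hB hy] at h2
  exact h2 h1

/-- the universal map -/
noncomputable def phiU : Aw A →ₐ[A] B :=
  { IsLocalization.lift (M := M A (XC A) (iotaCons A)) (g := phi0 A B hB)
      (fun s => phi0_isUnit A B hB s) with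
    commutes' := fun a => by
      show IsLocalization.lift _ (algebraMap A (Aw A) a) = _
      rw [IsScalarTower.algebraMap_apply A (LocallyConstant (XC A) A) (Aw A),
        IsLocalization.lift_eq, phi0_algebraMap] }

theorem phiU_algebraMap (f : LocallyConstant (XC A) A) :
    phiU A B hB (algebraMap (LocallyConstant (XC A) A) (Aw A) f) = phi0 A B hB f :=
  IsLocalization.lift_eq _ f

theorem rho_comap_fst (ψ : Aw A →ₐ[A] B) (y : PrimeSpectrum B) :
    (rho A (XC A) (iotaCons A) (PrimeSpectrum.comap ψ.toRingHom y)).1 =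
      PrimeSpectrum.comap (algebraMap A B) y := by
  rw [rho_fst, ← PrimeSpectrum.comap_comp_apply]
  congr 1
  exact ψ.comp_algebraMap

theorem charFn_mem_iff (ψ : Aw A →ₐ[A] B) (y : PrimeSpectrum B) {U : Set (XC A)}
    (hU : IsClopen U) :
    ψ (algebraMap (LocallyConstant (XC A) A) (Aw A) (LocallyConstant.charFn A hU)) ∈ y.asIdeal ↔
      (rho A (XC A) (iotaCons A) (PrimeSpectrum.comap ψ.toRingHom y)).2 ∉ U := by
  rw [← charFn_mem_phi_iff (A := A) (rho A (XC A) (iotaCons A)
    (PrimeSpectrum.comap ψ.toRingHom y)) hU, phi_rho]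
  rfl

theorem snd_eq_of_forall (z z' : XC A)
    (h : ∀ (U : Set (XC A)), IsClopen U → (z ∉ U ↔ z' ∉ U)) : z = z' := by
  by_contra hne
  obtain ⟨U, hU, hzU, hz'U⟩ := exists_isClopen_of_totally_separated hne
  exact ((h U hU).mpr hz'U) hzU

theorem snd_phiU (y : PrimeSpectrum B) :
    (rho A (XC A) (iotaCons A) (PrimeSpectrum.comap (phiU A B hB).toRingHom y)).2 =
      tau A B hB y := by
  apply snd_eq_of_forall
  intro U hU
  rw [← charFn_mem_iff A B (phiU A B hB) y hU, phiU_algebraMap, phi0_mem_iff]
  by_cases h : tau A B hB y ∈ U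
  · have : LocallyConstant.charFn A hU (tau A B hB y) = 1 := by
      simp [LocallyConstant.charFn, h]
    rw [this, map_one]
    simp only [h, not_true_eq_false, iff_false]
    exact y.isPrime.one_notMem
  · have : LocallyConstant.charFn A hU (tau A B hB y) = 0 := by
      simp [LocallyConstant.charFn, h]
    rw [this, map_zero]
    simp [h]

theorem isWLocalMap_phiU :
    ProEtW.IsWLocalMap (PrimeSpectrum.comap (phiU A B hB).toRingHom) := by
  refine ⟨ProConsSpec.isSpectralMap_comap _, ?_⟩
  intro y hy
  rw [isClosed_singleton_iff_mem_cp A (XC A) (iotaCons A) (iotaCons_clopen A)]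
  show (rho A (XC A) (iotaCons A) _).1 = iotaCons A (rho A (XC A) (iotaCons A) _).2
  rw [rho_comap_fst, snd_phiU, iotaCons_tau, cl_of_isClosed hB hy]

theorem snd_of_isWLocalMap (ψ : Aw A →ₐ[A] B)
    (hψ : ProEtW.IsWLocalMap (PrimeSpectrum.comap ψ.toRingHom)) (y : PrimeSpectrum B) :
    (rho A (XC A) (iotaCons A) (PrimeSpectrum.comap ψ.toRingHom y)).2 = tau A B hB y := by
  have h1 : PrimeSpectrum.comap ψ.toRingHom y ⤳ PrimeSpectrum.comap ψ.toRingHom (cl hB y) :=
    (specializes_cl hB y).map (PrimeSpectrum.continuous_comap _)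
  rw [specializes_iff] at h1
  have h2 : IsClosed ({PrimeSpectrum.comap ψ.toRingHom (cl hB y)} : Set (PrimeSpectrum (Aw A))) :=
    hψ.2 _ (isClosed_cl hB y)
  rw [isClosed_singleton_iff_mem_cp A (XC A) (iotaCons A) (iotaCons_clopen A)] at h2
  have h3 : (rho A (XC A) (iotaCons A) (PrimeSpectrum.comap ψ.toRingHom (cl hB y))).1 =
      iotaCons A (rho A (XC A) (iotaCons A) (PrimeSpectrum.comap ψ.toRingHom (cl hB y))).2 := h2
  rw [rho_comap_fst, ← iotaCons_tau] at h3
  rw [h1.2]
  exact ((iotaCons_bijective A).injective h3).symm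

theorem phiU_unique (ψ : Aw A →ₐ[A] B)
    (hψ : ProEtW.IsWLocalMap (PrimeSpectrum.comap ψ.toRingHom)) : ψ = phiU A B hB := by
  apply AlgHom.coe_ringHom_injective
  apply IsLocalization.ringHom_ext (M A (XC A) (iotaCons A))
  apply ringHom_ext_LC
  · intro a
    simp only [RingHom.coe_comp, Function.comp_apply]
    rw [← IsScalarTower.algebraMap_apply A (LocallyConstant (XC A) A) (Aw A)]
    exact (ψ.commutes a).trans ((phiU A B hB).commutes a).symm
  · intro U hU
    simp only [RingHom.coe_comp, Function.comp_apply]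
    have h1 : IsIdempotentElem (ψ (algebraMap (LocallyConstant (XC A) A) (Aw A)
        (LocallyConstant.charFn A hU))) := ((charFn_idem hU).map _).map ψ
    have h2 : IsIdempotentElem (phiU A B hB (algebraMap (LocallyConstant (XC A) A) (Aw A)
        (LocallyConstant.charFn A hU))) := ((charFn_idem hU).map _).map (phiU A B hB)
    apply PrimeSpectrum.basicOpen_injOn_isIdempotentElem h1 h2
    ext y
    show ¬ _ ∈ y.asIdeal ↔ ¬ _ ∈ y.asIdeal
    rw [charFn_mem_iff A B ψ y hU, charFn_mem_iff A B (phiU A B hB) y hU,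
      snd_of_isWLocalMap A B hB ψ hψ, snd_phiU]

end

theorem exists_wLocalization_universal :
    ∃ (Aw : Type u) (_ : CommRing Aw) (_ : Algebra A Aw),
      Module.FaithfullyFlat A Aw ∧ EtPBC.IsIndZariski A Aw ∧
      ProEtW.IsWLocal (PrimeSpectrum Aw) ∧
      ∀ (B : Type u) [CommRing B] [Algebra A B], ProEtW.IsWLocal (PrimeSpectrum B) →
        ∃! φ : Aw →ₐ[A] B, ProEtW.IsWLocalMap (PrimeSpectrum.comap φ.toRingHom) := by
  refine ⟨Aw A, inferInstance, inferInstance,
    faithfullyFlat A _ (iotaCons A) (iotaCons_clopen A) (iotaCons_bijective A).surjective,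
    isIndZariski_Bw A _ (iotaCons A),
    isWLocal A _ (iotaCons A) (iotaCons_clopen A), ?_⟩
  intro B _ _ hB
  exact ⟨phiU A B hB, isWLocalMap_phiU A B hB, fun ψ hψ => phiU_unique A B hB ψ hψ⟩

end Groth.Agent.Lib.Helper20.WLoc
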