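import Mathlib
import Groth.Prelude.Def_PBC
import Groth.Prelude.Def_ProEtW
import Groth.Agent.Lib.Helper20.WLocUniv
import Groth.Agent.Lib.Helper20.WLoc6
import Groth.Agent.Lib.Helper20.WLocIso
import Groth.Agent.Lib.Helper20.IdLocComp
import Groth.Agent.Lib.Helper20.WLocMisc

namespace Groth.Agent.Lib.Helper20.WLocIZ

open Groth.Agent.Lib.Helper20.SpecLC Groth.Agent.Lib.Helper20.Glue
  Groth.Agent.Lib.Helper20.WLocRetr Groth.Agent.Lib.Helper20.WLoc Topology

universe u

/-- cancellation for maps identifying local rings -/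
theorem identifiesLocalRings_cancel (A B C : Type u) [CommRing A] [CommRing B] [CommRing C]
    [Algebra A B] [Algebra B C] [Algebra A C] [IsScalarTower A B C]
    (h1 : EtPBC.IdentifiesLocalRings A B) (h3 : EtPBC.IdentifiesLocalRings A C) :
    EtPBC.IdentifiesLocalRings B C := by
  intro w
  have heq : algebraMap A C = (algebraMap B C).comp (algebraMap A B) :=
    IsScalarTower.algebraMap_eq A B C
  have h3' := IdLocComp.bijective_congr _ _ heq w.asIdeal (h3 w)
  have hcomp := Localization.localRingHom_comp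
    (I := (w.asIdeal.comap (algebraMap B C)).comap (algebraMap A B))
    (w.asIdeal.comap (algebraMap B C)) w.asIdeal (algebraMap A B) rfl (algebraMap B C) rfl
  have h1' := h1 ⟨w.asIdeal.comap (algebraMap B C), Ideal.comap_isPrime _ _⟩
  have h3'' : Function.Bijective (Localization.localRingHom
      ((w.asIdeal.comap (algebraMap B C)).comap (algebraMap A B)) w.asIdeal
      ((algebraMap B C).comp (algebraMap A B)) rfl) := h3'
  rw [hcomp] at h3''
  have h4 : ⇑((Localization.localRingHom (w.asIdeal.comap (algebraMap B C)) w.asIdeal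
      (algebraMap B C) rfl).comp
      (Localization.localRingHom ((w.asIdeal.comap (algebraMap B C)).comap (algebraMap A B))
        (w.asIdeal.comap (algebraMap B C)) (algebraMap A B) rfl)) =
      (Localization.localRingHom (w.asIdeal.comap (algebraMap B C)) w.asIdeal
        (algebraMap B C) rfl) ∘
      (Localization.localRingHom ((w.asIdeal.comap (algebraMap B C)).comap (algebraMap A B))
        (w.asIdeal.comap (algebraMap B C)) (algebraMap A B) rfl) := rfl
  rw [h4] at h3''
  exact (Function.Bijective.of_comp_iff _ h1').mp h3''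

theorem snd_eq_of_forall' {Z : Type*} [TopologicalSpace Z] [CompactSpace Z] [T2Space Z]
    [TotallyDisconnectedSpace Z] (z z' : Z)
    (h : ∀ (U : Set Z), IsClopen U → (z ∉ U ↔ z' ∉ U)) : z = z' := by
  by_contra hne
  obtain ⟨U, hU, hzU, hz'U⟩ := exists_isClopen_of_totally_separated hne
  exact ((h U hU).mpr hz'U) hzU

section IZ

variable (A B : Type u) [CommRing A] [CommRing B] [Algebra A B]
  (hB : ProEtW.IsWLocal (PrimeSpectrum B))

/-- the closed points of `Spec B` -/
abbrev Zc : Type u := {y : PrimeSpectrum B // IsClosed ({y} : Set (PrimeSpectrum B))}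

/-- the map from closed points to `Spec A` -/
def iotaZ (y : Zc B) : PrimeSpectrum A := PrimeSpectrum.comap (algebraMap A B) y.1

include hB in
theorem compactSpace_Zc : CompactSpace (Zc B) := compactSpace_closedPoints hB

include hB in
theorem t2Space_Zc : T2Space (Zc B) := t2Space_closedPoints hB

include hB in
theorem totallyDisconnectedSpace_Zc : TotallyDisconnectedSpace (Zc B) := by
  rw [totallyDisconnectedSpace_iff]
  apply (homeo hB).isEmbedding.isTotallyDisconnected
  exact isTotallyDisconnected_of_totallyDisconnectedSpace _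

include hB in
theorem iotaZ_clopen [T2Space (Zc B)] (a : A) :
    IsClopen (iotaZ A B ⁻¹' (PrimeSpectrum.basicOpen a : Set (PrimeSpectrum A))) := by
  have hcl : IsClosed {y : PrimeSpectrum B | IsClosed ({y} : Set (PrimeSpectrum B))} := hB.2.1
  have h : iotaZ A B ⁻¹' (PrimeSpectrum.basicOpen a : Set (PrimeSpectrum A)) =
      Subtype.val ⁻¹' (PrimeSpectrum.basicOpen (algebraMap A B a) : Set (PrimeSpectrum B)) := by
    ext y
    rfl
  rw [h]
  refine ⟨?_, (PrimeSpectrum.basicOpen _).isOpen.preimage continuous_subtype_val⟩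
  have hc : IsCompact (Subtype.val ⁻¹'
      (PrimeSpectrum.basicOpen (algebraMap A B a) : Set (PrimeSpectrum B)) : Set (Zc B)) :=
    hcl.isClosedEmbedding_subtypeVal.isCompact_preimage (PrimeSpectrum.isCompact_basicOpen _)
  exact hc.isClosed

/-- the map on locally constant functions -/
noncomputable def phi0 : LocallyConstant (Zc B) A →+* B :=
  (glue A B).comp (LocallyConstant.comapRingHom ⟨retr hB, retr_continuous hB⟩)

theorem phi0_algebraMap (a : A) :
    phi0 A B hB (algebraMap A (LocallyConstant (Zc B) A) a) = algebraMap A B a :=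
  glue_algebraMap a

theorem phi0_mem_iff (f : LocallyConstant (Zc B) A) (y : PrimeSpectrum B) :
    phi0 A B hB f ∈ y.asIdeal ↔ algebraMap A B (f (retr hB y)) ∈ y.asIdeal :=
  glue_mem_iff _ y

theorem phi0_isUnit (s : M A (Zc B) (iotaZ A B)) : IsUnit (phi0 A B hB s) := by
  by_contra hnu
  obtain ⟨m, hm, hsm⟩ := exists_max_ideal_of_mem_nonunits hnu
  let y : PrimeSpectrum B := ⟨m, hm.isPrime⟩
  have hy : IsClosed ({y} : Set (PrimeSpectrum B)) :=
    (PrimeSpectrum.isClosed_singleton_iff_isMaximal y).mpr hm
  have h1 : algebraMap A B ((s : LocallyConstant (Zc B) A) (retr hB y)) ∈ y.asIdeal :=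
    (phi0_mem_iff A B hB _ y).mp hsm
  have h2 := s.2 (retr hB y)
  have h3 : (retr hB y).1 = y := by rw [retr_val, cl_of_isClosed hB hy]
  apply h2
  show algebraMap A B _ ∈ (retr hB y).1.asIdeal
  rw [h3]
  exact h1

/-- the comparison map -/
noncomputable def Phi : Bw A (Zc B) (iotaZ A B) →ₐ[A] B :=
  { IsLocalization.lift (M := M A (Zc B) (iotaZ A B)) (g := phi0 A B hB)
      (fun s => phi0_isUnit A B hB s) with
    commutes' := fun a => by
      show IsLocalization.lift _ (algebraMap A (Bw A (Zc B) (iotaZ A B)) a) = _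
      rw [IsScalarTower.algebraMap_apply A (LocallyConstant (Zc B) A) (Bw A (Zc B) (iotaZ A B)),
        IsLocalization.lift_eq, phi0_algebraMap] }

theorem Phi_algebraMap (f : LocallyConstant (Zc B) A) :
    Phi A B hB (algebraMap (LocallyConstant (Zc B) A) (Bw A (Zc B) (iotaZ A B)) f) =
      phi0 A B hB f :=
  IsLocalization.lift_eq _ f

section Inst

variable [CompactSpace (Zc B)] [T2Space (Zc B)] [TotallyDisconnectedSpace (Zc B)]

theorem rho_comap_fst (y : PrimeSpectrum B) :
    (rho A (Zc B) (iotaZ A B) (PrimeSpectrum.comap (Phi A B hB).toRingHom y)).1 =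
      PrimeSpectrum.comap (algebraMap A B) y := by
  rw [rho_fst, ← PrimeSpectrum.comap_comp_apply]
  congr 1
  exact (Phi A B hB).comp_algebraMap

theorem charFn_mem_iff (y : PrimeSpectrum B) {U : Set (Zc B)} (hU : IsClopen U) :
    Phi A B hB (algebraMap (LocallyConstant (Zc B) A) (Bw A (Zc B) (iotaZ A B))
        (LocallyConstant.charFn A hU)) ∈ y.asIdeal ↔
      (rho A (Zc B) (iotaZ A B) (PrimeSpectrum.comap (Phi A B hB).toRingHom y)).2 ∉ U := by
  rw [← charFn_mem_phi_iff (A := A) (rho A (Zc B) (iotaZ A B)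
    (PrimeSpectrum.comap (Phi A B hB).toRingHom y)) hU, phi_rho]
  rfl

theorem snd_Phi (y : PrimeSpectrum B) :
    (rho A (Zc B) (iotaZ A B) (PrimeSpectrum.comap (Phi A B hB).toRingHom y)).2 = retr hB y := by
  apply snd_eq_of_forall'
  intro U hU
  rw [← charFn_mem_iff A B hB y hU, Phi_algebraMap, phi0_mem_iff]
  by_cases h : retr hB y ∈ U
  · have : LocallyConstant.charFn A hU (retr hB y) = 1 := by
      simp [LocallyConstant.charFn, h]
    rw [this, map_one]
    simp only [h, not_true_eq_false, iff_false]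
    exact y.isPrime.one_notMem
  · have : LocallyConstant.charFn A hU (retr hB y) = 0 := by
      simp [LocallyConstant.charFn, h]
    rw [this, map_zero]
    simp [h]

include hB in
theorem Phi_bijective (h1 : EtPBC.IdentifiesLocalRings A B) :
    Function.Bijective (Phi A B hB) := by
  letI : Algebra (Bw A (Zc B) (iotaZ A B)) B := (Phi A B hB).toRingHom.toAlgebra
  haveI : IsScalarTower A (Bw A (Zc B) (iotaZ A B)) B :=
    IsScalarTower.of_algebraMap_eq (fun a => ((Phi A B hB).commutes a).symm)
  have hι := iotaZ_clopen A B hB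
  have hI : EtPBC.IdentifiesLocalRings (Bw A (Zc B) (iotaZ A B)) B :=
    identifiesLocalRings_cancel A (Bw A (Zc B) (iotaZ A B)) B
      (identifiesLocalRings_Bw A _ _ hι) h1
  have hrho : ∀ y : PrimeSpectrum B,
      rho A (Zc B) (iotaZ A B) (PrimeSpectrum.comap (Phi A B hB).toRingHom y) =
        (PrimeSpectrum.comap (algebraMap A B) y, retr hB y) := fun y =>
    Prod.ext (rho_comap_fst A B hB y) (snd_Phi A B hB y)
  have key : Function.Bijective (algebraMap (Bw A (Zc B) (iotaZ A B)) B) := by
    apply WLocIso.bijective_of_local hI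
    · intro m hm
      let w : PrimeSpectrum (Bw A (Zc B) (iotaZ A B)) := ⟨m, hm.isPrime⟩
      have hw : IsClosed ({w} : Set (PrimeSpectrum (Bw A (Zc B) (iotaZ A B)))) :=
        (PrimeSpectrum.isClosed_singleton_iff_isMaximal w).mpr hm
      rw [isClosed_singleton_iff_mem_cp A (Zc B) (iotaZ A B) hι] at hw
      have hw' : (rho A (Zc B) (iotaZ A B) w).1 = iotaZ A B (rho A (Zc B) (iotaZ A B) w).2 := hw
      set z := (rho A (Zc B) (iotaZ A B) w).2 with hz
      have hy : PrimeSpectrum.comap (Phi A B hB).toRingHom z.1 = w := by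
        apply (rho_isEmbedding A (Zc B) (iotaZ A B)).injective
        rw [hrho]
        have h3 : retr hB z.1 = z := by
          apply Subtype.ext
          rw [retr_val, cl_of_isClosed hB z.2]
        rw [h3]
        exact Prod.ext hw'.symm hz
      exact ⟨z.1.asIdeal, z.1.isPrime, congrArg PrimeSpectrum.asIdeal hy⟩
    · intro y₁ y₂ h
      have h' : PrimeSpectrum.comap (Phi A B hB).toRingHom y₁ =
          PrimeSpectrum.comap (Phi A B hB).toRingHom y₂ := h
      have h2 := congrArg (rho A (Zc B) (iotaZ A B)) h'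
      rw [hrho, hrho] at h2
      have h3 : PrimeSpectrum.comap (algebraMap A B) y₁ = PrimeSpectrum.comap (algebraMap A B) y₂ :=
        congrArg Prod.fst h2
      have h4 : retr hB y₁ = retr hB y₂ := congrArg Prod.snd h2
      have h5 : cl hB y₁ = cl hB y₂ := by
        rw [← retr_val, ← retr_val, h4]
      have hle₁ : y₁.asIdeal ≤ (cl hB y₁).asIdeal :=
        (PrimeSpectrum.le_iff_specializes y₁ _).mpr (specializes_cl hB y₁)
      have hle₂ : y₂.asIdeal ≤ (cl hB y₁).asIdeal := by
        rw [h5]
        exact (PrimeSpectrum.le_iff_specializes y₂ _).mpr (specializes_cl hB y₂)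
      haveI := (cl hB y₁).isPrime
      haveI := y₁.isPrime
      haveI := y₂.isPrime
      apply PrimeSpectrum.ext
      exact WLocIso.eq_of_le_of_comap_eq (cl hB y₁).asIdeal (h1 (cl hB y₁)) y₁.asIdeal y₂.asIdeal
        hle₁ hle₂ (congrArg PrimeSpectrum.asIdeal h3)
  exact key

end Inst

include hB in
/-- A ring map identifying local rings into a ring with w-local spectrum is ind-Zariski. -/
theorem isIndZariski_of_identifiesLocalRings_of_isWLocal
    (h1 : EtPBC.IdentifiesLocalRings A B) : EtPBC.IsIndZariski A B := by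
  haveI := compactSpace_Zc B hB
  haveI := t2Space_Zc B hB
  haveI := totallyDisconnectedSpace_Zc B hB
  exact WLocMisc.isIndZariski_of_algEquiv A (Bw A (Zc B) (iotaZ A B)) B
    (AlgEquiv.ofBijective (Phi A B hB) (Phi_bijective A B hB h1))
    (isIndZariski_Bw A (Zc B) (iotaZ A B))

end IZ

end Groth.Agent.Lib.Helper20.WLocIZ
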