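import Mathlib
import Groth.Prelude.Def_PBC
import Groth.Prelude.Def_ProEtW
import Groth.Agent.Lib.Helper20.WLocIZ
import Groth.Agent.Lib.Helper20.WLoc3

namespace Groth.Agent.Lib.Helper20.WLocIZ2

open Groth.Agent.Lib.Helper20.SpecLC Groth.Agent.Lib.Helper20.Glue
  Groth.Agent.Lib.Helper20.WLocRetr Groth.Agent.Lib.Helper20.WLoc Topology

universe u

theorem aux (A B B' : Type u) [CommRing A] [CommRing B] [CommRing B'] [Algebra A B]
    [Algebra B B'] (h : EtPBC.IdentifiesLocalRings A B)
    (hw : ProEtW.IsWLocal (PrimeSpectrum B'))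
    (hid : EtPBC.IdentifiesLocalRings B B') :
    ∃ (_ : Algebra A B') (_ : IsScalarTower A B B'), EtPBC.IsIndZariski A B' := by
  letI algAB' : Algebra A B' := RingHom.toAlgebra ((algebraMap B B').comp (algebraMap A B))
  haveI tower : IsScalarTower A B B' := IsScalarTower.of_algebraMap_eq (fun _ => rfl)
  have hid' : EtPBC.IdentifiesLocalRings A B' :=
    IdLocComp.identifiesLocalRings_trans A B B' h hid
  exact ⟨algAB', tower,
    WLocIZ.isIndZariski_of_identifiesLocalRings_of_isWLocal A B' hw hid'⟩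

/-- If `A → B` identifies local rings, the w-localization `B'` of `B` is faithfully flat
ind-Zariski over `B` and ind-Zariski over `A`. -/
theorem main (A B : Type u) [CommRing A] [CommRing B] [Algebra A B]
    (h : EtPBC.IdentifiesLocalRings A B) :
    ∃ (B' : Type u) (_ : CommRing B') (_ : Algebra B B') (_ : Algebra A B')
      (_ : IsScalarTower A B B'),
      Module.FaithfullyFlat B B' ∧ EtPBC.IsIndZariski B B' ∧ EtPBC.IsIndZariski A B' := by
  have hff : Module.FaithfullyFlat B (Bw B _ (iotaCons B)) :=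
    faithfullyFlat B _ (iotaCons B) (iotaCons_clopen B) (iotaCons_bijective B).surjective
  have hiz : EtPBC.IsIndZariski B (Bw B _ (iotaCons B)) := isIndZariski_Bw B _ (iotaCons B)
  have hw : ProEtW.IsWLocal (PrimeSpectrum (Bw B _ (iotaCons B))) :=
    isWLocal B _ (iotaCons B) (iotaCons_clopen B)
  have hid : EtPBC.IdentifiesLocalRings B (Bw B _ (iotaCons B)) :=
    WLoc.identifiesLocalRings_Bw B _ (iotaCons B) (iotaCons_clopen B)
  obtain ⟨alg, tower, hA⟩ := aux A B (Bw B _ (iotaCons B)) h hw hid
  exact ⟨Bw B _ (iotaCons B), inferInstance, inferInstance, alg, tower, hff, hiz, hA⟩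

end Groth.Agent.Lib.Helper20.WLocIZ2
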