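import Mathlib
import Groth.Prelude.Def_PBC
import Groth.Prelude.Def_ProEtW
import Groth.Agent.Lib.Helper20.IndZar5
import Groth.Agent.Lib.Helper20.Glue
import Groth.Agent.Lib.Helper20.WLocMisc
import Groth.Agent.Lib.Helper20.WLocIso
import Groth.Agent.Lib.Helper20.PiZero2
import Groth.Agent.Lib.Helper20.ProConsSpec

namespace Groth.Agent.Lib.Helper20.WLocInd

open Groth.Agent.Lib.Helper20.IndZar Groth.Agent.Lib.Helper20.IndZar2
  Groth.Agent.Lib.Helper20.IndZar3 Groth.Agent.Lib.Helper20.SpecLC
  Groth.Agent.Lib.Helper20.Glue Topology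

universe u

variable (A B : Type u) [CommRing A] [CommRing B] [Algebra A B]

/-- connected components of the spectrum -/
abbrev TB : Type u := _root_.ConnectedComponents (PrimeSpectrum B)

instance : T2Space (TB B) := PiZero.t2Space_connectedComponents _

/-- the map on connected components -/
noncomputable def gT : C(TB B, _root_.ConnectedComponents (PrimeSpectrum A)) :=
  ⟨(PrimeSpectrum.continuous_comap (algebraMap A B)).connectedComponentsMap,
    (PrimeSpectrum.continuous_comap (algebraMap A B)).connectedComponentsMap_continuous⟩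

theorem gT_mk (y : PrimeSpectrum B) :
    gT A B (_root_.ConnectedComponents.mk y) =
      _root_.ConnectedComponents.mk (PrimeSpectrum.comap (algebraMap A B) y) :=
  Continuous.connectedComponentsMap_mk (PrimeSpectrum.continuous_comap (algebraMap A B)) y

/-- the intermediate ring -/
abbrev A' : Type u := IndZar3.B A (TB B) (gT A B)

/-- the projection to connected components -/
def mkC : C(PrimeSpectrum B, TB B) := ⟨_root_.ConnectedComponents.mk, ConnectedComponents.continuous_coe⟩

/-- the map on locally constant functions -/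
noncomputable def theta0 : LocallyConstant (TB B) A →+* B :=
  (glue A B).comp (LocallyConstant.comapRingHom (mkC B))

theorem theta0_mem_iff (f : LocallyConstant (TB B) A) (y : PrimeSpectrum B) :
    theta0 A B f ∈ y.asIdeal ↔
      algebraMap A B (f (_root_.ConnectedComponents.mk y)) ∈ y.asIdeal :=
  glue_mem_iff _ y

theorem theta0_algebraMap (a : A) :
    theta0 A B (algebraMap A (LocallyConstant (TB B) A) a) = algebraMap A B a :=
  glue_algebraMap a

theorem theta0_idem_eq_zero {ε : LocallyConstant (TB B) A} (hε : IsIdempotentElem ε)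
    (hZ : Z A (TB B) (gT A B) ⊆ PrimeSpectrum.zeroLocus {ε}) : theta0 A B ε = 0 := by
  apply PrimeSpectrum.basicOpen_injOn_isIdempotentElem (hε.map (theta0 A B))
    IsIdempotentElem.zero
  ext y
  simp only [PrimeSpectrum.basicOpen_zero, TopologicalSpace.Opens.coe_bot, Set.mem_empty_iff_false,
    iff_false]
  intro hy
  apply hy
  show theta0 A B ε ∈ y.asIdeal
  rw [theta0_mem_iff]
  have hmem : phi A (TB B) (PrimeSpectrum.comap (algebraMap A B) y,
      _root_.ConnectedComponents.mk y) ∈ Z A (TB B) (gT A B) :=
    ⟨_, (gT_mk A B y).symm, rfl⟩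
  have := hZ hmem
  rw [PrimeSpectrum.mem_zeroLocus, Set.singleton_subset_iff] at this
  exact this

theorem theta0_eq_zero {c : LocallyConstant (TB B) A}
    (hc : c ∈ idemIdeal (LocallyConstant (TB B) A) (Z A (TB B) (gT A B))) : theta0 A B c = 0 := by
  obtain ⟨ε, hε, hZ, hcε⟩ := (mem_idemIdeal_iff _ _).mp hc
  rw [← hcε, map_mul, theta0_idem_eq_zero A B hε hZ, mul_zero]

/-- the comparison map -/
noncomputable def theta : A' A B →ₐ[A] B :=
  { Ideal.Quotient.lift _ (theta0 A B) (fun _ hc => theta0_eq_zero A B hc) with
    commutes' := fun a => theta0_algebraMap A B a }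

theorem theta_mk (f : LocallyConstant (TB B) A) :
    theta A B (Ideal.Quotient.mk _ f) = theta0 A B f := rfl

theorem bijective_of_comp {R S P : Type*} [CommRing R] [CommRing S] [CommRing P]
    (f : R →+* S) (g : S →+* P) (K : Ideal P) [K.IsPrime]
    (h1 : Function.Bijective (Localization.localRingHom (K.comap (g.comp f)) K (g.comp f) rfl))
    (h2 : Function.Bijective
      (Localization.localRingHom ((K.comap g).comap f) (K.comap g) f rfl)) :
    Function.Bijective (Localization.localRingHom (K.comap g) K g rfl) := by
  have := Localization.localRingHom_comp (I := (K.comap g).comap f) (K.comap g) K f rfl g rfl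
  have h3 : Function.Bijective ((Localization.localRingHom (K.comap g) K g rfl) ∘
      (Localization.localRingHom ((K.comap g).comap f) (K.comap g) f rfl)) := by
    have h4 : ⇑((Localization.localRingHom (K.comap g) K g rfl).comp
        (Localization.localRingHom ((K.comap g).comap f) (K.comap g) f rfl)) =
        (Localization.localRingHom (K.comap g) K g rfl) ∘
          (Localization.localRingHom ((K.comap g).comap f) (K.comap g) f rfl) := rfl
    rw [← h4, ← this]
    exact h1
  exact (Function.Bijective.of_comp_iff _ h2).mp h3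

theorem bijective_congr {R P : Type*} [CommRing R] [CommRing P] (k k' : R →+* P) (h : k = k')
    (K : Ideal P) [K.IsPrime]
    (hb : Function.Bijective (Localization.localRingHom (K.comap k) K k rfl)) :
    Function.Bijective (Localization.localRingHom (K.comap k') K k' rfl) := by
  subst h
  exact hb

section Main

variable (h1 : EtPBC.IdentifiesLocalRings A B) (h2 : ProEtW.IsWLocal (PrimeSpectrum A))
  (h3 : ProEtW.IsWLocal (PrimeSpectrum B))
  (h4 : ProEtW.IsWLocalMap (PrimeSpectrum.comap (algebraMap A B)))

theorem rho_comap_theta (y : PrimeSpectrum B) :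
    IndZar3.rho A (TB B) (gT A B) (PrimeSpectrum.comap (theta A B).toRingHom y) =
      (PrimeSpectrum.comap (algebraMap A B) y, _root_.ConnectedComponents.mk y) := by
  refine Prod.ext ?_ ?_
  · rw [IndZar3.rho_fst, ← PrimeSpectrum.comap_comp_apply]
    congr 1
    exact (theta A B).comp_algebraMap
  · simp only
    by_contra hne
    obtain ⟨U, hU, hzU, hz'U⟩ := exists_isClopen_of_totally_separated hne
    have h5 := charFn_mem_phi_iff (A := A) (IndZar3.rho A (TB B) (gT A B)
      (PrimeSpectrum.comap (theta A B).toRingHom y)) hU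
    have h6 : phi A (TB B) (IndZar3.rho A (TB B) (gT A B)
        (PrimeSpectrum.comap (theta A B).toRingHom y)) =
        PrimeSpectrum.comap (Ideal.Quotient.mk _)
          (PrimeSpectrum.comap (theta A B).toRingHom y) := phiHomeo.apply_symm_apply _
    rw [h6] at h5
    have h7 : LocallyConstant.charFn A hU ∈ (PrimeSpectrum.comap (Ideal.Quotient.mk _)
        (PrimeSpectrum.comap (theta A B).toRingHom y)).asIdeal ↔
        theta0 A B (LocallyConstant.charFn A hU) ∈ y.asIdeal := Iff.rfl
    rw [h7, theta0_mem_iff] at h5
    have h8 : LocallyConstant.charFn A hU (_root_.ConnectedComponents.mk y) = 0 := by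
      have : _root_.ConnectedComponents.mk y ∉ U := hz'U
      simp [LocallyConstant.charFn, this]
    rw [h8, map_zero] at h5
    exact (h5.mp y.asIdeal.zero_mem) hzU

/-- the homeomorphism with the fibre product -/
noncomputable def hF : PrimeSpectrum (A' A B) ≃ₜ
    {p : PrimeSpectrum A × TB B // _root_.ConnectedComponents.mk p.1 = gT A B p.2} :=
  (IndZar3.rho_isEmbedding A (TB B) (gT A B)).toHomeomorph.trans
    (Homeomorph.setCongr (IndZar3.range_rho A (TB B) (gT A B)))

theorem hF_val (w : PrimeSpectrum (A' A B)) :
    (hF A B w).1 = IndZar3.rho A (TB B) (gT A B) w := rfl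

include h2 in
theorem isWLocal_A' : ProEtW.IsWLocal (PrimeSpectrum (A' A B)) :=
  WLocMisc.isWLocal_of_homeomorph (hF A B)
    (PiZero2.main (PrimeSpectrum A) (TB B) (gT A B) h2).1

theorem isClosed_singleton_A' (w : PrimeSpectrum (A' A B)) :
    IsClosed ({w} : Set (PrimeSpectrum (A' A B))) ↔
      IsClosed ({(IndZar3.rho A (TB B) (gT A B) w).1} : Set (PrimeSpectrum A)) := by
  rw [← WLocMisc.isClosed_singleton_homeomorph (hF A B),
    PiZero2.isClosed_singleton_iff (PrimeSpectrum A) (TB B) (gT A B), hF_val]

include h4 in
theorem isWLocalMap_theta :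
    ProEtW.IsWLocalMap (PrimeSpectrum.comap (theta A B).toRingHom) := by
  refine ⟨Groth.Agent.Lib.Helper20.ProConsSpec.isSpectralMap_comap _, ?_⟩
  intro y hy
  rw [isClosed_singleton_A', rho_comap_theta]
  exact h4.2 y hy

theorem bijective_cc :
    Function.Bijective
      (PrimeSpectrum.continuous_comap (theta A B).toRingHom).connectedComponentsMap := by
  obtain ⟨e0, he0⟩ := PiZero.exists_homeomorph_pullback (PrimeSpectrum A) (TB B) (gT A B)
  let e : _root_.ConnectedComponents (PrimeSpectrum (A' A B)) ≃ₜ TB B :=
    (IndZar3.ccHomeo (hF A B)).trans e0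
  have he : ∀ w, e (_root_.ConnectedComponents.mk w) =
      (IndZar3.rho A (TB B) (gT A B) w).2 := by
    intro w
    show e0 (IndZar3.ccHomeo (hF A B) (_root_.ConnectedComponents.mk w)) = _
    rw [IndZar3.ccHomeo_mk, he0, hF_val]
  have hleft : ∀ c : TB B,
      e ((PrimeSpectrum.continuous_comap (theta A B).toRingHom).connectedComponentsMap c) = c := by
    intro c
    obtain ⟨y, rfl⟩ := ConnectedComponents.surjective_coe c
    rw [Continuous.connectedComponentsMap_mk, he, rho_comap_theta]
  constructor
  · intro c c' h
    rw [← hleft c, ← hleft c', h]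
  · intro c'
    refine ⟨e c', ?_⟩
    apply e.injective
    rw [hleft]

include h1 in
theorem identifiesLocalRings_theta :
    letI : Algebra (A' A B) B := (theta A B).toRingHom.toAlgebra
    EtPBC.IdentifiesLocalRings (A' A B) B := by
  let _ : Algebra (A' A B) B := (theta A B).toRingHom.toAlgebra
  intro y
  have heq : algebraMap A B = ((theta A B).toRingHom).comp (algebraMap A (A' A B)) :=
    (theta A B).comp_algebraMap.symm
  have h5 := bijective_congr _ _ heq y.asIdeal (h1 y)
  have h6 := IndZar3.identifiesLocalRings_B A (TB B) (gT A B)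
    (PrimeSpectrum.comap (theta A B).toRingHom y)
  exact bijective_of_comp (algebraMap A (A' A B)) (theta A B).toRingHom y.asIdeal h5 h6

include h1 h2 h3 h4 in
theorem theta_bijective : Function.Bijective (theta A B) := by
  let _ : Algebra (A' A B) B := (theta A B).toRingHom.toAlgebra
  exact WLocIso.main (A' A B) B (identifiesLocalRings_theta A B h1) (isWLocal_A' A B h2) h3
    (isWLocalMap_theta A B h4) (bijective_cc A B)

include h1 h2 h3 h4 in
theorem isIndZariski_of_identifiesLocalRings : EtPBC.IsIndZariski A B :=
  WLocMisc.isIndZariski_of_algEquiv A (A' A B) B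
    (AlgEquiv.ofBijective (theta A B) (theta_bijective A B h1 h2 h3 h4))
    (IndZar3.isIndZariski_B A (TB B) (gT A B))

end Main

end Groth.Agent.Lib.Helper20.WLocInd
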