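import Mathlib
import Groth.Prelude.Def_PBC
import Groth.Prelude.Def_ProEtW
import Groth.Agent.Lib.Helper20.WLoc4
import Groth.Agent.Lib.Helper20.WLoc6
import Groth.Agent.Lib.Helper20.WLocRetr
import Groth.Agent.Lib.Helper20.LocIsoId
import Groth.Agent.Lib.Helper20.IdLocComp
import Groth.Agent.Lib.Helper20.WLocIso
import Groth.Agent.Lib.Helper20.WLocMisc
import Groth.Agent.Lib.Helper20.ProConsSpec
import Groth.Agent.S0738

namespace Groth.Agent.Lib.Helper20.WLocRetract

open Groth.Agent.Lib.Helper20.WLoc Groth.Agent.Lib.Helper20.WLocRetr Topology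

universe u

section Forward

variable (A : Type u) [CommRing A] (hR : ProEtW.HasIndZariskiRetractions A)

include hR in
theorem exists_retraction :
    ∃ σ : Bw A (TE A) (iotaE A) →ₐ[A] A, True := by
  obtain ⟨σ⟩ := hR (Bw A (TE A) (iotaE A))
    (faithfullyFlat A _ (iotaE A) (iotaE_clopen A) (iotaE_surjective A))
    (isIndZariski_Bw A _ (iotaE A))
  exact ⟨σ, trivial⟩

include hR in
theorem isWLocal_of_retractions : ProEtW.IsWLocal (PrimeSpectrum A) := by
  obtain ⟨σ, -⟩ := exists_retraction A hR
  have hsurj : Function.Surjective σ.toRingHom := fun a => ⟨algebraMap A _ a, σ.commutes a⟩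
  have hemb := PrimeSpectrum.isClosedEmbedding_comap_of_surjective _ σ.toRingHom hsurj
  have hW := isWLocal A _ (iotaE A) (iotaE_clopen A)
  have hY := Groth.Agent.S0738.result _ hW _ hemb.isClosed_range
  exact WLocMisc.isWLocal_of_homeomorph hemb.isEmbedding.toHomeomorph hY

include hR in
theorem extremallyDisconnected_of_retractions :
    ExtremallyDisconnected (_root_.ConnectedComponents (PrimeSpectrum A)) := by
  obtain ⟨σ, -⟩ := exists_retraction A hR
  haveI := PiZero.t2Space_connectedComponents (PrimeSpectrum A)
  obtain ⟨e, -⟩ := exists_ccHomeo A (TE A) (iotaE A) (iotaE_clopen A)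
  have hP : CompactT2.Projective
      (_root_.ConnectedComponents (PrimeSpectrum (Bw A (TE A) (iotaE A)))) :=
    Gleason.projective_of_retract (StoneCech.projective (X := Gleason.Disc (PrimeSpectrum A)))
      e e.symm e.continuous e.symm.continuous (by
        funext c
        simp)
  have hi := (PrimeSpectrum.continuous_comap σ.toRingHom).connectedComponentsMap_continuous
  have hr := (PrimeSpectrum.continuous_comap
    (algebraMap A (Bw A (TE A) (iotaE A)))).connectedComponentsMap_continuous
  have hri : (PrimeSpectrum.continuous_comap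
      (algebraMap A (Bw A (TE A) (iotaE A)))).connectedComponentsMap ∘
      (PrimeSpectrum.continuous_comap σ.toRingHom).connectedComponentsMap = id := by
    funext c
    obtain ⟨x, rfl⟩ := ConnectedComponents.surjective_coe c
    simp only [Function.comp_apply, id_eq]
    rw [Continuous.connectedComponentsMap_mk, Continuous.connectedComponentsMap_mk,
      ← PrimeSpectrum.comap_comp_apply]
    have : σ.toRingHom.comp (algebraMap A (Bw A (TE A) (iotaE A))) = RingHom.id A := by
      ext a
      exact σ.commutes a
    rw [this]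
    rfl
  exact CompactT2.Projective.extremallyDisconnected
    (Gleason.projective_of_retract hP _ _ hi hr hri)

end Forward

section Backward

variable (A : Type u) [CommRing A] (hA : ProEtW.IsWLocal (PrimeSpectrum A))
  (hE : ExtremallyDisconnected (_root_.ConnectedComponents (PrimeSpectrum A)))
  (B : Type u) [CommRing B] [Algebra A B] (hff : Module.FaithfullyFlat A B)
  (hind : EtPBC.IsIndZariski A B)

/-- closed points of the spectrum -/
abbrev X₀ : Type u := {x : PrimeSpectrum A // IsClosed ({x} : Set (PrimeSpectrum A))}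

/-- constructible points of `Spec B` over closed points -/
abbrev Y₀ : Type u :=
  {y : WithConstructibleTopology (PrimeSpectrum B) //
    IsClosed ({PrimeSpectrum.comap (algebraMap A B) (iotaCons B y)} : Set (PrimeSpectrum A))}

theorem iotaCons_continuous : Continuous (iotaCons B) := by
  rw [continuous_def]
  intro U hU
  rw [WithConstructibleTopology.isOpen_iff]
  exact Spectral.isOpen_cons_of_isOpen hU

include hA in
theorem isClosed_Y₀ :
    IsClosed {y : WithConstructibleTopology (PrimeSpectrum B) |
      IsClosed ({PrimeSpectrum.comap (algebraMap A B) (iotaCons B y)} :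
        Set (PrimeSpectrum A))} := by
  have h1 : IsClosed {x : PrimeSpectrum A | IsClosed ({x} : Set (PrimeSpectrum A))} := hA.2.1
  exact h1.preimage ((PrimeSpectrum.continuous_comap _).comp (iotaCons_continuous B))

/-- the projection to closed points -/
def piY (y : Y₀ A B) : X₀ A := ⟨PrimeSpectrum.comap (algebraMap A B) (iotaCons B y.1), y.2⟩

theorem piY_continuous : Continuous (piY A B) :=
  Continuous.subtype_mk (((PrimeSpectrum.continuous_comap _).comp (iotaCons_continuous B)).comp
    continuous_subtype_val) _

include hff in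
theorem piY_surjective : Function.Surjective (piY A B) := by
  rintro ⟨x, hx⟩
  obtain ⟨y, hy⟩ := PrimeSpectrum.comap_surjective_of_faithfullyFlat (A := A) (B := B) x
  refine ⟨⟨WithTopology.toTopology _ y, ?_⟩, ?_⟩
  · show IsClosed ({PrimeSpectrum.comap (algebraMap A B) y} : Set (PrimeSpectrum A))
    rw [hy]
    exact hx
  · apply Subtype.ext
    exact hy

include hA hE hff in
theorem exists_section :
    ∃ s : X₀ A → Y₀ A B, Continuous s ∧ ∀ x, piY A B (s x) = x := by
  haveI := t2Space_closedPoints hA
  haveI := compactSpace_closedPoints hA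
  haveI : ExtremallyDisconnected (X₀ A) := extremallyDisconnected_of_homeo (homeo hA).symm
  haveI : CompactSpace (Y₀ A B) := isCompact_iff_compactSpace.mp (isClosed_Y₀ A hA B).isCompact
  have hproj : CompactT2.Projective (X₀ A) := CompactT2.ExtremallyDisconnected.projective
  obtain ⟨s, hs, hsπ⟩ := hproj (f := id) (g := piY A B) continuous_id (piY_continuous A B)
    (piY_surjective A B hff)
  exact ⟨s, hs, fun x => congrFun hsπ x⟩

include hA hE hff hind in
theorem exists_retraction_of_wLocal : Nonempty (B →ₐ[A] A) := by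
  haveI := t2Space_closedPoints hA
  haveI := compactSpace_closedPoints hA
  haveI : ExtremallyDisconnected (X₀ A) := extremallyDisconnected_of_homeo (homeo hA).symm
  haveI : TotallyDisconnectedSpace (X₀ A) := inferInstance
  obtain ⟨s, hs, hsπ⟩ := exists_section A hA hE B hff
  let ι : X₀ A → PrimeSpectrum B := fun x => iotaCons B (s x).1
  have hι : ∀ b : B, IsClopen (ι ⁻¹' (PrimeSpectrum.basicOpen b : Set (PrimeSpectrum B))) :=
    fun b => (iotaCons_clopen B b).preimage (continuous_subtype_val.comp hs)
  have hιA : ∀ x, PrimeSpectrum.comap (algebraMap A B) (ι x) = x.1 :=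
    fun x => congrArg Subtype.val (hsπ x)
  have hst : ∀ a : A, algebraMap A (Bw B (X₀ A) ι) a =
      algebraMap B (Bw B (X₀ A) ι) (algebraMap A B a) := by
    intro a
    rw [IsScalarTower.algebraMap_apply A (LocallyConstant (X₀ A) B) (Bw B (X₀ A) ι),
      IsScalarTower.algebraMap_apply B (LocallyConstant (X₀ A) B) (Bw B (X₀ A) ι)
        (algebraMap A B a)]
    rfl
  haveI : IsScalarTower A B (Bw B (X₀ A) ι) := IsScalarTower.of_algebraMap_eq hst
  have hIL : EtPBC.IdentifiesLocalRings A (Bw B (X₀ A) ι) :=
    IdLocComp.identifiesLocalRings_trans A B (Bw B (X₀ A) ι)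
      (LocIsoId.identifiesLocalRings_of_isIndZariski A B hind)
      (identifiesLocalRings_Bw B _ ι hι)
  have hC : ProEtW.IsWLocal (PrimeSpectrum (Bw B (X₀ A) ι)) := isWLocal B _ ι hι
  have hfst : ∀ w : PrimeSpectrum (Bw B (X₀ A) ι),
      PrimeSpectrum.comap (algebraMap A (Bw B (X₀ A) ι)) w =
        PrimeSpectrum.comap (algebraMap A B) (rho B _ ι w).1 := by
    intro w
    rw [rho_fst, ← PrimeSpectrum.comap_comp_apply, ← IsScalarTower.algebraMap_eq]
  have hmap : ProEtW.IsWLocalMap (PrimeSpectrum.comap (algebraMap A (Bw B (X₀ A) ι))) := by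
    refine ⟨ProConsSpec.isSpectralMap_comap _, fun w hw => ?_⟩
    rw [isClosed_singleton_iff_mem_cp B _ ι hι] at hw
    have h1 : (rho B _ ι w).1 = ι (rho B _ ι w).2 := hw
    rw [hfst, h1, hιA]
    exact (rho B _ ι w).2.2
  have hcc : Function.Bijective (PrimeSpectrum.continuous_comap
      (algebraMap A (Bw B (X₀ A) ι))).connectedComponentsMap := by
    obtain ⟨e, he⟩ := exists_ccHomeo B (X₀ A) ι hι
    have hcomp : (PrimeSpectrum.continuous_comap
        (algebraMap A (Bw B (X₀ A) ι))).connectedComponentsMap = homeo hA ∘ e := by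
      funext c
      obtain ⟨w, rfl⟩ := ConnectedComponents.surjective_coe c
      rw [Continuous.connectedComponentsMap_mk, Function.comp_apply, he, homeo_apply]
      apply WLocRetr.mk_eq_of_specializes
      rw [hfst, ← hιA (q B (X₀ A) ι w)]
      exact (rho_mem B _ ι hι w).map (PrimeSpectrum.continuous_comap _)
    rw [hcomp]
    exact (homeo hA).bijective.comp e.bijective
  have hbij := WLocIso.main A (Bw B (X₀ A) ι) hIL hA hC hmap hcc
  exact ⟨((AlgEquiv.ofBijective (Algebra.ofId A (Bw B (X₀ A) ι)) hbij).symm :
    Bw B (X₀ A) ι →ₐ[A] A).comp (IsScalarTower.toAlgHom A B (Bw B (X₀ A) ι))⟩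

end Backward

theorem hasIndZariskiRetractions_iff (A : Type u) [CommRing A] :
    ProEtW.HasIndZariskiRetractions A ↔
      (ProEtW.IsWLocal (PrimeSpectrum A) ∧
        ExtremallyDisconnected (_root_.ConnectedComponents (PrimeSpectrum A))) := by
  constructor
  · intro hR
    exact ⟨isWLocal_of_retractions A hR, extremallyDisconnected_of_retractions A hR⟩
  · rintro ⟨hA, hE⟩ B _ _ hff hind
    exact exists_retraction_of_wLocal A hA hE B hff hind

end Groth.Agent.Lib.Helper20.WLocRetract
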