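import Mathlib

/-!
# Power series rings are free over the subring of series in a Weierstrass divisor
-/

open PowerSeries

namespace Groth.Agent.Lib.Helper20.WeierFree

variable {O : Type*} [CommRing O]

/-- Shift a power series down by one. -/
noncomputable def sh (c : O⟦X⟧) : O⟦X⟧ := PowerSeries.mk fun n => coeff (n + 1) c

lemma eq_C_add_X_mul_sh (c : O⟦X⟧) : c = C (constantCoeff c) + X * sh c := by
  rw [add_comm]; exact eq_X_mul_shift_add_const c

lemma coeff_sh (c : O⟦X⟧) (n : ℕ) : coeff n (sh c) = coeff (n + 1) c := by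
  simp [sh]

section T

variable (f : O⟦X⟧) (h : ℕ)

/-- The evaluation map `(c_i) ↦ ∑ c_i(f) X^i`. -/
noncomputable def T (c : Fin h → O⟦X⟧) : O⟦X⟧ := ∑ i, subst f (c i) * X ^ (i : ℕ)

variable {f} (hf0 : constantCoeff f = 0)
include hf0

lemma hasSubst : HasSubst f := HasSubst.of_constantCoeff_zero' hf0

lemma T_sub (c c' : Fin h → O⟦X⟧) : T f h (c - c') = T f h c - T f h c' := by
  unfold T
  rw [← Finset.sum_sub_distrib]
  refine Finset.sum_congr rfl (fun i _ => ?_)
  rw [Pi.sub_apply, subst_sub (hasSubst hf0), sub_mul]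

lemma subst_decomp (c : O⟦X⟧) :
    subst f c = C (constantCoeff c) + f * subst f (sh c) := by
  have hS := hasSubst hf0
  conv_lhs => rw [eq_C_add_X_mul_sh c]
  rw [subst_add hS, subst_mul hS, subst_X hS]
  congr 1
  exact subst_C _

lemma T_decomp (c : Fin h → O⟦X⟧) :
    T f h c = (∑ i : Fin h, C (constantCoeff (c i)) * X ^ (i : ℕ)) + f * T f h (fun i => sh (c i)) := by
  unfold T
  rw [Finset.mul_sum, ← Finset.sum_add_distrib]
  refine Finset.sum_congr rfl (fun i _ => ?_)
  rw [subst_decomp hf0 (c i)]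
  ring

end T

/-- The polynomial with prescribed coefficients below `h`. -/
noncomputable def polyOf (h : ℕ) (a : Fin h → O) : Polynomial O :=
  ∑ i : Fin h, Polynomial.monomial (i : ℕ) (a i)

lemma coe_polyOf (h : ℕ) (a : Fin h → O) :
    ((polyOf h a : Polynomial O) : O⟦X⟧) = ∑ i : Fin h, C (a i) * X ^ (i : ℕ) := by
  unfold polyOf
  rw [← Polynomial.coeToPowerSeries.ringHom_apply, map_sum]
  refine Finset.sum_congr rfl (fun i _ => ?_)
  rw [Polynomial.coeToPowerSeries.ringHom_apply, Polynomial.coe_monomial,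
    ← PowerSeries.monomial_zero_eq_C_apply, PowerSeries.X_pow_eq, PowerSeries.monomial_mul_monomial]
  simp

lemma coeff_polyOf (h : ℕ) (a : Fin h → O) (i : Fin h) : (polyOf h a).coeff i = a i := by
  classical
  unfold polyOf
  rw [Polynomial.finsetSum_coeff]
  simp only [Polynomial.coeff_monomial]
  rw [Finset.sum_eq_single i]
  · simp
  · intro j _ hj
    rw [if_neg]
    exact fun h' => hj (Fin.ext h')
  · simp

lemma degree_polyOf_lt (h : ℕ) (a : Fin h → O) : (polyOf h a).degree < h := by
  rw [Polynomial.degree_lt_iff_coeff_zero]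
  intro m hm
  unfold polyOf
  rw [Polynomial.finsetSum_coeff]
  refine Finset.sum_eq_zero (fun i _ => ?_)
  rw [Polynomial.coeff_monomial, if_neg]
  have := i.2
  omega

lemma polyOf_coeff (h : ℕ) (r : Polynomial O) (hr : r.degree < h) :
    polyOf h (fun i => r.coeff i) = r := by
  ext n
  unfold polyOf
  rw [Polynomial.finsetSum_coeff]
  simp only [Polynomial.coeff_monomial]
  by_cases hn : n < h
  · rw [Finset.sum_eq_single ⟨n, hn⟩]
    · simp
    · intro j _ hj
      rw [if_neg]
      exact fun h' => hj (Fin.ext h')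
    · simp
  · rw [Finset.sum_eq_zero]
    · symm
      apply Polynomial.coeff_eq_zero_of_degree_lt
      refine lt_of_lt_of_le hr ?_
      exact_mod_cast not_lt.mp hn
    · intro j _
      rw [if_neg]
      intro h'
      exact hn (h' ▸ j.2)

section main

variable [IsLocalRing O] {f : O⟦X⟧} (hf0 : constantCoeff f = 0)
  (hfres : f.map (IsLocalRing.residue O) ≠ 0)

include hf0 hfres

lemma T_eq_zero_step [IsHausdorff (IsLocalRing.maximalIdeal O) O]
    (c : Fin (f.map (IsLocalRing.residue O)).order.toNat → O⟦X⟧)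
    (hT : T f _ c = 0) :
    (∀ i, constantCoeff (c i) = 0) ∧ T f _ (fun i => sh (c i)) = 0 := by
  have hdec := T_decomp _ hf0 c
  rw [hT, ← coe_polyOf] at hdec
  have hW : IsWeierstrassDivision (0 : O⟦X⟧) f (T f _ (fun i => sh (c i)))
      (polyOf _ (fun i => constantCoeff (c i))) := by
    refine ⟨degree_polyOf_lt _ _, ?_⟩
    rw [add_comm]; exact hdec
  obtain ⟨h1, h2⟩ := hW.eq_zero hfres
  refine ⟨fun i => ?_, h1⟩
  have := coeff_polyOf _ (fun i => constantCoeff (c i)) i
  rw [h2, Polynomial.coeff_zero] at this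
  exact this.symm

lemma T_eq_zero [IsHausdorff (IsLocalRing.maximalIdeal O) O] (n : ℕ) :
    ∀ (c : Fin (f.map (IsLocalRing.residue O)).order.toNat → O⟦X⟧),
      T f _ c = 0 → ∀ i, coeff n (c i) = 0 := by
  induction n with
  | zero =>
    intro c hT i
    rw [coeff_zero_eq_constantCoeff_apply]
    exact (T_eq_zero_step hf0 hfres c hT).1 i
  | succ n ih =>
    intro c hT i
    have := ih (fun i => sh (c i)) (T_eq_zero_step hf0 hfres c hT).2 i
    rwa [coeff_sh] at this

/-- Iterated shift. -/
lemma exists_T_eq [IsAdicComplete (IsLocalRing.maximalIdeal O) O] (g : O⟦X⟧) :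
    ∃ c : Fin (f.map (IsLocalRing.residue O)).order.toNat → O⟦X⟧, T f _ c = g := by
  -- the sequence of quotients
  let q : ℕ → O⟦X⟧ := fun j => Nat.rec g (fun _ q => q /ʷ f) j
  have hq : ∀ j, q j = f * q (j + 1) + ((q j %ʷ f : Polynomial O) : O⟦X⟧) := by
    intro j
    exact eq_mul_weierstrassDiv_add_weierstrassMod (q j) hfres
  let c : Fin (f.map (IsLocalRing.residue O)).order.toNat → O⟦X⟧ :=
    fun i => PowerSeries.mk fun j => (q j %ʷ f).coeff i
  -- iterated shifts
  let cN : ℕ → Fin (f.map (IsLocalRing.residue O)).order.toNat → O⟦X⟧ :=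
    fun N i => PowerSeries.mk fun j => (q (j + N) %ʷ f).coeff i
  have hcN0 : cN 0 = c := rfl
  have hcNs : ∀ N, (fun i => sh (cN N i)) = cN (N + 1) := by
    intro N
    funext i
    ext j
    simp only [cN, coeff_sh, coeff_mk]
    rw [show j + 1 + N = j + (N + 1) by omega]
  have hD : ∀ N, T f _ (cN N) - q N = f * (T f _ (cN (N + 1)) - q (N + 1)) := by
    intro N
    rw [T_decomp _ hf0 (cN N), hcNs N]
    have h1 : (∑ i : Fin (f.map (IsLocalRing.residue O)).order.toNat,
        C (constantCoeff (cN N i)) * X ^ (i : ℕ)) = ((q N %ʷ f : Polynomial O) : O⟦X⟧) := by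
      rw [← coe_polyOf]
      congr 1
      have : (fun i : Fin (f.map (IsLocalRing.residue O)).order.toNat =>
          constantCoeff (cN N i)) = fun i : Fin (f.map (IsLocalRing.residue O)).order.toNat =>
            (q N %ʷ f).coeff (i : ℕ) := by
        funext i
        simp [cN, ← coeff_zero_eq_constantCoeff_apply]
      rw [this]
      exact polyOf_coeff _ _ (degree_weierstrassMod_lt (q N) f)
    rw [h1]
    linear_combination (-1 : O⟦X⟧) * hq N
  have hDN : ∀ N, T f _ c - g = f ^ N * (T f _ (cN N) - q N) := by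
    intro N
    induction N with
    | zero => simp [hcN0, q]
    | succ N ih => rw [ih, hD N, pow_succ, mul_assoc]
  refine ⟨c, ?_⟩
  rw [← sub_eq_zero]
  ext m
  have hXf : (X : O⟦X⟧) ∣ f := X_dvd_iff.mpr hf0
  have hdvd : (X : O⟦X⟧) ^ (m + 1) ∣ T f _ c - g := by
    rw [hDN (m + 1)]
    exact Dvd.dvd.mul_right (pow_dvd_pow_of_dvd hXf _) _
  rw [X_pow_dvd_iff] at hdvd
  rw [hdvd m (Nat.lt_succ_self m), map_zero]

end main

/-- The main positive statement. -/
theorem free_of_map_ne_zero [IsLocalRing O] [IsAdicComplete (IsLocalRing.maximalIdeal O) O]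
    {f : O⟦X⟧} (hf0 : constantCoeff f = 0) (hfres : f.map (IsLocalRing.residue O) ≠ 0) :
    ∃ (n : ℕ) (b : Fin n → O⟦X⟧), ∀ g : O⟦X⟧, ∃! c : Fin n → O⟦X⟧,
      g = ∑ i, subst f (c i) * b i := by
  refine ⟨(f.map (IsLocalRing.residue O)).order.toNat, fun i => X ^ (i : ℕ), fun g => ?_⟩
  obtain ⟨c, hc⟩ := exists_T_eq hf0 hfres g
  refine ⟨c, hc.symm, fun c' hc' => ?_⟩
  have h0 : T f _ (c' - c) = 0 := by
    rw [T_sub _ hf0, hc, sub_eq_zero]
    exact hc'.symm
  funext i
  ext m
  have := T_eq_zero hf0 hfres m (c' - c) h0 i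
  rw [Pi.sub_apply, map_sub, sub_eq_zero] at this
  exact this

/-- The negative statement. -/
theorem not_free_of_map_eq_zero [IsLocalRing O]
    {f : O⟦X⟧} (hf0 : constantCoeff f = 0) (hfres : f.map (IsLocalRing.residue O) = 0)
    (n : ℕ) (b : Fin n → O⟦X⟧)
    (H : ∀ g : O⟦X⟧, ∃ c : Fin n → O⟦X⟧, g = ∑ i, subst f (c i) * b i) : False := by
  classical
  set k := IsLocalRing.ResidueField O
  set ρ : O⟦X⟧ →+* k⟦X⟧ := PowerSeries.map (IsLocalRing.residue O) with hρ
  have hρs : ∀ c : O⟦X⟧, ρ (subst f c) = C (IsLocalRing.residue O (constantCoeff c)) := by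
    intro c
    rw [subst_decomp hf0 c, map_add, map_mul, hρ, hfres, zero_mul, add_zero, PowerSeries.map_C]
  have hsurj : Function.Surjective ρ :=
    PowerSeries.map_surjective _ IsLocalRing.residue_surjective
  have hspan : Submodule.span k (Set.range (fun i => ρ (b i))) = ⊤ := by
    rw [eq_top_iff]
    intro G _
    obtain ⟨g, rfl⟩ := hsurj G
    obtain ⟨c, hc⟩ := H g
    rw [hc, map_sum]
    refine Submodule.sum_mem _ (fun i _ => ?_)
    rw [map_mul, hρs, ← PowerSeries.smul_eq_C_mul]
    exact Submodule.smul_mem _ _ (Submodule.subset_span ⟨i, rfl⟩)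
  have hfin : Module.Finite k k⟦X⟧ := by
    rw [Module.finite_def, ← hspan]
    exact Submodule.fg_span (Set.finite_range _)
  have h1 : Module.finrank k k⟦X⟧ ≤ n := by
    have := finrank_range_le_card (R := k) (fun i => ρ (b i))
    unfold Set.finrank at this
    rw [hspan, finrank_top, Fintype.card_fin] at this
    exact this
  have h2 : LinearIndependent k (fun i : Fin (n + 1) => (X : k⟦X⟧) ^ (i : ℕ)) := by
    rw [Fintype.linearIndependent_iff]
    intro a ha j
    have := congrArg (coeff (j : ℕ)) ha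
    rw [map_sum, map_zero] at this
    simp only [coeff_smul, coeff_X_pow, smul_eq_mul, mul_ite, mul_one, mul_zero] at this
    rw [Finset.sum_eq_single j] at this
    · simpa using this
    · intro i _ hij
      rw [if_neg]
      exact fun h' => hij (Fin.ext h'.symm)
    · simp
  have h3 := h2.fintype_card_le_finrank
  rw [Fintype.card_fin] at h3
  omega

end Groth.Agent.Lib.Helper20.WeierFree
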