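import Groth.Agent.Lib.Helper20.WronskScale

/-! Minimality of the order sequence among index sequences with nonzero Wronskian. -/

namespace Groth.Agent.Lib.Helper20.WronskOrders

open FunFld Groth.Agent.Lib.Helper20.WronskScale

variable {k K : Type*} [Field k] [Field K] [Algebra k K]

theorem idx_succ {n : ℕ} (J : Fin n → ℕ) (l : Fin n) : idx J (Fin.succ l) = J l + 1 := rfl

theorem hc_of_isOrders {n : ℕ} (φ : Fin (n + 1) → K) (τ : K →ₐ[k] K) (H : K →ₐ[k] PowerSeries K)
    (J : Fin n → ℕ) (hJ : IsOrders K (hcol τ H φ) J) :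
    ∀ j, j ∉ Set.range (idx J) →
      hcol τ H φ j ∈ Submodule.span K (hcol τ H φ '' Set.Iio j) := by
  intro j hj
  cases j with
  | zero => exact absurd ⟨0, rfl⟩ hj
  | succ j =>
    by_contra hcon
    have h1 : IsJump K (hcol τ H φ) (j + 1) := hcon
    obtain ⟨l, hl⟩ := (hJ.2 j).mpr h1
    apply hj
    exact ⟨Fin.succ l, by simp [idx, hl]⟩

theorem orders_le {n : ℕ} (φ : Fin (n + 1) → K) (τ : K →ₐ[k] K) (H : K →ₐ[k] PowerSeries K)
    (J : Fin n → ℕ) (hJ : IsOrders K (hcol τ H φ) J)
    (J' : Fin n → ℕ) (hJ' : StrictMono J') (hdet : (wrMat τ H φ J').det ≠ 0) :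
    ∀ l, J l ≤ J' l := by
  intro l
  by_contra hlt
  push_neg at hlt
  have hidx := idx_strictMono J hJ.1
  have hidx' := idx_strictMono J' hJ'
  have hc := hc_of_isOrders φ τ H J hJ
  have hli : LinearIndependent K (fun col => hcol τ H φ (idx J' col)) := by
    have h1 := Matrix.linearIndependent_cols_of_det_ne_zero hdet
    have e : (wrMat τ H φ J').col = fun col => hcol τ H φ (idx J' col) := by
      funext col i
      exact wrMat_eq τ H φ J' i col
    rw [e] at h1
    exact h1
  -- the first l+2 columns
  have hli2 : LinearIndependent K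
      (fun col : Set.Iic (Fin.succ l) => hcol τ H φ (idx J' col.1)) :=
    hli.comp _ Subtype.val_injective
  have hcard := finrank_span_eq_card hli2
  set N := J' l + 2 with hN
  have hsub : Submodule.span K (Set.range
      (fun col : Set.Iic (Fin.succ l) => hcol τ H φ (idx J' col.1))) ≤
      Submodule.span K (((fun col => hcol τ H φ (idx J col)) '' (Set.Iio (Fin.succ l)))) := by
    have h2 : Submodule.span K (hcol τ H φ '' Set.Iio N) ≤
        Submodule.span K (((fun col => hcol τ H φ (idx J col)) '' (Set.Iio (Fin.succ l)))) := by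
      rw [span_sub (hcol τ H φ) (idx J) hidx hc N]
      apply Submodule.span_mono
      apply Set.image_mono
      intro col hcol
      simp only [Set.mem_setOf_eq] at hcol
      simp only [Set.mem_Iio]
      by_contra hge
      push_neg at hge
      have h3 := hidx.monotone hge
      rw [idx_succ] at h3
      omega
    refine le_trans ?_ h2
    apply Submodule.span_le.mpr
    rintro _ ⟨col, rfl⟩
    apply Submodule.subset_span
    refine ⟨idx J' col.1, ?_, rfl⟩
    simp only [Set.mem_Iio]
    have h4 := hidx'.monotone (Set.mem_Iic.mp col.2)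
    rw [idx_succ] at h4
    omega
  have h5 := Submodule.finrank_mono hsub
  have h6 : Module.finrank K (Submodule.span K
      (((fun col => hcol τ H φ (idx J col)) '' (Set.Iio (Fin.succ l))))) ≤ l.1 + 1 := by
    classical
    have e : ((fun col => hcol τ H φ (idx J col)) '' (Set.Iio (Fin.succ l))) =
        (((Finset.Iio (Fin.succ l)).image (fun col => hcol τ H φ (idx J col)) :
          Finset (Fin (n + 1) → K)) : Set (Fin (n + 1) → K)) := by
      simp
    rw [e]
    refine le_trans (finrank_span_finset_le_card _) ?_
    refine le_trans Finset.card_image_le ?_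
    simp
  rw [hcard] at h5
  have h7 : Fintype.card (Set.Iic (Fin.succ l)) = l.1 + 2 := by
    simp
  omega

end Groth.Agent.Lib.Helper20.WronskOrders
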