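import Groth.Prelude.Def_W4bk4goldsch45p2
import Mathlib

/-! Scaling a projective map by a nonzero function: order sequences are unchanged and the
Wronskian is multiplied by `τ y * y ^ n`. -/

namespace Groth.Agent.Lib.Helper20.WronskScale

open FunFld

section abstract

variable {K M : Type*} [Field K] [AddCommGroup M] [Module K M]

/-- triangular relation between two sequences of vectors -/
structure Tri (c c' : ℕ → M) (a : ℕ → K) : Prop where
  ne : ∀ j, a j ≠ 0
  rel : ∀ j, c' j - a j • c j ∈ Submodule.span K (c '' Set.Iio j)

theorem Iio_succ' (j : ℕ) : Set.Iio (j + 1) = insert j (Set.Iio j) := by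
  ext x
  simp only [Set.mem_Iio, Set.mem_insert_iff]
  omega

theorem dec1 (c c' : ℕ → M) (a : ℕ → K) (j : ℕ) :
    c' j = a j • c j + (c' j - a j • c j) := by abel

theorem dec2 (c c' : ℕ → M) (a : ℕ → K) (h : Tri c c' a) (j : ℕ) :
    c j = (a j)⁻¹ • c' j - (a j)⁻¹ • (c' j - a j • c j) := by
  rw [smul_sub, smul_smul, inv_mul_cancel₀ (h.ne j), one_smul]; abel

theorem span_eq (c c' : ℕ → M) (a : ℕ → K) (h : Tri c c' a) (j : ℕ) :
    Submodule.span K (c' '' Set.Iio j) = Submodule.span K (c '' Set.Iio j) := by
  induction j with
  | zero => simp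
  | succ j ih =>
    rw [Iio_succ', Set.image_insert_eq, Set.image_insert_eq, Submodule.span_insert,
      Submodule.span_insert, ih]
    apply le_antisymm
    · apply sup_le _ le_sup_right
      rw [Submodule.span_singleton_le_iff_mem, dec1 c c' a j]
      exact Submodule.add_mem _
        (Submodule.mem_sup_left (Submodule.smul_mem _ _ (Submodule.mem_span_singleton_self _)))
        (Submodule.mem_sup_right (h.rel j))
    · apply sup_le _ le_sup_right
      rw [Submodule.span_singleton_le_iff_mem]
      have e := dec2 c c' a h j
      rw [e]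
      exact Submodule.sub_mem _
        (Submodule.mem_sup_left (Submodule.smul_mem _ _ (Submodule.mem_span_singleton_self _)))
        (Submodule.mem_sup_right (Submodule.smul_mem _ _ (h.rel j)))

theorem isJump_iff (c c' : ℕ → M) (a : ℕ → K) (h : Tri c c' a) (j : ℕ) :
    IsJump K c' j ↔ IsJump K c j := by
  unfold IsJump
  rw [span_eq c c' a h j]
  have h1 := h.rel j
  constructor
  · intro h2 h3
    apply h2
    rw [dec1 c c' a j]
    exact Submodule.add_mem _ (Submodule.smul_mem _ _ h3) h1
  · intro h2 h3
    apply h2
    have e := dec2 c c' a h j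
    rw [e]
    exact Submodule.sub_mem _ (Submodule.smul_mem _ _ h3) (Submodule.smul_mem _ _ h1)

theorem isOrders_iff (c c' : ℕ → M) (a : ℕ → K) (h : Tri c c' a) {n : ℕ} (J : Fin n → ℕ) :
    IsOrders K c' J ↔ IsOrders K c J := by
  unfold IsOrders
  simp only [isJump_iff c c' a h]

theorem span_sub (c : ℕ → M) {m : ℕ} (idx : Fin m → ℕ) (hidx : StrictMono idx)
    (hc : ∀ j, j ∉ Set.range idx → c j ∈ Submodule.span K (c '' Set.Iio j)) (j : ℕ) :
    Submodule.span K (c '' Set.Iio j) =
      Submodule.span K ((fun col => c (idx col)) '' {col | idx col < j}) := by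
  induction j with
  | zero => simp
  | succ j ih =>
    rw [Iio_succ', Set.image_insert_eq, Submodule.span_insert, ih]
    by_cases hj : j ∈ Set.range idx
    · obtain ⟨col₀, rfl⟩ := hj
      have : {col | idx col < idx col₀ + 1} = insert col₀ {col | idx col < idx col₀} := by
        ext x
        simp only [Set.mem_setOf_eq, Set.mem_insert_iff]
        constructor
        · intro hx
          rcases Nat.lt_succ_iff_lt_or_eq.mp hx with h | h
          · right; exact h
          · left; exact hidx.injective h
        · rintro (rfl | h) <;> omega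
      rw [this, Set.image_insert_eq, Submodule.span_insert]
    · have : {col | idx col < j + 1} = {col | idx col < j} := by
        ext x
        simp only [Set.mem_setOf_eq]
        constructor
        · intro hx
          rcases Nat.lt_succ_iff_lt_or_eq.mp hx with h | h
          · exact h
          · exact absurd ⟨x, h⟩ hj
        · intro; omega
      rw [this]
      have h2 := hc j hj
      rw [ih] at h2
      rw [sup_eq_right, Submodule.span_singleton_le_iff_mem]
      exact h2

theorem det_tri {m : ℕ} (A A' : Matrix (Fin m) (Fin m) K) (a : Fin m → K)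
    (h : ∀ col, (fun i => A' i col) - a col • (fun i => A i col) ∈
      Submodule.span K ((fun col' i => A i col') '' Set.Iio col)) :
    A'.det = (∏ col, a col) * A.det := by
  have h' : ∀ col, ∃ l ∈ Finsupp.supported K K (Set.Iio col),
      Finsupp.linearCombination K (fun col' i => A i col') l =
        (fun i => A' i col) - a col • (fun i => A i col) := by
    intro col
    exact (Finsupp.mem_span_image_iff_linearCombination K).mp (h col)
  choose u hu1 hu2 using h'
  let U : Matrix (Fin m) (Fin m) K :=
    Matrix.of fun col' col => (if col' = col then a col else 0) + u col col'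
  have hU : A' = A * U := by
    ext i col
    rw [Matrix.mul_apply]
    have h3 := congrFun (hu2 col) i
    rw [Finsupp.linearCombination_apply, Finsupp.sum_fintype _ _ (by simp)] at h3
    simp only [Finset.sum_apply, Pi.smul_apply, Pi.sub_apply, smul_eq_mul] at h3
    simp only [U, Matrix.of_apply, mul_add, Finset.sum_add_distrib, mul_ite, mul_zero,
      Finset.sum_ite_eq', Finset.mem_univ, if_true]
    have e : ∑ x, A i x * u col x = ∑ x, u col x * A i x :=
      Finset.sum_congr rfl (fun _ _ => mul_comm _ _)
    rw [e, h3]; ring
  have hT : U.BlockTriangular id := by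
    intro col' col hlt
    simp only [id] at hlt
    simp only [U, Matrix.of_apply]
    rw [if_neg (ne_of_gt hlt), zero_add]
    have h4 := hu1 col
    rw [Finsupp.mem_supported'] at h4
    exact h4 col' (by simp [hlt.le])
  rw [hU, Matrix.det_mul, Matrix.det_of_upperTriangular hT, mul_comm]
  congr 1
  apply Finset.prod_congr rfl
  intro col _
  simp only [U, Matrix.of_apply, if_true]
  have h4 := hu1 col
  rw [Finsupp.mem_supported'] at h4
  rw [h4 col (by simp), add_zero]

end abstract

section concrete

variable {k K : Type*} [Field k] [Field K] [Algebra k K]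

theorem hcol_tri {ι : Type*} (τ : K →ₐ[k] K) (H : K →ₐ[k] PowerSeries K) (φ : ι → K) (y : K)
    (hy : y ≠ 0) (hH : ∀ z : K, PowerSeries.constantCoeff (H z) = z) :
    Tri (hcol τ H φ) (hcol τ H (y • φ)) (fun j => if j = 0 then τ y else y) := by
  constructor
  · intro j
    show (if j = 0 then τ y else y) ≠ 0
    split_ifs
    · exact (map_ne_zero τ).mpr hy
    · exact hy
  · intro j
    cases j with
    | zero =>
      have e : hcol τ H (y • φ) 0 - (τ y) • hcol τ H φ 0 = 0 := by
        ext i; simp [hcol]
      simp only [if_true]
      rw [e]; exact Submodule.zero_mem _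
    | succ j =>
      have e : hcol τ H (y • φ) (j+1) - y • hcol τ H φ (j+1) =
          ∑ b ∈ Finset.range j, LocRes.hasseD H (j - b) y • hcol τ H φ (b+1) := by
        ext i
        simp only [hcol, Pi.sub_apply, Pi.smul_apply, smul_eq_mul, Finset.sum_apply,
          LocRes.hasseD_apply, map_mul]
        rw [mul_comm (H y) (H (φ i)), PowerSeries.coeff_mul,
          Finset.Nat.sum_antidiagonal_eq_sum_range_succ
            (fun a b => PowerSeries.coeff a (H (φ i)) * PowerSeries.coeff b (H y)),
          Finset.sum_range_succ, Nat.sub_self, PowerSeries.coeff_zero_eq_constantCoeff_apply, hH y]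
        rw [mul_comm (PowerSeries.coeff j (H (φ i))) y, add_sub_cancel_right]
        exact Finset.sum_congr rfl (fun _ _ => mul_comm _ _)
      simp only [Nat.succ_ne_zero, if_false]
      rw [e]
      apply Submodule.sum_mem
      intro b hb
      apply Submodule.smul_mem
      apply Submodule.subset_span
      refine ⟨b + 1, ?_, rfl⟩
      simp only [Set.mem_Iio]
      have := Finset.mem_range.mp hb
      omega

/-- the column index function of `wrMat` -/
def idx {n : ℕ} (J : Fin n → ℕ) : Fin (n + 1) → ℕ :=
  Fin.cases 0 (fun l => J l + 1)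

theorem idx_strictMono {n : ℕ} (J : Fin n → ℕ) (hJ : StrictMono J) : StrictMono (idx J) := by
  intro a b hab
  induction a using Fin.cases with
  | zero =>
    induction b using Fin.cases with
    | zero => exact absurd hab (lt_irrefl _)
    | succ b => simp [idx]
  | succ a =>
    induction b using Fin.cases with
    | zero => exact absurd hab (by simp)
    | succ b =>
      simp only [idx, Fin.cases_succ]
      have := hJ (Fin.succ_lt_succ_iff.mp hab)
      omega

theorem wrMat_eq {n : ℕ} (τ : K →ₐ[k] K) (H : K →ₐ[k] PowerSeries K)
    (φ : Fin (n + 1) → K) (J : Fin n → ℕ) (i col : Fin (n + 1)) :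
    wrMat τ H φ J i col = hcol τ H φ (idx J col) i := by
  induction col using Fin.cases with
  | zero => rfl
  | succ l => rfl

theorem main {n : ℕ} (φ : Fin (n + 1) → K)
    (τ : K →ₐ[k] K) (H : K →ₐ[k] PowerSeries K)
    (hH : ∀ z : K, PowerSeries.constantCoeff (H z) = z) (y : K) (hy : y ≠ 0) :
    (∀ J : Fin n → ℕ, IsOrders K (hcol τ H (y • φ)) J ↔ IsOrders K (hcol τ H φ) J) ∧
    ∀ J : Fin n → ℕ, IsOrders K (hcol τ H φ) J →
      (wrMat τ H (y • φ) J).det = τ y * y ^ n * (wrMat τ H φ J).det := by
  have hT := hcol_tri τ H φ y hy hH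
  refine ⟨fun J => isOrders_iff _ _ _ hT J, ?_⟩
  intro J hJ
  have hidx := idx_strictMono J hJ.1
  have hc : ∀ j, j ∉ Set.range (idx J) →
      hcol τ H φ j ∈ Submodule.span K (hcol τ H φ '' Set.Iio j) := by
    intro j hj
    cases j with
    | zero => exact absurd ⟨0, rfl⟩ hj
    | succ j =>
      by_contra hcon
      have h1 : IsJump K (hcol τ H φ) (j + 1) := hcon
      obtain ⟨l, hl⟩ := (hJ.2 j).mpr h1
      apply hj
      exact ⟨Fin.succ l, by simp [idx, hl]⟩
  have key := det_tri (wrMat τ H φ J) (wrMat τ H (y • φ) J)
    (fun col => if idx J col = 0 then τ y else y) ?_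
  · rw [key]
    congr 1
    rw [Fin.prod_univ_succ]
    simp [idx]
  · intro col
    have h1 := hT.rel (idx J col)
    rw [span_sub (hcol τ H φ) (idx J) hidx hc (idx J col)] at h1
    have e1 : {col' | idx J col' < idx J col} = Set.Iio col := by
      ext x
      simp only [Set.mem_setOf_eq, Set.mem_Iio]
      exact hidx.lt_iff_lt
    rw [e1] at h1
    have e2 : (fun col' i => wrMat τ H φ J i col') = fun col' => hcol τ H φ (idx J col') := by
      funext col' i
      exact wrMat_eq τ H φ J i col'
    have e3 : ((fun i => wrMat τ H (y • φ) J i col) -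
        (if idx J col = 0 then τ y else y) • fun i => wrMat τ H φ J i col) =
        hcol τ H (y • φ) (idx J col) - (if idx J col = 0 then τ y else y) • hcol τ H φ (idx J col) := by
      funext i
      simp only [Pi.sub_apply, Pi.smul_apply, wrMat_eq]
    rw [e2, e3]
    exact h1

end concrete

end Groth.Agent.Lib.Helper20.WronskScale
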